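import Mathlib
import Groth.Prelude.Def_CAlg
import Groth.Agent.S18724

/-!
# Depth theory, part 1 (helper26): `LocCoh.idealDepth` and `Ext` (Rees)

Basic API for the prelude's `LocCoh.idealDepth I M` / `LocCoh.depth R M`, and the uniform
characterization (for `R` Noetherian, `M` finite, ANY ideal `I`):
`n ≤ idealDepth I M ↔ ∀ i < n, Ext^i(R/I, M) = 0`.
-/

set_option autoImplicit false
universe u

open CategoryTheory Abelian RingTheory.Sequence LocCoh

namespace Groth.Agent.Lib.helper26.Depth

section basic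

variable {R : Type u} [CommRing R] (I : Ideal R) (M : Type u) [AddCommGroup M] [Module R M]

lemma idealDepth_eq_top_of_smul_top_eq_top (h : I • (⊤ : Submodule R M) = ⊤) :
    idealDepth I M = ⊤ := by
  unfold idealDepth
  rw [if_pos h]

lemma idealDepth_eq_iSup (h : I • (⊤ : Submodule R M) ≠ ⊤) :
    idealDepth I M = ⨆ (rs : List R) (_ : IsWeaklyRegular M rs ∧ ∀ r ∈ rs, r ∈ I),
      (rs.length : ℕ∞) := by
  unfold idealDepth
  rw [if_neg h]

variable {I M}

lemma length_le_idealDepth {rs : List R} (hreg : IsWeaklyRegular M rs) (hmem : ∀ r ∈ rs, r ∈ I) :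
    (rs.length : ℕ∞) ≤ idealDepth I M := by
  by_cases h : I • (⊤ : Submodule R M) = ⊤
  · rw [idealDepth_eq_top_of_smul_top_eq_top I M h]
    exact le_top
  · rw [idealDepth_eq_iSup I M h]
    exact le_iSup₂_of_le rs ⟨hreg, hmem⟩ le_rfl

lemma isWeaklyRegular_take {rs : List R} (hreg : IsWeaklyRegular M rs) (n : ℕ) :
    IsWeaklyRegular M (rs.take n) := by
  have h := hreg
  rw [← List.take_append_drop n rs, isWeaklyRegular_append_iff] at h
  exact h.1

lemma exists_isWeaklyRegular_of_le (h : I • (⊤ : Submodule R M) ≠ ⊤) {n : ℕ}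
    (hn : (n : ℕ∞) ≤ idealDepth I M) :
    ∃ rs : List R, rs.length = n ∧ (∀ r ∈ rs, r ∈ I) ∧ IsWeaklyRegular M rs := by
  cases n with
  | zero => exact ⟨[], rfl, by simp, IsWeaklyRegular.nil R M⟩
  | succ k =>
    rw [idealDepth_eq_iSup I M h] at hn
    have hlt : (k : ℕ∞) < ⨆ (rs : List R) (_ : IsWeaklyRegular M rs ∧ ∀ r ∈ rs, r ∈ I),
        (rs.length : ℕ∞) := by
      refine lt_of_lt_of_le ?_ hn
      exact_mod_cast Nat.lt_succ_self k
    obtain ⟨rs, hrs⟩ := lt_iSup_iff.mp hlt
    obtain ⟨hP, hlen⟩ := lt_iSup_iff.mp hrs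
    have hlen' : k < rs.length := by exact_mod_cast hlen
    refine ⟨rs.take (k + 1), ?_, ?_, isWeaklyRegular_take hP.1 _⟩
    · rw [List.length_take]
      omega
    · intro r hr
      exact hP.2 r (List.mem_of_mem_take hr)

lemma le_idealDepth_iff (h : I • (⊤ : Submodule R M) ≠ ⊤) (n : ℕ) :
    (n : ℕ∞) ≤ idealDepth I M ↔
      ∃ rs : List R, rs.length = n ∧ (∀ r ∈ rs, r ∈ I) ∧ IsWeaklyRegular M rs := by
  constructor
  · exact exists_isWeaklyRegular_of_le h
  · rintro ⟨rs, rfl, hmem, hreg⟩
    exact length_le_idealDepth hreg hmem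

lemma isRegular_of_mem (h : I • (⊤ : Submodule R M) ≠ ⊤) {rs : List R}
    (hreg : IsWeaklyRegular M rs) (hmem : ∀ r ∈ rs, r ∈ I) : IsRegular M rs := by
  refine ⟨hreg, fun htop => h ?_⟩
  have hle : Ideal.ofList rs ≤ I := by
    rw [Ideal.ofList, Ideal.span_le]
    exact fun r hr => hmem r hr
  exact eq_top_iff.mpr (htop.le.trans (Submodule.smul_mono_left hle))

lemma smul_top_eq_top_congr {N : Type u} [AddCommGroup N] [Module R N] (e : M ≃ₗ[R] N) :
    I • (⊤ : Submodule R M) = ⊤ ↔ I • (⊤ : Submodule R N) = ⊤ := by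
  constructor
  · intro h
    have := congrArg (Submodule.map e.toLinearMap) h
    rwa [Submodule.map_smul'', Submodule.map_top, LinearMap.range_eq_top.mpr e.surjective] at this
  · intro h
    have := congrArg (Submodule.map e.symm.toLinearMap) h
    rwa [Submodule.map_smul'', Submodule.map_top,
      LinearMap.range_eq_top.mpr e.symm.surjective] at this

lemma idealDepth_congr {N : Type u} [AddCommGroup N] [Module R N] (e : M ≃ₗ[R] N) :
    idealDepth I M = idealDepth I N := by
  by_cases h : I • (⊤ : Submodule R M) = ⊤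
  · rw [idealDepth_eq_top_of_smul_top_eq_top I M h,
      idealDepth_eq_top_of_smul_top_eq_top I N ((smul_top_eq_top_congr e).mp h)]
  · have h' : I • (⊤ : Submodule R N) ≠ ⊤ := fun h' => h ((smul_top_eq_top_congr e).mpr h')
    rw [idealDepth_eq_iSup I M h, idealDepth_eq_iSup I N h']
    refine iSup_congr fun rs => ?_
    have : (IsWeaklyRegular M rs ∧ ∀ r ∈ rs, r ∈ I) ↔ (IsWeaklyRegular N rs ∧ ∀ r ∈ rs, r ∈ I) := by
      rw [e.isWeaklyRegular_congr rs]
    simp only [this]

end basic


section annih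

variable {R : Type u} [CommRing R]

lemma smul_id_eq_zero {N : ModuleCat.{u} R} {r : R} (h : r ∈ Module.annihilator R N) :
    r • 𝟙 N = 0 := by
  simp [← ModuleCat.lsmul_eq_smul_id, Module.mem_annihilator_iff_lsmul_eq_zero.mp h]

lemma smul_ext_eq_zero_of_mem_annihilator_left {N M : ModuleCat.{u} R} {r : R}
    (h : r ∈ Module.annihilator R N) {i : ℕ} (x : Ext N M i) : r • x = 0 := by
  have h1 : r • x = (Ext.mk₀ (r • 𝟙 N)).comp x (zero_add i) := by simp [Ext.mk₀_smul]
  rw [h1, smul_id_eq_zero h]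
  simp

lemma smul_ext_eq_zero_of_mem_annihilator_right {N M : ModuleCat.{u} R} {r : R}
    (h : r ∈ Module.annihilator R M) {i : ℕ} (x : Ext N M i) : r • x = 0 := by
  rw [Ext.smul_eq_comp_mk₀, smul_id_eq_zero h]
  simp

/-- If some `s` kills `N` and `1 - s` kills `M` then all `Ext^i(N, M)` vanish. -/
lemma subsingleton_ext_of_annihilators {N M : ModuleCat.{u} R} (s : R)
    (hs : s ∈ Module.annihilator R N) (hs' : 1 - s ∈ Module.annihilator R M) (i : ℕ) :
    Subsingleton (Ext N M i) := by
  refine ⟨fun x y => ?_⟩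
  have key : ∀ z : Ext N M i, z = 0 := by
    intro z
    have h1 : z = s • z + (1 - s) • z := by
      rw [← add_smul]
      simp
    rw [h1, smul_ext_eq_zero_of_mem_annihilator_left hs,
      smul_ext_eq_zero_of_mem_annihilator_right hs', add_zero]
  rw [key x, key y]

end annih

section rees

variable {R : Type u} [CommRing R] (I : Ideal R) (M : Type u) [AddCommGroup M] [Module R M]
  [Module.Finite R M]

/-- If `IM = M` then `Ext^i(N, M) = 0` for all finite `N` supported in `V(I)`. -/
theorem subsingleton_ext_of_smul_top_eq_top (h : I • (⊤ : Submodule R M) = ⊤)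
    (N : ModuleCat.{u} R) [Module.Finite R N]
    (hN : Module.support R N ⊆ PrimeSpectrum.zeroLocus I) (i : ℕ) :
    Subsingleton (Ext N (ModuleCat.of R M) i) := by
  obtain ⟨r, hr1, hr0⟩ := Submodule.exists_sub_one_mem_and_smul_eq_zero_of_fg_of_le_smul I
    (⊤ : Submodule R M) Module.Finite.fg_top (le_of_eq h.symm)
  have hle := hN
  rw [Module.support_eq_zeroLocus, PrimeSpectrum.zeroLocus_subset_zeroLocus_iff] at hle
  have h1r : 1 - r ∈ I := by
    have : 1 - r = -(r - 1) := by ring
    rw [this]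
    exact I.neg_mem hr1
  obtain ⟨k, hk⟩ := hle h1r
  have hk' : (1 - r) ^ k ∈ Module.annihilator R N := by simpa using hk
  refine subsingleton_ext_of_annihilators ((1 - r) ^ k) hk' ?_ i
  have hrann : r ∈ Module.annihilator R (ModuleCat.of R M) := by
    rw [Module.mem_annihilator]
    intro m
    exact hr0 m Submodule.mem_top
  have hdvd : r ∣ 1 - (1 - r) ^ k := by
    have := sub_dvd_pow_sub_pow (1 : R) (1 - r) k
    simpa using this
  obtain ⟨c, hc⟩ := hdvd
  rw [hc]
  exact Ideal.mul_mem_right c _ hrann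

variable [IsNoetherianRing R]

/-- Rees: `Ext^i(N, M) = 0` for `i < depth_I M` whenever `N` is finite with `Supp N ⊆ V(I)`. -/
theorem subsingleton_ext_of_lt_idealDepth (N : ModuleCat.{u} R) [Module.Finite R N]
    (hN : Module.support R N ⊆ PrimeSpectrum.zeroLocus I) (i : ℕ)
    (hi : (i : ℕ∞) < idealDepth I M) : Subsingleton (Ext N (ModuleCat.of R M) i) := by
  by_cases h : I • (⊤ : Submodule R M) = ⊤
  · exact subsingleton_ext_of_smul_top_eq_top I M h N hN i
  · have hle : ((i + 1 : ℕ) : ℕ∞) ≤ idealDepth I M := by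
      have := Order.add_one_le_of_lt hi
      exact_mod_cast this
    obtain ⟨rs, hlen, hmem, hreg⟩ := exists_isWeaklyRegular_of_le h hle
    have hsmul : I • (⊤ : Submodule R (ModuleCat.of R M)) < ⊤ := lt_top_iff_ne_top.mpr h
    exact ModuleCat.subsingleton_ext_of_exists_isRegular I N hN (ModuleCat.of R M)
      hsmul rs hmem (isRegular_of_mem h hreg hmem) i (by omega)

/-- Rees, uniform version: for `N` finite with `Supp N = V(I)`,
`n ≤ depth_I M ↔ Ext^i(N, M) = 0` for all `i < n` (any ideal `I`, with `depth = ⊤` if `IM = M`). -/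
theorem le_idealDepth_iff_ext_of_support_eq (N : ModuleCat.{u} R) [Module.Finite R N]
    (hN : Module.support R N = PrimeSpectrum.zeroLocus I) (n : ℕ) :
    (n : ℕ∞) ≤ idealDepth I M ↔ ∀ i < n, Subsingleton (Ext N (ModuleCat.of R M) i) := by
  constructor
  · intro hn i hi
    refine subsingleton_ext_of_lt_idealDepth I M N hN.subset i (lt_of_lt_of_le ?_ hn)
    exact_mod_cast hi
  · intro hext
    by_cases h : I • (⊤ : Submodule R M) = ⊤
    · rw [idealDepth_eq_top_of_smul_top_eq_top I M h]
      exact le_top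
    · have hsmul : I • (⊤ : Submodule R (ModuleCat.of R M)) < ⊤ := lt_top_iff_ne_top.mpr h
      obtain ⟨rs, hlen, hmem, hreg⟩ := ModuleCat.exists_isRegular_of_exists_subsingleton_ext I n
        (ModuleCat.of R M) hsmul N hN hext
      rw [← hlen]
      exact length_le_idealDepth hreg.1 hmem

omit [IsNoetherianRing R] in
lemma support_quotient_ideal : Module.support R (R ⧸ I) = PrimeSpectrum.zeroLocus I := by
  rw [Module.support_eq_zeroLocus, Ideal.annihilator_quotient]

/-- `n ≤ depth_I M ↔ Ext^i(R/I, M) = 0` for all `i < n`. -/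
theorem le_idealDepth_iff_ext (n : ℕ) :
    (n : ℕ∞) ≤ idealDepth I M ↔
      ∀ i < n, Subsingleton (Ext (ModuleCat.of R (R ⧸ I)) (ModuleCat.of R M) i) :=
  le_idealDepth_iff_ext_of_support_eq I M (ModuleCat.of R (R ⧸ I)) (support_quotient_ideal I) n

/-- the depth is characterized as the least index with nonvanishing `Ext^n(N, M)`. -/
theorem idealDepth_eq_iff_ext_of_support_eq (N : ModuleCat.{u} R) [Module.Finite R N]
    (hN : Module.support R N = PrimeSpectrum.zeroLocus I) (n : ℕ) :
    idealDepth I M = n ↔ (∀ i < n, Subsingleton (Ext N (ModuleCat.of R M) i)) ∧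
      Nontrivial (Ext N (ModuleCat.of R M) n) := by
  constructor
  · intro h
    refine ⟨(le_idealDepth_iff_ext_of_support_eq I M N hN n).mp h.ge, ?_⟩
    by_contra hnt
    rw [not_nontrivial_iff_subsingleton] at hnt
    have : ((n + 1 : ℕ) : ℕ∞) ≤ idealDepth I M := by
      rw [le_idealDepth_iff_ext_of_support_eq I M N hN]
      intro i hi
      rcases Nat.lt_succ_iff_lt_or_eq.mp hi with h' | rfl
      · exact (le_idealDepth_iff_ext_of_support_eq I M N hN n).mp h.ge i h'
      · exact hnt
    rw [h] at this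
    have : n + 1 ≤ n := by exact_mod_cast this
    omega
  · rintro ⟨h1, h2⟩
    refine le_antisymm ?_ ((le_idealDepth_iff_ext_of_support_eq I M N hN n).mpr h1)
    by_contra hlt
    rw [not_le] at hlt
    have := subsingleton_ext_of_lt_idealDepth I M N hN.subset n hlt
    exact not_subsingleton _ this

theorem idealDepth_eq_iff_ext (n : ℕ) :
    idealDepth I M = n ↔
      (∀ i < n, Subsingleton (Ext (ModuleCat.of R (R ⧸ I)) (ModuleCat.of R M) i)) ∧
      Nontrivial (Ext (ModuleCat.of R (R ⧸ I)) (ModuleCat.of R M) n) :=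
  idealDepth_eq_iff_ext_of_support_eq I M (ModuleCat.of R (R ⧸ I)) (support_quotient_ideal I) n

/-- For `IM ≠ M` (`M` finite over Noetherian `R`) the depth is finite. -/
theorem idealDepth_ne_top (hIM : I • (⊤ : Submodule R M) ≠ ⊤) : idealDepth I M ≠ ⊤ := by
  have hnt : Nontrivial (M ⧸ (I • ⊤ : Submodule R M)) :=
    Submodule.Quotient.nontrivial_iff.mpr hIM
  have hne : (Module.support R (M ⧸ (I • ⊤ : Submodule R M))).Nonempty := by
    rw [Set.nonempty_iff_ne_empty, Ne, Module.support_eq_empty_iff]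
    exact not_subsingleton _
  obtain ⟨p, hp⟩ := hne
  rw [Module.support_quotient] at hp
  have hle := Groth.Agent.S18724.result R M I p hp.2 hp.1
  have hlt : Module.supportDim (Localization.AtPrime p.asIdeal)
      (LocalizedModule p.asIdeal.primeCompl M) < ⊤ :=
    lt_of_le_of_lt (Module.supportDim_le_ringKrullDim _ _) ringKrullDim_lt_top
  intro htop
  rw [htop] at hle
  exact absurd (lt_of_le_of_lt hle hlt) (lt_irrefl _)

end rees

end Groth.Agent.Lib.helper26.Depth
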