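import Mathlib
import Groth.Agent.Lib.Helper26.Depth1

/-!
# Depth theory, part 2 (helper26): depth lemma, quotient by a regular element
-/

set_option autoImplicit false
universe u

open CategoryTheory Abelian RingTheory.Sequence LocCoh

namespace Groth.Agent.Lib.helper26.Depth

section les

variable {R : Type u} [CommRing R] {S : ShortComplex (ModuleCat.{u} R)} (hS : S.ShortExact)
  (X : ModuleCat.{u} R)

include hS in
lemma subsingleton_ext_X₂ (n : ℕ) (h1 : Subsingleton (Ext X S.X₁ n))
    (h3 : Subsingleton (Ext X S.X₃ n)) : Subsingleton (Ext X S.X₂ n) := by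
  refine ⟨fun a b => ?_⟩
  have key : ∀ z : Ext X S.X₂ n, z = 0 := by
    intro z
    obtain ⟨z₁, hz₁⟩ := Ext.covariant_sequence_exact₂ X hS z (Subsingleton.elim _ _)
    rw [← hz₁, Subsingleton.elim z₁ 0, Ext.zero_comp]
  rw [key a, key b]

include hS in
lemma subsingleton_ext_X₃ (n : ℕ) (h2 : Subsingleton (Ext X S.X₂ n))
    (h1 : Subsingleton (Ext X S.X₁ (n + 1))) : Subsingleton (Ext X S.X₃ n) := by
  refine ⟨fun a b => ?_⟩
  have key : ∀ z : Ext X S.X₃ n, z = 0 := by
    intro z
    obtain ⟨z₂, hz₂⟩ := Ext.covariant_sequence_exact₃ X hS z rfl (Subsingleton.elim _ _)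
    rw [← hz₂, Subsingleton.elim z₂ 0, Ext.zero_comp]
  rw [key a, key b]

include hS in
lemma subsingleton_ext_X₁_succ (n : ℕ) (h3 : Subsingleton (Ext X S.X₃ n))
    (h2 : Subsingleton (Ext X S.X₂ (n + 1))) : Subsingleton (Ext X S.X₁ (n + 1)) := by
  refine ⟨fun a b => ?_⟩
  have key : ∀ z : Ext X S.X₁ (n + 1), z = 0 := by
    intro z
    obtain ⟨z₃, hz₃⟩ := Ext.covariant_sequence_exact₁ X hS z (Subsingleton.elim _ _) rfl
    rw [← hz₃, Subsingleton.elim z₃ 0, Ext.zero_comp]
  rw [key a, key b]

include hS in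
lemma subsingleton_ext_X₁_zero (h2 : Subsingleton (Ext X S.X₂ 0)) :
    Subsingleton (Ext X S.X₁ 0) := by
  have := hS.mono_f
  exact (Ext.postcomp_mk₀_injective_of_mono X S.f).subsingleton

end les

section depthLemma

variable {R : Type u} [CommRing R] [IsNoetherianRing R] (I : Ideal R)
  {N' N N'' : Type u} [AddCommGroup N'] [Module R N'] [Module.Finite R N']
  [AddCommGroup N] [Module R N] [Module.Finite R N]
  [AddCommGroup N''] [Module R N''] [Module.Finite R N'']
  (f : N' →ₗ[R] N) (g : N →ₗ[R] N'') (hf : Function.Injective f) (hg : Function.Surjective g)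
  (hfg : Function.Exact f g)

include hf hg hfg

/-- depth lemma (1): `min (depth N') (depth N'') ≤ depth N`. -/
theorem min_le_idealDepth_X₂ :
    min (idealDepth I N') (idealDepth I N'') ≤ idealDepth I N := by
  let S := ModuleCat.shortComplexOfCompEqZero f g hfg.linearMap_comp_eq_zero
  have hS : S.ShortExact := ModuleCat.shortComplex_shortExact S hfg hf hg
  rw [← ENat.forall_natCast_le_iff_le]
  intro n hn
  rw [le_min_iff] at hn
  rw [le_idealDepth_iff_ext]
  intro i hi
  exact subsingleton_ext_X₂ hS _ i ((le_idealDepth_iff_ext I N' n).mp hn.1 i hi)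
    ((le_idealDepth_iff_ext I N'' n).mp hn.2 i hi)

/-- depth lemma (2): `min (depth N) (depth N' - 1) ≤ depth N''`. -/
theorem min_le_idealDepth_X₃ :
    min (idealDepth I N) (idealDepth I N' - 1) ≤ idealDepth I N'' := by
  let S := ModuleCat.shortComplexOfCompEqZero f g hfg.linearMap_comp_eq_zero
  have hS : S.ShortExact := ModuleCat.shortComplex_shortExact S hfg hf hg
  rw [← ENat.forall_natCast_le_iff_le]
  intro n hn
  rw [le_min_iff] at hn
  rcases Nat.eq_zero_or_pos n with rfl | hpos
  · simp
  have h1 : ((n + 1 : ℕ) : ℕ∞) ≤ idealDepth I N' := by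
    have h2 := hn.2
    generalize idealDepth I N' = d at h2 ⊢
    induction d with
    | top => exact le_top
    | coe m =>
      have : n ≤ m - 1 := by exact_mod_cast h2
      have : n + 1 ≤ m := by omega
      exact_mod_cast this
  rw [le_idealDepth_iff_ext]
  intro i hi
  exact subsingleton_ext_X₃ hS _ i ((le_idealDepth_iff_ext I N n).mp hn.1 i hi)
    ((le_idealDepth_iff_ext I N' (n + 1)).mp h1 (i + 1) (by omega))

/-- depth lemma (3): `min (depth N) (depth N'' + 1) ≤ depth N'`. -/
theorem min_le_idealDepth_X₁ :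
    min (idealDepth I N) (idealDepth I N'' + 1) ≤ idealDepth I N' := by
  let S := ModuleCat.shortComplexOfCompEqZero f g hfg.linearMap_comp_eq_zero
  have hS : S.ShortExact := ModuleCat.shortComplex_shortExact S hfg hf hg
  rw [← ENat.forall_natCast_le_iff_le]
  intro n hn
  rw [le_min_iff] at hn
  rw [le_idealDepth_iff_ext]
  intro i hi
  cases i with
  | zero =>
    exact subsingleton_ext_X₁_zero hS _ ((le_idealDepth_iff_ext I N n).mp hn.1 0 hi)
  | succ j =>
    have h1 : ((j + 1 : ℕ) : ℕ∞) ≤ idealDepth I N'' := by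
      have h2 := hn.2
      generalize idealDepth I N'' = d at h2 ⊢
      induction d with
      | top => exact le_top
      | coe m =>
        have : n ≤ m + 1 := by exact_mod_cast h2
        have : j + 1 ≤ m := by omega
        exact_mod_cast this
    exact subsingleton_ext_X₁_succ hS _ j
      ((le_idealDepth_iff_ext I N'' (j + 1)).mp h1 j (by omega))
      ((le_idealDepth_iff_ext I N n).mp hn.1 (j + 1) hi)

end depthLemma

end Groth.Agent.Lib.helper26.Depth
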