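import Mathlib
import Groth.Agent.Lib.Helper26.Depth2

/-!
# Depth theory, part 3 (helper26): quotient by a regular element, maximal regular sequences
-/

set_option autoImplicit false
universe u

open CategoryTheory Abelian RingTheory.Sequence LocCoh

namespace Groth.Agent.Lib.helper26.Depth

section quot

variable {R : Type u} [CommRing R]

/-- For `x` killing `N` and regular on `M`: `Ext^i(N, M/xM) = 0 ↔ Ext^i(N,M) = 0 = Ext^{i+1}(N,M)`. -/
lemma subsingleton_ext_quotSMulTop_iff (N M : ModuleCat.{u} R) (x : R)
    (hx : x ∈ Module.annihilator R N) (hreg : IsSMulRegular M x) (i : ℕ) :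
    Subsingleton (Ext N (ModuleCat.of R (QuotSMulTop x M)) i) ↔
      Subsingleton (Ext N M i) ∧ Subsingleton (Ext N M (i + 1)) := by
  have hS := hreg.smulShortComplex_shortExact
  have hsm : ∀ (j : ℕ) (w : Ext N M j),
      w.comp (Ext.mk₀ (ModuleCat.smulShortComplex M x).f) (add_zero j) = 0 := by
    intro j w
    have h1 : w.comp (Ext.mk₀ (ModuleCat.smulShortComplex M x).f) (add_zero j) = x • w :=
      (Ext.smul_eq_comp_mk₀ w x).symm
    rw [h1]
    exact smul_ext_eq_zero_of_mem_annihilator_left hx w
  constructor
  · intro h
    constructor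
    · refine ⟨fun a b => ?_⟩
      have key : ∀ z : Ext N M i, z = 0 := by
        intro z
        obtain ⟨z₁, hz₁⟩ := Ext.covariant_sequence_exact₂ N hS z
          (@Subsingleton.elim _ h _ _)
        rw [← hz₁]
        exact hsm i z₁
      rw [key a, key b]
    · refine ⟨fun a b => ?_⟩
      have key : ∀ z : Ext N M (i + 1), z = 0 := by
        intro z
        obtain ⟨z₃, hz₃⟩ := Ext.covariant_sequence_exact₁ N hS z (hsm (i + 1) z) rfl
        have h0 : z₃ = 0 := @Subsingleton.elim _ h z₃ 0
        rw [← hz₃, h0]
        exact Ext.zero_comp N i hS.extClass (i + 1) rfl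
      rw [key a, key b]
  · rintro ⟨h1, h2⟩
    exact subsingleton_ext_X₃ hS N i h1 h2

end quot

section enat

lemma enat_add_one_eq_of_forall {a b : ℕ∞} (h : ∀ n : ℕ, (n : ℕ∞) ≤ a ↔ ((n + 1 : ℕ) : ℕ∞) ≤ b) :
    a + 1 = b := by
  apply le_antisymm
  · rw [← ENat.forall_natCast_le_iff_le]
    intro k hk
    cases k with
    | zero => simp
    | succ n =>
      refine (h n).mp ?_
      induction a with
      | top => exact le_top
      | coe m =>
        have : n + 1 ≤ m + 1 := by exact_mod_cast hk
        have : n ≤ m := by omega
        exact_mod_cast this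
  · rw [← ENat.forall_natCast_le_iff_le]
    intro k hk
    cases k with
    | zero => simp
    | succ n =>
      have := (h n).mpr hk
      induction a with
      | top => simp
      | coe m =>
        have : n ≤ m := by exact_mod_cast this
        have : n + 1 ≤ m + 1 := by omega
        exact_mod_cast this

end enat

section quotDepth

variable {R : Type u} [CommRing R] [IsNoetherianRing R] (I : Ideal R)
  (M : Type u) [AddCommGroup M] [Module R M] [Module.Finite R M]

/-- `depth_I (M/xM) + 1 = depth_I M` for `x ∈ I` regular on `M`. -/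
theorem idealDepth_quotSMulTop_add_one (x : R) (hx : x ∈ I) (hreg : IsSMulRegular M x) :
    idealDepth I (QuotSMulTop x M) + 1 = idealDepth I M := by
  apply enat_add_one_eq_of_forall
  intro n
  have hxann : x ∈ Module.annihilator R (ModuleCat.of R (R ⧸ I)) := by
    change x ∈ Module.annihilator R (R ⧸ I)
    rw [Ideal.annihilator_quotient]
    exact hx
  have h1 : ((1 : ℕ) : ℕ∞) ≤ idealDepth I M := by
    have := length_le_idealDepth (I := I) (M := M) (rs := [x])
      ((isWeaklyRegular_singleton_iff M x).mpr hreg) (by simpa using hx)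
    simpa using this
  rw [le_idealDepth_iff_ext, le_idealDepth_iff_ext]
  constructor
  · intro h i hi
    cases i with
    | zero => exact (le_idealDepth_iff_ext I M 1).mp h1 0 (by omega)
    | succ j =>
      exact ((subsingleton_ext_quotSMulTop_iff _ (ModuleCat.of R M) x hxann hreg j).mp
        (h j (by omega))).2
  · intro h i hi
    exact (subsingleton_ext_quotSMulTop_iff _ (ModuleCat.of R M) x hxann hreg i).mpr
      ⟨h i (by omega), h (i + 1) (by omega)⟩

end quotDepth

end Groth.Agent.Lib.helper26.Depth
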