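import Mathlib
import Groth.Agent.Lib.Helper26.Depth3

/-!
# Depth theory, part 4 (helper26): Ischebeck's theorem, `depth M ≤ dim R/p` for `p ∈ Ass M`
-/

set_option autoImplicit false
universe u

open CategoryTheory Abelian RingTheory.Sequence LocCoh IsLocalRing

namespace Groth.Agent.Lib.helper26.Depth

section contra

variable {R : Type u} [CommRing R]

lemma subsingleton_ext_contra_X₂ {S : ShortComplex (ModuleCat.{u} R)} (hS : S.ShortExact)
    (Y : ModuleCat.{u} R) (n : ℕ) (h1 : Subsingleton (Ext S.X₁ Y n))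
    (h3 : Subsingleton (Ext S.X₃ Y n)) : Subsingleton (Ext S.X₂ Y n) := by
  refine ⟨fun a b => ?_⟩
  have key : ∀ z : Ext S.X₂ Y n, z = 0 := by
    intro z
    obtain ⟨z₃, hz₃⟩ := Ext.contravariant_sequence_exact₂ hS Y z (Subsingleton.elim _ _)
    rw [← hz₃, Subsingleton.elim z₃ 0, Ext.comp_zero]
  rw [key a, key b]

lemma subsingleton_ext_of_iso_left {X Y M : ModuleCat.{u} R} (e : X ≅ Y) (p : ℕ)
    (h : Subsingleton (Ext X M p)) : Subsingleton (Ext Y M p) := by
  refine ⟨fun a b => ?_⟩
  have key : ∀ z : Ext Y M p, z = 0 := by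
    intro z
    have h1 : (Ext.mk₀ e.inv).comp ((Ext.mk₀ e.hom).comp z (zero_add p)) (zero_add p) = z := by
      rw [Ext.mk₀_comp_mk₀_assoc, e.inv_hom_id, Ext.mk₀_id_comp]
    have h2 : (Ext.mk₀ e.hom).comp z (zero_add p) = 0 := Subsingleton.elim _ _
    rw [← h1, h2, Ext.comp_zero]
  rw [key a, key b]

lemma mk₀_smul_id_comp {X Y : ModuleCat.{u} R} (x : R) {i : ℕ} (z : Ext X Y i) :
    (Ext.mk₀ (x • 𝟙 X)).comp z (zero_add i) = x • z := by
  rw [Ext.mk₀_smul, Ext.smul_comp, Ext.mk₀_id_comp]

lemma subsingleton_ext_of_subsingleton_left (X M : ModuleCat.{u} R) [Subsingleton X] (p : ℕ) :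
    Subsingleton (Ext X M p) := by
  refine ⟨fun a b => ?_⟩
  have key : ∀ z : Ext X M p, z = 0 := by
    intro z
    have h0 : 𝟙 X = 0 := (ModuleCat.isZero_of_subsingleton X).eq_of_src _ _
    have h1 : (Ext.mk₀ (𝟙 X)).comp z (zero_add p) = z := Ext.mk₀_id_comp z
    rw [← h1, h0, Ext.mk₀_zero, Ext.zero_comp]
  rw [key a, key b]

end contra

section ischebeck

variable {A : Type u} [CommRing A] [IsNoetherianRing A] [IsLocalRing A]
  (M : Type u) [AddCommGroup M] [Module A M] [Module.Finite A M]

omit [IsNoetherianRing A] in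
/-- Nakayama for `Ext`: if every element of a finite `Ext` module is a multiple of `x ∈ m`,
the module vanishes. -/
lemma subsingleton_of_forall_exists_smul {E : Type*} [AddCommGroup E] [Module A E]
    [Module.Finite A E] (x : A) (hx : x ∈ maximalIdeal A)
    (h : ∀ e : E, ∃ e' : E, e = x • e') : Subsingleton E := by
  have htop : (⊤ : Submodule A E) = ⊥ := by
    refine Submodule.eq_bot_of_le_smul_of_le_jacobson_bot (maximalIdeal A) ⊤
      Module.Finite.fg_top ?_ (IsLocalRing.maximalIdeal_le_jacobson ⊥)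
    intro e _
    obtain ⟨e', rfl⟩ := h e
    exact Submodule.smul_mem_smul hx Submodule.mem_top
  exact (Submodule.subsingleton_iff A).mp (subsingleton_of_bot_eq_top htop.symm)

/-- Inductive step for Ischebeck. -/
lemma ischebeck_step (r : ℕ)
    (H : ∀ (L : Type u) [AddCommGroup L] [Module A L] [Module.Finite A L],
      Module.supportDim A L + 1 ≤ (r : WithBot ℕ∞) → ∀ i : ℕ,
      ((i + r : ℕ) : ℕ∞) < depth A M →
      Subsingleton (Ext (ModuleCat.of A L) (ModuleCat.of A M) (i + 1)))
    (N : Type u) [AddCommGroup N] [Module A N] [hN : Module.Finite A N] :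
    Module.supportDim A N ≤ (r : WithBot ℕ∞) → ∀ i : ℕ, ((i + r : ℕ) : ℕ∞) < depth A M →
      Subsingleton (Ext (ModuleCat.of A N) (ModuleCat.of A M) i) := by
  induction hN using IsNoetherianRing.induction_on_isQuotientEquivQuotientPrime A with
  | subsingleton N =>
    intro _ i _
    exact subsingleton_ext_of_subsingleton_left (ModuleCat.of A N) _ i
  | quotient N p e =>
    intro hdim i hi
    refine subsingleton_ext_of_iso_left (e.symm.toModuleIso) i ?_
    by_cases hp : p.asIdeal = maximalIdeal A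
    · have hsupp : Module.support A (A ⧸ p.asIdeal) ⊆
          PrimeSpectrum.zeroLocus (maximalIdeal A) := by
        rw [support_quotient_ideal, hp]
      refine subsingleton_ext_of_lt_idealDepth (maximalIdeal A) M
        (ModuleCat.of A (A ⧸ p.asIdeal)) hsupp i (lt_of_le_of_lt ?_ hi)
      exact_mod_cast Nat.le_add_right i r
    · have hlt : p.asIdeal < maximalIdeal A :=
        lt_of_le_of_ne (IsLocalRing.le_maximalIdeal p.2.ne_top) hp
      obtain ⟨x, hxm, hxp⟩ := Set.exists_of_ssubset hlt
      have hreg : IsSMulRegular (A ⧸ p.asIdeal) x := by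
        rw [isSMulRegular_iff_right_eq_zero_of_smul]
        intro y hy
        obtain ⟨y, rfl⟩ := Ideal.Quotient.mk_surjective y
        rw [Algebra.smul_def, Ideal.Quotient.algebraMap_eq, ← map_mul,
          Ideal.Quotient.eq_zero_iff_mem] at hy
        rw [Ideal.Quotient.eq_zero_iff_mem]
        exact (p.2.mem_or_mem hy).resolve_left hxp
      have hdimL : Module.supportDim A (QuotSMulTop x (A ⧸ p.asIdeal)) + 1 ≤ (r : WithBot ℕ∞) := by
        rw [Module.supportDim_quotSMulTop_succ_eq_supportDim hreg hxm]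
        rw [← Module.supportDim_eq_of_equiv e]
        exact hdim
      have hL := H (QuotSMulTop x (A ⧸ p.asIdeal)) hdimL i hi
      have hS := hreg.smulShortComplex_shortExact (M := ModuleCat.of A (A ⧸ p.asIdeal))
      refine subsingleton_of_forall_exists_smul x hxm ?_
      intro z
      obtain ⟨z₂, hz₂⟩ := Ext.contravariant_sequence_exact₁ hS (ModuleCat.of A M) z
        (add_comm 1 i) (@Subsingleton.elim _ hL _ _)
      refine ⟨z₂, ?_⟩
      rw [← hz₂]
      exact mk₀_smul_id_comp x z₂
  | exact N₁ N₂ N₃ f g hf hg hfg h1 h3 =>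
    intro hdim i hi
    let S := ModuleCat.shortComplexOfCompEqZero f g hfg.linearMap_comp_eq_zero
    have hS : S.ShortExact := ModuleCat.shortComplex_shortExact S hfg hf hg
    exact subsingleton_ext_contra_X₂ hS _ i
      (h1 ((Module.supportDim_le_of_injective f hf).trans hdim) i hi)
      (h3 ((Module.supportDim_le_of_surjective g hg).trans hdim) i hi)

lemma withBot_le_of_add_one_le (a : WithBot ℕ∞) (d : ℕ) (h : a + 1 ≤ ((d + 1 : ℕ) : WithBot ℕ∞)) :
    a ≤ (d : WithBot ℕ∞) := by
  induction a with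
  | bot => exact bot_le
  | coe e =>
    induction e with
    | top =>
      exfalso
      have h1 : ((⊤ : ℕ∞) : WithBot ℕ∞) + 1 = ((⊤ : ℕ∞) : WithBot ℕ∞) := rfl
      rw [h1] at h
      have : (⊤ : ℕ∞) ≤ ((d + 1 : ℕ) : ℕ∞) := by exact_mod_cast h
      simp at this
    | coe m =>
      have : m + 1 ≤ d + 1 := by exact_mod_cast h
      have : m ≤ d := by omega
      exact_mod_cast this

lemma withBot_eq_bot_of_add_one_le_zero (a : WithBot ℕ∞) (h : a + 1 ≤ ((0 : ℕ) : WithBot ℕ∞)) :
    a = ⊥ := by
  induction a with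
  | bot => rfl
  | coe e =>
    exfalso
    have h1 : ((e + 1 : ℕ∞) : WithBot ℕ∞) ≤ ((0 : ℕ∞) : WithBot ℕ∞) := by exact_mod_cast h
    have : e + 1 ≤ (0 : ℕ∞) := by exact_mod_cast h1
    simp at this

/-- **Ischebeck's theorem**: over a Noetherian local ring, `Ext^i(N, M) = 0` for
`i + dim N < depth M` (`M`, `N` finite). -/
theorem ischebeck (r : ℕ) : ∀ (N : Type u) [AddCommGroup N] [Module A N] [Module.Finite A N],
    Module.supportDim A N ≤ (r : WithBot ℕ∞) → ∀ i : ℕ, ((i + r : ℕ) : ℕ∞) < depth A M →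
      Subsingleton (Ext (ModuleCat.of A N) (ModuleCat.of A M) i) := by
  induction r with
  | zero =>
    intro N _ _ _
    refine ischebeck_step M 0 ?_ N
    intro L _ _ _ hL i _
    have hbot := withBot_eq_bot_of_add_one_le_zero _ hL
    rw [Module.supportDim_eq_bot_iff_subsingleton] at hbot
    exact subsingleton_ext_of_subsingleton_left (ModuleCat.of A L) _ (i + 1)
  | succ r ih =>
    intro N _ _ _
    refine ischebeck_step M (r + 1) ?_ N
    intro L _ _ _ hL i hi
    refine ih L (withBot_le_of_add_one_le _ r hL) (i + 1) ?_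
    have : i + 1 + r = i + (r + 1) := by omega
    rw [this]
    exact hi

end ischebeck

end Groth.Agent.Lib.helper26.Depth
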