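import Mathlib
set_option autoImplicit false
universe u
open CategoryTheory Abelian Limits

namespace Groth.Agent.Lib.helper26.ExtRing

variable {A : Type u} [CommRing A]

theorem subsingleton_ext_of_iso {M X Y : ModuleCat.{u} A} (e : X ≅ Y) (p : ℕ)
    (h : Subsingleton (Ext M X p)) : Subsingleton (Ext M Y p) := by
  have h0 : ∀ x : Ext M Y p, x = 0 := by
    intro x
    have h1 : (x.comp (Ext.mk₀ e.inv) (add_zero p)).comp (Ext.mk₀ e.hom) (add_zero p) = x := by
      rw [Ext.comp_assoc_of_second_deg_zero, Ext.mk₀_comp_mk₀, e.inv_hom_id, Ext.comp_mk₀_id]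
    have h2 : x.comp (Ext.mk₀ e.inv) (add_zero p) = 0 := Subsingleton.elim _ _
    rw [← h1, h2, Ext.zero_comp]
  exact ⟨fun a b => by rw [h0 a, h0 b]⟩

theorem subsingleton_ext_free (M : ModuleCat.{u} A) (p : ℕ)
    (hE : Subsingleton (Ext M (ModuleCat.of A A) p))
    (F : Type u) [AddCommGroup F] [Module A F] [Module.Free A F] [Module.Finite A F] :
    Subsingleton (Ext M (ModuleCat.of A F) p) := by
  let ι₀ := Module.Free.ChooseBasisIndex A F
  have : Fintype ι₀ := inferInstance
  let ι := Fin (Fintype.card ι₀)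
  let b := (Module.Free.chooseBasis A F).reindex (Fintype.equivFin ι₀)
  let f : ι → ModuleCat.{u} A := fun _ => ModuleCat.of A A
  have h1 : Subsingleton (Ext M (⨁ f) p) := by
    have e := Ext.addEquivBiproduct M (biproduct.isBilimit f) p
    have : Subsingleton (Π i, Ext M (f i) p) := by
      have : ∀ i, Subsingleton (Ext M (f i) p) := fun _ => hE
      infer_instance
    exact e.toEquiv.subsingleton
  have e1 : (⨁ f) ≅ ModuleCat.of A (ι → A) := ModuleCat.biproductIsoPi f
  have e2 : ModuleCat.of A (ι → A) ≅ ModuleCat.of A F := (b.equivFun.symm).toModuleIso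
  exact subsingleton_ext_of_iso (e1 ≪≫ e2) p h1

theorem hasProjectiveDimensionLT_of_ext_ring_vanish [IsNoetherianRing A] (M : ModuleCat.{u} A)
    [Module.Finite A M] (p : ℕ) (hp : HasProjectiveDimensionLT M (p + 1 + 1))
    (hE : Subsingleton (Ext M (ModuleCat.of A A) (p + 1))) :
    HasProjectiveDimensionLT M (p + 1) := by
  apply ModuleCat.hasProjectiveDimensionLT_of_forall_finite M (p + 1)
  intro L hL
  rcases Module.exists_finite_presentation A L with ⟨F, _, _, _, _, f, surjf⟩
  let S := f.shortComplexKer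
  have hS : S.ShortExact := LinearMap.shortExact_shortComplexKer surjf
  have hF : Subsingleton (Ext M (ModuleCat.of A F) (p + 1)) := subsingleton_ext_free M (p + 1) hE F
  have h0 : ∀ x : Ext M L (p + 1), x = 0 := by
    intro x
    have hx : x.comp hS.extClass (rfl : p + 1 + 1 = p + 1 + 1) = 0 :=
      Ext.eq_zero_of_hasProjectiveDimensionLT _ (p + 1 + 1) le_rfl
    obtain ⟨x₂, rfl⟩ := Ext.covariant_sequence_exact₃ M hS x rfl hx
    have : x₂ = 0 := Subsingleton.elim _ _
    rw [this, Ext.zero_comp]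
  exact ⟨fun a b => by rw [h0 a, h0 b]⟩

theorem hasProjectiveDimensionLT_succ_of_forall_ext_ring [IsNoetherianRing A]
    (M : ModuleCat.{u} A) [Module.Finite A M] (q n : ℕ) (hn : HasProjectiveDimensionLT M n)
    (h : ∀ i, q < i → Subsingleton (Ext M (ModuleCat.of A A) i)) :
    HasProjectiveDimensionLT M (q + 1) := by
  induction n with
  | zero => exact hasProjectiveDimensionLT_of_ge M 0 (q + 1) (Nat.zero_le _)
  | succ n ih =>
    by_cases hle : n + 1 ≤ q + 1
    · exact hasProjectiveDimensionLT_of_ge M (n + 1) (q + 1) hle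
    · push Not at hle
      obtain ⟨p, rfl⟩ : ∃ p, n = p + 1 := ⟨n - 1, by omega⟩
      exact ih (hasProjectiveDimensionLT_of_ext_ring_vanish M p hn (h (p + 1) (by omega)))

end Groth.Agent.Lib.helper26.ExtRing
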