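import Mathlib
import Groth.Agent.Lib.Helper26.Depth4
import Groth.Agent.Lib.Helper26.ExtRing

/-!
# Depth theory, part 5 (helper26): `depth ≤ dim R/p`, depth of free modules
-/

set_option autoImplicit false
universe u

open CategoryTheory Abelian RingTheory.Sequence LocCoh IsLocalRing

namespace Groth.Agent.Lib.helper26.Depth

section assdim

variable {A : Type u} [CommRing A] [IsNoetherianRing A] [IsLocalRing A]
  (M : Type u) [AddCommGroup M] [Module A M] [Module.Finite A M]

/-- `depth M ≤ dim A/p` for every associated prime `p` of `M`. -/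
theorem depth_le_ringKrullDim_quotient_of_mem_associatedPrimes (p : Ideal A)
    (hp : p ∈ associatedPrimes A M) :
    ((depth A M : ℕ∞) : WithBot ℕ∞) ≤ ringKrullDim (A ⧸ p) := by
  obtain ⟨hprime, f, hf⟩ := (isAssociatedPrime_iff_exists_injective_linearMap p M).mp hp
  by_contra hlt
  rw [not_le] at hlt
  have hnt : Nontrivial (A ⧸ p) := Ideal.Quotient.nontrivial_iff.mpr hprime.ne_top
  have hne_bot : ringKrullDim (A ⧸ p) ≠ ⊥ := by
    intro h
    have := ringKrullDim_nonneg_of_nontrivial (R := A ⧸ p)
    rw [h] at this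
    simp at this
  have hle : ringKrullDim (A ⧸ p) ≤ ringKrullDim A :=
    ringKrullDim_le_of_surjective _ Ideal.Quotient.mk_surjective
  have hne_top : ringKrullDim (A ⧸ p) ≠ ⊤ :=
    ne_top_of_le_ne_top ringKrullDim_ne_top hle
  obtain ⟨d, hd⟩ := WithBot.ne_bot_iff_exists.mp hne_bot
  have hd_top : d ≠ ⊤ := by
    rintro rfl
    exact hne_top hd.symm
  obtain ⟨r, rfl⟩ := ENat.ne_top_iff_exists.mp hd_top
  rw [← hd] at hlt
  have hlt' : ((0 + r : ℕ) : ℕ∞) < depth A M := by
    rw [zero_add]
    exact WithBot.coe_lt_coe.mp hlt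
  have hdim : Module.supportDim A (A ⧸ p) ≤ ((r : ℕ) : WithBot ℕ∞) := by
    rw [Module.supportDim_quotient_eq_ringKrullDim, ← hd]
    rfl
  have hsub := ischebeck M r (A ⧸ p) hdim 0 hlt'
  have h0 : Ext.mk₀ (ModuleCat.ofHom f) = 0 := @Subsingleton.elim _ hsub _ _
  rw [Ext.mk₀_eq_zero_iff] at h0
  have hf0 : f = 0 := by
    have := congrArg ModuleCat.Hom.hom h0
    simpa using this
  have : (1 : A ⧸ p) = 0 := hf (by rw [hf0]; simp)
  exact one_ne_zero this

/-- `depth M ≤ dim M` for a nonzero finite module over a Noetherian local ring. -/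
theorem depth_le_supportDim [Nontrivial M] :
    ((depth A M : ℕ∞) : WithBot ℕ∞) ≤ Module.supportDim A M := by
  obtain ⟨p, hp⟩ := associatedPrimes.nonempty A M
  refine (depth_le_ringKrullDim_quotient_of_mem_associatedPrimes M p hp).trans ?_
  obtain ⟨hprime, f, hf⟩ := (isAssociatedPrime_iff_exists_injective_linearMap p M).mp hp
  rw [← Module.supportDim_quotient_eq_ringKrullDim]
  exact Module.supportDim_le_of_injective f hf

end assdim

section retract

variable {R : Type u} [CommRing R]

lemma subsingleton_ext_of_retract {N X Y : ModuleCat.{u} R} (s : X ⟶ Y) (π : Y ⟶ X)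
    (h : s ≫ π = 𝟙 X) (i : ℕ) (hY : Subsingleton (Ext N Y i)) : Subsingleton (Ext N X i) := by
  refine ⟨fun a b => ?_⟩
  have key : ∀ z : Ext N X i, z = 0 := by
    intro z
    have h1 : (z.comp (Ext.mk₀ s) (add_zero i)).comp (Ext.mk₀ π) (add_zero i) = z := by
      rw [Ext.comp_assoc_of_second_deg_zero, Ext.mk₀_comp_mk₀, h, Ext.comp_mk₀_id]
    have h2 : z.comp (Ext.mk₀ s) (add_zero i) = 0 := Subsingleton.elim _ _
    rw [← h1, h2, Ext.zero_comp]
  rw [key a, key b]

variable [IsNoetherianRing R] (I : Ideal R)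

/-- The `I`-depth of a nonzero finite free module equals the `I`-depth of the ring. -/
theorem idealDepth_free (F : Type u) [AddCommGroup F] [Module R F] [Module.Free R F]
    [Module.Finite R F] [Nontrivial F] : idealDepth I F = idealDepth I R := by
  apply le_antisymm
  · rw [← ENat.forall_natCast_le_iff_le]
    intro n hn
    rw [le_idealDepth_iff_ext] at hn ⊢
    intro i hi
    let b := Module.Free.chooseBasis R F
    have hne : Nonempty (Module.Free.ChooseBasisIndex R F) := by
      by_contra hemp
      rw [not_nonempty_iff] at hemp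
      have : Subsingleton F := b.repr.toEquiv.subsingleton
      exact not_subsingleton F this
    obtain ⟨j⟩ := hne
    refine subsingleton_ext_of_retract
      (ModuleCat.ofHom (LinearMap.toSpanSingleton R F (b j))) (ModuleCat.ofHom (b.coord j)) ?_ i
      (hn i hi)
    ext
    simp
  · rw [← ENat.forall_natCast_le_iff_le]
    intro n hn
    rw [le_idealDepth_iff_ext] at hn ⊢
    intro i hi
    exact Groth.Agent.Lib.helper26.ExtRing.subsingleton_ext_free _ i (hn i hi) F

end retract

end Groth.Agent.Lib.helper26.Depth
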