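import Mathlib
import Groth.Agent.Lib.Helper15.Regular
set_option autoImplicit false
universe u
open CategoryTheory IsLocalRing

namespace Groth.Agent.Lib.helper26.PDReg

section general

variable {R : Type u} [CommRing R] (x : R)


/-- `QuotSMulTop.map` as an `R/(x)`-linear map. -/
noncomputable def qmap {M N : Type u} [AddCommGroup M] [Module R M] [AddCommGroup N] [Module R N]
    (f : M →ₗ[R] N) : QuotSMulTop x M →ₗ[(R ⧸ Ideal.span {x})] QuotSMulTop x N :=
  LinearMap.extendScalarsOfSurjective (R := R) (S := (R ⧸ Ideal.span {x})) Ideal.Quotient.mk_surjective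
    (QuotSMulTop.map x f)

theorem qmap_apply {M N : Type u} [AddCommGroup M] [Module R M] [AddCommGroup N] [Module R N]
    (f : M →ₗ[R] N) (y : QuotSMulTop x M) : qmap x f y = QuotSMulTop.map x f y := rfl

theorem qmap_injective {P K : Type u} [AddCommGroup P] [Module R P] [AddCommGroup K] [Module R K]
    (f : P →ₗ[R] K) (reg : IsSMulRegular K x) :
    Function.Injective (QuotSMulTop.map x (LinearMap.ker f).subtype) := by
  rw [injective_iff_map_eq_zero]
  intro y hy
  obtain ⟨k, rfl⟩ := Submodule.Quotient.mk_surjective _ y
  rw [QuotSMulTop.map_apply_mk, Submodule.Quotient.mk_eq_zero] at hy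
  obtain ⟨p, -, hp⟩ := (Submodule.mem_smul_pointwise_iff_exists _ _ _).mp hy
  have h1 : x • f p = 0 := by
    rw [← map_smul, hp]
    exact k.2
  have h2 : f p = 0 := reg.right_eq_zero_of_smul h1
  rw [Submodule.Quotient.mk_eq_zero]
  refine (Submodule.mem_smul_pointwise_iff_exists _ _ _).mpr ⟨⟨p, h2⟩, Submodule.mem_top, ?_⟩
  ext
  exact hp

/-- The short exact sequence `0 → K'/xK' → P/xP → K/xK → 0` over `R/(x)` induced by a surjection
`f : P → K` with `x` regular on `K`. -/
theorem shortExact_quot {P K : Type u} [AddCommGroup P] [Module R P] [AddCommGroup K] [Module R K]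
    (f : P →ₗ[R] K) (hf : Function.Surjective f) (reg : IsSMulRegular K x) :
    (ModuleCat.shortComplexOfCompEqZero (qmap x (LinearMap.ker f).subtype) (qmap x f) (by
      ext y
      obtain ⟨k, rfl⟩ := Submodule.Quotient.mk_surjective _ y
      show QuotSMulTop.map x f (QuotSMulTop.map x (LinearMap.ker f).subtype
        (Submodule.Quotient.mk k)) = 0
      rw [QuotSMulTop.map_apply_mk, QuotSMulTop.map_apply_mk]
      have : f ((LinearMap.ker f).subtype k) = 0 := k.2
      rw [this]
      rfl)).ShortExact := by
  have hex : Function.Exact (LinearMap.ker f).subtype f := by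
    intro y
    simp
  refine { exact := ?_, mono_f := ?_, epi_g := ?_ }
  · rw [ShortComplex.ShortExact.moduleCat_exact_iff_function_exact]
    exact QuotSMulTop.map_exact x hex hf
  · rw [ModuleCat.mono_iff_injective]
    exact qmap_injective x f reg
  · rw [ModuleCat.epi_iff_surjective]
    exact QuotSMulTop.map_surjective x hf

end general

end Groth.Agent.Lib.helper26.PDReg

namespace Groth.Agent.Lib.helper26.PDReg

section loc

variable {R : Type u} [CommRing R] [IsLocalRing R] [IsNoetherianRing R]

omit [IsNoetherianRing R] in
theorem isLocalRing_quot (x : R) (hx : x ∈ maximalIdeal R) : IsLocalRing (R ⧸ Ideal.span {x}) := by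
  have hne : Ideal.span {x} ≠ ⊤ := by
    intro h
    have : (1 : R) ∈ Ideal.span {x} := h ▸ Submodule.mem_top
    have h2 : Ideal.span {x} ≤ maximalIdeal R := (Ideal.span_singleton_le_iff_mem _).mpr hx
    exact (maximalIdeal.isMaximal R).ne_top ((Ideal.eq_top_iff_one _).mpr (h2 this))
  have := Ideal.Quotient.nontrivial_iff.mpr hne
  exact IsLocalRing.of_surjective' (Ideal.Quotient.mk _) Ideal.Quotient.mk_surjective

theorem hasProjectiveDimensionLE_of_quot (x : R) (hx : x ∈ maximalIdeal R)
    (hR : IsSMulRegular R x) (n : ℕ)
    (K : Type u) [AddCommGroup K] [Module R K] [Module.Finite R K] (reg : IsSMulRegular K x)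
    (h : HasProjectiveDimensionLE (ModuleCat.of (R ⧸ Ideal.span {x}) (QuotSMulTop x K)) n) :
    HasProjectiveDimensionLE (ModuleCat.of R K) n := by
  induction n generalizing K with
  | zero =>
    simp only [HasProjectiveDimensionLE, zero_add] at h ⊢
    rw [← projective_iff_hasProjectiveDimensionLT_one, ← IsProjective.iff_projective] at h ⊢
    have := isLocalRing_quot x hx
    have hfin : Module.Finite (R ⧸ Ideal.span {x}) (QuotSMulTop x K) :=
      Module.Finite.of_restrictScalars_finite R _ _
    have hflat : Module.Flat (R ⧸ Ideal.span {x}) (QuotSMulTop x K) :=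
      @Module.Flat.of_projective _ _ _ _ _ h
    have hfree : Module.Free (R ⧸ Ideal.span {x}) (QuotSMulTop x K) :=
      Module.free_of_flat_of_isLocalRing
    have hfp : Module.FinitePresentation R K := Module.finitePresentation_of_finite R K
    have hjac : x ∈ (⊥ : Ideal R).jacobson := by
      rw [IsLocalRing.jacobson_eq_maximalIdeal ⊥ bot_ne_top]
      exact hx
    have := (Module.free_quotSMulTop_iff_free R K hjac reg).mp hfree
    infer_instance
  | succ n ih =>
    rcases Module.exists_finite_presentation R K with ⟨P, _, _, _, _, f, surjf⟩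
    let T := f.shortComplexKer
    have T_exact := LinearMap.shortExact_shortComplexKer surjf
    have proj : Projective T.X₂ := ModuleCat.projective_of_categoryTheory_projective T.X₂
    have T'_exact := shortExact_quot x f surjf reg
    have proj' : Projective (ModuleCat.of (R ⧸ Ideal.span {x}) (QuotSMulTop x P)) := by
      rw [← IsProjective.iff_projective]
      infer_instance
    have h1 := (T'_exact.hasProjectiveDimensionLT_X₃_iff n proj').mp h
    have regP : IsSMulRegular P x :=
      Module.Flat.isSMulRegular_of_isRegular (isLeftRegular_iff_isRegular.mp hR)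
    have regK' : IsSMulRegular (LinearMap.ker f) x := regP.submodule _ _
    have h2 := ih (LinearMap.ker f) regK' h1
    exact (T_exact.hasProjectiveDimensionLT_X₃_iff n proj).mpr h2

end loc

/-- The converse direction, no hypotheses on the ring. -/
theorem hasProjectiveDimensionLE_quot {R : Type u} [CommRing R] (x : R)
    (hR : IsSMulRegular R x) (n : ℕ)
    (K : Type u) [AddCommGroup K] [Module R K] (reg : IsSMulRegular K x)
    (h : HasProjectiveDimensionLE (ModuleCat.of R K) n) :
    HasProjectiveDimensionLE (ModuleCat.of (R ⧸ Ideal.span {x}) (QuotSMulTop x K)) n := by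
  induction n generalizing K with
  | zero =>
    simp only [HasProjectiveDimensionLE, zero_add] at h ⊢
    rw [← projective_iff_hasProjectiveDimensionLT_one, ← IsProjective.iff_projective] at h ⊢
    have e : QuotSMulTop x K ≃ₗ[R ⧸ Ideal.span {x}] TensorProduct R (R ⧸ Ideal.span {x}) K :=
      (QuotSMulTop.equivQuotTensor x K).extendScalarsOfSurjective Ideal.Quotient.mk_surjective
    exact Module.Projective.of_equiv e.symm
  | succ n ih =>
    let P := K →₀ R
    let f : P →ₗ[R] K := Finsupp.linearCombination R id
    have surjf : Function.Surjective f := Finsupp.linearCombination_id_surjective R K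
    let T := f.shortComplexKer
    have T_exact := LinearMap.shortExact_shortComplexKer surjf
    have proj : Projective T.X₂ := ModuleCat.projective_of_categoryTheory_projective T.X₂
    have T'_exact := shortExact_quot x f surjf reg
    have proj' : Projective (ModuleCat.of (R ⧸ Ideal.span {x}) (QuotSMulTop x P)) := by
      rw [← IsProjective.iff_projective]
      infer_instance
    have h1 := (T_exact.hasProjectiveDimensionLT_X₃_iff n proj).mp h
    have regP : IsSMulRegular P x :=
      Module.Flat.isSMulRegular_of_isRegular (isLeftRegular_iff_isRegular.mp hR)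
    have regK' : IsSMulRegular (LinearMap.ker f) x := regP.submodule _ _
    have h2 := ih (LinearMap.ker f) regK' h1
    exact (T'_exact.hasProjectiveDimensionLT_X₃_iff n proj').mpr h2

end Groth.Agent.Lib.helper26.PDReg

namespace Groth.Agent.Lib.helper26.PDReg

open Groth.Agent.Lib.helper15 in
theorem hasProjectiveDimensionLE_of_isRegularLocalRing (d : ℕ) (R : Type u) [CommRing R]
    [IsRegularLocalRing R] (hd : (maximalIdeal R).spanFinrank = d)
    (M : Type u) [AddCommGroup M] [Module R M] [Module.Finite R M] :
    HasProjectiveDimensionLE (ModuleCat.of R M) d := by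
  induction d generalizing R M with
  | zero =>
    have hfg : (maximalIdeal R).FG := IsNoetherian.noetherian _
    have hbot : maximalIdeal R = ⊥ := (Submodule.spanFinrank_eq_zero_iff_eq_bot hfg).mp hd
    have hfield : IsField R := IsLocalRing.isField_iff_maximalIdeal_eq.mpr hbot
    simp only [HasProjectiveDimensionLE, zero_add]
    rw [← projective_iff_hasProjectiveDimensionLT_one, ← IsProjective.iff_projective]
    let _ := hfield.toField
    have : Module.Free R M := Module.Free.of_divisionRing R M
    infer_instance
  | succ d ih =>
    have hfg : (maximalIdeal R).FG := IsNoetherian.noetherian _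
    have hne : maximalIdeal R ≠ ⊥ := by
      intro h
      rw [h] at hd
      simp at hd
    obtain ⟨x, hx, hx2⟩ : ∃ x ∈ maximalIdeal R, x ∉ maximalIdeal R ^ 2 := by
      by_contra hcon
      push Not at hcon
      have hle : maximalIdeal R ≤ maximalIdeal R • maximalIdeal R := by
        intro y hy
        have := hcon y hy
        rwa [pow_two] at this
      exact hne (Submodule.eq_bot_of_le_smul_of_le_jacobson_bot (maximalIdeal R) (maximalIdeal R)
        hfg hle (IsLocalRing.jacobson_eq_maximalIdeal ⊥ bot_ne_top).ge)
    obtain ⟨hreg, hrank⟩ := isRegularLocalRing_quotient_singleton x hx hx2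
    have hdom := isDomain_of_isRegularLocalRing R
    have hx0 : x ≠ 0 := fun h => hx2 (h ▸ zero_mem _)
    have hR : IsSMulRegular R x := (IsRegular.of_ne_zero hx0).left
    rcases Module.exists_finite_presentation R M with ⟨P, _, _, _, _, f, surjf⟩
    let T := f.shortComplexKer
    have T_exact := LinearMap.shortExact_shortComplexKer surjf
    have proj : Projective T.X₂ := ModuleCat.projective_of_categoryTheory_projective T.X₂
    have regP : IsSMulRegular P x :=
      Module.Flat.isSMulRegular_of_isRegular (isLeftRegular_iff_isRegular.mp hR)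
    have regK : IsSMulRegular (LinearMap.ker f) x := regP.submodule _ _
    have hd' : (maximalIdeal (R ⧸ Ideal.span {x})).spanFinrank = d := by omega
    have hfin : Module.Finite (R ⧸ Ideal.span {x}) (QuotSMulTop x (LinearMap.ker f)) :=
      Module.Finite.of_restrictScalars_finite R _ _
    have h1 := ih (R ⧸ Ideal.span {x}) hd' (QuotSMulTop x (LinearMap.ker f))
    have h2 := hasProjectiveDimensionLE_of_quot x hx hR d (LinearMap.ker f) regK h1
    exact (T_exact.hasProjectiveDimensionLT_X₃_iff d proj).mpr h2

end Groth.Agent.Lib.helper26.PDReg
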