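import Mathlib
import Groth.Agent.Lib.Helper26.ProjDimRegular
import Groth.Agent.S0560
set_option autoImplicit false
universe u
open CategoryTheory IsLocalRing TensorProduct Pointwise

namespace Groth.Agent.Lib.helper26.SerreConv

variable {R : Type u} [CommRing R] [IsLocalRing R] [IsNoetherianRing R]

omit [IsNoetherianRing R] in
/-- Minimal presentation: a surjection from a finite free module whose kernel has all
coordinates in the maximal ideal. -/
theorem exists_minimal_presentation (M : Type u) [AddCommGroup M] [Module R M] [Module.Finite R M] :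
    ∃ (ι : Type u) (_ : Fintype ι) (f : (ι →₀ R) →ₗ[R] M), Function.Surjective f ∧
      ∀ c ∈ LinearMap.ker f, ∀ i, c i ∈ maximalIdeal R := by
  classical
  let k := ResidueField R
  let ι := Module.Free.ChooseBasisIndex k (k ⊗[R] M)
  let b : Module.Basis ι k (k ⊗[R] M) := Module.Free.chooseBasis k (k ⊗[R] M)
  have hfin : Fintype ι := inferInstance
  have hsurj : Function.Surjective (TensorProduct.mk R k M 1) :=
    TensorProduct.mk_surjective R M k Ideal.Quotient.mk_surjective
  choose g hg using fun i => hsurj (b i)
  have hspan : Submodule.span R (Set.range g) = ⊤ :=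
    IsLocalRing.span_eq_top_of_tmul_eq_basis g b hg
  refine ⟨ι, hfin, Finsupp.linearCombination R g, ?_, ?_⟩
  · rw [← LinearMap.range_eq_top, Finsupp.range_linearCombination, hspan]
  · intro c hc i
    rw [LinearMap.mem_ker] at hc
    have h1 : (TensorProduct.mk R k M 1) (Finsupp.linearCombination R g c) = 0 := by
      rw [hc, map_zero]
    rw [Finsupp.linearCombination_apply, Finsupp.sum, map_sum] at h1
    have h2 : ∑ j ∈ c.support, (residue R (c j)) • b j = 0 := by
      rw [← h1]
      refine Finset.sum_congr rfl (fun j _ => ?_)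
      rw [map_smul, ← hg j]
      rfl
    have h3 := linearIndependent_iff'.mp b.linearIndependent c.support
      (fun j => residue R (c j)) h2
    by_cases hi : i ∈ c.support
    · have := h3 i hi
      rwa [residue_eq_zero_iff] at this
    · rw [Finsupp.notMem_support_iff] at hi
      rw [hi]
      exact zero_mem _

end Groth.Agent.Lib.helper26.SerreConv

namespace Groth.Agent.Lib.helper26.SerreConv

variable {R : Type u} [CommRing R] [IsLocalRing R] [IsNoetherianRing R]

/-- Over a Noetherian local ring of depth zero (there is `z ≠ 0` killed by the maximal ideal),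
a finite module of finite projective dimension is free. -/
theorem free_of_hasProjectiveDimensionLE_of_socle (z : R) (hz : z ≠ 0)
    (hmz : ∀ a ∈ maximalIdeal R, a * z = 0) (n : ℕ)
    (M : Type u) [AddCommGroup M] [Module R M] [Module.Finite R M]
    (h : HasProjectiveDimensionLE (ModuleCat.of R M) n) : Module.Free R M := by
  induction n generalizing M with
  | zero =>
    simp only [HasProjectiveDimensionLE, zero_add] at h
    rw [← projective_iff_hasProjectiveDimensionLT_one, ← IsProjective.iff_projective] at h
    have hflat : Module.Flat R M := @Module.Flat.of_projective _ _ _ _ _ h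
    exact Module.free_of_flat_of_isLocalRing
  | succ n ih =>
    classical
    obtain ⟨ι, hι, f, surjf, hker⟩ := exists_minimal_presentation (R := R) M
    let T := f.shortComplexKer
    have T_exact := LinearMap.shortExact_shortComplexKer surjf
    have proj : Projective T.X₂ := ModuleCat.projective_of_categoryTheory_projective T.X₂
    have h1 := (T_exact.hasProjectiveDimensionLT_X₃_iff n proj).mp h
    have hKfree : Module.Free R (LinearMap.ker f) := ih (LinearMap.ker f) h1
    have hzK : ∀ c : LinearMap.ker f, z • c = 0 := by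
      intro c
      ext i
      simp only [Submodule.coe_smul, Finsupp.smul_apply, smul_eq_mul, ZeroMemClass.coe_zero,
        Finsupp.zero_apply]
      rw [mul_comm]
      exact hmz _ (hker c c.2 i)
    have hKbot : LinearMap.ker f = ⊥ := by
      by_contra hne
      let b := Module.Free.chooseBasis R (LinearMap.ker f)
      have hidx : Nonempty (Module.Free.ChooseBasisIndex R (LinearMap.ker f)) := by
        by_contra hem
        rw [not_nonempty_iff] at hem
        have hsub : Subsingleton (LinearMap.ker f) := b.repr.toEquiv.subsingleton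
        exact hne ((Submodule.subsingleton_iff_eq_bot).mp hsub)
      obtain ⟨i⟩ := hidx
      have h2 : b.repr (z • b i) = Finsupp.single i z := by
        rw [map_smul, b.repr_self, Finsupp.smul_single, smul_eq_mul, mul_one]
      rw [hzK (b i), map_zero] at h2
      have := congrArg (fun t => t i) h2
      simp at this
      exact hz this.symm
    exact Module.Free.of_equiv
      (LinearEquiv.ofBijective f ⟨LinearMap.ker_eq_bot.mp hKbot, surjf⟩)

end Groth.Agent.Lib.helper26.SerreConv

namespace Groth.Agent.Lib.helper26.SerreConv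

variable {R : Type u} [CommRing R] [IsLocalRing R] [IsNoetherianRing R]

/-- If `k` has finite projective dimension and `m ≠ 0` then there is a nonzerodivisor in
`m \ m²`. -/
theorem exists_regular_not_mem_sq (hne : maximalIdeal R ≠ ⊥) (n : ℕ)
    (h : HasProjectiveDimensionLE (ModuleCat.of R (ResidueField R)) n) :
    ∃ x ∈ maximalIdeal R, x ∉ maximalIdeal R ^ 2 ∧ IsSMulRegular R x := by
  classical
  by_contra hcon
  push Not at hcon
  have hfin : (associatedPrimes R R).Finite := associatedPrimes.finite R R
  let s : Finset (Ideal R) := insert (maximalIdeal R ^ 2) hfin.toFinset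
  have hsub : ((maximalIdeal R : Ideal R) : Set R) ⊆ ⋃ i ∈ (↑s : Set (Ideal R)), (id i : Ideal R) := by
    intro x hx
    by_cases hx2 : x ∈ maximalIdeal R ^ 2
    · refine Set.mem_biUnion (x := maximalIdeal R ^ 2) ?_ hx2
      simp [s]
    · have hnreg := hcon x hx hx2
      have hmem : x ∈ ({r : R | IsSMulRegular R r}ᶜ : Set R) := hnreg
      rw [← biUnion_associatedPrimes_eq_compl_regular R R] at hmem
      obtain ⟨p, hp, hxp⟩ := Set.mem_iUnion₂.mp hmem
      refine Set.mem_biUnion (x := p) ?_ hxp
      simp [s, hp]
  have hprime : ∀ i ∈ s, i ≠ maximalIdeal R ^ 2 → i ≠ maximalIdeal R ^ 2 → (id i : Ideal R).IsPrime := by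
    intro i hi hne1 _
    simp only [s, Finset.mem_insert, Set.Finite.mem_toFinset] at hi
    rcases hi with rfl | hi
    · exact absurd rfl hne1
    · exact hi.isPrime
  obtain ⟨p, hps, hmp⟩ := (Ideal.subset_union_prime (maximalIdeal R ^ 2) (maximalIdeal R ^ 2)
    hprime).mp hsub
  simp only [s, Finset.mem_insert, Set.Finite.mem_toFinset] at hps
  have hfg : (maximalIdeal R).FG := IsNoetherian.noetherian _
  rcases hps with rfl | hp
  · -- `m ≤ m²`, Nakayama
    have hle : maximalIdeal R ≤ maximalIdeal R • maximalIdeal R := by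
      intro y hy
      have := hmp hy
      rwa [id, pow_two] at this
    exact hne (Submodule.eq_bot_of_le_smul_of_le_jacobson_bot (maximalIdeal R) (maximalIdeal R)
      hfg hle (IsLocalRing.jacobson_eq_maximalIdeal ⊥ bot_ne_top).ge)
  · -- `m ≤ p = ann z`
    obtain ⟨hpp, z, hz⟩ := isAssociatedPrime_iff.mp hp
    have hz0 : z ≠ 0 := by
      rintro rfl
      apply hpp.ne_top
      rw [hz, Ideal.eq_top_iff_one, Submodule.mem_colon_singleton]
      simp
    have hmz : ∀ a ∈ maximalIdeal R, a * z = 0 := by
      intro a ha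
      have : a ∈ (⊥ : Submodule R R).colon {z} := hz ▸ hmp ha
      rw [Submodule.mem_colon_singleton] at this
      simpa using this
    have hfree : Module.Free R (ResidueField R) :=
      free_of_hasProjectiveDimensionLE_of_socle z hz0 hmz n (ResidueField R) h
    -- a nonzero element of `m` kills `k`, contradiction with freeness
    obtain ⟨a, ha, ha0⟩ := Submodule.exists_mem_ne_zero_of_ne_bot hne
    let b := Module.Free.chooseBasis R (ResidueField R)
    have hidx : Nonempty (Module.Free.ChooseBasisIndex R (ResidueField R)) := by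
      by_contra hem
      rw [not_nonempty_iff] at hem
      have hsub : Subsingleton (ResidueField R) := b.repr.toEquiv.subsingleton
      exact not_subsingleton _ hsub
    obtain ⟨i⟩ := hidx
    have h2 : b.repr (a • b i) = Finsupp.single i a := by
      rw [map_smul, b.repr_self, Finsupp.smul_single, smul_eq_mul, mul_one]
    have h3 : a • b i = 0 := by
      rw [Algebra.smul_def]
      have : algebraMap R (ResidueField R) a = 0 := (residue_eq_zero_iff a).mpr ha
      rw [this, zero_mul]
    rw [h3, map_zero] at h2
    have := congrArg (fun t => t i) h2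
    simp at this
    exact ha0 this.symm

end Groth.Agent.Lib.helper26.SerreConv

namespace Groth.Agent.Lib.helper26.SerreConv

variable {R : Type u} [CommRing R] [IsLocalRing R] [IsNoetherianRing R]

omit [IsNoetherianRing R] in
/-- A functional on the maximal ideal, valued in the residue field, taking value `1` at a given
element outside `m²`. -/
theorem exists_functional (x : R) (hx : x ∈ maximalIdeal R) (hx2 : x ∉ maximalIdeal R ^ 2) :
    ∃ φ : maximalIdeal R →ₗ[R] ResidueField R, φ ⟨x, hx⟩ = 1 := by
  let v : CotangentSpace R := (maximalIdeal R).toCotangent ⟨x, hx⟩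
  have hv : v ≠ 0 := by
    intro h
    exact hx2 ((Ideal.toCotangent_eq_zero _ _).mp h)
  let f : ResidueField R →ₗ[ResidueField R] CotangentSpace R :=
    LinearMap.toSpanSingleton (ResidueField R) (CotangentSpace R) v
  have hf : LinearMap.ker f = ⊥ := by
    rw [LinearMap.ker_eq_bot]
    intro a b hab
    have : (a - b) • v = 0 := by
      rw [sub_smul, sub_eq_zero]
      exact hab
    rcases smul_eq_zero.mp this with h | h
    · exact sub_eq_zero.mp h
    · exact absurd h hv
  obtain ⟨g, hg⟩ := LinearMap.exists_leftInverse_of_injective f hf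
  refine ⟨(g.restrictScalars R) ∘ₗ (maximalIdeal R).toCotangent, ?_⟩
  have := congrArg (fun t => t 1) hg
  simpa [f] using this

end Groth.Agent.Lib.helper26.SerreConv

namespace Groth.Agent.Lib.helper26.SerreConv

variable {R : Type u} [CommRing R] [IsLocalRing R] [IsNoetherianRing R]

omit [IsNoetherianRing R] in
theorem isLocalRing_quot (x : R) (hx : x ∈ maximalIdeal R) : IsLocalRing (R ⧸ Ideal.span {x}) := by
  have hne : Ideal.span {x} ≠ ⊤ := by
    intro h
    have : (1 : R) ∈ Ideal.span {x} := h ▸ Submodule.mem_top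
    have h2 : Ideal.span {x} ≤ maximalIdeal R := (Ideal.span_singleton_le_iff_mem _).mpr hx
    exact (maximalIdeal.isMaximal R).ne_top ((Ideal.eq_top_iff_one _).mpr (h2 this))
  have := Ideal.Quotient.nontrivial_iff.mpr hne
  exact IsLocalRing.of_surjective' (Ideal.Quotient.mk _) Ideal.Quotient.mk_surjective

omit [IsNoetherianRing R] in
/-- The residue field of `R/(x)` is a retract of `m/xm` as an `R/(x)`-module when `x ∈ m \ m²`. -/
theorem exists_retract (x : R) (hx : x ∈ maximalIdeal R) (hx2 : x ∉ maximalIdeal R ^ 2)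
    [IsLocalRing (R ⧸ Ideal.span {x})] :
    Nonempty (Retract (ModuleCat.of (R ⧸ Ideal.span {x}) (ResidueField (R ⧸ Ideal.span {x})))
      (ModuleCat.of (R ⧸ Ideal.span {x}) (QuotSMulTop x (maximalIdeal R)))) := by
  let R' := R ⧸ Ideal.span {x}
  let K' := ResidueField R'
  let Q := QuotSMulTop x (maximalIdeal R)
  have hπ : Function.Surjective (Ideal.Quotient.mk (Ideal.span {x})) := Ideal.Quotient.mk_surjective
  have hloc : IsLocalHom (Ideal.Quotient.mk (Ideal.span {x})) := IsLocalHom.of_surjective _ hπ
  obtain ⟨φ, hφ⟩ := exists_functional x hx hx2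
  -- θ : k → K'
  have hθle : (maximalIdeal R : Submodule R R) ≤ LinearMap.ker (Algebra.linearMap R K') := by
    intro a ha
    rw [LinearMap.mem_ker, Algebra.linearMap_apply]
    show residue R' (Ideal.Quotient.mk _ a) = 0
    rw [residue_eq_zero_iff]
    intro hu
    exact ha ((isUnit_map_iff (Ideal.Quotient.mk (Ideal.span {x})) a).mp hu)
  let θ : ResidueField R →ₗ[R] K' := Submodule.liftQ (maximalIdeal R) (Algebra.linearMap R K') hθle
  have hθ : ∀ a : R, θ (residue R a) = algebraMap R K' a := fun a => rfl
  have hθ1 : θ 1 = 1 := by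
    rw [← map_one (residue R), hθ, map_one]
  let ψ : maximalIdeal R →ₗ[R] K' := θ ∘ₗ φ
  have hψx : ψ ⟨x, hx⟩ = 1 := by
    show θ (φ ⟨x, hx⟩) = 1
    rw [hφ, hθ1]
  have hψle : (x • (⊤ : Submodule R (maximalIdeal R))) ≤ LinearMap.ker ψ := by
    intro y hy
    obtain ⟨y', -, rfl⟩ := (Submodule.mem_smul_pointwise_iff_exists _ _ _).mp hy
    rw [LinearMap.mem_ker, map_smul, Algebra.smul_def]
    have : algebraMap R K' x = 0 := by
      show residue R' (Ideal.Quotient.mk _ x) = 0
      have h0 : Ideal.Quotient.mk (Ideal.span {x}) x = 0 :=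
        Ideal.Quotient.eq_zero_iff_mem.mpr (Ideal.subset_span rfl)
      rw [h0, map_zero]
    rw [this, zero_mul]
  let r₀ : Q →ₗ[R] K' := Submodule.liftQ _ ψ hψle
  let r : Q →ₗ[R'] K' := r₀.extendScalarsOfSurjective hπ
  -- i : K' → Q
  let q0 : Q := Submodule.Quotient.mk ⟨x, hx⟩
  have hile : (maximalIdeal R' : Submodule R' R') ≤ LinearMap.ker (LinearMap.toSpanSingleton R' Q q0) := by
    intro a' ha'
    obtain ⟨a, rfl⟩ := hπ a'
    have ha : a ∈ maximalIdeal R := by
      intro hu
      exact ha' (hu.map _)
    rw [LinearMap.mem_ker, LinearMap.toSpanSingleton_apply]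
    show (Ideal.Quotient.mk (Ideal.span {x}) a) • q0 = 0
    have h1 : (Ideal.Quotient.mk (Ideal.span {x}) a) • q0 = a • q0 := by
      rw [← Ideal.Quotient.algebraMap_eq, algebraMap_smul]
    rw [h1]
    show a • (Submodule.Quotient.mk ⟨x, hx⟩ : Q) = 0
    rw [← Submodule.Quotient.mk_smul, Submodule.Quotient.mk_eq_zero]
    refine (Submodule.mem_smul_pointwise_iff_exists _ _ _).mpr ⟨⟨a, ha⟩, Submodule.mem_top, ?_⟩
    ext
    simp [mul_comm]
  let i : K' →ₗ[R'] Q := Submodule.liftQ (maximalIdeal R') (LinearMap.toSpanSingleton R' Q q0) hile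
  have hri : r ∘ₗ i = LinearMap.id := by
    have hi : ∀ a' : R', i (residue R' a') = a' • q0 := fun a' => rfl
    have hr : r q0 = 1 := hψx
    ext y
    obtain ⟨a', rfl⟩ := residue_surjective y
    rw [LinearMap.comp_apply, hi, map_smul, hr, LinearMap.id_apply, Algebra.smul_def, mul_one]
    rfl
  have hret : ModuleCat.ofHom i ≫ ModuleCat.ofHom r = 𝟙 (ModuleCat.of R' K') := by
    rw [← ModuleCat.ofHom_comp, hri]
    rfl
  exact ⟨⟨ModuleCat.ofHom i, ModuleCat.ofHom r, hret⟩⟩

end Groth.Agent.Lib.helper26.SerreConv

namespace Groth.Agent.Lib.helper26.SerreConv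

variable {R : Type u} [CommRing R] [IsLocalRing R] [IsNoetherianRing R]

theorem step (hne : maximalIdeal R ≠ ⊥) (n : ℕ)
    (h : HasProjectiveDimensionLE (ModuleCat.of R (ResidueField R)) n) :
    ∃ x ∈ maximalIdeal R, x ∈ nonZeroDivisors R ∧ ∃ (_ : IsLocalRing (R ⧸ Ideal.span {x})),
      HasProjectiveDimensionLE (ModuleCat.of (R ⧸ Ideal.span {x})
        (ResidueField (R ⧸ Ideal.span {x}))) n := by
  obtain ⟨x, hx, hx2, hreg⟩ := exists_regular_not_mem_sq hne n h
  have hloc := isLocalRing_quot x hx
  refine ⟨x, hx, ?_, hloc, ?_⟩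
  · have : IsRegular x := isLeftRegular_iff_isRegular.mp hreg
    exact this.mem_nonZeroDivisors
  · have hex : Function.Exact (Submodule.subtype (maximalIdeal R))
        (Submodule.mkQ (maximalIdeal R)) := by
      intro y
      simp [Ideal.Quotient.eq_zero_iff_mem]
    let S : ShortComplex (ModuleCat.{u} R) :=
      ModuleCat.shortComplexOfCompEqZero (Submodule.subtype (maximalIdeal R))
        (Submodule.mkQ (maximalIdeal R)) hex.linearMap_comp_eq_zero
    have hS : S.ShortExact := ModuleCat.shortComplex_shortExact S hex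
      (maximalIdeal R).injective_subtype (Submodule.mkQ_surjective _)
    have proj : Projective S.X₂ := by
      show Projective (ModuleCat.of R R)
      rw [← IsProjective.iff_projective]
      infer_instance
    have h' : HasProjectiveDimensionLT S.X₃ (n + 2) := by
      have : HasProjectiveDimensionLT S.X₃ (n + 1) := h
      exact hasProjectiveDimensionLT_of_ge _ (n + 1) (n + 2) (by omega)
    have hm : HasProjectiveDimensionLT S.X₁ (n + 1) :=
      (hS.hasProjectiveDimensionLT_X₃_iff n proj).mp h'
    have hregm : IsSMulRegular (maximalIdeal R) x := hreg.submodule _ _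
    have hq := Groth.Agent.Lib.helper26.PDReg.hasProjectiveDimensionLE_quot x hreg n
      (maximalIdeal R) hregm hm
    obtain ⟨ret⟩ := exists_retract x hx hx2
    exact ret.hasProjectiveDimensionLT (n + 1)

omit [IsNoetherianRing R] in
theorem isRegularLocalRing_of_maximalIdeal_eq_bot [IsNoetherianRing R]
    (hm : maximalIdeal R = ⊥) : IsRegularLocalRing R := by
  apply IsRegularLocalRing.of_spanFinrank_maximalIdeal_le
  rw [hm]
  have : (⊥ : Ideal R).spanFinrank = 0 := by
    rw [Submodule.spanFinrank_eq_zero_iff_eq_bot Submodule.fg_bot]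
  rw [this]
  exact_mod_cast ringKrullDim_nonneg_of_nontrivial

theorem aux_le (a : WithBot ℕ∞) (d : ℕ) (h : a + 1 ≤ ((d + 1 : ℕ) : WithBot ℕ∞)) :
    a ≤ (d : WithBot ℕ∞) := by
  induction a with
  | bot => exact bot_le
  | coe e =>
    induction e with
    | top =>
      exfalso
      have : ((⊤ : ℕ∞) : WithBot ℕ∞) + 1 = ((⊤ : ℕ∞) : WithBot ℕ∞) := by
        rw [← WithBot.coe_one, ← WithBot.coe_add, top_add]
      rw [this] at h
      have h2 : (⊤ : ℕ∞) ≤ ((d + 1 : ℕ) : ℕ∞) := by exact_mod_cast h
      simp at h2
    | coe m =>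
      have h2 : m + 1 ≤ d + 1 := by exact_mod_cast h
      have : m ≤ d := by omega
      exact_mod_cast this

/-- **Serre's converse**: a Noetherian local ring whose residue field has finite projective
dimension is regular. -/
theorem isRegularLocalRing_of_pd (d : ℕ) : ∀ (R : Type u) [CommRing R] [IsLocalRing R]
    [IsNoetherianRing R], ringKrullDim R ≤ (d : WithBot ℕ∞) → ∀ n : ℕ,
    HasProjectiveDimensionLE (ModuleCat.of R (ResidueField R)) n → IsRegularLocalRing R := by
  induction d with
  | zero =>
    intro R _ _ _ hd n h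
    by_cases hm : maximalIdeal R = ⊥
    · exact isRegularLocalRing_of_maximalIdeal_eq_bot hm
    · exfalso
      obtain ⟨x, hx, hnzd, hloc, h'⟩ := step hm n h
      have h1 := ringKrullDim_quotient_succ_le_of_nonZeroDivisor hnzd
      have h2 : (0 : WithBot ℕ∞) ≤ ringKrullDim (R ⧸ Ideal.span {x}) :=
        ringKrullDim_nonneg_of_nontrivial
      have h3 : (0 : WithBot ℕ∞) + 1 ≤ ((0 : ℕ) : WithBot ℕ∞) :=
        (add_le_add_left h2 1).trans (h1.trans hd)
      have h4 : (1 : ℕ) ≤ 0 := by exact_mod_cast h3
      omega
  | succ d ih =>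
    intro R _ _ _ hd n h
    by_cases hm : maximalIdeal R = ⊥
    · exact isRegularLocalRing_of_maximalIdeal_eq_bot hm
    · obtain ⟨x, hx, hnzd, hloc, h'⟩ := step hm n h
      have h1 := ringKrullDim_quotient_succ_le_of_nonZeroDivisor hnzd
      have h3 : ringKrullDim (R ⧸ Ideal.span {x}) ≤ (d : WithBot ℕ∞) :=
        aux_le _ d (h1.trans hd)
      have := ih (R ⧸ Ideal.span {x}) h3 n h'
      exact Groth.Agent.S0560.result R x hx hnzd

end Groth.Agent.Lib.helper26.SerreConv

namespace Groth.Agent.Lib.helper26.SerreConv

/-- Serre's converse, convenient form. -/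
theorem isRegularLocalRing_of_hasProjectiveDimensionLT (R : Type u) [CommRing R] [IsLocalRing R]
    [IsNoetherianRing R] (n : ℕ)
    (h : HasProjectiveDimensionLT (ModuleCat.of R (ResidueField R)) n) : IsRegularLocalRing R := by
  have hd : ringKrullDim R ≤ (((maximalIdeal R).spanFinrank : ℕ) : WithBot ℕ∞) :=
    ringKrullDim_le_spanFinrank_maximalIdeal R
  exact isRegularLocalRing_of_pd _ R hd n (hasProjectiveDimensionLT_of_ge _ n (n + 1) (by omega))

end Groth.Agent.Lib.helper26.SerreConv
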