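import Mathlib
import Groth.Agent.Lib.Helper26.Depth5
import Groth.Agent.Lib.Helper26.SerreConverse

/-!
# Depth theory, part 6 (helper26): the Auslander–Buchsbaum formula
-/

set_option autoImplicit false
universe u

open CategoryTheory Abelian RingTheory.Sequence LocCoh IsLocalRing

namespace Groth.Agent.Lib.helper26.Depth

section zeromap

variable {A : Type u} [CommRing A] [IsNoetherianRing A] [IsLocalRing A]

/-- A map from a projective module with image in `m F` induces zero on `Ext^i(N, -)` whenever `m`
kills `N`. -/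
lemma ext_comp_eq_zero_of_range_le {K F : Type u} [AddCommGroup K] [Module A K]
    [Module.Projective A K] [AddCommGroup F] [Module A F] (g : K →ₗ[A] F)
    (hg : LinearMap.range g ≤ maximalIdeal A • (⊤ : Submodule A F)) (N : ModuleCat.{u} A)
    (hN : maximalIdeal A ≤ Module.annihilator A N) (i : ℕ) (z : Ext N (ModuleCat.of A K) i) :
    z.comp (Ext.mk₀ (ModuleCat.ofHom g)) (add_zero i) = 0 := by
  classical
  obtain ⟨s, hs⟩ := (IsNoetherian.noetherian (maximalIdeal A) : (maximalIdeal A).FG)
  let ψ : (s → F) →ₗ[A] F := ∑ j : s, (j.1 : A) • LinearMap.proj j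
  have hψ : ∀ v : s → F, ψ v = ∑ j : s, (j.1 : A) • v j := by
    intro v
    simp [ψ, LinearMap.sum_apply]
  have hrange : LinearMap.range g ≤ LinearMap.range ψ := by
    refine hg.trans ?_
    rw [Submodule.smul_le]
    intro r hr f _
    rw [← hs] at hr
    obtain ⟨c, rfl⟩ := Submodule.mem_span_finset'.mp hr
    refine ⟨fun j => c j • f, ?_⟩
    rw [hψ, Finset.sum_smul]
    refine Finset.sum_congr rfl fun j _ => ?_
    rw [smul_smul, smul_eq_mul, mul_comm]
  obtain ⟨l, hl⟩ := Module.projective_lifting_property (LinearMap.rangeRestrict ψ)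
      (LinearMap.codRestrict (LinearMap.range ψ) g (fun k => hrange (LinearMap.mem_range_self g k)))
      (LinearMap.surjective_rangeRestrict ψ)
  have hl' : ∀ k, ψ (l k) = g k := by
    intro k
    have := congrArg (fun h => ((h k : LinearMap.range ψ) : F)) hl
    simpa using this
  have hof : ModuleCat.ofHom g =
      ∑ j : s, (j.1 : A) • ModuleCat.ofHom ((LinearMap.proj j : (s → F) →ₗ[A] F) ∘ₗ l) := by
    apply ModuleCat.hom_ext
    rw [ModuleCat.hom_ofHom, ModuleCat.hom_sum]
    ext k
    rw [← hl' k, hψ, LinearMap.sum_apply]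
    refine Finset.sum_congr rfl fun j _ => ?_
    simp
  rw [hof, Ext.mk₀_sum, Ext.comp_sum]
  refine Finset.sum_eq_zero fun j _ => ?_
  rw [Ext.mk₀_smul, Ext.comp_smul]
  refine smul_ext_eq_zero_of_mem_annihilator_left (hN ?_) _
  rw [← hs]
  exact Submodule.subset_span j.2

end zeromap


section AB

variable {A : Type u} [CommRing A] [IsNoetherianRing A] [IsLocalRing A]

omit [IsNoetherianRing A] in
lemma maximalIdeal_smul_top_ne_top (M : Type u) [AddCommGroup M] [Module A M] [Module.Finite A M]
    [Nontrivial M] : maximalIdeal A • (⊤ : Submodule A M) ≠ ⊤ :=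
  (Submodule.top_ne_ideal_smul_of_le_jacobson_annihilator
    (IsLocalRing.maximalIdeal_le_jacobson _)).symm

lemma depth_ne_top (M : Type u) [AddCommGroup M] [Module A M] [Module.Finite A M]
    [Nontrivial M] : depth A M ≠ ⊤ :=
  idealDepth_ne_top _ M (maximalIdeal_smul_top_ne_top M)

omit [IsNoetherianRing A] in
lemma maximalIdeal_le_annihilator_residue :
    maximalIdeal A ≤ Module.annihilator A (ModuleCat.of A (A ⧸ maximalIdeal A)) := by
  change _ ≤ Module.annihilator A (A ⧸ maximalIdeal A)
  rw [Ideal.annihilator_quotient]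

lemma depth_free (F : Type u) [AddCommGroup F] [Module A F] [Module.Free A F]
    [Module.Finite A F] [Nontrivial F] : depth A F = depth A A :=
  idealDepth_free (maximalIdeal A) F

omit [IsNoetherianRing A] in
/-- the kernel of a minimal presentation lies in `m F`. -/
lemma ker_le_smul_top {ι : Type u} [Fintype ι] {M : Type u} [AddCommGroup M] [Module A M]
    (f : (ι →₀ A) →ₗ[A] M) (hker : ∀ c ∈ LinearMap.ker f, ∀ i, c i ∈ maximalIdeal A) :
    LinearMap.range (LinearMap.ker f).subtype ≤
      maximalIdeal A • (⊤ : Submodule A (ι →₀ A)) := by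
  classical
  rintro _ ⟨c, rfl⟩
  have hc := hker c.1 c.2
  have hsum : (c.1 : ι →₀ A) = ∑ i, (c.1 i) • Finsupp.single i (1 : A) := by
    ext j
    simp
  change (c.1 : ι →₀ A) ∈ _
  rw [hsum]
  exact Submodule.sum_mem _ fun i _ => Submodule.smul_mem_smul (hc i) Submodule.mem_top

/-- the inclusion of the kernel of a minimal presentation induces zero on `Ext(k, -)` when the
kernel is projective. -/
lemma ext_comp_ker_subtype_eq_zero {ι : Type u} [Fintype ι] {M : Type u} [AddCommGroup M]
    [Module A M] (f : (ι →₀ A) →ₗ[A] M)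
    (hker : ∀ c ∈ LinearMap.ker f, ∀ i, c i ∈ maximalIdeal A)
    [Module.Projective A (LinearMap.ker f)] (i : ℕ)
    (z : Ext (ModuleCat.of A (A ⧸ maximalIdeal A)) (ModuleCat.of A (LinearMap.ker f)) i) :
    z.comp (Ext.mk₀ (ModuleCat.ofHom (LinearMap.ker f).subtype)) (add_zero i) = 0 := by
  have h1 := ker_le_smul_top f hker
  have h2 := maximalIdeal_le_annihilator_residue (A := A)
  have := @ext_comp_eq_zero_of_range_le A _ _ _ (LinearMap.ker f) (ι →₀ A) _ _ _ _ _
    (LinearMap.ker f).subtype h1 (ModuleCat.of A (A ⧸ maximalIdeal A)) h2 i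
  exact this z

/-- Auslander–Buchsbaum for `pd M = 1` (kernel of a minimal presentation is free). -/
lemma auslander_buchsbaum_pd_one {ι : Type u} [Fintype ι] (M : Type u) [AddCommGroup M]
    [Module A M] [Module.Finite A M] [Nontrivial M] (f : (ι →₀ A) →ₗ[A] M)
    (surjf : Function.Surjective f)
    (hker : ∀ c ∈ LinearMap.ker f, ∀ i, c i ∈ maximalIdeal A)
    [Module.Free A (LinearMap.ker f)] [Nontrivial (LinearMap.ker f)] :
    depth A A = 1 + depth A M := by
  let S := f.shortComplexKer
  have hS : S.ShortExact := LinearMap.shortExact_shortComplexKer surjf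
  have hFnt : Nontrivial (ι →₀ A) := surjf.nontrivial
  obtain ⟨t, ht⟩ := ENat.ne_top_iff_exists.mp (depth_ne_top (A := A) A)
  have hF : depth A (ι →₀ A) = t := by rw [depth_free, ← ht]
  have hK : depth A (LinearMap.ker f) = t := by rw [depth_free, ← ht]
  have hKext := (idealDepth_eq_iff_ext (maximalIdeal A) (LinearMap.ker f) t).mp hK
  have hFext := (idealDepth_eq_iff_ext (maximalIdeal A) (ι →₀ A) t).mp hF
  have hzero := ext_comp_ker_subtype_eq_zero f hker
  -- `t ≥ 1`
  have htpos : 0 < t := by
    by_contra h0
    have h0' : t = 0 := by omega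
    rw [h0'] at hKext
    have hnt0 := hKext.2
    obtain ⟨z, hz⟩ := exists_ne (0 : Ext (ModuleCat.of A (A ⧸ maximalIdeal A))
      (ModuleCat.of A (LinearMap.ker f)) 0)
    have := hS.mono_f
    have hinj := Ext.postcomp_mk₀_injective_of_mono
      (ModuleCat.of A (A ⧸ maximalIdeal A)) S.f
    apply hz
    apply hinj
    rw [map_zero]
    exact hzero 0 z
  obtain ⟨t', rfl⟩ : ∃ t', t = t' + 1 := ⟨t - 1, by omega⟩
  have hM : idealDepth (maximalIdeal A) M = (t' : ℕ) := by
    rw [idealDepth_eq_iff_ext]
    constructor
    · intro i hi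
      exact subsingleton_ext_X₃ hS _ i (hFext.1 i (by omega)) (hKext.1 (i + 1) (by omega))
    · have hnt1 := hKext.2
      obtain ⟨z, hz⟩ := exists_ne (0 : Ext (ModuleCat.of A (A ⧸ maximalIdeal A))
        (ModuleCat.of A (LinearMap.ker f)) (t' + 1))
      obtain ⟨z₃, hz₃⟩ := Ext.covariant_sequence_exact₁ _ hS z (hzero (t' + 1) z) rfl
      refine ⟨z₃, 0, ?_⟩
      rintro rfl
      apply hz
      rw [← hz₃]
      exact Ext.zero_comp _ t' hS.extClass (t' + 1) rfl
  rw [← ht]
  change _ = 1 + idealDepth (maximalIdeal A) M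
  rw [hM]
  push_cast
  ring

/-- Auslander–Buchsbaum, the step `pd K = e ≥ 1` to `pd M = e + 1` (numerics). -/
lemma auslander_buchsbaum_step {ι : Type u} [Fintype ι] (M : Type u) [AddCommGroup M]
    [Module A M] [Module.Finite A M] [Nontrivial M] (f : (ι →₀ A) →ₗ[A] M)
    (surjf : Function.Surjective f) [Nontrivial (LinearMap.ker f)] (e' : ℕ)
    (hIH : depth A A = ((e' + 1 : ℕ) : ℕ∞) + depth A (LinearMap.ker f)) :
    depth A A = ((e' + 1 + 1 : ℕ) : ℕ∞) + depth A M := by
  have hFnt : Nontrivial (ι →₀ A) := surjf.nontrivial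
  obtain ⟨t, ht⟩ := ENat.ne_top_iff_exists.mp (depth_ne_top (A := A) A)
  have hF : depth A (ι →₀ A) = t := by rw [depth_free, ← ht]
  obtain ⟨dm, hdm⟩ := ENat.ne_top_iff_exists.mp (depth_ne_top (A := A) M)
  obtain ⟨dk, hdk⟩ := ENat.ne_top_iff_exists.mp (depth_ne_top (A := A) (LinearMap.ker f))
  rw [← ht, ← hdk] at hIH
  have hIH' : t = e' + 1 + dk := by exact_mod_cast hIH
  have h3 := min_le_idealDepth_X₃ (maximalIdeal A) (N' := LinearMap.ker f)
    (LinearMap.ker f).subtype f
    (LinearMap.ker f).injective_subtype surjf (LinearMap.exact_subtype_ker_map f)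
  have h1 := min_le_idealDepth_X₁ (maximalIdeal A) (N' := LinearMap.ker f)
    (LinearMap.ker f).subtype f
    (LinearMap.ker f).injective_subtype surjf (LinearMap.exact_subtype_ker_map f)
  have hF' : idealDepth (maximalIdeal A) (ι →₀ A) = (t : ℕ∞) := hF
  have hK' : idealDepth (maximalIdeal A) (LinearMap.ker f) = (dk : ℕ∞) := hdk.symm
  have hM' : idealDepth (maximalIdeal A) M = (dm : ℕ∞) := hdm.symm
  rw [hF', hK', hM'] at h3 h1
  have h3' : t ≤ dm ∨ dk ≤ dm + 1 := by
    rcases min_le_iff.mp h3 with h | h
    · left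
      exact_mod_cast h
    · right
      rw [tsub_le_iff_right] at h
      exact_mod_cast h
  have h1' : t ≤ dk ∨ dm + 1 ≤ dk := by
    rcases min_le_iff.mp h1 with h | h
    · left
      exact_mod_cast h
    · right
      exact_mod_cast h
  have : t = e' + 1 + 1 + dm := by omega
  rw [← ht, ← hdm, this]
  push_cast
  ring

/-- **Auslander–Buchsbaum formula**. -/
theorem auslander_buchsbaum (e : ℕ) : ∀ (M : Type u) [AddCommGroup M] [Module A M]
    [Module.Finite A M] [Nontrivial M],
    projectiveDimension (ModuleCat.of A M) = (e : WithBot ℕ∞) →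
      depth A A = (e : ℕ∞) + depth A M := by
  induction e with
  | zero =>
    intro M _ _ _ _ he
    have he' : projectiveDimension (ModuleCat.of A M) = 0 := by exact_mod_cast he
    obtain ⟨hproj, -⟩ := (projectiveDimension_eq_zero_iff _).mp he'
    have hproj' : Module.Projective A M := (IsProjective.iff_projective M).mpr hproj
    have hflat : Module.Flat A M := Module.Flat.of_projective
    have hfree : Module.Free A M := Module.free_of_flat_of_isLocalRing
    rw [depth_free M]
    simp
  | succ e ih =>
    intro M _ _ _ _ he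
    classical
    obtain ⟨ι, hι, f, surjf, hker⟩ :=
      Groth.Agent.Lib.helper26.SerreConv.exists_minimal_presentation (R := A) M
    let S := f.shortComplexKer
    have hS : S.ShortExact := LinearMap.shortExact_shortComplexKer surjf
    have proj : Projective S.X₂ := ModuleCat.projective_of_categoryTheory_projective S.X₂
    -- projective dimension of the kernel
    have hle : HasProjectiveDimensionLT (ModuleCat.of A M) (e + 2) := by
      rw [← projectiveDimension_lt_iff, he]
      exact_mod_cast Nat.lt_succ_self (e + 1)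
    have hnlt : ¬ HasProjectiveDimensionLT (ModuleCat.of A M) (e + 1) := by
      rw [← projectiveDimension_ge_iff, he]
    have hKle : HasProjectiveDimensionLT (ModuleCat.of A (LinearMap.ker f)) (e + 1) :=
      (hS.hasProjectiveDimensionLT_X₃_iff e proj).mp hle
    have hKnlt : ¬ HasProjectiveDimensionLT (ModuleCat.of A (LinearMap.ker f)) e := by
      intro hK
      cases e with
      | zero =>
        rw [hasProjectiveDimensionLT_zero_iff_isZero] at hK
        have hsub : Subsingleton (LinearMap.ker f) :=
          ModuleCat.subsingleton_of_isZero hK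
        have hinj : Function.Injective f := by
          rw [← LinearMap.ker_eq_bot]
          exact Submodule.subsingleton_iff_eq_bot.mp hsub
        have hMfree : Module.Free A M :=
          Module.Free.of_equiv (LinearEquiv.ofBijective f ⟨hinj, surjf⟩)
        have : Projective (ModuleCat.of A M) :=
          ModuleCat.projective_of_categoryTheory_projective _
        exact hnlt (projective_iff_hasProjectiveDimensionLT_one.mp this)
      | succ e' =>
        exact hnlt ((hS.hasProjectiveDimensionLT_X₃_iff e' proj).mpr hK)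
    have hKpd : projectiveDimension (ModuleCat.of A (LinearMap.ker f)) = (e : WithBot ℕ∞) :=
      le_antisymm ((projectiveDimension_le_iff _ e).mpr hKle)
        ((projectiveDimension_ge_iff _ e).mpr hKnlt)
    have hKnt : Nontrivial (LinearMap.ker f) := by
      by_contra hnt
      rw [not_nontrivial_iff_subsingleton] at hnt
      have hz : Limits.IsZero (ModuleCat.of A (LinearMap.ker f)) :=
        ModuleCat.isZero_of_subsingleton _
      rw [← hasProjectiveDimensionLT_zero_iff_isZero] at hz
      exact hKnlt (hasProjectiveDimensionLT_of_ge _ 0 e (Nat.zero_le e))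
    cases e with
    | zero =>
      have hKpd0 : projectiveDimension (ModuleCat.of A (LinearMap.ker f)) = 0 := by
        exact_mod_cast hKpd
      obtain ⟨hKproj0, -⟩ := (projectiveDimension_eq_zero_iff _).mp hKpd0
      have hKproj : Module.Projective A (LinearMap.ker f) :=
        (IsProjective.iff_projective (LinearMap.ker f)).mpr hKproj0
      have hKflat : Module.Flat A (LinearMap.ker f) := Module.Flat.of_projective
      have hKfree : Module.Free A (LinearMap.ker f) :=
        Module.free_of_flat_of_isLocalRing (R := A) (P := LinearMap.ker f)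
      have := auslander_buchsbaum_pd_one M f surjf hker
      rw [this]
      simp
    | succ e' =>
      exact auslander_buchsbaum_step M f surjf e' (ih (LinearMap.ker f) hKpd)

end AB

end Groth.Agent.Lib.helper26.Depth
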