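import Mathlib
import Groth.Agent.Lib.Helper26.Depth6
import Groth.Agent.Lib.Helper26.ProjDimRegular

/-!
# Depth theory, part 7 (helper26): regular local rings are Cohen–Macaulay; MCM modules are free
-/

set_option autoImplicit false
universe u

open CategoryTheory Abelian RingTheory.Sequence LocCoh IsLocalRing

namespace Groth.Agent.Lib.helper26.Depth

section reg

variable (A : Type u) [CommRing A]

theorem depth_self_le_ringKrullDim [IsNoetherianRing A] [IsLocalRing A] :
    ((depth A A : ℕ∞) : WithBot ℕ∞) ≤ ringKrullDim A := by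
  have := depth_le_supportDim (A := A) A
  rwa [Module.supportDim_self_eq_ringKrullDim] at this

/-- a regular local ring has `depth = dim` (it is Cohen–Macaulay). -/
theorem depth_eq_ringKrullDim_of_isRegularLocalRing [IsRegularLocalRing A] :
    ((depth A A : ℕ∞) : WithBot ℕ∞) = ringKrullDim A := by
  apply le_antisymm (depth_self_le_ringKrullDim A)
  obtain ⟨s, hscard, hsspan⟩ :=
    Submodule.FG.exists_span_finset_card_eq_spanFinrank
      (IsNoetherian.noetherian (IsLocalRing.maximalIdeal A))
  set n := (IsLocalRing.maximalIdeal A).spanFinrank with hn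
  let e : Fin n ≃ s := (Finset.equivFinOfCardEq hscard).symm
  let x : Fin n → A := fun i => (e i : A)
  have hrange : Set.range x = (s : Set A) := by
    ext z
    constructor
    · rintro ⟨i, rfl⟩
      exact (e i).2
    · intro hz
      exact ⟨e.symm ⟨z, hz⟩, by simp [x]⟩
  have hx : Ideal.span (Set.range x) = IsLocalRing.maximalIdeal A := by
    rw [hrange]
    exact hsspan
  have hwr := Groth.Agent.Lib.helper15.isWeaklyRegular_ofFn A n rfl x hx
  have hmem : ∀ r ∈ List.ofFn x, r ∈ maximalIdeal A := by
    intro r hr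
    rw [List.mem_ofFn] at hr
    obtain ⟨i, rfl⟩ := hr
    rw [← hx]
    exact Ideal.subset_span ⟨i, rfl⟩
  have hle := length_le_idealDepth (I := maximalIdeal A) (M := A) hwr hmem
  rw [List.length_ofFn] at hle
  rw [← IsRegularLocalRing.spanFinrank_maximalIdeal]
  change ((n : ℕ∞) : WithBot ℕ∞) ≤ _
  exact WithBot.coe_le_coe.mpr hle

/-- MCM modules over a regular local ring are free. -/
theorem free_of_depth_eq_ringKrullDim [IsRegularLocalRing A] (M : Type u) [AddCommGroup M]
    [Module A M] [Module.Finite A M]
    (h : ((depth A M : ℕ∞) : WithBot ℕ∞) = ringKrullDim A) : Module.Free A M := by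
  by_cases hsub : Subsingleton M
  · exact Module.Free.of_subsingleton A M
  rw [not_subsingleton_iff_nontrivial] at hsub
  -- finite projective dimension
  have h1 := IsRegularLocalRing.spanFinrank_maximalIdeal (R := A)
  have hpd := Groth.Agent.Lib.helper26.PDReg.hasProjectiveDimensionLE_of_isRegularLocalRing
    (maximalIdeal A).spanFinrank A rfl M
  have hne_top : projectiveDimension (ModuleCat.of A M) ≠ ⊤ :=
    (projectiveDimension_ne_top_iff _).mpr ⟨_, hpd⟩
  have hne_bot : projectiveDimension (ModuleCat.of A M) ≠ ⊥ := by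
    rw [Ne, projectiveDimension_eq_bot_iff]
    intro hz
    exact not_subsingleton M (ModuleCat.subsingleton_of_isZero hz)
  obtain ⟨d, hd⟩ := WithBot.ne_bot_iff_exists.mp hne_bot
  have hd_top : d ≠ ⊤ := by
    rintro rfl
    exact hne_top hd.symm
  obtain ⟨e, rfl⟩ := ENat.ne_top_iff_exists.mp hd_top
  have hAB := auslander_buchsbaum e M hd.symm
  -- numerics
  have hle := depth_self_le_ringKrullDim A
  rw [← h, hAB, WithBot.coe_le_coe] at hle
  obtain ⟨dm, hdm⟩ := ENat.ne_top_iff_exists.mp (depth_ne_top (A := A) M)
  rw [← hdm] at hle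
  have hle' : e + dm ≤ dm := by exact_mod_cast hle
  have he0 : e = 0 := by omega
  subst he0
  have hpd0 : projectiveDimension (ModuleCat.of A M) = 0 := by
    rw [← hd]
    rfl
  obtain ⟨hproj, -⟩ := (projectiveDimension_eq_zero_iff _).mp hpd0
  have hproj' : Module.Projective A M := (IsProjective.iff_projective M).mpr hproj
  have hflat : Module.Flat A M := Module.Flat.of_projective
  exact Module.free_of_flat_of_isLocalRing

/-- Over a regular local ring `A` of dimension `n`, `Ext^i(M, A) = 0` for `i < p` when
`dim M + p ≤ n`. -/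
theorem subsingleton_ext_self_of_supportDim_add_le [IsRegularLocalRing A] (M : Type u)
    [AddCommGroup M] [Module A M] [Module.Finite A M] (p : ℕ)
    (hdim : Module.supportDim A M + p ≤ ringKrullDim A) (i : ℕ) (hi : i < p) :
    Subsingleton (Ext (ModuleCat.of A M) (ModuleCat.of A A) i) := by
  by_cases hsub : Subsingleton M
  · exact subsingleton_ext_of_subsingleton_left (ModuleCat.of A M) _ i
  rw [not_subsingleton_iff_nontrivial] at hsub
  have hne_bot : Module.supportDim A M ≠ ⊥ := Module.supportDim_ne_bot_of_nontrivial A M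
  have hne_top : Module.supportDim A M ≠ ⊤ :=
    ne_top_of_le_ne_top ringKrullDim_ne_top (Module.supportDim_le_ringKrullDim A M)
  obtain ⟨d, hd⟩ := WithBot.ne_bot_iff_exists.mp hne_bot
  have hd_top : d ≠ ⊤ := by
    rintro rfl
    exact hne_top hd.symm
  obtain ⟨r, rfl⟩ := ENat.ne_top_iff_exists.mp hd_top
  refine ischebeck A r M (le_of_eq hd.symm) i ?_
  rw [← hd, ← depth_eq_ringKrullDim_of_isRegularLocalRing A] at hdim
  obtain ⟨t, ht⟩ := ENat.ne_top_iff_exists.mp (depth_ne_top (A := A) A)
  rw [← ht] at hdim ⊢
  have hdim' : r + p ≤ t := by exact_mod_cast hdim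
  have : i + r < t := by omega
  exact_mod_cast this

end reg

end Groth.Agent.Lib.helper26.Depth
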