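import Mathlib
import Groth.Agent.Lib.Helper26.Depth7

/-!
# Cohen–Macaulay modules, part 1 (helper26): unmixedness, quotient by a parameter
-/

set_option autoImplicit false
universe u

open CategoryTheory Abelian RingTheory.Sequence LocCoh IsLocalRing

namespace Groth.Agent.Lib.helper26.Depth

section basics

variable {A : Type u} [CommRing A] [IsNoetherianRing A] [IsLocalRing A]
  (M : Type u) [AddCommGroup M] [Module A M] [Module.Finite A M]

omit [Module.Finite A M] in
lemma exists_nat_supportDim [Nontrivial M] :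
    ∃ n : ℕ, Module.supportDim A M = (n : WithBot ℕ∞) := by
  have hne_bot : Module.supportDim A M ≠ ⊥ := Module.supportDim_ne_bot_of_nontrivial A M
  have hne_top : Module.supportDim A M ≠ ⊤ :=
    ne_top_of_le_ne_top ringKrullDim_ne_top (Module.supportDim_le_ringKrullDim A M)
  obtain ⟨d, hd⟩ := WithBot.ne_bot_iff_exists.mp hne_bot
  have hd_top : d ≠ ⊤ := by
    rintro rfl
    exact hne_top hd.symm
  obtain ⟨r, rfl⟩ := ENat.ne_top_iff_exists.mp hd_top
  exact ⟨r, hd.symm⟩

lemma exists_nat_depth [Nontrivial M] : ∃ d : ℕ, depth A M = (d : ℕ∞) := by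
  obtain ⟨d, hd⟩ := ENat.ne_top_iff_exists.mp (depth_ne_top (A := A) M)
  exact ⟨d, hd.symm⟩

omit [IsNoetherianRing A] [Module.Finite A M] in
lemma nontrivial_of_isCohenMacaulayModule (hM : IsCohenMacaulayModule A M) : Nontrivial M := by
  by_contra hnt
  rw [not_nontrivial_iff_subsingleton] at hnt
  unfold IsCohenMacaulayModule at hM
  rw [Module.supportDim_eq_bot_of_subsingleton] at hM
  exact WithBot.bot_ne_coe hM

omit [IsNoetherianRing A] [IsLocalRing A] in
/-- `dim A/p ≤ dim M` for `p ∈ Supp M`. -/
lemma ringKrullDim_quotient_le_supportDim (p : PrimeSpectrum A) (hp : p ∈ Module.support A M) :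
    ringKrullDim (A ⧸ p.asIdeal) ≤ Module.supportDim A M := by
  rw [Module.supportDim_eq_ringKrullDim_quotient_annihilator]
  have hle : Module.annihilator A M ≤ p.asIdeal := Module.mem_support_iff_of_finite.mp hp
  exact ringKrullDim_le_of_surjective (Ideal.Quotient.factor hle)
    (Ideal.Quotient.factor_surjective hle)

omit [IsLocalRing A] [Module.Finite A M] in
lemma mem_support_of_mem_associatedPrimes (p : Ideal A) (hp : p ∈ associatedPrimes A M) :
    ∃ hprime : p.IsPrime, (⟨p, hprime⟩ : PrimeSpectrum A) ∈ Module.support A M := by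
  obtain ⟨hprime, f, hf⟩ := (isAssociatedPrime_iff_exists_injective_linearMap p M).mp hp
  refine ⟨hprime, Module.support_subset_of_injective f hf ?_⟩
  rw [support_quotient_ideal, PrimeSpectrum.mem_zeroLocus]

/-- A Cohen–Macaulay module is unmixed: `dim A/p = dim M` for all `p ∈ Ass M`. -/
theorem ringKrullDim_quotient_eq_supportDim_of_isCohenMacaulayModule
    (hM : IsCohenMacaulayModule A M) (p : Ideal A) (hp : p ∈ associatedPrimes A M) :
    ringKrullDim (A ⧸ p) = Module.supportDim A M := by
  apply le_antisymm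
  · obtain ⟨hprime, hsupp⟩ := mem_support_of_mem_associatedPrimes M p hp
    exact ringKrullDim_quotient_le_supportDim M ⟨p, hprime⟩ hsupp
  · unfold IsCohenMacaulayModule at hM
    rw [hM]
    exact depth_le_ringKrullDim_quotient_of_mem_associatedPrimes M p hp

end basics

section quot

variable {A : Type u} [CommRing A] [IsNoetherianRing A] [IsLocalRing A]
  (M : Type u) [AddCommGroup M] [Module A M] [Module.Finite A M]

/-- the two descriptions of `M/gM`. -/
noncomputable def quotSpanEquiv (g : A) :
    (M ⧸ Ideal.span {g} • (⊤ : Submodule A M)) ≃ₗ[A] QuotSMulTop g M :=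
  Submodule.quotEquivOfEq _ _ (Submodule.ideal_span_singleton_smul g ⊤)

/-- In a CM module, a parameter (element dropping the dimension) is a nonzerodivisor. -/
theorem isSMulRegular_of_supportDim_quotSMulTop (hM : IsCohenMacaulayModule A M) (g : A)
    (hdim : Module.supportDim A (QuotSMulTop g M) + 1 = Module.supportDim A M) :
    IsSMulRegular M g := by
  have hnt := nontrivial_of_isCohenMacaulayModule M hM
  by_contra hreg
  have hmem : g ∈ ⋃ p ∈ associatedPrimes A M, (p : Set A) := by
    rw [biUnion_associatedPrimes_eq_compl_regular A M]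
    exact hreg
  simp only [Set.mem_iUnion, SetLike.mem_coe, exists_prop] at hmem
  obtain ⟨p, hp, hgp⟩ := hmem
  obtain ⟨hprime, hsupp⟩ := mem_support_of_mem_associatedPrimes M p hp
  have hsupp' : (⟨p, hprime⟩ : PrimeSpectrum A) ∈ Module.support A (QuotSMulTop g M) := by
    rw [← (quotSpanEquiv M g).support_eq, Module.support_quotient]
    refine ⟨hsupp, ?_⟩
    rw [PrimeSpectrum.mem_zeroLocus]
    exact (Ideal.span_singleton_le_iff_mem _).mpr hgp
  have h1 := ringKrullDim_quotient_le_supportDim (QuotSMulTop g M) ⟨p, hprime⟩ hsupp'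
  rw [ringKrullDim_quotient_eq_supportDim_of_isCohenMacaulayModule M hM p hp] at h1
  obtain ⟨n, hn⟩ := exists_nat_supportDim (A := A) M
  rw [hn] at h1 hdim
  have hntQ : Nontrivial (QuotSMulTop g M) := by
    rw [← Module.supportDim_ne_bot_iff_nontrivial A]
    intro hbot
    rw [hbot] at h1
    simp at h1
  obtain ⟨k, hk⟩ := exists_nat_supportDim (A := A) (QuotSMulTop g M)
  rw [hk] at h1 hdim
  have h1' : n ≤ k := by exact_mod_cast h1
  have hdim' : k + 1 = n := by exact_mod_cast hdim
  omega

/-- quotient of a CM module by a parameter is CM, with depth dropping by one. -/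
theorem isCohenMacaulayModule_quotSMulTop (hM : IsCohenMacaulayModule A M) (g : A)
    (hg : g ∈ maximalIdeal A)
    (hdim : Module.supportDim A (QuotSMulTop g M) + 1 = Module.supportDim A M) :
    IsCohenMacaulayModule A (QuotSMulTop g M) ∧ depth A (QuotSMulTop g M) + 1 = depth A M := by
  have hreg := isSMulRegular_of_supportDim_quotSMulTop M hM g hdim
  have hdepth : depth A (QuotSMulTop g M) + 1 = depth A M :=
    idealDepth_quotSMulTop_add_one (maximalIdeal A) M g hg hreg
  refine ⟨?_, hdepth⟩
  have hnt := nontrivial_of_isCohenMacaulayModule M hM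
  unfold IsCohenMacaulayModule at hM ⊢
  obtain ⟨n, hn⟩ := exists_nat_supportDim (A := A) M
  obtain ⟨d, hd⟩ := exists_nat_depth (A := A) M
  rw [hn, hd] at hM
  have hnd : n = d := by exact_mod_cast hM
  rw [hn] at hdim
  rw [hd] at hdepth
  have hntQ : Nontrivial (QuotSMulTop g M) := by
    rw [← Module.supportDim_ne_bot_iff_nontrivial A]
    intro hbot
    rw [hbot] at hdim
    simp at hdim
  obtain ⟨k, hk⟩ := exists_nat_supportDim (A := A) (QuotSMulTop g M)
  obtain ⟨e, he⟩ := exists_nat_depth (A := A) (QuotSMulTop g M)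
  rw [hk] at hdim
  rw [he] at hdepth
  have h1 : k + 1 = n := by exact_mod_cast hdim
  have h2 : e + 1 = d := by exact_mod_cast hdepth
  rw [hk, he]
  have : k = e := by omega
  rw [this]
  rfl

end quot

end Groth.Agent.Lib.helper26.Depth
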