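import Mathlib
import Groth.Agent.Lib.Helper26.Depth3

/-!
# Depth theory, part 8 (helper26): quotients by regular sequences, maximal regular sequences
-/

set_option autoImplicit false
universe u

open CategoryTheory Abelian RingTheory.Sequence LocCoh IsLocalRing
open scoped Pointwise

namespace Groth.Agent.Lib.helper26.Depth

variable {R : Type u} [CommRing R] [IsNoetherianRing R] (I : Ideal R)

/-- `depth_I (M/(rs)M) + |rs| = depth_I M` for a weakly regular sequence `rs` in `I`. -/
theorem idealDepth_quot_ofList_add_length (rs : List R) :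
    ∀ (M : Type u) [AddCommGroup M] [Module R M] [Module.Finite R M],
      (∀ r ∈ rs, r ∈ I) → IsWeaklyRegular M rs →
      idealDepth I (M ⧸ (Ideal.ofList rs • ⊤ : Submodule R M)) + rs.length = idealDepth I M := by
  induction rs with
  | nil =>
    intro M _ _ _ _ _
    have hbot : (Ideal.ofList ([] : List R) • ⊤ : Submodule R M) = ⊥ := by
      rw [Ideal.ofList_nil, Submodule.bot_smul]
    rw [idealDepth_congr (Submodule.quotEquivOfEqBot _ hbot)]
    simp
  | cons x rs ih =>
    intro M _ _ _ hmem hreg
    rw [isWeaklyRegular_cons_iff] at hreg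
    have h1 := ih (QuotSMulTop x M) (fun r hr => hmem r (List.mem_cons_of_mem _ hr)) hreg.2
    have h2 := idealDepth_quotSMulTop_add_one I M x (hmem x List.mem_cons_self) hreg.1
    rw [idealDepth_congr (Submodule.quotOfListConsSMulTopEquivQuotSMulTopInner M x rs), ← h2, ← h1,
      List.length_cons]
    push_cast
    ring

variable (M : Type u) [AddCommGroup M] [Module R M] [Module.Finite R M]

/-- a maximal weakly regular sequence in `I` has length `depth_I M`. -/
theorem length_eq_idealDepth_of_maximal (hIM : I • (⊤ : Submodule R M) ≠ ⊤) (rs : List R)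
    (hreg : IsWeaklyRegular M rs) (hmem : ∀ r ∈ rs, r ∈ I)
    (hmax : ∀ r ∈ I, ¬ IsWeaklyRegular M (rs ++ [r])) :
    (rs.length : ℕ∞) = idealDepth I M := by
  have heq := idealDepth_quot_ofList_add_length I rs M hmem hreg
  have hne := idealDepth_ne_top I M hIM
  have hd' : idealDepth I (M ⧸ (Ideal.ofList rs • ⊤ : Submodule R M)) = 0 := by
    by_contra h0
    have h1 : ((1 : ℕ) : ℕ∞) ≤ idealDepth I (M ⧸ (Ideal.ofList rs • ⊤ : Submodule R M)) := by
      have := Order.one_le_iff_pos.mpr (pos_iff_ne_zero.mpr h0)
      exact_mod_cast this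
    have hIM' : I • (⊤ : Submodule R (M ⧸ (Ideal.ofList rs • ⊤ : Submodule R M))) ≠ ⊤ := by
      intro htop
      rw [idealDepth_eq_top_of_smul_top_eq_top I _ htop, top_add] at heq
      exact hne heq.symm
    obtain ⟨l, hlen, hlmem, hlreg⟩ := exists_isWeaklyRegular_of_le hIM' h1
    obtain ⟨r, rfl⟩ := List.length_eq_one_iff.mp hlen
    exact hmax r (hlmem r (by simp)) ((isWeaklyRegular_append_iff M rs [r]).mpr ⟨hreg, hlreg⟩)
  rw [hd', zero_add] at heq
  exact heq

/-- every weakly regular sequence in `I` extends to a maximal one. -/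
theorem exists_maximal_extension (hIM : I • (⊤ : Submodule R M) ≠ ⊤) (rs : List R)
    (hreg : IsWeaklyRegular M rs) (hmem : ∀ r ∈ rs, r ∈ I) :
    ∃ rs' : List R, rs <+: rs' ∧ IsWeaklyRegular M rs' ∧ (∀ r ∈ rs', r ∈ I) ∧
      ∀ r ∈ I, ¬ IsWeaklyRegular M (rs' ++ [r]) := by
  obtain ⟨d, hd⟩ := ENat.ne_top_iff_exists.mp (idealDepth_ne_top I M hIM)
  have hle : rs.length ≤ d := by
    have := length_le_idealDepth (I := I) hreg hmem
    rw [← hd] at this
    exact_mod_cast this
  obtain ⟨k, hk⟩ : ∃ k, rs.length + k = d := ⟨d - rs.length, by omega⟩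
  induction k generalizing rs with
  | zero =>
    refine ⟨rs, List.prefix_refl _, hreg, hmem, fun r hr hreg' => ?_⟩
    have := length_le_idealDepth (I := I) hreg' (by
      intro s hs
      rcases List.mem_append.mp hs with h | h
      · exact hmem s h
      · rw [List.mem_singleton] at h
        exact h ▸ hr)
    rw [← hd, List.length_append, List.length_singleton] at this
    have : rs.length + 1 ≤ d := by exact_mod_cast this
    omega
  | succ k ih =>
    by_cases hex : ∃ r ∈ I, IsWeaklyRegular M (rs ++ [r])
    · obtain ⟨r, hr, hreg'⟩ := hex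
      have hmem' : ∀ s ∈ rs ++ [r], s ∈ I := by
        intro s hs
        rcases List.mem_append.mp hs with h | h
        · exact hmem s h
        · rw [List.mem_singleton] at h
          exact h ▸ hr
      have hlen : (rs ++ [r]).length + k = d := by
        rw [List.length_append, List.length_singleton]
        omega
      obtain ⟨rs', hpre, h1, h2, h3⟩ := ih (rs ++ [r]) hreg' hmem' (by omega) hlen
      exact ⟨rs', (List.prefix_append rs [r]).trans hpre, h1, h2, h3⟩
    · push Not at hex
      exact ⟨rs, List.prefix_refl _, hreg, hmem, hex⟩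

end Groth.Agent.Lib.helper26.Depth
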