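import Mathlib
import Groth.Agent.Lib.Helper26.CM1
import Groth.Agent.Lib.Helper26.Depth8

/-!
# Cohen–Macaulay modules, part 2 (helper26): regular sequences = parts of systems of parameters
-/

set_option autoImplicit false
universe u

open CategoryTheory Abelian RingTheory.Sequence LocCoh IsLocalRing
open scoped Pointwise

namespace Groth.Agent.Lib.helper26.Depth

section

variable {A : Type u} [CommRing A] [IsNoetherianRing A] [IsLocalRing A]

omit [IsNoetherianRing A] in
lemma isCohenMacaulayModule_congr {M N : Type u} [AddCommGroup M] [Module A M] [AddCommGroup N]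
    [Module A N] (e : M ≃ₗ[A] N) (hM : IsCohenMacaulayModule A M) : IsCohenMacaulayModule A N := by
  unfold IsCohenMacaulayModule at hM ⊢
  rw [← Module.supportDim_eq_of_equiv e, hM]
  unfold depth
  rw [idealDepth_congr e]

/-- `dim N ≤ dim N/(xs)N + |xs|` for `xs` in the maximal ideal. -/
theorem supportDim_le_supportDim_quot_ofList_add_length (xs : List A) :
    ∀ (N : Type u) [AddCommGroup N] [Module A N] [Module.Finite A N],
      (∀ x ∈ xs, x ∈ maximalIdeal A) →
      Module.supportDim A N ≤
        Module.supportDim A (N ⧸ (Ideal.ofList xs • ⊤ : Submodule A N)) + xs.length := by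
  induction xs with
  | nil =>
    intro N _ _ _ _
    have hbot : (Ideal.ofList ([] : List A) • ⊤ : Submodule A N) = ⊥ := by
      rw [Ideal.ofList_nil, Submodule.bot_smul]
    rw [Module.supportDim_eq_of_equiv (Submodule.quotEquivOfEqBot _ hbot)]
    simp
  | cons x xs ih =>
    intro N _ _ _ hmem
    have h1 := ih (QuotSMulTop x N) (fun r hr => hmem r (List.mem_cons_of_mem _ hr))
    have h2 := Module.supportDim_le_supportDim_quotSMulTop_succ (M := N)
      (hmem x List.mem_cons_self)
    rw [Module.supportDim_eq_of_equiv
      (Submodule.quotOfListConsSMulTopEquivQuotSMulTopInner N x xs), List.length_cons]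
    refine h2.trans ?_
    have : Module.supportDim A (QuotSMulTop x N) + 1 ≤
        (Module.supportDim A ((QuotSMulTop x N) ⧸
          (Ideal.ofList xs • ⊤ : Submodule A (QuotSMulTop x N))) + xs.length) + 1 := by
      gcongr
    refine this.trans (le_of_eq ?_)
    push_cast
    ring

lemma nontrivial_quot_ofList (xs : List A) (N : Type u) [AddCommGroup N] [Module A N]
    [Module.Finite A N] [Nontrivial N] (hmem : ∀ x ∈ xs, x ∈ maximalIdeal A) :
    Nontrivial (N ⧸ (Ideal.ofList xs • ⊤ : Submodule A N)) := by
  rw [← Module.supportDim_ne_bot_iff_nontrivial A]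
  intro hbot
  have h := supportDim_le_supportDim_quot_ofList_add_length xs N hmem
  rw [hbot, WithBot.bot_add, le_bot_iff] at h
  exact Module.supportDim_ne_bot_of_nontrivial A N h

lemma nontrivial_quotSMulTop (x : A) (N : Type u) [AddCommGroup N] [Module A N]
    [Module.Finite A N] [Nontrivial N] (hmem : x ∈ maximalIdeal A) :
    Nontrivial (QuotSMulTop x N) := by
  rw [← Module.supportDim_ne_bot_iff_nontrivial A]
  intro hbot
  have h := Module.supportDim_le_supportDim_quotSMulTop_succ (M := N) hmem
  rw [hbot, WithBot.bot_add, le_bot_iff] at h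
  exact Module.supportDim_ne_bot_of_nontrivial A N h

/-- the quotient of a CM module by a regular sequence is CM. -/
theorem isCohenMacaulayModule_quot_ofList (M : Type u) [AddCommGroup M] [Module A M]
    [Module.Finite A M] (hM : IsCohenMacaulayModule A M) (xs : List A)
    (hmem : ∀ x ∈ xs, x ∈ maximalIdeal A) (hreg : IsWeaklyRegular M xs) :
    IsCohenMacaulayModule A (M ⧸ (Ideal.ofList xs • ⊤ : Submodule A M)) ∧
      Module.supportDim A (M ⧸ (Ideal.ofList xs • ⊤ : Submodule A M)) + xs.length =
        Module.supportDim A M := by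
  have hnt := nontrivial_of_isCohenMacaulayModule M hM
  have hntQ := nontrivial_quot_ofList xs M hmem
  have hreg' : IsRegular M xs :=
    isRegular_of_mem (I := maximalIdeal A) (maximalIdeal_smul_top_ne_top M) hreg hmem
  have hdim := Module.supportDim_add_length_eq_supportDim_of_isRegular xs hreg'
  refine ⟨?_, hdim⟩
  have hdepth := idealDepth_quot_ofList_add_length (maximalIdeal A) xs M hmem hreg
  unfold IsCohenMacaulayModule at hM ⊢
  unfold depth at hM ⊢
  obtain ⟨n, hn⟩ := exists_nat_supportDim (A := A) M
  obtain ⟨d, hd⟩ := exists_nat_depth (A := A) M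
  obtain ⟨k, hk⟩ := exists_nat_supportDim (A := A) (M ⧸ (Ideal.ofList xs • ⊤ : Submodule A M))
  obtain ⟨e, he⟩ := exists_nat_depth (A := A) (M ⧸ (Ideal.ofList xs • ⊤ : Submodule A M))
  unfold depth at hd he
  rw [hn, hd] at hM
  rw [hn, hk] at hdim
  rw [hd, he] at hdepth
  have h0 : n = d := by exact_mod_cast hM
  have h1 : k + xs.length = n := by exact_mod_cast hdim
  have h2 : e + xs.length = d := by exact_mod_cast hdepth
  rw [hk, he]
  have : k = e := by omega
  rw [this]
  rfl

/-- in a CM module, a sequence cutting the dimension by its length is regular. -/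
theorem isWeaklyRegular_of_supportDim_quot_ofList (xs : List A) :
    ∀ (M : Type u) [AddCommGroup M] [Module A M] [Module.Finite A M],
      IsCohenMacaulayModule A M → (∀ x ∈ xs, x ∈ maximalIdeal A) →
      Module.supportDim A (M ⧸ (Ideal.ofList xs • ⊤ : Submodule A M)) + xs.length =
        Module.supportDim A M → IsWeaklyRegular M xs := by
  induction xs with
  | nil =>
    intro M _ _ _ _ _ _
    exact IsWeaklyRegular.nil A M
  | cons x xs ih =>
    intro M _ _ _ hM hmem hdim
    have hnt := nontrivial_of_isCohenMacaulayModule M hM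
    have hx : x ∈ maximalIdeal A := hmem x List.mem_cons_self
    have hxs : ∀ r ∈ xs, r ∈ maximalIdeal A := fun r hr => hmem r (List.mem_cons_of_mem _ hr)
    have hntN := nontrivial_quotSMulTop x M hx
    have hntQ := nontrivial_quot_ofList xs (QuotSMulTop x M) hxs
    have h1 := supportDim_le_supportDim_quot_ofList_add_length xs (QuotSMulTop x M) hxs
    have h2 := Module.supportDim_le_supportDim_quotSMulTop_succ (M := M) hx
    rw [Module.supportDim_eq_of_equiv
      (Submodule.quotOfListConsSMulTopEquivQuotSMulTopInner M x xs), List.length_cons] at hdim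
    obtain ⟨m0, hm0⟩ := exists_nat_supportDim (A := A) M
    obtain ⟨n0, hn0⟩ := exists_nat_supportDim (A := A) (QuotSMulTop x M)
    obtain ⟨k0, hk0⟩ := exists_nat_supportDim (A := A)
      ((QuotSMulTop x M) ⧸ (Ideal.ofList xs • ⊤ : Submodule A (QuotSMulTop x M)))
    rw [hk0, hm0] at hdim
    rw [hn0, hk0] at h1
    rw [hm0, hn0] at h2
    have g0 : k0 + (xs.length + 1) = m0 := by exact_mod_cast hdim
    have g1 : n0 ≤ k0 + xs.length := by exact_mod_cast h1
    have g2 : m0 ≤ n0 + 1 := by exact_mod_cast h2
    have hdimN : Module.supportDim A (QuotSMulTop x M) + 1 = Module.supportDim A M := by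
      rw [hn0, hm0]
      have : n0 + 1 = m0 := by omega
      exact_mod_cast this
    have hregx := isSMulRegular_of_supportDim_quotSMulTop M hM x hdimN
    have hCMN := (isCohenMacaulayModule_quotSMulTop M hM x hx hdimN).1
    have hdimQ : Module.supportDim A ((QuotSMulTop x M) ⧸
        (Ideal.ofList xs • ⊤ : Submodule A (QuotSMulTop x M))) + xs.length =
        Module.supportDim A (QuotSMulTop x M) := by
      rw [hk0, hn0]
      have : k0 + xs.length = n0 := by omega
      exact_mod_cast this
    exact (isWeaklyRegular_cons_iff M x xs).mpr ⟨hregx, ih (QuotSMulTop x M) hCMN hxs hdimQ⟩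

end

end Groth.Agent.Lib.helper26.Depth
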