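import Mathlib
import Groth.Agent.Lib.Helper26.Depth7

/-!
# Depth theory (helper26): change of rings
-/

set_option autoImplicit false
universe u

open CategoryTheory Abelian RingTheory.Sequence LocCoh IsLocalRing
open scoped Pointwise

namespace Groth.Agent.Lib.helper26.Depth

lemma enat_add_one_cancel {a : ℕ∞} {n : ℕ} (h : a + 1 = ((n + 1 : ℕ) : ℕ∞)) : a = n := by
  induction a with
  | top =>
    rw [top_add] at h
    exact absurd h (ENat.top_ne_natCast _)
  | coe m =>
    have : m + 1 = n + 1 := by exact_mod_cast h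
    have : m = n := by omega
    rw [this]

section zero

variable {R : Type u} [CommRing R] (I : Ideal R) (M : Type u) [AddCommGroup M] [Module R M]

/-- if a nonzero element of `M` is killed by `I` then `depth_I M = 0` (when `IM ≠ M`). -/
lemma idealDepth_eq_zero_of_annihilated (hIM : I • (⊤ : Submodule R M) ≠ ⊤) (m : M) (hm : m ≠ 0)
    (h : ∀ s ∈ I, s • m = 0) : idealDepth I M = 0 := by
  by_contra hne
  have h1 : ((1 : ℕ) : ℕ∞) ≤ idealDepth I M := by
    rw [Nat.cast_one]
    exact Order.one_le_iff_pos.mpr (pos_iff_ne_zero.mpr hne)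
  obtain ⟨rs, hlen, hmem, hreg⟩ := exists_isWeaklyRegular_of_le hIM h1
  match rs, hlen with
  | [s], _ =>
    rw [isWeaklyRegular_singleton_iff] at hreg
    have hs : s ∈ I := hmem s (by simp)
    have : s • m = s • (0 : M) := by rw [h s hs, smul_zero]
    exact hm (hreg this)

variable [IsNoetherianRing R] [Module.Finite R M]

/-- if `depth_I M = 0` (and `IM ≠ M`) there is a nonzero element killed by `I`. -/
lemma exists_ne_zero_annihilated_of_idealDepth_eq_zero (h0 : idealDepth I M = 0) :
    ∃ m : M, m ≠ 0 ∧ ∀ s ∈ I, s • m = 0 := by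
  have h0' : idealDepth I M = ((0 : ℕ) : ℕ∞) := by rw [h0]; rfl
  obtain ⟨-, hnt⟩ := (idealDepth_eq_iff_ext I M 0).mp h0'
  obtain ⟨z, hz⟩ := exists_ne (0 : Ext (ModuleCat.of R (R ⧸ I)) (ModuleCat.of R M) 0)
  obtain ⟨f, rfl⟩ := Ext.mk₀_bijective _ _ |>.2 z
  have hf : f ≠ 0 := by
    rintro rfl
    exact hz (Ext.mk₀_zero _ _)
  have hf' : f.hom ≠ 0 := by
    intro h
    apply hf
    apply ModuleCat.hom_ext
    rw [h]
    rfl
  obtain ⟨y, hy⟩ : ∃ y, f.hom y ≠ 0 := by
    by_contra hcon
    push Not at hcon
    exact hf' (LinearMap.ext hcon)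
  obtain ⟨r, rfl⟩ := Ideal.Quotient.mk_surjective y
  refine ⟨f.hom (Ideal.Quotient.mk I 1), ?_, ?_⟩
  · intro h1
    apply hy
    have : Ideal.Quotient.mk I r = r • Ideal.Quotient.mk I 1 := by
      rw [Algebra.smul_def, map_one, mul_one]
      rfl
    rw [this, map_smul, h1, smul_zero]
  · intro s hs
    rw [← map_smul]
    have : s • Ideal.Quotient.mk I 1 = 0 := by
      rw [Algebra.smul_def, map_one, mul_one]
      exact Ideal.Quotient.eq_zero_iff_mem.mpr hs
    rw [this, map_zero]

end zero

section CR

variable {A B : Type u} [CommRing A] [CommRing B] [Algebra A B] [IsNoetherianRing A]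
  [IsNoetherianRing B] (a : Ideal A) (b : Ideal B) (hab : a.map (algebraMap A B) ≤ b)

omit [IsNoetherianRing A] [IsNoetherianRing B] in
lemma smul_top_restrictScalars (M : Type u) [AddCommGroup M] [Module B M] [Module A M]
    [IsScalarTower A B M] (x : A) :
    (x • (⊤ : Submodule A M) : Submodule A M) =
      ((algebraMap A B x) • (⊤ : Submodule B M) : Submodule B M).restrictScalars A := by
  ext m
  simp only [Submodule.mem_smul_pointwise_iff_exists, Submodule.mem_top, true_and,
    Submodule.restrictScalars_mem]
  constructor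
  · rintro ⟨m', rfl⟩
    exact ⟨m', algebraMap_smul B x m'⟩
  · rintro ⟨m', rfl⟩
    exact ⟨m', (algebraMap_smul B x m').symm⟩

include hab in
/-- the inductive step of the change-of-rings principle for depth. -/
theorem idealDepth_changeOfRings_aux
    (H0 : ∀ (M : Type u) [AddCommGroup M] [Module B M] [Module A M] [IsScalarTower A B M]
      [Module.Finite A M] [Module.Finite B M], a • (⊤ : Submodule A M) ≠ ⊤ →
      idealDepth a M = 0 → idealDepth b M = 0)
    (n : ℕ) : ∀ (M : Type u) [AddCommGroup M] [Module B M] [Module A M] [IsScalarTower A B M]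
      [Module.Finite A M] [Module.Finite B M], a • (⊤ : Submodule A M) ≠ ⊤ →
      idealDepth a M = (n : ℕ∞) → idealDepth b M = (n : ℕ∞) := by
  induction n with
  | zero =>
    intro M _ _ _ _ _ _ hIM h
    exact H0 M hIM h
  | succ n ih =>
    intro M _ _ _ _ _ _ hIM h
    obtain ⟨rs, hlen, hmem, hreg⟩ := exists_isWeaklyRegular_of_le hIM h.ge
    match rs, hlen with
    | x :: rs', _ =>
      rw [isWeaklyRegular_cons_iff] at hreg
      have hxa : x ∈ a := hmem x (by simp)
      have hxreg : IsSMulRegular M x := hreg.1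
      have hxreg' : IsSMulRegular M (algebraMap A B x) := by
        intro m₁ m₂ h12
        apply hxreg
        simpa [algebraMap_smul] using h12
      have hxb : algebraMap A B x ∈ b := hab (Ideal.mem_map_of_mem _ hxa)
      let P : Submodule B M := (algebraMap A B x) • (⊤ : Submodule B M)
      let e : QuotSMulTop x M ≃ₗ[A] (M ⧸ P) :=
        (Submodule.quotEquivOfEq _ _ (smul_top_restrictScalars M x)).trans
          (Submodule.Quotient.restrictScalarsEquiv A P)
      have hfinA : Module.Finite A (M ⧸ P) := Module.Finite.equiv e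
      have h1 := idealDepth_quotSMulTop_add_one a M x hxa hxreg
      rw [h] at h1
      have h2 : idealDepth a (QuotSMulTop x M) = (n : ℕ∞) := enat_add_one_cancel h1
      have h4 : idealDepth a (M ⧸ P) = (n : ℕ∞) := by
        rw [← idealDepth_congr e]
        exact h2
      have hIM' : a • (⊤ : Submodule A (M ⧸ P)) ≠ ⊤ := by
        intro htop
        rw [idealDepth_eq_top_of_smul_top_eq_top a _ htop] at h4
        exact ENat.top_ne_natCast n h4
      have h5 := ih (M ⧸ P) hIM' h4
      have h6 := idealDepth_quotSMulTop_add_one b M (algebraMap A B x) hxb hxreg'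
      rw [← h6]
      change idealDepth b (M ⧸ P) + 1 = _
      rw [h5]
      push_cast
      rfl

include hab in
/-- change-of-rings principle for depth. -/
theorem idealDepth_changeOfRings
    (H0 : ∀ (M : Type u) [AddCommGroup M] [Module B M] [Module A M] [IsScalarTower A B M]
      [Module.Finite A M] [Module.Finite B M], a • (⊤ : Submodule A M) ≠ ⊤ →
      idealDepth a M = 0 → idealDepth b M = 0)
    (M : Type u) [AddCommGroup M] [Module B M] [Module A M] [IsScalarTower A B M]
    [Module.Finite A M] [Module.Finite B M]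
    (H1 : a • (⊤ : Submodule A M) = ⊤ → b • (⊤ : Submodule B M) = ⊤) :
    idealDepth a M = idealDepth b M := by
  by_cases hIM : a • (⊤ : Submodule A M) = ⊤
  · rw [idealDepth_eq_top_of_smul_top_eq_top a M hIM,
      idealDepth_eq_top_of_smul_top_eq_top b M (H1 hIM)]
  · obtain ⟨n, hn⟩ := ENat.ne_top_iff_exists.mp (idealDepth_ne_top a M hIM)
    rw [← hn]
    exact (idealDepth_changeOfRings_aux a b hab H0 n M hIM hn.symm).symm

end CR


section mapIdeal

variable {A B : Type u} [CommRing A] [CommRing B] [Algebra A B] [IsNoetherianRing A]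
  [IsNoetherianRing B] (a : Ideal A)

omit [IsNoetherianRing A] [IsNoetherianRing B] in
lemma smul_top_eq_top_iff_map (M : Type u) [AddCommGroup M] [Module B M] [Module A M]
    [IsScalarTower A B M] :
    a • (⊤ : Submodule A M) = ⊤ ↔ (a.map (algebraMap A B)) • (⊤ : Submodule B M) = ⊤ := by
  have h := Ideal.smul_restrictScalars a (⊤ : Submodule B M)
  rw [Submodule.restrictScalars_top] at h
  rw [← h, Submodule.restrictScalars_eq_top_iff]

omit [IsNoetherianRing A] [IsNoetherianRing B] in
lemma smul_eq_zero_of_mem_map (M : Type u) [AddCommGroup M] [Module B M] [Module A M]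
    [IsScalarTower A B M] (m : M) (h : ∀ r ∈ a, r • m = 0) :
    ∀ s ∈ a.map (algebraMap A B), s • m = 0 := by
  intro s hs
  have hle : a.map (algebraMap A B) ≤
      Module.annihilator B (Submodule.span B {m}) := by
    rw [Ideal.map_le_iff_le_comap]
    intro r hr
    rw [Ideal.mem_comap, Module.mem_annihilator]
    rintro ⟨y, hy⟩
    obtain ⟨c, rfl⟩ := Submodule.mem_span_singleton.mp hy
    ext
    simp only [Submodule.coe_smul, ZeroMemClass.coe_zero]
    rw [smul_comm, algebraMap_smul, h r hr, smul_zero]
  have := Module.mem_annihilator.mp (hle hs) ⟨m, Submodule.mem_span_singleton_self m⟩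
  simpa using congrArg Subtype.val this

/-- depth does not change under extension of the ideal along `A → B` for modules finite over
both rings. -/
theorem idealDepth_map_eq (M : Type u) [AddCommGroup M] [Module B M] [Module A M]
    [IsScalarTower A B M] [Module.Finite A M] [Module.Finite B M] :
    idealDepth a M = idealDepth (a.map (algebraMap A B)) M := by
  refine idealDepth_changeOfRings a (a.map (algebraMap A B)) le_rfl ?_ M
    (smul_top_eq_top_iff_map a M).mp
  intro M' _ _ _ _ _ _ hIM h0
  obtain ⟨m, hm, hkill⟩ := exists_ne_zero_annihilated_of_idealDepth_eq_zero a M' h0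
  refine idealDepth_eq_zero_of_annihilated _ M' ?_ m hm (smul_eq_zero_of_mem_map a M' m hkill)
  exact fun h => hIM ((smul_top_eq_top_iff_map a M').mpr h)

end mapIdeal

end Groth.Agent.Lib.helper26.Depth
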