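import Mathlib
import Groth.Agent.Lib.Helper26.CM2
import Groth.Agent.Lib.Helper26.DepthCR

/-!
# Cohen–Macaulay modules, part 3 (helper26): `depth_I M = dim M - dim M/IM`
-/

set_option autoImplicit false
universe u

open CategoryTheory Abelian RingTheory.Sequence LocCoh IsLocalRing
open scoped Pointwise

namespace Groth.Agent.Lib.helper26.Depth

section

variable {A : Type u} [CommRing A] [IsNoetherianRing A] [IsLocalRing A]

omit [IsLocalRing A] in
/-- if `depth_I N = 0` then `I` lies in an associated prime of `N`. -/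
lemma exists_associatedPrime_ge_of_idealDepth_eq_zero (I : Ideal A) (N : Type u) [AddCommGroup N]
    [Module A N] [Module.Finite A N] (h0 : idealDepth I N = 0) :
    ∃ p ∈ associatedPrimes A N, I ≤ p := by
  obtain ⟨m, hm, hkill⟩ := exists_ne_zero_annihilated_of_idealDepth_eq_zero I N h0
  obtain ⟨P, hP, hle⟩ := exists_le_isAssociatedPrime_of_isNoetherianRing A m hm
  refine ⟨P, hP, fun r hr => hle ?_⟩
  rw [Submodule.mem_colon_singleton, Submodule.mem_bot]
  exact hkill r hr

/-- For a CM module `M` and a proper ideal `I`: `dim M = dim M/IM + depth_I M`. -/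
theorem supportDim_eq_supportDim_quotient_add_idealDepth (I : Ideal A) (hI : I ≠ ⊤) (M : Type u)
    [AddCommGroup M] [Module A M] [Module.Finite A M] (hM : IsCohenMacaulayModule A M) :
    Module.supportDim A M = Module.supportDim A (M ⧸ (I • (⊤ : Submodule A M))) +
      ((idealDepth I M : ℕ∞) : WithBot ℕ∞) := by
  have hnt := nontrivial_of_isCohenMacaulayModule M hM
  have hIm : I ≤ maximalIdeal A := IsLocalRing.le_maximalIdeal hI
  have hIM : I • (⊤ : Submodule A M) ≠ ⊤ := by
    intro htop
    apply maximalIdeal_smul_top_ne_top (A := A) M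
    exact eq_top_iff.mpr (htop.ge.trans (Submodule.smul_mono_left hIm))
  obtain ⟨d, hd⟩ := ENat.ne_top_iff_exists.mp (idealDepth_ne_top I M hIM)
  obtain ⟨xs, hlen, hmem, hreg⟩ := exists_isWeaklyRegular_of_le hIM (le_of_eq hd)
  have hmem' : ∀ x ∈ xs, x ∈ maximalIdeal A := fun x hx => hIm (hmem x hx)
  obtain ⟨hCM, hdim⟩ := isCohenMacaulayModule_quot_ofList M hM xs hmem' hreg
  have hdepth := idealDepth_quot_ofList_add_length I xs M hmem hreg
  have h0 : idealDepth I (M ⧸ (Ideal.ofList xs • ⊤ : Submodule A M)) = 0 := by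
    rw [← hd, hlen] at hdepth
    have hne : idealDepth I (M ⧸ (Ideal.ofList xs • ⊤ : Submodule A M)) ≠ ⊤ := by
      intro htop
      rw [htop, top_add] at hdepth
      exact ENat.top_ne_natCast d hdepth
    obtain ⟨k, hk⟩ := ENat.ne_top_iff_exists.mp hne
    rw [← hk] at hdepth ⊢
    have : k + d = d := by exact_mod_cast hdepth
    have : k = 0 := by omega
    rw [this]
    rfl
  obtain ⟨p, hp, hIp⟩ := exists_associatedPrime_ge_of_idealDepth_eq_zero I _ h0
  have hunm := ringKrullDim_quotient_eq_supportDim_of_isCohenMacaulayModule _ hCM p hp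
  obtain ⟨hprime, hsupp⟩ := mem_support_of_mem_associatedPrimes _ p hp
  -- `p ∈ Supp (M/IM)`
  have hsuppM : (⟨p, hprime⟩ : PrimeSpectrum A) ∈ Module.support A M :=
    Module.support_subset_of_surjective _ (Submodule.mkQ_surjective _) hsupp
  have hsuppQ : (⟨p, hprime⟩ : PrimeSpectrum A) ∈
      Module.support A (M ⧸ (I • (⊤ : Submodule A M))) := by
    rw [Module.support_quotient]
    exact ⟨hsuppM, hIp⟩
  have hge := ringKrullDim_quotient_le_supportDim (M ⧸ (I • (⊤ : Submodule A M))) ⟨p, hprime⟩ hsuppQ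
  -- `dim M/IM ≤ dim M/xsM`
  have hle_sub : (Ideal.ofList xs • ⊤ : Submodule A M) ≤ I • ⊤ := by
    apply Submodule.smul_mono_left
    rw [Ideal.ofList, Ideal.span_le]
    exact fun r hr => hmem r hr
  have hle : Module.supportDim A (M ⧸ (I • (⊤ : Submodule A M))) ≤
      Module.supportDim A (M ⧸ (Ideal.ofList xs • ⊤ : Submodule A M)) :=
    Module.supportDim_le_of_surjective (Submodule.factor hle_sub) (Submodule.factor_surjective hle_sub)
  have heq : Module.supportDim A (M ⧸ (I • (⊤ : Submodule A M))) =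
      Module.supportDim A (M ⧸ (Ideal.ofList xs • ⊤ : Submodule A M)) :=
    le_antisymm hle (hunm ▸ hge)
  rw [heq, ← hdim, ← hd, hlen]
  rfl

end

end Groth.Agent.Lib.helper26.Depth
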