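import Mathlib
import Groth.Agent.Lib.Helper26.CM3

/-!
# Depth theory (helper26): localization
-/

set_option autoImplicit false
universe u

open CategoryTheory Abelian RingTheory.Sequence LocCoh IsLocalRing
open scoped Pointwise

namespace Groth.Agent.Lib.helper26.Depth

section loc

variable {A : Type u} [CommRing A] (p : Ideal A) [p.IsPrime]
  (M : Type u) [AddCommGroup M] [Module A M]

/-- `M_p / x M_p ≅ (M/xM)_p`. -/
noncomputable def localizedQuotSMulTopEquiv (x : A) :
    QuotSMulTop (algebraMap A (Localization.AtPrime p) x) (LocalizedModule p.primeCompl M)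
      ≃ₗ[Localization.AtPrime p] LocalizedModule p.primeCompl (QuotSMulTop x M) :=
  (QuotSMulTop.congr (algebraMap A (Localization.AtPrime p) x)
    (IsLocalizedModule.isBaseChange p.primeCompl (Localization.AtPrime p)
      (LocalizedModule.mkLinearMap p.primeCompl M)).equiv).symm ≪≫ₗ
  (QuotSMulTop.algebraMapTensorEquivTensorQuotSMulTop x M (Localization.AtPrime p)) ≪≫ₗ
  (IsLocalizedModule.isBaseChange p.primeCompl (Localization.AtPrime p)
      (LocalizedModule.mkLinearMap p.primeCompl (QuotSMulTop x M))).equiv

variable [IsNoetherianRing A] [Module.Finite A M]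

/-- `depth (M/xM)_p + 1 = depth M_p` for `x ∈ p` regular on `M`. -/
theorem depth_localization_quotSMulTop (x : A) (hx : x ∈ p) (hreg : IsSMulRegular M x) :
    depth (Localization.AtPrime p) (LocalizedModule p.primeCompl (QuotSMulTop x M)) + 1 =
      depth (Localization.AtPrime p) (LocalizedModule p.primeCompl M) := by
  have hflat : Module.Flat A (Localization.AtPrime p) := IsLocalization.flat _ p.primeCompl
  have hreg' : IsSMulRegular (LocalizedModule p.primeCompl M)
      (algebraMap A (Localization.AtPrime p) x) :=
    IsSMulRegular.of_flat_of_isBaseChange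
      (IsLocalizedModule.isBaseChange p.primeCompl _ (LocalizedModule.mkLinearMap p.primeCompl M))
      hreg
  have hmem : algebraMap A (Localization.AtPrime p) x ∈ maximalIdeal (Localization.AtPrime p) :=
    (IsLocalization.AtPrime.to_map_mem_maximal_iff _ p x).mpr hx
  have h := idealDepth_quotSMulTop_add_one (maximalIdeal (Localization.AtPrime p))
    (LocalizedModule p.primeCompl M) _ hmem hreg'
  unfold depth
  rw [← h, idealDepth_congr (localizedQuotSMulTopEquiv p M x)]

/-- `depth_I M ≤ depth M_p` for `I ≤ p`. -/
theorem idealDepth_le_depth_localization (I : Ideal A) (hI : I ≤ p) :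
    idealDepth I M ≤ depth (Localization.AtPrime p) (LocalizedModule p.primeCompl M) := by
  by_cases hsub : Subsingleton (LocalizedModule p.primeCompl M)
  · unfold depth
    have hsub' : Subsingleton (Submodule (Localization.AtPrime p)
        (LocalizedModule p.primeCompl M)) := (Submodule.subsingleton_iff (Localization.AtPrime p)).mpr hsub
    rw [idealDepth_eq_top_of_smul_top_eq_top (maximalIdeal (Localization.AtPrime p))
      (LocalizedModule p.primeCompl M) (Subsingleton.elim _ _)]
    exact le_top
  · rw [not_subsingleton_iff_nontrivial] at hsub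
    have hIM : I • (⊤ : Submodule A M) ≠ ⊤ := by
      intro htop
      have hp : (⟨p, inferInstance⟩ : PrimeSpectrum A) ∈ Module.support A M := by
        by_contra h
        rw [Module.notMem_support_iff] at h
        exact not_subsingleton _ h
      have hq : (⟨p, inferInstance⟩ : PrimeSpectrum A) ∈
          Module.support A (M ⧸ (I • ⊤ : Submodule A M)) := by
        rw [Module.support_quotient]
        exact ⟨hp, hI⟩
      have hs : Subsingleton (M ⧸ (I • ⊤ : Submodule A M)) :=
        Submodule.Quotient.subsingleton_iff.mpr htop
      rw [Module.support_eq_empty] at hq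
      exact hq
    rw [← ENat.forall_natCast_le_iff_le]
    intro n hn
    obtain ⟨rs, hlen, hmem, hreg⟩ := exists_isWeaklyRegular_of_le hIM hn
    have hreg' := hreg.of_isLocalizedModule (Localization.AtPrime p) p.primeCompl
      (LocalizedModule.mkLinearMap p.primeCompl M)
    have h := length_le_idealDepth (I := maximalIdeal (Localization.AtPrime p)) hreg' (by
      intro r hr
      obtain ⟨a, ha, rfl⟩ := List.mem_map.mp hr
      exact (IsLocalization.AtPrime.to_map_mem_maximal_iff _ p a).mpr (hI (hmem a ha)))
    rw [List.length_map, hlen] at h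
    exact h

end loc

section attained

variable {A : Type u} [CommRing A] [IsNoetherianRing A]

/-- at an associated prime the localization has depth zero. -/
lemma depth_localization_eq_zero_of_mem_associatedPrimes (M : Type u) [AddCommGroup M]
    [Module A M] [Module.Finite A M] (q : Ideal A) (hq : q ∈ associatedPrimes A M) :
    ∃ hprime : q.IsPrime,
      depth (Localization.AtPrime q) (LocalizedModule q.primeCompl M) = 0 := by
  have hprime : q.IsPrime := hq.isPrime
  refine ⟨hprime, ?_⟩
  have _hp := hprime
  have h1 := Module.associatedPrimes.mem_associatedPrimes_atPrime_of_mem_associatedPrimes hq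
  obtain ⟨-, y, hy⟩ := (Submodule.isAssociatedPrime_iff).mp h1
  have hy0 : y ≠ 0 := by
    rintro rfl
    have : (1 : Localization.AtPrime q) ∈ maximalIdeal (Localization.AtPrime q) := by
      rw [hy, Submodule.mem_colon_singleton]
      simp
    exact (maximalIdeal.isMaximal _).ne_top ((Ideal.eq_top_iff_one _).mpr this)
  have hnt : Nontrivial (LocalizedModule q.primeCompl M) := ⟨⟨y, 0, hy0⟩⟩
  refine idealDepth_eq_zero_of_annihilated _ _ (maximalIdeal_smul_top_ne_top _) y hy0 ?_
  intro s hs
  rw [hy, Submodule.mem_colon_singleton, Submodule.mem_bot] at hs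
  exact hs

theorem exists_depth_localization_eq_aux (I : Ideal A) (d : ℕ) :
    ∀ (M : Type u) [AddCommGroup M] [Module A M] [Module.Finite A M],
      I • (⊤ : Submodule A M) ≠ ⊤ → idealDepth I M = d →
      ∃ p : PrimeSpectrum A, I ≤ p.asIdeal ∧
        depth (Localization.AtPrime p.asIdeal) (LocalizedModule p.asIdeal.primeCompl M) = d := by
  induction d with
  | zero =>
    intro M _ _ _ hIM hd
    obtain ⟨q, hq, hIq⟩ := exists_associatedPrime_ge_of_idealDepth_eq_zero I M (by simpa using hd)
    obtain ⟨hprime, h0⟩ := depth_localization_eq_zero_of_mem_associatedPrimes M q hq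
    exact ⟨⟨q, hprime⟩, hIq, by simpa using h0⟩
  | succ d ih =>
    intro M _ _ _ hIM hd
    obtain ⟨rs, hlen, hmem, hreg⟩ := exists_isWeaklyRegular_of_le hIM (le_of_eq hd.symm)
    match rs, hlen with
    | x :: rs', _ =>
      rw [isWeaklyRegular_cons_iff] at hreg
      have hx : x ∈ I := hmem x List.mem_cons_self
      have h1 := idealDepth_quotSMulTop_add_one I M x hx hreg.1
      rw [hd] at h1
      have h2 : idealDepth I (QuotSMulTop x M) = d := by
        have : idealDepth I (QuotSMulTop x M) + 1 = (d : ℕ∞) + 1 := by
          rw [h1]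
          push_cast
          rfl
        exact enat_add_one_cancel this
      have hIM' : I • (⊤ : Submodule A (QuotSMulTop x M)) ≠ ⊤ := by
        intro htop
        rw [idealDepth_eq_top_of_smul_top_eq_top I _ htop] at h2
        exact ENat.top_ne_natCast d h2
      obtain ⟨p, hIp, hp⟩ := ih (QuotSMulTop x M) hIM' h2
      refine ⟨p, hIp, ?_⟩
      rw [← depth_localization_quotSMulTop p.asIdeal M x (hIp hx) hreg.1, hp]
      push_cast
      rfl

/-- the depth of `M` along `I` is attained at some prime containing `I`. -/
theorem exists_depth_localization_eq (I : Ideal A) (M : Type u) [AddCommGroup M] [Module A M]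
    [Module.Finite A M] (hIM : I • (⊤ : Submodule A M) ≠ ⊤) :
    ∃ p : PrimeSpectrum A, I ≤ p.asIdeal ∧
      depth (Localization.AtPrime p.asIdeal) (LocalizedModule p.asIdeal.primeCompl M) =
        idealDepth I M := by
  obtain ⟨d, hd⟩ := ENat.ne_top_iff_exists.mp (idealDepth_ne_top I M hIM)
  obtain ⟨p, h1, h2⟩ := exists_depth_localization_eq_aux I d M hIM hd.symm
  exact ⟨p, h1, by rw [h2, hd]⟩

/-- `depth_I M = inf_{p ⊇ I} depth M_p`. -/
theorem idealDepth_eq_iInf_depth_localization (I : Ideal A) (M : Type u) [AddCommGroup M]
    [Module A M] [Module.Finite A M] :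
    idealDepth I M = ⨅ (p : PrimeSpectrum A) (_ : I ≤ p.asIdeal),
      depth (Localization.AtPrime p.asIdeal) (LocalizedModule p.asIdeal.primeCompl M) := by
  apply le_antisymm
  · exact le_iInf₂ fun p hp => idealDepth_le_depth_localization p.asIdeal M I hp
  · by_cases hIM : I • (⊤ : Submodule A M) = ⊤
    · rw [idealDepth_eq_top_of_smul_top_eq_top I M hIM]
      exact le_top
    · obtain ⟨p, h1, h2⟩ := exists_depth_localization_eq I M hIM
      rw [← h2]
      exact iInf₂_le p h1

end attained

end Groth.Agent.Lib.helper26.Depth
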