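import Mathlib
set_option autoImplicit false
universe u
open CategoryTheory TensorProduct

namespace Groth.Agent.Lib.helper26.PDBC

theorem shortExact_baseChange (A B : Type u) [CommRing A] [CommRing B] [Algebra A B]
    [Module.Flat A B] {P M : Type u} [AddCommGroup P] [Module A P] [AddCommGroup M] [Module A M]
    (f : P →ₗ[A] M) (hf : Function.Surjective f) :
    (ModuleCat.shortComplexOfCompEqZero ((LinearMap.ker f).subtype.baseChange B)
      (f.baseChange B) (by
        rw [← LinearMap.baseChange_comp]
        have : f ∘ₗ (LinearMap.ker f).subtype = 0 := by
          ext x; exact x.2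
        rw [this]; simp)).ShortExact := by
  have hex : Function.Exact (LinearMap.ker f).subtype f := by
    intro x
    simp
  refine { exact := ?_, mono_f := ?_, epi_g := ?_ }
  · rw [ShortComplex.ShortExact.moduleCat_exact_iff_function_exact]
    have := lTensor_exact B hex hf
    exact this
  · rw [ModuleCat.mono_iff_injective]
    exact Module.Flat.lTensor_preserves_injective_linearMap (M := B) (LinearMap.ker f).subtype
      (LinearMap.ker f).injective_subtype
  · rw [ModuleCat.epi_iff_surjective]
    exact LinearMap.lTensor_surjective B hf

theorem hasProjectiveDimensionLE_baseChange (A B : Type u) [CommRing A] [CommRing B] [Algebra A B]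
    [Module.Flat A B] (n : ℕ) (M : Type u) [AddCommGroup M] [Module A M]
    (h : HasProjectiveDimensionLE (ModuleCat.of A M) n) :
    HasProjectiveDimensionLE (ModuleCat.of B (B ⊗[A] M)) n := by
  induction n generalizing M with
  | zero =>
    simp only [HasProjectiveDimensionLE, zero_add] at h ⊢
    rw [← projective_iff_hasProjectiveDimensionLT_one, ← IsProjective.iff_projective] at h ⊢
    infer_instance
  | succ n ih =>
    let P := M →₀ A
    let f : P →ₗ[A] M := Finsupp.linearCombination A id
    have hf : Function.Surjective f := Finsupp.linearCombination_id_surjective A M
    let T := f.shortComplexKer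
    have T_exact := LinearMap.shortExact_shortComplexKer hf
    have proj : Projective T.X₂ := ModuleCat.projective_of_categoryTheory_projective T.X₂
    have h1 := (T_exact.hasProjectiveDimensionLT_X₃_iff n proj).mp h
    have h2 := ih (LinearMap.ker f) h1
    have T'_exact := shortExact_baseChange A B f hf
    have proj' : Projective (ModuleCat.of B (B ⊗[A] P)) := by
      rw [← IsProjective.iff_projective]
      infer_instance
    exact (T'_exact.hasProjectiveDimensionLT_X₃_iff n proj').mpr h2

end Groth.Agent.Lib.helper26.PDBC

namespace Groth.Agent.Lib.helper26.PDBC

theorem projectiveDimension_baseChange_le (A B : Type u) [CommRing A] [CommRing B] [Algebra A B]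
    [Module.Flat A B] (M : Type u) [AddCommGroup M] [Module A M] :
    projectiveDimension (ModuleCat.of B (B ⊗[A] M)) ≤ projectiveDimension (ModuleCat.of A M) := by
  generalize hd : projectiveDimension (ModuleCat.of A M) = d
  induction d with
  | bot =>
    rw [projectiveDimension_eq_bot_iff, ModuleCat.isZero_iff_subsingleton] at hd
    have : Subsingleton M := hd
    rw [le_bot_iff, projectiveDimension_eq_bot_iff, ModuleCat.isZero_iff_subsingleton]
    show Subsingleton (B ⊗[A] M)
    infer_instance
  | coe d =>
    induction d with
    | top => exact le_top
    | coe n =>
      have h : HasProjectiveDimensionLE (ModuleCat.of A M) n := by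
        rw [← projectiveDimension_le_iff, hd]
        exact le_rfl
      have := hasProjectiveDimensionLE_baseChange A B n M h
      rw [← projectiveDimension_le_iff] at this
      exact this

theorem hasProjectiveDimensionLE_of_baseChange (A B : Type u) [CommRing A] [IsNoetherianRing A]
    [CommRing B] [Algebra A B] [Module.FaithfullyFlat A B] (n : ℕ) (M : Type u) [AddCommGroup M]
    [Module A M] [Module.Finite A M]
    (h : HasProjectiveDimensionLE (ModuleCat.of B (B ⊗[A] M)) n) :
    HasProjectiveDimensionLE (ModuleCat.of A M) n := by
  induction n generalizing M with
  | zero =>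
    simp only [HasProjectiveDimensionLE, zero_add] at h ⊢
    rw [← projective_iff_hasProjectiveDimensionLT_one, ← IsProjective.iff_projective] at h ⊢
    have h' : Module.Projective B (B ⊗[A] M) := h
    have hflatB : Module.Flat B (B ⊗[A] M) := Module.Flat.of_projective
    have hflat : Module.Flat A M := Module.Flat.of_flat_tensorProduct A M B
    have hfp : Module.FinitePresentation A M := Module.finitePresentation_of_finite A M
    exact Module.Flat.projective_of_finitePresentation
  | succ n ih =>
    rcases Module.exists_finite_presentation A M with ⟨P, _, _, _, _, f, surjf⟩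
    let T := f.shortComplexKer
    have T_exact := LinearMap.shortExact_shortComplexKer surjf
    have proj : Projective T.X₂ := ModuleCat.projective_of_categoryTheory_projective T.X₂
    have T'_exact := shortExact_baseChange A B f surjf
    have proj' : Projective (ModuleCat.of B (B ⊗[A] P)) := by
      rw [← IsProjective.iff_projective]
      infer_instance
    have h1 := (T'_exact.hasProjectiveDimensionLT_X₃_iff n proj').mp h
    have h2 := ih (LinearMap.ker f) h1
    exact (T_exact.hasProjectiveDimensionLT_X₃_iff n proj).mpr h2

theorem projectiveDimension_baseChange_eq (A B : Type u) [CommRing A] [IsNoetherianRing A]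
    [CommRing B] [Algebra A B] [Module.FaithfullyFlat A B] (M : Type u) [AddCommGroup M]
    [Module A M] [Module.Finite A M] :
    projectiveDimension (ModuleCat.of B (B ⊗[A] M)) = projectiveDimension (ModuleCat.of A M) := by
  refine le_antisymm (projectiveDimension_baseChange_le A B M) ?_
  generalize hd : projectiveDimension (ModuleCat.of B (B ⊗[A] M)) = d
  induction d with
  | bot =>
    rw [projectiveDimension_eq_bot_iff, ModuleCat.isZero_iff_subsingleton] at hd
    have h1 : Subsingleton (B ⊗[A] M) := hd
    rw [Module.FaithfullyFlat.subsingleton_tensorProduct_iff_right] at h1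
    rw [le_bot_iff, projectiveDimension_eq_bot_iff, ModuleCat.isZero_iff_subsingleton]
    exact h1
  | coe d =>
    induction d with
    | top => exact le_top
    | coe n =>
      have h : HasProjectiveDimensionLE (ModuleCat.of B (B ⊗[A] M)) n := by
        rw [← projectiveDimension_le_iff, hd]
        exact le_rfl
      have := hasProjectiveDimensionLE_of_baseChange A B n M h
      rw [← projectiveDimension_le_iff] at this
      exact this

end Groth.Agent.Lib.helper26.PDBC
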