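import Mathlib
import Groth.Agent.Lib.Helper26.DepthLoc
import Groth.Agent.S5765

/-!
# Cohen–Macaulay modules, part 4 (helper26): localization
-/

set_option autoImplicit false
universe u

open CategoryTheory Abelian RingTheory.Sequence LocCoh IsLocalRing
open scoped Pointwise

namespace Groth.Agent.Lib.helper26.Depth

section

variable {A : Type u} [CommRing A] [IsNoetherianRing A] [IsLocalRing A]

omit [IsNoetherianRing A] in
lemma smul_top_ne_top_of_ne_top (I : Ideal A) (hI : I ≠ ⊤) (M : Type u) [AddCommGroup M]
    [Module A M] [Module.Finite A M] [Nontrivial M] : I • (⊤ : Submodule A M) ≠ ⊤ := by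
  intro htop
  apply maximalIdeal_smul_top_ne_top (A := A) M
  exact eq_top_iff.mpr (htop.ge.trans (Submodule.smul_mono_left (IsLocalRing.le_maximalIdeal hI)))

/-- localizations of CM modules at primes of the support are CM, and
`dim M = dim M/pM + dim M_p = dim M/pM + depth_p M`. -/
theorem isCohenMacaulayModule_localization (M : Type u) [AddCommGroup M] [Module A M]
    [Module.Finite A M] (hM : IsCohenMacaulayModule A M) (p : PrimeSpectrum A)
    (hp : p ∈ Module.support A M) :
    IsCohenMacaulayModule (Localization.AtPrime p.asIdeal)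
        (LocalizedModule p.asIdeal.primeCompl M) ∧
      Module.supportDim A M =
        Module.supportDim A (M ⧸ (p.asIdeal • (⊤ : Submodule A M))) +
          Module.supportDim (Localization.AtPrime p.asIdeal)
            (LocalizedModule p.asIdeal.primeCompl M) ∧
      depth (Localization.AtPrime p.asIdeal) (LocalizedModule p.asIdeal.primeCompl M) =
        idealDepth p.asIdeal M := by
  have hnt := nontrivial_of_isCohenMacaulayModule M hM
  have hntp : Nontrivial (LocalizedModule p.asIdeal.primeCompl M) :=
    Module.mem_support_iff.mp hp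
  have hpne : p.asIdeal ≠ ⊤ := p.isPrime.ne_top
  have hpM := smul_top_ne_top_of_ne_top p.asIdeal hpne M
  have hntQ : Nontrivial (M ⧸ (p.asIdeal • (⊤ : Submodule A M))) :=
    Submodule.Quotient.nontrivial_iff.mpr hpM
  have h1 := supportDim_eq_supportDim_quotient_add_idealDepth p.asIdeal hpne M hM
  have h2 := idealDepth_le_depth_localization p.asIdeal M p.asIdeal le_rfl
  have h3 := depth_le_supportDim (A := Localization.AtPrime p.asIdeal)
    (LocalizedModule p.asIdeal.primeCompl M)
  have h4 := Groth.Agent.S5765.result A M p.asIdeal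
  obtain ⟨n, hn⟩ := exists_nat_supportDim (A := A) M
  obtain ⟨k, hk⟩ := exists_nat_supportDim (A := A) (M ⧸ (p.asIdeal • (⊤ : Submodule A M)))
  obtain ⟨l, hl⟩ := exists_nat_supportDim (A := Localization.AtPrime p.asIdeal)
    (LocalizedModule p.asIdeal.primeCompl M)
  obtain ⟨a, ha⟩ := ENat.ne_top_iff_exists.mp (idealDepth_ne_top p.asIdeal M hpM)
  obtain ⟨b, hb⟩ := exists_nat_depth (A := Localization.AtPrime p.asIdeal)
    (LocalizedModule p.asIdeal.primeCompl M)
  rw [hn, hk, ← ha] at h1
  rw [← ha, hb] at h2
  rw [hb, hl] at h3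
  rw [hl, hk, hn] at h4
  have g1 : n = k + a := by exact_mod_cast h1
  have g2 : a ≤ b := by exact_mod_cast h2
  have g3 : b ≤ l := by exact_mod_cast h3
  have g4 : l + k ≤ n := by exact_mod_cast h4
  have e1 : l = b := by omega
  have e2 : a = b := by omega
  refine ⟨?_, ?_, ?_⟩
  · unfold IsCohenMacaulayModule
    rw [hl, hb, e1]
    rfl
  · rw [hn, hk, hl]
    have : n = k + l := by omega
    exact_mod_cast this
  · rw [hb, ← ha, e2]

end

end Groth.Agent.Lib.helper26.Depth
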