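import Mathlib
import Groth.Agent.Lib.Helper24.FlatDepth5
import Groth.Agent.S9808

/-!
# Cohen–Macaulay rings: transport along isomorphisms, one-dimensional domains (helper26)
-/

set_option autoImplicit false
universe u

namespace Groth.Agent.Lib.helper26.CMPoly

open LocCoh IsLocalRing Groth.Agent.Lib.helper26.Depth

/-- a Noetherian local domain of dimension at most one is Cohen–Macaulay. -/
theorem cm_of_isDomain_of_dim_le_one (R : Type u) [CommRing R] [IsDomain R] [IsNoetherianRing R]
    [IsLocalRing R] (h : ringKrullDim R ≤ 1) : IsCohenMacaulayLocalRing R := by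
  refine { supportDim_eq_depth := ?_ }
  have hle : ((depth R R : ℕ∞) : WithBot ℕ∞) ≤ Module.supportDim R R := depth_le_supportDim R
  refine le_antisymm ?_ hle
  rw [Module.supportDim_self_eq_ringKrullDim]
  by_cases hm : maximalIdeal R = ⊥
  · have h0 : ringKrullDim R = 0 := by
      rw [← IsLocalRing.maximalIdeal_height_eq_ringKrullDim, hm, Ideal.height_bot]
      rfl
    rw [h0]
    exact_mod_cast bot_le
  · obtain ⟨x, hx, hx0⟩ := Submodule.exists_mem_ne_zero_of_ne_bot hm
    have hreg : IsSMulRegular R x := fun a b hab => mul_left_cancel₀ hx0 hab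
    have h1 := idealDepth_quotSMulTop_add_one (maximalIdeal R) R x hx hreg
    have h2 : (1 : ℕ∞) ≤ depth R R := by
      change (1 : ℕ∞) ≤ idealDepth (maximalIdeal R) R
      rw [← h1]
      exact le_add_self
    refine h.trans ?_
    exact_mod_cast h2

/-- localizations at corresponding primes of isomorphic rings are isomorphic. -/
noncomputable def localizationEquiv {R S : Type u} [CommRing R] [CommRing S] (e : R ≃+* S)
    (P : Ideal S) [P.IsPrime] :
    Localization.AtPrime (P.comap (e : R →+* S)) ≃+* Localization.AtPrime P :=
  IsLocalization.ringEquivOfRingEquiv (M := (P.comap (e : R →+* S)).primeCompl)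
    (T := P.primeCompl) (Localization.AtPrime (P.comap (e : R →+* S))) (Localization.AtPrime P) e
    (by
      ext y
      constructor
      · rintro ⟨x, hx, rfl⟩
        exact hx
      · intro hy
        refine ⟨e.symm y, ?_, by simp⟩
        change e.symm y ∉ P.comap (e : R →+* S)
        rw [Ideal.mem_comap]
        simpa using hy)

/-- Cohen–Macaulay rings are invariant under ring isomorphisms. -/
theorem isCohenMacaulayRing_of_ringEquiv {R S : Type u} [CommRing R] [CommRing S] (e : R ≃+* S)
    [h : IsCohenMacaulayRing R] : IsCohenMacaulayRing S := by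
  have : IsNoetherianRing S := isNoetherianRing_of_ringEquiv R e
  refine { isCohenMacaulayLocalRing_localization := ?_ }
  intro P hP
  have := h.isCohenMacaulayLocalRing_localization (P.comap (e : R →+* S))
  exact Groth.Agent.S9808.cm_of_ringEquiv (localizationEquiv e P)

end Groth.Agent.Lib.helper26.CMPoly
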