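import Mathlib
import Groth.Agent.Lib.Helper26.CMPoly1

/-!
# Polynomial rings over Cohen–Macaulay rings are Cohen–Macaulay (helper26)
-/

set_option autoImplicit false
universe u

namespace Groth.Agent.Lib.helper26.CMPoly

open LocCoh IsLocalRing Groth.Agent.Lib.helper26.Depth Polynomial TensorProduct

/-- a Noetherian domain of dimension at most one is a Cohen–Macaulay ring. -/
theorem isCohenMacaulayRing_of_isDomain_of_dim_le_one (D : Type u) [CommRing D] [IsDomain D]
    [IsNoetherianRing D] (h : ringKrullDim D ≤ 1) : IsCohenMacaulayRing D := by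
  refine { isCohenMacaulayLocalRing_localization := ?_ }
  intro P hP
  have hdom : IsDomain (Localization.AtPrime P) :=
    IsLocalization.isDomain_localization P.primeCompl_le_nonZeroDivisors
  refine cm_of_isDomain_of_dim_le_one _ ?_
  rw [IsLocalization.AtPrime.ringKrullDim_eq_height P (Localization.AtPrime P)]
  exact (Ideal.height_le_ringKrullDim_of_ne_top hP.ne_top).trans h

/-- the polynomial ring over a field is a Cohen–Macaulay ring. -/
theorem isCohenMacaulayRing_polynomial_field (k : Type u) [Field k] :
    IsCohenMacaulayRing k[X] := by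
  refine isCohenMacaulayRing_of_isDomain_of_dim_le_one _ ?_
  have : Ring.KrullDimLE 1 k[X] := inferInstance
  have h := Ring.krullDimLE_iff.mp this
  exact_mod_cast h

/-- the fibres of `R → R[X]` are Cohen–Macaulay rings. -/
theorem isCohenMacaulayRing_fiber_polynomial (R : Type u) [CommRing R] (p : Ideal R) [p.IsPrime] :
    IsCohenMacaulayRing (p.Fiber R[X]) := by
  have := isCohenMacaulayRing_polynomial_field p.ResidueField
  exact isCohenMacaulayRing_of_ringEquiv
    (polyEquivTensor R p.ResidueField).toRingEquiv

/-- if `R` is a Cohen–Macaulay ring then so is `R[X]`. -/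
theorem isCohenMacaulayRing_polynomial (R : Type u) [CommRing R] [h : IsCohenMacaulayRing R] :
    IsCohenMacaulayRing R[X] := by
  refine { isCohenMacaulayLocalRing_localization := ?_ }
  intro Q hQ
  let p : Ideal R := Q.under R
  have hp : p.IsPrime := inferInstance
  have hlo : Q.LiesOver p := inferInstance
  rw [Groth.Agent.Lib.Helper24.FlatDepth.cm_atPrime_iff R R[X] p Q]
  refine ⟨h.isCohenMacaulayLocalRing_localization p, ?_⟩
  obtain ⟨q, hq, ⟨e⟩⟩ := Groth.Agent.Lib.Helper24.FlatDepth.exists_fibre_prime_equiv R R[X] p Q
  have hF := isCohenMacaulayRing_fiber_polynomial R p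
  have := hF.isCohenMacaulayLocalRing_localization q
  exact Groth.Agent.S9808.cm_of_ringEquiv (R := Localization.AtPrime q) e

/-- if `R` is a Cohen–Macaulay ring then so is `R[x_1, …, x_n]`. -/
theorem isCohenMacaulayRing_mvPolynomial (R : Type u) [CommRing R] [h : IsCohenMacaulayRing R]
    (n : ℕ) : IsCohenMacaulayRing (MvPolynomial (Fin n) R) := by
  induction n with
  | zero =>
    exact isCohenMacaulayRing_of_ringEquiv (MvPolynomial.isEmptyRingEquiv R (Fin 0)).symm
  | succ n ih =>
    have := isCohenMacaulayRing_polynomial (MvPolynomial (Fin n) R)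
    exact isCohenMacaulayRing_of_ringEquiv (MvPolynomial.finSuccEquiv R n).toRingEquiv.symm

end Groth.Agent.Lib.helper26.CMPoly
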