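import Mathlib

/-!
# Primes of `A[X]` over a prime of `A` (helper26)
-/

set_option autoImplicit false
universe u

namespace Groth.Agent.Lib.helper26.DimFormula

open Polynomial

variable {A : Type u} [CommRing A]

/-- the fibre of `Spec A[X] → Spec A` over a prime has Krull dimension at most one. -/
lemma krullDim_fibre_le_one (p : PrimeSpectrum A) :
    Order.krullDim ↑(PrimeSpectrum.comap (algebraMap A A[X]) ⁻¹' {p}) ≤ 1 := by
  rw [Order.krullDim_eq_of_orderIso (PrimeSpectrum.preimageOrderIsoFiber A A[X] p), ← ringKrullDim,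
    ← ringKrullDim_eq_of_ringEquiv (polyEquivTensor A (p.asIdeal.ResidueField)).toRingEquiv]
  have : Ring.KrullDimLE 1 (p.asIdeal.ResidueField)[X] := inferInstance
  have h := Ring.krullDimLE_iff.mp this
  exact_mod_cast h

/-- three primes of `A[X]` forming a chain cannot have the same contraction to `A`. -/
theorem not_chain_of_three (Q₁ Q₂ Q₃ : Ideal A[X]) [Q₁.IsPrime] [Q₂.IsPrime] [Q₃.IsPrime]
    (h12 : Q₁ < Q₂) (h23 : Q₂ < Q₃) (p : Ideal A) [p.IsPrime]
    (h1 : Q₁.comap C = p) (h2 : Q₂.comap C = p) (h3 : Q₃.comap C = p) : False := by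
  let P : PrimeSpectrum A := ⟨p, inferInstance⟩
  let F := ↑(PrimeSpectrum.comap (algebraMap A A[X]) ⁻¹' {P})
  let x₁ : F := ⟨⟨Q₁, inferInstance⟩, by
    exact PrimeSpectrum.ext h1⟩
  let x₂ : F := ⟨⟨Q₂, inferInstance⟩, by
    exact PrimeSpectrum.ext h2⟩
  let x₃ : F := ⟨⟨Q₃, inferInstance⟩, by
    exact PrimeSpectrum.ext h3⟩
  have hx12 : x₁ < x₂ := h12
  have hx23 : x₂ < x₃ := h23
  let s : LTSeries F := (RelSeries.singleton _ x₁).snoc x₂ hx12 |>.snoc x₃ (by
    simpa using hx23)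
  have hlen : s.length = 2 := by simp [s]
  have h := (Order.LTSeries.length_le_krullDim s).trans (krullDim_fibre_le_one P)
  rw [hlen] at h
  have : ((2 : ℕ) : WithBot ℕ∞) ≤ ((1 : ℕ) : WithBot ℕ∞) := h
  have : (2 : ℕ) ≤ 1 := by exact_mod_cast this
  omega

end Groth.Agent.Lib.helper26.DimFormula
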