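import Mathlib
import Groth.Agent.Lib.Helper26.DimFormula1

/-!
# Heights of primes of `A[X]` (helper26)
-/

set_option autoImplicit false
universe u

namespace Groth.Agent.Lib.helper26.DimFormula

open Polynomial

variable {A : Type u} [CommRing A]

lemma comap_map_C (p : Ideal A) : (p.map (C : A →+* A[X])).comap C = p := by
  ext a
  rw [Ideal.mem_comap, Ideal.mem_map_C_iff]
  constructor
  · intro h
    have := h 0
    simpa using this
  · intro ha n
    rw [coeff_C]
    split_ifs
    · exact ha
    · exact p.zero_mem

variable [IsNoetherianRing A]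

/-- `ht (p[X]) = ht p` for a prime `p` of a Noetherian ring. -/
theorem height_map_C (p : Ideal A) [p.IsPrime] : (p.map (C : A →+* A[X])).height = p.height := by
  have hlo : (p.map (C : A →+* A[X])).LiesOver p := ⟨(comap_map_C p).symm⟩
  have h := Ideal.height_eq_height_add_of_liesOver_of_hasGoingDown p (p.map (C : A →+* A[X]))
  rw [h]
  have h0 : Ideal.map (Ideal.Quotient.mk (Ideal.map (algebraMap A A[X]) p))
      (p.map (C : A →+* A[X])) = ⊥ := by
    change Ideal.map (Ideal.Quotient.mk (Ideal.map C p)) (p.map (C : A →+* A[X])) = ⊥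
    exact Ideal.map_quotient_self _
  have hnt : Nontrivial (A[X] ⧸ Ideal.map (algebraMap A A[X]) p) := by
    change Nontrivial (A[X] ⧸ Ideal.map C p)
    exact Ideal.Quotient.nontrivial_iff.mpr (Ideal.IsPrime.ne_top inferInstance)
  rw [h0, Ideal.height_bot, add_zero]

/-- if `q` lies over `p` and `q ≠ p[X]` then `ht q = ht p + 1`. -/
theorem height_eq_add_one (p : Ideal A) [p.IsPrime] (q : Ideal A[X]) [q.IsPrime] [q.LiesOver p]
    (hne : q ≠ p.map C) : q.height = p.height + 1 := by
  have hpq : p.map (C : A →+* A[X]) ≤ q := by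
    rw [Ideal.map_le_iff_le_comap]
    exact le_of_eq (Ideal.LiesOver.over (P := q) (p := p))
  have hlt : p.map (C : A →+* A[X]) < q := lt_of_le_of_ne hpq (Ne.symm hne)
  have h := Ideal.height_eq_height_add_of_liesOver_of_hasGoingDown p q
  rw [h]
  congr 1
  set I : Ideal A[X] := Ideal.map (algebraMap A A[X]) p with hI
  have hIC : I = p.map C := rfl
  have hIq : I ≤ q := hIC ▸ hpq
  set qbar := Ideal.map (Ideal.Quotient.mk I) q with hqbar
  have hqbar_prime : qbar.IsPrime :=
    Ideal.map_isPrime_of_surjective Ideal.Quotient.mk_surjective (by rw [Ideal.mk_ker]; exact hIq)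
  have hcm : ∀ J : Ideal A[X], I ≤ J → (J.map (Ideal.Quotient.mk I)).comap (Ideal.Quotient.mk I) = J := by
    intro J hJ
    rw [Ideal.comap_map_of_surjective _ Ideal.Quotient.mk_surjective, ← RingHom.ker_eq_comap_bot,
      Ideal.mk_ker, sup_eq_left.mpr hJ]
  -- contraction of comaps
  have hover : ∀ J : Ideal (A[X] ⧸ I), J ≤ qbar → (J.comap (Ideal.Quotient.mk I)).comap C = p := by
    intro J hJ
    apply le_antisymm
    · have h1 : J.comap (Ideal.Quotient.mk I) ≤ q := by
        rw [← hcm q hIq]
        exact Ideal.comap_mono hJ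
      have h2 := Ideal.comap_mono (f := (C : A →+* A[X])) h1
      have hq : q.comap (C : A →+* A[X]) = p := (Ideal.over_def q p).symm
      exact h2.trans (le_of_eq hq)
    · intro a ha
      rw [Ideal.mem_comap, Ideal.mem_comap]
      have : (Ideal.Quotient.mk I) (C a) = 0 :=
        Ideal.Quotient.eq_zero_iff_mem.mpr (hIC ▸ Ideal.mem_map_of_mem C ha)
      rw [this]
      exact J.zero_mem
  apply le_antisymm
  · -- `ht qbar ≤ 1`
    have h1 : qbar.height ≤ ((1 : ℕ) : ℕ∞) := by
      rw [Ideal.height_le_iff]
      intro J hJ hJlt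
      have hJ0 : J.height = 0 := by
        rw [Ideal.height_eq_zero_iff]
        refine ⟨⟨hJ, bot_le⟩, ?_⟩
        intro J' hJ' hJ'J
        by_contra hcon
        have hlt' : J' < J := lt_of_le_of_ne hJ'J (fun e => hcon (e ▸ le_rfl))
        have hJ'prime : J'.IsPrime := hJ'.1
        have c1 : (J'.comap (Ideal.Quotient.mk I)).IsPrime := Ideal.comap_isPrime _ _
        have c2 : (J.comap (Ideal.Quotient.mk I)).IsPrime := Ideal.comap_isPrime _ _
        have hs1 : J'.comap (Ideal.Quotient.mk I) < J.comap (Ideal.Quotient.mk I) := by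
          refine lt_of_le_of_ne (Ideal.comap_mono hlt'.le) ?_
          intro e
          have := congrArg (Ideal.map (Ideal.Quotient.mk I)) e
          rw [Ideal.map_comap_of_surjective _ Ideal.Quotient.mk_surjective,
            Ideal.map_comap_of_surjective _ Ideal.Quotient.mk_surjective] at this
          exact hlt'.ne this
        have hs2 : J.comap (Ideal.Quotient.mk I) < q := by
          rw [← hcm q hIq]
          refine lt_of_le_of_ne (Ideal.comap_mono hJlt.le) ?_
          intro e
          have := congrArg (Ideal.map (Ideal.Quotient.mk I)) e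
          rw [Ideal.map_comap_of_surjective _ Ideal.Quotient.mk_surjective,
            Ideal.map_comap_of_surjective _ Ideal.Quotient.mk_surjective] at this
          exact hJlt.ne this
        exact not_chain_of_three _ _ q hs1 hs2 p (hover J' (hlt'.le.trans hJlt.le))
          (hover J hJlt.le) (Ideal.LiesOver.over (P := q) (p := p)).symm
      rw [hJ0]
      exact_mod_cast Nat.zero_lt_one
    exact_mod_cast h1
  · -- `1 ≤ ht qbar`
    have hbot : (⊥ : Ideal (A[X] ⧸ I)).IsPrime := by
      have : (p.map (C : A →+* A[X])).IsPrime := inferInstance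
      have hdom : IsDomain (A[X] ⧸ I) := by
        change IsDomain (A[X] ⧸ p.map C)
        exact Ideal.Quotient.isDomain _
      exact Ideal.isPrime_bot
    have hlt' : (⊥ : Ideal (A[X] ⧸ I)) < qbar := by
      refine lt_of_le_of_ne bot_le ?_
      intro e
      have h1 := hcm q hIq
      rw [← hqbar, ← e, ← RingHom.ker_eq_comap_bot, Ideal.mk_ker] at h1
      exact hlt.ne (hIC ▸ h1)
    have := Ideal.height_add_one_le_of_lt_of_isPrime hlt'
    exact le_trans le_add_self this

end Groth.Agent.Lib.helper26.DimFormula
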