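import Mathlib
import Groth.Agent.Lib.Helper26.DimFormula2

/-!
# The dimension formula for `A[X]` over `A` (helper26)
-/

set_option autoImplicit false
universe u

namespace Groth.Agent.Lib.helper26.DimFormula

open Polynomial

variable {A : Type u} [CommRing A]

/-- `A[X]/p[X]` has transcendence degree one over `A/p`. -/
theorem trdeg_quot_map_C (p : Ideal A) [p.IsPrime]
    [(p.map (C : A →+* A[X])).LiesOver p] :
    Algebra.trdeg (A ⧸ p) (A[X] ⧸ p.map (C : A →+* A[X])) = 1 := by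
  let e : (A ⧸ p)[X] ≃ₐ[A ⧸ p] (A[X] ⧸ p.map (C : A →+* A[X])) :=
    AlgEquiv.ofRingEquiv (f := Ideal.polynomialQuotientEquivQuotientPolynomial p) (by
      intro x
      obtain ⟨a, rfl⟩ := Ideal.Quotient.mk_surjective x
      have h1 : algebraMap (A ⧸ p) (A ⧸ p)[X] (Ideal.Quotient.mk p a)
          = (C a).map (Ideal.Quotient.mk p) := by
        rw [Polynomial.map_C]; rfl
      rw [h1, Ideal.polynomialQuotientEquivQuotientPolynomial_map_mk]
      rfl)
  rw [← e.trdeg_eq]
  exact Polynomial.trdeg_of_isDomain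

lemma aeval_mk_X_map (p : Ideal A) (q : Ideal A[X]) [q.LiesOver p] (f : A[X]) :
    Polynomial.aeval (Ideal.Quotient.mk q X : A[X] ⧸ q) (f.map (Ideal.Quotient.mk p))
      = Ideal.Quotient.mk q f := by
  rw [Polynomial.aeval_def, Polynomial.eval₂_map]
  have h : (algebraMap (A ⧸ p) (A[X] ⧸ q)).comp (Ideal.Quotient.mk p)
      = (Ideal.Quotient.mk q).comp C := by
    ext a
    rfl
  rw [h, ← Polynomial.hom_eval₂, Polynomial.eval₂_C_X]

/-- If `q ≠ p[X]` then `A[X]/q` is algebraic over `A/p`. -/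
theorem isAlgebraic_quot_of_ne (p : Ideal A) [p.IsPrime] (q : Ideal A[X]) [q.IsPrime]
    [q.LiesOver p] (hne : q ≠ p.map C) :
    Algebra.IsAlgebraic (A ⧸ p) (A[X] ⧸ q) := by
  have hpq : p.map (C : A →+* A[X]) ≤ q := by
    rw [Ideal.map_le_iff_le_comap]
    exact le_of_eq (Ideal.LiesOver.over (P := q) (p := p))
  have hlt : p.map (C : A →+* A[X]) < q := lt_of_le_of_ne hpq (Ne.symm hne)
  obtain ⟨f, hfq, hfp⟩ := SetLike.exists_of_lt hlt
  have hx : IsAlgebraic (A ⧸ p) (Ideal.Quotient.mk q X : A[X] ⧸ q) := by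
    refine ⟨f.map (Ideal.Quotient.mk p), ?_, ?_⟩
    · intro h0
      apply hfp
      rw [Ideal.mem_map_C_iff]
      intro n
      have := congrArg (fun g => Polynomial.coeff g n) h0
      simp only [Polynomial.coeff_map, Polynomial.coeff_zero] at this
      exact Ideal.Quotient.eq_zero_iff_mem.mp this
    · rw [aeval_mk_X_map]
      exact Ideal.Quotient.eq_zero_iff_mem.mpr hfq
  have hadj := (Algebra.isAlgebraic_adjoin_singleton_iff (R := A ⧸ p)).mpr hx
  refine ⟨fun b => ?_⟩
  obtain ⟨g, rfl⟩ := Ideal.Quotient.mk_surjective b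
  rw [← aeval_mk_X_map p q g]
  exact hadj _ (Polynomial.aeval_mem_adjoin_singleton _ _)

theorem trdeg_quot_of_ne (p : Ideal A) [p.IsPrime] (q : Ideal A[X]) [q.IsPrime]
    [q.LiesOver p] (hne : q ≠ p.map C) :
    Algebra.trdeg (A ⧸ p) (A[X] ⧸ q) = 0 := by
  have := isAlgebraic_quot_of_ne p q hne
  exact trdeg_eq_zero

/-- The dimension formula for `A[X]` over a Noetherian ring `A`. -/
theorem dimension_formula_polynomial [IsNoetherianRing A]
    (p : Ideal A) [p.IsPrime] (q : Ideal A[X]) [q.IsPrime] [q.LiesOver p] :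
    (p.height : Cardinal.{u}) + 1 = (q.height : Cardinal.{u}) + Algebra.trdeg (A ⧸ p) (A[X] ⧸ q) := by
  by_cases h : q = p.map C
  · subst h
    rw [trdeg_quot_map_C, height_map_C]
  · rw [trdeg_quot_of_ne p q h, height_eq_add_one p q h, add_zero, Cardinal.ofENat_add,
      Cardinal.ofENat_one]

end Groth.Agent.Lib.helper26.DimFormula
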