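import Mathlib
import Groth.Agent.Lib.Helper26.CM4

/-!
# Cohen–Macaulay modules, part 5 (helper26): regular sequences in a prime of the support
-/

set_option autoImplicit false
universe u

open CategoryTheory Abelian RingTheory.Sequence LocCoh IsLocalRing
open scoped Pointwise nonZeroDivisors

namespace Groth.Agent.Lib.helper26.Depth

section dim

variable {A : Type u} [CommRing A]

/-- nested primes with the same finite coheight are equal. -/
lemma eq_of_le_of_ringKrullDim_quotient_eq {p q : Ideal A} [p.IsPrime] [q.IsPrime] (hle : p ≤ q)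
    (h : ringKrullDim (A ⧸ p) = ringKrullDim (A ⧸ q)) (hfin : ringKrullDim (A ⧸ q) ≠ ⊤) :
    p = q := by
  by_contra hne
  have hlt : p < q := lt_of_le_of_ne hle hne
  obtain ⟨a, haq, hap⟩ := Set.exists_of_ssubset hlt
  have hr0 : (Ideal.Quotient.mk p a) ≠ 0 := by
    rw [Ne, Ideal.Quotient.eq_zero_iff_mem]
    exact hap
  have hr : (Ideal.Quotient.mk p a) ∈ (A ⧸ p)⁰ := mem_nonZeroDivisors_of_ne_zero hr0
  have h1 := ringKrullDim_succ_le_of_surjective (Ideal.Quotient.factor hle)
    (Ideal.Quotient.factor_surjective hle) hr (by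
      rw [Ideal.Quotient.factor_mk, Ideal.Quotient.eq_zero_iff_mem]
      exact haq)
  rw [h] at h1
  have hnt : Nontrivial (A ⧸ q) := Ideal.Quotient.nontrivial_iff.mpr (Ideal.IsPrime.ne_top ‹_›)
  have hne_bot : ringKrullDim (A ⧸ q) ≠ ⊥ := by
    intro hbot
    have := ringKrullDim_nonneg_of_nontrivial (R := A ⧸ q)
    rw [hbot] at this
    simp at this
  obtain ⟨d, hd⟩ := WithBot.ne_bot_iff_exists.mp hne_bot
  have hd_top : d ≠ ⊤ := by
    rintro rfl
    exact hfin hd.symm
  obtain ⟨e, rfl⟩ := ENat.ne_top_iff_exists.mp hd_top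
  rw [← hd] at h1
  have : e + 1 ≤ e := by exact_mod_cast h1
  omega

variable (M : Type u) [AddCommGroup M] [Module A M] [Module.Finite A M]

/-- `dim M/pM = dim A/p` for `p ∈ Supp M`. -/
lemma supportDim_quotient_prime_eq (p : PrimeSpectrum A) (hp : p ∈ Module.support A M) :
    Module.supportDim A (M ⧸ (p.asIdeal • (⊤ : Submodule A M))) = ringKrullDim (A ⧸ p.asIdeal) := by
  apply le_antisymm
  · rw [Module.supportDim_eq_ringKrullDim_quotient_annihilator]
    have hle : p.asIdeal ≤ Module.annihilator A (M ⧸ (p.asIdeal • (⊤ : Submodule A M))) := by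
      intro a ha
      rw [Module.mem_annihilator]
      intro m
      obtain ⟨m, rfl⟩ := Submodule.Quotient.mk_surjective _ m
      rw [← Submodule.Quotient.mk_smul, Submodule.Quotient.mk_eq_zero]
      exact Submodule.smul_mem_smul ha Submodule.mem_top
    exact ringKrullDim_le_of_surjective (Ideal.Quotient.factor hle)
      (Ideal.Quotient.factor_surjective hle)
  · apply ringKrullDim_quotient_le_supportDim
    rw [Module.support_quotient]
    refine ⟨hp, ?_⟩
    rw [PrimeSpectrum.mem_zeroLocus]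

end dim

section main

variable {A : Type u} [CommRing A] [IsNoetherianRing A] [IsLocalRing A]
  (M : Type u) [AddCommGroup M] [Module A M] [Module.Finite A M]

/-- in a CM module, `depth_p M = dim M - dim M/pM`. -/
lemma idealDepth_prime_eq (hM : IsCohenMacaulayModule A M) (p : PrimeSpectrum A) (r : ℕ)
    (hr : Module.supportDim A (M ⧸ (p.asIdeal • (⊤ : Submodule A M))) + r =
      Module.supportDim A M) : idealDepth p.asIdeal M = r := by
  have hnt := nontrivial_of_isCohenMacaulayModule M hM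
  have hpne : p.asIdeal ≠ ⊤ := p.isPrime.ne_top
  have hpM := smul_top_ne_top_of_ne_top p.asIdeal hpne M
  have hntQ : Nontrivial (M ⧸ (p.asIdeal • (⊤ : Submodule A M))) :=
    Submodule.Quotient.nontrivial_iff.mpr hpM
  have h1 := supportDim_eq_supportDim_quotient_add_idealDepth p.asIdeal hpne M hM
  obtain ⟨n, hn⟩ := exists_nat_supportDim (A := A) M
  obtain ⟨k, hk⟩ := exists_nat_supportDim (A := A) (M ⧸ (p.asIdeal • (⊤ : Submodule A M)))
  obtain ⟨a, ha⟩ := ENat.ne_top_iff_exists.mp (idealDepth_ne_top p.asIdeal M hpM)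
  rw [hn, hk, ← ha] at h1
  rw [hn, hk] at hr
  have g1 : n = k + a := by exact_mod_cast h1
  have g2 : k + r = n := by exact_mod_cast hr
  rw [← ha]
  have : a = r := by omega
  rw [this]

theorem regular_sequence_in_prime (hM : IsCohenMacaulayModule A M) (p : PrimeSpectrum A)
    (hp : p ∈ Module.support A M) (r : ℕ)
    (hr : Module.supportDim A (M ⧸ (p.asIdeal • (⊤ : Submodule A M))) + r =
      Module.supportDim A M) (xs : List A) (hlen : xs.length = r)
    (hmem : ∀ x ∈ xs, x ∈ p.asIdeal) (hreg : IsWeaklyRegular M xs) :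
    Module.supportDim A (M ⧸ (Ideal.ofList xs • (⊤ : Submodule A M))) =
        Module.supportDim A (M ⧸ (p.asIdeal • (⊤ : Submodule A M))) ∧
      Module.supportDim A (M ⧸ (p.asIdeal • (⊤ : Submodule A M))) = ringKrullDim (A ⧸ p.asIdeal) ∧
      p.asIdeal ∈ associatedPrimes A (M ⧸ (Ideal.ofList xs • (⊤ : Submodule A M))) ∧
      ∀ q ∈ associatedPrimes A (M ⧸ (Ideal.ofList xs • (⊤ : Submodule A M))),
        q ≤ p.asIdeal → q = p.asIdeal := by
  have hnt := nontrivial_of_isCohenMacaulayModule M hM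
  have hpne : p.asIdeal ≠ ⊤ := p.isPrime.ne_top
  have hpm : p.asIdeal ≤ maximalIdeal A := IsLocalRing.le_maximalIdeal hpne
  have hpM := smul_top_ne_top_of_ne_top p.asIdeal hpne M
  have hntQ : Nontrivial (M ⧸ (p.asIdeal • (⊤ : Submodule A M))) :=
    Submodule.Quotient.nontrivial_iff.mpr hpM
  have hmem' : ∀ x ∈ xs, x ∈ maximalIdeal A := fun x hx => hpm (hmem x hx)
  have hntN := nontrivial_quot_ofList xs M hmem'
  obtain ⟨hCM, hdim⟩ := isCohenMacaulayModule_quot_ofList M hM xs hmem' hreg
  have hdepth := idealDepth_quot_ofList_add_length p.asIdeal xs M hmem hreg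
  have hdp := idealDepth_prime_eq M hM p r hr
  -- (a)
  have ha : Module.supportDim A (M ⧸ (Ideal.ofList xs • (⊤ : Submodule A M))) =
      Module.supportDim A (M ⧸ (p.asIdeal • (⊤ : Submodule A M))) := by
    obtain ⟨n, hn⟩ := exists_nat_supportDim (A := A) M
    obtain ⟨k, hk⟩ := exists_nat_supportDim (A := A) (M ⧸ (p.asIdeal • (⊤ : Submodule A M)))
    obtain ⟨l, hl⟩ := exists_nat_supportDim (A := A)
      (M ⧸ (Ideal.ofList xs • (⊤ : Submodule A M)))
    rw [hn, hk] at hr
    rw [hn, hl, hlen] at hdim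
    have g1 : k + r = n := by exact_mod_cast hr
    have g2 : l + r = n := by exact_mod_cast hdim
    rw [hl, hk]
    have : l = k := by omega
    rw [this]
  have hb := supportDim_quotient_prime_eq M p hp
  have hfinq : ∀ q : Ideal A, ringKrullDim (A ⧸ q) ≠ ⊤ := fun q =>
    ne_top_of_le_ne_top ringKrullDim_ne_top (ringKrullDim_quotient_le q)
  have hfin : ringKrullDim (A ⧸ p.asIdeal) ≠ ⊤ := hfinq _
  -- depth_p N = 0
  have h0 : idealDepth p.asIdeal (M ⧸ (Ideal.ofList xs • ⊤ : Submodule A M)) = 0 := by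
    rw [hdp, hlen] at hdepth
    have hne : idealDepth p.asIdeal (M ⧸ (Ideal.ofList xs • ⊤ : Submodule A M)) ≠ ⊤ := by
      intro htop
      rw [htop, top_add] at hdepth
      exact ENat.top_ne_natCast r hdepth
    obtain ⟨k, hk⟩ := ENat.ne_top_iff_exists.mp hne
    rw [← hk] at hdepth ⊢
    have : k + r = r := by exact_mod_cast hdepth
    have : k = 0 := by omega
    rw [this]
    rfl
  have hunm : ∀ q ∈ associatedPrimes A (M ⧸ (Ideal.ofList xs • (⊤ : Submodule A M))),
      ringKrullDim (A ⧸ q) = ringKrullDim (A ⧸ p.asIdeal) := by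
    intro q hq
    rw [ringKrullDim_quotient_eq_supportDim_of_isCohenMacaulayModule _ hCM q hq, ha, hb]
  refine ⟨ha, hb, ?_, ?_⟩
  · obtain ⟨q, hq, hpq⟩ := exists_associatedPrime_ge_of_idealDepth_eq_zero p.asIdeal _ h0
    have hqprime : q.IsPrime := hq.isPrime
    have := eq_of_le_of_ringKrullDim_quotient_eq hpq (hunm q hq).symm (hfinq q)
    rw [this]
    exact hq
  · intro q hq hqp
    have hqprime : q.IsPrime := hq.isPrime
    exact eq_of_le_of_ringKrullDim_quotient_eq hqp (hunm q hq) hfin

end main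

end Groth.Agent.Lib.helper26.Depth
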