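import Mathlib
import Groth.Agent.Lib.Helper26.CM5

/-!
# Depth theory (helper26): localization, part 2
-/

set_option autoImplicit false
universe u

open CategoryTheory Abelian RingTheory.Sequence LocCoh IsLocalRing
open scoped Pointwise

namespace Groth.Agent.Lib.helper26.Depth

section loc

variable {A : Type u} [CommRing A] (p : Ideal A) [p.IsPrime]

/-- localization of a linear equivalence. -/
noncomputable def localizedEquiv {M N : Type u} [AddCommGroup M] [Module A M] [AddCommGroup N]
    [Module A N] (e : M ≃ₗ[A] N) :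
    LocalizedModule p.primeCompl M ≃ₗ[Localization.AtPrime p] LocalizedModule p.primeCompl N :=
  (IsLocalizedModule.isBaseChange p.primeCompl (Localization.AtPrime p)
      (LocalizedModule.mkLinearMap p.primeCompl M)).equiv.symm ≪≫ₗ
  (TensorProduct.AlgebraTensorModule.congr (LinearEquiv.refl (Localization.AtPrime p)
    (Localization.AtPrime p)) e) ≪≫ₗ
  (IsLocalizedModule.isBaseChange p.primeCompl (Localization.AtPrime p)
      (LocalizedModule.mkLinearMap p.primeCompl N)).equiv

variable [IsNoetherianRing A]

/-- `dim (M/xM)_p + 1 = dim M_p` for `x ∈ p` regular on `M`. -/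
theorem supportDim_localization_quotSMulTop (M : Type u) [AddCommGroup M] [Module A M]
    [Module.Finite A M] (x : A) (hx : x ∈ p) (hreg : IsSMulRegular M x) :
    Module.supportDim (Localization.AtPrime p) (LocalizedModule p.primeCompl (QuotSMulTop x M)) + 1 =
      Module.supportDim (Localization.AtPrime p) (LocalizedModule p.primeCompl M) := by
  have hflat : Module.Flat A (Localization.AtPrime p) := IsLocalization.flat _ p.primeCompl
  have hreg' : IsSMulRegular (LocalizedModule p.primeCompl M)
      (algebraMap A (Localization.AtPrime p) x) :=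
    IsSMulRegular.of_flat_of_isBaseChange
      (IsLocalizedModule.isBaseChange p.primeCompl _ (LocalizedModule.mkLinearMap p.primeCompl M))
      hreg
  have hmem : algebraMap A (Localization.AtPrime p) x ∈ maximalIdeal (Localization.AtPrime p) :=
    (IsLocalization.AtPrime.to_map_mem_maximal_iff _ p x).mpr hx
  rw [← Module.supportDim_quotSMulTop_succ_eq_supportDim hreg' hmem,
    Module.supportDim_eq_of_equiv (localizedQuotSMulTopEquiv p M x)]

/-- depth and dimension of `(M/(rs)M)_p` for a weakly regular sequence `rs` in `p`. -/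
theorem depth_supportDim_localization_quot_ofList (rs : List A) :
    ∀ (M : Type u) [AddCommGroup M] [Module A M] [Module.Finite A M],
      (∀ r ∈ rs, r ∈ p) → IsWeaklyRegular M rs →
      depth (Localization.AtPrime p)
          (LocalizedModule p.primeCompl (M ⧸ (Ideal.ofList rs • ⊤ : Submodule A M))) + rs.length =
        depth (Localization.AtPrime p) (LocalizedModule p.primeCompl M) ∧
      Module.supportDim (Localization.AtPrime p)
          (LocalizedModule p.primeCompl (M ⧸ (Ideal.ofList rs • ⊤ : Submodule A M))) + rs.length =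
        Module.supportDim (Localization.AtPrime p) (LocalizedModule p.primeCompl M) := by
  induction rs with
  | nil =>
    intro M _ _ _ _ _
    have hbot : (Ideal.ofList ([] : List A) • ⊤ : Submodule A M) = ⊥ := by
      rw [Ideal.ofList_nil, Submodule.bot_smul]
    have e := localizedEquiv p (Submodule.quotEquivOfEqBot _ hbot)
    constructor
    · unfold depth
      rw [idealDepth_congr e]
      simp
    · rw [Module.supportDim_eq_of_equiv e]
      simp
  | cons x rs ih =>
    intro M _ _ _ hmem hreg
    rw [isWeaklyRegular_cons_iff] at hreg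
    have hx : x ∈ p := hmem x List.mem_cons_self
    obtain ⟨h1, h2⟩ := ih (QuotSMulTop x M) (fun r hr => hmem r (List.mem_cons_of_mem _ hr)) hreg.2
    have h3 := depth_localization_quotSMulTop p M x hx hreg.1
    have h4 := supportDim_localization_quotSMulTop p M x hx hreg.1
    have e := localizedEquiv p (Submodule.quotOfListConsSMulTopEquivQuotSMulTopInner M x rs)
    constructor
    · unfold depth at h1 h3 ⊢
      rw [idealDepth_congr e, ← h3, ← h1, List.length_cons]
      push_cast
      ring
    · rw [Module.supportDim_eq_of_equiv e, ← h4, ← h2, List.length_cons]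
      push_cast
      ring

end loc

section local_

variable {A : Type u} [CommRing A] [IsNoetherianRing A] [IsLocalRing A]

/-- `depth M ≤ depth_I M + dim A/I`. -/
theorem depth_le_idealDepth_add_ringKrullDim_quotient (I : Ideal A) (hI : I ≠ ⊤) (M : Type u)
    [AddCommGroup M] [Module A M] [Module.Finite A M] [Nontrivial M] :
    ((depth A M : ℕ∞) : WithBot ℕ∞) ≤
      ((idealDepth I M : ℕ∞) : WithBot ℕ∞) + ringKrullDim (A ⧸ I) := by
  have hIm : I ≤ maximalIdeal A := IsLocalRing.le_maximalIdeal hI
  have hIM := smul_top_ne_top_of_ne_top I hI M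
  obtain ⟨g, hg⟩ := ENat.ne_top_iff_exists.mp (idealDepth_ne_top I M hIM)
  obtain ⟨xs, hlen, hmem, hreg⟩ := exists_isWeaklyRegular_of_le hIM (le_of_eq hg)
  have hmem' : ∀ x ∈ xs, x ∈ maximalIdeal A := fun x hx => hIm (hmem x hx)
  have hntN := nontrivial_quot_ofList xs M hmem'
  have hdepthI := idealDepth_quot_ofList_add_length I xs M hmem hreg
  have hdepth := idealDepth_quot_ofList_add_length (maximalIdeal A) xs M hmem' hreg
  have h0 : idealDepth I (M ⧸ (Ideal.ofList xs • ⊤ : Submodule A M)) = 0 := by
    rw [← hg, hlen] at hdepthI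
    have hne : idealDepth I (M ⧸ (Ideal.ofList xs • ⊤ : Submodule A M)) ≠ ⊤ := by
      intro htop
      rw [htop, top_add] at hdepthI
      exact ENat.top_ne_natCast g hdepthI
    obtain ⟨k, hk⟩ := ENat.ne_top_iff_exists.mp hne
    rw [← hk] at hdepthI ⊢
    have : k + g = g := by exact_mod_cast hdepthI
    have : k = 0 := by omega
    rw [this]
    rfl
  obtain ⟨q, hq, hIq⟩ := exists_associatedPrime_ge_of_idealDepth_eq_zero I _ h0
  have h1 := depth_le_ringKrullDim_quotient_of_mem_associatedPrimes _ q hq
  have h2 : ringKrullDim (A ⧸ q) ≤ ringKrullDim (A ⧸ I) :=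
    ringKrullDim_le_of_surjective (Ideal.Quotient.factor hIq) (Ideal.Quotient.factor_surjective hIq)
  unfold depth at h1 ⊢
  rw [← hdepth, ← hg, hlen]
  have h3 := h1.trans h2
  calc ((idealDepth (maximalIdeal A) (M ⧸ (Ideal.ofList xs • ⊤ : Submodule A M)) + (g : ℕ∞) : ℕ∞) :
        WithBot ℕ∞)
      = ((idealDepth (maximalIdeal A) (M ⧸ (Ideal.ofList xs • ⊤ : Submodule A M)) : ℕ∞) :
        WithBot ℕ∞) + ((g : ℕ∞) : WithBot ℕ∞) := by push_cast; rfl
    _ ≤ ringKrullDim (A ⧸ I) + ((g : ℕ∞) : WithBot ℕ∞) := by gcongr
    _ = ((g : ℕ∞) : WithBot ℕ∞) + ringKrullDim (A ⧸ I) := add_comm _ _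

/-- codepth does not increase under localization. -/
theorem codepth_localization_le (M : Type u) [AddCommGroup M] [Module A M] [Module.Finite A M]
    (p : Ideal A) [p.IsPrime] [Nontrivial (LocalizedModule p.primeCompl M)] :
    Module.supportDim (Localization.AtPrime p) (LocalizedModule p.primeCompl M) +
        ((depth A M : ℕ∞) : WithBot ℕ∞) ≤
      Module.supportDim A M +
        ((depth (Localization.AtPrime p) (LocalizedModule p.primeCompl M) : ℕ∞) : WithBot ℕ∞) := by
  have hp : (⟨p, inferInstance⟩ : PrimeSpectrum A) ∈ Module.support A M :=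
    Module.mem_support_iff.mpr inferInstance
  have hnt : Nontrivial M := by
    by_contra hnt
    rw [not_nontrivial_iff_subsingleton] at hnt
    rw [Module.support_eq_empty] at hp
    exact hp
  have hpne : p ≠ ⊤ := Ideal.IsPrime.ne_top inferInstance
  have hpM := smul_top_ne_top_of_ne_top p hpne M
  have hntQ : Nontrivial (M ⧸ (p • (⊤ : Submodule A M))) :=
    Submodule.Quotient.nontrivial_iff.mpr hpM
  have h1 := depth_le_idealDepth_add_ringKrullDim_quotient p hpne M
  have h2 := idealDepth_le_depth_localization p M p le_rfl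
  have h3 := Groth.Agent.S5765.result A M p
  have h4 := supportDim_quotient_prime_eq M ⟨p, inferInstance⟩ hp
  change Module.supportDim A (M ⧸ (p • (⊤ : Submodule A M))) = ringKrullDim (A ⧸ p) at h4
  rw [← h4] at h1
  obtain ⟨n, hn⟩ := exists_nat_supportDim (A := A) M
  obtain ⟨k, hk⟩ := exists_nat_supportDim (A := A) (M ⧸ (p • (⊤ : Submodule A M)))
  obtain ⟨l, hl⟩ := exists_nat_supportDim (A := Localization.AtPrime p)
    (LocalizedModule p.primeCompl M)
  obtain ⟨a, ha⟩ := ENat.ne_top_iff_exists.mp (idealDepth_ne_top p M hpM)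
  obtain ⟨b, hb⟩ := exists_nat_depth (A := Localization.AtPrime p)
    (LocalizedModule p.primeCompl M)
  obtain ⟨d, hd⟩ := exists_nat_depth (A := A) M
  rw [hd, ← ha, hk] at h1
  rw [← ha, hb] at h2
  rw [hl, hk, hn] at h3
  rw [hl, hd, hn, hb]
  have g1 : d ≤ a + k := by exact_mod_cast h1
  have g2 : a ≤ b := by exact_mod_cast h2
  have g3 : l + k ≤ n := by exact_mod_cast h3
  have : l + d ≤ n + b := by omega
  exact_mod_cast this

end local_

end Groth.Agent.Lib.helper26.Depth
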