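import Mathlib
import Groth.Agent.Lib.Helper26.DepthLoc2

/-!
# Depth theory (helper26): independence of the model of the localization
-/

set_option autoImplicit false
universe u

open CategoryTheory Abelian RingTheory.Sequence LocCoh IsLocalRing
open scoped Pointwise

namespace Groth.Agent.Lib.helper26.Depth

section ringEquiv

/-- a ring isomorphism of local rings maps the maximal ideal onto the maximal ideal. -/
lemma map_maximalIdeal_of_bijective {T T' : Type u} [CommRing T] [CommRing T'] [IsLocalRing T]
    [IsLocalRing T'] (σ : T ≃+* T') :
    (maximalIdeal T).map (σ : T →+* T') = maximalIdeal T' := by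
  apply le_antisymm
  · rw [Ideal.map_le_iff_le_comap]
    intro x hx
    rw [Ideal.mem_comap, mem_maximalIdeal, mem_nonunits_iff]
    intro hu
    rw [mem_maximalIdeal, mem_nonunits_iff] at hx
    apply hx
    have := hu.map σ.symm
    simpa using this
  · intro y hy
    have hx : σ.symm y ∈ maximalIdeal T := by
      rw [mem_maximalIdeal, mem_nonunits_iff] at hy ⊢
      intro hu
      apply hy
      have := hu.map σ
      simpa using this
    have := Ideal.mem_map_of_mem (σ : T →+* T') hx
    simpa using this

end ringEquiv

section model

variable {R : Type u} [CommRing R] [IsNoetherianRing R] (p : Ideal R) [p.IsPrime]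
  (M : Type u) [AddCommGroup M] [Module R M] [Module.Finite R M]
  (T : Type u) [CommRing T] [Algebra R T] [IsLocalization.AtPrime T p] [IsLocalRing T]
  (N : Type u) [AddCommGroup N] [Module R N] [Module T N] [IsScalarTower R T N]

/-- the depth of `M_p` over `R_p` can be computed in any model of the localization. -/
theorem depth_eq_of_isLocalizedModule (f : M →ₗ[R] N) [IsLocalizedModule p.primeCompl f] :
    depth T N = depth (Localization.AtPrime p) (LocalizedModule p.primeCompl M) := by
  let σ : T ≃ₐ[R] Localization.AtPrime p := IsLocalization.algEquiv p.primeCompl T _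
  let _ : Algebra T (Localization.AtPrime p) := (σ : T →+* Localization.AtPrime p).toAlgebra
  let _ : Module T (LocalizedModule p.primeCompl M) :=
    Module.compHom (LocalizedModule p.primeCompl M) (σ : T →+* Localization.AtPrime p)
  have hT1 : IsScalarTower T (Localization.AtPrime p) (LocalizedModule p.primeCompl M) :=
    IsScalarTower.of_algebraMap_smul fun t x => rfl
  have hT2 : IsScalarTower R T (LocalizedModule p.primeCompl M) := by
    refine IsScalarTower.of_algebraMap_smul fun r x => ?_
    change σ (algebraMap R T r) • x = r • x
    rw [σ.commutes, algebraMap_smul]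
  have hNoeth : IsNoetherianRing T := IsLocalization.isNoetherianRing p.primeCompl T inferInstance
  have hfinN : Module.Finite T N := Module.Finite.of_isLocalizedModule p.primeCompl f
  let e0 : N ≃ₗ[R] LocalizedModule p.primeCompl M :=
    IsLocalizedModule.linearEquiv p.primeCompl f (LocalizedModule.mkLinearMap p.primeCompl M)
  let e : N ≃ₗ[T] LocalizedModule p.primeCompl M :=
    e0.extendScalarsOfIsLocalization p.primeCompl T
  have hfin' : Module.Finite T (LocalizedModule p.primeCompl M) := Module.Finite.equiv e
  unfold depth
  rw [idealDepth_congr e, idealDepth_map_eq (A := T) (B := Localization.AtPrime p)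
    (maximalIdeal T) (LocalizedModule p.primeCompl M)]
  congr 1
  exact map_maximalIdeal_of_bijective σ.toRingEquiv

end model

section double

variable {R : Type u} [CommRing R] [IsNoetherianRing R] (s : Ideal R) [s.IsPrime]
  (M : Type u) [AddCommGroup M] [Module R M] [Module.Finite R M]

/-- localizing `M_s` at a prime `P` of `R_s` gives the localization of `M` at `P ∩ R`. -/
theorem depth_localization_localization (P : Ideal (Localization.AtPrime s)) [P.IsPrime] :
    depth (Localization.AtPrime P)
        (LocalizedModule P.primeCompl (LocalizedModule s.primeCompl M)) =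
      depth (Localization.AtPrime (P.comap (algebraMap R (Localization.AtPrime s))))
        (LocalizedModule (P.comap (algebraMap R (Localization.AtPrime s))).primeCompl M) := by
  let f0 : M →ₗ[R] LocalizedModule s.primeCompl M := LocalizedModule.mkLinearMap s.primeCompl M
  let g : LocalizedModule s.primeCompl M →ₗ[Localization.AtPrime s]
      LocalizedModule P.primeCompl (LocalizedModule s.primeCompl M) :=
    LocalizedModule.mkLinearMap P.primeCompl (LocalizedModule s.primeCompl M)
  have hf0 : IsBaseChange (Localization.AtPrime s) f0 :=
    IsLocalizedModule.isBaseChange s.primeCompl _ f0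
  have hg : IsBaseChange (Localization.AtPrime P) g :=
    IsLocalizedModule.isBaseChange P.primeCompl _ g
  have hfg := IsBaseChange.comp hf0 hg
  have hloc : IsLocalizedModule (P.comap (algebraMap R (Localization.AtPrime s))).primeCompl
      ((g.restrictScalars R).comp f0) :=
    (isLocalizedModule_iff_isBaseChange
      (P.comap (algebraMap R (Localization.AtPrime s))).primeCompl (Localization.AtPrime P) _).mpr hfg
  exact depth_eq_of_isLocalizedModule (P.comap (algebraMap R (Localization.AtPrime s))) M
    (Localization.AtPrime P) _ ((g.restrictScalars R).comp f0)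

end double

section height

variable {R : Type u} [CommRing R] (p s : Ideal R) [p.IsPrime] [s.IsPrime]

lemma algebraMapSubmonoid_primeCompl_eq (hps : p ≤ s)
    [(s.map (Ideal.Quotient.mk p)).IsPrime] :
    Algebra.algebraMapSubmonoid (R ⧸ p) s.primeCompl =
      (s.map (Ideal.Quotient.mk p)).primeCompl := by
  ext x
  constructor
  · rintro ⟨y, hy, rfl⟩
    intro hmem
    obtain ⟨z, hz, hzy⟩ := (Ideal.mem_map_iff_of_surjective _ Ideal.Quotient.mk_surjective).mp hmem
    apply hy
    have h1 : y - z ∈ p := by
      rw [← Ideal.Quotient.eq]
      exact hzy.symm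
    have h2 : y = (y - z) + z := by ring
    change y ∈ s
    rw [h2]
    exact s.add_mem (hps h1) hz
  · intro hx
    obtain ⟨y, rfl⟩ := Ideal.Quotient.mk_surjective x
    refine ⟨y, ?_, rfl⟩
    intro hy
    exact hx (Ideal.mem_map_of_mem _ hy)

/-- `dim R_s / p R_s = ht (s/p)`. -/
theorem ringKrullDim_localization_quotient_eq_height (hps : p ≤ s) :
    ringKrullDim (Localization.AtPrime s ⧸ p.map (algebraMap R (Localization.AtPrime s))) =
      ((s.map (Ideal.Quotient.mk p)).height : WithBot ℕ∞) := by
  have hprime : (s.map (Ideal.Quotient.mk p)).IsPrime :=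
    Ideal.map_isPrime_of_surjective Ideal.Quotient.mk_surjective (by
      rw [Ideal.mk_ker]
      exact hps)
  have hloc : IsLocalization.AtPrime
      (Localization.AtPrime s ⧸ p.map (algebraMap R (Localization.AtPrime s)))
      (s.map (Ideal.Quotient.mk p)) := by
    unfold IsLocalization.AtPrime
    rw [← algebraMapSubmonoid_primeCompl_eq p s hps]
    infer_instance
  exact IsLocalization.AtPrime.ringKrullDim_eq_height (s.map (Ideal.Quotient.mk p)) _

end height

section main

variable {R : Type u} [CommRing R] [IsNoetherianRing R]
  (M : Type u) [AddCommGroup M] [Module R M] [Module.Finite R M]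

/-- `depth M_s ≤ depth M_p + ht (s/p)` for primes `p ≤ s`. -/
theorem depth_localization_le_add_height (p s : Ideal R) [p.IsPrime] [s.IsPrime] (hps : p ≤ s) :
    depth (Localization.AtPrime s) (LocalizedModule s.primeCompl M) ≤
      depth (Localization.AtPrime p) (LocalizedModule p.primeCompl M) +
        (s.map (Ideal.Quotient.mk p)).height := by
  by_cases hMp : Subsingleton (LocalizedModule p.primeCompl M)
  · have hsub' : Subsingleton (Submodule (Localization.AtPrime p)
        (LocalizedModule p.primeCompl M)) := (Submodule.subsingleton_iff _).mpr hMp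
    have : depth (Localization.AtPrime p) (LocalizedModule p.primeCompl M) = ⊤ := by
      unfold depth
      exact idealDepth_eq_top_of_smul_top_eq_top _ _ (Subsingleton.elim _ _)
    rw [this, top_add]
    exact le_top
  rw [not_subsingleton_iff_nontrivial] at hMp
  have hp : (⟨p, inferInstance⟩ : PrimeSpectrum R) ∈ Module.support R M :=
    Module.mem_support_iff.mpr hMp
  have hs : (⟨s, inferInstance⟩ : PrimeSpectrum R) ∈ Module.support R M :=
    Module.mem_support_mono (p := ⟨p, inferInstance⟩) (q := ⟨s, inferInstance⟩) hps hp
  have hMs : Nontrivial (LocalizedModule s.primeCompl M) := Module.mem_support_iff.mp hs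
  have hdisj : Disjoint (s.primeCompl : Set R) p := by
    rw [Set.disjoint_left]
    intro a ha hap
    exact ha (hps hap)
  have hPprime : (p.map (algebraMap R (Localization.AtPrime s))).IsPrime :=
    IsLocalization.isPrime_of_isPrime_disjoint s.primeCompl _ p inferInstance hdisj
  have hcomap : (p.map (algebraMap R (Localization.AtPrime s))).comap
      (algebraMap R (Localization.AtPrime s)) = p :=
    IsLocalization.under_map_of_isPrime_disjoint s.primeCompl _ inferInstance hdisj
  have h1 := depth_le_idealDepth_add_ringKrullDim_quotient
    (p.map (algebraMap R (Localization.AtPrime s))) hPprime.ne_top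
    (LocalizedModule s.primeCompl M)
  have h2 := idealDepth_le_depth_localization (p.map (algebraMap R (Localization.AtPrime s)))
    (LocalizedModule s.primeCompl M) _ le_rfl
  have h3 := depth_localization_localization s M (p.map (algebraMap R (Localization.AtPrime s)))
  have key : ∀ (p' : Ideal R) [p'.IsPrime], p' = p →
      depth (Localization.AtPrime p') (LocalizedModule p'.primeCompl M) =
        depth (Localization.AtPrime p) (LocalizedModule p.primeCompl M) := by
    intro p' _ h
    subst h
    rfl
  rw [key _ hcomap] at h3
  rw [h3] at h2
  rw [ringKrullDim_localization_quotient_eq_height p s hps] at h1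
  have h4 : ((depth (Localization.AtPrime s) (LocalizedModule s.primeCompl M) : ℕ∞) :
      WithBot ℕ∞) ≤ ((depth (Localization.AtPrime p) (LocalizedModule p.primeCompl M) +
        (s.map (Ideal.Quotient.mk p)).height : ℕ∞) : WithBot ℕ∞) := by
    refine h1.trans ?_
    rw [WithBot.coe_add]
    gcongr
    exact WithBot.coe_le_coe.mpr h2
  exact WithBot.coe_le_coe.mp h4

end main

end Groth.Agent.Lib.helper26.Depth
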