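import Mathlib

/-!
# Support of a localized module (helper26)
-/

set_option autoImplicit false
universe u

namespace Groth.Agent.Lib.helper26.SuppLoc

section

variable {A : Type u} [CommRing A] (p : Ideal A) [p.IsPrime]
  (M : Type u) [AddCommGroup M] [Module A M]

/-- primes of `A_p` contract to primes inside `p`. -/
lemma comap_le (q' : PrimeSpectrum (Localization.AtPrime p)) :
    (PrimeSpectrum.comap (algebraMap A (Localization.AtPrime p)) q').asIdeal ≤ p := by
  intro a ha
  by_contra hap
  change algebraMap A (Localization.AtPrime p) a ∈ q'.asIdeal at ha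
  have hu : IsUnit (algebraMap A (Localization.AtPrime p) a) :=
    IsLocalization.map_units (Localization.AtPrime p) (⟨a, hap⟩ : p.primeCompl)
  exact q'.isPrime.ne_top (Ideal.eq_top_of_isUnit_mem _ ha hu)

/-- `Supp (M_p) = {q' | q' ∩ A ∈ Supp M}`. -/
theorem mem_support_localizedModule_iff (q' : PrimeSpectrum (Localization.AtPrime p)) :
    q' ∈ Module.support (Localization.AtPrime p) (LocalizedModule p.primeCompl M) ↔
      PrimeSpectrum.comap (algebraMap A (Localization.AtPrime p)) q' ∈ Module.support A M := by
  constructor
  · intro h
    have h1 := Module.support_subset_preimage_comap (R := A) (A := Localization.AtPrime p)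
      (M := LocalizedModule p.primeCompl M) h
    rw [Set.mem_preimage, Module.mem_support_iff'] at h1
    rw [Module.mem_support_iff']
    obtain ⟨x, hx⟩ := h1
    induction x using LocalizedModule.induction_on with
    | h m s =>
      refine ⟨m, fun r hr h0 => hx r hr ?_⟩
      rw [LocalizedModule.smul'_mk, h0, LocalizedModule.zero_mk]
  · intro h
    have hqp := comap_le p q'
    rw [Module.mem_support_iff'] at h ⊢
    obtain ⟨m, hm⟩ := h
    refine ⟨LocalizedModule.mkLinearMap p.primeCompl M m, ?_⟩
    intro r' hr' h0
    obtain ⟨a, s, rfl⟩ := IsLocalization.exists_mk'_eq p.primeCompl r'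
    have ha : a ∉ (PrimeSpectrum.comap (algebraMap A (Localization.AtPrime p)) q').asIdeal := by
      intro ha
      apply hr'
      rw [IsLocalization.mk'_eq_mul_mk'_one]
      exact Ideal.mul_mem_right _ _ ha
    have h1 : LocalizedModule.mkLinearMap p.primeCompl M (a • m) = 0 := by
      have h2 : algebraMap A (Localization.AtPrime p) (s : A) •
          (IsLocalization.mk' (Localization.AtPrime p) a s •
            LocalizedModule.mkLinearMap p.primeCompl M m) = 0 := by
        rw [h0, smul_zero]
      rw [← mul_smul, mul_comm, IsLocalization.mk'_spec, algebraMap_smul, ← map_smul] at h2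
      exact h2
    obtain ⟨u, hu⟩ := (IsLocalizedModule.eq_zero_iff p.primeCompl
      (LocalizedModule.mkLinearMap p.primeCompl M)).mp h1
    have hu' : (u : A) ∉
        (PrimeSpectrum.comap (algebraMap A (Localization.AtPrime p)) q').asIdeal :=
      fun hmem => u.2 (hqp hmem)
    have hua : (u : A) * a ∉
        (PrimeSpectrum.comap (algebraMap A (Localization.AtPrime p)) q').asIdeal := by
      intro hmem
      rcases (PrimeSpectrum.comap (algebraMap A (Localization.AtPrime p)) q').isPrime.mem_or_mem
        hmem with h' | h'
      · exact hu' h'
      · exact ha h'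
    apply hm _ hua
    rw [mul_smul]
    exact hu

lemma closedPoint_mem_support_localizedModule
    (hp : (⟨p, inferInstance⟩ : PrimeSpectrum A) ∈ Module.support A M) :
    IsLocalRing.closedPoint (Localization.AtPrime p) ∈
      Module.support (Localization.AtPrime p) (LocalizedModule p.primeCompl M) := by
  rw [mem_support_localizedModule_iff]
  convert hp using 1
  apply PrimeSpectrum.ext
  exact Localization.AtPrime.under_maximalIdeal

/-- `dim M_p ≤ 0` iff `p` is minimal in the support. -/
theorem supportDim_localizedModule_le_zero_iff [Module.Finite A M]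
    (hp : (⟨p, inferInstance⟩ : PrimeSpectrum A) ∈ Module.support A M) :
    Module.supportDim (Localization.AtPrime p) (LocalizedModule p.primeCompl M) ≤ 0 ↔
      p ∈ (Module.annihilator A M).minimalPrimes := by
  have hc := closedPoint_mem_support_localizedModule p M hp
  constructor
  · intro hdim
    refine ⟨⟨inferInstance, Module.annihilator_le_of_mem_support hp⟩, ?_⟩
    rintro q ⟨hq, hle⟩ hqp
    have hdisj : Disjoint (p.primeCompl : Set A) q := by
      rw [Set.disjoint_left]
      intro a ha haq
      exact ha (hqp haq)
    let q' : PrimeSpectrum (Localization.AtPrime p) :=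
      ⟨Ideal.map (algebraMap A (Localization.AtPrime p)) q,
        IsLocalization.isPrime_of_isPrime_disjoint p.primeCompl _ q hq hdisj⟩
    have hcomap : (PrimeSpectrum.comap (algebraMap A (Localization.AtPrime p)) q').asIdeal = q :=
      IsLocalization.under_map_of_isPrime_disjoint p.primeCompl _ hq hdisj
    have hq'supp : q' ∈ Module.support (Localization.AtPrime p)
        (LocalizedModule p.primeCompl M) := by
      rw [mem_support_localizedModule_iff, Module.mem_support_iff_of_finite, hcomap]
      exact hle
    have hmax := (Order.krullDim_nonpos_iff_forall_isMax.mp hdim) ⟨q', hq'supp⟩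
    have hle' : (⟨q', hq'supp⟩ : Module.support (Localization.AtPrime p)
        (LocalizedModule p.primeCompl M)) ≤ ⟨IsLocalRing.closedPoint _, hc⟩ := by
      change q'.asIdeal ≤ IsLocalRing.maximalIdeal _
      exact IsLocalRing.le_maximalIdeal q'.isPrime.ne_top
    have hge := hmax hle'
    intro a ha
    have h1 : algebraMap A (Localization.AtPrime p) a ∈ q'.asIdeal :=
      hge ((IsLocalization.AtPrime.to_map_mem_maximal_iff _ p a).mpr ha)
    rw [← hcomap]
    exact h1
  · intro hmin
    have hsub : Subsingleton (Module.support (Localization.AtPrime p)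
        (LocalizedModule p.primeCompl M)) := by
      refine ⟨fun x y => ?_⟩
      have key : ∀ z : Module.support (Localization.AtPrime p) (LocalizedModule p.primeCompl M),
          PrimeSpectrum.comap (algebraMap A (Localization.AtPrime p)) z.1 =
            (⟨p, inferInstance⟩ : PrimeSpectrum A) := by
        intro z
        have hz := (mem_support_localizedModule_iff p M z.1).mp z.2
        have h1 := comap_le p z.1
        have h2 := hmin.2 ⟨(PrimeSpectrum.comap (algebraMap A (Localization.AtPrime p)) z.1).isPrime,
          Module.annihilator_le_of_mem_support hz⟩ h1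
        exact PrimeSpectrum.ext (le_antisymm h1 h2)
      exact Subtype.ext (PrimeSpectrum.localization_comap_injective (Localization.AtPrime p)
        p.primeCompl ((key x).trans (key y).symm))
    exact Order.krullDim_nonpos_of_subsingleton

end

end Groth.Agent.Lib.helper26.SuppLoc
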