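import Mathlib
import Groth.Agent.Lib.Helper26.DepthLoc3
import Groth.Agent.Lib.Helper26.SuppLoc

/-!
# Transfer of depth / dimension / `(S_k)` along localizations (helper26)
-/

set_option autoImplicit false
set_option linter.unusedSectionVars false
universe u

open CategoryTheory Abelian RingTheory.Sequence LocCoh IsLocalRing
open scoped Pointwise

namespace Groth.Agent.Lib.helper26.Depth

section ringEquivDim

/-- one inequality for `supportDim_eq_of_ringEquiv`. -/
lemma supportDim_le_of_ringEquiv {T T' : Type u} [CommRing T] [CommRing T'] (σ : T ≃+* T')
    (X : Type u) [AddCommGroup X] [Module T X] [Module T' X]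
    (h : ∀ (t : T) (x : X), t • x = σ t • x) :
    Module.supportDim T' X ≤ Module.supportDim T X := by
  unfold Module.supportDim
  have hmem : ∀ q' : PrimeSpectrum T', q' ∈ Module.support T' X →
      PrimeSpectrum.comap (σ : T →+* T') q' ∈ Module.support T X := by
    intro q' hq'
    rw [Module.mem_support_iff'] at hq' ⊢
    obtain ⟨m, hm⟩ := hq'
    refine ⟨m, fun t ht => ?_⟩
    rw [h]
    exact hm (σ t) ht
  let f : Module.support T' X → Module.support T X := fun q' => ⟨_, hmem q'.1 q'.2⟩
  refine Order.krullDim_le_of_strictMono f ?_
  intro a b hab
  change PrimeSpectrum.comap (σ : T →+* T') a.1 < PrimeSpectrum.comap (σ : T →+* T') b.1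
  have h1 : a.1 < b.1 := hab
  have hle : ∀ {c d : PrimeSpectrum T'}, c ≤ d →
      PrimeSpectrum.comap (σ : T →+* T') c ≤ PrimeSpectrum.comap (σ : T →+* T') d :=
    fun hcd => Ideal.comap_mono hcd
  refine lt_of_le_not_ge (hle h1.le) ?_
  intro hba
  apply not_le_of_gt h1
  intro x hx
  obtain ⟨t, rfl⟩ := σ.surjective x
  exact hba hx

/-- support dimension is invariant under change of rings along an isomorphism. -/
theorem supportDim_eq_of_ringEquiv {T T' : Type u} [CommRing T] [CommRing T'] (σ : T ≃+* T')
    (X : Type u) [AddCommGroup X] [Module T X] [Module T' X]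
    (h : ∀ (t : T) (x : X), t • x = σ t • x) :
    Module.supportDim T X = Module.supportDim T' X := by
  refine le_antisymm ?_ (supportDim_le_of_ringEquiv σ X h)
  refine supportDim_le_of_ringEquiv σ.symm X ?_
  intro t' x
  rw [h, σ.apply_symm_apply]

end ringEquivDim

section model

variable {R : Type u} [CommRing R] [IsNoetherianRing R] (p : Ideal R) [p.IsPrime]
  (M : Type u) [AddCommGroup M] [Module R M] [Module.Finite R M]
  (T : Type u) [CommRing T] [Algebra R T] [IsLocalization.AtPrime T p] [IsLocalRing T]
  (N : Type u) [AddCommGroup N] [Module R N] [Module T N] [IsScalarTower R T N]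

/-- the dimension of `M_p` over `R_p` can be computed in any model of the localization. -/
theorem supportDim_eq_of_isLocalizedModule (f : M →ₗ[R] N) [IsLocalizedModule p.primeCompl f] :
    Module.supportDim T N =
      Module.supportDim (Localization.AtPrime p) (LocalizedModule p.primeCompl M) := by
  let σ : T ≃ₐ[R] Localization.AtPrime p := IsLocalization.algEquiv p.primeCompl T _
  let _ : Algebra T (Localization.AtPrime p) := (σ : T →+* Localization.AtPrime p).toAlgebra
  let _ : Module T (LocalizedModule p.primeCompl M) :=
    Module.compHom (LocalizedModule p.primeCompl M) (σ : T →+* Localization.AtPrime p)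
  have hT1 : IsScalarTower T (Localization.AtPrime p) (LocalizedModule p.primeCompl M) :=
    IsScalarTower.of_algebraMap_smul fun t x => rfl
  have hT2 : IsScalarTower R T (LocalizedModule p.primeCompl M) := by
    refine IsScalarTower.of_algebraMap_smul fun r x => ?_
    change σ (algebraMap R T r) • x = r • x
    rw [σ.commutes, algebraMap_smul]
  let e0 : N ≃ₗ[R] LocalizedModule p.primeCompl M :=
    IsLocalizedModule.linearEquiv p.primeCompl f (LocalizedModule.mkLinearMap p.primeCompl M)
  let e : N ≃ₗ[T] LocalizedModule p.primeCompl M :=
    e0.extendScalarsOfIsLocalization p.primeCompl T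
  rw [Module.supportDim_eq_of_equiv e]
  exact supportDim_eq_of_ringEquiv σ.toRingEquiv (LocalizedModule p.primeCompl M)
    (fun t x => rfl)

end model

section double

variable {R : Type u} [CommRing R] [IsNoetherianRing R] (S : Submonoid R)
  (M : Type u) [AddCommGroup M] [Module R M] [Module.Finite R M]

/-- localizing `S⁻¹M` at a prime `P` of `S⁻¹R` gives the localization of `M` at `P ∩ R`. -/
theorem depth_supportDim_localization_submonoid (P : Ideal (Localization S)) [P.IsPrime] :
    depth (Localization.AtPrime P) (LocalizedModule P.primeCompl (LocalizedModule S M)) =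
      depth (Localization.AtPrime (P.comap (algebraMap R (Localization S))))
        (LocalizedModule (P.comap (algebraMap R (Localization S))).primeCompl M) ∧
    Module.supportDim (Localization.AtPrime P)
        (LocalizedModule P.primeCompl (LocalizedModule S M)) =
      Module.supportDim (Localization.AtPrime (P.comap (algebraMap R (Localization S))))
        (LocalizedModule (P.comap (algebraMap R (Localization S))).primeCompl M) := by
  let f0 : M →ₗ[R] LocalizedModule S M := LocalizedModule.mkLinearMap S M
  let g : LocalizedModule S M →ₗ[Localization S]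
      LocalizedModule P.primeCompl (LocalizedModule S M) :=
    LocalizedModule.mkLinearMap P.primeCompl (LocalizedModule S M)
  have hf0 : IsBaseChange (Localization S) f0 := IsLocalizedModule.isBaseChange S _ f0
  have hg : IsBaseChange (Localization.AtPrime P) g :=
    IsLocalizedModule.isBaseChange P.primeCompl _ g
  have hfg := IsBaseChange.comp hf0 hg
  have hT : IsLocalization.AtPrime (Localization.AtPrime P)
      (P.comap (algebraMap R (Localization S))) :=
    IsLocalization.isLocalization_isLocalization_atPrime_isLocalization S
      (Localization.AtPrime P) P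
  have hloc : IsLocalizedModule (P.comap (algebraMap R (Localization S))).primeCompl
      ((g.restrictScalars R).comp f0) :=
    (isLocalizedModule_iff_isBaseChange
      (P.comap (algebraMap R (Localization S))).primeCompl (Localization.AtPrime P) _).mpr hfg
  exact ⟨depth_eq_of_isLocalizedModule (P.comap (algebraMap R (Localization S))) M
      (Localization.AtPrime P) _ ((g.restrictScalars R).comp f0),
    supportDim_eq_of_isLocalizedModule (P.comap (algebraMap R (Localization S))) M
      (Localization.AtPrime P) _ ((g.restrictScalars R).comp f0)⟩

/-- `(S_k)` passes to localizations. -/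
theorem hasSk_localization (k : ℕ) (h : HasSk k R M) :
    HasSk k (Localization S) (LocalizedModule S M) := by
  intro P _
  obtain ⟨h1, h2⟩ := depth_supportDim_localization_submonoid S M P
  rw [h1, h2]
  exact h _

/-- `(S_k)` descends from a localization hitting all primes. -/
theorem hasSk_of_hasSk_localization (k : ℕ)
    (hS : ∀ (p : Ideal R) [p.IsPrime], ∃ (P : Ideal (Localization S)) (_ : P.IsPrime),
      P.comap (algebraMap R (Localization S)) = p)
    (h : HasSk k (Localization S) (LocalizedModule S M)) : HasSk k R M := by
  intro p hp
  obtain ⟨P, hP, hPp⟩ := hS p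
  obtain ⟨h1, h2⟩ := depth_supportDim_localization_submonoid S M P
  have h3 := h P
  rw [h1, h2] at h3
  subst hPp
  exact h3

/-- every prime is a contraction from `A_1`. -/
lemma exists_prime_comap_eq_of_powers_one (p : Ideal R) [hp : p.IsPrime] :
    ∃ (P : Ideal (Localization (Submonoid.powers (1 : R)))) (_ : P.IsPrime),
      P.comap (algebraMap R (Localization (Submonoid.powers (1 : R)))) = p := by
  have hdisj : Disjoint ((Submonoid.powers (1 : R) : Submonoid R) : Set R) (p : Set R) := by
    rw [Set.disjoint_left]
    rintro x ⟨n, rfl⟩ hx
    have hx' : (1 : R) ^ n ∈ p := hx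
    rw [one_pow] at hx'
    exact hp.ne_top ((Ideal.eq_top_iff_one p).mpr hx')
  exact ⟨p.map (algebraMap R _),
    IsLocalization.isPrime_of_isPrime_disjoint _ _ p hp hdisj,
    IsLocalization.under_map_of_isPrime_disjoint _ _ hp hdisj⟩

end double

end Groth.Agent.Lib.helper26.Depth
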