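import Mathlib
import Groth.Agent.Lib.Helper26.DepthCR

/-!
# Depth theory (helper26): change of rings along local homomorphisms
-/

set_option autoImplicit false
universe u

open CategoryTheory Abelian RingTheory.Sequence LocCoh IsLocalRing
open scoped Pointwise

namespace Groth.Agent.Lib.helper26.Depth

section localHom

variable {A B : Type u} [CommRing A] [CommRing B] [IsLocalRing A] [IsLocalRing B]
  [IsNoetherianRing A] [IsNoetherianRing B] [Algebra A B] [IsLocalHom (algebraMap A B)]

omit [IsNoetherianRing A] [IsNoetherianRing B] in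
lemma map_maximalIdeal_le : (maximalIdeal A).map (algebraMap A B) ≤ maximalIdeal B := by
  rw [Ideal.map_le_iff_le_comap]
  intro r hr
  rw [Ideal.mem_comap, IsLocalRing.mem_maximalIdeal, mem_nonunits_iff]
  intro hu
  exact hr (isUnit_of_map_unit (algebraMap A B) r hu)

omit [IsLocalHom (algebraMap A B)] in
/-- a nonzero element killed by `m_A` yields a nonzero element killed by `m_B`, for a `B`-module
finite over `A`. -/
lemma exists_ne_zero_annihilated_maximalIdeal (M : Type u) [AddCommGroup M] [Module B M]
    [Module A M] [IsScalarTower A B M] [Module.Finite A M] [Module.Finite B M]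
    (m : M) (hm : m ≠ 0) (hkill : ∀ r ∈ maximalIdeal A, r • m = 0) :
    ∃ m' : M, m' ≠ 0 ∧ ∀ s ∈ maximalIdeal B, s • m' = 0 := by
  -- the `B`-submodule of elements killed by `m_A`
  let N : Submodule B M :=
    { carrier := {x | ∀ r ∈ maximalIdeal A, r • x = 0}
      add_mem' := by
        intro x y hx hy r hr
        rw [smul_add, hx r hr, hy r hr, add_zero]
      zero_mem' := by
        intro r _
        exact smul_zero r
      smul_mem' := by
        intro c x hx r hr
        change r • c • x = 0
        rw [smul_comm, hx r hr, smul_zero] }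
  have hNnt : Nontrivial N := ⟨⟨⟨m, hkill⟩, 0, fun h => hm (congrArg Subtype.val h)⟩⟩
  obtain ⟨q, hq⟩ := associatedPrimes.nonempty B N
  obtain ⟨hprime, f, hf⟩ := (isAssociatedPrime_iff_exists_injective_linearMap q N).mp hq
  -- `B ⧸ q` is finite over `A`
  let g : (B ⧸ q) →ₗ[A] M := (N.subtype ∘ₗ f).restrictScalars A
  have hg : Function.Injective g := fun x y hxy => hf (N.injective_subtype hxy)
  have hfin : Module.Finite A (B ⧸ q) := Module.Finite.of_injective g hg
  have hint : Algebra.IsIntegral A (B ⧸ q) := Algebra.IsIntegral.of_finite A (B ⧸ q)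
  -- `m_A` maps to zero in `B ⧸ q`
  have hker : ∀ r ∈ maximalIdeal A, algebraMap A (B ⧸ q) r = 0 := by
    intro r hr
    apply hf
    rw [map_zero]
    have h1 : algebraMap A (B ⧸ q) r = (algebraMap A B r) • (1 : B ⧸ q) := by
      rw [Algebra.smul_def, mul_one]
      rfl
    rw [h1, map_smul]
    ext
    simp only [Submodule.coe_smul, ZeroMemClass.coe_zero]
    rw [algebraMap_smul]
    exact (f 1).2 r hr
  have hcomap : (⊥ : Ideal (B ⧸ q)).comap (algebraMap A (B ⧸ q)) = maximalIdeal A := by
    symm
    apply (IsLocalRing.maximalIdeal.isMaximal A).eq_of_le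
    · intro h
      have h1 : (1 : A) ∈ (⊥ : Ideal (B ⧸ q)).comap (algebraMap A (B ⧸ q)) := by
        rw [h]
        exact Submodule.mem_top
      rw [Ideal.mem_comap, map_one, Ideal.mem_bot] at h1
      have : Nontrivial (B ⧸ q) := Ideal.Quotient.nontrivial_iff.mpr hprime.ne_top
      exact one_ne_zero h1
    · intro r hr
      rw [Ideal.mem_comap, Ideal.mem_bot]
      exact hker r hr
  have hdom : IsDomain (B ⧸ q) := Ideal.Quotient.isDomain q
  have hbotprime : (⊥ : Ideal (B ⧸ q)).IsPrime := Ideal.isPrime_bot
  have hbotmax : (⊥ : Ideal (B ⧸ q)).IsMaximal :=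
    Ideal.isMaximal_of_isIntegral_of_isMaximal_comap (R := A) (⊥ : Ideal (B ⧸ q))
      (by rw [hcomap]; exact IsLocalRing.maximalIdeal.isMaximal A)
  have hqmax : q.IsMaximal := by
    have h1 := Ideal.comap_isMaximal_of_surjective (Ideal.Quotient.mk q)
      Ideal.Quotient.mk_surjective (K := (⊥ : Ideal (B ⧸ q)))
    have h2 : (⊥ : Ideal (B ⧸ q)).comap (Ideal.Quotient.mk q) = q := by
      rw [← RingHom.ker_eq_comap_bot, Ideal.mk_ker]
    rwa [h2] at h1
  have hqeq : q = maximalIdeal B := IsLocalRing.eq_maximalIdeal hqmax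
  refine ⟨((f 1 : N) : M), ?_, ?_⟩
  · intro h0
    have h1 : f 1 = 0 := Subtype.ext h0
    have h2 : (1 : B ⧸ q) = 0 := hf (by rw [h1, map_zero])
    have : Nontrivial (B ⧸ q) := Ideal.Quotient.nontrivial_iff.mpr hprime.ne_top
    exact one_ne_zero h2
  · intro s hs
    rw [← hqeq] at hs
    have h1 : s • (1 : B ⧸ q) = 0 := by
      rw [Algebra.smul_def, mul_one]
      exact Ideal.Quotient.eq_zero_iff_mem.mpr hs
    have h2 : s • f 1 = 0 := by rw [← map_smul, h1, map_zero]
    have := congrArg Subtype.val h2
    simpa using this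

/-- depth over `A` equals depth over `B` along a local homomorphism, for `B`-modules finite
over `A`. -/
theorem depth_eq_of_isLocalHom (M : Type u) [AddCommGroup M] [Module B M] [Module A M]
    [IsScalarTower A B M] [Module.Finite A M] : depth A M = depth B M := by
  have hfinB : Module.Finite B M := Module.Finite.of_restrictScalars_finite A B M
  refine idealDepth_changeOfRings (maximalIdeal A) (maximalIdeal B) map_maximalIdeal_le ?_ M ?_
  · intro M' _ _ _ _ _ _ hIM h0
    obtain ⟨m, hm, hkill⟩ := exists_ne_zero_annihilated_of_idealDepth_eq_zero _ M' h0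
    obtain ⟨m', hm', hkill'⟩ := exists_ne_zero_annihilated_maximalIdeal (A := A) (B := B) M' m hm hkill
    have hnt : Nontrivial M' := ⟨⟨m', 0, hm'⟩⟩
    exact idealDepth_eq_zero_of_annihilated _ M' (maximalIdeal_smul_top_ne_top (A := B) M') m' hm' hkill'
  · intro htop
    by_contra hne
    have hnt : Nontrivial M := by
      by_contra hnt
      rw [not_nontrivial_iff_subsingleton] at hnt
      exact hne (Subsingleton.elim _ _)
    exact maximalIdeal_smul_top_ne_top (A := A) M htop

end localHom

end Groth.Agent.Lib.helper26.Depth
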