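import Mathlib
import Groth.Agent.Lib.Helper26.DepthLoc2

/-!
# Cohen–Macaulay rings: `depth_a R = ht a` (helper26)
-/

set_option autoImplicit false
universe u

open CategoryTheory Abelian RingTheory.Sequence LocCoh IsLocalRing
open scoped Pointwise

namespace Groth.Agent.Lib.helper26.Depth

section

variable (R : Type u) [CommRing R] (p : Ideal R) [p.IsPrime]

/-- `R_p` as the localized module of `R`. -/
noncomputable def selfEquiv :
    Localization.AtPrime p ≃ₗ[Localization.AtPrime p] LocalizedModule p.primeCompl R :=
  (IsLocalizedModule.linearEquiv p.primeCompl (Algebra.linearMap R (Localization.AtPrime p))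
    (LocalizedModule.mkLinearMap p.primeCompl R)).extendScalarsOfIsLocalization p.primeCompl
      (Localization.AtPrime p)

lemma depth_localizedModule_self :
    depth (Localization.AtPrime p) (LocalizedModule p.primeCompl R) =
      depth (Localization.AtPrime p) (Localization.AtPrime p) := by
  unfold depth
  exact (idealDepth_congr (selfEquiv R p)).symm

variable [IsNoetherianRing R]

lemma depth_localization_le_height :
    depth (Localization.AtPrime p) (Localization.AtPrime p) ≤ p.height := by
  have h := depth_le_supportDim (A := Localization.AtPrime p) (Localization.AtPrime p)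
  rw [Module.supportDim_self_eq_ringKrullDim,
    IsLocalization.AtPrime.ringKrullDim_eq_height p (Localization.AtPrime p)] at h
  exact WithBot.coe_le_coe.mp h

lemma depth_localization_eq_height_of_isCohenMacaulayLocalRing
    (h : IsCohenMacaulayLocalRing (Localization.AtPrime p)) :
    depth (Localization.AtPrime p) (Localization.AtPrime p) = p.height := by
  have h1 := h.supportDim_eq_depth
  rw [Module.supportDim_self_eq_ringKrullDim,
    IsLocalization.AtPrime.ringKrullDim_eq_height p (Localization.AtPrime p)] at h1
  exact (WithBot.coe_injective h1).symm

/-- a Noetherian ring is CM iff `depth_a R = ht a` for all proper ideals `a`. -/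
theorem isCohenMacaulayRing_iff_idealDepth_eq_height :
    IsCohenMacaulayRing R ↔ ∀ a : Ideal R, a ≠ ⊤ → idealDepth a R = a.height := by
  constructor
  · intro hCM a _
    rw [idealDepth_eq_iInf_depth_localization a R]
    apply le_antisymm
    · rw [Ideal.height_eq_inf_minimalPrimes]
      refine le_iInf₂ fun J hJ => ?_
      have hJprime : J.IsPrime := hJ.1.1
      refine (iInf₂_le (⟨J, hJprime⟩ : PrimeSpectrum R) hJ.1.2).trans (le_of_eq ?_)
      rw [depth_localizedModule_self]
      exact depth_localization_eq_height_of_isCohenMacaulayLocalRing R J
        (hCM.isCohenMacaulayLocalRing_localization J)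
    · refine le_iInf₂ fun q hq => ?_
      rw [depth_localizedModule_self,
        depth_localization_eq_height_of_isCohenMacaulayLocalRing R q.asIdeal
          (hCM.isCohenMacaulayLocalRing_localization q.asIdeal)]
      exact Ideal.height_mono hq
  · intro h
    refine @IsCohenMacaulayRing.mk R _ inferInstance (fun q _ => ?_)
    refine @IsCohenMacaulayLocalRing.mk (Localization.AtPrime q) _ inferInstance inferInstance ?_
    have h1 := h q (Ideal.IsPrime.ne_top inferInstance)
    have h2 := idealDepth_le_depth_localization q R q le_rfl
    rw [depth_localizedModule_self, h1] at h2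
    have h3 := depth_localization_le_height R q
    rw [Module.supportDim_self_eq_ringKrullDim,
      IsLocalization.AtPrime.ringKrullDim_eq_height q (Localization.AtPrime q),
      le_antisymm h3 h2]

end

end Groth.Agent.Lib.helper26.Depth
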