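import Mathlib
import Groth.Agent.Lib.Helper26.DepthLoc3

/-!
# Depth and numbers of generators (helper26)

`depth_{(J,x)} M ≤ depth_J M + 1`, and `depth_{(x_1..x_n)} M = n` iff `x` is a regular sequence
(local case).
-/

set_option autoImplicit false
universe u

open CategoryTheory Abelian RingTheory.Sequence LocCoh IsLocalRing
open scoped Pointwise

namespace Groth.Agent.Lib.helper26.Depth

section annih

variable {A : Type u} [CommRing A] [IsNoetherianRing A]

/-- adding to the ideal something that kills the module does not change the depth. -/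
theorem idealDepth_sup_eq_of_le_annihilator (J K : Ideal A) (N : Type u) [AddCommGroup N]
    [Module A N] [Module.Finite A N] (hK : K ≤ Module.annihilator A N) :
    idealDepth (J ⊔ K) N = idealDepth J N := by
  have htors : Module.IsTorsionBySet A N (K : Set A) :=
    fun n a => Module.mem_annihilator.mp (hK a.2) n
  let _ : Module (A ⧸ K) N := htors.module
  have hfin : Module.Finite (A ⧸ K) N := Module.Finite.of_restrictScalars_finite A (A ⧸ K) N
  rw [idealDepth_map_eq (A := A) (B := A ⧸ K) (J ⊔ K) N,
    idealDepth_map_eq (A := A) (B := A ⧸ K) J N]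
  congr 1
  change Ideal.map (Ideal.Quotient.mk K) (J ⊔ K) = Ideal.map (Ideal.Quotient.mk K) J
  rw [Ideal.map_sup, Ideal.map_quotient_self, sup_bot_eq]

end annih

section local_

variable {A : Type u} [CommRing A] [IsNoetherianRing A] [IsLocalRing A]
  (M : Type u) [AddCommGroup M] [Module A M] [Module.Finite A M] [Nontrivial M]

/-- `depth_{(J,x)} M ≤ depth_J M + 1`. -/
theorem idealDepth_sup_span_singleton_le (J : Ideal A) (hJ : J ≠ ⊤) (x : A)
    (hx : x ∈ maximalIdeal A) :
    idealDepth (J ⊔ Ideal.span {x}) M ≤ idealDepth J M + 1 := by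
  have hJM := smul_top_ne_top_of_ne_top J hJ M
  obtain ⟨p, hJp, hp⟩ := exists_depth_localization_eq J M hJM
  by_cases hxp : x ∈ p.asIdeal
  · have hle : J ⊔ Ideal.span {x} ≤ p.asIdeal :=
      sup_le hJp ((Ideal.span_singleton_le_iff_mem _).mpr hxp)
    have := idealDepth_le_depth_localization p.asIdeal M _ hle
    rw [hp] at this
    exact this.trans le_self_add
  · have hIne : p.asIdeal ⊔ Ideal.span {x} ≠ ⊤ := by
      intro htop
      have hle : p.asIdeal ⊔ Ideal.span {x} ≤ maximalIdeal A :=
        sup_le (IsLocalRing.le_maximalIdeal p.isPrime.ne_top)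
          ((Ideal.span_singleton_le_iff_mem _).mpr hx)
      rw [htop] at hle
      exact (maximalIdeal.isMaximal A).ne_top (eq_top_iff.mpr hle)
    obtain ⟨⟨q, hq⟩⟩ := Ideal.nonempty_minimalPrimes hIne
    have hqprime : q.IsPrime := hq.1.1
    have hpq : p.asIdeal ≤ q := le_sup_left.trans hq.1.2
    have hle : J ⊔ Ideal.span {x} ≤ q :=
      (sup_le_sup_right hJp _).trans hq.1.2
    have h1 := idealDepth_le_depth_localization q M _ hle
    have h2 := depth_localization_le_add_height M p.asIdeal q hpq
    have h3 : (q.map (Ideal.Quotient.mk p.asIdeal)).height ≤ 1 := by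
      have hmem : q.map (Ideal.Quotient.mk p.asIdeal) ∈
          (Ideal.span {Ideal.Quotient.mk p.asIdeal x}).minimalPrimes := by
        have := Ideal.minimalPrimes_map_of_surjective
          (f := Ideal.Quotient.mk p.asIdeal) Ideal.Quotient.mk_surjective (Ideal.span {x})
        rw [Ideal.map_span, Set.image_singleton, Ideal.mk_ker] at this
        rw [this]
        refine ⟨q, ?_, rfl⟩
        rw [sup_comm]
        exact hq
      exact Ideal.height_le_one_of_isPrincipal_of_mem_minimalPrimes _ _ hmem
    rw [hp] at h2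
    calc idealDepth (J ⊔ Ideal.span {x}) M
        ≤ depth (Localization.AtPrime q) (LocalizedModule q.primeCompl M) := h1
      _ ≤ idealDepth J M + (q.map (Ideal.Quotient.mk p.asIdeal)).height := h2
      _ ≤ idealDepth J M + 1 := by gcongr

/-- `depth_{J + (l)} M ≤ depth_J M + |l|`. -/
theorem idealDepth_sup_ofList_le (l : List A) : ∀ (J : Ideal A), J ≠ ⊤ →
    (∀ y ∈ l, y ∈ maximalIdeal A) →
    idealDepth (J ⊔ Ideal.ofList l) M ≤ idealDepth J M + l.length := by
  induction l with
  | nil =>
    intro J _ _
    rw [Ideal.ofList_nil, sup_bot_eq]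
    simp
  | cons y l ih =>
    intro J hJ hmem
    have hy : y ∈ maximalIdeal A := hmem y List.mem_cons_self
    have hJ' : J ⊔ Ideal.span {y} ≠ ⊤ := by
      intro htop
      have hle : J ⊔ Ideal.span {y} ≤ maximalIdeal A :=
        sup_le (IsLocalRing.le_maximalIdeal hJ) ((Ideal.span_singleton_le_iff_mem _).mpr hy)
      rw [htop] at hle
      exact (maximalIdeal.isMaximal A).ne_top (eq_top_iff.mpr hle)
    have h1 := ih (J ⊔ Ideal.span {y}) hJ' (fun z hz => hmem z (List.mem_cons_of_mem _ hz))
    have h2 := idealDepth_sup_span_singleton_le M J hJ y hy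
    rw [Ideal.ofList_cons, ← sup_assoc, List.length_cons]
    refine h1.trans ?_
    calc idealDepth (J ⊔ Ideal.span {y}) M + (l.length : ℕ∞)
        ≤ (idealDepth J M + 1) + l.length := by gcongr
      _ = idealDepth J M + ((l.length + 1 : ℕ) : ℕ∞) := by push_cast; ring

end local_

section main

variable {A : Type u} [CommRing A] [IsNoetherianRing A] [IsLocalRing A]

lemma ofList_le_maximalIdeal (xs : List A) (hxs : ∀ x ∈ xs, x ∈ maximalIdeal A) :
    Ideal.ofList xs ≤ maximalIdeal A := by
  rw [Ideal.ofList, Ideal.span_le]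
  exact fun x hx => hxs x hx

lemma ofList_ne_top (xs : List A) (hxs : ∀ x ∈ xs, x ∈ maximalIdeal A) :
    Ideal.ofList xs ≠ ⊤ := by
  intro htop
  have := ofList_le_maximalIdeal xs hxs
  rw [htop] at this
  exact (maximalIdeal.isMaximal A).ne_top (eq_top_iff.mpr this)

/-- a regular sequence generates an ideal of depth equal to its length. -/
theorem idealDepth_ofList_eq_length_of_isWeaklyRegular (M : Type u) [AddCommGroup M] [Module A M]
    [Module.Finite A M] [Nontrivial M] (xs : List A) (hxs : ∀ x ∈ xs, x ∈ maximalIdeal A)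
    (hreg : IsWeaklyRegular M xs) : idealDepth (Ideal.ofList xs) M = xs.length := by
  have hmem : ∀ x ∈ xs, x ∈ Ideal.ofList xs := fun x hx => Ideal.subset_span hx
  have h1 := idealDepth_quot_ofList_add_length (Ideal.ofList xs) xs M hmem hreg
  have hntN := nontrivial_quot_ofList xs M hxs
  obtain ⟨m, hm⟩ := exists_ne (0 : M ⧸ (Ideal.ofList xs • ⊤ : Submodule A M))
  have h0 : idealDepth (Ideal.ofList xs) (M ⧸ (Ideal.ofList xs • ⊤ : Submodule A M)) = 0 := by
    refine idealDepth_eq_zero_of_annihilated _ _
      (smul_top_ne_top_of_ne_top _ (ofList_ne_top xs hxs) _) m hm ?_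
    intro s hs
    obtain ⟨m', rfl⟩ := Submodule.Quotient.mk_surjective _ m
    rw [← Submodule.Quotient.mk_smul, Submodule.Quotient.mk_eq_zero]
    exact Submodule.smul_mem_smul hs Submodule.mem_top
  rw [h0, zero_add] at h1
  exact h1.symm

/-- if `depth_{(xs)} M = |xs|` then `xs` is a regular sequence. -/
theorem isWeaklyRegular_of_idealDepth_ofList_eq_length (xs : List A) :
    ∀ (M : Type u) [AddCommGroup M] [Module A M] [Module.Finite A M] [Nontrivial M],
      (∀ x ∈ xs, x ∈ maximalIdeal A) → idealDepth (Ideal.ofList xs) M = xs.length →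
      IsWeaklyRegular M xs := by
  induction xs with
  | nil =>
    intro M _ _ _ _ _ _
    exact IsWeaklyRegular.nil A M
  | cons x xs ih =>
    intro M _ _ _ _ hmem hdepth
    have hx : x ∈ maximalIdeal A := hmem x List.mem_cons_self
    have hxs : ∀ y ∈ xs, y ∈ maximalIdeal A := fun y hy => hmem y (List.mem_cons_of_mem _ hy)
    have hxne : Ideal.span {x} ≠ ⊤ := by
      intro htop
      have hle : Ideal.span {x} ≤ maximalIdeal A := (Ideal.span_singleton_le_iff_mem _).mpr hx
      rw [htop] at hle
      exact (maximalIdeal.isMaximal A).ne_top (eq_top_iff.mpr hle)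
    -- step 1: `x` is regular
    have h1 := idealDepth_sup_ofList_le M xs (Ideal.span {x}) hxne hxs
    rw [← Ideal.ofList_cons, hdepth, List.length_cons] at h1
    have hxM := smul_top_ne_top_of_ne_top (Ideal.span {x}) hxne M
    obtain ⟨g, hg⟩ := ENat.ne_top_iff_exists.mp (idealDepth_ne_top (Ideal.span {x}) M hxM)
    rw [← hg] at h1
    have h1' : xs.length + 1 ≤ g + xs.length := by exact_mod_cast h1
    have hg1 : ((1 : ℕ) : ℕ∞) ≤ idealDepth (Ideal.span {x}) M := by
      rw [← hg]
      have : 1 ≤ g := by omega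
      exact_mod_cast this
    obtain ⟨rs, hlen, hrmem, hrreg⟩ := exists_isWeaklyRegular_of_le hxM hg1
    obtain ⟨r, rfl⟩ := List.length_eq_one_iff.mp hlen
    have hr : r ∈ Ideal.span {x} := hrmem r (by simp)
    obtain ⟨c, rfl⟩ := Ideal.mem_span_singleton'.mp hr
    have hregx : IsSMulRegular M x :=
      IsSMulRegular.of_mul ((isWeaklyRegular_singleton_iff M _).mp hrreg)
    -- step 2
    have hxa : x ∈ Ideal.ofList (x :: xs) := Ideal.subset_span List.mem_cons_self
    have h2 := idealDepth_quotSMulTop_add_one (Ideal.ofList (x :: xs)) M x hxa hregx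
    rw [hdepth, List.length_cons] at h2
    have h3 : idealDepth (Ideal.ofList (x :: xs)) (QuotSMulTop x M) = xs.length := by
      have : idealDepth (Ideal.ofList (x :: xs)) (QuotSMulTop x M) + 1 = (xs.length : ℕ∞) + 1 := by
        rw [h2]
        push_cast
        rfl
      exact enat_add_one_cancel this
    -- step 3
    have hann : Ideal.span {x} ≤ Module.annihilator A (QuotSMulTop x M) := by
      rw [Ideal.span_le, Set.singleton_subset_iff, SetLike.mem_coe, Module.mem_annihilator]
      intro n
      obtain ⟨m, rfl⟩ := Submodule.Quotient.mk_surjective _ n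
      rw [← Submodule.Quotient.mk_smul, Submodule.Quotient.mk_eq_zero]
      exact Submodule.smul_mem_pointwise_smul m x ⊤ Submodule.mem_top
    have h4 := idealDepth_sup_eq_of_le_annihilator (Ideal.ofList xs) (Ideal.span {x})
      (QuotSMulTop x M) hann
    rw [sup_comm, ← Ideal.ofList_cons, h3] at h4
    have hntQ := nontrivial_quotSMulTop x M hx
    exact (isWeaklyRegular_cons_iff M x xs).mpr ⟨hregx, ih (QuotSMulTop x M) hxs h4.symm⟩

end main

end Groth.Agent.Lib.helper26.Depth
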