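import Mathlib
import Groth.Agent.Lib.Helper26.DepthGen

/-!
# Depth of kernels, `(S_k)` and depth along an ideal (helper26)
-/

set_option autoImplicit false
universe u

open CategoryTheory Abelian RingTheory.Sequence LocCoh IsLocalRing
open scoped Pointwise

namespace Groth.Agent.Lib.helper26.Depth

section sub

variable {R : Type u} [CommRing R] [IsNoetherianRing R] (I : Ideal R)
  {N' N : Type u} [AddCommGroup N'] [Module R N'] [Module.Finite R N']
  [AddCommGroup N] [Module R N] [Module.Finite R N]

/-- submodules of modules of positive depth have positive depth. -/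
theorem one_le_idealDepth_of_injective (f : N' →ₗ[R] N) (hf : Function.Injective f)
    (h : 1 ≤ idealDepth I N) : 1 ≤ idealDepth I N' := by
  have h1 : ((1 : ℕ) : ℕ∞) ≤ idealDepth I N := by exact_mod_cast h
  rw [le_idealDepth_iff_ext] at h1
  have h2 : ((1 : ℕ) : ℕ∞) ≤ idealDepth I N' := by
    rw [le_idealDepth_iff_ext]
    intro i hi
    have hi0 : i = 0 := by omega
    subst hi0
    have h3 := h1 0 (by omega)
    have hmono : Mono (ModuleCat.ofHom f) := (ModuleCat.mono_iff_injective _).mpr hf
    exact (Ext.postcomp_mk₀_injective_of_mono (ModuleCat.of R (R ⧸ I))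
      (ModuleCat.ofHom f)).subsingleton
  exact_mod_cast h2

/-- depth of a kernel. -/
theorem two_le_idealDepth_ker {E0 E1 : Type u} [AddCommGroup E0] [Module R E0] [Module.Finite R E0]
    [AddCommGroup E1] [Module R E1] [Module.Finite R E1] (u : E0 →ₗ[R] E1)
    (h0 : 2 ≤ idealDepth I E0) (h1 : 1 ≤ idealDepth I E1) :
    2 ≤ idealDepth I (LinearMap.ker u) := by
  have hK : 1 ≤ idealDepth I (LinearMap.range u) :=
    one_le_idealDepth_of_injective I (LinearMap.range u).subtype
      (LinearMap.range u).injective_subtype h1
  have hex : Function.Exact (LinearMap.ker u).subtype u.rangeRestrict := by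
    intro x
    constructor
    · intro hx
      refine ⟨⟨x, ?_⟩, rfl⟩
      have := congrArg Subtype.val hx
      simpa using this
    · rintro ⟨y, rfl⟩
      apply Subtype.ext
      simp
  have h := min_le_idealDepth_X₁ I (LinearMap.ker u).subtype u.rangeRestrict
    (LinearMap.ker u).injective_subtype u.surjective_rangeRestrict hex
  refine le_trans ?_ h
  rw [le_min_iff]
  refine ⟨h0, ?_⟩
  have : (1 : ℕ∞) + 1 ≤ idealDepth I (LinearMap.range u) + 1 := by gcongr
  simpa [one_add_one_eq_two] using this

end sub

section Sk

variable {A : Type u} [CommRing A] [IsNoetherianRing A]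

/-- `(S_k)` and codimension `≥ k` along `V(I)` give `depth_I M ≥ k`. -/
theorem le_idealDepth_of_hasSk (k : ℕ) (M : Type u) [AddCommGroup M] [Module A M]
    [Module.Finite A M] (I : Ideal A) (hS : HasSk k A M)
    (hcodim : ∀ p : PrimeSpectrum A, I ≤ p.asIdeal → p ∈ Module.support A M →
      (k : WithBot ℕ∞) ≤ Module.supportDim (Localization.AtPrime p.asIdeal)
        (LocalizedModule p.asIdeal.primeCompl M)) :
    (k : ℕ∞) ≤ idealDepth I M := by
  rw [idealDepth_eq_iInf_depth_localization I M]
  refine le_iInf₂ fun p hp => ?_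
  by_cases hsupp : p ∈ Module.support A M
  · have h1 := hS p.asIdeal
    rw [min_eq_left (hcodim p hp hsupp)] at h1
    exact_mod_cast h1
  · rw [Module.notMem_support_iff] at hsupp
    have hsub' : Subsingleton (Submodule (Localization.AtPrime p.asIdeal)
        (LocalizedModule p.asIdeal.primeCompl M)) := (Submodule.subsingleton_iff _).mpr hsupp
    unfold depth
    rw [idealDepth_eq_top_of_smul_top_eq_top _ _ (Subsingleton.elim _ _)]
    exact le_top

end Sk

end Groth.Agent.Lib.helper26.Depth
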