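import Mathlib
import Groth.Agent.Lib.Helper26.DepthKer
import Groth.Agent.Lib.Helper26.SuppLoc

/-!
# Serre's conditions for kernels (helper26)
-/

set_option autoImplicit false
universe u

open CategoryTheory Abelian RingTheory.Sequence LocCoh IsLocalRing
open scoped Pointwise

namespace Groth.Agent.Lib.helper26.Depth

section casts

lemma natCast_le_coe_iff (k d : ℕ) :
    ((k : ℕ) : WithBot ℕ∞) ≤ ((d : ℕ∞) : WithBot ℕ∞) ↔ k ≤ d := by
  have : ((k : ℕ) : WithBot ℕ∞) = (((k : ℕ) : ℕ∞) : WithBot ℕ∞) := rfl
  rw [this, WithBot.coe_le_coe, Nat.cast_le]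

lemma min_natCast_le_coe_iff (k a d : ℕ) :
    min ((k : ℕ) : WithBot ℕ∞) ((a : ℕ) : WithBot ℕ∞) ≤ ((d : ℕ∞) : WithBot ℕ∞) ↔
      min k a ≤ d := by
  rw [min_le_iff, min_le_iff, natCast_le_coe_iff, natCast_le_coe_iff]

end casts

section exact

variable {R : Type u} [CommRing R] [IsNoetherianRing R] (I : Ideal R)
  {G E0 E1 : Type u} [AddCommGroup G] [Module R G] [Module.Finite R G]
  [AddCommGroup E0] [Module R E0] [Module.Finite R E0]
  [AddCommGroup E1] [Module R E1] [Module.Finite R E1]

/-- depth of the first term of a left exact sequence. -/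
theorem two_le_idealDepth_of_exact (ι : G →ₗ[R] E0) (u : E0 →ₗ[R] E1) (hι : Function.Injective ι)
    (hex : Function.Exact ι u) (h0 : 2 ≤ idealDepth I E0) (h1 : 1 ≤ idealDepth I E1) :
    2 ≤ idealDepth I G := by
  have hker : LinearMap.ker u = LinearMap.range ι := LinearMap.exact_iff.mp hex
  let e : G ≃ₗ[R] LinearMap.ker u :=
    (LinearEquiv.ofInjective ι hι).trans (LinearEquiv.ofEq _ _ hker.symm)
  rw [idealDepth_congr e]
  exact two_le_idealDepth_ker I u h0 h1

end exact

section loc

variable {A : Type u} [CommRing A] [IsNoetherianRing A]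
  {E0 E1 : Type u} [AddCommGroup E0] [Module A E0] [Module.Finite A E0]
  [AddCommGroup E1] [Module A E1] [Module.Finite A E1]

omit [IsNoetherianRing A] [Module.Finite A E0] [Module.Finite A E1] in
lemma localized_exact (p : Ideal A) [p.IsPrime] {G : Type u} [AddCommGroup G] [Module A G]
    (ι : G →ₗ[A] E0) (u : E0 →ₗ[A] E1) (hex : Function.Exact ι u) :
    Function.Exact (LocalizedModule.map p.primeCompl ι) (LocalizedModule.map p.primeCompl u) :=
  LocalizedModule.map_exact p.primeCompl ι u hex

omit [IsNoetherianRing A] in
/-- support inclusion passes to localizations and gives an inequality of dimensions. -/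
lemma supportDim_localization_le_of_support_subset (p : Ideal A) [p.IsPrime] {G : Type u}
    [AddCommGroup G] [Module A G] (h : Module.support A G ⊆ Module.support A E1) :
    Module.supportDim (Localization.AtPrime p) (LocalizedModule p.primeCompl G) ≤
      Module.supportDim (Localization.AtPrime p) (LocalizedModule p.primeCompl E1) := by
  have hsub : Module.support (Localization.AtPrime p) (LocalizedModule p.primeCompl G) ⊆
      Module.support (Localization.AtPrime p) (LocalizedModule p.primeCompl E1) := by
    intro q' hq'
    rw [SuppLoc.mem_support_localizedModule_iff] at hq' ⊢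
    exact h hq'
  exact Order.krullDim_le_of_strictMono (Set.inclusion hsub) (fun _ _ hab => hab)

/-- `(S_1)` and `(S_2)` for kernels. -/
theorem hasSk_ker (u : E0 →ₗ[A] E1) :
    (HasSk 1 A E0 → HasSk 1 A (LinearMap.ker u)) ∧
    (Module.support A (LinearMap.ker u) ⊆ Module.support A E1 → HasSk 1 A E1 → HasSk 2 A E0 →
      HasSk 2 A (LinearMap.ker u)) := by
  have hex : Function.Exact (LinearMap.ker u).subtype u := by
    intro x
    constructor
    · intro hx
      exact ⟨⟨x, hx⟩, rfl⟩
    · rintro ⟨y, rfl⟩
      exact y.2
  have common : ∀ (p : Ideal A) [p.IsPrime],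
      Nontrivial (LocalizedModule p.primeCompl (LinearMap.ker u)) →
      Nontrivial (LocalizedModule p.primeCompl E0) ∧
      Module.supportDim (Localization.AtPrime p) (LocalizedModule p.primeCompl (LinearMap.ker u)) ≤
        Module.supportDim (Localization.AtPrime p) (LocalizedModule p.primeCompl E0) ∧
      (1 ≤ depth (Localization.AtPrime p) (LocalizedModule p.primeCompl E0) →
        1 ≤ depth (Localization.AtPrime p) (LocalizedModule p.primeCompl (LinearMap.ker u))) ∧
      (2 ≤ depth (Localization.AtPrime p) (LocalizedModule p.primeCompl E0) →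
        1 ≤ depth (Localization.AtPrime p) (LocalizedModule p.primeCompl E1) →
        2 ≤ depth (Localization.AtPrime p) (LocalizedModule p.primeCompl (LinearMap.ker u))) := by
    intro p _ hnt
    have hinj := LocalizedModule.map_injective p.primeCompl (LinearMap.ker u).subtype
      (LinearMap.ker u).injective_subtype
    have hex' := localized_exact p (LinearMap.ker u).subtype u hex
    refine ⟨hinj.nontrivial, Module.supportDim_le_of_injective _ hinj, ?_, ?_⟩
    · exact one_le_idealDepth_of_injective _ _ hinj
    · exact two_le_idealDepth_of_exact _ _ _ hinj hex'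
  constructor
  · intro hS p _
    by_cases hnt : Nontrivial (LocalizedModule p.primeCompl (LinearMap.ker u))
    · obtain ⟨hnt0, hdim, hd1, -⟩ := common p hnt
      have h0 := hS p
      obtain ⟨a, ha⟩ := exists_nat_supportDim (A := Localization.AtPrime p)
        (LocalizedModule p.primeCompl (LinearMap.ker u))
      obtain ⟨b, hb⟩ := exists_nat_supportDim (A := Localization.AtPrime p)
        (LocalizedModule p.primeCompl E0)
      obtain ⟨dG, hdG⟩ := exists_nat_depth (A := Localization.AtPrime p)
        (LocalizedModule p.primeCompl (LinearMap.ker u))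
      obtain ⟨d0, hd0⟩ := exists_nat_depth (A := Localization.AtPrime p)
        (LocalizedModule p.primeCompl E0)
      rw [ha, hb] at hdim
      rw [hb, hd0] at h0
      rw [hd0, hdG] at hd1
      rw [ha, hdG]
      have g0 : a ≤ b := by exact_mod_cast hdim
      rw [min_natCast_le_coe_iff] at h0 ⊢
      have g2 : 1 ≤ d0 → 1 ≤ dG := fun h => by
        have := hd1 (by exact_mod_cast h)
        exact_mod_cast this
      omega
    · rw [not_nontrivial_iff_subsingleton] at hnt
      rw [Module.supportDim_eq_bot_of_subsingleton]
      simp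
  · intro hsupp hS1 hS2 p _
    by_cases hnt : Nontrivial (LocalizedModule p.primeCompl (LinearMap.ker u))
    · obtain ⟨hnt0, hdim, hd1, hd2⟩ := common p hnt
      have hp : (⟨p, inferInstance⟩ : PrimeSpectrum A) ∈ Module.support A (LinearMap.ker u) := hnt
      have hnt1 : Nontrivial (LocalizedModule p.primeCompl E1) := hsupp hp
      have hdim1 := supportDim_localization_le_of_support_subset (E1 := E1) p hsupp
      have h0 := hS2 p
      have h1 := hS1 p
      obtain ⟨a, ha⟩ := exists_nat_supportDim (A := Localization.AtPrime p)
        (LocalizedModule p.primeCompl (LinearMap.ker u))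
      obtain ⟨b, hb⟩ := exists_nat_supportDim (A := Localization.AtPrime p)
        (LocalizedModule p.primeCompl E0)
      obtain ⟨c, hc⟩ := exists_nat_supportDim (A := Localization.AtPrime p)
        (LocalizedModule p.primeCompl E1)
      obtain ⟨dG, hdG⟩ := exists_nat_depth (A := Localization.AtPrime p)
        (LocalizedModule p.primeCompl (LinearMap.ker u))
      obtain ⟨d0, hd0⟩ := exists_nat_depth (A := Localization.AtPrime p)
        (LocalizedModule p.primeCompl E0)
      obtain ⟨d1, hd1'⟩ := exists_nat_depth (A := Localization.AtPrime p)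
        (LocalizedModule p.primeCompl E1)
      rw [ha, hb] at hdim
      rw [ha, hc] at hdim1
      rw [hb, hd0] at h0
      rw [hc, hd1'] at h1
      rw [hd0, hdG] at hd1
      rw [hd0, hd1', hdG] at hd2
      rw [ha, hdG]
      have g0 : a ≤ b := by exact_mod_cast hdim
      have g0' : a ≤ c := by exact_mod_cast hdim1
      rw [min_natCast_le_coe_iff] at h0 h1 ⊢
      have g2 : 1 ≤ d0 → 1 ≤ dG := fun h => by
        have := hd1 (by exact_mod_cast h)
        exact_mod_cast this
      have g3 : 2 ≤ d0 → 1 ≤ d1 → 2 ≤ dG := fun h h' => by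
        have := hd2 (by exact_mod_cast h) (by exact_mod_cast h')
        exact_mod_cast this
      omega
    · rw [not_nontrivial_iff_subsingleton] at hnt
      rw [Module.supportDim_eq_bot_of_subsingleton]
      simp

end loc

end Groth.Agent.Lib.helper26.Depth
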