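import Mathlib
import Groth.Agent.Lib.Helper26.Sk3
import Groth.Agent.Lib.Helper26.CM7

/-!
# Reflexive modules as kernels of maps of free modules; depth and `(S_k)` (helper26)
-/

set_option autoImplicit false
universe u

open CategoryTheory Abelian RingTheory.Sequence LocCoh IsLocalRing
open scoped Pointwise

namespace Groth.Agent.Lib.helper26.Depth

section structure_

variable {A : Type u} [CommRing A] [IsNoetherianRing A]

/-- a finite reflexive module is the kernel of a map between finite free modules. -/
theorem exists_ker_free_of_isReflexive (G : Type u) [AddCommGroup G] [Module A G]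
    [Module.Finite A G] [Module.IsReflexive A G] :
    ∃ (n m : ℕ) (u : Module.Dual A (Fin n → A) →ₗ[A] Module.Dual A (Fin m → A)),
      Nonempty (G ≃ₗ[A] LinearMap.ker u) := by
  obtain ⟨n, π, hπ⟩ := Module.Finite.exists_fin' A (Module.Dual A G)
  obtain ⟨m, ρ, hρ⟩ := Module.Finite.exists_fin' A (LinearMap.ker π)
  let ι : (Fin m → A) →ₗ[A] (Fin n → A) := (LinearMap.ker π).subtype ∘ₗ ρ
  have hrange : LinearMap.range ι = LinearMap.ker π := by
    rw [LinearMap.range_comp, LinearMap.range_eq_top.mpr hρ, Submodule.map_top,
      Submodule.range_subtype]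
  let e1 : Module.Dual A (Module.Dual A G) ≃ₗ[A] LinearMap.range π.dualMap :=
    LinearEquiv.ofInjective π.dualMap (LinearMap.dualMap_injective_of_surjective hπ)
  have heq : LinearMap.range π.dualMap = LinearMap.ker ι.dualMap := by
    rw [LinearMap.ker_dualMap_eq_dualAnnihilator_range, hrange,
      LinearMap.range_dualMap_eq_dualAnnihilator_ker_of_surjective π hπ]
  exact ⟨n, m, ι.dualMap,
    ⟨(Module.evalEquiv A G).trans (e1.trans (LinearEquiv.ofEq _ _ heq))⟩⟩

end structure_

section free

variable {A : Type u} [CommRing A] [IsNoetherianRing A]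

/-- free modules inherit lower bounds on the depth of the ring. -/
lemma le_idealDepth_of_free (I : Ideal A) (k : ℕ∞) (h : k ≤ idealDepth I A) (F : Type u)
    [AddCommGroup F] [Module A F] [Module.Free A F] [Module.Finite A F] :
    k ≤ idealDepth I F := by
  by_cases hF : Subsingleton F
  · have hsub' : Subsingleton (Submodule A F) := (Submodule.subsingleton_iff A).mpr hF
    rw [idealDepth_eq_top_of_smul_top_eq_top I F (Subsingleton.elim _ _)]
    exact le_top
  · rw [not_subsingleton_iff_nontrivial] at hF
    rw [idealDepth_free I F]
    exact h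

/-- dimension of a nonzero free module over a local ring. -/
lemma supportDim_free {S : Type u} [CommRing S] (F : Type u) [AddCommGroup F] [Module S F]
    [Module.Free S F] [Module.Finite S F] [Nontrivial F] :
    Module.supportDim S F = ringKrullDim S := by
  have hfaith : FaithfulSMul S F := inferInstance
  rw [Module.supportDim_eq_ringKrullDim_quotient_annihilator,
    Module.annihilator_eq_bot.mpr hfaith]
  exact ringKrullDim_eq_of_ringEquiv (RingEquiv.quotientBot S)

/-- free modules inherit `(S_k)` from the ring. -/
theorem hasSk_free (k : ℕ) (h : HasSk k A A) (F : Type u) [AddCommGroup F] [Module A F]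
    [Module.Free A F] [Module.Finite A F] : HasSk k A F := by
  intro p _
  by_cases hnt : Nontrivial (LocalizedModule p.primeCompl F)
  · have hfree : Module.Free (Localization.AtPrime p) (LocalizedModule p.primeCompl F) :=
      Module.free_of_isLocalizedModule p.primeCompl (LocalizedModule.mkLinearMap p.primeCompl F)
    have h1 := h p
    rw [depth_localizedModule_self,
      Module.supportDim_eq_of_equiv (selfEquiv A p).symm,
      Module.supportDim_self_eq_ringKrullDim] at h1
    rw [supportDim_free, depth_free]
    exact h1
  · rw [not_nontrivial_iff_subsingleton] at hnt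
    rw [Module.supportDim_eq_bot_of_subsingleton]
    simp

end free

section main

variable {A : Type u} [CommRing A] [IsNoetherianRing A]

omit [IsNoetherianRing A] in
lemma hasSk_congr (k : ℕ) {M N : Type u} [AddCommGroup M] [Module A M] [AddCommGroup N]
    [Module A N] (e : M ≃ₗ[A] N) (h : HasSk k A M) : HasSk k A N := by
  intro p _
  have h1 := h p
  have e' := localizedEquiv p e
  unfold depth at h1 ⊢
  rw [← Module.supportDim_eq_of_equiv e', ← idealDepth_congr e']
  exact h1

/-- depth and `(S_k)`, `k ≤ 2`, for reflexive modules. -/
theorem reflexive_depth_Sk (I : Ideal A) (G : Type u) [AddCommGroup G] [Module A G]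
    [Module.Finite A G] [Module.IsReflexive A G] :
    (1 ≤ idealDepth I A → 1 ≤ idealDepth I G) ∧
    (2 ≤ idealDepth I A → 2 ≤ idealDepth I G) ∧
    (HasSk 1 A A → HasSk 1 A G) ∧ (HasSk 2 A A → HasSk 2 A G) := by
  obtain ⟨n, m, u, ⟨e⟩⟩ := exists_ker_free_of_isReflexive (A := A) G
  refine ⟨fun h => ?_, fun h => ?_, fun h => ?_, fun h => ?_⟩
  · rw [idealDepth_congr (N := LinearMap.ker u) e]
    exact one_le_idealDepth_of_injective I (LinearMap.ker u).subtype
      (LinearMap.ker u).injective_subtype (le_idealDepth_of_free I 1 h _)
  · rw [idealDepth_congr (N := LinearMap.ker u) e]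
    exact two_le_idealDepth_ker I u (le_idealDepth_of_free I 2 h _)
      (le_idealDepth_of_free I 1 ((by norm_num : (1 : ℕ∞) ≤ 2).trans h) _)
  · exact hasSk_congr 1 e.symm ((hasSk_ker u).1 (hasSk_free 1 h _))
  · by_cases hA : Subsingleton A
    · have : Subsingleton G := Module.subsingleton A G
      intro p _
      rw [Module.supportDim_eq_bot_of_subsingleton]
      simp
    rw [not_subsingleton_iff_nontrivial] at hA
    -- enlarge the target so that its support is everything
    let u' : Module.Dual A (Fin n → A) →ₗ[A] (Module.Dual A (Fin m → A) × A) := u.prod 0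
    have hker : LinearMap.ker u' = LinearMap.ker u := by
      rw [LinearMap.ker_prod, LinearMap.ker_zero, inf_top_eq]
    have hS1 : HasSk 1 A A := by
      intro p _
      have h2 := h p
      refine le_trans ?_ h2
      rw [le_min_iff]
      refine ⟨(min_le_left _ _).trans ?_, min_le_right _ _⟩
      exact_mod_cast (by norm_num : (1 : ℕ) ≤ 2)
    have hsupp : Module.support A (LinearMap.ker u') ⊆
        Module.support A (Module.Dual A (Fin m → A) × A) := by
      intro q _
      have hq : q ∈ Module.support A A := by
        rw [Module.support_eq_zeroLocus, Module.annihilator_eq_bot.mpr inferInstance]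
        simp
      exact Module.support_subset_of_injective (LinearMap.inr A (Module.Dual A (Fin m → A)) A)
        LinearMap.inr_injective hq
    have h3 := (hasSk_ker u').2 hsupp (hasSk_free 1 hS1 _) (hasSk_free 2 h _)
    exact hasSk_congr 2 (e.trans (LinearEquiv.ofEq _ _ hker.symm)).symm h3

end main

end Groth.Agent.Lib.helper26.Depth
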