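import Mathlib

/-!
# Reflexivity and localization (helper26)

For a finite module `M` over a Noetherian ring `R` and a localization `M → M'`, `R → Rₛ`:
if `M'` is reflexive over `Rₛ`, then the kernel and cokernel of `ev : M → M**` are `S`-torsion.
-/

set_option autoImplicit false
universe u

namespace Groth.Agent.Lib.helper26.ReflexiveLoc

section evalLoc

variable {R : Type u} [CommRing R] [IsNoetherianRing R] (S : Submonoid R)
  (Rₛ : Type u) [CommRing Rₛ] [Algebra R Rₛ] [IsLocalization S Rₛ]
  {M : Type u} [AddCommGroup M] [Module R M] [Module.Finite R M]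
  {M' : Type u} [AddCommGroup M'] [Module R M'] [Module Rₛ M'] [IsScalarTower R Rₛ M']
  (f : M →ₗ[R] M') [IsLocalizedModule S f]

/-- the localization map on duals. -/
noncomputable def D1 : Module.Dual R M →ₗ[R] Module.Dual Rₛ M' :=
  IsLocalizedModule.mapExtendScalars S f (Algebra.linearMap R Rₛ) Rₛ

omit [IsNoetherianRing R] [Module.Finite R M] in
lemma D1_apply (φ : Module.Dual R M) (m : M) :
    D1 S Rₛ f φ (f m) = algebraMap R Rₛ (φ m) := by
  simp [D1, IsLocalizedModule.mapExtendScalars_apply_apply, IsLocalizedModule.map_apply]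

instance : IsLocalizedModule S (D1 S Rₛ f) := by
  have : Module.FinitePresentation R M := Module.finitePresentation_of_finite R M
  unfold D1
  infer_instance

/-- the localization map on double duals. -/
noncomputable def D2 :
    Module.Dual R (Module.Dual R M) →ₗ[R] Module.Dual Rₛ (Module.Dual Rₛ M') :=
  IsLocalizedModule.mapExtendScalars S (D1 S Rₛ f) (Algebra.linearMap R Rₛ) Rₛ

instance : IsLocalizedModule S (D2 S Rₛ f) := by
  have : Module.FinitePresentation R (Module.Dual R M) :=
    Module.finitePresentation_of_finite R _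
  unfold D2
  infer_instance

lemma D2_eval (m : M) :
    D2 S Rₛ f (Module.Dual.eval R M m) = Module.Dual.eval Rₛ M' (f m) := by
  apply LinearMap.restrictScalars_injective R
  apply IsLocalizedModule.linearMap_ext S (D1 S Rₛ f) (Algebra.linearMap R Rₛ)
  ext φ
  simp [D2, D1_apply, IsLocalizedModule.mapExtendScalars_apply_apply, IsLocalizedModule.map_apply]

include f in
/-- If `M'` is reflexive then the kernel of `ev_M` is `S`-torsion. -/
theorem exists_smul_eq_zero_of_eval_eq_zero [Module.IsReflexive Rₛ M'] (x : M)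
    (hx : Module.Dual.eval R M x = 0) : ∃ s ∈ S, s • x = 0 := by
  have h1 : Module.Dual.eval Rₛ M' (f x) = 0 := by
    rw [← D2_eval S Rₛ f, hx, map_zero]
  have h2 : f x = 0 := by
    apply (Module.bijective_dual_eval Rₛ M').1
    rw [h1, map_zero]
  rw [← map_zero f] at h2
  obtain ⟨s, hs⟩ := IsLocalizedModule.exists_of_eq (S := S) (f := f) h2
  refine ⟨s.1, s.2, ?_⟩
  rw [Submonoid.smul_def, smul_zero] at hs
  exact hs

include f in
/-- If `M'` is reflexive then the cokernel of `ev_M` is `S`-torsion. -/
theorem exists_smul_mem_range_eval [Module.IsReflexive Rₛ M']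
    (φ : Module.Dual R (Module.Dual R M)) :
    ∃ s ∈ S, s • φ ∈ LinearMap.range (Module.Dual.eval R M) := by
  obtain ⟨y, hy⟩ := (Module.bijective_dual_eval Rₛ M').2 (D2 S Rₛ f φ)
  obtain ⟨⟨m, s⟩, hms⟩ := IsLocalizedModule.surj S f y
  rw [Submonoid.smul_def] at hms
  have h1 : D2 S Rₛ f ((s : R) • φ) = D2 S Rₛ f (Module.Dual.eval R M m) := by
    rw [D2_eval, ← hms, map_smul, LinearMap.map_smul_of_tower, hy]
  obtain ⟨t, ht⟩ := IsLocalizedModule.exists_of_eq (S := S) (f := D2 S Rₛ f) h1
  rw [Submonoid.smul_def, Submonoid.smul_def] at ht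
  refine ⟨(t : R) * s, S.mul_mem t.2 s.2, (t : R) • m, ?_⟩
  rw [map_smul, ← ht, mul_smul]

end evalLoc

end Groth.Agent.Lib.helper26.ReflexiveLoc
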