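import Mathlib
import Groth.Agent.Lib.Helper26.ReflexiveLoc
import Groth.Agent.Lib.Helper26.Reflexive

/-!
# A depth criterion for reflexivity (helper26)

`depth_I A ≥ 1`, `G` reflexive off `V(I)`, `depth_I G ≥ 2` imply `G` reflexive.
-/

set_option autoImplicit false
universe u

open CategoryTheory Abelian RingTheory.Sequence LocCoh IsLocalRing
open scoped Pointwise

namespace Groth.Agent.Lib.helper26.Depth

variable {R : Type u} [CommRing R] [IsNoetherianRing R]

/-- A finite module supported in `V(I)` with `depth_I ≥ 1` is zero. -/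
theorem subsingleton_of_torsion_of_one_le_idealDepth (I : Ideal R) (N : Type u) [AddCommGroup N]
    [Module R N] [Module.Finite R N]
    (hsupp : ∀ x : N, ∀ p : Ideal R, p.IsPrime → ¬ I ≤ p → ∃ s, s ∉ p ∧ s • x = 0)
    (h : 1 ≤ idealDepth I N) : Subsingleton N := by
  by_contra hN
  rw [not_subsingleton_iff_nontrivial] at hN
  obtain ⟨p, hp⟩ := associatedPrimes.nonempty R N
  rw [AssociatedPrimes.mem_iff, isAssociatedPrime_iff] at hp
  obtain ⟨hpprime, x, hx⟩ := hp
  have hIp : I ≤ p := by
    by_contra hIp
    obtain ⟨s, hs, hsx⟩ := hsupp x p hpprime hIp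
    apply hs
    rw [hx, Submodule.mem_colon_singleton, Submodule.mem_bot]
    exact hsx
  have hx0 : x ≠ 0 := by
    rintro rfl
    apply hpprime.ne_top
    rw [hx, Submodule.colon_singleton_zero]
  have hann : ∀ s ∈ I, s • x = 0 := by
    intro s hs
    have := hIp hs
    rw [hx, Submodule.mem_colon_singleton, Submodule.mem_bot] at this
    exact this
  have hIN : I • (⊤ : Submodule R N) ≠ ⊤ := by
    intro htop
    obtain ⟨r, hr, hr0⟩ := Submodule.exists_sub_one_mem_and_smul_eq_zero_of_fg_of_le_smul I
      (⊤ : Submodule R N) Module.Finite.fg_top (le_of_eq htop.symm)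
    apply hx0
    have h1 : r • x = 0 := hr0 x Submodule.mem_top
    have h2 : (r - 1) • x = 0 := hann _ hr
    rw [sub_smul, h1, one_smul, zero_sub, neg_eq_zero] at h2
    exact h2
  have h0 := idealDepth_eq_zero_of_annihilated I N hIN x hx0 hann
  rw [h0] at h
  exact absurd h (by simp)

/-- The dual of a finite module has `depth_I ≥ 1` as soon as the ring has. -/
theorem one_le_idealDepth_dual (I : Ideal R) (h : 1 ≤ idealDepth I R) (N : Type u)
    [AddCommGroup N] [Module R N] [Module.Finite R N] :
    1 ≤ idealDepth I (Module.Dual R N) := by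
  obtain ⟨n, π, hπ⟩ := Module.Finite.exists_fin' R N
  have hinj : Function.Injective (π.dualMap) := LinearMap.dualMap_injective_of_surjective hπ
  have h1 : 1 ≤ idealDepth I (Module.Dual R (Fin n → R)) := le_idealDepth_of_free I 1 h _
  exact one_le_idealDepth_of_injective I π.dualMap hinj h1

/-- **Depth criterion for reflexivity.** -/
theorem isReflexive_of_two_le_idealDepth (I : Ideal R) (hA : 1 ≤ idealDepth I R)
    (G : Type u) [AddCommGroup G] [Module R G] [Module.Finite R G]
    (hU : ∀ p : PrimeSpectrum R, ¬ I ≤ p.asIdeal →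
      Module.IsReflexive (Localization.AtPrime p.asIdeal) (LocalizedModule p.asIdeal.primeCompl G))
    (hG : 2 ≤ idealDepth I G) : Module.IsReflexive R G := by
  have h1G : 1 ≤ idealDepth I G := le_trans (by norm_num) hG
  -- injectivity
  have hK : Subsingleton (LinearMap.ker (Module.Dual.eval R G)) := by
    apply subsingleton_of_torsion_of_one_le_idealDepth I
    · intro x p hp hIp
      have := hU ⟨p, hp⟩ hIp
      obtain ⟨s, hs, hsx⟩ := ReflexiveLoc.exists_smul_eq_zero_of_eval_eq_zero p.primeCompl
        (Localization.AtPrime p) (LocalizedModule.mkLinearMap p.primeCompl G) x.1 x.2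
      exact ⟨s, hs, Subtype.ext hsx⟩
    · exact one_le_idealDepth_of_injective I (LinearMap.ker (Module.Dual.eval R G)).subtype
        (LinearMap.ker (Module.Dual.eval R G)).injective_subtype h1G
  have hinj : Function.Injective (Module.Dual.eval R G) := by
    rw [← LinearMap.ker_eq_bot]
    exact (Submodule.subsingleton_iff_eq_bot).mp hK
  -- surjectivity
  have hDD : 1 ≤ idealDepth I (Module.Dual R (Module.Dual R G)) := one_le_idealDepth_dual I hA _
  have hC : Subsingleton (Module.Dual R (Module.Dual R G) ⧸ LinearMap.range (Module.Dual.eval R G)) := by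
    apply subsingleton_of_torsion_of_one_le_idealDepth I
    · intro x p hp hIp
      have := hU ⟨p, hp⟩ hIp
      obtain ⟨φ, rfl⟩ := Submodule.Quotient.mk_surjective _ x
      obtain ⟨s, hs, hsx⟩ := ReflexiveLoc.exists_smul_mem_range_eval p.primeCompl
        (Localization.AtPrime p) (LocalizedModule.mkLinearMap p.primeCompl G) φ
      refine ⟨s, hs, ?_⟩
      rw [← Submodule.Quotient.mk_smul, Submodule.Quotient.mk_eq_zero]
      exact hsx
    · have h3 := min_le_idealDepth_X₃ I (Module.Dual.eval R G)
        (LinearMap.range (Module.Dual.eval R G)).mkQ hinj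
        (Submodule.mkQ_surjective _) (LinearMap.exact_map_mkQ_range _)
      refine le_trans ?_ h3
      rw [le_min_iff]
      refine ⟨hDD, ?_⟩
      have : (2 : ℕ∞) - 1 ≤ idealDepth I G - 1 := tsub_le_tsub_right hG 1
      refine le_trans ?_ this
      exact le_of_eq (by rfl)
  constructor
  refine ⟨hinj, ?_⟩
  rw [← LinearMap.range_eq_top]
  exact (Submodule.Quotient.subsingleton_iff).mp hC

end Groth.Agent.Lib.helper26.Depth
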