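import Mathlib
import Groth.Agent.Lib.Helper26.ReflexiveCrit
import Groth.Agent.Lib.Helper26.CM7

/-!
# Reflexivity, `(S_2)` and depth along an ideal of height `≥ 2` (helper26)
-/

set_option autoImplicit false
universe u

open CategoryTheory Abelian RingTheory.Sequence LocCoh IsLocalRing
open scoped Pointwise

namespace Groth.Agent.Lib.helper26.Depth

variable {A : Type u} [CommRing A] [IsNoetherianRing A]

omit [IsNoetherianRing A] in
lemma supportDim_localizedModule_self (p : Ideal A) [p.IsPrime] :
    Module.supportDim (Localization.AtPrime p) (LocalizedModule p.primeCompl A) = p.height := by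
  rw [← Module.supportDim_eq_of_equiv (selfEquiv A p), Module.supportDim_self_eq_ringKrullDim,
    IsLocalization.AtPrime.ringKrullDim_eq_height p]

theorem two_le_idealDepth_self_of_hasSk (hA : HasSk 2 A A) (I : Ideal A) (hI : 2 ≤ I.height) :
    2 ≤ idealDepth I A := by
  have h := le_idealDepth_of_hasSk 2 A I hA ?_
  · exact_mod_cast h
  intro p hp _
  rw [supportDim_localizedModule_self]
  have h1 : I.height ≤ p.asIdeal.height := Ideal.height_mono hp
  have h2 : (2 : ℕ∞) ≤ p.asIdeal.height := le_trans hI h1
  exact WithBot.coe_le_coe.mpr h2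

lemma sk_arith (s : WithBot ℕ∞) (t : ℕ) (dN : ℕ∞)
    (hx : min 2 s ≤ ((t : ℕ∞) : WithBot ℕ∞)) (h1 : 1 ≤ t → 1 ≤ dN) (h2 : 2 ≤ t → 2 ≤ dN) :
    min (2 : WithBot ℕ∞) s ≤ (dN : WithBot ℕ∞) := by
  rcases t with _ | _ | t
  · exact le_trans hx (WithBot.coe_le_coe.mpr (by simp))
  · refine le_trans hx (WithBot.coe_le_coe.mpr ?_)
    simpa using h1 le_rfl
  · have h : ((2 : ℕ∞) : WithBot ℕ∞) ≤ dN := WithBot.coe_le_coe.mpr (h2 (by omega))
    exact le_trans (min_le_left _ _) h

/-- `(S_2)` at a prime where the localization is reflexive. -/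
theorem sk_two_at_of_isReflexive (hA : HasSk 2 A A) (p : Ideal A) [p.IsPrime]
    (G : Type u) [AddCommGroup G] [Module A G] [Module.Finite A G]
    [Module.IsReflexive (Localization.AtPrime p) (LocalizedModule p.primeCompl G)] :
    min (2 : WithBot ℕ∞)
        (Module.supportDim (Localization.AtPrime p) (LocalizedModule p.primeCompl G)) ≤
      ((depth (Localization.AtPrime p) (LocalizedModule p.primeCompl G) : ℕ∞) : WithBot ℕ∞) := by
  have h := reflexive_depth_Sk (maximalIdeal (Localization.AtPrime p))
    (LocalizedModule p.primeCompl G)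
  have hAp := hA p
  rw [supportDim_localizedModule_self, depth_localizedModule_self] at hAp
  have hdim : Module.supportDim (Localization.AtPrime p) (LocalizedModule p.primeCompl G) ≤
      p.height := by
    rw [← IsLocalization.AtPrime.ringKrullDim_eq_height p (Localization.AtPrime p)]
    exact Module.supportDim_le_ringKrullDim _ _
  obtain ⟨t, ht⟩ := ENat.ne_top_iff_exists.mp
    (depth_ne_top (A := Localization.AtPrime p) (Localization.AtPrime p))
  have hx : min (2 : WithBot ℕ∞)
      (Module.supportDim (Localization.AtPrime p) (LocalizedModule p.primeCompl G)) ≤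
      ((t : ℕ∞) : WithBot ℕ∞) := by
    rw [ht]
    exact le_trans (min_le_min le_rfl hdim) hAp
  refine sk_arith _ t _ hx ?_ ?_
  · intro h1
    apply h.1
    change 1 ≤ depth (Localization.AtPrime p) (Localization.AtPrime p)
    rw [← ht]
    exact_mod_cast h1
  · intro h2
    apply h.2.1
    change 2 ≤ depth (Localization.AtPrime p) (Localization.AtPrime p)
    rw [← ht]
    exact_mod_cast h2

/-- The equivalences of S18704. -/
theorem reflexive_iff_two_le_idealDepth (hA : HasSk 2 A A) (I : Ideal A) (hI : 2 ≤ I.height)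
    (G : Type u) [AddCommGroup G] [Module A G] [Module.Finite A G]
    (hU : ∀ p : PrimeSpectrum A, ¬ I ≤ p.asIdeal →
      Module.IsReflexive (Localization.AtPrime p.asIdeal) (LocalizedModule p.asIdeal.primeCompl G)) :
    ((HasSk 2 A G ∧ ∀ p : PrimeSpectrum A, I ≤ p.asIdeal → p ∈ Module.support A G →
        (2 : WithBot ℕ∞) ≤ Module.supportDim (Localization.AtPrime p.asIdeal)
          (LocalizedModule p.asIdeal.primeCompl G)) ↔
      2 ≤ idealDepth I G) ∧
    (2 ≤ idealDepth I G ↔ Module.IsReflexive A G) := by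
  have hIA : 2 ≤ idealDepth I A := two_le_idealDepth_self_of_hasSk hA I hI
  refine ⟨⟨fun h => ?_, fun h => ⟨?_, ?_⟩⟩, ⟨fun h => ?_, fun h => ?_⟩⟩
  · have := le_idealDepth_of_hasSk 2 G I h.1 (by exact_mod_cast h.2)
    exact_mod_cast this
  · intro p _
    by_cases hIp : I ≤ p
    · have h1 := idealDepth_le_depth_localization p G I hIp
      have h2 : ((2 : ℕ∞) : WithBot ℕ∞) ≤
          ((depth (Localization.AtPrime p) (LocalizedModule p.primeCompl G) : ℕ∞) : WithBot ℕ∞) :=
        WithBot.coe_le_coe.mpr (le_trans h h1)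
      exact le_trans (min_le_left _ _) h2
    · have := hU ⟨p, inferInstance⟩ hIp
      exact sk_two_at_of_isReflexive hA p G
  · intro p hIp hsupp
    have hnt : Nontrivial (LocalizedModule p.asIdeal.primeCompl G) :=
      Module.mem_support_iff.mp hsupp
    have h1 := idealDepth_le_depth_localization p.asIdeal G I hIp
    have h2 : ((2 : ℕ∞) : WithBot ℕ∞) ≤
        ((depth (Localization.AtPrime p.asIdeal) (LocalizedModule p.asIdeal.primeCompl G) : ℕ∞) :
          WithBot ℕ∞) :=
      WithBot.coe_le_coe.mpr (le_trans h h1)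
    exact le_trans h2 (depth_le_supportDim (A := Localization.AtPrime p.asIdeal) _)
  · exact isReflexive_of_two_le_idealDepth I (le_trans (by norm_num) hIA) G hU h
  · exact (reflexive_depth_Sk I G).2.1 hIA

end Groth.Agent.Lib.helper26.Depth
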