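import Mathlib
import Groth.Agent.Lib.Helper26.DepthLoc3
import Groth.Agent.Lib.Helper26.ReflexiveCrit2
import Groth.Agent.Lib.Helper26.DepthCR2

/-!
# Lifting `(S_k)` from `A/tA` to `A` (helper26)
-/

set_option autoImplicit false
set_option linter.unusedSectionVars false
universe u

open CategoryTheory Abelian RingTheory.Sequence LocCoh IsLocalRing
open scoped Pointwise

namespace Groth.Agent.Lib.helper26.Depth

section ringDepth

/-- ring depth is invariant under ring isomorphisms. -/
theorem depth_eq_of_ringEquiv {T T' : Type u} [CommRing T] [CommRing T'] [IsLocalRing T]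
    [IsLocalRing T'] [IsNoetherianRing T] [IsNoetherianRing T'] (σ : T ≃+* T') :
    depth T T = depth T' T' := by
  let _ : Algebra T T' := (σ : T →+* T').toAlgebra
  have hloc : IsLocalHom (algebraMap T T') := by
    constructor
    intro a ha
    have : IsUnit (σ a) := ha
    exact (isUnit_map_iff σ a).mp this
  have hfin : Module.Finite T T' :=
    Module.Finite.of_surjective (Algebra.linearMap T T') σ.surjective
  have h1 := depth_eq_of_isLocalHom (A := T) (B := T') T'
  rw [← h1]
  unfold depth
  exact idealDepth_congr (LinearEquiv.ofBijective (Algebra.linearMap T T') σ.bijective)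

/-- the depth of the ring `T/J` is the depth of the `T`-module `T/J`. -/
theorem depth_quotient_ring_eq {T : Type u} [CommRing T] [IsLocalRing T] [IsNoetherianRing T]
    (J : Ideal T) [IsLocalRing (T ⧸ J)] :
    depth (T ⧸ J) (T ⧸ J) = idealDepth (maximalIdeal T) (T ⧸ J) := by
  have hloc : IsLocalHom (algebraMap T (T ⧸ J)) :=
    IsLocalHom.of_surjective _ Ideal.Quotient.mk_surjective
  exact (depth_eq_of_isLocalHom (A := T) (B := T ⧸ J) (T ⧸ J)).symm

end ringDepth

section quot

variable {A : Type u} [CommRing A] [IsNoetherianRing A] (t : A)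

lemma algebraMapSubmonoid_primeCompl_eq' (I q : Ideal A) [q.IsPrime] (hIq : I ≤ q)
    [(q.map (Ideal.Quotient.mk I)).IsPrime] :
    Algebra.algebraMapSubmonoid (A ⧸ I) q.primeCompl =
      (q.map (Ideal.Quotient.mk I)).primeCompl := by
  ext x
  constructor
  · rintro ⟨y, hy, rfl⟩
    intro hmem
    obtain ⟨z, hz, hzy⟩ := (Ideal.mem_map_iff_of_surjective _ Ideal.Quotient.mk_surjective).mp hmem
    apply hy
    have h1 : y - z ∈ I := by
      rw [← Ideal.Quotient.eq]
      exact hzy.symm
    have h2 : y = (y - z) + z := by ring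
    change y ∈ q
    rw [h2]
    exact q.add_mem (hIq h1) hz
  · intro hx
    obtain ⟨y, rfl⟩ := Ideal.Quotient.mk_surjective x
    refine ⟨y, ?_, rfl⟩
    intro hy
    exact hx (Ideal.mem_map_of_mem _ hy)

/-- `depth A_q = depth (A/t)_Q + 1` for a nonzerodivisor `t ∈ q`. -/
theorem depth_localization_eq_depth_quotient_add_one (ht : t ∈ nonZeroDivisors A) (q : Ideal A)
    [q.IsPrime] (htq : t ∈ q) [(q.map (Ideal.Quotient.mk (Ideal.span {t}))).IsPrime] :
    depth (Localization.AtPrime q) (Localization.AtPrime q) =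
      depth (Localization.AtPrime (q.map (Ideal.Quotient.mk (Ideal.span {t}))))
        (Localization.AtPrime (q.map (Ideal.Quotient.mk (Ideal.span {t})))) + 1 := by
  set I : Ideal A := Ideal.span {t} with hI
  have hIq : I ≤ q := by
    rw [hI, Ideal.span_le]
    simpa using htq
  set Q := q.map (Ideal.Quotient.mk I) with hQ
  set J : Ideal (Localization.AtPrime q) := I.map (algebraMap A (Localization.AtPrime q)) with hJ
  have hlocz : IsLocalization.AtPrime (Localization.AtPrime q ⧸ J) Q := by
    unfold IsLocalization.AtPrime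
    rw [← algebraMapSubmonoid_primeCompl_eq' I q hIq]
    infer_instance
  let σ : Localization.AtPrime Q ≃+* (Localization.AtPrime q ⧸ J) :=
    (IsLocalization.algEquiv Q.primeCompl (Localization.AtPrime Q)
      (Localization.AtPrime q ⧸ J)).toRingEquiv
  have hlocal : IsLocalRing (Localization.AtPrime q ⧸ J) := σ.isLocalRing
  rw [depth_eq_of_ringEquiv σ, depth_quotient_ring_eq J]
  -- now a statement over `A_q`
  set x : Localization.AtPrime q := algebraMap A (Localization.AtPrime q) t with hx
  have hJx : J = Ideal.span {x} := by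
    rw [hJ, hI, Ideal.map_span, Set.image_singleton]
  have hxmem : x ∈ maximalIdeal (Localization.AtPrime q) :=
    (IsLocalization.AtPrime.to_map_mem_maximal_iff _ q t).mpr htq
  have hxreg : IsSMulRegular (Localization.AtPrime q) x := by
    have h1 : x ∈ nonZeroDivisors (Localization.AtPrime q) :=
      IsLocalization.map_nonZeroDivisors_le q.primeCompl (Localization.AtPrime q)
        (Submonoid.mem_map_of_mem _ ht)
    exact (isRegular_iff_mem_nonZeroDivisors.mpr h1).left.isSMulRegular
  have h2 := idealDepth_quotSMulTop_add_one (maximalIdeal (Localization.AtPrime q))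
    (Localization.AtPrime q) x hxmem hxreg
  have e : (x • (⊤ : Submodule (Localization.AtPrime q) (Localization.AtPrime q))) = J := by
    rw [hJx, ← Submodule.ideal_span_singleton_smul, smul_eq_mul, Ideal.mul_top]
  unfold depth
  rw [← h2]
  congr 1
  exact idealDepth_congr (Submodule.quotEquivOfEq _ _ e)

end quot

end Groth.Agent.Lib.helper26.Depth

namespace Groth.Agent.Lib.helper26.Depth

section lift

variable {A : Type u} [CommRing A] [IsNoetherianRing A] (t : A)

/-- numerical data at a prime containing `t`. -/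
lemma sk_data_of_mem (k : ℕ) (ht : t ∈ nonZeroDivisors A)
    (hS : HasSk k (A ⧸ Ideal.span {t}) (A ⧸ Ideal.span {t})) (q : Ideal A) [q.IsPrime]
    (htq : t ∈ q) :
    ∃ hQ dQ : ℕ, q.height ≤ ((hQ + 1 : ℕ) : ℕ∞) ∧
      depth (Localization.AtPrime q) (Localization.AtPrime q) = ((dQ + 1 : ℕ) : ℕ∞) ∧
      min k hQ ≤ dQ := by
  have hIq : Ideal.span {t} ≤ q := by
    rw [Ideal.span_le]
    simpa using htq
  have hprime : (q.map (Ideal.Quotient.mk (Ideal.span {t}))).IsPrime :=
    Ideal.map_isPrime_of_surjective Ideal.Quotient.mk_surjective (by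
      rw [Ideal.mk_ker]
      exact hIq)
  have h1 := hS (q.map (Ideal.Quotient.mk (Ideal.span {t})))
  rw [supportDim_localizedModule_self, depth_localizedModule_self] at h1
  have h2 := depth_localization_eq_depth_quotient_add_one t ht q htq
  have h3 := Ideal.height_le_height_add_one_of_mem htq
  obtain ⟨hQ, hhQ⟩ := ENat.ne_top_iff_exists.mp
    (Ideal.height_ne_top (I := q.map (Ideal.Quotient.mk (Ideal.span {t}))) (Ideal.IsPrime.ne_top'))
  obtain ⟨dQ, hdQ⟩ := ENat.ne_top_iff_exists.mp (depth_ne_top
    (A := Localization.AtPrime (q.map (Ideal.Quotient.mk (Ideal.span {t}))))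
    (Localization.AtPrime (q.map (Ideal.Quotient.mk (Ideal.span {t})))))
  refine ⟨hQ, dQ, ?_, ?_, ?_⟩
  · rw [← hhQ] at h3
    exact_mod_cast h3
  · rw [h2, ← hdQ]
    push_cast
    rfl
  · rw [← hhQ, ← hdQ] at h1
    exact (min_natCast_le_coe_iff k hQ dQ).mp h1

end lift

section main

variable {A : Type u} [CommRing A] [IsNoetherianRing A] [IsLocalRing A] (t : A)

/-- `(S_k)` lifts from `A/tA` to `A` (`t` a nonzerodivisor in the maximal ideal). -/
theorem hasSk_of_hasSk_quotient (k : ℕ) (htm : t ∈ maximalIdeal A) (ht : t ∈ nonZeroDivisors A)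
    (hS : HasSk k (A ⧸ Ideal.span {t}) (A ⧸ Ideal.span {t})) : HasSk k A A := by
  intro p _
  rw [supportDim_localizedModule_self, depth_localizedModule_self]
  obtain ⟨hp, hhp⟩ := ENat.ne_top_iff_exists.mp
    (Ideal.height_ne_top (I := p) (Ideal.IsPrime.ne_top'))
  obtain ⟨dp, hdp⟩ := ENat.ne_top_iff_exists.mp (depth_ne_top
    (A := Localization.AtPrime p) (Localization.AtPrime p))
  rw [← hhp, ← hdp]
  apply (min_natCast_le_coe_iff k hp dp).mpr
  by_cases htp : t ∈ p
  · obtain ⟨hQ, dQ, h1, h2, h3⟩ := sk_data_of_mem t k ht hS p htp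
    rw [← hhp] at h1
    rw [← hdp] at h2
    have h1' : hp ≤ hQ + 1 := by exact_mod_cast h1
    have h2' : dp = dQ + 1 := by exact_mod_cast h2
    omega
  · -- a prime minimal over `p + (t)`
    have hne : p ⊔ Ideal.span {t} ≠ ⊤ := by
      intro htop
      have hle : p ⊔ Ideal.span {t} ≤ maximalIdeal A := by
        refine sup_le (IsLocalRing.le_maximalIdeal (Ideal.IsPrime.ne_top')) ?_
        rw [Ideal.span_le]
        simpa using htm
      rw [htop] at hle
      exact (IsLocalRing.maximalIdeal.isMaximal A).ne_top (top_le_iff.mp hle)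
    obtain ⟨q, hq⟩ := Ideal.nonempty_minimalPrimes hne
    have hqprime : q.IsPrime := hq.1.1
    have hpq : p ≤ q := le_trans le_sup_left hq.1.2
    have htq : t ∈ q := hq.1.2 (Ideal.mem_sup_right (Ideal.subset_span rfl))
    have hlt : p < q := lt_of_le_of_ne hpq (fun h => htp (h ▸ htq))
    have hht : p.height + 1 ≤ q.height := Ideal.height_add_one_le_of_lt_of_isPrime hlt
    -- height of q/p
    have hqp : (q.map (Ideal.Quotient.mk p)).height ≤ 1 := by
      have hmin : q.map (Ideal.Quotient.mk p) ∈
          (Ideal.span {Ideal.Quotient.mk p t}).minimalPrimes := by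
        have h1 : (Ideal.span {t}).map (Ideal.Quotient.mk p) =
            Ideal.span {Ideal.Quotient.mk p t} := by
          rw [Ideal.map_span, Set.image_singleton]
        rw [← h1, Ideal.minimalPrimes_map_of_surjective Ideal.Quotient.mk_surjective]
        refine ⟨q, ?_, rfl⟩
        rw [Ideal.mk_ker, sup_comm]
        exact hq
      exact Ideal.height_le_one_of_isPrincipal_of_mem_minimalPrimes _ _ hmin
    have hdep := depth_localization_le_add_height A p q hpq
    rw [depth_localizedModule_self, depth_localizedModule_self] at hdep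
    obtain ⟨hQ, dQ, h1, h2, h3⟩ := sk_data_of_mem t k ht hS q htq
    obtain ⟨hq', hhq'⟩ := ENat.ne_top_iff_exists.mp
      (Ideal.height_ne_top (I := q) (Ideal.IsPrime.ne_top'))
    rw [← hhq'] at h1 hht
    rw [← hhp] at hht
    rw [h2, ← hdp] at hdep
    have hdep' : ((dQ + 1 : ℕ) : ℕ∞) ≤ (dp : ℕ∞) + 1 :=
      le_trans hdep (add_le_add_right hqp _)
    have a1 : hq' ≤ hQ + 1 := by exact_mod_cast h1
    have a2 : hp + 1 ≤ hq' := by exact_mod_cast hht
    have a3 : dQ + 1 ≤ dp + 1 := by exact_mod_cast hdep'
    omega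

end main

end Groth.Agent.Lib.helper26.Depth
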