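import Mathlib
import Groth.Agent.Lib.Helper26.SkLift
import Groth.Agent.Lib.Helper24.CatEquidim
import Groth.Agent.Lib.Helper24.RegularAscent
import Groth.Agent.Lib.Helper24.LocLoc
import Groth.Agent.S0564
import Groth.Agent.S0602

/-!
# Lifting `(R_k)`, reducedness and equidimensionality from `A/tA` to `A` (helper26)
-/

set_option autoImplicit false
set_option linter.unusedSectionVars false
universe u

open LocCoh IsLocalRing
open Groth.Agent.Lib.helper26.Depth

namespace Groth.Agent.Lib.helper26.RkLift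

section quot

variable {A : Type u} [CommRing A] [IsNoetherianRing A] (t : A)

/-- the ring isomorphism `(A/t)_{q/t} ≅ A_q / t A_q`. -/
theorem nonempty_quotLocEquiv (q : Ideal A) [q.IsPrime] (htq : t ∈ q)
    [(q.map (Ideal.Quotient.mk (Ideal.span {t}))).IsPrime] :
    Nonempty (Localization.AtPrime (q.map (Ideal.Quotient.mk (Ideal.span {t}))) ≃+*
      (Localization.AtPrime q ⧸
        (Ideal.span {t}).map (algebraMap A (Localization.AtPrime q)))) := by
  set I : Ideal A := Ideal.span {t} with hI
  have hIq : I ≤ q := by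
    rw [hI, Ideal.span_le]
    simpa using htq
  set Q := q.map (Ideal.Quotient.mk I) with hQ
  set J : Ideal (Localization.AtPrime q) := I.map (algebraMap A (Localization.AtPrime q)) with hJ
  have hlocz : IsLocalization.AtPrime (Localization.AtPrime q ⧸ J) Q := by
    unfold IsLocalization.AtPrime
    rw [← algebraMapSubmonoid_primeCompl_eq' I q hIq]
    infer_instance
  exact ⟨(IsLocalization.algEquiv Q.primeCompl (Localization.AtPrime Q)
      (Localization.AtPrime q ⧸ J)).toRingEquiv⟩

/-- the image of `t` in `A_q`. -/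
lemma map_span_eq (q : Ideal A) [q.IsPrime] :
    (Ideal.span {t}).map (algebraMap A (Localization.AtPrime q)) =
      Ideal.span {algebraMap A (Localization.AtPrime q) t} := by
  rw [Ideal.map_span, Set.image_singleton]

lemma map_mem_nonZeroDivisors (ht : t ∈ nonZeroDivisors A) (q : Ideal A) [q.IsPrime] :
    algebraMap A (Localization.AtPrime q) t ∈ nonZeroDivisors (Localization.AtPrime q) :=
  IsLocalization.map_nonZeroDivisors_le q.primeCompl (Localization.AtPrime q)
    (Submonoid.mem_map_of_mem _ ht)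

/-- `ht (q/t) + 1 = ht q` for a nonzerodivisor `t ∈ q`. -/
theorem height_map_add_one (ht : t ∈ nonZeroDivisors A) (q : Ideal A) [q.IsPrime] (htq : t ∈ q)
    [(q.map (Ideal.Quotient.mk (Ideal.span {t}))).IsPrime] :
    (q.map (Ideal.Quotient.mk (Ideal.span {t}))).height + 1 = q.height := by
  obtain ⟨σ⟩ := nonempty_quotLocEquiv t q htq
  have hxmem : algebraMap A (Localization.AtPrime q) t ∈ maximalIdeal (Localization.AtPrime q) :=
    (IsLocalization.AtPrime.to_map_mem_maximal_iff _ q t).mpr htq
  have h1 := ringKrullDim_quotient_span_singleton_succ_eq_ringKrullDim_of_mem_nonZeroDivisors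
    (map_mem_nonZeroDivisors t ht q) hxmem
  rw [← map_span_eq, ← ringKrullDim_eq_of_ringEquiv σ,
    IsLocalization.AtPrime.ringKrullDim_eq_height
      (q.map (Ideal.Quotient.mk (Ideal.span {t}))) _,
    IsLocalization.AtPrime.ringKrullDim_eq_height q _] at h1
  exact_mod_cast h1

/-- regularity lifts from `(A/t)_{q/t}` to `A_q`. -/
theorem isRegularLocalRing_of_quotient_loc (ht : t ∈ nonZeroDivisors A) (q : Ideal A) [q.IsPrime]
    (htq : t ∈ q) [(q.map (Ideal.Quotient.mk (Ideal.span {t}))).IsPrime]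
    (hreg : IsRegularLocalRing (Localization.AtPrime (q.map (Ideal.Quotient.mk (Ideal.span {t}))))) :
    IsRegularLocalRing (Localization.AtPrime q) := by
  obtain ⟨σ⟩ := nonempty_quotLocEquiv t q htq
  have hxmem : algebraMap A (Localization.AtPrime q) t ∈ maximalIdeal (Localization.AtPrime q) :=
    (IsLocalization.AtPrime.to_map_mem_maximal_iff _ q t).mpr htq
  have hreg' : IsRegularLocalRing (Localization.AtPrime q ⧸
      (Ideal.span {t}).map (algebraMap A (Localization.AtPrime q))) :=
    IsRegularLocalRing.of_ringEquiv σ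
  have hle : (Ideal.span {t}).map (algebraMap A (Localization.AtPrime q)) ≤
      maximalIdeal (Localization.AtPrime q) := by
    rw [map_span_eq, Ideal.span_le]
    simpa using hxmem
  refine Groth.Agent.Lib.Helper24.RegularAscent.isRegularLocalRing_of_quotient
    (Localization.AtPrime q) _ hle ?_
  have h1 := ringKrullDim_quotient_span_singleton_succ_eq_ringKrullDim_of_mem_nonZeroDivisors
    (map_mem_nonZeroDivisors t ht q) hxmem
  rw [← map_span_eq] at h1
  rw [← h1, add_comm]
  gcongr
  rw [map_span_eq]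
  have h2 : (Ideal.span {algebraMap A (Localization.AtPrime q) t}).spanFinrank ≤ 1 := by
    have := Submodule.spanFinrank_span_le_ncard_of_finite
      (R := Localization.AtPrime q) (Set.finite_singleton (algebraMap A (Localization.AtPrime q) t))
    simpa using this
  exact_mod_cast h2

end quot

section main

variable {A : Type u} [CommRing A] [IsNoetherianRing A] [IsLocalRing A] (t : A)

lemma exists_prime_over (htm : t ∈ maximalIdeal A) (p : Ideal A) [p.IsPrime] (htp : t ∉ p) :
    ∃ q : Ideal A, q.IsPrime ∧ p < q ∧ t ∈ q ∧ (q.map (Ideal.Quotient.mk p)).height ≤ 1 := by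
  have hne : p ⊔ Ideal.span {t} ≠ ⊤ := by
    intro htop
    have hle : p ⊔ Ideal.span {t} ≤ maximalIdeal A := by
      refine sup_le (IsLocalRing.le_maximalIdeal (Ideal.IsPrime.ne_top')) ?_
      rw [Ideal.span_le]
      simpa using htm
    rw [htop] at hle
    exact (IsLocalRing.maximalIdeal.isMaximal A).ne_top (top_le_iff.mp hle)
  obtain ⟨q, hq⟩ := Ideal.nonempty_minimalPrimes hne
  have hqprime : q.IsPrime := hq.1.1
  have hpq : p ≤ q := le_trans le_sup_left hq.1.2
  have htq : t ∈ q := hq.1.2 (Ideal.mem_sup_right (Ideal.subset_span rfl))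
  have hlt : p < q := lt_of_le_of_ne hpq (fun h => htp (h ▸ htq))
  refine ⟨q, hqprime, hlt, htq, ?_⟩
  have hmin : q.map (Ideal.Quotient.mk p) ∈
      (Ideal.span {Ideal.Quotient.mk p t}).minimalPrimes := by
    have h1 : (Ideal.span {t}).map (Ideal.Quotient.mk p) =
        Ideal.span {Ideal.Quotient.mk p t} := by
      rw [Ideal.map_span, Set.image_singleton]
    rw [← h1, Ideal.minimalPrimes_map_of_surjective Ideal.Quotient.mk_surjective]
    refine ⟨q, ?_, rfl⟩
    rw [Ideal.mk_ker, sup_comm]
    exact hq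
  exact Ideal.height_le_one_of_isPrincipal_of_mem_minimalPrimes _ _ hmin

omit [IsNoetherianRing A] [IsLocalRing A] in
lemma covBy_of_height_le_one (p q : Ideal A) [hp : p.IsPrime] [hq : q.IsPrime] (hlt : p < q)
    (h : (q.map (Ideal.Quotient.mk p)).height ≤ 1) :
    (⟨p, hp⟩ : PrimeSpectrum A) ⋖ ⟨q, hq⟩ := by
  refine ⟨hlt, ?_⟩
  intro r hpr hrq
  have hpr' : p < r.asIdeal := hpr
  have hrq' : r.asIdeal < q := hrq
  have hker : RingHom.ker (Ideal.Quotient.mk p) = p := Ideal.mk_ker
  have hrP : (r.asIdeal.map (Ideal.Quotient.mk p)).IsPrime :=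
    Ideal.map_isPrime_of_surjective Ideal.Quotient.mk_surjective (by rw [hker]; exact hpr'.le)
  have hqP : (q.map (Ideal.Quotient.mk p)).IsPrime :=
    Ideal.map_isPrime_of_surjective Ideal.Quotient.mk_surjective (by rw [hker]; exact hlt.le)
  have hcm : ∀ J : Ideal A, p ≤ J →
      (J.map (Ideal.Quotient.mk p)).comap (Ideal.Quotient.mk p) = J := by
    intro J hJ
    rw [Ideal.comap_map_of_surjective _ Ideal.Quotient.mk_surjective, ← RingHom.ker_eq_comap_bot,
      hker, sup_eq_left.mpr hJ]
  have h1 : r.asIdeal.map (Ideal.Quotient.mk p) < q.map (Ideal.Quotient.mk p) := by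
    refine lt_of_le_of_ne (Ideal.map_mono hrq'.le) ?_
    intro heq
    have := congrArg (Ideal.comap (Ideal.Quotient.mk p)) heq
    rw [hcm _ hpr'.le, hcm _ hlt.le] at this
    exact hrq'.ne this
  have h2 : (⊥ : Ideal (A ⧸ p)) < r.asIdeal.map (Ideal.Quotient.mk p) := by
    refine lt_of_le_of_ne bot_le ?_
    intro heq
    have := congrArg (Ideal.comap (Ideal.Quotient.mk p)) heq
    rw [hcm _ hpr'.le, ← RingHom.ker_eq_comap_bot, hker] at this
    exact hpr'.ne this
  have hbot : (⊥ : Ideal (A ⧸ p)).IsPrime := Ideal.isPrime_bot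
  have h3 := Ideal.height_add_one_le_of_lt_of_isPrime h1
  have h4 := Ideal.height_add_one_le_of_lt_of_isPrime h2
  have h5 : (1 : ℕ∞) + 1 ≤ 1 := by
    calc (1 : ℕ∞) + 1 ≤ (r.asIdeal.map (Ideal.Quotient.mk p)).height + 1 := by
          gcongr
          exact le_trans (by simp) h4
      _ ≤ _ := h3
      _ ≤ 1 := h
  exact absurd h5 (by decide)

/-- Over a minimal prime `p`, a prime `q ∋ t` with `ht (q/p) ≤ 1` has `q/t` of height `0`. -/
lemma height_map_eq_zero (ht : t ∈ nonZeroDivisors A)
    (hS : HasSk 1 (A ⧸ Ideal.span {t}) (A ⧸ Ideal.span {t}))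
    (p q : Ideal A) [p.IsPrime] [q.IsPrime] (hp : p ∈ minimalPrimes A) (hpq : p ≤ q) (htq : t ∈ q)
    (hqp : (q.map (Ideal.Quotient.mk p)).height ≤ 1)
    [(q.map (Ideal.Quotient.mk (Ideal.span {t}))).IsPrime] :
    (q.map (Ideal.Quotient.mk (Ideal.span {t}))).height = 0 := by
  have hdep := depth_localization_le_add_height A p q hpq
  rw [depth_localizedModule_self, depth_localizedModule_self] at hdep
  have h2 := depth_localization_eq_depth_quotient_add_one t ht q htq
  have hp0 : depth (Localization.AtPrime p) (Localization.AtPrime p) = 0 := by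
    have h := depth_le_supportDim (A := Localization.AtPrime p) (Localization.AtPrime p)
    rw [Module.supportDim_self_eq_ringKrullDim, IsLocalization.AtPrime.ringKrullDim_eq_height p,
      Ideal.height_eq_zero_iff.mpr hp] at h
    have h' : depth (Localization.AtPrime p) (Localization.AtPrime p) ≤ 0 := by exact_mod_cast h
    exact le_antisymm h' zero_le
  rw [h2, hp0, zero_add] at hdep
  obtain ⟨hQ, hhQ⟩ := ENat.ne_top_iff_exists.mp
    (Ideal.height_ne_top (I := q.map (Ideal.Quotient.mk (Ideal.span {t}))) (Ideal.IsPrime.ne_top'))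
  obtain ⟨dQ, hdQ⟩ := ENat.ne_top_iff_exists.mp (depth_ne_top
    (A := Localization.AtPrime (q.map (Ideal.Quotient.mk (Ideal.span {t}))))
    (Localization.AtPrime (q.map (Ideal.Quotient.mk (Ideal.span {t})))))
  have h1 := hS (q.map (Ideal.Quotient.mk (Ideal.span {t})))
  rw [supportDim_localizedModule_self, depth_localizedModule_self] at h1
  rw [← hdQ] at hdep h1
  rw [← hhQ] at h1 ⊢
  have h3 : ((dQ : ℕ∞)) + 1 ≤ 1 := hdep.trans hqp
  have h3' : dQ + 1 ≤ 1 := by exact_mod_cast h3
  have h4 := (min_natCast_le_coe_iff 1 hQ dQ).mp h1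
  have : hQ = 0 := by omega
  rw [this]
  rfl

end main

section thm

variable {A : Type u} [CommRing A] [IsNoetherianRing A] [IsLocalRing A] (t : A)

omit [IsNoetherianRing A] [IsLocalRing A] in
/-- `dim (A/t)/(q/t) = dim A/q`. -/
lemma ringKrullDim_quot_quot (q : Ideal A) (hIq : Ideal.span {t} ≤ q) :
    ringKrullDim ((A ⧸ Ideal.span {t}) ⧸ q.map (Ideal.Quotient.mk (Ideal.span {t}))) =
      ringKrullDim (A ⧸ q) :=
  ringKrullDim_eq_of_ringEquiv (DoubleQuot.quotQuotEquivQuotOfLE hIq)

/-- equidimensionality lifts. -/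
theorem isEquidim_of_quotient (hcat : CAlg.IsCatenary A) (htm : t ∈ maximalIdeal A)
    (ht : t ∈ nonZeroDivisors A)
    (hS : HasSk 1 (A ⧸ Ideal.span {t}) (A ⧸ Ideal.span {t}))
    (heq : EGA4.IsEquidim (A ⧸ Ideal.span {t})) : EGA4.IsEquidim A := by
  intro p hp
  have hpprime : p.IsPrime := hp.1.1
  have htp : t ∉ p := fun h =>
    (Set.disjoint_left.mp (Ideal.disjoint_nonZeroDivisors_of_mem_minimalPrimes hp)) h ht
  obtain ⟨q, hqprime, hlt, htq, hqp⟩ := exists_prime_over t htm p htp
  have hIq : Ideal.span {t} ≤ q := by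
    rw [Ideal.span_le]
    simpa using htq
  have hQprime : (q.map (Ideal.Quotient.mk (Ideal.span {t}))).IsPrime :=
    Ideal.map_isPrime_of_surjective Ideal.Quotient.mk_surjective (by
      rw [Ideal.mk_ker]
      exact hIq)
  have h0 := height_map_eq_zero t ht hS p q hp hlt.le htq hqp
  have hQmin : q.map (Ideal.Quotient.mk (Ideal.span {t})) ∈ minimalPrimes (A ⧸ Ideal.span {t}) :=
    Ideal.height_eq_zero_iff.mp h0
  have h1 := heq _ hQmin
  rw [ringKrullDim_quot_quot t q hIq] at h1
  have hcov := covBy_of_height_le_one p q hlt hqp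
  have h2 := Groth.Agent.Lib.Helper24.CatEquidim.coheight_covBy hcat hcov
  have h3 := Groth.Agent.Lib.Helper24.CatEquidim.coheight_eq_ringKrullDim_quotient
    (⟨p, hpprime⟩ : PrimeSpectrum A)
  have h4 := Groth.Agent.Lib.Helper24.CatEquidim.coheight_eq_ringKrullDim_quotient
    (⟨q, hqprime⟩ : PrimeSpectrum A)
  have h5 := ringKrullDim_quotient_span_singleton_succ_eq_ringKrullDim_of_mem_nonZeroDivisors ht htm
  simp only at h3 h4
  rw [← h3, h2, ← h5, ← h1, ← h4]
  push_cast
  rfl

/-- `(R_k)` lifts. -/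
theorem hasRk_of_quotient (k : ℕ) (hcat : CAlg.IsCatenary A) (htm : t ∈ maximalIdeal A)
    (ht : t ∈ nonZeroDivisors A) (heqA : EGA4.IsEquidim A)
    (hR : LocCoh.HasRk k (A ⧸ Ideal.span {t})) : LocCoh.HasRk k A := by
  intro P hP hht
  by_cases htP : t ∈ P
  · have hIq : Ideal.span {t} ≤ P := by
      rw [Ideal.span_le]
      simpa using htP
    have hQprime : (P.map (Ideal.Quotient.mk (Ideal.span {t}))).IsPrime :=
      Ideal.map_isPrime_of_surjective Ideal.Quotient.mk_surjective (by
        rw [Ideal.mk_ker]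
        exact hIq)
    have h1 := height_map_add_one t ht P htP
    apply isRegularLocalRing_of_quotient_loc t ht P htP
    apply hR
    calc (P.map (Ideal.Quotient.mk (Ideal.span {t}))).height
        ≤ (P.map (Ideal.Quotient.mk (Ideal.span {t}))).height + 1 := le_self_add
      _ = P.height := h1
      _ ≤ k := hht
  · obtain ⟨q, hqprime, hlt, htq, hqp⟩ := exists_prime_over t htm P htP
    have hIq : Ideal.span {t} ≤ q := by
      rw [Ideal.span_le]
      simpa using htq
    have hQprime : (q.map (Ideal.Quotient.mk (Ideal.span {t}))).IsPrime :=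
      Ideal.map_isPrime_of_surjective Ideal.Quotient.mk_surjective (by
        rw [Ideal.mk_ker]
        exact hIq)
    have hcov := covBy_of_height_le_one P q hlt hqp
    have h2 := Groth.Agent.Lib.Helper24.CatEquidim.coheight_covBy hcat hcov
    have h3 := Groth.Agent.Lib.Helper24.CatEquidim.coheight_eq_ringKrullDim_quotient
      (⟨P, hP⟩ : PrimeSpectrum A)
    have h4 := Groth.Agent.Lib.Helper24.CatEquidim.coheight_eq_ringKrullDim_quotient
      (⟨q, hqprime⟩ : PrimeSpectrum A)
    have f1 := Groth.Agent.Lib.Helper24.CatEquidim.height_add_dim_quotient_eq A hcat heqA P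
    have f2 := Groth.Agent.Lib.Helper24.CatEquidim.height_add_dim_quotient_eq A hcat heqA q
    simp only at h3 h4
    obtain ⟨a, ha⟩ := ENat.ne_top_iff_exists.mp
      (Ideal.height_ne_top (I := P) (Ideal.IsPrime.ne_top'))
    obtain ⟨b, hb⟩ := ENat.ne_top_iff_exists.mp
      (Ideal.height_ne_top (I := q) (Ideal.IsPrime.ne_top'))
    obtain ⟨c, hc⟩ := ENat.ne_top_iff_exists.mp
      (Order.coheight_lt_top (⟨q, hqprime⟩ : PrimeSpectrum A)).ne
    rw [← h3, h2, ← ha, ← hc] at f1
    rw [← h4, ← hb, ← hc, ← f1] at f2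
    have hab : b + c = a + (c + 1) := by exact_mod_cast f2
    have hQ1 := height_map_add_one t ht q htq
    have hregq : IsRegularLocalRing (Localization.AtPrime q) := by
      apply isRegularLocalRing_of_quotient_loc t ht q htq
      apply hR
      obtain ⟨e, he⟩ := ENat.ne_top_iff_exists.mp
        (Ideal.height_ne_top (I := q.map (Ideal.Quotient.mk (Ideal.span {t})))
          (Ideal.IsPrime.ne_top'))
      rw [← he, ← hb] at hQ1
      rw [← ha] at hht
      rw [← he]
      have g1 : e + 1 = b := by exact_mod_cast hQ1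
      have g2 : a ≤ k := by exact_mod_cast hht
      have : e ≤ k := by omega
      exact_mod_cast this
    obtain ⟨P', hP'prime, -, ⟨e⟩⟩ :=
      Groth.Agent.Lib.Helper24.LocLoc.exists_prime_of_le A q P hlt.le
    have : IsRegularLocalRing (Localization.AtPrime P') := Groth.Agent.S0564.result _ P'
    exact IsRegularLocalRing.of_ringEquiv e.symm

/-- `A/tA` reduced, equidimensional, `(R_k)` ⟹ the same for `A` (catenary local). -/
theorem main (k : ℕ) (hcat : CAlg.IsCatenary A) (htm : t ∈ maximalIdeal A)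
    (ht : t ∈ nonZeroDivisors A)
    [IsReduced (A ⧸ Ideal.span {t})] (heq : EGA4.IsEquidim (A ⧸ Ideal.span {t}))
    (hR : LocCoh.HasRk k (A ⧸ Ideal.span {t})) :
    IsReduced A ∧ EGA4.IsEquidim A ∧ LocCoh.HasRk k A := by
  have hS0 : HasSk 1 (A ⧸ Ideal.span {t}) (A ⧸ Ideal.span {t}) :=
    ((Groth.Agent.S0602.result _).mp inferInstance).2
  have hS : HasSk 1 A A := hasSk_of_hasSk_quotient t 1 htm ht hS0
  have heqA := isEquidim_of_quotient t hcat htm ht hS0 heq
  have hRA := hasRk_of_quotient t k hcat htm ht heqA hR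
  refine ⟨?_, heqA, hRA⟩
  refine (Groth.Agent.S0602.result A).mpr ⟨?_, hS⟩
  intro p hp hht
  exact hRA p (le_trans hht (by exact_mod_cast Nat.zero_le k))

end thm

end Groth.Agent.Lib.helper26.RkLift
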