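import Mathlib
import Groth.Agent.Lib.Helper26.LocTrans
import Groth.Agent.Lib.Helper26.RkLift
import Groth.Agent.Lib.Helper26.Sk3

/-!
# Lifting `(S_k)` and equidimensionality from `M/tM` to `M` (helper26)
-/

set_option autoImplicit false
set_option linter.unusedSectionVars false
universe u

open CategoryTheory Abelian RingTheory.Sequence LocCoh IsLocalRing
open scoped Pointwise

namespace Groth.Agent.Lib.helper26.Depth

section order

/-- a strictly monotone map landing strictly below a point raises the Krull dimension. -/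
lemma krullDim_add_one_le_of_strictMono_lt {α β : Type*} [Preorder α] [Preorder β] (f : α → β)
    (hf : StrictMono f) (b : β) (hb : ∀ a, f a < b) :
    Order.krullDim α + 1 ≤ Order.krullDim β := by
  rcases isEmpty_or_nonempty α with hα | hα
  · rw [Order.krullDim_eq_bot]
    simp
  · rw [Order.krullDim_eq_iSup_height_of_nonempty]
    have h1 : (⨆ a : α, Order.height a) + 1 ≤ Order.height b := by
      rw [ENat.iSup_add]
      refine iSup_le fun a => ?_
      exact le_trans (add_le_add_left (Order.height_le_height_apply_of_strictMono f hf a) 1)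
        (Order.height_add_one_le (hb a))
    calc ((⨆ a : α, Order.height a : ℕ∞) : WithBot ℕ∞) + 1
        = (((⨆ a : α, Order.height a) + 1 : ℕ∞) : WithBot ℕ∞) := by push_cast; rfl
      _ ≤ ((Order.height b : ℕ∞) : WithBot ℕ∞) := by exact_mod_cast h1
      _ ≤ Order.krullDim β := Order.height_le_krullDim b

end order

section dimloc

variable {B : Type u} [CommRing B] [IsLocalRing B]
  (N : Type u) [AddCommGroup N] [Module B N]

/-- over a local ring: `dim N_P + 1 ≤ dim N` for a non-maximal prime `P`, `N ≠ 0`. -/
theorem supportDim_localizedModule_add_one_le [Nontrivial N] [Module.Finite B N] (P : Ideal B)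
    [hP : P.IsPrime] (hPm : P ≠ maximalIdeal B) :
    Module.supportDim (Localization.AtPrime P) (LocalizedModule P.primeCompl N) + 1 ≤
      Module.supportDim B N := by
  unfold Module.supportDim
  have hc : IsLocalRing.closedPoint B ∈ Module.support B N := by
    rw [Module.mem_support_iff_of_finite]
    exact IsLocalRing.le_maximalIdeal (fun h => by
      have : (1 : B) ∈ Module.annihilator B N := h ▸ Submodule.mem_top
      rw [Module.mem_annihilator] at this
      obtain ⟨x, hx⟩ := exists_ne (0 : N)
      exact hx (by simpa using this x))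
  let f : Module.support (Localization.AtPrime P) (LocalizedModule P.primeCompl N) →
      Module.support B N := fun Q' =>
    ⟨PrimeSpectrum.comap (algebraMap B (Localization.AtPrime P)) Q'.1,
      (SuppLoc.mem_support_localizedModule_iff P N Q'.1).mp Q'.2⟩
  have hf : StrictMono f := by
    intro a b hab
    have h1 : a.1.asIdeal < b.1.asIdeal := hab
    change (PrimeSpectrum.comap (algebraMap B (Localization.AtPrime P)) a.1).asIdeal <
      (PrimeSpectrum.comap (algebraMap B (Localization.AtPrime P)) b.1).asIdeal
    refine lt_of_le_of_ne (Ideal.comap_mono h1.le) ?_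
    intro heq
    apply h1.ne
    have e1 := IsLocalization.map_under P.primeCompl (Localization.AtPrime P) a.1.asIdeal
    have e2 := IsLocalization.map_under P.primeCompl (Localization.AtPrime P) b.1.asIdeal
    rw [← e1, ← e2]
    exact congrArg _ heq
  refine krullDim_add_one_le_of_strictMono_lt f hf ⟨IsLocalRing.closedPoint B, hc⟩ ?_
  intro a
  have hle : (f a).1.asIdeal ≤ P := SuppLoc.comap_le P a.1
  change (f a).1.asIdeal < maximalIdeal B
  exact lt_of_le_of_lt hle (lt_of_le_of_ne (IsLocalRing.le_maximalIdeal hP.ne_top) hPm)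

end dimloc

section dimloc2

variable {A : Type u} [CommRing A] [IsNoetherianRing A]
  (M : Type u) [AddCommGroup M] [Module A M] [Module.Finite A M]

/-- `dim M_p + 1 ≤ dim M_q` for primes `p < q` with `M_q ≠ 0`. -/
theorem supportDim_localization_add_one_le (p q : Ideal A) [hp : p.IsPrime] [hq : q.IsPrime]
    (hpq : p < q) [Nontrivial (LocalizedModule q.primeCompl M)] :
    Module.supportDim (Localization.AtPrime p) (LocalizedModule p.primeCompl M) + 1 ≤
      Module.supportDim (Localization.AtPrime q) (LocalizedModule q.primeCompl M) := by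
  have hdisj : Disjoint (q.primeCompl : Set A) (p : Set A) := by
    rw [Set.disjoint_left]
    intro a ha hap
    exact ha (hpq.le hap)
  let P : Ideal (Localization.AtPrime q) := p.map (algebraMap A (Localization.AtPrime q))
  have hPprime : P.IsPrime :=
    IsLocalization.isPrime_of_isPrime_disjoint q.primeCompl _ p hp hdisj
  have hPcomap : P.comap (algebraMap A (Localization.AtPrime q)) = p :=
    IsLocalization.under_map_of_isPrime_disjoint q.primeCompl _ hp hdisj
  have hPm : P ≠ maximalIdeal (Localization.AtPrime q) := by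
    intro h
    have h1 : P.comap (algebraMap A (Localization.AtPrime q)) = q := by
      rw [h]
      exact IsLocalization.AtPrime.under_maximalIdeal (Localization.AtPrime q) q
    rw [hPcomap] at h1
    exact hpq.ne h1
  obtain ⟨-, t2⟩ := depth_supportDim_localization_submonoid q.primeCompl M P
  have h3 := supportDim_localizedModule_add_one_le (LocalizedModule q.primeCompl M) P hPm
  have key : ∀ (p' : Ideal A) [p'.IsPrime], p' = p →
      Module.supportDim (Localization.AtPrime p') (LocalizedModule p'.primeCompl M) =
        Module.supportDim (Localization.AtPrime p) (LocalizedModule p.primeCompl M) := by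
    intro p' _ hp'
    subst hp'
    rfl
  rw [t2, key _ hPcomap] at h3
  exact h3

end dimloc2

section main

open Groth.Agent.Lib.helper26.RkLift

variable {A : Type u} [CommRing A] [IsNoetherianRing A] [IsLocalRing A]
  (M : Type u) [AddCommGroup M] [Module A M] [Module.Finite A M] (t : A)

/-- numerical data at a prime containing `t`. -/
lemma sk_data_mod (k : ℕ) (hreg : IsSMulRegular M t) (hS : HasSk k A (QuotSMulTop t M))
    (q : Ideal A) [q.IsPrime] (htq : t ∈ q) [Nontrivial (LocalizedModule q.primeCompl M)] :
    ∃ D' d' : ℕ,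
      Module.supportDim (Localization.AtPrime q) (LocalizedModule q.primeCompl M) =
        ((D' + 1 : ℕ) : WithBot ℕ∞) ∧
      depth (Localization.AtPrime q) (LocalizedModule q.primeCompl M) = ((d' + 1 : ℕ) : ℕ∞) ∧
      min k D' ≤ d' ∧
      Nontrivial (LocalizedModule q.primeCompl (QuotSMulTop t M)) ∧
      Module.supportDim (Localization.AtPrime q)
        (LocalizedModule q.primeCompl (QuotSMulTop t M)) = (D' : WithBot ℕ∞) := by
  have e1 := supportDim_localization_quotSMulTop q M t htq hreg
  have e2 := depth_localization_quotSMulTop q M t htq hreg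
  have hnt' : Nontrivial (LocalizedModule q.primeCompl (QuotSMulTop t M)) := by
    by_contra hnt
    rw [not_nontrivial_iff_subsingleton] at hnt
    rw [Module.supportDim_eq_bot_of_subsingleton] at e1
    obtain ⟨D, hD⟩ := exists_nat_supportDim (A := Localization.AtPrime q)
      (LocalizedModule q.primeCompl M)
    rw [hD] at e1
    simp at e1
  obtain ⟨D', hD'⟩ := exists_nat_supportDim (A := Localization.AtPrime q)
    (LocalizedModule q.primeCompl (QuotSMulTop t M))
  obtain ⟨d', hd'⟩ := exists_nat_depth (A := Localization.AtPrime q)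
    (LocalizedModule q.primeCompl (QuotSMulTop t M))
  have h3 := hS q
  rw [hD', hd'] at h3
  refine ⟨D', d', ?_, ?_, (min_natCast_le_coe_iff k D' d').mp h3, hnt', hD'⟩
  · rw [← e1, hD']
    push_cast
    rfl
  · rw [← e2, hd']
    push_cast
    rfl

/-- `(S_k)` lifts from `M/tM` to `M`. -/
theorem hasSk_of_hasSk_quotSMulTop (k : ℕ) (htm : t ∈ maximalIdeal A) (hreg : IsSMulRegular M t)
    (hS : HasSk k A (QuotSMulTop t M)) : HasSk k A M := by
  intro p hpprime
  by_cases hnt : Nontrivial (LocalizedModule p.primeCompl M)
  swap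
  · rw [not_nontrivial_iff_subsingleton] at hnt
    rw [Module.supportDim_eq_bot_of_subsingleton]
    simp
  obtain ⟨D, hD⟩ := exists_nat_supportDim (A := Localization.AtPrime p)
    (LocalizedModule p.primeCompl M)
  obtain ⟨d, hd⟩ := exists_nat_depth (A := Localization.AtPrime p)
    (LocalizedModule p.primeCompl M)
  rw [hD, hd]
  apply (min_natCast_le_coe_iff k D d).mpr
  by_cases htp : t ∈ p
  · obtain ⟨D', d', h1, h2, h3, -, -⟩ := sk_data_mod M t k hreg hS p htp
    rw [hD] at h1
    rw [hd] at h2
    have h1' : D = D' + 1 := by exact_mod_cast h1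
    have h2' : d = d' + 1 := by exact_mod_cast h2
    omega
  · obtain ⟨q, hqprime, hlt, htq, hqp⟩ := exists_prime_over t htm p htp
    have hp : (⟨p, hpprime⟩ : PrimeSpectrum A) ∈ Module.support A M := hnt
    have hq : (⟨q, hqprime⟩ : PrimeSpectrum A) ∈ Module.support A M :=
      Module.mem_support_mono (show (⟨p, hpprime⟩ : PrimeSpectrum A) ≤ ⟨q, hqprime⟩ from hlt.le) hp
    have hntq : Nontrivial (LocalizedModule q.primeCompl M) := hq
    obtain ⟨D', d', h1, h2, h3, -, -⟩ := sk_data_mod M t k hreg hS q htq
    have hdep := depth_localization_le_add_height M p q hlt.le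
    have hdim := supportDim_localization_add_one_le M p q hlt
    rw [h2, hd] at hdep
    rw [h1, hD] at hdim
    have hdep' : ((d' + 1 : ℕ) : ℕ∞) ≤ (d : ℕ∞) + 1 :=
      le_trans hdep (add_le_add_right hqp _)
    have a1 : d' + 1 ≤ d + 1 := by exact_mod_cast hdep'
    have a2 : D + 1 ≤ D' + 1 := by exact_mod_cast hdim
    omega

/-- equidimensionality lifts from `M/tM` to `M`. -/
theorem isEquidimModule_of_quotSMulTop (k : ℕ) (hk : 1 ≤ k) (hcat : CAlg.IsCatenary A)
    (htm : t ∈ maximalIdeal A) (hreg : IsSMulRegular M t)
    (heq : EGA4.IsEquidimModule A (QuotSMulTop t M)) (hS : HasSk k A (QuotSMulTop t M)) :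
    EGA4.IsEquidimModule A M := by
  intro p hpmin
  have hpprime : p.IsPrime := hpmin.1.1
  have htp : t ∉ p := hreg.notMem_of_mem_minimalPrimes hpmin
  have hp : (⟨p, hpprime⟩ : PrimeSpectrum A) ∈ Module.support A M := by
    rw [Module.mem_support_iff_of_finite]
    exact hpmin.1.2
  have hnt : Nontrivial (LocalizedModule p.primeCompl M) := hp
  obtain ⟨q, hqprime, hlt, htq, hqp⟩ := exists_prime_over t htm p htp
  have hq : (⟨q, hqprime⟩ : PrimeSpectrum A) ∈ Module.support A M :=
    Module.mem_support_mono (show (⟨p, hpprime⟩ : PrimeSpectrum A) ≤ ⟨q, hqprime⟩ from hlt.le) hp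
  have hntq : Nontrivial (LocalizedModule q.primeCompl M) := hq
  obtain ⟨D', d', h1, h2, h3, hntN, hDN⟩ := sk_data_mod M t k hreg hS q htq
  -- depth of `M_p` is zero
  have hdimp := (SuppLoc.supportDim_localizedModule_le_zero_iff p M hp).mpr hpmin
  obtain ⟨d, hd⟩ := exists_nat_depth (A := Localization.AtPrime p)
    (LocalizedModule p.primeCompl M)
  have hd0 : d = 0 := by
    have h := depth_le_supportDim (A := Localization.AtPrime p) (LocalizedModule p.primeCompl M)
    rw [hd] at h
    have h' := le_trans h hdimp
    have : ((d : ℕ) : WithBot ℕ∞) ≤ ((0 : ℕ) : WithBot ℕ∞) := by simpa using h'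
    have : d ≤ 0 := by exact_mod_cast this
    omega
  have hdep := depth_localization_le_add_height M p q hlt.le
  rw [h2, hd, hd0] at hdep
  have hdep' : ((d' + 1 : ℕ) : ℕ∞) ≤ ((0 : ℕ) : ℕ∞) + 1 :=
    le_trans hdep (add_le_add_right hqp _)
  have a1 : d' + 1 ≤ 0 + 1 := by exact_mod_cast hdep'
  have hD'0 : D' = 0 := by omega
  -- `q` is minimal in the support of `M/tM`
  have hqN : (⟨q, hqprime⟩ : PrimeSpectrum A) ∈ Module.support A (QuotSMulTop t M) := hntN
  have hqmin : q ∈ (Module.annihilator A (QuotSMulTop t M)).minimalPrimes := by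
    rw [← SuppLoc.supportDim_localizedModule_le_zero_iff q _ hqN, hDN, hD'0]
    simp
  have e1 := heq q hqmin
  have e2 := Module.supportDim_quotSMulTop_succ_eq_supportDim hreg htm
  have hcov := covBy_of_height_le_one p q hlt hqp
  have e3 := Groth.Agent.Lib.Helper24.CatEquidim.coheight_covBy hcat hcov
  have e4 := Groth.Agent.Lib.Helper24.CatEquidim.coheight_eq_ringKrullDim_quotient
    (⟨p, hpprime⟩ : PrimeSpectrum A)
  have e5 := Groth.Agent.Lib.Helper24.CatEquidim.coheight_eq_ringKrullDim_quotient
    (⟨q, hqprime⟩ : PrimeSpectrum A)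
  simp only at e4 e5
  rw [← e4, e3, ← e2, ← e1, ← e5]
  push_cast
  rfl

end main

end Groth.Agent.Lib.helper26.Depth
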