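import Mathlib
import Groth.Agent.Lib.Helper26.CM4
import Groth.Agent.Lib.Helper26.DepthLoc3
import Groth.Agent.Lib.Helper26.SkLiftMod
import Groth.Agent.Lib.Helper26.LocTrans

/-!
# Cohen–Macaulay modules and saturated chains (helper26)

For a CM module `M` over a Noetherian local ring and primes `p ⋖ q` in `Supp M`:
`dim M_q = dim M_p + 1`.  Hence saturated chains of primes in a local ring carrying a CM module of
full support all have length `dim R`.
-/

set_option autoImplicit false
universe u

namespace Groth.Agent.Lib.helper26.CMCat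

open LocCoh IsLocalRing Groth.Agent.Lib.helper26.Depth

section

variable {R : Type u} [CommRing R]

/-- if `p ⋖ q` in the spectrum then `q/p` has height at most one in `R/p`. -/
lemma height_map_le_one_of_covBy (x y : PrimeSpectrum R) (h : x ⋖ y) :
    (y.asIdeal.map (Ideal.Quotient.mk x.asIdeal)).height ≤ 1 := by
  have hlt : x.asIdeal < y.asIdeal := h.1
  have hker : RingHom.ker (Ideal.Quotient.mk x.asIdeal) = x.asIdeal := Ideal.mk_ker
  have hyP : (y.asIdeal.map (Ideal.Quotient.mk x.asIdeal)).IsPrime :=
    Ideal.map_isPrime_of_surjective Ideal.Quotient.mk_surjective (by rw [hker]; exact hlt.le)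
  have hcm : ∀ J : Ideal R, x.asIdeal ≤ J →
      (J.map (Ideal.Quotient.mk x.asIdeal)).comap (Ideal.Quotient.mk x.asIdeal) = J := by
    intro J hJ
    rw [Ideal.comap_map_of_surjective _ Ideal.Quotient.mk_surjective, ← RingHom.ker_eq_comap_bot,
      hker, sup_eq_left.mpr hJ]
  have h1 : (y.asIdeal.map (Ideal.Quotient.mk x.asIdeal)).height ≤ ((1 : ℕ) : ℕ∞) := by
    rw [Ideal.height_le_iff]
    intro Q hQ hQlt
    have hQc : (Q.comap (Ideal.Quotient.mk x.asIdeal)).IsPrime := Ideal.comap_isPrime _ _
    have hle : x.asIdeal ≤ Q.comap (Ideal.Quotient.mk x.asIdeal) := by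
      intro a ha
      rw [Ideal.mem_comap, Ideal.Quotient.eq_zero_iff_mem.mpr ha]
      exact Q.zero_mem
    have hlt' : Q.comap (Ideal.Quotient.mk x.asIdeal) < y.asIdeal := by
      rw [← hcm y.asIdeal hlt.le]
      refine lt_of_le_of_ne (Ideal.comap_mono hQlt.le) ?_
      intro heq
      have := congrArg (Ideal.map (Ideal.Quotient.mk x.asIdeal)) heq
      rw [Ideal.map_comap_of_surjective _ Ideal.Quotient.mk_surjective,
        Ideal.map_comap_of_surjective _ Ideal.Quotient.mk_surjective] at this
      exact hQlt.ne this
    have heq : Q.comap (Ideal.Quotient.mk x.asIdeal) = x.asIdeal := by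
      by_contra hne
      have hxQ : x < (⟨_, hQc⟩ : PrimeSpectrum R) := lt_of_le_of_ne hle (fun e => hne
        (congrArg PrimeSpectrum.asIdeal e).symm)
      exact h.2 hxQ hlt'
    have hQbot : Q = ⊥ := by
      have := congrArg (Ideal.map (Ideal.Quotient.mk x.asIdeal)) heq
      rw [Ideal.map_comap_of_surjective _ Ideal.Quotient.mk_surjective] at this
      rw [this, Ideal.map_quotient_self]
    have hdom : IsDomain (R ⧸ x.asIdeal) := Ideal.Quotient.isDomain _
    rw [hQbot]
    have : (⊥ : Ideal (R ⧸ x.asIdeal)).height = 0 := by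
      rw [Ideal.height_bot]
    rw [this]
    exact_mod_cast Nat.zero_lt_one
  exact_mod_cast h1

end

section CM

variable {R : Type u} [CommRing R] [IsNoetherianRing R] [IsLocalRing R]
  (M : Type u) [AddCommGroup M] [Module R M] [Module.Finite R M]

/-- the local dimension function of a module -/
noncomputable def D (x : PrimeSpectrum R) : WithBot ℕ∞ :=
  Module.supportDim (Localization.AtPrime x.asIdeal) (LocalizedModule x.asIdeal.primeCompl M)

/-- in a CM module, the local dimension increases by exactly one along covers. -/
theorem D_covBy (hM : IsCohenMacaulayModule R M) (x y : PrimeSpectrum R)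
    (hx : x ∈ Module.support R M) (h : x ⋖ y) : D M y = D M x + 1 := by
  have hy : y ∈ Module.support R M := Module.mem_support_mono h.1.le hx
  have hnty : Nontrivial (LocalizedModule y.asIdeal.primeCompl M) := hy
  have hntx : Nontrivial (LocalizedModule x.asIdeal.primeCompl M) := hx
  have hCMx := (isCohenMacaulayModule_localization M hM x hx).1
  have hCMy := (isCohenMacaulayModule_localization M hM y hy).1
  have hCMx' : D M x = ((depth (Localization.AtPrime x.asIdeal)
    (LocalizedModule x.asIdeal.primeCompl M) : ℕ∞) : WithBot ℕ∞) := hCMx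
  have hCMy' : D M y = ((depth (Localization.AtPrime y.asIdeal)
    (LocalizedModule y.asIdeal.primeCompl M) : ℕ∞) : WithBot ℕ∞) := hCMy
  have hlt : x.asIdeal < y.asIdeal := h.1
  have h1 := depth_localization_le_add_height M x.asIdeal y.asIdeal hlt.le
  have h2 := height_map_le_one_of_covBy x y h
  have h3 : D M x + 1 ≤ D M y := supportDim_localization_add_one_le M x.asIdeal y.asIdeal hlt
  apply le_antisymm _ h3
  rw [hCMy', hCMx']
  have h4 : depth (Localization.AtPrime y.asIdeal) (LocalizedModule y.asIdeal.primeCompl M) ≤
      depth (Localization.AtPrime x.asIdeal) (LocalizedModule x.asIdeal.primeCompl M) + 1 :=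
    h1.trans (by gcongr)
  exact_mod_cast h4

/-- along a saturated chain in the support of a CM module the local dimension grows by one
at each step. -/
theorem D_chain (hM : IsCohenMacaulayModule R M) (s : LTSeries (PrimeSpectrum R))
    (hhead : s.head ∈ Module.support R M)
    (hsat : ∀ i : Fin s.length, s (Fin.castSucc i) ⋖ s (Fin.succ i)) :
    ∀ i : Fin (s.length + 1), D M (s i) = D M s.head + (i : ℕ) := by
  intro i
  induction i using Fin.induction with
  | zero => simp [RelSeries.head]
  | succ i ih =>
    have hsupp : s (Fin.castSucc i) ∈ Module.support R M := by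
      refine Module.mem_support_mono ?_ hhead
      exact LTSeries.monotone s (Fin.zero_le _)
    rw [D_covBy M hM _ _ hsupp (hsat i), ih]
    simp only [Fin.val_castSucc, Fin.val_succ, Nat.cast_add, Nat.cast_one]
    rw [add_assoc]

end CM

end Groth.Agent.Lib.helper26.CMCat
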