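import Mathlib
import Groth.Agent.Lib.Helper26.CMCat
import Groth.Agent.Lib.Helper26.ReflexiveCrit2

/-!
# Heights in Cohen–Macaulay local rings and dimension functions (helper26)

In a CM local ring, `ht q = ht p + 1` whenever `p ⋖ q` in the spectrum; consequently any function
on the spectrum dropping by exactly one along covers is `g(m) + dim R - ht` (in particular constant
on minimal primes).
-/

set_option autoImplicit false
universe u

namespace Groth.Agent.Lib.helper26.CMCat

open LocCoh IsLocalRing Groth.Agent.Lib.helper26.Depth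

variable {R : Type u} [CommRing R] [IsNoetherianRing R] [IsLocalRing R]

/-- in a CM local ring, height increases by exactly one along covers. -/
theorem height_covBy (hR : IsCohenMacaulayModule R R) (x y : PrimeSpectrum R) (h : x ⋖ y) :
    y.asIdeal.height = x.asIdeal.height + 1 := by
  have hx : x ∈ Module.support R R := by
    rw [Module.support_eq_zeroLocus, Module.annihilator_eq_bot.mpr inferInstance]
    simp
  have h1 := D_covBy R hR x y hx h
  unfold D at h1
  rw [supportDim_localizedModule_self, supportDim_localizedModule_self] at h1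
  exact_mod_cast h1

/-- the height of a prime as a natural number -/
noncomputable def ht (P : PrimeSpectrum R) : ℕ := P.asIdeal.height.toNat

lemma coe_ht (P : PrimeSpectrum R) : ((ht P : ℕ) : ℕ∞) = P.asIdeal.height :=
  ENat.natCast_toNat Ideal.height_ne_top_of_isPrime

lemma ht_lt_of_lt {P Q : PrimeSpectrum R} (h : P < Q) : ht P < ht Q := by
  have h1 : P.asIdeal < Q.asIdeal := h
  have h2 := Ideal.height_strict_mono_of_isPrime_of_isPrime h1
  rw [← coe_ht, ← coe_ht] at h2
  exact_mod_cast h2

lemma exists_covBy_of_lt (P Q : PrimeSpectrum R) (h : P < Q) : ∃ Q' : PrimeSpectrum R, P ⋖ Q' := by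
  classical
  have hex : ∃ n : ℕ, ∃ Q' : PrimeSpectrum R, P < Q' ∧ ht Q' = n := ⟨ht Q, Q, h, rfl⟩
  obtain ⟨Q', hPQ', hQ'⟩ := Nat.find_spec hex
  refine ⟨Q', hPQ', ?_⟩
  intro c hPc hcQ'
  have h1 : ht c < ht Q' := ht_lt_of_lt hcQ'
  rw [hQ'] at h1
  exact Nat.find_min hex h1 ⟨c, hPc, rfl⟩

lemma ht_covBy (hR : IsCohenMacaulayModule R R) (x y : PrimeSpectrum R) (h : x ⋖ y) :
    ht y = ht x + 1 := by
  have h1 := height_covBy hR x y h
  rw [← coe_ht, ← coe_ht] at h1
  exact_mod_cast h1

/-- a function on the spectrum of a CM local ring dropping by exactly one along covers is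
determined by its value at the closed point. -/
theorem dimFun_eq (hR : IsCohenMacaulayModule R R) (g : PrimeSpectrum R → ℤ)
    (hg : ∀ P Q : PrimeSpectrum R, P ⋖ Q → g P = g Q + 1) (P : PrimeSpectrum R) :
    g P + ht P = g (closedPoint R) + ht (closedPoint R) := by
  have key : ∀ (k : ℕ) (P : PrimeSpectrum R), ht P + k = ht (closedPoint R) →
      g P + ht P = g (closedPoint R) + ht (closedPoint R) := by
    intro k
    induction k with
    | zero =>
      intro P hP
      by_cases hPm : P = closedPoint R
      · rw [hPm]
      · exfalso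
        have hle : P ≤ closedPoint R := IsLocalRing.le_maximalIdeal P.isPrime.ne_top
        have := ht_lt_of_lt (lt_of_le_of_ne hle hPm)
        omega
    | succ k ih =>
      intro P hP
      by_cases hPm : P = closedPoint R
      · rw [hPm]
      · have hle : P ≤ closedPoint R := IsLocalRing.le_maximalIdeal P.isPrime.ne_top
        obtain ⟨Q, hPQ⟩ := exists_covBy_of_lt P _ (lt_of_le_of_ne hle hPm)
        have h1 := ht_covBy hR P Q hPQ
        have h2 := ih Q (by omega)
        have h3 := hg P Q hPQ
        rw [h3, ← h2, h1]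
        push_cast
        ring
  have hle : P ≤ closedPoint R := IsLocalRing.le_maximalIdeal P.isPrime.ne_top
  have hmono : ht P ≤ ht (closedPoint R) := by
    rcases eq_or_lt_of_le hle with h | h
    · rw [h]
    · exact (ht_lt_of_lt h).le
  exact key (ht (closedPoint R) - ht P) P (by omega)

/-- in particular such a function is constant on minimal primes. -/
theorem dimFun_minimal (hR : IsCohenMacaulayModule R R) (g : PrimeSpectrum R → ℤ)
    (hg : ∀ P Q : PrimeSpectrum R, P ⋖ Q → g P = g Q + 1) (P : PrimeSpectrum R)
    (hP : ∀ Q : PrimeSpectrum R, Q ≤ P → Q = P) :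
    g P = g (closedPoint R) + ht (closedPoint R) := by
  have h := dimFun_eq hR g hg P
  have h0 : ht P = 0 := by
    have hmin : P.asIdeal ∈ minimalPrimes R := by
      refine ⟨⟨P.isPrime, bot_le⟩, ?_⟩
      intro J hJ hJP
      have := hP ⟨J, hJ.1⟩ hJP
      exact (congrArg PrimeSpectrum.asIdeal this).ge
    have : P.asIdeal.height = 0 := Ideal.height_eq_zero_iff.mpr hmin
    unfold ht
    rw [this]
    rfl
  rw [h0] at h
  simpa using h

end Groth.Agent.Lib.helper26.CMCat
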