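import Mathlib
import Groth.Agent.Lib.Helper26.CMCat2
import Groth.Agent.Lib.Helper26.CMPoly2

/-!
# Saturated chains in Cohen–Macaulay rings (helper26)
-/

set_option autoImplicit false
universe u

namespace Groth.Agent.Lib.helper26.CMCat

open LocCoh IsLocalRing Groth.Agent.Lib.helper26.Depth

variable {R : Type u} [CommRing R]

/-- in a Cohen–Macaulay ring, height increases by exactly one along covers. -/
theorem height_covBy_of_cm [h : IsCohenMacaulayRing R] (P Q : PrimeSpectrum R) (hPQ : P ⋖ Q) :
    Q.asIdeal.height = P.asIdeal.height + 1 := by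
  let S := Localization.AtPrime Q.asIdeal
  have hS := h.isCohenMacaulayLocalRing_localization Q.asIdeal
  let e := IsLocalization.AtPrime.primeSpectrumOrderIso S Q.asIdeal
  let P₀ : Set.Iic Q := ⟨P, Set.mem_Iic.mpr hPQ.1.le⟩
  let Q₀ : Set.Iic Q := ⟨Q, Set.mem_Iic.mpr le_rfl⟩
  have hcov₀ : P₀ ⋖ Q₀ := by
    refine ⟨hPQ.1, ?_⟩
    intro c hPc hcQ
    exact hPQ.2 (show P < c.1 from hPc) (show c.1 < Q from hcQ)
  have hcov : e.symm P₀ ⋖ e.symm Q₀ := (apply_covBy_apply_iff e.symm).mpr hcov₀
  have hht := height_covBy (hS.supportDim_eq_depth) _ _ hcov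
  have h1 : ∀ x : Set.Iic Q, (e.symm x).asIdeal.height = x.1.asIdeal.height := by
    intro x
    have hx : x.1.asIdeal = (e.symm x).asIdeal.under R := by
      have := congrArg (fun y : Set.Iic Q => y.1.asIdeal) (e.apply_symm_apply x)
      exact this.symm
    rw [hx, IsLocalization.height_under Q.asIdeal.primeCompl]
  rw [h1 P₀, h1 Q₀] at hht
  exact hht

/-- along a saturated chain in a Cohen–Macaulay ring the height grows by one at each step. -/
theorem height_chain_of_cm [IsCohenMacaulayRing R] (s : LTSeries (PrimeSpectrum R))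
    (hs : ∀ i : Fin s.length, s (Fin.castSucc i) ⋖ s (Fin.succ i)) (i : Fin (s.length + 1)) :
    ((i : ℕ) : ℕ∞) + s.head.asIdeal.height = (s i).asIdeal.height := by
  induction i using Fin.induction with
  | zero => simp [RelSeries.head]
  | succ i ih =>
    have h2 := height_covBy_of_cm _ _ (hs i)
    rw [h2, ← ih]
    simp only [Fin.val_castSucc, Fin.val_succ, Nat.cast_add, Nat.cast_one]
    ring

/-- a field is a Cohen–Macaulay ring. -/
theorem isCohenMacaulayRing_field (k : Type u) [Field k] : IsCohenMacaulayRing k := by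
  refine Groth.Agent.Lib.helper26.CMPoly.isCohenMacaulayRing_of_isDomain_of_dim_le_one k ?_
  rw [ringKrullDim_eq_zero_of_field]
  exact zero_le_one

end Groth.Agent.Lib.helper26.CMCat
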