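import Mathlib

/-!
# Maximal ideals of polynomial rings over a field have full height (helper26)
-/

set_option autoImplicit false
universe u

namespace Groth.Agent.Lib.helper26.PolyMax

open Polynomial

/-- every maximal ideal of `k[x_1, …, x_n]` has height `n`. -/
theorem height_eq_of_isMaximal (k : Type u) [Field k] (n : ℕ) :
    ∀ (m : Ideal (MvPolynomial (Fin n) k)), m.IsMaximal → m.height = n := by
  induction n with
  | zero =>
    intro m hm
    have hfield : IsField (MvPolynomial (Fin 0) k) :=
      (MvPolynomial.isEmptyAlgEquiv k (Fin 0)).toRingEquiv.toMulEquiv.isField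
        (Field.toIsField k)
    let _ := hfield.toField
    have hm0 : m = ⊥ := by
      rcases Ideal.eq_bot_or_top m with h | h
      · exact h
      · exact absurd h hm.ne_top
    rw [hm0]
    simp
  | succ n ih =>
    intro m hm
    let e : MvPolynomial (Fin (n + 1)) k ≃+* (MvPolynomial (Fin n) k)[X] :=
      (MvPolynomial.finSuccEquiv k n).toRingEquiv
    let P : Ideal (MvPolynomial (Fin n) k)[X] := m.comap (e.symm : _ →+* _)
    have hP : P.IsMaximal := Ideal.comap_isMaximal_of_equiv e.symm
    have hPht : P.height = m.height := RingEquiv.height_comap e.symm m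
    let p : Ideal (MvPolynomial (Fin n) k) := P.comap (C : _ →+* _)
    have hp : p.IsMaximal := Polynomial.isMaximal_comap_C_of_isJacobsonRing P
    have hlo : P.LiesOver p := ⟨rfl⟩
    have h1 := Polynomial.height_eq_height_add_one p P
    rw [ih p hp] at h1
    rw [← hPht, h1]
    push_cast
    rfl

end Groth.Agent.Lib.helper26.PolyMax
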