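import Mathlib
import Groth.Agent.Lib.Helper26.CMCat3
import Groth.Agent.Lib.Helper26.PolyMax

/-!
# Saturated chains in finite type domains over a field (helper26)
-/

set_option autoImplicit false
universe u

namespace Groth.Agent.Lib.helper26.AffDomChain

open LocCoh Groth.Agent.Lib.helper26.CMCat Groth.Agent.Lib.helper26.CMPoly

/-- height grows at least by one along each step of a chain of primes. -/
lemma length_add_height_le {R : Type u} [CommRing R] (s : LTSeries (PrimeSpectrum R))
    (i : Fin (s.length + 1)) :
    ((i : ℕ) : ℕ∞) + s.head.asIdeal.height ≤ (s i).asIdeal.height := by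
  induction i using Fin.induction with
  | zero => simp [RelSeries.head]
  | succ i ih =>
    have h1 : s (Fin.castSucc i) < s (Fin.succ i) := s.strictMono (Fin.castSucc_lt_succ (i := i))
    have h2 : (s (Fin.castSucc i)).asIdeal < (s (Fin.succ i)).asIdeal := h1
    have h3 := Ideal.height_add_one_le_of_lt_of_isPrime h2
    refine le_trans ?_ h3
    refine le_trans (le_of_eq ?_) (add_le_add_left ih 1)
    simp only [Fin.val_castSucc, Fin.val_succ, Nat.cast_add, Nat.cast_one]
    ring

/-- the order embedding of spectra induced by a surjective ring homomorphism. -/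
noncomputable def specEmb {P A : Type u} [CommRing P] [CommRing A] (φ : P →+* A)
    (hφ : Function.Surjective φ) : PrimeSpectrum A ↪o PrimeSpectrum P :=
  OrderEmbedding.ofMapLEIff (PrimeSpectrum.comap φ)
    (fun a b => Ideal.comap_le_comap_iff_of_surjective φ hφ a.asIdeal b.asIdeal)

lemma ordConnected_range_specEmb {P A : Type u} [CommRing P] [CommRing A] (φ : P →+* A)
    (hφ : Function.Surjective φ) : (Set.range (specEmb φ hφ)).OrdConnected := by
  have : Set.range (specEmb φ hφ) = PrimeSpectrum.zeroLocus (RingHom.ker φ) :=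
    range_comap_of_surjective _ φ hφ
  rw [this]
  apply IsUpperSet.ordConnected
  intro a b hab ha
  rw [PrimeSpectrum.mem_zeroLocus] at ha ⊢
  exact ha.trans hab

theorem length_eq_ringKrullDim (k A : Type u) [Field k] [CommRing A]
    [IsDomain A] [Algebra k A] [Algebra.FiniteType k A] (c : LTSeries (PrimeSpectrum A))
    (h0 : c.head.asIdeal = ⊥) (hmax : c.last.asIdeal.IsMaximal)
    (hsat : ∀ i : Fin c.length, c i.castSucc ⋖ c i.succ) :
    (c.length : WithBot ℕ∞) = ringKrullDim A := by
  obtain ⟨n, f, hf⟩ := Algebra.FiniteType.iff_quotient_mvPolynomial''.mp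
    (inferInstance : Algebra.FiniteType k A)
  have hk := isCohenMacaulayRing_field k
  have hP : IsCohenMacaulayRing (MvPolynomial (Fin n) k) := isCohenMacaulayRing_mvPolynomial k n
  let φ : MvPolynomial (Fin n) k →+* A := f
  have hφ : Function.Surjective φ := hf
  let e := specEmb φ hφ
  have hOC := ordConnected_range_specEmb φ hφ
  let c' : LTSeries (PrimeSpectrum (MvPolynomial (Fin n) k)) := c.map e e.strictMono
  have hsat' : ∀ i : Fin c'.length, c' i.castSucc ⋖ c' i.succ := fun i => (hsat i).image e hOC
  have H1 : ((c.length : ℕ) : ℕ∞) + c'.head.asIdeal.height = (c' (Fin.last _)).asIdeal.height :=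
    height_chain_of_cm c' hsat' (Fin.last _)
  have hlast : (c' (Fin.last _)).asIdeal.IsMaximal := by
    change (c.last.asIdeal.comap φ).IsMaximal
    exact Ideal.comap_isMaximal_of_surjective φ hφ
  rw [Groth.Agent.Lib.helper26.PolyMax.height_eq_of_isMaximal k n _ hlast] at H1
  set I : Ideal (MvPolynomial (Fin n) k) := c'.head.asIdeal with hI
  have hIle : ∀ q : PrimeSpectrum A, I ≤ (e q).asIdeal := by
    intro q
    change c.head.asIdeal.comap φ ≤ q.asIdeal.comap φ
    rw [h0]
    exact Ideal.comap_mono bot_le
  have hIfin : I.height ≠ ⊤ := by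
    intro htop
    rw [htop] at H1
    simp at H1
  -- upper bound
  have hub : ∀ t : LTSeries (PrimeSpectrum A), t.length ≤ c.length := by
    intro t
    let t' : LTSeries (PrimeSpectrum (MvPolynomial (Fin n) k)) := t.map e e.strictMono
    have h1 : ((t.length : ℕ) : ℕ∞) + t'.head.asIdeal.height ≤ (t' (Fin.last _)).asIdeal.height :=
      length_add_height_le t' (Fin.last _)
    obtain ⟨M, hM, hle⟩ := Ideal.exists_le_maximal (t' (Fin.last _)).asIdeal
      (t' (Fin.last _)).isPrime.ne_top
    have h2 : (t' (Fin.last _)).asIdeal.height ≤ n := by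
      rw [← Groth.Agent.Lib.helper26.PolyMax.height_eq_of_isMaximal k n M hM]
      exact Ideal.height_mono hle
    have h3 : I.height ≤ t'.head.asIdeal.height := Ideal.height_mono (hIle t.head)
    have h4 : (t.length : ℕ∞) + I.height ≤ (c.length : ℕ∞) + I.height := by
      rw [H1]
      exact le_trans (le_trans (add_le_add_right h3 _) h1) h2
    have h5 : (t.length : ℕ∞) ≤ (c.length : ℕ∞) := (ENat.add_le_add_iff_right hIfin).mp h4
    exact_mod_cast h5
  apply le_antisymm
  · exact Order.LTSeries.length_le_krullDim c
  · unfold ringKrullDim Order.krullDim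
    refine iSup_le fun t => ?_
    exact_mod_cast hub t

end Groth.Agent.Lib.helper26.AffDomChain
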