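import Mathlib
import Groth.Prelude.Def_Found
import Groth.Agent.Lib.Helper26.AffDomChain

/-!
# Heights along surjections; catenary domains (helper26)
-/

set_option autoImplicit false
universe u

namespace Groth.Agent.Lib.helper26.DimFormula

open Groth.Agent.Lib.helper26.AffDomChain

/-- For a surjection `φ : B → S` and a prime `q` of `S`: `ht q + ht (ker φ) ≤ ht (φ⁻¹ q)`. -/
theorem height_add_height_ker_le {B S : Type u} [CommRing B] [CommRing S] [IsNoetherianRing S]
    (φ : B →+* S) (hφ : Function.Surjective φ) (q : Ideal S) [q.IsPrime] :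
    q.height + (RingHom.ker φ).height ≤ (q.comap φ).height := by
  obtain ⟨l, hl, hlen⟩ := Ideal.exists_ltSeries_length_eq_height q
  let e := specEmb φ hφ
  let l' : LTSeries (PrimeSpectrum B) := l.map e e.strictMono
  have h := length_add_height_le l' (Fin.last _)
  have hlast : (l' (Fin.last _)).asIdeal = q.comap φ := by
    change (e l.last).asIdeal = _
    rw [hl]
    rfl
  rw [hlast] at h
  have hlen' : ((l'.length : ℕ) : ℕ∞) = q.height := by
    rw [← hlen]; rfl
  have hker : (RingHom.ker φ).height ≤ l'.head.asIdeal.height := by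
    apply Ideal.height_mono
    change RingHom.ker φ ≤ (l.head.asIdeal).comap φ
    intro x hx
    rw [Ideal.mem_comap, (RingHom.mem_ker).mp hx]
    exact Ideal.zero_mem _
  calc q.height + (RingHom.ker φ).height = ((l'.length : ℕ) : ℕ∞) + (RingHom.ker φ).height := by
        rw [hlen']
    _ ≤ ((l'.length : ℕ) : ℕ∞) + l'.head.asIdeal.height := by gcongr
    _ ≤ _ := by
        simpa using h

section Order

variable {α : Type*} [PartialOrder α]

lemma snoc_covBy {m : ℕ} {y : α} {f : Fin (m + 1) → α}
    (h0 : f (Fin.last m) ⋖ y) (hf : ∀ i : Fin m, f i.castSucc ⋖ f i.succ) :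
    ∀ i : Fin (m + 1), (Fin.snoc f y : Fin (m + 2) → α) i.castSucc ⋖
      (Fin.snoc f y : Fin (m + 2) → α) i.succ := by
  intro i
  refine Fin.lastCases ?_ (fun j => ?_) i
  · rw [Fin.snoc_castSucc, Fin.succ_last, Fin.snoc_last]
    exact h0
  · rw [Fin.snoc_castSucc, Fin.succ_castSucc, Fin.snoc_castSucc]
    exact hf j

/-- saturated chain of length `height x` from a minimal element to `x`. -/
lemma exists_sat_chain_of_height : ∀ (m : ℕ) (x : α), Order.height x = m →
    ∃ f : Fin (m + 1) → α, IsMin (f 0) ∧ f (Fin.last m) = x ∧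
      ∀ i : Fin m, f i.castSucc ⋖ f i.succ := by
  intro m
  induction m with
  | zero =>
    intro x hx
    rw [Nat.cast_zero, Order.height_eq_zero] at hx
    exact ⟨fun _ => x, hx, rfl, fun i => i.elim0⟩
  | succ m ih =>
    intro x hx
    rw [Nat.cast_succ, Order.height_eq_coe_add_one_iff] at hx
    obtain ⟨-, ⟨y, hyx, hy⟩, hall⟩ := hx
    obtain ⟨f, hf0, hfl, hfs⟩ := ih y hy
    have hcov : f (Fin.last m) ⋖ x := by
      rw [hfl]
      refine ⟨hyx, fun z hyz hzx => ?_⟩
      have h1 := hall z hzx
      have h2 := Order.height_add_one_le hyz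
      rw [hy] at h2
      have : ((m : ℕ∞) + 1) ≤ m := h2.trans h1
      have : (m + 1 : ℕ) ≤ m := by exact_mod_cast this
      omega
    refine ⟨Fin.snoc f x, ?_, by simp, snoc_covBy hcov hfs⟩
    have : (Fin.snoc f x : Fin (m + 2) → α) 0 = f 0 := by
      rw [← Fin.castSucc_zero, Fin.snoc_castSucc]
    rw [this]
    exact hf0

end Order

section Catenary

variable {B : Type u} [CommRing B] [IsDomain B] [IsNoetherianRing B]

omit [IsDomain B] in
lemma height_ne_top' (x : PrimeSpectrum B) : Order.height x ≠ ⊤ := by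
  rw [← PrimeSpectrum.height_eq_orderHeight]
  exact Ideal.height_ne_top_of_isPrime

omit [IsNoetherianRing B] in
lemma asIdeal_eq_bot_of_isMin (z : PrimeSpectrum B) (hz : IsMin z) : z.asIdeal = ⊥ := by
  have h1 : (⟨⊥, Ideal.isPrime_bot⟩ : PrimeSpectrum B) ≤ z := by
    change (⊥ : Ideal B) ≤ z.asIdeal
    exact bot_le
  have h2 := hz h1
  exact le_bot_iff.mp h2

/-- In a catenary Noetherian domain, `x ⋖ y` implies `ht y = ht x + 1`. -/
theorem height_covBy_of_catenary (hB : CAlg.IsCatenary B) {x y : PrimeSpectrum B} (h : x ⋖ y) :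
    Order.height y = Order.height x + 1 := by
  obtain ⟨m, hm⟩ := ENat.ne_top_iff_exists.mp (height_ne_top' x)
  obtain ⟨m', hm'⟩ := ENat.ne_top_iff_exists.mp (height_ne_top' y)
  obtain ⟨f, hf0, hfl, hfs⟩ := exists_sat_chain_of_height m x hm.symm
  obtain ⟨g, hg0, hgl, hgs⟩ := exists_sat_chain_of_height m' y hm'.symm
  have hs1 := snoc_covBy (y := y) (f := f) (by rw [hfl]; exact h) hfs
  let s : LTSeries (PrimeSpectrum B) :=
    { length := m + 1, toFun := Fin.snoc f y, step := fun i => (hs1 i).lt }
  let t : LTSeries (PrimeSpectrum B) :=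
    { length := m', toFun := g, step := fun i => (hgs i).lt }
  have hhead : s.head = t.head := by
    change (Fin.snoc f y : Fin (m + 2) → PrimeSpectrum B) 0 = g 0
    have : (Fin.snoc f y : Fin (m + 2) → PrimeSpectrum B) 0 = f 0 := by
      rw [← Fin.castSucc_zero, Fin.snoc_castSucc]
    rw [this]
    apply PrimeSpectrum.ext
    rw [asIdeal_eq_bot_of_isMin _ hf0, asIdeal_eq_bot_of_isMin _ hg0]
  have hlast : s.last = t.last := by
    change (Fin.snoc f y : Fin (m + 2) → PrimeSpectrum B) (Fin.last (m + 1)) = g (Fin.last m')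
    rw [Fin.snoc_last, hgl]
  have key : m + 1 = m' := hB.2 s t hhead hlast hs1 hgs
  rw [← hm, ← hm', ← key]
  push_cast; rfl

/-- along a saturated chain in a catenary Noetherian domain, height grows by exactly one. -/
theorem height_sat_chain_of_catenary (hB : CAlg.IsCatenary B) {n : ℕ}
    (c : Fin (n + 1) → PrimeSpectrum B) (hc : ∀ i : Fin n, c i.castSucc ⋖ c i.succ)
    (i : Fin (n + 1)) : Order.height (c i) = Order.height (c 0) + (i : ℕ) := by
  induction i using Fin.induction with
  | zero => simp
  | succ i ih =>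
    rw [height_covBy_of_catenary hB (hc i), ih]
    simp only [Fin.val_castSucc, Fin.val_succ, Nat.cast_add, Nat.cast_one]
    ring

/-- For a surjection `φ : B → S` of domains with `B` catenary Noetherian and a prime `q` of `S`:
`ht q + ht (ker φ) = ht (φ⁻¹ q)`. -/
theorem height_add_height_ker_eq (hB : CAlg.IsCatenary B) {S : Type u} [CommRing S] [IsDomain S]
    (φ : B →+* S) (hφ : Function.Surjective φ) (q : Ideal S) [q.IsPrime] :
    q.height + (RingHom.ker φ).height = (q.comap φ).height := by
  have hS : IsNoetherianRing S := isNoetherianRing_of_surjective B S φ hφ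
  have hkp : (RingHom.ker φ).IsPrime := RingHom.ker_isPrime φ
  let x : PrimeSpectrum S := ⟨q, inferInstance⟩
  have hx : q.height = Order.height x := PrimeSpectrum.height_eq_orderHeight x
  obtain ⟨n, hn⟩ := ENat.ne_top_iff_exists.mp (height_ne_top' x)
  obtain ⟨g, hg0, hgl, hgs⟩ := exists_sat_chain_of_height n x hn.symm
  let e := specEmb φ hφ
  have hOC := ordConnected_range_specEmb φ hφ
  have hc : ∀ i : Fin n, e (g i.castSucc) ⋖ e (g i.succ) := fun i => (hgs i).image e hOC
  have h := height_sat_chain_of_catenary hB (fun i => e (g i)) hc (Fin.last n)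
  change Order.height (e (g (Fin.last n))) = Order.height (e (g 0)) + ((Fin.last n : Fin (n+1)) : ℕ) at h
  rw [hgl] at h
  have h0 : e (g 0) = ⟨RingHom.ker φ, hkp⟩ := by
    apply PrimeSpectrum.ext
    change (g 0).asIdeal.comap φ = RingHom.ker φ
    rw [asIdeal_eq_bot_of_isMin _ hg0, RingHom.ker_eq_comap_bot]
  have hex : e x = ⟨q.comap φ, inferInstance⟩ := rfl
  rw [h0, hex, ← PrimeSpectrum.height_eq_orderHeight, ← PrimeSpectrum.height_eq_orderHeight] at h
  rw [h, hx, ← hn, add_comm]
  simp

end Catenary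

end Groth.Agent.Lib.helper26.DimFormula
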