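import Mathlib
import Groth.Prelude.Def_Found
import Groth.Agent.Lib.Helper26.DimFormula3
import Groth.Agent.Lib.Helper26.DimFormula4

/-!
# The dimension formula: one generator (helper26)
-/

set_option autoImplicit false
universe u

namespace Groth.Agent.Lib.helper26.DimFormula

open Polynomial

section OneGen

variable {R S : Type u} [CommRing R] [IsDomain R] [IsNoetherianRing R] [CommRing S] [IsDomain S]
  [Algebra R S] [FaithfulSMul R S]

omit [IsDomain R] [IsNoetherianRing R] [IsDomain S] [FaithfulSMul R S] in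
lemma liesOver_comap (φ : R[X] →ₐ[R] S) (p : Ideal R) (q : Ideal S) [q.LiesOver p] :
    (q.comap φ).LiesOver p := by
  constructor
  rw [Ideal.under_def]
  have : Ideal.comap (algebraMap R R[X]) (Ideal.comap φ q) = Ideal.comap (algebraMap R S) q := by
    ext a
    simp only [Ideal.mem_comap]
    rw [φ.commutes]
  rw [this]
  exact Ideal.over_def q p

omit [IsDomain R] [IsNoetherianRing R] [IsDomain S] [FaithfulSMul R S] in
lemma trdeg_quot_comap_eq (φ : R[X] →ₐ[R] S) (hφ : Function.Surjective φ) (p : Ideal R)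
    (q : Ideal S) [q.LiesOver p] [(q.comap φ).LiesOver p] :
    Algebra.trdeg (R ⧸ p) (R[X] ⧸ q.comap φ) = Algebra.trdeg (R ⧸ p) (S ⧸ q) := by
  let f : (R[X] ⧸ q.comap φ) ≃+* (S ⧸ q) :=
    RingEquiv.ofBijective (Ideal.quotientMap q (φ : R[X] →+* S) le_rfl)
      ⟨Ideal.quotientMap_injective, Ideal.quotientMap_surjective hφ⟩
  let e : (R[X] ⧸ q.comap φ) ≃ₐ[R ⧸ p] (S ⧸ q) :=
    AlgEquiv.ofRingEquiv (f := f) (by
      intro x
      obtain ⟨a, rfl⟩ := Ideal.Quotient.mk_surjective x
      change Ideal.quotientMap q (φ : R[X] →+* S) le_rfl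
        (Ideal.Quotient.mk _ (algebraMap R R[X] a)) = Ideal.Quotient.mk q (algebraMap R S a)
      rw [Ideal.quotientMap_mk]
      congr 1
      exact φ.commutes a)
  exact e.trdeg_eq

/-- one generator: the dimension inequality, with equality when `R[X]` is catenary. -/
theorem dimension_formula_oneGen (φ : R[X] →ₐ[R] S) (hφ : Function.Surjective φ) (p : Ideal R)
    [p.IsPrime] (q : Ideal S) [q.IsPrime] [q.LiesOver p] :
    (q.height : Cardinal.{u}) + Algebra.trdeg (R ⧸ p) (S ⧸ q) ≤
        (p.height : Cardinal.{u}) + Algebra.trdeg R S ∧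
      (CAlg.IsCatenary R[X] → (q.height : Cardinal.{u}) + Algebra.trdeg (R ⧸ p) (S ⧸ q) =
        (p.height : Cardinal.{u}) + Algebra.trdeg R S) := by
  have hlo := liesOver_comap φ p q
  have hP : (q.comap φ).IsPrime := Ideal.comap_isPrime φ q
  have E1 := dimension_formula_polynomial p (q.comap φ)
  rw [trdeg_quot_comap_eq φ hφ p q] at E1
  by_cases hker : RingHom.ker (φ : R[X] →+* S) = ⊥
  · -- `φ` is an isomorphism
    have hinj : Function.Injective φ := (RingHom.injective_iff_ker_eq_bot (φ : R[X] →+* S)).mpr hker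
    let e : R[X] ≃ₐ[R] S := AlgEquiv.ofBijective φ ⟨hinj, hφ⟩
    have ht : Algebra.trdeg R S = 1 := by
      rw [← e.trdeg_eq]
      exact Polynomial.trdeg_of_isDomain
    have hh : (q.comap φ).height = q.height := by
      have := RingEquiv.height_comap e.toRingEquiv q
      rw [← this]
      congr 1
    rw [ht, ← hh, ← E1]
    exact ⟨le_rfl, fun _ => rfl⟩
  · -- `S` is algebraic over `R`
    have hkp : (RingHom.ker (φ : R[X] →+* S)).IsPrime := RingHom.ker_isPrime _
    have hbp : (⊥ : Ideal R).IsPrime := Ideal.isPrime_bot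
    have hklo : (RingHom.ker (φ : R[X] →+* S)).LiesOver (⊥ : Ideal R) := by
      constructor
      rw [Ideal.under_def]
      ext a
      simp only [Ideal.mem_comap, RingHom.mem_ker, Ideal.mem_bot]
      change _ ↔ φ (algebraMap R R[X] a) = 0
      rw [φ.commutes]
      constructor
      · intro h; rw [h, map_zero]
      · intro h
        exact (FaithfulSMul.algebraMap_injective R S) (by rw [h, map_zero])
    have hne : RingHom.ker (φ : R[X] →+* S) ≠ (⊥ : Ideal R).map C := by
      rw [Ideal.map_bot]; exact hker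
    have hQ : (RingHom.ker (φ : R[X] →+* S)).height = 1 := by
      rw [height_eq_add_one ⊥ _ hne, Ideal.height_bot, zero_add]
    -- `S` algebraic over `R`
    have halg : Algebra.IsAlgebraic R S := by
      obtain ⟨f, hf, hf0⟩ := Submodule.exists_mem_ne_zero_of_ne_bot hker
      have hx : IsAlgebraic R (φ X) := by
        refine ⟨f, hf0, ?_⟩
        rw [Polynomial.aeval_algHom_apply, Polynomial.aeval_X_left_apply]
        exact hf
      have hadj := (Algebra.isAlgebraic_adjoin_singleton_iff (R := R)).mpr hx
      refine ⟨fun b => ?_⟩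
      obtain ⟨g, rfl⟩ := hφ b
      have : φ g = Polynomial.aeval (φ X) g := by
        rw [Polynomial.aeval_algHom_apply, Polynomial.aeval_X_left_apply]
      rw [this]
      exact hadj _ (Polynomial.aeval_mem_adjoin_singleton _ _)
    have ht : Algebra.trdeg R S = 0 := trdeg_eq_zero
    have hS : IsNoetherianRing S := isNoetherianRing_of_surjective R[X] S (φ : R[X] →+* S) hφ
    have hle := height_add_height_ker_le (φ : R[X] →+* S) hφ q
    rw [hQ] at hle
    rw [ht, add_zero]
    constructor
    · rw [← Cardinal.add_one_le_add_one_iff, E1, add_right_comm]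
      gcongr
      rw [← Cardinal.ofENat_one, ← Cardinal.ofENat_add]
      exact Cardinal.ofENat_le_ofENat.mpr hle
    · intro hcat
      have heq := height_add_height_ker_eq hcat (φ : R[X] →+* S) hφ q
      rw [hQ] at heq
      have h1 : ((q.height : Cardinal.{u}) + Algebra.trdeg (R ⧸ p) (S ⧸ q)) + 1
          = (p.height : Cardinal.{u}) + 1 := by
        rw [E1, add_right_comm, ← Cardinal.ofENat_one, ← Cardinal.ofENat_add, heq]
        rfl
      exact Cardinal.add_right_inj_of_lt_aleph0 Cardinal.one_lt_aleph0 |>.mp h1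

end OneGen

end Groth.Agent.Lib.helper26.DimFormula
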