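import Mathlib
import Groth.Prelude.Def_Found
import Groth.Agent.Lib.Helper26.DimFormula5

/-!
# The dimension formula (helper26)

`R ⊆ S` finite type extension of domains, `R` Noetherian, `q` over `p`:
`ht q + trdeg (R/p) (S/q) ≤ ht p + trdeg R S`, with equality if `R` is universally catenary.
-/

set_option autoImplicit false
universe u

namespace Groth.Agent.Lib.helper26.DimFormula

open Polynomial

/-- the dimension inequality, and the equality in the universally catenary case. -/
def DimProp (R S : Type u) [CommRing R] [CommRing S] [Algebra R S] : Prop :=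
  ∀ (p : Ideal R) [p.IsPrime] (q : Ideal S) [q.IsPrime] [q.LiesOver p],
    ((q.height : Cardinal.{u}) + Algebra.trdeg (R ⧸ p) (S ⧸ q) ≤
        (p.height : Cardinal.{u}) + Algebra.trdeg R S) ∧
    (CAlg.IsUniversallyCatenary R → (q.height : Cardinal.{u}) + Algebra.trdeg (R ⧸ p) (S ⧸ q) =
        (p.height : Cardinal.{u}) + Algebra.trdeg R S)

/-- a finite type algebra over a universally catenary ring is universally catenary. -/
theorem isUniversallyCatenary_of_finiteType {R R' : Type u} [CommRing R] [CommRing R']
    [Algebra R R'] [Algebra.FiniteType R R'] (h : CAlg.IsUniversallyCatenary R) :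
    CAlg.IsUniversallyCatenary R' := by
  have hN := h.1
  refine ⟨Algebra.FiniteType.isNoetherianRing R R', ?_⟩
  intro T _ _ hT
  let _ : Algebra R T := Algebra.compHom T (algebraMap R R')
  have : IsScalarTower R R' T := IsScalarTower.of_algebraMap_eq (fun x => rfl)
  exact h.2 T (Algebra.FiniteType.trans (inferInstance : Algebra.FiniteType R R') hT)

section Tower

variable {R R' S : Type u} [CommRing R] [IsDomain R] [CommRing R'] [IsDomain R']
  [IsNoetherianRing R'] [CommRing S] [IsDomain S] [Algebra R R'] [Algebra R' S] [Algebra R S]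
  [IsScalarTower R R' S] [FaithfulSMul R R'] [FaithfulSMul R' S]

omit [IsDomain R'] in
theorem DimProp.trans (h1 : DimProp R R') (h2 : DimProp R' S)
    (huc : CAlg.IsUniversallyCatenary R → CAlg.IsUniversallyCatenary R') : DimProp R S := by
  intro p _ q _ _
  let p' : Ideal R' := q.under R'
  have hp' : p'.IsPrime := Ideal.IsPrime.under R' q
  have hlo1 : q.LiesOver p' := Ideal.over_under q
  have hlo2 : p'.LiesOver p := Ideal.under_liesOver_of_liesOver R' q p
  have hst : IsScalarTower (R ⧸ p) (R' ⧸ p') (S ⧸ q) := IsScalarTower.of_algebraMap_eq <| by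
    intro x
    obtain ⟨r, rfl⟩ := Ideal.Quotient.mk_surjective x
    change Ideal.Quotient.mk q (algebraMap R S r)
      = Ideal.Quotient.mk q (algebraMap R' S (algebraMap R R' r))
    rw [← IsScalarTower.algebraMap_apply R R' S]
  have hRS : FaithfulSMul R S := by
    rw [faithfulSMul_iff_algebraMap_injective, IsScalarTower.algebraMap_eq R R' S]
    exact (FaithfulSMul.algebraMap_injective R' S).comp (FaithfulSMul.algebraMap_injective R R')
  have T1 := trdeg_add_eq (R ⧸ p) (R' ⧸ p') (A := S ⧸ q)
  have T2 := trdeg_add_eq R R' (A := S)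
  obtain ⟨a1, b1⟩ := h1 p p'
  obtain ⟨a2, b2⟩ := h2 p' q
  have hfin : (p'.height : Cardinal.{u}) < Cardinal.aleph0 :=
    Cardinal.ofENat_lt_aleph0.mpr (Ideal.height_lt_top_of_isPrime)
  constructor
  · rw [← T1, ← T2]
    rw [← Cardinal.add_le_add_iff_of_lt_aleph0 hfin]
    calc (q.height : Cardinal.{u}) + (Algebra.trdeg (R ⧸ p) (R' ⧸ p') + Algebra.trdeg (R' ⧸ p') (S ⧸ q))
          + p'.height
        = ((q.height : Cardinal.{u}) + Algebra.trdeg (R' ⧸ p') (S ⧸ q))
          + ((p'.height : Cardinal.{u}) + Algebra.trdeg (R ⧸ p) (R' ⧸ p')) := by ring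
      _ ≤ ((p'.height : Cardinal.{u}) + Algebra.trdeg R' S)
          + ((p.height : Cardinal.{u}) + Algebra.trdeg R R') := add_le_add a2 a1
      _ = _ := by ring
  · intro hR
    have e1 := b1 hR
    have e2 := b2 (huc hR)
    rw [← T1, ← T2]
    apply (Cardinal.add_right_inj_of_lt_aleph0 hfin).mp
    calc (q.height : Cardinal.{u}) + (Algebra.trdeg (R ⧸ p) (R' ⧸ p') + Algebra.trdeg (R' ⧸ p') (S ⧸ q))
          + p'.height
        = ((q.height : Cardinal.{u}) + Algebra.trdeg (R' ⧸ p') (S ⧸ q))
          + ((p'.height : Cardinal.{u}) + Algebra.trdeg (R ⧸ p) (R' ⧸ p')) := by ring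
      _ = ((p'.height : Cardinal.{u}) + Algebra.trdeg R' S)
          + ((p.height : Cardinal.{u}) + Algebra.trdeg R R') := by rw [e1, e2]
      _ = _ := by ring

end Tower

section OneGen

variable {R S : Type u} [CommRing R] [IsDomain R] [IsNoetherianRing R] [CommRing S] [IsDomain S]
  [Algebra R S] [FaithfulSMul R S]

theorem DimProp.of_surjective (φ : R[X] →ₐ[R] S) (hφ : Function.Surjective φ) : DimProp R S := by
  intro p _ q _ _
  obtain ⟨a, b⟩ := dimension_formula_oneGen φ hφ p q
  exact ⟨a, fun h => b (h.2 R[X] inferInstance)⟩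

end OneGen

/-- induction on a finite generating set. -/
theorem dimProp_of_adjoin {S : Type u} [CommRing S] [IsDomain S] : ∀ (s : Finset S)
    (R : Type u) [CommRing R] [IsDomain R] [IsNoetherianRing R] [Algebra R S] [FaithfulSMul R S],
    Algebra.adjoin R (s : Set S) = ⊤ → DimProp R S := by
  classical
  intro s
  induction s using Finset.induction_on with
  | empty =>
    intro R _ _ _ _ _ h
    let φ : R[X] →ₐ[R] S := Polynomial.aeval (0 : S)
    refine DimProp.of_surjective φ ?_
    intro b
    have hb : b ∈ (⊥ : Subalgebra R S) := by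
      rw [← Algebra.adjoin_empty, ← Finset.coe_empty, h]; exact Algebra.mem_top
    obtain ⟨r, rfl⟩ := Algebra.mem_bot.mp hb
    exact ⟨C r, by simp [φ]⟩
  | insert a s ha ih =>
    intro R _ _ _ _ _ h
    let φ₀ : R[X] →ₐ[R] S := Polynomial.aeval a
    let R' : Subalgebra R S := φ₀.range
    let φ : R[X] →ₐ[R] R' := φ₀.rangeRestrict
    have hφ : Function.Surjective φ := φ₀.rangeRestrict_surjective
    have hft : Algebra.FiniteType R R' := Algebra.FiniteType.of_surjective φ hφ
    have hN : IsNoetherianRing R' := Algebra.FiniteType.isNoetherianRing R R'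
    have hRR' : FaithfulSMul R R' := by
      rw [faithfulSMul_iff_algebraMap_injective]
      intro x y hxy
      apply FaithfulSMul.algebraMap_injective R S
      have := congrArg (Subtype.val) hxy
      exact this
    have h1 : DimProp R R' := DimProp.of_surjective φ hφ
    have haR' : a ∈ R' := ⟨X, by simp [φ₀]⟩
    have hadj : Algebra.adjoin R' (s : Set S) = ⊤ := by
      rw [eq_top_iff]
      intro x _
      have hx : x ∈ Algebra.adjoin R ((insert a s : Finset S) : Set S) := by
        rw [h]; exact Algebra.mem_top
      have hle : Algebra.adjoin R ((insert a s : Finset S) : Set S)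
          ≤ (Algebra.adjoin R' (s : Set S)).restrictScalars R := by
        apply Algebra.adjoin_le
        intro y hy
        rw [Finset.coe_insert] at hy
        rcases hy with rfl | hy
        · exact Subalgebra.algebraMap_mem (Algebra.adjoin R' (s : Set S)) (⟨y, haR'⟩ : R')
        · exact Algebra.subset_adjoin hy
      exact hle hx
    have h2 : DimProp R' S := ih R' hadj
    exact DimProp.trans h1 h2 (fun hR => isUniversallyCatenary_of_finiteType hR)

/-- **The dimension formula** (inequality). -/
theorem dimension_inequality (R : Type u) [CommRing R] [IsDomain R]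
    [IsNoetherianRing R] (S : Type u) [CommRing S] [IsDomain S] [Algebra R S]
    [FaithfulSMul R S] [Algebra.FiniteType R S] (p : Ideal R) [p.IsPrime] (q : Ideal S) [q.IsPrime]
    [q.LiesOver p] :
    (q.height : Cardinal.{u}) + Algebra.trdeg (R ⧸ p) (S ⧸ q) ≤
      (p.height : Cardinal.{u}) + Algebra.trdeg R S := by
  obtain ⟨s, hs⟩ := (inferInstance : Algebra.FiniteType R S).out
  exact (dimProp_of_adjoin s R hs p q).1

/-- **The dimension formula** (equality for universally catenary base). -/
theorem dimension_formula (R : Type u) [CommRing R] [IsDomain R]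
    (hR : CAlg.IsUniversallyCatenary R) (S : Type u) [CommRing S] [IsDomain S] [Algebra R S]
    [FaithfulSMul R S] [Algebra.FiniteType R S] (p : Ideal R) [p.IsPrime] (q : Ideal S) [q.IsPrime]
    [q.LiesOver p] :
    (q.height : Cardinal.{u}) + Algebra.trdeg (R ⧸ p) (S ⧸ q) =
      (p.height : Cardinal.{u}) + Algebra.trdeg R S := by
  have := hR.1
  obtain ⟨s, hs⟩ := (inferInstance : Algebra.FiniteType R S).out
  exact (dimProp_of_adjoin s R hs p q).2 hR

end Groth.Agent.Lib.helper26.DimFormula
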