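import Mathlib
import Groth.Agent.Lib.Helper26.CMPoly2
import Groth.Agent.Lib.Helper26.CMCat2
import Groth.Agent.Lib.Helper28.Catenary
import Groth.Agent.S0552
import Groth.Agent.S9125

/-!
# Cohen–Macaulay rings are universally catenary (helper26)
-/

set_option autoImplicit false
universe u

namespace Groth.Agent.Lib.helper26.CMPoly

open LocCoh IsLocalRing Groth.Agent.Lib.helper26.Depth Groth.Agent.Lib.helper26.CMCat
open Groth.Agent.Lib.helper28

section Local

variable {R : Type u} [CommRing R] [IsNoetherianRing R] [IsLocalRing R]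

lemma ht_add_le (s : LTSeries (PrimeSpectrum R)) (i : Fin (s.length + 1)) :
    ht s.head + (i : ℕ) ≤ ht (s i) := by
  induction i using Fin.induction with
  | zero => simp [RelSeries.head]
  | succ i ih =>
    have h1 : s (Fin.castSucc i) < s (Fin.succ i) := s.strictMono (Fin.castSucc_lt_succ (i := i))
    have h2 := ht_lt_of_lt h1
    simp only [Fin.val_castSucc] at ih
    simp only [Fin.val_succ]
    omega

lemma ht_add_eq (hR : IsCohenMacaulayModule R R) (s : LTSeries (PrimeSpectrum R))
    (hs : ∀ i : Fin s.length, s (Fin.castSucc i) ⋖ s (Fin.succ i)) (i : Fin (s.length + 1)) :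
    ht s.head + (i : ℕ) = ht (s i) := by
  induction i using Fin.induction with
  | zero => simp [RelSeries.head]
  | succ i ih =>
    have h2 := ht_covBy hR _ _ (hs i)
    simp only [Fin.val_castSucc] at ih
    simp only [Fin.val_succ]
    omega

/-- a Cohen–Macaulay local ring is catenary. -/
theorem isCatenary_of_cm_local (hR : IsCohenMacaulayModule R R) : CAlg.IsCatenary R := by
  constructor
  · intro p q _
    refine ⟨ht q, fun s _ hl => ?_⟩
    have h := ht_add_le s (Fin.last _)
    have h' : s (Fin.last _) = q := hl
    rw [h'] at h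
    simp only [Fin.val_last] at h
    omega
  · intro s t hhead hlast hs ht'
    have h1 := ht_add_eq hR s hs (Fin.last _)
    have h2 := ht_add_eq hR t ht' (Fin.last _)
    have h1' : s (Fin.last _) = s.last := rfl
    have h2' : t (Fin.last _) = t.last := rfl
    rw [h1', hlast] at h1
    rw [h2', ← hhead] at h2
    simp only [Fin.val_last] at h1 h2
    omega

end Local

/-- a Cohen–Macaulay ring is catenary. -/
theorem isCatenary_of_cm (R : Type u) [CommRing R] [h : IsCohenMacaulayRing R] :
    CAlg.IsCatenary R := by
  rw [Groth.Agent.S0552.result]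
  intro m hm
  have := h.isCohenMacaulayLocalRing_localization m
  exact isCatenary_of_cm_local (this.supportDim_eq_depth)

/-- catenarity is invariant under ring isomorphisms. -/
theorem isCatenary_of_ringEquiv {R S : Type u} [CommRing R] [CommRing S] (e : R ≃+* S)
    (h : CAlg.IsCatenary R) : CAlg.IsCatenary S := by
  rw [isCatenary_iff_orderCat] at h ⊢
  refine OrderCat.of_embedding (PrimeSpectrum.comapEquiv e).symm.toOrderEmbedding ?_ h
  have : Set.range (PrimeSpectrum.comapEquiv e).symm.toOrderEmbedding = Set.univ := by
    ext x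
    simp only [Set.mem_range, Set.mem_univ, iff_true]
    exact ⟨PrimeSpectrum.comapEquiv e x, (PrimeSpectrum.comapEquiv e).symm_apply_apply x⟩
  rw [this]
  exact Set.ordConnected_univ

/-- a Cohen–Macaulay ring is universally catenary. -/
theorem isUniversallyCatenary_of_cm (R : Type u) [CommRing R] [h : IsCohenMacaulayRing R] :
    CAlg.IsUniversallyCatenary R := by
  refine ⟨inferInstance, ?_⟩
  intro S _ _ hS
  obtain ⟨n, f, hf⟩ := Algebra.FiniteType.iff_quotient_mvPolynomial''.mp hS
  have hP := isCohenMacaulayRing_mvPolynomial R n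
  have hcat := isCatenary_of_cm (MvPolynomial (Fin n) R)
  have hq := Groth.Agent.S9125.result _ (RingHom.ker (f : MvPolynomial (Fin n) R →+* S)) hcat
  exact isCatenary_of_ringEquiv
    (RingHom.quotientKerEquivOfSurjective (f := (f : MvPolynomial (Fin n) R →+* S)) hf) hq

end Groth.Agent.Lib.helper26.CMPoly
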