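import Mathlib
import Groth.Prelude.Def_Found
import Groth.Agent.Lib.Helper26.DimFormula6
import Groth.Agent.Lib.Helper26.CMPoly3

/-!
# Dimension theory of finite type domains over a field (helper26)
-/

set_option autoImplicit false
universe u

namespace Groth.Agent.Lib.helper26.DimFormula

open Groth.Agent.Lib.helper26.CMCat Groth.Agent.Lib.helper26.CMPoly

/-- a field is universally catenary. -/
theorem isUniversallyCatenary_field (k : Type u) [Field k] : CAlg.IsUniversallyCatenary k := by
  have := isCohenMacaulayRing_field k
  exact isUniversallyCatenary_of_cm k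

variable (k S : Type u) [Field k] [CommRing S] [IsDomain S] [Algebra k S] [Algebra.FiniteType k S]

/-- `ht q + trdeg_k (S/q) = trdeg_k S` for a prime `q` of a finite type domain over a field. -/
theorem height_add_trdeg_quotient (q : Ideal S) [q.IsPrime] :
    (q.height : Cardinal.{u}) + Algebra.trdeg k (S ⧸ q) = Algebra.trdeg k S := by
  have hbp : (⊥ : Ideal k).IsPrime := Ideal.isPrime_bot
  have key := dimension_formula k (isUniversallyCatenary_field k) S ⊥ q
  rw [Ideal.height_bot] at key
  have h0 : ((0 : ℕ∞) : Cardinal.{u}) = 0 := by simp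
  rw [h0, zero_add] at key
  rw [← key]
  congr 1
  have hsurj : Function.Surjective (algebraMap k (k ⧸ (⊥ : Ideal k))) :=
    Ideal.Quotient.mk_surjective
  have halg : Algebra.IsAlgebraic k (k ⧸ (⊥ : Ideal k)) := by
    have : Algebra.IsIntegral k (k ⧸ (⊥ : Ideal k)) := Algebra.isIntegral_of_surjective hsurj
    infer_instance
  have T := trdeg_add_eq k (k ⧸ (⊥ : Ideal k)) (A := S ⧸ q)
  have t0 : Algebra.trdeg k (k ⧸ (⊥ : Ideal k)) = 0 := trdeg_eq_zero
  rw [t0, zero_add] at T
  exact T.symm

omit [IsDomain S] in
/-- the transcendence degree of a finite type domain over a field, as a natural number. -/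
theorem exists_nat_trdeg : ∃ n : ℕ, Algebra.trdeg k S = n :=
  Cardinal.lt_aleph0.mp (trdeg_lt_aleph0_of_finiteType (R := k) (S := S))

/-- maximal ideals of a finite type domain over a field all have height `trdeg_k S`. -/
theorem height_eq_trdeg_of_isMaximal (m : Ideal S) [m.IsMaximal] :
    (m.height : Cardinal.{u}) = Algebra.trdeg k S := by
  have hm : m.IsPrime := Ideal.IsMaximal.isPrime inferInstance
  have key := height_add_trdeg_quotient k S m
  let _ : Field (S ⧸ m) := Ideal.Quotient.field m
  have hfin : Module.Finite k (S ⧸ m) := finite_of_finite_type_of_isJacobsonRing k (S ⧸ m)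
  have halg : Algebra.IsAlgebraic k (S ⧸ m) := inferInstance
  have t0 : Algebra.trdeg k (S ⧸ m) = 0 := trdeg_eq_zero
  rw [t0, add_zero] at key
  exact key

omit [Algebra.FiniteType k S] in
theorem trdeg_fractionRing : Algebra.trdeg k (FractionRing S) = Algebra.trdeg k S := by
  have T := trdeg_add_eq k S (A := FractionRing S)
  have halg : Algebra.IsAlgebraic S (FractionRing S) :=
    IsLocalization.isAlgebraic (FractionRing S) (nonZeroDivisors S)
  have t0 : Algebra.trdeg S (FractionRing S) = 0 := trdeg_eq_zero
  rw [t0, add_zero] at T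
  exact T.symm

/-- the Krull dimension of a finite type domain over a field is its transcendence degree. -/
theorem ringKrullDim_eq_of_trdeg (n : ℕ) (hn : Algebra.trdeg k S = n) :
    ringKrullDim S = n ∧ ∀ (m : Ideal S) [m.IsMaximal],
      ringKrullDim (Localization.AtPrime m) = n := by
  have hht : ∀ (m : Ideal S) [m.IsMaximal], m.height = n := by
    intro m _
    have := height_eq_trdeg_of_isMaximal k S m
    rw [hn, ← Cardinal.ofENat_nat, Cardinal.ofENat_inj] at this
    exact this
  constructor
  · rw [← Ideal.sup_isMaximal_height_eq_ringKrullDim]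
    congr 1
    apply le_antisymm
    · refine iSup_le fun I => iSup_le fun hI => ?_
      rw [hht I]
    · obtain ⟨m, hm⟩ := Ideal.exists_maximal S
      refine le_trans ?_ (le_iSup _ m)
      refine le_trans ?_ (le_iSup _ hm)
      rw [hht m]
  · intro m _
    rw [IsLocalization.AtPrime.ringKrullDim_eq_height m (Localization.AtPrime m), hht m]
    rfl

end Groth.Agent.Lib.helper26.DimFormula
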