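import Mathlib
set_option autoImplicit false
universe u
open CategoryTheory Abelian Limits

namespace Groth.Agent.Lib.helper26.GlobalDim

variable {A : Type u} [CommRing A]

/-- Baer via Ext: if `Ext^1(A/I, N) = 0` for all ideals `I` then `N` is injective. -/
theorem injective_of_ext_one_quotient (N : ModuleCat.{u} A)
    (h : ∀ I : Ideal A, Subsingleton (Ext (ModuleCat.of A (A ⧸ I)) N 1)) : Injective N := by
  rw [← Module.injective_iff_injective_object]
  apply Module.Baer.injective
  intro I g
  have hex : Function.Exact (Submodule.subtype I) (Submodule.mkQ I) := by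
    intro x
    simp [Ideal.Quotient.eq_zero_iff_mem]
  let S : ShortComplex (ModuleCat.{u} A) :=
    ModuleCat.shortComplexOfCompEqZero (Submodule.subtype I) (Submodule.mkQ I)
      hex.linearMap_comp_eq_zero
  have hS : S.ShortExact := ModuleCat.shortComplex_shortExact S hex I.injective_subtype
    (Submodule.mkQ_surjective I)
  have := h I
  obtain ⟨φ, hφ⟩ := Ext.contravariant_sequence_exact₁ hS N (Ext.mk₀ (ModuleCat.ofHom g))
    (zero_add 1) (Subsingleton.elim _ _)
  obtain ⟨φ, rfl⟩ := Ext.homEquiv₀.symm.surjective φ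
  have key : S.f ≫ φ = ModuleCat.ofHom g := Ext.homEquiv₀.symm.injective (by simpa using hφ)
  refine ⟨φ.hom, fun x hx => ?_⟩
  have := congrArg (fun t => t.hom ⟨x, hx⟩) key
  exact this

theorem hasInjectiveDimensionLT_of_ext_quotient (n : ℕ) (N : ModuleCat.{u} A)
    (h : ∀ I : Ideal A, Subsingleton (Ext (ModuleCat.of A (A ⧸ I)) N (n + 1))) :
    HasInjectiveDimensionLT N (n + 1) := by
  induction n generalizing N with
  | zero =>
    have := injective_of_ext_one_quotient N h
    infer_instance
  | succ n ih =>
    have ei : EnoughInjectives (ModuleCat.{u} A) := inferInstance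
    rcases ei.1 N with ⟨E, inj, f, monof⟩
    let S := ShortComplex.mk f (cokernel.π f) (cokernel.condition f)
    have hS : S.ShortExact := { exact := ShortComplex.exact_cokernel f }
    have hC : ∀ I : Ideal A, Subsingleton (Ext (ModuleCat.of A (A ⧸ I)) S.X₃ (n + 1)) := by
      intro I
      have := h I
      refine ⟨fun a b => ?_⟩
      have h0 : ∀ a : Ext (ModuleCat.of A (A ⧸ I)) S.X₃ (n + 1), a = 0 := by
        intro a
        obtain ⟨x₂, rfl⟩ := Ext.covariant_sequence_exact₃ _ hS a (rfl : n + 1 + 1 = n + 1 + 1)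
          (Subsingleton.elim _ _)
        have : x₂ = 0 := Ext.eq_zero_of_injective x₂
        rw [this, Ext.zero_comp]
      rw [h0 a, h0 b]
    have := ih S.X₃ hC
    exact (hS.hasInjectiveDimensionLT_X₃_iff n inj).mp this

theorem hasProjectiveDimensionLT_of_forall_cyclic (n : ℕ)
    (h : ∀ I : Ideal A, HasProjectiveDimensionLT (ModuleCat.of A (A ⧸ I)) (n + 1))
    (M : ModuleCat.{u} A) : HasProjectiveDimensionLT M (n + 1) := by
  apply HasProjectiveDimensionLT.mk
  intro i hi Y e
  have : HasInjectiveDimensionLT Y (n + 1) :=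
    hasInjectiveDimensionLT_of_ext_quotient n Y
      (fun I => HasProjectiveDimensionLT.subsingleton _ (n + 1) (n + 1) le_rfl Y)
  exact e.eq_zero_of_hasInjectiveDimensionLT (n + 1) hi

end Groth.Agent.Lib.helper26.GlobalDim
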