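import Mathlib
import Groth.Prelude.Def_Found
import Groth.Agent.Lib.Helper26.DimFormula7
import Groth.Agent.Lib.Helper24.NagataReg
import Groth.Agent.Lib.Helper24.CatEquidim

/-!
# `ht q + dim S/q = dim S` for equidimensional finite type algebras over a field (helper26)
-/

set_option autoImplicit false
universe u

namespace Groth.Agent.Lib.helper26.DimFormula

variable (k S : Type u) [Field k] [CommRing S] [Algebra k S] [Algebra.FiniteType k S]

/-- the Krull dimension of a finite type domain over a field is its transcendence degree. -/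
theorem exists_nat_trdeg_eq_ringKrullDim [IsDomain S] :
    ∃ n : ℕ, Algebra.trdeg k S = n ∧ ringKrullDim S = n := by
  obtain ⟨n, hn⟩ := exists_nat_trdeg k S
  exact ⟨n, hn, (ringKrullDim_eq_of_trdeg k S n hn).1⟩

include k in
/-- `ht q + dim S/q = dim S` in a finite type domain over a field. -/
theorem height_add_dim_quotient_of_domain [IsDomain S] (q : Ideal S) [q.IsPrime] :
    (q.height : WithBot ℕ∞) + ringKrullDim (S ⧸ q) = ringKrullDim S := by
  obtain ⟨n, hn, hdn⟩ := exists_nat_trdeg_eq_ringKrullDim k S
  obtain ⟨n', hn', hdn'⟩ := exists_nat_trdeg_eq_ringKrullDim k (S ⧸ q)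
  have key := height_add_trdeg_quotient k S q
  have hIN : IsNoetherianRing S := Algebra.FiniteType.isNoetherianRing k S
  rw [hn, hn'] at key
  obtain ⟨h, hh⟩ := ENat.ne_top_iff_exists.mp (Ideal.height_ne_top_of_isPrime (I := q))
  rw [← hh] at key
  rw [hdn, hdn', ← hh]
  have : h + n' = n := by
    have h1 : ((h : ℕ∞) : Cardinal.{u}) = (h : Cardinal.{u}) := by simp
    rw [h1] at key
    exact_mod_cast key
  rw [← this]
  push_cast
  rfl

include k in
/-- `ht q + dim S/q = d` in an equidimensional finite type algebra over a field. -/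
theorem height_add_dim_quotient_of_equidim (d : ℕ)
    (heq : ∀ p ∈ minimalPrimes S, ringKrullDim (S ⧸ p) = d) (q : Ideal S) [q.IsPrime] :
    (q.height : WithBot ℕ∞) + ringKrullDim (S ⧸ q) = d := by
  apply le_antisymm
  · refine le_trans (Groth.Agent.Lib.Helper24.NagataReg.height_add_ringKrullDim_quotient_le S q) ?_
    apply Groth.Agent.Lib.Helper24.CatEquidim.ringKrullDim_le_of_forall_minimalPrimes
    intro P hP
    exact le_of_eq (heq P hP)
  · obtain ⟨p0, hp0, hp0q⟩ := Ideal.exists_minimalPrimes_le (I := ⊥) (J := q) bot_le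
    have hp0' : p0 ∈ minimalPrimes S := hp0
    have hp0prime : p0.IsPrime := hp0.1.1
    have hIN : IsNoetherianRing S := Algebra.FiniteType.isNoetherianRing k S
    let q0 : Ideal (S ⧸ p0) := q.map (Ideal.Quotient.mk p0)
    have hq0 : q0.IsPrime :=
      Ideal.map_isPrime_of_surjective Ideal.Quotient.mk_surjective (by rw [Ideal.mk_ker]; exact hp0q)
    have hcomap : q0.comap (Ideal.Quotient.mk p0) = q := by
      rw [Ideal.comap_map_of_surjective _ Ideal.Quotient.mk_surjective, ← RingHom.ker_eq_comap_bot,
        Ideal.mk_ker, sup_eq_left.mpr hp0q]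
    have h1 := height_add_dim_quotient_of_domain k (S ⧸ p0) q0
    rw [heq p0 hp0'] at h1
    have h2 := height_add_height_ker_le (Ideal.Quotient.mk p0) Ideal.Quotient.mk_surjective q0
    rw [hcomap] at h2
    have h3 : q0.height ≤ q.height := le_trans le_self_add h2
    have h4 : ringKrullDim ((S ⧸ p0) ⧸ q0) = ringKrullDim (S ⧸ q) :=
      ringKrullDim_eq_of_ringEquiv (DoubleQuot.quotQuotEquivQuotOfLE hp0q)
    rw [← h1, h4]
    gcongr
    exact_mod_cast h3

end Groth.Agent.Lib.helper26.DimFormula
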