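import Mathlib
import Groth.Agent.S9808
import Groth.Agent.Lib.Helper26.CM7
import Groth.Agent.Lib.Helper26.CM3
import Groth.Agent.Lib.Helper26.CM2
import Groth.Agent.Lib.Helper26.Depth8
import Groth.Agent.Lib.Helper26.DepthLoc3

/-!
# Macaulay's unmixedness theorem (helper26)

In a Cohen–Macaulay local ring `R`, if `xs` has `ht (xs) ≥ |xs|` then `xs` is a regular sequence.
In a Cohen–Macaulay ring `S`, if `ht (fs) = |fs|` then every associated prime of `S/(fs)` has
height `|fs|`.
-/

set_option autoImplicit false
universe u

namespace Groth.Agent.Lib.helper26.Unmixed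

open LocCoh IsLocalRing RingTheory.Sequence Groth.Agent.Lib.helper26.Depth

section Local

variable (R : Type u) [CommRing R] [hR : IsCohenMacaulayLocalRing R]

/-- a CM local ring is a CM ring. -/
theorem isCohenMacaulayRing_of_local : IsCohenMacaulayRing R :=
  { isCohenMacaulayLocalRing_localization := fun p _ => Groth.Agent.S9808.cm_localization R p }

/-- in a CM local ring, a sequence in the maximal ideal generating an ideal of height at least
its length is a regular sequence. -/
theorem isWeaklyRegular_of_le_height (xs : List R) (hxs : ∀ x ∈ xs, x ∈ maximalIdeal R)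
    (hht : (xs.length : ℕ∞) ≤ (Ideal.ofList xs).height) : IsWeaklyRegular R xs := by
  have hM : IsCohenMacaulayModule R R := hR.supportDim_eq_depth
  have hring := isCohenMacaulayRing_of_local R
  have hI : Ideal.ofList xs ≠ ⊤ := by
    intro htop
    have hle : Ideal.ofList xs ≤ maximalIdeal R := Ideal.span_le.mpr fun x hx => hxs x hx
    rw [htop] at hle
    exact (maximalIdeal.isMaximal R).ne_top (top_le_iff.mp hle)
  have h1 := supportDim_eq_supportDim_quotient_add_idealDepth (Ideal.ofList xs) hI R hM
  have h2 := (isCohenMacaulayRing_iff_idealDepth_eq_height R).mp hring (Ideal.ofList xs) hI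
  rw [h2] at h1
  have h3 := supportDim_le_supportDim_quot_ofList_add_length xs R hxs
  refine isWeaklyRegular_of_supportDim_quot_ofList xs R hM hxs ?_
  apply le_antisymm _ h3
  rw [h1]
  gcongr
  exact_mod_cast hht

end Local

section Global

variable (S : Type u) [CommRing S] [hS : IsCohenMacaulayRing S]

/-- **Macaulay's unmixedness theorem**: in a CM ring, if `(fs)` has height (at least) `|fs|`, every
associated prime of `S/(fs)` has height `|fs|`. -/
theorem height_eq_of_mem_associatedPrimes (fs : List S)
    (hJ : (fs.length : ℕ∞) ≤ (Ideal.ofList fs).height) (P : Ideal S)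
    (hP : P ∈ associatedPrimes S (S ⧸ Ideal.ofList fs)) : P.height = fs.length := by
  obtain ⟨hprime, hd0⟩ := depth_localization_eq_zero_of_mem_associatedPrimes
    (S ⧸ Ideal.ofList fs) P hP
  have hJP : Ideal.ofList fs ≤ P := by
    have h1 := IsAssociatedPrime.annihilator_le hP
    rwa [Submodule.annihilator_top, Ideal.annihilator_quotient] at h1
  let R := Localization.AtPrime P
  have hCM : IsCohenMacaulayLocalRing R := hS.isCohenMacaulayLocalRing_localization P
  let xs : List R := fs.map (algebraMap S R)
  have hxs : ∀ x ∈ xs, x ∈ maximalIdeal R := by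
    intro x hx
    obtain ⟨y, hy, rfl⟩ := List.mem_map.mp hx
    rw [IsLocalization.AtPrime.to_map_mem_maximal_iff R P]
    exact hJP (Ideal.subset_span hy)
  have hmap : Ideal.ofList xs = (Ideal.ofList fs).map (algebraMap S R) :=
    (Ideal.map_ofList (algebraMap S R) fs).symm
  have hht : (xs.length : ℕ∞) ≤ (Ideal.ofList xs).height := by
    rw [List.length_map, hmap, ← IsLocalization.height_under P.primeCompl]
    exact hJ.trans (Ideal.height_mono Ideal.le_comap_map)
  have hreg := isWeaklyRegular_of_le_height R xs hxs hht
  have hdep := idealDepth_quot_ofList_add_length (maximalIdeal R) xs R hxs hreg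
  -- the quotient is the localization of `S ⧸ (fs)`
  let φ := Submodule.toLocalizedQuotient' R P.primeCompl (Algebra.linearMap S R) (Ideal.ofList fs)
  have hφ := depth_eq_of_isLocalizedModule P (S ⧸ Ideal.ofList fs) R
    (R ⧸ Submodule.localized' R P.primeCompl (Algebra.linearMap S R) (Ideal.ofList fs)) φ
  rw [hd0] at hφ
  have hsub : Submodule.localized' R P.primeCompl (Algebra.linearMap S R) (Ideal.ofList fs) =
      (Ideal.ofList xs • ⊤ : Submodule R R) := by
    rw [Ideal.localized'_eq_map, smul_eq_mul, Ideal.mul_top, hmap]
  have hz : idealDepth (maximalIdeal R) (R ⧸ (Ideal.ofList xs • ⊤ : Submodule R R)) = 0 := by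
    rw [← idealDepth_congr (I := maximalIdeal R) (Submodule.quotEquivOfEq _ _ hsub)]
    exact hφ
  rw [hz, zero_add, List.length_map] at hdep
  have hdim := hCM.supportDim_eq_depth
  rw [Module.supportDim_self_eq_ringKrullDim,
    IsLocalization.AtPrime.ringKrullDim_eq_height P R] at hdim
  have h2 : P.height = depth R R := by exact_mod_cast hdim
  rw [h2]
  exact hdep.symm

end Global

end Groth.Agent.Lib.helper26.Unmixed
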