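import Mathlib
import Groth.Prelude.Def_Found
import Groth.Agent.Lib.Helper26.AffEquidim
import Groth.Agent.Lib.Helper26.Unmixed

/-!
# Regular sequences in equidimensional Cohen–Macaulay finite type algebras over a field (helper26)
-/

set_option autoImplicit false
universe u

namespace Groth.Agent.Lib.helper26.DimFormula

open LocCoh IsLocalRing RingTheory.Sequence

theorem cm_equidim_regular (k S : Type u) [Field k] [CommRing S] [Algebra k S]
    [Algebra.FiniteType k S] [hS : LocCoh.IsCohenMacaulayRing S] (d : ℕ)
    (heq : ∀ p ∈ minimalPrimes S, ringKrullDim (S ⧸ p) = d) (f : List S) (hi : f.length ≤ d)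
    (hne : Ideal.ofList f ≠ ⊤)
    (hle : ringKrullDim (S ⧸ Ideal.ofList f) ≤ ((d - f.length : ℕ) : WithBot ℕ∞)) :
    ringKrullDim (S ⧸ Ideal.ofList f) = ((d - f.length : ℕ) : WithBot ℕ∞) ∧
      ∀ (q : Ideal S) [q.IsPrime], Ideal.ofList f ≤ q →
        RingTheory.Sequence.IsRegular (Localization.AtPrime q)
          (f.map (algebraMap S (Localization.AtPrime q))) := by
  classical
  have hIN : IsNoetherianRing S := Algebra.FiniteType.isNoetherianRing k S
  -- (1) minimal primes of `I` have height `i`
  have hmin : ∀ q' ∈ (Ideal.ofList f).minimalPrimes, q'.height = f.length := by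
    intro q' hq'
    have hq'p : q'.IsPrime := hq'.1.1
    have hupper : q'.height ≤ f.length := by
      have hspan : Ideal.ofList f = Ideal.span (f.toFinset : Set S) := by
        rw [List.coe_toFinset]
      rw [hspan] at hq'
      refine le_trans (Ideal.height_le_card_of_mem_minimalPrimes_span_finset hq') ?_
      exact_mod_cast List.toFinset_card_le f
    obtain ⟨h, hh⟩ := ENat.ne_top_iff_exists.mp (Ideal.height_ne_top_of_isPrime (I := q'))
    have ha := height_add_dim_quotient_of_equidim k S d heq q'
    have hsurj : ringKrullDim (S ⧸ q') ≤ ringKrullDim (S ⧸ Ideal.ofList f) :=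
      ringKrullDim_le_of_surjective (Ideal.Quotient.factor hq'.1.2)
        (Ideal.Quotient.factor_surjective hq'.1.2)
    have hb : ringKrullDim (S ⧸ q') ≤ ((d - f.length : ℕ) : WithBot ℕ∞) := hsurj.trans hle
    rw [← hh] at ha hupper ⊢
    have hupper' : h ≤ f.length := by exact_mod_cast hupper
    have : (d : WithBot ℕ∞) ≤ ((h + (d - f.length) : ℕ) : WithBot ℕ∞) := by
      rw [← ha]
      push_cast
      gcongr
    have : d ≤ h + (d - f.length) := by exact_mod_cast this
    have : h = f.length := by omega
    rw [this]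
  constructor
  · apply le_antisymm hle
    obtain ⟨q', hq'⟩ := Ideal.nonempty_minimalPrimes hne
    have hq'p : q'.IsPrime := hq'.1.1
    have hsurj : ringKrullDim (S ⧸ q') ≤ ringKrullDim (S ⧸ Ideal.ofList f) :=
      ringKrullDim_le_of_surjective (Ideal.Quotient.factor hq'.1.2)
        (Ideal.Quotient.factor_surjective hq'.1.2)
    refine le_trans ?_ hsurj
    have ha := height_add_dim_quotient_of_equidim k S d heq q'
    rw [hmin q' hq'] at ha
    -- `i + e = d` gives `d - i ≤ e`
    cases hE : ringKrullDim (S ⧸ q') with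
    | bot => rw [hE] at ha; simp at ha
    | coe e =>
      rw [hE] at ha
      cases e with
      | top =>
        exfalso
        have : ((f.length : ℕ∞) : WithBot ℕ∞) + ((⊤ : ℕ∞) : WithBot ℕ∞) = (d : WithBot ℕ∞) := ha
        rw [← WithBot.coe_add, add_top] at this
        have h2 : ((⊤ : ℕ∞) : WithBot ℕ∞) = ((d : ℕ∞) : WithBot ℕ∞) := this
        rw [WithBot.coe_inj] at h2
        exact ENat.top_ne_natCast d h2
      | coe e =>
        have : f.length + e = d := by exact_mod_cast ha
        have h5 : d - f.length ≤ e := by omega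
        change ((d - f.length : ℕ) : WithBot ℕ∞) ≤ (((e : ℕ) : ℕ∞) : WithBot ℕ∞)
        rw [show (((e : ℕ) : ℕ∞) : WithBot ℕ∞) = ((e : ℕ) : WithBot ℕ∞) from rfl]
        exact Nat.cast_le.mpr h5
  · intro q _ hq
    let R := Localization.AtPrime q
    have hCM : IsCohenMacaulayLocalRing R := hS.isCohenMacaulayLocalRing_localization q
    let xs : List R := f.map (algebraMap S R)
    have hxs : ∀ x ∈ xs, x ∈ maximalIdeal R := by
      intro x hx
      obtain ⟨y, hy, rfl⟩ := List.mem_map.mp hx
      rw [IsLocalization.AtPrime.to_map_mem_maximal_iff R q]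
      exact hq (Ideal.subset_span hy)
    have hmap : Ideal.ofList xs = (Ideal.ofList f).map (algebraMap S R) :=
      (Ideal.map_ofList (algebraMap S R) f).symm
    have hJ : (f.length : ℕ∞) ≤ (Ideal.ofList f).height := by
      rw [Ideal.height_eq_inf_minimalPrimes]
      refine le_iInf₂ fun J hJ => ?_
      rw [hmin J hJ]
    have hht : (xs.length : ℕ∞) ≤ (Ideal.ofList xs).height := by
      rw [List.length_map, hmap, ← IsLocalization.height_under q.primeCompl]
      exact hJ.trans (Ideal.height_mono Ideal.le_comap_map)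
    have hreg := Groth.Agent.Lib.helper26.Unmixed.isWeaklyRegular_of_le_height R xs hxs hht
    refine ⟨hreg, ?_⟩
    intro htop
    have hle' : Ideal.ofList xs ≤ maximalIdeal R := Ideal.span_le.mpr fun x hx => hxs x hx
    have h1 : (Ideal.ofList xs • ⊤ : Submodule R R) = Ideal.ofList xs := by
      rw [smul_eq_mul, Ideal.mul_top]
    rw [h1] at htop
    rw [← htop] at hle'
    exact (maximalIdeal.isMaximal R).ne_top (top_le_iff.mp hle')

end Groth.Agent.Lib.helper26.DimFormula
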