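import Mathlib
import Groth.Agent.S0564
import Groth.Agent.Lib.Helper15.Regular
import Groth.Agent.Lib.Helper26.SerreConverse
set_option autoImplicit false
universe u
open IsLocalRing

namespace Groth.Agent.Lib.helper26.RegNormal

theorem isIntegrallyClosed_of_maximalIdeal_eq_bot (A : Type u) [CommRing A] [IsLocalRing A]
    (hm : maximalIdeal A = ⊥) : IsIntegrallyClosed A := by
  have hfield : IsField A := IsLocalRing.isField_iff_maximalIdeal_eq.mpr hm
  exact hfield.toField.instIsIntegrallyClosed

open Groth.Agent.Lib.helper15 in
theorem isIntegrallyClosed_of_isRegularLocalRing (d : ℕ) : ∀ (A : Type u) [CommRing A]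
    [IsRegularLocalRing A], ringKrullDim A ≤ (d : WithBot ℕ∞) → IsIntegrallyClosed A := by
  induction d with
  | zero =>
    intro A _ _ hd
    apply isIntegrallyClosed_of_maximalIdeal_eq_bot
    have h1 := IsRegularLocalRing.spanFinrank_maximalIdeal (R := A)
    have h2 : (((maximalIdeal A).spanFinrank : ℕ) : WithBot ℕ∞) ≤ ((0 : ℕ) : WithBot ℕ∞) := h1 ▸ hd
    have h3 : (maximalIdeal A).spanFinrank = 0 := by
      have : (maximalIdeal A).spanFinrank ≤ 0 := by exact_mod_cast h2
      omega
    exact (Submodule.spanFinrank_eq_zero_iff_eq_bot (IsNoetherian.noetherian _)).mp h3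
  | succ d ih =>
    intro A _ _ hd
    by_cases hm : maximalIdeal A = ⊥
    · exact isIntegrallyClosed_of_maximalIdeal_eq_bot A hm
    · classical
      have hfg : (maximalIdeal A).FG := IsNoetherian.noetherian _
      have hdom : IsDomain A := isDomain_of_isRegularLocalRing A
      obtain ⟨x, hx, hx2⟩ : ∃ x ∈ maximalIdeal A, x ∉ maximalIdeal A ^ 2 := by
        by_contra hcon
        push Not at hcon
        have hle : maximalIdeal A ≤ maximalIdeal A • maximalIdeal A := by
          intro y hy
          have := hcon y hy
          rwa [pow_two] at this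
        exact hm (Submodule.eq_bot_of_le_smul_of_le_jacobson_bot (maximalIdeal A) (maximalIdeal A)
          hfg hle (IsLocalRing.jacobson_eq_maximalIdeal ⊥ bot_ne_top).ge)
      obtain ⟨hreg', -⟩ := isRegularLocalRing_quotient_singleton x hx hx2
      have hdomq : IsDomain (A ⧸ Ideal.span {x}) := isDomain_of_isRegularLocalRing _
      have hprime : (Ideal.span {x}).IsPrime := (Ideal.Quotient.isDomain_iff_prime _).mp hdomq
      have hx0 : x ≠ 0 := fun h => hx2 (h ▸ zero_mem _)
      have hxp : Prime x := (Ideal.span_singleton_prime hx0).mp hprime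
      rw [isIntegrallyClosed_iff (FractionRing A)]
      intro α hα
      let K := FractionRing A
      let D : Ideal A :=
        { carrier := {r | ∃ y, algebraMap A K y = algebraMap A K r * α}
          add_mem' := by
            rintro r s ⟨y, hy⟩ ⟨z, hz⟩
            exact ⟨y + z, by rw [map_add, map_add, add_mul, hy, hz]⟩
          zero_mem' := ⟨0, by simp⟩
          smul_mem' := by
            rintro c r ⟨y, hy⟩
            exact ⟨c * y, by rw [smul_eq_mul, map_mul, map_mul, mul_assoc, hy]⟩ }
      have hxD : x ∈ D.radical := by
        rw [Ideal.radical_eq_sInf, Ideal.mem_sInf]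
        rintro p ⟨hDp, hp⟩
        by_contra hxp'
        have hregp : IsRegularLocalRing (Localization.AtPrime p) := Groth.Agent.S0564.result A p
        have hple : p ≤ maximalIdeal A := IsLocalRing.le_maximalIdeal hp.ne_top
        have hplt : p < maximalIdeal A := lt_of_le_of_ne hple (fun h => hxp' (h ▸ hx))
        have hht : p.height < (maximalIdeal A).height :=
          Ideal.height_strict_mono_of_isPrime_of_isPrime hplt
        have hdimp : ringKrullDim (Localization.AtPrime p) ≤ (d : WithBot ℕ∞) := by
          rw [IsLocalization.AtPrime.ringKrullDim_eq_height p (Localization.AtPrime p)]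
          apply Groth.Agent.Lib.helper26.SerreConv.aux_le
          have h1 : p.height + 1 ≤ (maximalIdeal A).height := Order.add_one_le_of_lt hht
          have h2 : ((p.height : WithBot ℕ∞)) + 1 ≤ ((maximalIdeal A).height : WithBot ℕ∞) := by
            exact_mod_cast h1
          refine h2.trans ?_
          rw [IsLocalRing.maximalIdeal_height_eq_ringKrullDim]
          exact hd
        have hic := ih (Localization.AtPrime p) hdimp
        have hα' : IsIntegral (Localization.AtPrime p) α := hα.tower_top
        obtain ⟨β, hβ⟩ := (isIntegrallyClosed_iff K).mp hic hα'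
        obtain ⟨a, s, rfl⟩ := IsLocalization.exists_mk'_eq p.primeCompl β
        have hs : (s : A) ∈ D := by
          refine ⟨a, ?_⟩
          rw [← hβ, IsScalarTower.algebraMap_apply A (Localization.AtPrime p) K (s : A),
            ← map_mul, IsLocalization.mul_mk'_eq_mk'_of_mul, IsLocalization.mk'_mul_cancel_left,
            ← IsScalarTower.algebraMap_apply]
        exact s.2 (hDp hs)
      obtain ⟨n, hn⟩ := hxD
      have hex : ∃ n, x ^ n ∈ D := ⟨n, hn⟩
      have hn0 : x ^ (Nat.find hex) ∈ D := Nat.find_spec hex
      rcases Nat.eq_zero_or_pos (Nat.find hex) with h0 | hpos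
      · obtain ⟨y, hy⟩ := hn0
        rw [h0, pow_zero, map_one, one_mul] at hy
        exact ⟨y, hy⟩
      · exfalso
        obtain ⟨a, ha⟩ := hn0
        obtain ⟨P, hPmonic, hPα⟩ := hα
        have hdvd : x ^ (Nat.find hex) ∣ a ^ P.natDegree :=
          Polynomial.dvd_pow_natDegree_of_eval₂_eq_zero (IsFractionRing.injective A K) hPmonic
            (x ^ (Nat.find hex)) a α hPα ha.symm
        have hxa : x ∣ a := hxp.dvd_of_dvd_pow (dvd_trans (dvd_pow_self x hpos.ne') hdvd)
        obtain ⟨a', rfl⟩ := hxa
        have hmem : x ^ (Nat.find hex - 1) ∈ D := by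
          refine ⟨a', ?_⟩
          have hxK : algebraMap A K x ≠ 0 := by
            intro h
            exact hx0 ((IsFractionRing.injective A K) (h.trans (map_zero _).symm))
          apply mul_left_cancel₀ hxK
          rw [← map_mul, ha, ← mul_assoc, ← map_mul, ← pow_succ', Nat.sub_add_cancel hpos]
        exact Nat.find_min hex (Nat.sub_one_lt hpos.ne') hmem

end Groth.Agent.Lib.helper26.RegNormal

namespace Groth.Agent.Lib.helper26.RegNormal

/-- A regular local ring is integrally closed. -/
theorem isIntegrallyClosed (A : Type u) [CommRing A] [IsRegularLocalRing A] :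
    IsIntegrallyClosed A := by
  have hd : ringKrullDim A ≤ (((maximalIdeal A).spanFinrank : ℕ) : WithBot ℕ∞) :=
    ringKrullDim_le_spanFinrank_maximalIdeal A
  exact isIntegrallyClosed_of_isRegularLocalRing _ A hd

end Groth.Agent.Lib.helper26.RegNormal
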