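import Groth.Agent.Lib.Helper26.KaehlerField
import Groth.Prelude.Def_W4bk4goldsch23FF

/-!
# Geometric function fields of one variable are separably generated (helper26)
-/

set_option autoImplicit false
universe u v

open TensorProduct IntermediateField

namespace Groth.Agent.Lib.helper26.FunFldSep

variable {k : Type u} {K : Type v} [Field k] [Field K] [Algebra k K]

lemma aux (p : ℕ) [hp : Fact p.Prime] [CharP k p] (k' : Type u) [Field k'] [Algebra k k']
    (hfield : IsField (k' ⊗[k] K)) (s : Finset K)
    (hs : LinearIndepOn k _root_.id (s : Set K)) (c : K → k) (b' : K → k')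
    (hb' : ∀ j ∈ s, b' j ^ p = algebraMap k k' (c j)) (hc : ∑ j ∈ s, c j • j ^ p = 0) :
    ∀ i ∈ s, c i = 0 := by
  classical
  intro i hi
  have : IsDomain (k' ⊗[k] K) := hfield.isDomain
  have hnt : Nontrivial (k' ⊗[k] K) := hfield.nontrivial
  have hinj : Function.Injective (algebraMap k' (k' ⊗[k] K)) :=
    (algebraMap k' (k' ⊗[k] K)).injective
  have : CharP k' p := charP_of_injective_algebraMap (algebraMap k k').injective p
  have : CharP (k' ⊗[k] K) p := charP_of_injective_algebraMap hinj p
  let z : k' ⊗[k] K := ∑ j ∈ s, b' j ⊗ₜ[k] j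
  have hz : z ^ p = 0 := by
    rw [sum_pow_char]
    have h1 : ∀ j ∈ s, (b' j ⊗ₜ[k] j) ^ p = (1 : k') ⊗ₜ[k] (c j • j ^ p) := by
      intro j hj
      rw [Algebra.TensorProduct.tmul_pow, hb' j hj, Algebra.algebraMap_eq_smul_one,
        TensorProduct.smul_tmul]
    rw [Finset.sum_congr rfl h1, ← TensorProduct.tmul_sum, hc, TensorProduct.tmul_zero]
  have hz0 : z = 0 := eq_zero_of_pow_eq_zero hz
  -- linear independence of `1 ⊗ j` over `k'`
  have hli : LinearIndependent k' (fun j : (s : Set K) => (1 : k') ⊗ₜ[k] (j : K)) :=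
    Module.Flat.linearIndependent_one_tmul (S := k') hs
  rw [Fintype.linearIndependent_iff] at hli
  have hsum : ∑ j : (s : Set K), b' j • ((1 : k') ⊗ₜ[k] (j : K)) = 0 := by
    have : ∀ j : (s : Set K), b' j • ((1 : k') ⊗ₜ[k] (j : K)) = b' j ⊗ₜ[k] (j : K) := by
      intro j
      rw [TensorProduct.smul_tmul', smul_eq_mul, mul_one]
    simp_rw [this]
    rw [← hz0]
    exact Finset.sum_coe_sort s (fun j => b' j ⊗ₜ[k] j)
  have hbi : b' i = 0 := hli (fun j => b' j) hsum ⟨i, hi⟩
  have := hb' i hi
  rw [hbi, zero_pow hp.out.ne_zero] at this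
  exact (map_eq_zero (algebraMap k k')).1 this.symm

/-- For a geometric extension of characteristic `p`, `p`-th powers of `k`-linearly independent
elements are `k`-linearly independent. -/
theorem linearIndepOn_pow_of_isGeometric (p : ℕ) [hp : Fact p.Prime] [CharP k p]
    (hg : FunFld.IsGeometric k K) (s : Finset K)
    (hs : LinearIndepOn k _root_.id (s : Set K)) : LinearIndepOn k (· ^ p) (s : Set K) := by
  classical
  rw [linearIndepOn_finset_iff]
  intro c hc
  -- p-th roots of the coefficients in an algebraic closure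
  have hroot : ∀ j : K, ∃ b : AlgebraicClosure k, b ^ p = algebraMap k (AlgebraicClosure k) (c j) :=
    fun j => IsAlgClosed.exists_pow_nat_eq _ hp.out.pos
  choose b hb using hroot
  let S : Set (AlgebraicClosure k) := b '' (s : Set K)
  have : Finite S := (s.finite_toSet.image b).to_subtype
  have hfin : FiniteDimensional k (adjoin k S) :=
    finiteDimensional_adjoin fun x _ => (Algebra.IsIntegral.isIntegral x)
  let b' : K → adjoin k S :=
    fun j => if hj : j ∈ s then ⟨b j, subset_adjoin k S ⟨j, hj, rfl⟩⟩ else 0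
  have hb' : ∀ j ∈ s, (b' j) ^ p = algebraMap k (adjoin k S) (c j) := by
    intro j hj
    apply Subtype.ext
    simp only [b', dif_pos hj]
    exact hb j
  exact aux p (adjoin k S) (hg (adjoin k S) hfin) s hs c b' hb' hc

section FunctionField

open scoped IntermediateField.algebraAdjoinAdjoin

theorem essFiniteType_of_finite_adjoin (x : K) [FiniteDimensional k⟮x⟯ K] :
    Algebra.EssFiniteType k K := by
  have h1 : Algebra.EssFiniteType k k⟮x⟯ := by
    rw [IntermediateField.essFiniteType_iff]
    exact ⟨{x}, by simp⟩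
  have h2 : Algebra.EssFiniteType k⟮x⟯ K := inferInstance
  exact Algebra.EssFiniteType.comp k k⟮x⟯ K

theorem isTranscendenceBasis_of_finite_adjoin (x : K) (hx : Transcendental k x)
    [FiniteDimensional k⟮x⟯ K] : IsTranscendenceBasis k (fun _ : Unit => x) := by
  have ind : AlgebraicIndependent k (fun _ : Unit => x) := by
    rw [algebraicIndependent_unique_type_iff]
    exact hx
  rw [ind.isTranscendenceBasis_iff_isAlgebraic]
  have hrange : Set.range (fun _ : Unit => x) = {x} := by
    ext y; simp [eq_comm]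
  rw [hrange, ← IntermediateField.isAlgebraic_adjoin_iff_top]
  exact Algebra.IsAlgebraic.of_finite k⟮x⟯ K

/-- A geometric function field of one variable is separably generated. -/
theorem exists_separating_basis (hK : FunFld.IsFunctionField k K)
    (hg : FunFld.IsGeometric k K) :
    ∃ s : Finset K, IsTranscendenceBasis k ((↑) : s → K) ∧
      Algebra.IsSeparable (IntermediateField.adjoin k (s : Set K)) K := by
  obtain ⟨⟨x, hx, hfin⟩, -⟩ := hK
  have : Algebra.EssFiniteType k K := essFiniteType_of_finite_adjoin x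
  obtain _ | ⟨p, hp, hpk⟩ := CharP.exists' k
  · exact exists_isTranscendenceBasis_and_isSeparable_of_perfectField k K
  · exact exists_isTranscendenceBasis_and_isSeparable_of_linearIndepOn_pow_of_essFiniteType
      p hp.out fun s hs => linearIndepOn_pow_of_isGeometric p hg s hs

/-- `dim_K Ω_{K/k} = 1` for a geometric function field of one variable. -/
theorem finrank_kaehler_eq_one (hK : FunFld.IsFunctionField k K)
    (hg : FunFld.IsGeometric k K) : Module.finrank K (Ω[K⁄k]) = 1 := by
  obtain ⟨s, hs, hsep⟩ := exists_separating_basis hK hg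
  obtain ⟨⟨x, hx, hfin⟩, -⟩ := hK
  have hxb := isTranscendenceBasis_of_finite_adjoin x hx
  have hrange : (s : Set K) = Set.range (Subtype.val : s → K) := Subtype.range_coe.symm
  rw [hrange] at hsep
  obtain ⟨b, -⟩ := Groth.Agent.Lib.helper26.exists_basis_D (k := k) (Subtype.val : s → K) hs.1
  rw [Module.finrank_eq_card_basis b]
  have hcard := hs.lift_cardinalMk_eq hxb
  rw [Cardinal.mk_fintype, Cardinal.mk_fintype, Fintype.card_unit] at hcard
  have : (Fintype.card s : Cardinal.{0}) = 1 := by
    have h2 := congrArg Cardinal.toNat hcard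
    simp only [Cardinal.toNat_lift, Cardinal.toNat_natCast, Nat.cast_one, Cardinal.one_toNat] at h2
    exact_mod_cast h2
  exact_mod_cast this

end FunctionField

section Separating

open scoped IntermediateField.algebraAdjoinAdjoin

/-- A geometric function field of one variable has a separating variable. -/
theorem exists_separating_element (hK : FunFld.IsFunctionField k K)
    (hg : FunFld.IsGeometric k K) :
    ∃ x : K, Transcendental k x ∧ Algebra.IsSeparable k⟮x⟯ K := by
  obtain ⟨s, hs, hsep⟩ := exists_separating_basis hK hg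
  obtain ⟨⟨x₀, hx₀, hfin⟩, -⟩ := hK
  have hxb := isTranscendenceBasis_of_finite_adjoin x₀ hx₀
  have hcard := hs.lift_cardinalMk_eq hxb
  rw [Cardinal.mk_fintype, Cardinal.mk_fintype, Fintype.card_unit] at hcard
  have h1 : s.card = 1 := by
    have h2 := congrArg Cardinal.toNat hcard
    simp only [Cardinal.toNat_lift, Cardinal.toNat_natCast, Nat.cast_one, Cardinal.one_toNat,
      Fintype.card_coe] at h2
    exact h2
  obtain ⟨x, rfl⟩ := Finset.card_eq_one.1 h1
  refine ⟨x, ?_, ?_⟩
  · have := hs.1
    have h3 := (algebraicIndependent_singleton_iff (x := ((↑) : ({x} : Finset K) → K))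
      (R := k) ⟨x, Finset.mem_singleton_self x⟩).1 this
    exact h3
  · rw [Finset.coe_singleton] at hsep
    exact hsep

/-- The differential kills `k K^p`. -/
theorem D_eq_zero_of_mem (p : ℕ) [CharP K p] {y : K}
    (hy : y ∈ IntermediateField.adjoin k (Set.range fun z : K => z ^ p)) :
    KaehlerDifferential.D k K y = 0 := by
  induction hy using IntermediateField.adjoin_induction with
  | mem z hz =>
    obtain ⟨w, rfl⟩ := hz
    change KaehlerDifferential.D k K (w ^ p) = 0
    rw [Derivation.leibniz_pow, ← Nat.cast_smul_eq_nsmul K, CharP.cast_eq_zero, zero_smul]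
  | algebraMap c => exact Derivation.map_algebraMap _ c
  | add a b _ _ ha hb => rw [map_add, ha, hb, add_zero]
  | inv a _ ha => rw [Derivation.leibniz_inv, ha, smul_zero]
  | mul a b _ _ ha hb => rw [Derivation.leibniz, ha, hb, smul_zero, smul_zero, add_zero]

/-- The differential of a separating variable is nonzero. -/
theorem D_ne_zero_of_separating {y : K} (hy : Transcendental k y)
    (hsep : Algebra.IsSeparable k⟮y⟯ K) : KaehlerDifferential.D k K y ≠ 0 := by
  have ind : AlgebraicIndependent k (fun _ : Unit => y) := by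
    rw [algebraicIndependent_unique_type_iff]
    exact hy
  have hrange : Set.range (fun _ : Unit => y) = {y} := by
    ext z; simp [eq_comm]
  have : Algebra.IsSeparable (IntermediateField.adjoin k (Set.range fun _ : Unit => y)) K := by
    rw [hrange]; exact hsep
  obtain ⟨b, hb⟩ := Groth.Agent.Lib.helper26.exists_basis_D (k := k) (fun _ : Unit => y) ind
  rw [← hb ()]
  exact b.ne_zero ()

end Separating

section Degree

open scoped IntermediateField.algebraAdjoinAdjoin
open Polynomial

variable (k K) in
/-- The field `k K^p`. -/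
abbrev kKp (p : ℕ) : IntermediateField k K :=
  IntermediateField.adjoin k (Set.range fun y : K => y ^ p)

variable (p : ℕ) [hp : Fact p.Prime] [CharP K p]

theorem expChar_kKp : ExpChar (kKp k K p) p := by
  have : CharP (kKp k K p) p :=
    (algebraMap (kKp k K p) K).charP (algebraMap (kKp k K p) K).injective p
  exact ExpChar.prime hp.out

theorem isPurelyInseparable_kKp : IsPurelyInseparable (kKp k K p) K := by
  have := expChar_kKp (k := k) (K := K) p
  rw [isPurelyInseparable_iff_pow_mem (kKp k K p) p]
  intro x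
  exact ⟨1, ⟨⟨x ^ p, IntermediateField.subset_adjoin k _ ⟨x, rfl⟩⟩, by simp⟩⟩

/-- If `x` is a separating variable then `K = (k K^p)(x)`. -/
theorem adjoin_kKp_eq_top {x : K} (hsep : Algebra.IsSeparable k⟮x⟯ K) :
    (kKp k K p)⟮x⟯ = ⊤ := by
  have hpi := isPurelyInseparable_kKp (k := k) (K := K) p
  have hpi' : IsPurelyInseparable (kKp k K p)⟮x⟯ K :=
    IsPurelyInseparable.tower_top (kKp k K p) (kKp k K p)⟮x⟯ K
  rw [eq_top_iff]
  intro z _
  -- `k(x) ⊆ F(x)`
  have hle : ∀ a : k⟮x⟯, (a : K) ∈ (kKp k K p)⟮x⟯ := by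
    intro a
    have h1 : k⟮x⟯ ≤ ((kKp k K p)⟮x⟯).restrictScalars k := by
      rw [IntermediateField.adjoin_le_iff, Set.singleton_subset_iff]
      exact IntermediateField.mem_adjoin_simple_self _ x
    exact (IntermediateField.mem_restrictScalars k).1 (h1 a.2)
  let ι : k⟮x⟯ →+* (kKp k K p)⟮x⟯ := (algebraMap k⟮x⟯ K).codRestrict _ hle
  have hι : (algebraMap (kKp k K p)⟮x⟯ K).comp ι = algebraMap k⟮x⟯ K := by
    ext a; rfl
  have hsepz : (minpoly k⟮x⟯ z).Separable := Algebra.IsSeparable.isSeparable k⟮x⟯ z
  have hsep' : ((minpoly k⟮x⟯ z).map ι).Separable := hsepz.map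
  have hroot : Polynomial.aeval z ((minpoly k⟮x⟯ z).map ι) = 0 := by
    rw [Polynomial.aeval_def, Polynomial.eval₂_map, hι, ← Polynomial.aeval_def, minpoly.aeval]
  have hzsep : IsSeparable (kKp k K p)⟮x⟯ z := hsep'.of_dvd (minpoly.dvd _ z hroot)
  obtain ⟨w, hw⟩ := IsPurelyInseparable.inseparable (kKp k K p)⟮x⟯ z hzsep
  rw [← hw]
  exact w.2

/-- `[K : k K^p] = p` for a geometric function field of one variable. -/
theorem finrank_kKp (hK : FunFld.IsFunctionField k K) (hg : FunFld.IsGeometric k K) :
    Module.finrank (kKp k K p) K = p := by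
  obtain ⟨x, hxt, hsep⟩ := exists_separating_element hK hg
  have hexp := expChar_kKp (k := k) (K := K) p
  have hpi := isPurelyInseparable_kKp (k := k) (K := K) p
  have htop := adjoin_kKp_eq_top p hsep
  have hxp : x ^ p ∈ kKp k K p := IntermediateField.subset_adjoin k _ ⟨x, rfl⟩
  -- `x` is integral over `F`, of degree at most `p`
  let f : (kKp k K p)[X] := X ^ p - C ⟨x ^ p, hxp⟩
  have hf : Polynomial.aeval x f = 0 := by
    simp [f]
  have hfm : f.Monic := monic_X_pow_sub_C _ hp.out.ne_zero
  have hint : IsIntegral (kKp k K p) x := ⟨f, hfm, hf⟩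
  have hdeg : (minpoly (kKp k K p) x).natDegree ≤ p := by
    have h1 := natDegree_le_of_dvd (minpoly.dvd _ x hf) hfm.ne_zero
    rwa [natDegree_X_pow_sub_C] at h1
  have hfr : Module.finrank (kKp k K p) K = (minpoly (kKp k K p) x).natDegree := by
    rw [← IntermediateField.adjoin.finrank hint, htop, IntermediateField.finrank_top']
  have hfd : FiniteDimensional (kKp k K p) K := by
    have h1 : FiniteDimensional (kKp k K p) (kKp k K p)⟮x⟯ :=
      IntermediateField.adjoin.finiteDimensional hint
    rw [htop] at h1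
    exact (IntermediateField.topEquiv (F := kKp k K p) (E := K)).toLinearEquiv.finiteDimensional
  obtain ⟨n, hn⟩ := IsPurelyInseparable.finrank_eq_pow (F := kKp k K p) K p
  have hne1 : Module.finrank (kKp k K p) K ≠ 1 := by
    intro h1
    have htop' : kKp k K p = ⊤ := IntermediateField.finrank_eq_one_iff_eq_top.1 h1
    have hx : x ∈ kKp k K p := by rw [htop']; trivial
    exact D_ne_zero_of_separating hxt hsep (D_eq_zero_of_mem p hx)
  rw [hn] at hne1 ⊢
  rw [hfr] at hn
  have hle : p ^ n ≤ p := hn ▸ hdeg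
  have hp2 : 2 ≤ p := hp.out.two_le
  rcases n with _ | _ | n
  · exact absurd (pow_zero p) hne1
  · exact pow_one p
  · exfalso
    have : p ^ 2 ≤ p ^ (n + 1 + 1) := Nat.pow_le_pow_right (by omega) (by omega)
    nlinarith

end Degree

section Criterion

open scoped IntermediateField.algebraAdjoinAdjoin

variable (p : ℕ) [hp : Fact p.Prime] [CharP K p]

/-- `dx = 0` implies `x ∈ k K^p`. -/
theorem mem_kKp_of_D_eq_zero (hK : FunFld.IsFunctionField k K) (hg : FunFld.IsGeometric k K)
    {x : K} (hx : KaehlerDifferential.D k K x = 0) : x ∈ kKp k K p := by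
  by_contra hxF
  have hfr := finrank_kKp p hK hg
  have hprime : (Module.finrank (kKp k K p) K).Prime := by rw [hfr]; exact hp.out
  have hsimple := IntermediateField.isSimpleOrder_of_finrank_prime (kKp k K p) K hprime
  have htop : (kKp k K p)⟮x⟯ = ⊤ := by
    rcases hsimple.eq_bot_or_eq_top (kKp k K p)⟮x⟯ with h | h
    · exfalso
      rw [IntermediateField.adjoin_simple_eq_bot_iff, IntermediateField.mem_bot] at h
      obtain ⟨w, rfl⟩ := h
      exact hxF w.2
    · exact h
  -- `D` vanishes identically
  have hD : ∀ z : K, KaehlerDifferential.D k K z = 0 := by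
    intro z
    have hz : z ∈ (kKp k K p)⟮x⟯ := by rw [htop]; trivial
    induction hz using IntermediateField.adjoin_induction with
    | mem y hy =>
      rw [Set.mem_singleton_iff] at hy
      rw [hy]; exact hx
    | algebraMap c => exact D_eq_zero_of_mem p c.2
    | add a b _ _ ha hb => rw [map_add, ha, hb, add_zero]
    | inv a _ ha => rw [Derivation.leibniz_inv, ha, smul_zero]
    | mul a b _ _ ha hb => rw [Derivation.leibniz, ha, hb, smul_zero, smul_zero, add_zero]
  have hspan := KaehlerDifferential.span_range_derivation k K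
  have hbot : (⊤ : Submodule K (Ω[K⁄k])) = ⊥ := by
    rw [← hspan, Submodule.span_eq_bot]
    rintro _ ⟨z, rfl⟩
    exact hD z
  have h1 := finrank_kaehler_eq_one hK hg
  have : Subsingleton (Ω[K⁄k]) := by
    refine ⟨fun a b => ?_⟩
    have ha : a ∈ (⊤ : Submodule K (Ω[K⁄k])) := trivial
    have hb : b ∈ (⊤ : Submodule K (Ω[K⁄k])) := trivial
    rw [hbot, Submodule.mem_bot] at ha hb
    rw [ha, hb]
  rw [Module.finrank_zero_of_subsingleton] at h1
  exact zero_ne_one h1

theorem mem_kKp_iff_D_eq_zero (hK : FunFld.IsFunctionField k K)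
    (hg : FunFld.IsGeometric k K) (x : K) :
    x ∈ kKp k K p ↔ KaehlerDifferential.D k K x = 0 :=
  ⟨D_eq_zero_of_mem p, mem_kKp_of_D_eq_zero p hK hg⟩

theorem mem_kKp_iff_not_isSeparable (hK : FunFld.IsFunctionField k K)
    (hg : FunFld.IsGeometric k K) (x : K) :
    x ∈ kKp k K p ↔ ¬ Algebra.IsSeparable k⟮x⟯ K := by
  constructor
  · intro hxF hsep
    have hxt : Transcendental k x := by
      intro halg
      obtain ⟨⟨x₀, hx₀, -⟩, -⟩ := hK
      have h1 : Algebra.IsAlgebraic k k⟮x⟯ := IntermediateField.isAlgebraic_adjoin_simple halg.isIntegral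
      have h2 : Algebra.IsAlgebraic k⟮x⟯ K := inferInstance
      have h3 : Algebra.IsAlgebraic k K := Algebra.IsAlgebraic.trans k k⟮x⟯ K
      exact hx₀ (h3.isAlgebraic x₀)
    exact D_ne_zero_of_separating hxt hsep (D_eq_zero_of_mem p hxF)
  · intro hns
    by_contra hxF
    apply hns
    have hDx : KaehlerDifferential.D k K x ≠ 0 := fun h => hxF (mem_kKp_of_D_eq_zero p hK hg h)
    have h1 := finrank_kaehler_eq_one hK hg
    have hsurj := KaehlerDifferential.map_surjective k k⟮x⟯ K
    have hzero : ∀ ω : Ω[K⁄k], KaehlerDifferential.map k k⟮x⟯ K K ω = 0 := by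
      intro ω
      obtain ⟨c, rfl⟩ := (finrank_eq_one_iff_of_nonzero' _ hDx).1 h1 ω
      rw [map_smul, KaehlerDifferential.map_D]
      have : (algebraMap K K x) = algebraMap k⟮x⟯ K ⟨x, IntermediateField.mem_adjoin_simple_self k x⟩ :=
        rfl
      rw [this, Derivation.map_algebraMap, smul_zero]
    have hsub : Subsingleton (Ω[K⁄k⟮x⟯]) := by
      refine ⟨fun a b => ?_⟩
      obtain ⟨a', rfl⟩ := hsurj a
      obtain ⟨b', rfl⟩ := hsurj b
      rw [hzero, hzero]
    have hunr : Algebra.FormallyUnramified k⟮x⟯ K := ⟨hsub⟩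
    obtain ⟨⟨x₀, hx₀, hfin⟩, -⟩ := hK
    have hess : Algebra.EssFiniteType k K := essFiniteType_of_finite_adjoin x₀
    have hess' : Algebra.EssFiniteType k⟮x⟯ K := Algebra.EssFiniteType.of_comp k k⟮x⟯ K
    exact Algebra.FormallyUnramified.isSeparable k⟮x⟯ K

end Criterion

section Unique

open Polynomial

variable (p : ℕ) [hp : Fact p.Prime] [CharP K p]

/-- `k K^p` is the only intermediate field over which `K` is purely inseparable of degree `p`. -/
theorem purelyInseparable_degree_iff_eq_kKp (hK : FunFld.IsFunctionField k K)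
    (hg : FunFld.IsGeometric k K) (K₀ : IntermediateField k K) :
    (IsPurelyInseparable K₀ K ∧ Module.finrank K₀ K = p) ↔ K₀ = kKp k K p := by
  constructor
  · rintro ⟨hpi, hfr⟩
    have hfd : FiniteDimensional K₀ K :=
      Module.finite_of_finrank_pos (by rw [hfr]; exact hp.out.pos)
    have hchar : CharP K₀ p := (algebraMap K₀ K).charP (algebraMap K₀ K).injective p
    have hexp : ExpChar K₀ p := ExpChar.prime hp.out
    have hle : kKp k K p ≤ K₀ := by
      rw [IntermediateField.adjoin_le_iff]
      rintro _ ⟨y, rfl⟩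
      obtain ⟨n, a, hmin⟩ := IsPurelyInseparable.minpoly_eq_X_pow_sub_C K₀ p y
      have hdeg : p ^ n ≤ p := by
        have h1 := minpoly.natDegree_le (A := K₀) y
        rw [hmin, natDegree_X_pow_sub_C, hfr] at h1
        exact h1
      have hya : y ^ p ^ n = algebraMap K₀ K a := by
        have h2 := minpoly.aeval K₀ y
        rw [hmin] at h2
        simpa [sub_eq_zero] using h2
      have hp2 : 2 ≤ p := hp.out.two_le
      rcases n with _ | _ | n
      · rw [pow_zero, pow_one] at hya
        change y ^ p ∈ K₀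
        rw [hya]
        exact pow_mem a.2 p
      · rw [pow_one] at hya
        change y ^ p ∈ K₀
        rw [hya]
        exact a.2
      · exfalso
        have : p ^ 2 ≤ p ^ (n + 1 + 1) := Nat.pow_le_pow_right (by omega) (by omega)
        nlinarith
    have h1 := IntermediateField.relfinrank_mul_finrank_top hle
    rw [hfr, finrank_kKp p hK hg] at h1
    have h2 : IntermediateField.relfinrank (kKp k K p) K₀ = 1 := by
      have hp0 : 0 < p := hp.out.pos
      exact Nat.eq_of_mul_eq_mul_right hp0 (by rw [h1, one_mul])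
    exact le_antisymm (IntermediateField.relfinrank_eq_one_iff.1 h2) hle
  · rintro rfl
    exact ⟨isPurelyInseparable_kKp p, finrank_kKp p hK hg⟩

end Unique

section Generators

open scoped IntermediateField.algebraAdjoinAdjoin

/-- `dx ≠ 0` implies that `x` is a separating variable. -/
theorem isSeparable_of_D_ne_zero (hK : FunFld.IsFunctionField k K)
    (hg : FunFld.IsGeometric k K) {x : K} (hDx : KaehlerDifferential.D k K x ≠ 0) :
    Algebra.IsSeparable k⟮x⟯ K := by
  have h1 := finrank_kaehler_eq_one hK hg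
  have hsurj := KaehlerDifferential.map_surjective k k⟮x⟯ K
  have hzero : ∀ ω : Ω[K⁄k], KaehlerDifferential.map k k⟮x⟯ K K ω = 0 := by
    intro ω
    obtain ⟨c, rfl⟩ := (finrank_eq_one_iff_of_nonzero' _ hDx).1 h1 ω
    rw [map_smul, KaehlerDifferential.map_D]
    have : (algebraMap K K x) =
        algebraMap k⟮x⟯ K ⟨x, IntermediateField.mem_adjoin_simple_self k x⟩ := rfl
    rw [this, Derivation.map_algebraMap, smul_zero]
  have hsub : Subsingleton (Ω[K⁄k⟮x⟯]) := by
    refine ⟨fun a b => ?_⟩
    obtain ⟨a', rfl⟩ := hsurj a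
    obtain ⟨b', rfl⟩ := hsurj b
    rw [hzero, hzero]
  have hunr : Algebra.FormallyUnramified k⟮x⟯ K := ⟨hsub⟩
  obtain ⟨⟨x₀, hx₀, hfin⟩, -⟩ := hK
  have hess : Algebra.EssFiniteType k K := essFiniteType_of_finite_adjoin x₀
  have hess' : Algebra.EssFiniteType k⟮x⟯ K := Algebra.EssFiniteType.of_comp k k⟮x⟯ K
  exact Algebra.FormallyUnramified.isSeparable k⟮x⟯ K

/-- A subset generating `K` over `k` contains a separating variable. -/
theorem exists_separating_mem (hK : FunFld.IsFunctionField k K)
    (hg : FunFld.IsGeometric k K) (W : Set K) (hW : IntermediateField.adjoin k W = ⊤) :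
    ∃ x ∈ W, Algebra.IsSeparable k⟮x⟯ K := by
  by_contra hcon
  push Not at hcon
  have hDW : ∀ x ∈ W, KaehlerDifferential.D k K x = 0 := by
    intro x hx
    by_contra hDx
    exact hcon x hx (isSeparable_of_D_ne_zero hK hg hDx)
  have hD : ∀ z : K, KaehlerDifferential.D k K z = 0 := by
    intro z
    have hz : z ∈ IntermediateField.adjoin k W := by rw [hW]; trivial
    induction hz using IntermediateField.adjoin_induction with
    | mem y hy => exact hDW y hy
    | algebraMap c => exact Derivation.map_algebraMap _ c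
    | add a b _ _ ha hb => rw [map_add, ha, hb, add_zero]
    | inv a _ ha => rw [Derivation.leibniz_inv, ha, smul_zero]
    | mul a b _ _ ha hb => rw [Derivation.leibniz, ha, hb, smul_zero, smul_zero, add_zero]
  have hspan := KaehlerDifferential.span_range_derivation k K
  have hbot : (⊤ : Submodule K (Ω[K⁄k])) = ⊥ := by
    rw [← hspan, Submodule.span_eq_bot]
    rintro _ ⟨z, rfl⟩
    exact hD z
  have h1 := finrank_kaehler_eq_one hK hg
  have : Subsingleton (Ω[K⁄k]) := by
    refine ⟨fun a b => ?_⟩
    have ha : a ∈ (⊤ : Submodule K (Ω[K⁄k])) := trivial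
    have hb : b ∈ (⊤ : Submodule K (Ω[K⁄k])) := trivial
    rw [hbot, Submodule.mem_bot] at ha hb
    rw [ha, hb]
  rw [Module.finrank_zero_of_subsingleton] at h1
  exact zero_ne_one h1

/-- For a separating `x` and a `k`-subspace `W` generating `K`, with `k` infinite, some `y ∈ W`
satisfies `K = k(x, y)`. -/
theorem exists_generator_mem [Infinite k] (hK : FunFld.IsFunctionField k K)
    (W : Submodule k K) (hW : IntermediateField.adjoin k (W : Set K) = ⊤)
    (x : K) (hsep : Algebra.IsSeparable k⟮x⟯ K) :
    ∃ y ∈ W, IntermediateField.adjoin k ({x, y} : Set K) = ⊤ := by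
  classical
  obtain ⟨⟨x₀, hx₀, hfin₀⟩, -⟩ := hK
  have hess : Algebra.EssFiniteType k K := essFiniteType_of_finite_adjoin x₀
  have hess' : Algebra.EssFiniteType k⟮x⟯ K := Algebra.EssFiniteType.of_comp k k⟮x⟯ K
  have hunr : Algebra.FormallyUnramified k⟮x⟯ K := Algebra.FormallyUnramified.of_isSeparable k⟮x⟯ K
  have hfin : Module.Finite k⟮x⟯ K := Algebra.FormallyUnramified.finite_of_free k⟮x⟯ K
  have hfinI : Finite (IntermediateField k⟮x⟯ K) :=
    Field.finite_intermediateField_of_exists_primitive_element k⟮x⟯ K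
      (Field.exists_primitive_element k⟮x⟯ K)
  have : Fintype (IntermediateField k⟮x⟯ K) := Fintype.ofFinite _
  by_contra hcon
  push Not at hcon
  -- the subspaces `W ∩ M`
  let N : IntermediateField k⟮x⟯ K → Submodule k W := fun M =>
    (Submodule.restrictScalars k M.toSubalgebra.toSubmodule).comap W.subtype
  have hN : ∀ (M : IntermediateField k⟮x⟯ K) (y : W), y ∈ N M ↔ (y : K) ∈ M := fun M y => Iff.rfl
  let s : Finset (Submodule k W) := (Finset.univ.filter (fun M => M ≠ ⊤)).image N
  have hs : ⊤ ∉ s := by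
    intro h
    obtain ⟨M, hM, hNM⟩ := Finset.mem_image.1 h
    have hM' : M ≠ ⊤ := (Finset.mem_filter.1 hM).2
    apply hM'
    have hle : IntermediateField.adjoin k (W : Set K) ≤ M.restrictScalars k := by
      rw [IntermediateField.adjoin_le_iff]
      intro y hy
      have : (⟨y, hy⟩ : W) ∈ N M := by rw [hNM]; trivial
      exact this
    rw [hW] at hle
    rw [eq_top_iff]
    intro z _
    exact hle (IntermediateField.mem_top : z ∈ (⊤ : IntermediateField k K))
  have hcov := Subspace.biUnion_ne_univ_of_top_notMem hs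
  apply hcov
  rw [Set.eq_univ_iff_forall]
  intro y
  rw [Set.mem_iUnion₂]
  refine ⟨N (k⟮x⟯⟮(y : K)⟯), ?_, ?_⟩
  · refine Finset.mem_image.2 ⟨k⟮x⟯⟮(y : K)⟯, Finset.mem_filter.2 ⟨Finset.mem_univ _, ?_⟩, rfl⟩
    intro htop
    apply hcon y y.2
    have h2 := IntermediateField.adjoin_adjoin_left k ({x} : Set K) ({(y : K)} : Set K)
    rw [htop] at h2
    rw [Set.insert_eq, ← h2]
    rfl
  · exact IntermediateField.mem_adjoin_simple_self _ (y : K)

end Generators

end Groth.Agent.Lib.helper26.FunFldSep
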