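import Mathlib

/-!
# Étale neighbourhoods of `V(I)` realising a section (helper26)

`exists_etale_lift_of_algHom`: for an ideal `I ⊆ A`, an étale `A`-algebra `B` and an `A`-algebra map
`σ : B → A/I` there is an étale `A`-algebra `A'` (a principal localization of `B`) with
`A/I → A'/IA'` bijective and an `A`-algebra map `ψ : B → A'` lifting `σ` (Stacks 09XH-type lemma).
-/

universe u

namespace Groth.Agent.Lib.helper26.EtaleLift

open TensorProduct

variable {A : Type u} [CommRing A] (I : Ideal A) {B : Type u} [CommRing B] [Algebra A B]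

/-- Every element of `(A/I) ⊗[A] B` is of the form `1 ⊗ b`. -/
theorem exists_one_tmul (t : (A ⧸ I) ⊗[A] B) : ∃ b : B, t = 1 ⊗ₜ b := by
  induction t using TensorProduct.induction_on with
  | zero => exact ⟨0, by simp⟩
  | tmul x b =>
    obtain ⟨a, rfl⟩ := Ideal.Quotient.mk_surjective x
    refine ⟨a • b, ?_⟩
    rw [← TensorProduct.smul_tmul]
    congr 1
    rw [Algebra.smul_def, mul_one]
    rfl
  | add x y hx hy =>
    obtain ⟨b, rfl⟩ := hx
    obtain ⟨c, rfl⟩ := hy
    exact ⟨b + c, by rw [TensorProduct.tmul_add]⟩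

/-- If `1 ⊗ b = 0` in `(A/I) ⊗[A] B` then `b ∈ IB`. -/
theorem mem_map_of_one_tmul_eq_zero (b : B) (hb : (1 : A ⧸ I) ⊗ₜ[A] b = 0) :
    b ∈ I.map (algebraMap A B) := by
  rw [← Ideal.Quotient.eq_zero_iff_mem]
  apply (Algebra.TensorProduct.quotIdealMapEquivTensorQuot B I).injective
  rw [Algebra.TensorProduct.quotIdealMapEquivTensorQuot_mk, map_zero]
  have := congrArg (TensorProduct.comm A (A ⧸ I) B) hb
  simpa using this

/-- Key step: a section `σ : B → A/I` of an étale algebra is cut out, modulo `I`, by an idempotent. -/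
theorem exists_elem [Algebra.Etale A B] (σ : B →ₐ[A] A ⧸ I) :
    ∃ e : B, σ e = 1 ∧ ∀ b, σ b = 0 → e * b ∈ I.map (algebraMap A B) := by
  let σ' : (A ⧸ I) ⊗[A] B →ₐ[A ⧸ I] (A ⧸ I) :=
    Algebra.TensorProduct.lift (Algebra.ofId _ _) σ (fun _ _ => Commute.all _ _)
  have hσ' : ∀ b : B, σ' (1 ⊗ₜ b) = σ b := by
    intro b
    simp [σ']
  have hsurj : Function.Surjective σ' := by
    intro x
    refine ⟨x ⊗ₜ 1, ?_⟩
    simp [σ']
  have hfg : (RingHom.ker σ'.toRingHom).FG :=
    Algebra.FinitePresentation.ker_fG_of_surjective σ' hsurj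
  let _ : Algebra ((A ⧸ I) ⊗[A] B) (A ⧸ I) := σ'.toRingHom.toAlgebra
  have : IsScalarTower (A ⧸ I) ((A ⧸ I) ⊗[A] B) (A ⧸ I) :=
    IsScalarTower.of_algebraMap_eq (fun x => by
      change x = σ' (algebraMap (A ⧸ I) ((A ⧸ I) ⊗[A] B) x)
      simp [σ'])
  have : Algebra.FormallyEtale ((A ⧸ I) ⊗[A] B) (A ⧸ I) :=
    Algebra.FormallyEtale.of_restrictScalars (R := A ⧸ I)
  have hidem : IsIdempotentElem (RingHom.ker (algebraMap ((A ⧸ I) ⊗[A] B) (A ⧸ I))) :=
    (Algebra.FormallyEtale.iff_of_surjective hsurj).mp inferInstance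
  have hker : RingHom.ker (algebraMap ((A ⧸ I) ⊗[A] B) (A ⧸ I)) = RingHom.ker σ'.toRingHom := rfl
  rw [hker] at hidem
  obtain ⟨ε, hε, hεker⟩ := (Ideal.isIdempotentElem_iff_of_fg _ hfg).mp hidem
  have hεmem : σ' ε = 0 := by
    have : ε ∈ RingHom.ker σ'.toRingHom := by
      rw [hεker]; exact Ideal.mem_span_singleton_self ε
    exact this
  obtain ⟨e, he⟩ := exists_one_tmul I (1 - ε)
  refine ⟨e, ?_, ?_⟩
  · rw [← hσ', ← he, map_sub, map_one, hεmem, sub_zero]
  · intro b hb
    apply mem_map_of_one_tmul_eq_zero I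
    have hbker : (1 : A ⧸ I) ⊗ₜ[A] b ∈ RingHom.ker σ'.toRingHom := by
      change σ' _ = 0
      rw [hσ', hb]
    rw [hεker, Ideal.mem_span_singleton'] at hbker
    obtain ⟨t, ht⟩ := hbker
    have : (1 : A ⧸ I) ⊗ₜ[A] (e * b) = (1 ⊗ₜ e) * (1 ⊗ₜ b) := by
      rw [Algebra.TensorProduct.tmul_mul_tmul, mul_one]
    rw [this, ← he, ← ht]
    have h2 : ε * ε = ε := hε
    calc (1 - ε) * (t * ε) = t * (ε - ε * ε) := by ring
      _ = 0 := by rw [h2, sub_self, mul_zero]

/-- Localizing an étale `A`-algebra `B` at an element `e` with `σ e` a unit and `e • ker σ ⊆ IB`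
gives an étale neighbourhood of `V(I)`. -/
theorem exists_etale_lift_of_elem [Algebra.Etale A B] (σ : B →ₐ[A] A ⧸ I) (e : B)
    (hu : IsUnit (σ e)) (he2 : ∀ b, σ b = 0 → e * b ∈ I.map (algebraMap A B)) :
    Function.Bijective (algebraMap (A ⧸ I)
        (Localization.Away e ⧸ I.map (algebraMap A (Localization.Away e)))) ∧
      ∀ b, Ideal.Quotient.mk (I.map (algebraMap A (Localization.Away e)))
          (algebraMap B (Localization.Away e) b) =
        algebraMap (A ⧸ I) (Localization.Away e ⧸ I.map (algebraMap A (Localization.Away e)))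
          (σ b) := by
  -- the extension of σ to the localization
  let σ₁ : Localization.Away e →ₐ[A] A ⧸ I := IsLocalization.Away.liftAlgHom e (f := σ) hu
  have hσ₁ : ∀ b : B, σ₁ (algebraMap B (Localization.Away e) b) = σ b := by
    intro b
    simp [σ₁, IsLocalization.Away.liftAlgHom]
  have hIA' : (I.map (algebraMap A B)).map (algebraMap B (Localization.Away e)) =
      I.map (algebraMap A (Localization.Away e)) := by
    rw [Ideal.map_map, ← IsScalarTower.algebraMap_eq]
  -- key claim
  have key : ∀ (b : B) (n : ℕ) (y : Localization.Away e),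
      y * algebraMap B (Localization.Away e) (e ^ n) = algebraMap B (Localization.Away e) b →
      ∃ x : A ⧸ I, Ideal.Quotient.mk (I.map (algebraMap A (Localization.Away e))) y =
        algebraMap (A ⧸ I) (Localization.Away e ⧸ I.map (algebraMap A (Localization.Away e))) x ∧
        x * σ e ^ n = σ b := by
    intro b n y hy
    obtain ⟨v, hv⟩ := hu.pow n
    obtain ⟨x, hx⟩ := Ideal.Quotient.mk_surjective (σ b * ((v⁻¹ : (A ⧸ I)ˣ) : A ⧸ I))
    have hxe : Ideal.Quotient.mk I x * σ e ^ n = σ b := by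
      rw [hx, ← hv, mul_assoc, Units.inv_mul, mul_one]
    refine ⟨Ideal.Quotient.mk I x, ?_, hxe⟩
    change _ = Ideal.Quotient.mk _ (algebraMap A (Localization.Away e) x)
    rw [Ideal.Quotient.eq]
    have hb' : σ (b - algebraMap A B x * e ^ n) = 0 := by
      rw [map_sub, map_mul, map_pow, AlgHom.commutes]
      change σ b - Ideal.Quotient.mk I x * σ e ^ n = 0
      rw [hxe, sub_self]
    have h1 := he2 _ hb'
    have h2 : algebraMap B (Localization.Away e) (e * (b - algebraMap A B x * e ^ n)) ∈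
        I.map (algebraMap A (Localization.Away e)) := by
      rw [← hIA']
      exact Ideal.mem_map_of_mem _ h1
    have hue : IsUnit (algebraMap B (Localization.Away e) e) :=
      IsLocalization.Away.algebraMap_isUnit e
    obtain ⟨u, hu'⟩ := hue.pow (n + 1)
    have h3 : (y - algebraMap A (Localization.Away e) x) * (u : Localization.Away e) =
        algebraMap B (Localization.Away e) (e * (b - algebraMap A B x * e ^ n)) := by
      rw [hu', map_mul, map_sub, map_mul, ← hy, ← IsScalarTower.algebraMap_apply, map_pow]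
      ring
    have h4 : y - algebraMap A (Localization.Away e) x =
        algebraMap B (Localization.Away e) (e * (b - algebraMap A B x * e ^ n)) *
          ((u⁻¹ : (Localization.Away e)ˣ) : Localization.Away e) := by
      rw [← h3, mul_assoc, Units.mul_inv, mul_one]
    rw [h4]
    exact Ideal.mul_mem_right _ _ h2
  refine ⟨⟨?_, ?_⟩, ?_⟩
  · -- injective
    rw [injective_iff_map_eq_zero]
    intro x hx
    obtain ⟨x₀, rfl⟩ := Ideal.Quotient.mk_surjective x
    change Ideal.Quotient.mk _ (algebraMap A (Localization.Away e) x₀) = 0 at hx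
    rw [Ideal.Quotient.eq_zero_iff_mem] at hx
    have hle : I.map (algebraMap A (Localization.Away e)) ≤ RingHom.ker σ₁.toRingHom := by
      rw [Ideal.map_le_iff_le_comap]
      intro i hi
      change σ₁ (algebraMap A _ i) = 0
      rw [AlgHom.commutes]
      exact Ideal.Quotient.eq_zero_iff_mem.mpr hi
    have := hle hx
    change σ₁ (algebraMap A _ x₀) = 0 at this
    rw [AlgHom.commutes] at this
    exact this
  · -- surjective
    intro y
    obtain ⟨y₀, rfl⟩ := Ideal.Quotient.mk_surjective y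
    obtain ⟨⟨b, ⟨_, n, rfl⟩⟩, hb⟩ := IsLocalization.surj (Submonoid.powers e) y₀
    obtain ⟨x, hx, -⟩ := key b n y₀ hb
    exact ⟨x, hx.symm⟩
  · intro b
    obtain ⟨x, hx, hx'⟩ := key b 0 (algebraMap B (Localization.Away e) b) (by simp)
    rw [hx, ← hx', pow_zero, mul_one]

/-- Stacks 09XH-type lemma, with an extra element made invertible: an `A`-algebra map from an
étale `A`-algebra `B` to `A/I` lifts to an étale neighbourhood `A'` of `V(I)` (with
`A/I → A'/IA'` bijective) in which a given `a : A`, invertible modulo `I`, becomes a unit. -/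
theorem exists_etale_lift_of_algHom_of_isUnit [Algebra.Etale A B] (σ : B →ₐ[A] A ⧸ I) (a : A)
    (ha : IsUnit (Ideal.Quotient.mk I a)) :
    ∃ (A' : Type u) (_ : CommRing A') (_ : Algebra A A'), Algebra.Etale A A' ∧
      Function.Bijective (algebraMap (A ⧸ I) (A' ⧸ I.map (algebraMap A A'))) ∧
      IsUnit (algebraMap A A' a) ∧
      ∃ ψ : B →ₐ[A] A', ∀ b, Ideal.Quotient.mk (I.map (algebraMap A A')) (ψ b) =
        algebraMap (A ⧸ I) (A' ⧸ I.map (algebraMap A A')) (σ b) := by
  obtain ⟨e, he1, he2⟩ := exists_elem I σ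
  have hσe : σ (e * algebraMap A B a) = Ideal.Quotient.mk I a := by
    rw [map_mul, he1, one_mul, AlgHom.commutes]; rfl
  have hu : IsUnit (σ (e * algebraMap A B a)) := by rw [hσe]; exact ha
  have he2' : ∀ b, σ b = 0 → (e * algebraMap A B a) * b ∈ I.map (algebraMap A B) := by
    intro b hb
    have := Ideal.mul_mem_left _ (algebraMap A B a) (he2 b hb)
    convert this using 1
    ring
  obtain ⟨hbij, hψ⟩ := exists_etale_lift_of_elem I σ (e * algebraMap A B a) hu he2'
  refine ⟨Localization.Away (e * algebraMap A B a), inferInstance, inferInstance, inferInstance,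
    hbij, ?_, IsScalarTower.toAlgHom A B _, hψ⟩
  have h1 : IsUnit (algebraMap B (Localization.Away (e * algebraMap A B a))
      (e * algebraMap A B a)) := IsLocalization.Away.algebraMap_isUnit _
  rw [map_mul, ← IsScalarTower.algebraMap_apply] at h1
  exact isUnit_of_mul_isUnit_right h1

/-- Stacks 09XH-type lemma: an `A`-algebra map from an étale `A`-algebra `B` to `A/I` lifts to an
étale neighbourhood `A'` of `V(I)` (with `A/I → A'/IA'` bijective). -/
theorem exists_etale_lift_of_algHom [Algebra.Etale A B] (σ : B →ₐ[A] A ⧸ I) :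
    ∃ (A' : Type u) (_ : CommRing A') (_ : Algebra A A'), Algebra.Etale A A' ∧
      Function.Bijective (algebraMap (A ⧸ I) (A' ⧸ I.map (algebraMap A A'))) ∧
      ∃ ψ : B →ₐ[A] A', ∀ b, Ideal.Quotient.mk (I.map (algebraMap A A')) (ψ b) =
        algebraMap (A ⧸ I) (A' ⧸ I.map (algebraMap A A')) (σ b) := by
  obtain ⟨A', i1, i2, h1, h2, -, h3⟩ :=
    exists_etale_lift_of_algHom_of_isUnit I σ 1 (by rw [map_one]; exact isUnit_one)
  exact ⟨A', i1, i2, h1, h2, h3⟩

end Groth.Agent.Lib.helper26.EtaleLift
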