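import Mathlib
import Groth.Agent.Lib.Helper26.EtaleLift

/-!
# Étale-local lifting of coprime monic factorizations and of idempotents (helper26)

* `exists_etale_lift_coprime_factorization`: Stacks 09XH/00UH-type: a coprime monic factorization of a
  monic `f` modulo `I` lifts to a coprime monic factorization over an étale neighbourhood of `V(I)`.
* `exists_idempotent_polynomial`: if `f ≡ X^m (X-1)^m` mod `I` (`m ≥ 1`) there are an étale
  neighbourhood `A'` of `V(I)` and `Q ∈ A'[X]` with `f ∣ Q² - Q` and `Q ≡ X` modulo `(X² - X, I)`.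
-/

universe u

namespace Groth.Agent.Lib.helper26.EtaleLift

open Polynomial

variable {A : Type u} [CommRing A] (I : Ideal A)

theorem exists_etale_lift_coprime_factorization (f : A[X])
    (hf : f.Monic) (g h : (A ⧸ I)[X]) (hg : g.Monic) (hh : h.Monic) (hcop : IsCoprime g h)
    (hfgh : f.map (Ideal.Quotient.mk I) = g * h) [Nontrivial (A ⧸ I)] :
    ∃ (A' : Type u) (_ : CommRing A') (_ : Algebra A A'), Algebra.Etale A A' ∧
      Function.Bijective (algebraMap (A ⧸ I) (A' ⧸ I.map (algebraMap A A'))) ∧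
      ∃ g' h' : A'[X], g'.Monic ∧ h'.Monic ∧ IsCoprime g' h' ∧ f.map (algebraMap A A') = g' * h' ∧
        g'.map (Ideal.Quotient.mk (I.map (algebraMap A A'))) =
          g.map (algebraMap (A ⧸ I) (A' ⧸ I.map (algebraMap A A'))) ∧
        h'.map (Ideal.Quotient.mk (I.map (algebraMap A A'))) =
          h.map (algebraMap (A ⧸ I) (A' ⧸ I.map (algebraMap A A'))) := by
  have hn : f.natDegree = g.natDegree + h.natDegree := by
    have := congrArg Polynomial.natDegree hfgh
    rw [hf.natDegree_map, hg.natDegree_mul hh] at this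
    exact this
  let p : MonicDegreeEq A f.natDegree := .mk f hf rfl
  let σ : UniversalCoprimeFactorizationRing g.natDegree h.natDegree hn p →ₐ[A] A ⧸ I :=
    (UniversalCoprimeFactorizationRing.homEquiv (A ⧸ I) g.natDegree h.natDegree hn p).symm
      ⟨(.mk g hg rfl, .mk h hh rfl), by
        change g * h = f.map (algebraMap A (A ⧸ I))
        rw [← hfgh]; rfl, hcop⟩
  obtain ⟨A', _, _, hét, hbij, ψ, hψ⟩ := exists_etale_lift_of_algHom I σ
  let q := UniversalCoprimeFactorizationRing.homEquiv A' g.natDegree h.natDegree hn p ψ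
  let mkₐ : A' →ₐ[A] A' ⧸ I.map (algebraMap A A') := Ideal.Quotient.mkₐ A _
  let ι : (A ⧸ I) →ₐ[A] A' ⧸ I.map (algebraMap A A') :=
    IsScalarTower.toAlgHom A (A ⧸ I) (A' ⧸ I.map (algebraMap A A'))
  have hcomp : mkₐ.comp ψ = ι.comp σ := AlgHom.ext fun b => hψ b
  have hσq : UniversalCoprimeFactorizationRing.homEquiv (A ⧸ I) g.natDegree h.natDegree hn p σ =
      ⟨(.mk g hg rfl, .mk h hh rfl), by
        change g * h = f.map (algebraMap A (A ⧸ I))
        rw [← hfgh]; rfl, hcop⟩ := Equiv.apply_symm_apply _ _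
  refine ⟨A', inferInstance, inferInstance, hét, hbij, q.1.1.1, q.1.2.1, q.1.1.monic, q.1.2.monic,
    q.2.2, q.2.1.symm, ?_, ?_⟩
  · have h1 := UniversalCoprimeFactorizationRing.homEquiv_comp_fst A' g.natDegree h.natDegree hn p ψ mkₐ
    have h2 := UniversalCoprimeFactorizationRing.homEquiv_comp_fst (A ⧸ I) g.natDegree h.natDegree hn p σ ι
    rw [hcomp, h2, hσq] at h1
    exact (congrArg Subtype.val h1).symm
  · have h1 := UniversalCoprimeFactorizationRing.homEquiv_comp_snd A' g.natDegree h.natDegree hn p ψ mkₐ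
    have h2 := UniversalCoprimeFactorizationRing.homEquiv_comp_snd (A ⧸ I) g.natDegree h.natDegree hn p σ ι
    rw [hcomp, h2, hσq] at h1
    exact (congrArg Subtype.val h1).symm

/-- A polynomial all of whose coefficients vanish modulo `J`. -/
theorem coeff_mem_of_map_eq {A' : Type u} [CommRing A'] (J : Ideal A') (p q : A'[X])
    (h : p.map (Ideal.Quotient.mk J) = q.map (Ideal.Quotient.mk J)) :
    p - q ∈ Ideal.map (C : A' →+* A'[X]) J := by
  rw [Ideal.mem_map_C_iff]
  intro n
  rw [coeff_sub, ← Ideal.Quotient.eq]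
  have := congrArg (fun r => Polynomial.coeff r n) h
  simpa [coeff_map] using this

theorem exists_idempotent_polynomial (f : A[X]) (hf : f.Monic) (k : ℕ)
    (hfm : f.map (Ideal.Quotient.mk I) = X ^ (k + 1) * (X - 1) ^ (k + 1)) :
    ∃ (A' : Type u) (_ : CommRing A') (_ : Algebra A A'), Algebra.Etale A A' ∧
      Function.Bijective (algebraMap (A ⧸ I) (A' ⧸ I.map (algebraMap A A'))) ∧
      ∃ Q R S : A'[X], f.map (algebraMap A A') ∣ Q ^ 2 - Q ∧ Q - X = (X ^ 2 - X) * R + S ∧
        ∀ i, S.coeff i ∈ I.map (algebraMap A A') := by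
  rcases subsingleton_or_nontrivial (A ⧸ I) with hsub | hnt
  · -- degenerate case `I = ⊤`
    have hI : I = ⊤ := Ideal.Quotient.subsingleton_iff.mp hsub
    have hsub' : Subsingleton (A ⧸ I.map (algebraMap A A)) := by
      rw [Ideal.Quotient.subsingleton_iff, hI, Ideal.map_top]
    refine ⟨A, inferInstance, inferInstance, inferInstance, ⟨?_, ?_⟩, 0, 0, -X, ?_, ?_, ?_⟩
    · intro x y _; exact Subsingleton.elim _ _
    · intro y; exact ⟨0, Subsingleton.elim _ _⟩
    · simp
    · simp
    · intro i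
      rw [hI, Ideal.map_top]; trivial
  · have hcop : IsCoprime ((X : (A ⧸ I)[X]) ^ (k + 1)) ((X - 1) ^ (k + 1)) := by
      apply IsCoprime.pow
      exact ⟨1, -1, by ring⟩
    obtain ⟨A', i1, i2, hét, hbij, g', h', -, -, ⟨a, c, hac⟩, hfac, hgred, hhred⟩ :=
      exists_etale_lift_coprime_factorization I f hf (X ^ (k + 1)) ((X - 1) ^ (k + 1))
        (monic_X_pow _) ((monic_X_sub_C (1 : A ⧸ I)).pow _) hcop hfm
    refine ⟨A', i1, i2, hét, hbij, a * g', -a * X ^ k - c * (X - 1) ^ k,
      a * (g' - X ^ (k + 1)) * (1 - X) - X * c * (h' - (X - 1) ^ (k + 1)), ?_, ?_, ?_⟩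
    · refine ⟨-(a * c), ?_⟩
      rw [hfac]
      linear_combination (a * g') * hac
    · linear_combination (X : A'[X]) * hac
    · have hG : g' - X ^ (k + 1) ∈ Ideal.map (C : A' →+* A'[X]) (I.map (algebraMap A A')) := by
        apply coeff_mem_of_map_eq
        rw [hgred]; simp
      have hH : h' - (X - 1) ^ (k + 1) ∈ Ideal.map (C : A' →+* A'[X]) (I.map (algebraMap A A')) := by
        apply coeff_mem_of_map_eq
        rw [hhred]; simp
      have hS : a * (g' - X ^ (k + 1)) * (1 - X) - X * c * (h' - (X - 1) ^ (k + 1)) ∈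
          Ideal.map (C : A' →+* A'[X]) (I.map (algebraMap A A')) := by
        apply Ideal.sub_mem
        · exact Ideal.mul_mem_right _ _ (Ideal.mul_mem_left _ _ hG)
        · exact Ideal.mul_mem_left _ _ hH
      exact Ideal.mem_map_C_iff.mp hS


section aux

theorem monic_X_sq_sub_X [Nontrivial A] : ((X : A[X]) ^ 2 - X).Monic :=
  monic_X_pow_sub (by rw [degree_X]; norm_num)

theorem natDegree_X_sq_sub_X [Nontrivial A] : ((X : A[X]) ^ 2 - X).natDegree = 2 := by
  rw [natDegree_sub_eq_left_of_natDegree_lt] <;> simp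

theorem monic_comp_aux (p₀ : A[X]) (hp : p₀.Monic) : ((p₀ * X).comp (X ^ 2 - X)).Monic := by
  rcases subsingleton_or_nontrivial A with h | h
  · exact Subsingleton.elim _ _
  · exact (hp.mul monic_X).comp monic_X_sq_sub_X (by rw [natDegree_X_sq_sub_X]; norm_num)

theorem map_comp_aux (p₀ : A[X]) (hp : p₀.Monic) (hI : ∀ i ≠ p₀.natDegree, p₀.coeff i ∈ I) :
    ((p₀ * X).comp (X ^ 2 - X)).map (Ideal.Quotient.mk I) =
      X ^ (p₀.natDegree + 1) * (X - 1) ^ (p₀.natDegree + 1) := by
  have h0 : p₀.map (Ideal.Quotient.mk I) = X ^ p₀.natDegree := by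
    ext i
    rw [coeff_map, coeff_X_pow]
    split_ifs with h
    · rw [h, ← leadingCoeff, hp, map_one]
    · exact Ideal.Quotient.eq_zero_iff_mem.mpr (hI i h)
  rw [Polynomial.map_comp, Polynomial.map_mul, h0]
  simp only [Polynomial.map_X, Polynomial.map_sub, Polynomial.map_pow, mul_comp, pow_comp, X_comp]
  have : ((X : (A ⧸ I)[X]) ^ 2 - X) = X * (X - 1) := by ring
  rw [this, mul_pow]
  ring

theorem aeval_comp_aux {E : Type*} [Ring E] [Algebra A E] (b : E) (p₀ : A[X]) :
    aeval b ((p₀ * X).comp (X ^ 2 - X)) = aeval (b ^ 2 - b) p₀ * (b ^ 2 - b) := by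
  rw [aeval_comp]
  simp

end aux

end Groth.Agent.Lib.helper26.EtaleLift
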