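import Mathlib
import Groth.Agent.Lib.Helper26.EtaleLift

/-!
# Henselian pairs: Gabber's root condition implies étale lifting (helper26)

For an ideal `I ⊆ A` contained in the Jacobson radical such that every polynomial
`Tⁿ(T-1) + p` (`p` of degree `≤ n` with coefficients in `I`) has a root in `1 + I`
(`Gabber I`), every `A`-algebra map `σ : A' → A/I` from an étale `A`-algebra lifts to an
`A`-algebra map `A' → A` (`exists_lift_of_gabber`, Stacks 09XI (5) ⇒ (2)).

The proof follows the Stacks project: Zariski's main theorem (in Mathlib's local form, globalised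
near `V(ker σ)` in `exists_finite_subalgebra_of_section`) produces a finite subalgebra `B ⊆ A'`
agreeing with `A'` near the section; a Cayley–Hamilton argument
(`exists_idempotent_of_gabber`) lifts the rank-one idempotent of `B/IB` cutting out the section;
Nakayama and flatness identify the corresponding factor of `A'` with `A`.
-/

universe u

namespace Groth.Agent.Lib.helper26.HenselPair

open Polynomial

variable {A : Type u} [CommRing A] (I : Ideal A)

/-- Gabber's root condition for the pair `(A, I)`. -/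
def Gabber : Prop :=
  ∀ (n : ℕ), 0 < n → ∀ p : A[X], p.natDegree ≤ n → (∀ i, p.coeff i ∈ I) →
    ∃ α : A, α - 1 ∈ I ∧ (X ^ n * (X - 1) + p).IsRoot α

variable {I}

/-- If `B` is integral over `A` and `I` is contained in the Jacobson radical of `A`, then `IB` is
contained in the Jacobson radical of `B`. -/
theorem map_le_jacobson_of_isIntegral (hjac : I ≤ Ideal.jacobson ⊥)
    (B : Type*) [CommRing B] [Algebra A B] [Algebra.IsIntegral A B] :
    I.map (algebraMap A B) ≤ Ideal.jacobson ⊥ := by
  rw [Ideal.jacobson, le_sInf_iff]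
  rintro 𝔪 ⟨-, h𝔪⟩
  rw [Ideal.map_le_iff_le_comap]
  have : (𝔪.comap (algebraMap A B)).IsMaximal :=
    Ideal.isMaximal_comap_of_isIntegral_of_isMaximal 𝔪
  refine hjac.trans ?_
  rw [Ideal.jacobson]
  exact sInf_le ⟨bot_le, this⟩

/-- Evaluating a polynomial with coefficients in `I` lands in `IB`. -/
theorem aeval_mem_map {B : Type*} [CommRing B] [Algebra A B] (p : A[X]) (hp : ∀ i, p.coeff i ∈ I)
    (b : B) : aeval b p ∈ I.map (algebraMap A B) := by
  rw [aeval_eq_sum_range]
  refine Ideal.sum_mem _ fun i _ => ?_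
  rw [Algebra.smul_def]
  exact Ideal.mul_mem_right _ _ (Ideal.mem_map_of_mem _ (hp i))

/-- A finite module has a nonempty finite generating family. -/
theorem exists_fin_pos (B : Type*) [AddCommGroup B] [Module A B] [Module.Finite A B] :
    ∃ (n : ℕ) (s : Fin (n + 1) → B), Submodule.span A (Set.range s) = ⊤ := by
  obtain ⟨n, s, hs⟩ := Module.Finite.exists_fin (R := A) (M := B)
  refine ⟨n, Fin.cons 0 s, ?_⟩
  rw [Fin.range_cons, Submodule.span_insert_zero, hs]

/-- Coefficients of a polynomial whose reduction mod `I` vanishes lie in `I`. -/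
theorem coeff_mem_of_map_eq_zero (p : A[X]) (hp : p.map (Ideal.Quotient.mk I) = 0) (i : ℕ) :
    p.coeff i ∈ I := by
  rw [← Ideal.Quotient.eq_zero_iff_mem, ← coeff_map, hp, coeff_zero]

/-- Cayley–Hamilton: if the matrix `N` represents multiplication by `b` on a spanning family,
then `b` is a root of the characteristic polynomial of `N`. -/
theorem aeval_charpoly_eq_zero_of_represents {B : Type*} [CommRing B] [Algebra A B]
    {ι : Type*} [Fintype ι] [DecidableEq ι] (v : ι → B)
    (hv : Submodule.span A (Set.range v) = ⊤) (N : Matrix ι ι A) (b : B)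
    (hN : ∀ j, ∑ i, N i j • v i = b * v j) : aeval b N.charpoly = 0 := by
  set f : Module.End A B := Algebra.lmul A B b with hf
  have hrep : N.Represents v f := by
    rw [Matrix.represents_iff']
    intro j
    rw [hN j]
    rfl
  set N' : Matrix.isRepresentation A v := ⟨N, f, hrep⟩ with hN'
  have h1 : Matrix.isRepresentation.toEnd A v hv N' = f :=
    Matrix.isRepresentation.eq_toEnd_of_represents A v hv N' hrep
  have h2 : aeval f N.charpoly = 0 := by
    rw [← h1, Polynomial.aeval_algHom_apply,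
      ← map_zero (Matrix.isRepresentation.toEnd A v hv)]
    congr 1
    ext1
    rw [Polynomial.aeval_subalgebra_coe, Subalgebra.coe_zero]
    exact Matrix.aeval_self_charpoly N
  rw [hf, Polynomial.aeval_algHom_apply] at h2
  have := congrArg (fun g : Module.End A B => g 1) h2
  simpa using this

theorem pow_sub_mem {B : Type*} [CommRing B] (K : Ideal B) (b : B) (hb : b * b - b ∈ K) :
    ∀ n : ℕ, 0 < n → b ^ n - b ∈ K := by
  intro n hn
  induction n, hn using Nat.le_induction with
  | base => simp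
  | succ n hn ih =>
    have : b ^ (n + 1) - b = b * (b ^ n - b) + (b * b - b) := by ring
    rw [this]
    exact K.add_mem (K.mul_mem_left _ ih) hb

/-- Rank-one idempotents lift along finite algebras over a pair satisfying Gabber's condition. -/
theorem exists_idempotent_of_gabber (hjac : I ≤ Ideal.jacobson ⊥) (hG : Gabber I)
    (B : Type*) [CommRing B] [Algebra A B] [Module.Finite A B]
    (b : B) (hb : b * b - b ∈ I.map (algebraMap A B))
    (hgen : ∀ x : B, ∃ a : A, b * x - a • b ∈ I.map (algebraMap A B)) :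
    ∃ e : B, IsIdempotentElem e ∧ e - b ∈ I.map (algebraMap A B) := by
  classical
  cases subsingleton_or_nontrivial A with
  | inl h =>
    have : Subsingleton B := Module.subsingleton A B
    exact ⟨0, IsIdempotentElem.zero, by rw [Subsingleton.elim (0 - b) 0]; exact zero_mem _⟩
  | inr hA =>
  set K := I.map (algebraMap A B) with hK
  obtain ⟨n, s, hs⟩ := exists_fin_pos (A := A) B
  -- the generating family
  set v : Fin (n + 2) → B := Fin.cons b (fun k => (1 - b) * s k) with hvdef
  have hv0 : v 0 = b := rfl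
  have hvs : ∀ k : Fin (n + 1), v k.succ = (1 - b) * s k := fun k => rfl
  have hItop : ∀ x : B, x ∈ K → x ∈ I • (⊤ : Submodule A B) := by
    intro x hx
    rw [Ideal.smul_top_eq_map]
    exact hx
  have hv : Submodule.span A (Set.range v) = ⊤ := by
    rw [eq_top_iff]
    refine Submodule.le_of_le_smul_of_le_jacobson_bot Module.Finite.fg_top hjac ?_
    intro x _
    obtain ⟨a, ha⟩ := hgen x
    have hx : x = a • b + (b * x - a • b) + (1 - b) * x := by ring
    rw [hx]
    refine Submodule.add_mem _ (Submodule.add_mem _ ?_ ?_) ?_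
    · exact Submodule.mem_sup_left (Submodule.smul_mem _ _ (Submodule.subset_span ⟨0, hv0⟩))
    · exact Submodule.mem_sup_right (hItop _ ha)
    · refine Submodule.mem_sup_left ?_
      have hxs : x ∈ Submodule.span A (Set.range s) := by rw [hs]; trivial
      have : Submodule.map (LinearMap.mulLeft A (1 - b)) (Submodule.span A (Set.range s)) ≤
          Submodule.span A (Set.range v) := by
        rw [Submodule.map_span, Submodule.span_le]
        rintro _ ⟨_, ⟨k, rfl⟩, rfl⟩
        exact Submodule.subset_span ⟨k.succ, by simp [hvs]⟩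
      exact this ⟨x, hxs, by simp⟩
  -- the matrix
  have hw : ∀ j : Fin (n + 2), b * v j - (if j = 0 then v 0 else 0) ∈
      LinearMap.range (Ideal.finsuppTotal (Fin (n + 2)) B I v) := by
    intro j
    rw [Ideal.range_finsuppTotal, hv]
    apply hItop
    refine Fin.cases ?_ (fun k => ?_) j
    · simpa [hv0] using hb
    · rw [if_neg (Fin.succ_ne_zero k), sub_zero, hvs]
      have : b * ((1 - b) * s k) = -((b * b - b) * s k) := by ring
      rw [this]
      exact K.neg_mem (K.mul_mem_right _ hb)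
  choose c hc using hw
  simp only [Ideal.finsuppTotal_apply_eq_of_fintype] at hc
  set N : Matrix (Fin (n + 2)) (Fin (n + 2)) A :=
    fun i j => (if i = 0 ∧ j = 0 then 1 else 0) + (c j i : A) with hNdef
  have hNrep : ∀ j, ∑ i, N i j • v i = b * v j := by
    intro j
    have h1 : ∑ i, N i j • v i = ∑ i, (if i = 0 ∧ j = 0 then (1 : A) else 0) • v i +
        ∑ i, (c j i : A) • v i := by
      rw [← Finset.sum_add_distrib]
      refine Finset.sum_congr rfl fun i _ => ?_
      rw [hNdef, add_smul]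
    rw [h1, hc j]
    have h2 : ∑ i, (if i = 0 ∧ j = 0 then (1 : A) else 0) • v i = if j = 0 then v 0 else 0 := by
      by_cases hj : j = 0
      · simp [hj]
      · simp [hj]
    rw [h2]
    ring
  have hroot : aeval b N.charpoly = 0 := aeval_charpoly_eq_zero_of_represents v hv N b hNrep
  -- the characteristic polynomial modulo `I`
  have hNmap : N.map (Ideal.Quotient.mk I) =
      Matrix.diagonal (fun i : Fin (n + 2) => if i = 0 then (1 : A ⧸ I) else 0) := by
    ext i j
    have hcI : Ideal.Quotient.mk I (c j i : A) = 0 :=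
      Ideal.Quotient.eq_zero_iff_mem.mpr (c j i).2
    by_cases hij : i = j
    · subst hij
      by_cases hi : i = 0
      · subst hi
        simp [hNdef, hcI]
      · simp [hNdef, hi, hcI]
    · rw [Matrix.diagonal_apply_ne _ hij]
      have : ¬ (i = 0 ∧ j = 0) := fun h => hij (h.1.trans h.2.symm)
      simp [hNdef, this, hcI]
  have hPmap : N.charpoly.map (Ideal.Quotient.mk I) = X ^ (n + 1) * (X - 1) := by
    rw [← Matrix.charpoly_map, hNmap, Matrix.charpoly_diagonal, Fin.prod_univ_succ]
    simp [mul_comm]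
  set P := N.charpoly with hP
  have hPmonic : P.Monic := Matrix.charpoly_monic N
  have hPdeg : P.natDegree = n + 2 := by
    rw [hP, Matrix.charpoly_natDegree_eq_dim, Fintype.card_fin]
  have hRmonic : (X ^ (n + 1) * (X - 1) : A[X]).Monic :=
    (monic_X_pow _).mul (monic_X_sub_C (1 : A))
  have hRdeg : (X ^ (n + 1) * (X - 1) : A[X]).natDegree = n + 2 := by
    rw [show (X - 1 : A[X]) = X - C 1 by simp,
      Monic.natDegree_mul (monic_X_pow _) (monic_X_sub_C (1 : A)), natDegree_X_pow,
      natDegree_X_sub_C]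
  -- the error term
  set p : A[X] := P - X ^ (n + 1) * (X - 1) with hp
  have hpI : ∀ i, p.coeff i ∈ I := by
    apply coeff_mem_of_map_eq_zero
    rw [hp, Polynomial.map_sub, hPmap]
    simp
  have hpdeg : p.natDegree ≤ n + 1 := by
    have hlt : p.degree < P.degree := by
      rw [hp]
      apply degree_sub_lt_left
      · rw [degree_eq_natDegree hPmonic.ne_zero, degree_eq_natDegree hRmonic.ne_zero, hPdeg, hRdeg]
      · exact hPmonic.ne_zero
      · rw [hPmonic.leadingCoeff, hRmonic.leadingCoeff]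
    rw [degree_eq_natDegree hPmonic.ne_zero, hPdeg] at hlt
    by_cases hp0 : p = 0
    · rw [hp0]; simp
    · rw [degree_eq_natDegree hp0] at hlt
      have : p.natDegree < n + 2 := by exact_mod_cast hlt
      omega
  obtain ⟨α, hα, hαroot⟩ := hG (n + 1) (Nat.succ_pos n) p hpdeg hpI
  have hPeq : X ^ (n + 1) * (X - 1) + p = P := by rw [hp]; ring
  rw [hPeq] at hαroot
  -- factor out the root
  set Q : A[X] := P /ₘ (X - C α) with hQ
  have hPQ : (X - C α) * Q = P := mul_divByMonic_eq_iff_isRoot.mpr hαroot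
  have hα1 : Ideal.Quotient.mk I α = 1 := by
    rw [← sub_eq_zero, ← map_one (Ideal.Quotient.mk I), ← map_sub]
    exact Ideal.Quotient.eq_zero_iff_mem.mpr hα
  have hQmap : Q.map (Ideal.Quotient.mk I) = X ^ (n + 1) := by
    have h1 : (X - C (1 : A ⧸ I)) * Q.map (Ideal.Quotient.mk I) =
        (X - C (1 : A ⧸ I)) * X ^ (n + 1) := by
      have := congrArg (Polynomial.map (Ideal.Quotient.mk I)) hPQ
      rw [Polynomial.map_mul, Polynomial.map_sub, map_X, map_C, hα1, hPmap] at this
      rw [this]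
      simp [mul_comm]
    exact (monic_X_sub_C (1 : A ⧸ I)).isRegular.left h1
  have hQI : ∀ i, (Q - X ^ (n + 1)).coeff i ∈ I := by
    apply coeff_mem_of_map_eq_zero
    rw [Polynomial.map_sub, hQmap]
    simp
  -- the two orthogonal elements
  set u : B := aeval b Q with hu
  set v' : B := b - algebraMap A B α with hv'
  have huv : v' * u = 0 := by
    have := congrArg (aeval b) hPQ
    rw [map_mul, map_sub, aeval_X, aeval_C, hroot] at this
    exact this
  have hu1 : u - b ^ (n + 1) ∈ K := by
    have := aeval_mem_map (Q - X ^ (n + 1)) hQI b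
    rwa [map_sub, map_pow, aeval_X] at this
  have hu2 : u - b ∈ K := by
    have h := pow_sub_mem K b hb (n + 1) (Nat.succ_pos n)
    have : u - b = (u - b ^ (n + 1)) + (b ^ (n + 1) - b) := by ring
    rw [this]
    exact K.add_mem hu1 h
  have hα2 : algebraMap A B α - 1 ∈ K := by
    rw [← map_one (algebraMap A B), ← map_sub]
    exact Ideal.mem_map_of_mem _ hα
  have huv1 : (u - v') - 1 ∈ K := by
    have : (u - v') - 1 = (u - b) + (algebraMap A B α - 1) := by rw [hv']; ring
    rw [this]
    exact K.add_mem hu2 hα2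
  have hKjac : K ≤ Ideal.jacobson ⊥ := by
    have : Algebra.IsIntegral A B := inferInstance
    exact map_le_jacobson_of_isIntegral hjac B
  have hunit : IsUnit (u - v') := by
    have h := (Ideal.mem_jacobson_bot.mp (hKjac huv1)) 1
    simpa using h
  obtain ⟨w, hw⟩ := hunit.exists_right_inv
  have hw1 : w - 1 ∈ K := by
    have : w - 1 = -(w * ((u - v') - 1)) := by
      have : w * (u - v') = 1 := by rw [mul_comm]; exact hw
      linear_combination this
    rw [this]
    exact K.neg_mem (K.mul_mem_left _ huv1)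
  refine ⟨u * w, ?_, ?_⟩
  · have h1 : u * w = u * u * w * w := by
      have : u * w = u * w * ((u - v') * w) := by rw [hw, mul_one]
      rw [this]
      linear_combination (-(w * w)) * huv
    change u * w * (u * w) = u * w
    linear_combination -h1
  · have : u * w - b = u * (w - 1) + (u - b) := by ring
    rw [this]
    exact K.add_mem (K.mul_mem_left _ hw1) hu2

/-- From bijectivity of `S'[1/r] → A'[1/r]` to an elementwise statement. -/
theorem exists_pow_mul_mem_of_awayMap_bijective {A' : Type u} [CommRing A'] [Algebra A A']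
    (S' : Subalgebra A A') (r : S')
    (h : Function.Bijective (Localization.awayMap S'.val.toRingHom r)) (x : A') :
    ∃ N : ℕ, (r : A') ^ N * x ∈ S' := by
  obtain ⟨y, hy⟩ := h.2 (algebraMap A' (Localization.Away (S'.val.toRingHom r)) x)
  obtain ⟨⟨s, ⟨_, k, rfl⟩⟩, hs⟩ := IsLocalization.surj (Submonoid.powers r) y
  have h1 := congrArg (Localization.awayMap S'.val.toRingHom r) hs
  rw [map_mul, hy] at h1
  simp only [Localization.awayMap, IsLocalization.Away.map, IsLocalization.map_eq] at h1
  rw [← map_mul, IsLocalization.eq_iff_exists (Submonoid.powers (S'.val.toRingHom r))] at h1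
  obtain ⟨⟨_, l, rfl⟩, hl⟩ := h1
  refine ⟨l + k, ?_⟩
  have hl' : (r : A') ^ l * (x * (r : A') ^ k) = (r : A') ^ l * (s : A') := by
    simpa using hl
  have : (r : A') ^ (l + k) * x = ((r ^ l * s : S') : A') := by
    rw [pow_add]
    push_cast
    linear_combination hl'
  rw [this]
  exact (r ^ l * s).2

/-- Finite suprema of module-finite subalgebras are module-finite. -/
theorem fg_finset_sup {A' : Type u} [CommRing A'] [Algebra A A'] {ι : Type*}
    (S : ι → Subalgebra A A') (hS : ∀ i, (S i).toSubmodule.FG) (t : Finset ι) :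
    (t.sup S).toSubmodule.FG := by
  classical
  induction t using Finset.induction_on with
  | empty =>
    rw [Finset.sup_empty]
    have : Module.Finite A (⊥ : Subalgebra A A') := inferInstance
    exact (Submodule.fg_top _).mp this.1
  | insert a t _ ih =>
    rw [Finset.sup_insert]
    have h1 : Module.Finite A (S a) := ⟨(Submodule.fg_top _).mpr (hS a)⟩
    have h2 : Module.Finite A ↥(t.sup S) := ⟨(Submodule.fg_top _).mpr ih⟩
    have := Subalgebra.finite_sup (S a) (t.sup S)
    exact (Submodule.fg_top _).mp this.1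

/-- Global form of Zariski's main theorem near a closed subset `V(J)`. -/
theorem exists_finite_subalgebra (A' : Type u) [CommRing A'] [Algebra A A']
    [Algebra.FiniteType A A'] [Algebra.QuasiFinite A A'] (J : Ideal A') :
    ∃ (B : Subalgebra A A') (t : Finset A'), B.toSubmodule.FG ∧ (∀ r ∈ t, r ∈ B) ∧
      J ⊔ Ideal.span (t : Set A') = ⊤ ∧ ∀ r ∈ t, ∀ x : A', ∃ N : ℕ, r ^ N * x ∈ B := by
  classical
  have key : ∀ q : PrimeSpectrum A', ∃ S' : Subalgebra A A', S'.toSubmodule.FG ∧ ∃ r : A',
      r ∈ S' ∧ r ∉ q.asIdeal ∧ ∀ x : A', ∃ N : ℕ, r ^ N * x ∈ S' := by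
    intro q
    obtain ⟨S', hS', r, hrq, hbij⟩ :=
      Algebra.QuasiFiniteAt.exists_fg_and_exists_notMem_and_awayMap_bijective (R := A) q.asIdeal
    exact ⟨S', hS', r, r.2, hrq, exists_pow_mul_mem_of_awayMap_bijective S' r hbij⟩
  choose S hS r hrS hrq hgood using key
  have htop : J ⊔ Ideal.span (Set.range r) = ⊤ := by
    by_contra hne
    obtain ⟨𝔪, h𝔪, hle⟩ := Ideal.exists_le_maximal _ hne
    have hr : r ⟨𝔪, h𝔪.isPrime⟩ ∈ 𝔪 :=
      hle (Ideal.mem_sup_right (Ideal.subset_span ⟨_, rfl⟩))
    exact hrq ⟨𝔪, h𝔪.isPrime⟩ hr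
  have h1 : (1 : A') ∈ J ⊔ Ideal.span (Set.range r) := by rw [htop]; trivial
  obtain ⟨j, hj, y, hy, hjy⟩ := Submodule.mem_sup.mp h1
  obtain ⟨c, hc⟩ := Finsupp.mem_span_range_iff_exists_finsupp.mp hy
  refine ⟨c.support.sup S, c.support.image r, fg_finset_sup S hS _, ?_, ?_, ?_⟩
  · intro z hz
    obtain ⟨q, hq, rfl⟩ := Finset.mem_image.mp hz
    exact (Finset.le_sup (f := S) hq) (hrS q)
  · rw [eq_top_iff]
    intro x _
    have : (1 : A') ∈ J ⊔ Ideal.span ((c.support.image r : Finset A') : Set A') := by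
      rw [← hjy, ← hc]
      refine Submodule.add_mem _ (Ideal.mem_sup_left hj) (Ideal.mem_sup_right ?_)
      refine Ideal.sum_mem _ fun q hq => ?_
      exact Ideal.mul_mem_left _ _ (Ideal.subset_span (Finset.mem_coe.mpr
        (Finset.mem_image_of_mem r hq)))
    have := Ideal.mul_mem_left _ x this
    rwa [mul_one] at this
  · intro z hz x
    obtain ⟨q, hq, rfl⟩ := Finset.mem_image.mp hz
    obtain ⟨N, hN⟩ := hgood q x
    exact ⟨N, (Finset.le_sup (f := S) hq) hN⟩

/-- The conductor ideal of `x` with respect to a subalgebra `B`. -/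
def condIdeal {A' : Type u} [CommRing A'] [Algebra A A'] (B : Subalgebra A A') (x : A') :
    Ideal B where
  carrier := {y | (y : A') * x ∈ B}
  add_mem' := by
    intro y z hy hz
    simp only [Set.mem_ofPred_eq] at hy hz ⊢
    push_cast
    rw [add_mul]
    exact B.add_mem hy hz
  zero_mem' := by simp
  smul_mem' := by
    intro c y hy
    simp only [Set.mem_ofPred_eq, smul_eq_mul] at hy ⊢
    push_cast
    rw [mul_assoc]
    exact B.mul_mem c.2 hy

theorem mem_condIdeal {A' : Type u} [CommRing A'] [Algebra A A'] (B : Subalgebra A A') (x : A')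
    (y : B) : y ∈ condIdeal B x ↔ (y : A') * x ∈ B := Iff.rfl

/-- Zariski's main theorem near the image of a section `σ : A' → A/I`: a finite subalgebra `B` and
an element `b₀ ∈ B` with `σ b₀ = 1` such that `B[1/b₀] = A'[1/b₀]`. -/
theorem exists_finite_subalgebra_of_section (A' : Type u) [CommRing A'] [Algebra A A']
    [Algebra.FiniteType A A'] [Algebra.QuasiFinite A A'] (σ : A' →ₐ[A] A ⧸ I) :
    ∃ (B : Subalgebra A A') (b₀ : A'), B.toSubmodule.FG ∧ b₀ ∈ B ∧ σ b₀ = 1 ∧
      ∀ x : A', ∃ N : ℕ, ∀ M, N ≤ M → b₀ ^ M * x ∈ B := by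
  classical
  obtain ⟨B, t, hBfg, htB, htop, hgood⟩ := exists_finite_subalgebra (A := A) A' (RingHom.ker σ.toRingHom)
  have h1 : (1 : A') ∈ RingHom.ker σ.toRingHom ⊔ Ideal.span (t : Set A') := by rw [htop]; trivial
  obtain ⟨j, hj, y, hy, hjy⟩ := Submodule.mem_sup.mp h1
  obtain ⟨f, hf⟩ := Submodule.mem_span_finset'.mp hy
  have hlift : ∀ x : A', ∃ a : A, σ x = Ideal.Quotient.mk I a :=
    fun x => (Ideal.Quotient.mk_surjective (σ x)).imp fun a ha => ha.symm
  choose α hα using hlift
  -- the element `b₀`, as an element of `B`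
  set b₀' : B := ∑ r : t, algebraMap A B (α (f r)) * ⟨r.1, htB r.1 r.2⟩ with hb₀'
  have hσj : σ j = 0 := hj
  have hσy : σ y = 1 := by
    have := congrArg σ hjy
    rwa [map_add, hσj, zero_add, map_one] at this
  have hσb₀ : σ (b₀' : A') = 1 := by
    rw [← hσy, ← hf, hb₀']
    push_cast
    rw [map_sum, map_sum]
    refine Finset.sum_congr rfl fun r _ => ?_
    rw [smul_eq_mul, map_mul, map_mul, hα (f r)]
    congr 1
    simp
  refine ⟨B, b₀', hBfg, b₀'.2, hσb₀, fun x => ?_⟩
  -- `b₀'` lies in the radical of the conductor ideal of `x`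
  have hrad : b₀' ∈ (condIdeal B x).radical := by
    rw [hb₀']
    refine Ideal.sum_mem _ fun r _ => Ideal.mul_mem_left _ _ ?_
    obtain ⟨N, hN⟩ := hgood r.1 r.2 x
    exact ⟨N, by rw [mem_condIdeal]; push_cast; exact hN⟩
  obtain ⟨N, hN⟩ := hrad
  rw [mem_condIdeal] at hN
  refine ⟨N, fun M hM => ?_⟩
  obtain ⟨k, rfl⟩ := Nat.exists_eq_add_of_le hM
  rw [pow_add, mul_comm (_ ^ N), mul_assoc]
  refine B.mul_mem (B.pow_mem b₀'.2 k) ?_
  simpa using hN

theorem exists_pow_mul_mem_map {A' : Type u} [CommRing A'] [Algebra A A'] (B : Subalgebra A A')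
    (b₀ : A') (hb₀ : b₀ ∈ B)
    (hgood : ∀ x : A', ∃ N : ℕ, ∀ M, N ≤ M → b₀ ^ M * x ∈ B) (y : A')
    (hy : y ∈ I.map (algebraMap A A')) :
    ∃ N : ℕ, ∀ M, N ≤ M → ∃ z : B, z ∈ I.map (algebraMap A B) ∧ (z : A') = b₀ ^ M * y := by
  unfold Ideal.map at hy
  induction hy using Submodule.span_induction with
  | mem y hy =>
    obtain ⟨i, hi, rfl⟩ := hy
    refine ⟨0, fun M _ => ⟨⟨b₀, hb₀⟩ ^ M * algebraMap A B i, ?_, ?_⟩⟩
    · exact Ideal.mul_mem_left _ _ (Ideal.mem_map_of_mem _ hi)
    · push_cast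
      rfl
  | zero => exact ⟨0, fun M _ => ⟨0, zero_mem _, by simp⟩⟩
  | add y y' _ _ ih ih' =>
    obtain ⟨N, hN⟩ := ih
    obtain ⟨N', hN'⟩ := ih'
    refine ⟨max N N', fun M hM => ?_⟩
    obtain ⟨z, hz, hzy⟩ := hN M ((le_max_left _ _).trans hM)
    obtain ⟨z', hz', hzy'⟩ := hN' M ((le_max_right _ _).trans hM)
    exact ⟨z + z', Ideal.add_mem _ hz hz', by push_cast; rw [hzy, hzy', mul_add]⟩
  | smul x y _ ih =>
    obtain ⟨N, hN⟩ := ih
    obtain ⟨Nx, hNx⟩ := hgood x
    refine ⟨N + Nx, fun M hM => ?_⟩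
    obtain ⟨k, rfl⟩ := Nat.exists_eq_add_of_le hM
    obtain ⟨z, hz, hzy⟩ := hN (N + k) (by omega)
    refine ⟨⟨b₀ ^ Nx * x, hNx Nx le_rfl⟩ * z, Ideal.mul_mem_left _ _ hz, ?_⟩
    push_cast
    rw [hzy, smul_eq_mul]
    ring

/-- Construction of the rank-one idempotent inside a finite subalgebra. -/
theorem exists_idempotent_in_subalgebra (hjac : I ≤ Ideal.jacobson ⊥) (hG : Gabber I)
    (A' : Type u) [CommRing A'] [Algebra A A'] [Algebra.Etale A A'] (σ : A' →ₐ[A] A ⧸ I) :
    ∃ (B : Subalgebra A A') (b₀ : A') (e : B), B.toSubmodule.FG ∧ b₀ ∈ B ∧ σ b₀ = 1 ∧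
      (∀ x : A', ∃ N : ℕ, ∀ M, N ≤ M → b₀ ^ M * x ∈ B) ∧ IsIdempotentElem e ∧
      σ (e : A') = 1 ∧ ∀ y : B, σ (y : A') = 0 → e * y ∈ I.map (algebraMap A B) := by
  classical
  have : Algebra.QuasiFinite A A' := inferInstance
  obtain ⟨B, b₀, hBfg, hb₀B, hσb₀, hgood⟩ := exists_finite_subalgebra_of_section A' σ
  obtain ⟨ε, hσε, hεker⟩ := EtaleLift.exists_elem I σ
  have hfin : Module.Finite A B := ⟨(Submodule.fg_top _).mpr hBfg⟩
  obtain ⟨m, c, hc⟩ := Module.Finite.exists_fin (R := A) (M := B)
  have hlift : ∀ x : A', ∃ a : A, σ x = Ideal.Quotient.mk I a :=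
    fun x => (Ideal.Quotient.mk_surjective (σ x)).imp fun a ha => ha.symm
  choose α hα using hlift
  set d : Fin m → B := fun i => c i - algebraMap A B (α (c i : A')) with hd
  have hσd : ∀ i, σ (d i : A') = 0 := by
    intro i
    simp only [hd]
    push_cast
    rw [map_sub, hα (c i : A')]
    simp
  -- thresholds
  obtain ⟨N₀, hN₀⟩ := hgood ε
  have hthr : ∀ i, ∃ N : ℕ, ∀ M, N ≤ M → ∃ z : B, z ∈ I.map (algebraMap A B) ∧
      (z : A') = b₀ ^ M * (ε * (d i : A')) :=
    fun i => exists_pow_mul_mem_map B b₀ hb₀B hgood _ (hεker _ (hσd i))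
  choose Nd hNd using hthr
  set M₀ : ℕ := N₀ + ∑ i, Nd i with hM₀
  have hM₀i : ∀ i, Nd i ≤ M₀ := fun i =>
    (Finset.single_le_sum (f := Nd) (fun _ _ => Nat.zero_le _) (Finset.mem_univ i)).trans
      (Nat.le_add_left _ _)
  set b : B := ⟨b₀ ^ M₀ * ε, hN₀ M₀ (Nat.le_add_right _ _)⟩ with hb
  have hσb : σ (b : A') = 1 := by
    simp [hb, hσb₀, hσε]
  set K := I.map (algebraMap A B) with hK
  have hbd : ∀ i, b * d i ∈ K := by
    intro i
    obtain ⟨z, hz, hzy⟩ := hNd i M₀ (hM₀i i)
    have : b * d i = z := by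
      apply Subtype.ext
      rw [hzy]
      push_cast
      ring
    rw [this]
    exact hz
  -- key fact
  have hKF : ∀ y : B, σ (y : A') = 0 → b * y ∈ K := by
    intro y hy
    have hy' : y ∈ Submodule.span A (Set.range c) := by rw [hc]; trivial
    obtain ⟨g, rfl⟩ := (Submodule.mem_span_range_iff_exists_fun A).mp hy'
    have h1 : ∑ i, g i • c i = ∑ i, g i • d i + algebraMap A B (∑ i, g i * α (c i : A')) := by
      rw [map_sum, ← Finset.sum_add_distrib]
      refine Finset.sum_congr rfl fun i _ => ?_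
      simp only [hd, map_mul, Algebra.smul_def]
      ring
    have h2 : ∑ i, g i * α (c i : A') ∈ I := by
      rw [← Ideal.Quotient.eq_zero_iff_mem, ← hy, h1]
      push_cast
      rw [map_add, map_sum]
      simp [hσd]
    rw [h1, mul_add, Finset.mul_sum]
    refine K.add_mem (K.sum_mem fun i _ => ?_) (K.mul_mem_left _ (Ideal.mem_map_of_mem _ h2))
    rw [Algebra.smul_def, ← mul_assoc, mul_comm b, mul_assoc]
    exact K.mul_mem_left _ (hbd i)
  have hbb : b * b - b ∈ K := by
    have : b * b - b = b * (b - 1) := by ring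
    rw [this]
    apply hKF
    push_cast
    rw [map_sub, hσb, map_one, sub_self]
  have hgen : ∀ x : B, ∃ a : A, b * x - a • b ∈ K := by
    intro x
    refine ⟨α (x : A'), ?_⟩
    have : b * x - α (x : A') • b = b * (x - algebraMap A B (α (x : A'))) := by
      rw [Algebra.smul_def]; ring
    rw [this]
    apply hKF
    push_cast
    rw [map_sub, hα (x : A')]
    simp
  obtain ⟨e, he, heb⟩ := exists_idempotent_of_gabber hjac hG B b hbb hgen
  have hKσ : ∀ z : B, z ∈ K → σ (z : A') = 0 := by
    intro z hz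
    have hle : K ≤ RingHom.ker (σ.toRingHom.comp B.val.toRingHom) := by
      rw [hK, Ideal.map_le_iff_le_comap]
      intro i hi
      rw [Ideal.mem_comap, RingHom.mem_ker]
      simp only [RingHom.comp_apply]
      have : σ.toRingHom (B.val.toRingHom (algebraMap A B i)) = Ideal.Quotient.mk I i := by
        simp
      rw [this]
      exact Ideal.Quotient.eq_zero_iff_mem.mpr hi
    exact hle hz
  refine ⟨B, b₀, e, hBfg, hb₀B, hσb₀, hgood, he, ?_, ?_⟩
  · have := hKσ _ heb
    push_cast at this
    rw [map_sub, hσb, sub_eq_zero] at this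
    exact this
  · intro y hy
    have : e * y = (e - b) * y + b * y := by ring
    rw [this]
    exact K.add_mem (K.mul_mem_right _ heb) (hKF y hy)

/-- The idempotent `e` cuts out a copy of `A` inside `A'`. -/
theorem exists_idempotent_section (hjac : I ≤ Ideal.jacobson ⊥) (hG : Gabber I)
    (A' : Type u) [CommRing A'] [Algebra A A'] [Algebra.Etale A A'] (σ : A' →ₐ[A] A ⧸ I) :
    ∃ e : A', IsIdempotentElem e ∧ σ e = 1 ∧ ∀ x : A', ∃ a : A, e * x = algebraMap A A' a * e := by
  classical
  obtain ⟨B, b₀, e, hBfg, hb₀B, hσb₀, hgood, he, hσe, hKF⟩ :=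
    exists_idempotent_in_subalgebra hjac hG A' σ
  have hfin : Module.Finite A B := ⟨(Submodule.fg_top _).mpr hBfg⟩
  have hlift : ∀ x : A', ∃ a : A, σ x = Ideal.Quotient.mk I a :=
    fun x => (Ideal.Quotient.mk_surjective (σ x)).imp fun a ha => ha.symm
  choose α hα using hlift
  set L : B →ₗ[A] B := LinearMap.mulLeft A e with hL
  set N' : Submodule A B := Submodule.map L ⊤ with hN'
  have hN'fg : N'.FG := Module.Finite.fg_top.map L
  have hmemN' : ∀ x : B, e * x ∈ N' := fun x => ⟨x, trivial, rfl⟩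
  have hI : ∀ y : B, σ (y : A') = 0 → e * y ∈ I • N' := by
    intro y hy
    have h1 : e * y ∈ I • (⊤ : Submodule A B) := by
      rw [Ideal.smul_top_eq_map]
      exact hKF y hy
    have h2 : L (e * y) ∈ Submodule.map L (I • (⊤ : Submodule A B)) := ⟨_, h1, rfl⟩
    rw [Submodule.map_smul''] at h2
    have h3 : L (e * y) = e * y := by
      simp only [hL, LinearMap.mulLeft_apply]
      rw [← mul_assoc, he.eq]
    rwa [h3] at h2
  -- `eB = Ae`
  have hE3 : N' ≤ Submodule.span A {e} := by
    refine Submodule.le_of_le_smul_of_le_jacobson_bot hN'fg hjac ?_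
    rintro _ ⟨x, -, rfl⟩
    have hx : L x = α (x : A') • e + e * (x - algebraMap A B (α (x : A'))) := by
      simp only [hL, LinearMap.mulLeft_apply, Algebra.smul_def]
      ring
    rw [hx]
    refine Submodule.add_mem _ (Submodule.mem_sup_left
      (Submodule.smul_mem _ _ (Submodule.mem_span_singleton_self e))) (Submodule.mem_sup_right ?_)
    apply hI
    push_cast
    rw [map_sub, hα (x : A')]
    simp
  -- `e ∈ b₀ e B`
  set b₀' : B := ⟨b₀, hb₀B⟩ with hb₀'
  have hE4 : N' ≤ Submodule.map (LinearMap.mulLeft A (b₀' * e)) ⊤ := by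
    refine Submodule.le_of_le_smul_of_le_jacobson_bot hN'fg hjac ?_
    rintro _ ⟨x, -, rfl⟩
    have hx : L x = (b₀' * e) * x + e * (x * (1 - b₀')) := by
      simp only [hL, LinearMap.mulLeft_apply]
      ring
    rw [hx]
    refine Submodule.add_mem _ (Submodule.mem_sup_left ⟨x, trivial, rfl⟩)
      (Submodule.mem_sup_right ?_)
    apply hI
    push_cast
    rw [map_mul, map_sub, hσb₀, map_one, sub_self, mul_zero]
  obtain ⟨y, -, hy⟩ := hE4 (by simpa [he.eq] using hmemN' e : e ∈ N')
  simp only [LinearMap.mulLeft_apply] at hy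
  set β : B := b₀' * y with hβ
  have heβ : e * β = e := by
    have : e * β = b₀' * e * y := by rw [hβ]; ring
    rw [this, hy]
  have heβN : ∀ N : ℕ, e * β ^ N = e := by
    intro N
    induction N with
    | zero => simp
    | succ N ih => rw [pow_succ, ← mul_assoc, ih, heβ]
  refine ⟨(e : A'), ?_, hσe, fun x => ?_⟩
  · have := congrArg (Subtype.val) he.eq
    exact this
  · obtain ⟨N, hN⟩ := hgood x
    set z : B := y ^ N * ⟨b₀ ^ N * x, hN N le_rfl⟩ with hz
    have h1 : (e : A') * x = ((e * z : B) : A') := by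
      have h2 : (e : A') * (b₀ * (y : A')) ^ N = (e : A') := by
        have := congrArg (Subtype.val) (heβN N)
        simpa [hβ, hb₀'] using this
      calc (e : A') * x = ((e : A') * (b₀ * (y : A')) ^ N) * x := by rw [h2]
        _ = ((e * z : B) : A') := by rw [hz]; push_cast; ring
    obtain ⟨a, ha⟩ := Submodule.mem_span_singleton.mp (hE3 (hmemN' z))
    refine ⟨a, ?_⟩
    rw [h1, ← ha, Algebra.smul_def]
    push_cast
    rfl

/-- **Étale lifting for pairs satisfying Gabber's condition** (Stacks 09XI, (5) ⇒ (2)). -/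
theorem exists_lift_of_gabber (hjac : I ≤ Ideal.jacobson ⊥) (hG : Gabber I)
    (A' : Type u) [CommRing A'] [Algebra A A'] [Algebra.Etale A A'] (σ : A' →ₐ[A] A ⧸ I) :
    ∃ τ : A' →ₐ[A] A, (Ideal.Quotient.mkₐ A I).comp τ = σ := by
  obtain ⟨e, he, hσe, hE5⟩ := exists_idempotent_section hjac hG A' σ
  set C := A' ⧸ Ideal.span {1 - e} with hC
  have hloc : IsLocalization.Away e C := IsLocalization.Away.quotient_of_isIdempotentElem he
  have h1 : Algebra.FormallyEtale A' C := Algebra.FormallyEtale.of_isLocalization (Submonoid.powers e)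
  have h2 : Algebra.FormallyEtale A C := Algebra.FormallyEtale.comp A A' C
  have h3 : Algebra.FinitePresentation A' C := IsLocalization.Away.finitePresentation e
  have h4 : Algebra.FinitePresentation A C := Algebra.FinitePresentation.trans A A' C
  have hmke : (Ideal.Quotient.mk (Ideal.span {1 - e}) e : C) = 1 := by
    have h0 : (Ideal.Quotient.mk (Ideal.span {1 - e}) (1 - e) : C) = 0 :=
      Ideal.Quotient.eq_zero_iff_mem.mpr (Ideal.mem_span_singleton_self _)
    rw [map_sub, map_one, sub_eq_zero] at h0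
    exact h0.symm
  have hsurj : Function.Surjective (algebraMap A C) := by
    intro c
    obtain ⟨x, rfl⟩ := Ideal.Quotient.mk_surjective c
    obtain ⟨a, ha⟩ := hE5 x
    refine ⟨a, ?_⟩
    have := congrArg (Ideal.Quotient.mk (Ideal.span {1 - e})) ha
    rw [map_mul, map_mul, hmke, one_mul, mul_one] at this
    rw [this]
    rfl
  have hσspan : ∀ x ∈ Ideal.span {1 - e}, σ x = 0 := by
    intro x hx
    obtain ⟨c, rfl⟩ := Ideal.mem_span_singleton'.mp hx
    rw [map_mul, map_sub, map_one, hσe, sub_self, mul_zero]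
  set K := RingHom.ker (algebraMap A C) with hK
  have hKI : K ≤ I := by
    intro a ha
    have h : (Ideal.Quotient.mk (Ideal.span {1 - e})) (algebraMap A A' a) = 0 := ha
    have := hσspan _ (Ideal.Quotient.eq_zero_iff_mem.mp h)
    rw [AlgHom.commutes] at this
    exact Ideal.Quotient.eq_zero_iff_mem.mp this
  have hKidem : IsIdempotentElem K := (Algebra.FormallyEtale.iff_of_surjective hsurj).mp h2
  have hKfg : K.FG := Algebra.FinitePresentation.ker_fG_of_surjective (Algebra.ofId A C) hsurj
  have hKbot : K = ⊥ := by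
    refine Submodule.eq_bot_of_le_smul_of_le_jacobson_bot I K hKfg ?_ hjac
    rw [smul_eq_mul]
    conv_lhs => rw [← hKidem.eq]
    exact Ideal.mul_mono_left hKI
  have hinj : Function.Injective (algebraMap A C) :=
    (RingHom.injective_iff_ker_eq_bot _).mpr hKbot
  set φ : A ≃ₐ[A] C := AlgEquiv.ofBijective (Algebra.ofId A C) ⟨hinj, hsurj⟩ with hφ
  refine ⟨φ.symm.toAlgHom.comp (Ideal.Quotient.mkₐ A _), ?_⟩
  ext x
  set a : A := φ.symm (Ideal.Quotient.mk _ x) with ha
  have hax : algebraMap A C a = Ideal.Quotient.mk _ x := φ.apply_symm_apply _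
  have hmem : x - algebraMap A A' a ∈ Ideal.span {1 - e} := by
    rw [← Ideal.Quotient.eq_zero_iff_mem, map_sub, sub_eq_zero, ← hax]
    rfl
  have := hσspan _ hmem
  rw [map_sub, sub_eq_zero, AlgHom.commutes] at this
  rw [this]
  rfl

/-- Evaluating a polynomial with coefficients in `I` lands in `I`. -/
theorem eval_mem_of_coeff_mem (p : A[X]) (hp : ∀ i, p.coeff i ∈ I) (a : A) : p.eval a ∈ I := by
  rw [eval_eq_sum_range]
  exact Ideal.sum_mem _ fun i _ => Ideal.mul_mem_right _ _ (hp i)

/-- A Henselian pair (in Mathlib's root-lifting sense) satisfies Gabber's condition. -/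
theorem gabber_of_henselianRing (h : HenselianRing A I) : Gabber I := by
  intro n hn p hpdeg hpI
  cases subsingleton_or_nontrivial A with
  | inl hs => exact ⟨1, by simp, Subsingleton.elim _ _⟩
  | inr hA =>
  set f : A[X] := X ^ n * (X - 1) + p with hf
  have hRmonic : (X ^ n * (X - 1) : A[X]).Monic := by
    rw [show (X - 1 : A[X]) = X - C 1 by simp]
    exact (monic_X_pow _).mul (monic_X_sub_C (1 : A))
  have hRdeg : (X ^ n * (X - 1) : A[X]).natDegree = n + 1 := by
    rw [show (X - 1 : A[X]) = X - C 1 by simp,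
      Monic.natDegree_mul (monic_X_pow _) (monic_X_sub_C (1 : A)), natDegree_X_pow,
      natDegree_X_sub_C]
  have hfmonic : f.Monic := by
    refine hRmonic.add_of_left ?_
    rw [degree_eq_natDegree hRmonic.ne_zero, hRdeg]
    exact (degree_le_natDegree).trans_lt (by exact_mod_cast Nat.lt_succ_of_le hpdeg)
  have h0 : f.eval 1 ∈ I := by
    simp only [hf, eval_add, eval_mul, eval_pow, eval_X, eval_sub, eval_one, sub_self, mul_zero,
      zero_add]
    exact eval_mem_of_coeff_mem p hpI 1
  have h1 : IsUnit (Ideal.Quotient.mk I (f.derivative.eval 1)) := by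
    have hder : f.derivative.eval 1 = 1 + p.derivative.eval 1 := by
      simp [hf, derivative_mul]
    have hpd : p.derivative.eval 1 ∈ I := by
      apply eval_mem_of_coeff_mem
      intro i
      rw [coeff_derivative]
      exact Ideal.mul_mem_right _ _ (hpI _)
    rw [hder, map_add, map_one, Ideal.Quotient.eq_zero_iff_mem.mpr hpd, add_zero]
    exact isUnit_one
  obtain ⟨a, ha, ha1⟩ := h.is_henselian f hfmonic 1 h0 h1
  exact ⟨a, ha1, ha⟩

/-- **Étale lifting for Henselian pairs** (Stacks 09XI, (1) ⇒ (2)). -/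
theorem exists_lift_of_henselianRing (h : HenselianRing A I)
    (A' : Type u) [CommRing A'] [Algebra A A'] [Algebra.Etale A A'] (σ : A' →ₐ[A] A ⧸ I) :
    ∃ τ : A' →ₐ[A] A, (Ideal.Quotient.mkₐ A I).comp τ = σ :=
  exists_lift_of_gabber h.jac (gabber_of_henselianRing h) A' σ

/-- Étale lifting implies that `I` is contained in the Jacobson radical. -/
theorem le_jacobson_of_forall_exists_lift
    (h : ∀ (A' : Type u) [CommRing A'] [Algebra A A'] [Algebra.Etale A A'] (σ : A' →ₐ[A] A ⧸ I),
      ∃ τ : A' →ₐ[A] A, (Ideal.Quotient.mkₐ A I).comp τ = σ) : I ≤ Ideal.jacobson ⊥ := by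
  intro i hi
  rw [Ideal.mem_jacobson_bot]
  intro y
  set s : A := i * y + 1 with hs
  have hs1 : Ideal.Quotient.mk I s = 1 := by
    rw [hs, map_add, map_one, Ideal.Quotient.eq_zero_iff_mem.mpr (I.mul_mem_right _ hi), zero_add]
  let σ : Localization.Away s →ₐ[A] A ⧸ I :=
    IsLocalization.Away.liftAlgHom (f := Ideal.Quotient.mkₐ A I) s
      (by change IsUnit (Ideal.Quotient.mk I s); rw [hs1]; exact isUnit_one)
  obtain ⟨τ, -⟩ := h (Localization.Away s) σ
  have := (IsLocalization.Away.algebraMap_isUnit (S := Localization.Away s) s).map τ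
  rwa [AlgHom.commutes] at this

/-- Étale lifting implies the Henselian property (Stacks 09XI, (2) ⇒ (1)). -/
theorem henselianRing_of_forall_exists_lift
    (h : ∀ (A' : Type u) [CommRing A'] [Algebra A A'] [Algebra.Etale A A'] (σ : A' →ₐ[A] A ⧸ I),
      ∃ τ : A' →ₐ[A] A, (Ideal.Quotient.mkₐ A I).comp τ = σ) : HenselianRing A I := by
  refine ⟨le_jacobson_of_forall_exists_lift h, fun f hf a₀ h0 h1 => ?_⟩
  set g₀ := f /ₘ (X - C a₀) with hgdef
  have hfg : f = (X - C a₀) * g₀ + C (f.eval a₀) := by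
    have := modByMonic_add_div f (X - C a₀)
    rw [modByMonic_X_sub_C_eq_C_eval] at this
    rw [hgdef]
    linear_combination -this
  have hg0 : g₀.eval a₀ = f.derivative.eval a₀ := by
    conv_rhs => rw [hfg]
    simp [derivative_mul]
  let P : StandardEtalePair A := ⟨f, hf, g₀ * derivative f, ⟨g₀, 0, 1, by ring⟩⟩
  have hmap : P.HasMap (Ideal.Quotient.mk I a₀ : A ⧸ I) := by
    constructor
    · change aeval (Ideal.Quotient.mk I a₀) f = 0
      rw [aeval_def, Ideal.Quotient.algebraMap_eq, eval₂_at_apply]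
      exact Ideal.Quotient.eq_zero_iff_mem.mpr h0
    · change IsUnit (aeval (Ideal.Quotient.mk I a₀) (g₀ * derivative f))
      rw [map_mul, aeval_def, aeval_def, Ideal.Quotient.algebraMap_eq, eval₂_at_apply,
        eval₂_at_apply, hg0]
      exact h1.mul h1
  obtain ⟨ρ, hρ⟩ := h P.Ring (P.lift _ hmap)
  have hm : P.HasMap (ρ P.X) := (StandardEtalePair.hasMap_X (P := P)).map ρ
  set a := ρ P.X with ha
  have hfa : f.eval a = 0 := by
    have := hm.1
    rwa [coe_aeval_eq_eval] at this
  refine ⟨a, hfa, ?_⟩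
  have := congrArg (fun φ : P.Ring →ₐ[A] A ⧸ I => φ P.X) hρ
  simp only [AlgHom.comp_apply, StandardEtalePair.lift_X] at this
  rw [← Ideal.Quotient.eq_zero_iff_mem, map_sub, sub_eq_zero]
  exact this

/-- Gabber's criterion (Stacks 09XI, (5) ⇒ (1)). -/
theorem henselianRing_of_gabber (hjac : I ≤ Ideal.jacobson ⊥) (hG : Gabber I) :
    HenselianRing A I :=
  henselianRing_of_forall_exists_lift fun A' _ _ _ σ => exists_lift_of_gabber hjac hG A' σ

theorem mk_eval (q : A[X]) (a : A) :
    Ideal.Quotient.mk I (q.eval a) = (q.map (Ideal.Quotient.mk I)).eval (Ideal.Quotient.mk I a) := by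
  rw [eval_map, eval₂_at_apply]

/-- Uniqueness of the root in Gabber's condition. -/
theorem gabber_root_unique (hjac : I ≤ Ideal.jacobson ⊥) (n : ℕ) (p : A[X])
    (hpI : ∀ i, p.coeff i ∈ I) (α β : A) (hα : α - 1 ∈ I) (hβ : β - 1 ∈ I)
    (hαr : (X ^ n * (X - 1) + p).IsRoot α) (hβr : (X ^ n * (X - 1) + p).IsRoot β) : α = β := by
  set f : A[X] := X ^ n * (X - 1) + p with hf
  obtain ⟨k, hk⟩ := f.binomExpansion α (β - α)
  have hαβ : α + (β - α) = β := by ring
  rw [hαβ, hβr.eq_zero, hαr.eq_zero, zero_add] at hk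
  have hpmap : p.map (Ideal.Quotient.mk I) = 0 := by
    ext i
    rw [coeff_map, coeff_zero]
    exact Ideal.Quotient.eq_zero_iff_mem.mpr (hpI i)
  have hα1 : Ideal.Quotient.mk I α = 1 := by
    rw [← sub_eq_zero, ← map_one (Ideal.Quotient.mk I), ← map_sub]
    exact Ideal.Quotient.eq_zero_iff_mem.mpr hα
  have hder : Ideal.Quotient.mk I (f.derivative.eval α) = 1 := by
    rw [mk_eval, hα1, ← derivative_map, hf, Polynomial.map_add, hpmap, add_zero]
    simp [derivative_mul]
  have hmem : f.derivative.eval α + k * (β - α) - 1 ∈ I := by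
    rw [← Ideal.Quotient.eq_zero_iff_mem, map_sub, map_add, hder, map_one, map_mul, map_sub,
      hα1]
    have hβ1 : Ideal.Quotient.mk I β = 1 := by
      rw [← sub_eq_zero, ← map_one (Ideal.Quotient.mk I), ← map_sub]
      exact Ideal.Quotient.eq_zero_iff_mem.mpr hβ
    rw [hβ1]
    ring
  have hunit : IsUnit (f.derivative.eval α + k * (β - α)) := by
    have := (Ideal.mem_jacobson_bot.mp (hjac hmem)) 1
    simpa using this
  have h0 : (f.derivative.eval α + k * (β - α)) * (β - α) = 0 := by
    linear_combination -hk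
  have := (hunit.mul_right_eq_zero).mp h0
  exact (sub_eq_zero.mp this).symm

/-- If `I` is contained in the Jacobson radical and `A/I` is trivial then `A` is trivial. -/
theorem subsingleton_of_le_jacobson (hjac : I ≤ Ideal.jacobson ⊥) (h : Subsingleton (A ⧸ I)) :
    Subsingleton A := by
  have hI : I = ⊤ := Ideal.Quotient.subsingleton_iff.mp h
  have h1 : (1 : A) ∈ Ideal.jacobson (⊥ : Ideal A) := hjac (hI ▸ trivial)
  have := (Ideal.mem_jacobson_bot.mp h1) (-1)
  have h0 : IsUnit (0 : A) := by simpa using this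
  exact subsingleton_of_zero_eq_one (isUnit_zero_iff.mp h0)

/-- **Factorizations lift along a Henselian pair** (Stacks 09XI, (2) ⇒ (1)). -/
theorem exists_factorization_of_henselianRing (h : HenselianRing A I) (f : A[X]) (hf : f.Monic)
    (g₀ h₀ : (A ⧸ I)[X]) (hg : g₀.Monic) (hh : h₀.Monic) (hcop : IsCoprime g₀ h₀)
    (hfgh : f.map (Ideal.Quotient.mk I) = g₀ * h₀) :
    ∃ g' h' : A[X], g'.Monic ∧ h'.Monic ∧ f = g' * h' ∧ IsCoprime g' h' ∧
      g'.map (Ideal.Quotient.mk I) = g₀ ∧ h'.map (Ideal.Quotient.mk I) = h₀ := by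
  rcases subsingleton_or_nontrivial (A ⧸ I) with hsub | hnt
  · have := subsingleton_of_le_jacobson h.jac hsub
    exact ⟨f, 1, hf, monic_one, by simp, isCoprime_one_right, Subsingleton.elim _ _,
      Subsingleton.elim _ _⟩
  · have hn : f.natDegree = g₀.natDegree + h₀.natDegree := by
      have := congrArg Polynomial.natDegree hfgh
      rw [hf.natDegree_map, hg.natDegree_mul hh] at this
      exact this
    let p : MonicDegreeEq A f.natDegree := .mk f hf rfl
    let σ : UniversalCoprimeFactorizationRing g₀.natDegree h₀.natDegree hn p →ₐ[A] A ⧸ I :=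
      (UniversalCoprimeFactorizationRing.homEquiv (A ⧸ I) g₀.natDegree h₀.natDegree hn p).symm
        ⟨(.mk g₀ hg rfl, .mk h₀ hh rfl), by
          change g₀ * h₀ = f.map (algebraMap A (A ⧸ I))
          rw [← hfgh]; rfl, hcop⟩
    obtain ⟨τ, hτ⟩ := exists_lift_of_henselianRing h _ σ
    let q := UniversalCoprimeFactorizationRing.homEquiv A g₀.natDegree h₀.natDegree hn p τ
    have hσq : UniversalCoprimeFactorizationRing.homEquiv (A ⧸ I) g₀.natDegree h₀.natDegree hn p σ =
        ⟨(.mk g₀ hg rfl, .mk h₀ hh rfl), by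
          change g₀ * h₀ = f.map (algebraMap A (A ⧸ I))
          rw [← hfgh]; rfl, hcop⟩ := Equiv.apply_symm_apply _ _
    refine ⟨q.1.1.1, q.1.2.1, q.1.1.monic, q.1.2.monic, ?_, q.2.2, ?_, ?_⟩
    · have := q.2.1
      rw [this]
      change f = f.map (RingHom.id A)
      rw [Polynomial.map_id]
    · have h1 := UniversalCoprimeFactorizationRing.homEquiv_comp_fst A g₀.natDegree h₀.natDegree hn p
        τ (Ideal.Quotient.mkₐ A I)
      rw [hτ, hσq] at h1
      exact (congrArg Subtype.val h1).symm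
    · have h1 := UniversalCoprimeFactorizationRing.homEquiv_comp_snd A g₀.natDegree h₀.natDegree hn p
        τ (Ideal.Quotient.mkₐ A I)
      rw [hτ, hσq] at h1
      exact (congrArg Subtype.val h1).symm

/-- Factorization lifting implies the Henselian property (Stacks 09XI, (1) ⇒ Mathlib's definition). -/
theorem henselianRing_of_factorization (hjac : I ≤ Ideal.jacobson ⊥)
    (hF : ∀ f : A[X], f.Monic → ∀ g₀ h₀ : (A ⧸ I)[X], g₀.Monic → h₀.Monic →
      IsCoprime g₀ h₀ → f.map (Ideal.Quotient.mk I) = g₀ * h₀ →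
      ∃ g h : A[X], g.Monic ∧ h.Monic ∧ f = g * h ∧
        g.map (Ideal.Quotient.mk I) = g₀ ∧ h.map (Ideal.Quotient.mk I) = h₀) :
    HenselianRing A I := by
  refine ⟨hjac, fun f hf a₀ h0 h1 => ?_⟩
  rcases subsingleton_or_nontrivial (A ⧸ I) with hsub | hnt
  · have := subsingleton_of_le_jacobson hjac hsub
    exact ⟨a₀, Subsingleton.elim _ _, by rw [Subsingleton.elim (a₀ - a₀) 0]; exact zero_mem _⟩
  set mk := Ideal.Quotient.mk I with hmk
  set fb : (A ⧸ I)[X] := f.map mk with hfb
  have hfbm : fb.Monic := hf.map _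
  have hroot : fb.IsRoot (mk a₀) := by
    rw [IsRoot, hfb, eval_map, eval₂_at_apply]
    exact Ideal.Quotient.eq_zero_iff_mem.mpr h0
  set g₁ : (A ⧸ I)[X] := fb /ₘ (X - C (mk a₀)) with hg₁
  have hfg : (X - C (mk a₀)) * g₁ = fb := mul_divByMonic_eq_iff_isRoot.mpr hroot
  have hg₁m : g₁.Monic := (monic_X_sub_C (mk a₀)).of_mul_monic_left (hfg ▸ hfbm)
  have hg₁e : g₁.eval (mk a₀) = mk (f.derivative.eval a₀) := by
    have h2 : fb.derivative.eval (mk a₀) = mk (f.derivative.eval a₀) := by
      rw [hfb, derivative_map, eval_map, eval₂_at_apply]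
    rw [← h2, ← hfg]
    simp [derivative_mul]
  have hcop : IsCoprime (X - C (mk a₀)) g₁ := by
    obtain ⟨v, hv⟩ := h1.exists_left_inv
    have hmod := modByMonic_add_div g₁ (X - C (mk a₀))
    rw [modByMonic_X_sub_C_eq_C_eval, hg₁e] at hmod
    refine ⟨-(C v * (g₁ /ₘ (X - C (mk a₀)))), C v, ?_⟩
    have hC : (C v : (A ⧸ I)[X]) * C (mk (f.derivative.eval a₀)) = 1 := by
      rw [← C_mul, hv, C_1]
    linear_combination (-(C v)) * hmod + hC
  obtain ⟨g, h, hgm, hhm, hfgh, hgmap, hhmap⟩ :=
    hF f hf (X - C (mk a₀)) g₁ (monic_X_sub_C _) hg₁m hcop hfg.symm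
  have hgdeg : g.natDegree = 1 := by
    have := congrArg natDegree hgmap
    rwa [hgm.natDegree_map, natDegree_X_sub_C] at this
  have hgeq := hgm.eq_X_add_C hgdeg
  refine ⟨-g.coeff 0, ?_, ?_⟩
  · rw [IsRoot, hfgh, eval_mul]
    have : g.eval (-g.coeff 0) = 0 := by
      conv_lhs => rw [hgeq]
      simp
    rw [this, zero_mul]
  · rw [← Ideal.Quotient.eq_zero_iff_mem, map_sub, map_neg, sub_eq_zero]
    have := congrArg (fun q => q.coeff 0) hgmap
    simp only [coeff_map, coeff_sub, coeff_X_zero, coeff_C_zero, zero_sub] at this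
    rw [this, neg_neg]


end Groth.Agent.Lib.helper26.HenselPair
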