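import Mathlib
import Groth.Agent.Lib.Helper26.HenselPair
import Groth.Agent.S2041
import Groth.Agent.Lib.Helper26.EtaleLiftIdem

/-!
# Henselian pairs and idempotents (helper26)

`bijOn_idempotents_of_henselianRing`: for a Henselian pair `(A, I)` and an integral `A`-algebra `B`
reduction modulo `IB` is a bijection on idempotents (Stacks 09XI, (2) ⇒ (4)).
`henselianRing_of_bijOn_idempotents`: the converse, testing only on finite algebras
(Stacks 09XI, (3) ⇒ (1)).
-/

universe u

namespace Groth.Agent.Lib.helper26.HenselPair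

open Polynomial TensorProduct

variable {A : Type u} [CommRing A] {I : Ideal A}

/-- Idempotents congruent modulo an ideal contained in the Jacobson radical are equal. -/
theorem idempotent_eq_of_sub_mem {B : Type*} [CommRing B] {J : Ideal B} (hJ : J ≤ Ideal.jacobson ⊥)
    {e₁ e₂ : B} (h₁ : IsIdempotentElem e₁) (h₂ : IsIdempotentElem e₂) (h : e₁ - e₂ ∈ J) :
    e₁ = e₂ := by
  set x := e₁ - e₂ with hx
  have h3 : x * (1 - x * x) = 0 := by
    have e1 : e₁ * e₁ = e₁ := h₁.eq
    have e2 : e₂ * e₂ = e₂ := h₂.eq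
    rw [hx]
    linear_combination (-e₁ - 1 + 3 * e₂) * e1 + (e₂ + 1 - 3 * e₁) * e2
  have hunit : IsUnit (1 - x * x) := by
    have := (Ideal.mem_jacobson_bot.mp (hJ h)) (-x)
    have h4 : x * -x + 1 = 1 - x * x := by ring
    rwa [h4] at this
  have := (hunit.mul_left_eq_zero).mp h3
  exact sub_eq_zero.mp this

/-- Idempotents lift along integral algebras over a Henselian pair. -/
theorem exists_idempotent_lift_of_henselianRing (h : HenselianRing A I) (B : Type u) [CommRing B]
    [Algebra A B] [Algebra.IsIntegral A B] (e : B ⧸ I.map (algebraMap A B))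
    (he : IsIdempotentElem e) :
    ∃ e' : B, IsIdempotentElem e' ∧ Ideal.Quotient.mk (I.map (algebraMap A B)) e' = e := by
  obtain ⟨A', _, _, hét, hbij, e', he', hlift⟩ := Groth.Agent.S2041.result I e he
  -- a section `A' → A/I`
  let ι : (A ⧸ I) ≃+* (A' ⧸ I.map (algebraMap A A')) := RingEquiv.ofBijective _ hbij
  let σ : A' →ₐ[A] A ⧸ I :=
    { toRingHom := ι.symm.toRingHom.comp (Ideal.Quotient.mk (I.map (algebraMap A A')))
      commutes' := by
        intro a
        simp only [RingHom.toMonoidHom_eq_coe, RingEquiv.toRingHom_eq_coe, OneHom.toFun_eq_coe,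
          MonoidHom.toOneHom_coe, MonoidHom.coe_coe, RingHom.coe_comp, RingHom.coe_coe,
          Function.comp_apply]
        rw [RingEquiv.symm_apply_eq]
        rfl }
  obtain ⟨τ, -⟩ := exists_lift_of_henselianRing h A' σ
  let φ : A' ⊗[A] B →ₐ[A] B :=
    Algebra.TensorProduct.lift ((Algebra.ofId A B).comp τ) (AlgHom.id A B)
      (fun _ _ => Commute.all _ _)
  obtain ⟨b, hb⟩ := Ideal.Quotient.mk_surjective e
  refine ⟨φ e', he'.map φ, ?_⟩
  rw [← hb, Ideal.Quotient.eq]
  have h1 := hlift b hb
  have h2 : φ (e' - 1 ⊗ₜ b) ∈ I.map (algebraMap A B) := by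
    have hle : I.map (algebraMap A (A' ⊗[A] B)) ≤ (I.map (algebraMap A B)).comap φ.toRingHom := by
      rw [Ideal.map_le_iff_le_comap]
      intro i hi
      rw [Ideal.mem_comap, Ideal.mem_comap]
      change φ (algebraMap A (A' ⊗[A] B) i) ∈ _
      rw [AlgHom.commutes]
      exact Ideal.mem_map_of_mem _ hi
    exact hle h1
  rw [map_sub] at h2
  have h3 : φ ((1 : A') ⊗ₜ[A] b) = b := by simp [φ]
  rwa [h3] at h2

/-- Stacks 09XI, (1) ⇒ (4). -/
theorem bijOn_idempotents_of_henselianRing (h : HenselianRing A I) (B : Type u) [CommRing B]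
    [Algebra A B] [Algebra.IsIntegral A B] :
    Set.BijOn (Ideal.Quotient.mk (I.map (algebraMap A B)))
      {e : B | IsIdempotentElem e} {e | IsIdempotentElem e} := by
  refine ⟨fun e he => he.map _, ?_, ?_⟩
  · intro e₁ h₁ e₂ h₂ h12
    refine idempotent_eq_of_sub_mem (map_le_jacobson_of_isIntegral h.jac B) h₁ h₂ ?_
    rwa [← Ideal.Quotient.eq]
  · intro e he
    obtain ⟨e', he', hee'⟩ := exists_idempotent_lift_of_henselianRing h B e he
    exact ⟨e', he', hee'⟩

/-- `q(t) - q(a)` is divisible by `t - a`. -/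
theorem exists_aeval_sub_eq {B : Type*} [CommRing B] [Algebra A B] (q : A[X]) (t : B) (a : A) :
    ∃ c : B, aeval t q - algebraMap A B (q.eval a) = (t - algebraMap A B a) * c := by
  obtain ⟨c, hc⟩ := Polynomial.sub_dvd_eval_sub t (algebraMap A B a) (q.map (algebraMap A B))
  refine ⟨c, ?_⟩
  rw [← hc, eval_map, eval_map, eval₂_at_apply, aeval_def]

/-- Injectivity on idempotents of finite algebras forces `I` into the Jacobson radical. -/
theorem le_jacobson_of_injOn_idempotents
    (h : ∀ (B : Type u) [CommRing B] [Algebra A B], Module.Finite A B →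
      Set.InjOn (Ideal.Quotient.mk (I.map (algebraMap A B))) {e : B | IsIdempotentElem e}) :
    I ≤ Ideal.jacobson ⊥ := by
  rw [Ideal.jacobson, le_sInf_iff]
  rintro 𝔪 ⟨-, h𝔪⟩
  by_contra hI
  obtain ⟨i, hiI, hi𝔪⟩ := Set.not_subset.mp hI
  obtain ⟨c, μ, hμ, hc⟩ := h𝔪.exists_inv hi𝔪
  -- `c * i + μ = 1`
  set i' : A := c * i with hi'
  have hi'I : i' ∈ I := I.mul_mem_left _ hiI
  set B := A ⧸ (I ⊓ 𝔪) with hB
  have hinj := h B inferInstance
  have he1 : IsIdempotentElem (Ideal.Quotient.mk (I ⊓ 𝔪) i' : B) := by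
    change _ * _ = _
    rw [← map_mul, Ideal.Quotient.eq]
    have : i' * i' - i' = -(i' * μ) := by linear_combination i' * hc
    rw [this]
    exact neg_mem ⟨I.mul_mem_right _ hi'I, 𝔪.mul_mem_left _ hμ⟩
  have he0 : IsIdempotentElem (0 : B) := IsIdempotentElem.zero
  have hmap : Ideal.Quotient.mk (I.map (algebraMap A B)) (Ideal.Quotient.mk (I ⊓ 𝔪) i' : B) =
      Ideal.Quotient.mk (I.map (algebraMap A B)) (0 : B) := by
    rw [map_zero, Ideal.Quotient.eq_zero_iff_mem]
    exact Ideal.mem_map_of_mem _ hi'I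
  have h0 := hinj he1 he0 hmap
  have hmem : i' ∈ I ⊓ 𝔪 := Ideal.Quotient.eq_zero_iff_mem.mp h0
  have h1 : (1 : A) ∈ 𝔪 := by
    rw [← hc]
    exact 𝔪.add_mem hmem.2 hμ
  exact h𝔪.ne_top ((Ideal.eq_top_iff_one _).mpr h1)

/-- A linear functional maps `IB` into `I`. -/
theorem linearMap_mem_of_mem_map {B : Type*} [CommRing B] [Algebra A B] (l : B →ₗ[A] A) (x : B)
    (hx : x ∈ I.map (algebraMap A B)) : l x ∈ I := by
  have hx' : x ∈ I • (⊤ : Submodule A B) := by
    rw [Ideal.smul_top_eq_map]; exact hx
  refine Submodule.smul_induction_on hx' (fun i hi y _ => ?_) (fun y z hy hz => ?_)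
  · rw [map_smul, smul_eq_mul]
    exact I.mul_mem_right _ hi
  · rw [map_add]
    exact I.add_mem hy hz

/-- Core of the implication (3) ⇒ (5): an idempotent of `A[T]/(Tⁿ(T-1)+p)` congruent to `tⁿ`
modulo `I` produces a root of `Tⁿ(T-1)+p` in `1 + I`. -/
theorem gabber_root_of_idempotent (hjac : I ≤ Ideal.jacobson ⊥) [Nontrivial A] (n : ℕ) (p : A[X])
    (hpdeg : p.natDegree ≤ n) (hpI : ∀ i, p.coeff i ∈ I) (f : A[X])
    (hf : f = X ^ n * (X - 1) + p)
    (e : AdjoinRoot f) (he : IsIdempotentElem e)
    (heb : e - (AdjoinRoot.root f) ^ n ∈ I.map (algebraMap A (AdjoinRoot f))) :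
    ∃ α : A, α - 1 ∈ I ∧ f.IsRoot α := by
  have hRmonic : (X ^ n * (X - 1) : A[X]).Monic := by
    rw [show (X - 1 : A[X]) = X - C 1 by simp]
    exact (monic_X_pow _).mul (monic_X_sub_C (1 : A))
  have hRdeg : (X ^ n * (X - 1) : A[X]).natDegree = n + 1 := by
    rw [show (X - 1 : A[X]) = X - C 1 by simp,
      Monic.natDegree_mul (monic_X_pow _) (monic_X_sub_C (1 : A)), natDegree_X_pow,
      natDegree_X_sub_C]
  have hplt : p.degree < (X ^ n * (X - 1) : A[X]).degree := by
    rw [degree_eq_natDegree hRmonic.ne_zero, hRdeg]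
    exact (degree_le_natDegree).trans_lt (by exact_mod_cast Nat.lt_succ_of_le hpdeg)
  have hfmonic : f.Monic := hf ▸ hRmonic.add_of_left hplt
  have hfdeg : f.natDegree = n + 1 := by
    rw [hf, natDegree_add_eq_left_of_degree_lt hplt, hRdeg]
  have hfe : ∀ {B' : Type u} [CommRing B'] [Algebra A B'] (t' : B'),
      aeval t' f = t' ^ n * (t' - 1) + aeval t' p := by
    intro B' _ _ t'
    rw [hf, map_add, map_mul, map_pow, map_sub, aeval_X, map_one]
  have hfin : Module.Finite A (AdjoinRoot f) := hfmonic.finite_adjoinRoot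
  set K := I.map (algebraMap A (AdjoinRoot f)) with hK
  set t : (AdjoinRoot f) := AdjoinRoot.root f with ht
  have hft : aeval t f = 0 := AdjoinRoot.aeval_eq f ▸ AdjoinRoot.mk_self
  set π : (AdjoinRoot f) := aeval t p with hπ
  have hπK : π ∈ K := aeval_mem_map p hpI t
  have htn : t ^ n * (t - 1) = -π := by
    have := hft
    rw [hfe t] at this
    linear_combination this
  set b : (AdjoinRoot f) := t ^ n with hb
  have heb' : e - b ∈ K := heb
  have hte : (t - 1) * e ∈ K := by
    have : (t - 1) * e = (t - 1) * (e - b) - π := by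
      rw [hb]; linear_combination htn
    rw [this]
    exact K.sub_mem (K.mul_mem_left _ heb') hπK
  -- the coordinate functional at `tⁿ`
  let pb := AdjoinRoot.powerBasis' hfmonic
  have hdim : pb.dim = n + 1 := hfdeg
  let idx : Fin pb.dim := ⟨n, by rw [hdim]; exact Nat.lt_succ_self n⟩
  let l : (AdjoinRoot f) →ₗ[A] A := pb.basis.coord idx
  have hlb : l b = 1 := by
    have : b = pb.basis idx := by
      rw [pb.basis_eq_pow]
      rfl
    rw [this]
    change pb.basis.coord idx (pb.basis idx) = 1
    rw [Module.Basis.coord_apply, Module.Basis.repr_self, Finsupp.single_eq_same]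
  have hle1 : l e - 1 ∈ I := by
    rw [← hlb, ← map_sub]
    exact linearMap_mem_of_mem_map l _ heb'
  have hunit : IsUnit (l e) := by
    have := (Ideal.mem_jacobson_bot.mp (hjac hle1)) 1
    simpa using this
  -- `eB = Ae`
  set L : (AdjoinRoot f) →ₗ[A] (AdjoinRoot f) := LinearMap.mulLeft A e with hL
  set N' : Submodule A (AdjoinRoot f) := Submodule.map L ⊤ with hN'
  have hN'fg : N'.FG := Module.Finite.fg_top.map L
  have hIN : ∀ y : (AdjoinRoot f), y ∈ K → e * y ∈ I • N' := by
    intro y hy
    have h1 : y ∈ I • (⊤ : Submodule A (AdjoinRoot f)) := by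
      rw [Ideal.smul_top_eq_map]; exact hy
    have h2 : L y ∈ Submodule.map L (I • (⊤ : Submodule A (AdjoinRoot f))) := ⟨_, h1, rfl⟩
    rwa [Submodule.map_smul''] at h2
  have hE3 : N' ≤ Submodule.span A {e} := by
    refine Submodule.le_of_le_smul_of_le_jacobson_bot hN'fg hjac ?_
    rintro _ ⟨x, -, rfl⟩
    obtain ⟨q, rfl⟩ := AdjoinRoot.mk_surjective x
    obtain ⟨c, hc⟩ := exists_aeval_sub_eq q t 1
    rw [map_one] at hc
    have hx : L (AdjoinRoot.mk f q) = q.eval 1 • e + e * (e * ((t - 1) * e * c)) := by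
      have h3 : AdjoinRoot.mk f q = aeval t q := (AdjoinRoot.aeval_eq q).symm
      have h4 : aeval t q = algebraMap A (AdjoinRoot f) (q.eval 1) + (t - 1) * c := by
        linear_combination hc
      simp only [hL, LinearMap.mulLeft_apply]
      rw [h3, h4, Algebra.smul_def]
      have e1 : e * e = e := he.eq
      linear_combination (-(t - 1) * c * e - (t - 1) * c) * e1
    rw [hx]
    refine Submodule.add_mem _ (Submodule.mem_sup_left
      (Submodule.smul_mem _ _ (Submodule.mem_span_singleton_self e))) (Submodule.mem_sup_right ?_)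
    have h5 : e * (e * ((t - 1) * e * c)) = e * ((t - 1) * e * c * e) := by ring
    rw [h5]
    exact hIN _ (K.mul_mem_right _ (K.mul_mem_right _ hte))
  have hteN : t * e ∈ N' := ⟨t, trivial, by simp [hL, mul_comm]⟩
  obtain ⟨α, hα⟩ := Submodule.mem_span_singleton.mp (hE3 hteN)
  rw [Algebra.smul_def] at hα
  have hkill : ∀ a : A, algebraMap A (AdjoinRoot f) a * e = 0 → a = 0 := by
    intro a ha
    have := congrArg l ha
    rw [← Algebra.smul_def, map_smul, map_zero, smul_eq_mul] at this
    exact (hunit.mul_left_eq_zero).mp this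
  refine ⟨α, ?_, ?_⟩
  · -- `α - 1 ∈ I`
    have h6 : algebraMap A (AdjoinRoot f) (α - 1) * e ∈ K := by
      have : algebraMap A (AdjoinRoot f) (α - 1) * e = (t - 1) * e := by
        rw [map_sub, map_one]; linear_combination hα
      rw [this]; exact hte
    have h7 := linearMap_mem_of_mem_map l _ h6
    rw [← Algebra.smul_def, map_smul, smul_eq_mul] at h7
    obtain ⟨v, hv⟩ := hunit.exists_right_inv
    have : α - 1 = (α - 1) * l e * v := by rw [mul_assoc, hv, mul_one]
    rw [this]
    exact I.mul_mem_right _ h7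
  · -- `f(α) = 0`
    apply hkill
    obtain ⟨c, hc⟩ := exists_aeval_sub_eq f t α
    rw [hft, zero_sub] at hc
    have : algebraMap A (AdjoinRoot f) (f.eval α) * e = -((t * e - algebraMap A (AdjoinRoot f) α * e) * c) := by
      linear_combination (-e) * hc
    rw [this, ← hα, sub_self, zero_mul, neg_zero]

/-- Surjectivity on idempotents of finite algebras implies Gabber's condition. -/
theorem gabber_of_surjOn_idempotents (hjac : I ≤ Ideal.jacobson ⊥)
    (h : ∀ (B : Type u) [CommRing B] [Algebra A B], Module.Finite A B →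
      Set.SurjOn (Ideal.Quotient.mk (I.map (algebraMap A B))) {e : B | IsIdempotentElem e}
        {e | IsIdempotentElem e}) : Gabber I := by
  intro n hn p hpdeg hpI
  cases subsingleton_or_nontrivial A with
  | inl hs => exact ⟨1, by simp, Subsingleton.elim _ _⟩
  | inr hA =>
  set f : A[X] := X ^ n * (X - 1) + p with hf
  have hRmonic : (X ^ n * (X - 1) : A[X]).Monic := by
    rw [show (X - 1 : A[X]) = X - C 1 by simp]
    exact (monic_X_pow _).mul (monic_X_sub_C (1 : A))
  have hRdeg : (X ^ n * (X - 1) : A[X]).natDegree = n + 1 := by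
    rw [show (X - 1 : A[X]) = X - C 1 by simp,
      Monic.natDegree_mul (monic_X_pow _) (monic_X_sub_C (1 : A)), natDegree_X_pow,
      natDegree_X_sub_C]
  have hplt : p.degree < (X ^ n * (X - 1) : A[X]).degree := by
    rw [degree_eq_natDegree hRmonic.ne_zero, hRdeg]
    exact (degree_le_natDegree).trans_lt (by exact_mod_cast Nat.lt_succ_of_le hpdeg)
  have hfmonic : f.Monic := hRmonic.add_of_left hplt
  have hfdeg : f.natDegree = n + 1 := by
    rw [hf, natDegree_add_eq_left_of_degree_lt hplt, hRdeg]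
  have hfe : ∀ {B' : Type u} [CommRing B'] [Algebra A B'] (t' : B'),
      aeval t' f = t' ^ n * (t' - 1) + aeval t' p := by
    intro B' _ _ t'
    rw [hf, map_add, map_mul, map_pow, map_sub, aeval_X, map_one]
  set B := AdjoinRoot f with hB
  have hfin : Module.Finite A B := hfmonic.finite_adjoinRoot
  set K := I.map (algebraMap A B) with hK
  set t : B := AdjoinRoot.root f with ht
  have hft : aeval t f = 0 := AdjoinRoot.aeval_eq f ▸ AdjoinRoot.mk_self
  set π : B := aeval t p with hπ
  have hπK : π ∈ K := aeval_mem_map p hpI t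
  have htn : t ^ n * (t - 1) = -π := by
    have := hft
    rw [hfe t] at this
    linear_combination this
  set b : B := t ^ n with hb
  have hbb : b * b - b ∈ K := by
    have hgeom := geom_sum_mul t n
    have : b * b - b = -(π * ∑ i ∈ Finset.range n, t ^ i) := by
      rw [hb]
      linear_combination (t ^ n) * hgeom.symm + (∑ i ∈ Finset.range n, t ^ i) * htn
    rw [this]
    exact K.neg_mem (K.mul_mem_right _ hπK)
  have hidem : IsIdempotentElem (Ideal.Quotient.mk K b) := by
    change _ * _ = _
    rw [← map_mul, Ideal.Quotient.eq]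
    exact hbb
  obtain ⟨e, he, heb⟩ := h B hfin hidem
  have heb' : e - b ∈ K := Ideal.Quotient.eq.mp heb
  have hte : (t - 1) * e ∈ K := by
    have : (t - 1) * e = (t - 1) * (e - b) - π := by
      rw [hb]; linear_combination htn
    rw [this]
    exact K.sub_mem (K.mul_mem_left _ heb') hπK
  -- the coordinate functional at `tⁿ`
  let pb := AdjoinRoot.powerBasis' hfmonic
  have hdim : pb.dim = n + 1 := hfdeg
  let idx : Fin pb.dim := ⟨n, by rw [hdim]; exact Nat.lt_succ_self n⟩
  let l : B →ₗ[A] A := pb.basis.coord idx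
  have hlb : l b = 1 := by
    have : b = pb.basis idx := by
      rw [pb.basis_eq_pow]
      rfl
    rw [this]
    change pb.basis.coord idx (pb.basis idx) = 1
    rw [Module.Basis.coord_apply, Module.Basis.repr_self, Finsupp.single_eq_same]
  have hle1 : l e - 1 ∈ I := by
    rw [← hlb, ← map_sub]
    exact linearMap_mem_of_mem_map l _ heb'
  have hunit : IsUnit (l e) := by
    have := (Ideal.mem_jacobson_bot.mp (hjac hle1)) 1
    simpa using this
  -- `eB = Ae`
  set L : B →ₗ[A] B := LinearMap.mulLeft A e with hL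
  set N' : Submodule A B := Submodule.map L ⊤ with hN'
  have hN'fg : N'.FG := Module.Finite.fg_top.map L
  have hIN : ∀ y : B, y ∈ K → e * y ∈ I • N' := by
    intro y hy
    have h1 : y ∈ I • (⊤ : Submodule A B) := by
      rw [Ideal.smul_top_eq_map]; exact hy
    have h2 : L y ∈ Submodule.map L (I • (⊤ : Submodule A B)) := ⟨_, h1, rfl⟩
    rwa [Submodule.map_smul''] at h2
  have hE3 : N' ≤ Submodule.span A {e} := by
    refine Submodule.le_of_le_smul_of_le_jacobson_bot hN'fg hjac ?_
    rintro _ ⟨x, -, rfl⟩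
    obtain ⟨q, rfl⟩ := AdjoinRoot.mk_surjective x
    obtain ⟨c, hc⟩ := exists_aeval_sub_eq q t 1
    rw [map_one] at hc
    have hx : L (AdjoinRoot.mk f q) = q.eval 1 • e + e * (e * ((t - 1) * e * c)) := by
      have h3 : AdjoinRoot.mk f q = aeval t q := (AdjoinRoot.aeval_eq q).symm
      have h4 : aeval t q = algebraMap A B (q.eval 1) + (t - 1) * c := by
        linear_combination hc
      simp only [hL, LinearMap.mulLeft_apply]
      rw [h3, h4, Algebra.smul_def]
      have e1 : e * e = e := he.eq
      linear_combination (-(t - 1) * c * e - (t - 1) * c) * e1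
    rw [hx]
    refine Submodule.add_mem _ (Submodule.mem_sup_left
      (Submodule.smul_mem _ _ (Submodule.mem_span_singleton_self e))) (Submodule.mem_sup_right ?_)
    have h5 : e * (e * ((t - 1) * e * c)) = e * ((t - 1) * e * c * e) := by ring
    rw [h5]
    exact hIN _ (K.mul_mem_right _ (K.mul_mem_right _ hte))
  have hteN : t * e ∈ N' := ⟨t, trivial, by simp [hL, mul_comm]⟩
  obtain ⟨α, hα⟩ := Submodule.mem_span_singleton.mp (hE3 hteN)
  rw [Algebra.smul_def] at hα
  have hkill : ∀ a : A, algebraMap A B a * e = 0 → a = 0 := by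
    intro a ha
    have := congrArg l ha
    rw [← Algebra.smul_def, map_smul, map_zero, smul_eq_mul] at this
    exact (hunit.mul_left_eq_zero).mp this
  refine ⟨α, ?_, ?_⟩
  · -- `α - 1 ∈ I`
    have h6 : algebraMap A B (α - 1) * e ∈ K := by
      have : algebraMap A B (α - 1) * e = (t - 1) * e := by
        rw [map_sub, map_one]; linear_combination hα
      rw [this]; exact hte
    have h7 := linearMap_mem_of_mem_map l _ h6
    rw [← Algebra.smul_def, map_smul, smul_eq_mul] at h7
    obtain ⟨v, hv⟩ := hunit.exists_right_inv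
    have : α - 1 = (α - 1) * l e * v := by rw [mul_assoc, hv, mul_one]
    rw [this]
    exact I.mul_mem_right _ h7
  · -- `f(α) = 0`
    apply hkill
    obtain ⟨c, hc⟩ := exists_aeval_sub_eq f t α
    rw [hft, zero_sub] at hc
    have : algebraMap A B (f.eval α) * e = -((t * e - algebraMap A B α * e) * c) := by
      linear_combination (-e) * hc
    rw [this, ← hα, sub_self, zero_mul, neg_zero]

/-- Stacks 09XI, (3) ⇒ (1): bijectivity on idempotents of finite algebras implies Henselian. -/
theorem henselianRing_of_bijOn_idempotents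
    (h : ∀ (B : Type u) [CommRing B] [Algebra A B], Module.Finite A B →
      Set.BijOn (Ideal.Quotient.mk (I.map (algebraMap A B))) {e : B | IsIdempotentElem e}
        {e | IsIdempotentElem e}) : HenselianRing A I := by
  have hjac : I ≤ Ideal.jacobson ⊥ :=
    le_jacobson_of_injOn_idempotents fun B _ _ hB => (h B hB).injOn
  exact henselianRing_of_gabber hjac
    (gabber_of_surjOn_idempotents hjac fun B _ _ hB => (h B hB).surjOn)

/-- Over a Henselian pair, an étale neighbourhood of `V(I)` admits a retraction. -/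
theorem exists_retraction_of_bijective (h : HenselianRing A I) (A' : Type u) [CommRing A']
    [Algebra A A'] [Algebra.Etale A A']
    (hbij : Function.Bijective (algebraMap (A ⧸ I) (A' ⧸ I.map (algebraMap A A')))) :
    ∃ τ : A' →ₐ[A] A, ∀ x : A', algebraMap (A ⧸ I) (A' ⧸ I.map (algebraMap A A'))
      (Ideal.Quotient.mk I (τ x)) = Ideal.Quotient.mk (I.map (algebraMap A A')) x := by
  let ι : (A ⧸ I) ≃+* (A' ⧸ I.map (algebraMap A A')) := RingEquiv.ofBijective _ hbij
  let σ : A' →ₐ[A] A ⧸ I :=
    { toRingHom := ι.symm.toRingHom.comp (Ideal.Quotient.mk (I.map (algebraMap A A')))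
      commutes' := by
        intro a
        simp only [RingHom.toMonoidHom_eq_coe, RingEquiv.toRingHom_eq_coe, OneHom.toFun_eq_coe,
          MonoidHom.toOneHom_coe, MonoidHom.coe_coe, RingHom.coe_comp, RingHom.coe_coe,
          Function.comp_apply]
        rw [RingEquiv.symm_apply_eq]
        rfl }
  obtain ⟨τ, hτ⟩ := exists_lift_of_henselianRing h A' σ
  refine ⟨τ, fun x => ?_⟩
  have h1 : Ideal.Quotient.mk I (τ x) = σ x := congrArg (fun φ : A' →ₐ[A] A ⧸ I => φ x) hτ
  rw [h1]
  exact ι.apply_symm_apply _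

/-- The idempotent polynomial over a Henselian pair. -/
theorem exists_idempotent_polynomial_of_henselianRing (h : HenselianRing A I) (f : A[X])
    (hf : f.Monic) (k : ℕ)
    (hfm : f.map (Ideal.Quotient.mk I) = X ^ (k + 1) * (X - 1) ^ (k + 1)) :
    ∃ Q R S : A[X], f ∣ Q ^ 2 - Q ∧ Q - X = (X ^ 2 - X) * R + S ∧ ∀ i, S.coeff i ∈ I := by
  obtain ⟨A', _, _, hét, hbij, Q, R, S, ⟨T, hT⟩, hQ, hS⟩ :=
    EtaleLift.exists_idempotent_polynomial I f hf k hfm
  obtain ⟨τ, -⟩ := exists_retraction_of_bijective h A' hbij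
  have hτf : (f.map (algebraMap A A')).map τ.toRingHom = f := by
    rw [Polynomial.map_map]
    have : τ.toRingHom.comp (algebraMap A A') = RingHom.id A := by
      ext a
      simp
    rw [this, Polynomial.map_id]
  refine ⟨Q.map τ.toRingHom, R.map τ.toRingHom, S.map τ.toRingHom, ⟨T.map τ.toRingHom, ?_⟩, ?_, ?_⟩
  · have := congrArg (Polynomial.map τ.toRingHom) hT
    rw [Polynomial.map_sub, Polynomial.map_pow, Polynomial.map_mul, hτf] at this
    exact this
  · have := congrArg (Polynomial.map τ.toRingHom) hQ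
    simpa using this
  · intro i
    rw [coeff_map]
    have hle : I.map (algebraMap A A') ≤ I.comap τ.toRingHom := by
      rw [Ideal.map_le_iff_le_comap]
      intro a ha
      rw [Ideal.mem_comap, Ideal.mem_comap]
      simpa using ha
    exact hle (hS i)

/-- An integral algebra over a Henselian pair is Henselian (Stacks 09XK). -/
theorem henselianRing_map_of_isIntegral (h : HenselianRing A I) (B : Type u) [CommRing B]
    [Algebra A B] [Algebra.IsIntegral A B] : HenselianRing B (I.map (algebraMap A B)) := by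
  refine henselianRing_of_bijOn_idempotents fun C _ _ hC => ?_
  let _ : Algebra A C := ((algebraMap B C).comp (algebraMap A B)).toAlgebra
  have : IsScalarTower A B C := .of_algebraMap_eq (fun _ => rfl)
  have : Algebra.IsIntegral B C := inferInstance
  have : Algebra.IsIntegral A C := Algebra.IsIntegral.trans B
  have key := bijOn_idempotents_of_henselianRing h C
  rw [Ideal.map_map]
  exact key

/-- A nontrivial ring with only trivial idempotents has connected spectrum. -/
theorem connectedSpace_of_idempotents (R : Type*) [CommRing R] [Nontrivial R]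
    (h : ∀ e : R, IsIdempotentElem e → e = 0 ∨ e = 1) : ConnectedSpace (PrimeSpectrum R) := by
  have : PreconnectedSpace (PrimeSpectrum R) := by
    rw [preconnectedSpace_iff_clopen]
    intro s hs
    obtain ⟨e, he, rfl⟩ := PrimeSpectrum.isClopen_iff.mp hs
    rcases h e he with rfl | rfl
    · left; simp
    · right; simp
  exact ConnectedSpace.mk inferInstance

/-- Stacks 09Y6-type statement: for a Henselian pair `(A, I)` and a prime `p`, `V(p) ∩ V(I)` is
connected. -/
theorem connectedSpace_of_henselianRing (h : HenselianRing A I) (p : Ideal A) [p.IsPrime] :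
    ConnectedSpace (PrimeSpectrum (A ⧸ p ⊔ I)) := by
  have hnt : Nontrivial (A ⧸ p ⊔ I) := by
    obtain ⟨m, hm, hpm⟩ := Ideal.exists_le_maximal p (Ideal.IsPrime.ne_top inferInstance)
    have hIm : I ≤ m := h.jac.trans (by rw [Ideal.jacobson]; exact sInf_le ⟨bot_le, hm⟩)
    exact Ideal.Quotient.nontrivial_iff.mpr
      (fun htop => hm.ne_top (top_le_iff.mp (htop ▸ sup_le hpm hIm)))
  refine connectedSpace_of_idempotents _ fun e he => ?_
  set B := A ⧸ p with hB
  let φ : (B ⧸ I.map (Ideal.Quotient.mk p)) ≃+* A ⧸ p ⊔ I := DoubleQuot.quotQuotEquivQuotSup p I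
  have he' : IsIdempotentElem (φ.symm e) := he.map φ.symm
  have hbij := bijOn_idempotents_of_henselianRing h B
  obtain ⟨ε, hε, hεe⟩ := hbij.surjOn he'
  have hε01 : ε = 0 ∨ ε = 1 := IsIdempotentElem.iff_eq_zero_or_one.mp hε
  have hφ : e = φ (Ideal.Quotient.mk _ ε) := by
    have h2 : φ (φ.symm e) = e := φ.apply_symm_apply e
    rw [← h2, ← hεe]
    rfl
  rcases hε01 with rfl | rfl
  · left; rw [hφ, map_zero, map_zero]
  · right; rw [hφ, map_one, map_one]

/-- Two algebra maps out of an unramified algebra which agree modulo an ideal contained in the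
Jacobson radical are equal. -/
theorem algHom_eq_of_sub_mem {R : Type*} [CommRing R] {B₁ B₂ : Type*} [CommRing B₁] [CommRing B₂]
    [Algebra R B₁] [Algebra R B₂] [Algebra.FormallyUnramified R B₁] [Algebra.EssFiniteType R B₁]
    (K : Ideal B₂) (hK : K ≤ Ideal.jacobson ⊥) (φ ψ : B₁ →ₐ[R] B₂) (h : ∀ b, φ b - ψ b ∈ K) :
    φ = ψ := by
  let Φ : B₁ ⊗[R] B₁ →ₐ[R] B₂ := Algebra.TensorProduct.lift φ ψ (fun _ _ => Commute.all _ _)
  set t := Algebra.FormallyUnramified.elem R B₁ with ht
  have h1 : ∀ s : B₁, (ψ s - φ s) * Φ t = 0 := by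
    intro s
    have := congrArg Φ (Algebra.FormallyUnramified.one_tmul_sub_tmul_one_mul_elem (R := R) s)
    rw [map_mul, map_sub, map_zero] at this
    simpa [Φ] using this
  have h2 : ∀ x : B₁ ⊗[R] B₁, Φ x - φ (Algebra.TensorProduct.lmul' R x) ∈ K := by
    intro x
    induction x using TensorProduct.induction_on with
    | zero => simp
    | tmul a b =>
      have : Φ (a ⊗ₜ b) - φ (Algebra.TensorProduct.lmul' R (a ⊗ₜ b)) = -(φ a * (φ b - ψ b)) := by
        simp [Φ]; ring
      rw [this]
      exact K.neg_mem (K.mul_mem_left _ (h b))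
    | add x y hx hy =>
      have : Φ (x + y) - φ (Algebra.TensorProduct.lmul' R (x + y)) =
          (Φ x - φ (Algebra.TensorProduct.lmul' R x)) + (Φ y - φ (Algebra.TensorProduct.lmul' R y)) := by
        rw [map_add, map_add, map_add]; ring
      rw [this]
      exact K.add_mem hx hy
  have h3 : Φ t - 1 ∈ K := by
    have := h2 t
    rwa [Algebra.FormallyUnramified.lmul_elem, map_one] at this
  have hunit : IsUnit (Φ t) := by
    have := (Ideal.mem_jacobson_bot.mp (hK h3)) 1
    simpa using this
  ext s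
  have := (hunit.mul_left_eq_zero).mp (h1 s)
  exact (sub_eq_zero.mp this).symm

end Groth.Agent.Lib.helper26.HenselPair
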