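import Mathlib

/-!
# Principal localisations as neighbourhoods of `V(J)` (helper26)

* `exists_away_of_isOpen`: an open subset of `Spec R` containing `V(J)` contains `D(g)` for some
  `g ≡ 1 mod J`.
* `bijective_quotientMap_away`: for such a `g` the map `R/J → R_g / J R_g` is bijective.
-/

universe u

namespace Groth.Agent.Lib.helper26.AwayNbhd

open PrimeSpectrum

variable {R : Type u} [CommRing R]

theorem exists_away_of_isOpen (J : Ideal R) (U : Set (PrimeSpectrum R)) (hU : IsOpen U)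
    (hJU : zeroLocus (J : Set R) ⊆ U) :
    ∃ g : R, 1 - g ∈ J ∧ (basicOpen g : Set (PrimeSpectrum R)) ⊆ U := by
  obtain ⟨𝔞, h𝔞⟩ := (isClosed_iff_zeroLocus_ideal _).mp hU.isClosed_compl
  have htop : J ⊔ 𝔞 = ⊤ := by
    rw [← zeroLocus_empty_iff_eq_top, zeroLocus_sup, ← h𝔞]
    rw [Set.eq_empty_iff_forall_notMem]
    rintro x ⟨hx1, hx2⟩
    exact hx2 (hJU hx1)
  have h1 : (1 : R) ∈ J ⊔ 𝔞 := by rw [htop]; trivial
  obtain ⟨j, hj, g, hg, hjg⟩ := Submodule.mem_sup.mp h1
  refine ⟨g, ?_, ?_⟩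
  · have : 1 - g = j := by rw [← hjg]; ring
    rw [this]; exact hj
  · intro x hx
    by_contra hxU
    have hx' : x ∈ zeroLocus (𝔞 : Set R) := by rw [← h𝔞]; exact hxU
    exact hx (hx' hg)

theorem bijective_quotientMap_away (J : Ideal R) (g : R) (hg : 1 - g ∈ J) :
    Function.Bijective (Ideal.quotientMap (J.map (algebraMap R (Localization.Away g)))
      (algebraMap R (Localization.Away g)) Ideal.le_comap_map) := by
  have hpow : ∀ n : ℕ, 1 - g ^ n ∈ J := by
    intro n
    induction n with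
    | zero => simp
    | succ n ih =>
      have : 1 - g ^ (n + 1) = (1 - g ^ n) + g ^ n * (1 - g) := by ring
      rw [this]
      exact J.add_mem ih (J.mul_mem_left _ hg)
  constructor
  · rw [injective_iff_map_eq_zero]
    intro x hx
    obtain ⟨r, rfl⟩ := Ideal.Quotient.mk_surjective x
    rw [Ideal.quotientMap_mk, Ideal.Quotient.eq_zero_iff_mem,
      IsLocalization.mem_map_algebraMap_iff (Submonoid.powers g)] at hx
    obtain ⟨⟨⟨j, hj⟩, ⟨_, n, rfl⟩⟩, hjn⟩ := hx
    simp only at hjn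
    rw [← map_mul, IsLocalization.eq_iff_exists (Submonoid.powers g)] at hjn
    obtain ⟨⟨_, m, rfl⟩, hm⟩ := hjn
    simp only at hm
    rw [Ideal.Quotient.eq_zero_iff_mem]
    have h1 : g ^ m * (r * g ^ n) ∈ J := by rw [hm]; exact J.mul_mem_left _ hj
    have h2 : r = g ^ m * (r * g ^ n) + r * (1 - g ^ (m + n)) := by rw [pow_add]; ring
    rw [h2]
    exact J.add_mem h1 (J.mul_mem_left _ (hpow _))
  · intro y
    obtain ⟨y, rfl⟩ := Ideal.Quotient.mk_surjective y
    obtain ⟨⟨r, ⟨_, n, rfl⟩⟩, hr⟩ := IsLocalization.surj (Submonoid.powers g) y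
    simp only at hr
    refine ⟨Ideal.Quotient.mk J r, ?_⟩
    rw [Ideal.quotientMap_mk, Ideal.Quotient.eq, ← hr]
    have : y * algebraMap R (Localization.Away g) (g ^ n) - y =
        -(y * algebraMap R (Localization.Away g) (1 - g ^ n)) := by
      rw [map_sub, map_one]; ring
    rw [this]
    exact neg_mem (Ideal.mul_mem_left _ _ (Ideal.mem_map_of_mem _ (hpow n)))

end Groth.Agent.Lib.helper26.AwayNbhd
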