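import Mathlib
import Groth.Agent.Lib.Helper26.HenselPair
import Groth.Agent.Lib.Helper26.AwayNbhd
import Groth.Agent.S2041

/-!
# Finite parts of quasi-finite algebras near `V(I)` (helper26)

* `exists_finite_subalgebra_near`: for a finite type `A`-algebra `B` with `B/IB` finite over `A`
  there are a finite `A`-subalgebra `B₀ ⊆ B` and `b₀ ∈ B₀`, `b₀ ≡ 1 mod IB`, with
  `B₀[1/b₀] = B[1/b₀]` (Zariski's main theorem near `V(IB)`).
* `exists_sub_one_mem_and_algebraMap_mem`: Nakayama for an ideal of a finite algebra.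
* `assembly`, `exists_etale_finite_part`: étale localisation of the finite part (S17976).
-/

universe u

namespace Groth.Agent.Lib.helper26.FinitePart

open Groth.Agent.Lib.helper26.HenselPair

variable {A : Type u} [CommRing A] (I : Ideal A)

/-- Nakayama: an ideal `𝔞` of a finite `R`-algebra `T` with `𝔞 + JT = T` contains the image of an
element of `1 + J`. -/
theorem exists_sub_one_mem_and_algebraMap_mem {R T : Type*} [CommRing R] [CommRing T]
    [Algebra R T] [Module.Finite R T] (J : Ideal R) (𝔞 : Ideal T)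
    (h : 𝔞 ⊔ J.map (algebraMap R T) = ⊤) :
    ∃ a : R, a - 1 ∈ J ∧ algebraMap R T a ∈ 𝔞 := by
  have hfin : Module.Finite R (T ⧸ 𝔞) :=
    Module.Finite.of_surjective (Ideal.Quotient.mkₐ R 𝔞).toLinearMap
      (Ideal.Quotient.mkₐ_surjective R 𝔞)
  have hle : (⊤ : Submodule R (T ⧸ 𝔞)) ≤ J • (⊤ : Submodule R (T ⧸ 𝔞)) := by
    intro m _
    obtain ⟨t, rfl⟩ := Ideal.Quotient.mk_surjective m
    have h1 : (1 : T) ∈ 𝔞 ⊔ J.map (algebraMap R T) := by rw [h]; trivial
    obtain ⟨α, hα, ι, hι, hαι⟩ := Submodule.mem_sup.mp h1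
    have ht : Ideal.Quotient.mk 𝔞 t = Ideal.Quotient.mk 𝔞 (t * ι) := by
      rw [Ideal.Quotient.eq]
      have : t - t * ι = t * α := by linear_combination (-t) * hαι
      rw [this]
      exact 𝔞.mul_mem_left _ hα
    rw [ht, Ideal.smul_top_eq_map]
    show Ideal.Quotient.mk 𝔞 (t * ι) ∈ J.map (algebraMap R (T ⧸ 𝔞))
    have h2 : J.map (algebraMap R (T ⧸ 𝔞)) =
        (J.map (algebraMap R T)).map (Ideal.Quotient.mk 𝔞) := by
      rw [Ideal.map_map]; rfl
    rw [h2]
    exact Ideal.mem_map_of_mem _ (Ideal.mul_mem_left _ _ hι)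
  obtain ⟨r, hr, hr0⟩ := Submodule.exists_sub_one_mem_and_smul_eq_zero_of_fg_of_le_smul J
    (⊤ : Submodule R (T ⧸ 𝔞)) hfin.fg_top hle
  refine ⟨r, hr, ?_⟩
  have := hr0 (Ideal.Quotient.mk 𝔞 1) trivial
  rw [← Ideal.Quotient.eq_zero_iff_mem]
  rw [Algebra.smul_def, map_one, mul_one] at this
  exact this

/-- Zariski's main theorem near `V(IB)`: if `B` is of finite type over `A` and `B/IB` is finite
over `A`, there are a finite subalgebra `B₀` and `b₀ ∈ B₀`, `b₀ ≡ 1` modulo `IB`, such that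
`B₀[1/b₀] = B[1/b₀]`. -/
theorem exists_finite_subalgebra_near (B : Type u) [CommRing B] [Algebra A B]
    [Algebra.FiniteType A B] (hfin : Module.Finite A (B ⧸ I.map (algebraMap A B))) :
    ∃ (B₀ : Subalgebra A B) (b₀ : B), B₀.toSubmodule.FG ∧ b₀ ∈ B₀ ∧
      b₀ - 1 ∈ I.map (algebraMap A B) ∧ ∀ x : B, ∃ N : ℕ, ∀ M, N ≤ M → b₀ ^ M * x ∈ B₀ := by
  classical
  set K := I.map (algebraMap A B) with hK
  have key : ∀ q : PrimeSpectrum B, K ≤ q.asIdeal → ∃ S' : Subalgebra A B, S'.toSubmodule.FG ∧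
      ∃ r : B, r ∈ S' ∧ r ∉ q.asIdeal ∧ ∀ x : B, ∃ N : ℕ, r ^ N * x ∈ S' := by
    intro q hq
    have hIp : I ≤ q.asIdeal.under A := by
      intro i hi
      exact hq (Ideal.mem_map_of_mem _ hi)
    have hle : K ≤ (q.asIdeal.under A).map (algebraMap A B) := Ideal.map_mono hIp
    have hfin' : Module.Finite A (B ⧸ (q.asIdeal.under A).map (algebraMap A B)) :=
      Module.Finite.of_surjective (Ideal.Quotient.factorₐ A hle).toLinearMap
        (Ideal.Quotient.factor_surjective hle)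
    have : Algebra.WeaklyQuasiFiniteAt A q.asIdeal := by
      unfold Algebra.WeaklyQuasiFiniteAt Algebra.QuasiFiniteAt
      infer_instance
    obtain ⟨S', hS', r, hrq, hbij⟩ :=
      Algebra.QuasiFiniteAt.exists_fg_and_exists_notMem_and_awayMap_bijective (R := A) q.asIdeal
    exact ⟨S', hS', r, r.2, hrq, exists_pow_mul_mem_of_awayMap_bijective S' r hbij⟩
  -- choose data for every prime containing `K`
  choose S hS r hrS hrq hgood using key
  let V := {q : PrimeSpectrum B // K ≤ q.asIdeal}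
  let S' : V → Subalgebra A B := fun v => S v.1 v.2
  let r' : V → B := fun v => r v.1 v.2
  have htop : K ⊔ Ideal.span (Set.range r') = ⊤ := by
    by_contra hne
    obtain ⟨𝔪, h𝔪, hle⟩ := Ideal.exists_le_maximal _ hne
    have hK𝔪 : K ≤ 𝔪 := le_sup_left.trans hle
    have hr : r' ⟨⟨𝔪, h𝔪.isPrime⟩, hK𝔪⟩ ∈ 𝔪 :=
      hle (Ideal.mem_sup_right (Ideal.subset_span ⟨_, rfl⟩))
    exact hrq ⟨𝔪, h𝔪.isPrime⟩ hK𝔪 hr
  have h1 : (1 : B) ∈ K ⊔ Ideal.span (Set.range r') := by rw [htop]; trivial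
  obtain ⟨j, hj, y, hy, hjy⟩ := Submodule.mem_sup.mp h1
  obtain ⟨c, hc⟩ := Finsupp.mem_span_range_iff_exists_finsupp.mp hy
  set B₀ : Subalgebra A B := c.support.sup S' with hB₀
  have hB₀fg : B₀.toSubmodule.FG := fg_finset_sup S' (fun v => hS v.1 v.2) _
  set t : Finset B := c.support.image r' with ht
  have htB : ∀ z ∈ t, z ∈ B₀ := by
    intro z hz
    obtain ⟨q, hq, rfl⟩ := Finset.mem_image.mp hz
    exact (Finset.le_sup (f := S') hq) (hrS q.1 q.2)
  have htgood : ∀ z ∈ t, ∀ x : B, ∃ N : ℕ, ∀ M, N ≤ M → z ^ M * x ∈ B₀ := by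
    intro z hz x
    obtain ⟨q, hq, rfl⟩ := Finset.mem_image.mp hz
    obtain ⟨N, hN⟩ := hgood q.1 q.2 x
    refine ⟨N, fun M hM => ?_⟩
    obtain ⟨k, rfl⟩ := Nat.exists_eq_add_of_le hM
    rw [pow_add, mul_comm (_ ^ N), mul_assoc]
    exact B₀.mul_mem (B₀.pow_mem (htB _ (Finset.mem_image_of_mem r' hq)) k)
      ((Finset.le_sup (f := S') hq) hN)
  have htspan : K ⊔ Ideal.span (t : Set B) = ⊤ := by
    rw [eq_top_iff]
    intro x _
    have : (1 : B) ∈ K ⊔ Ideal.span (t : Set B) := by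
      rw [← hjy, ← hc]
      refine Submodule.add_mem _ (Ideal.mem_sup_left hj) (Ideal.mem_sup_right ?_)
      refine Ideal.sum_mem _ fun q hq => ?_
      exact Ideal.mul_mem_left _ _ (Ideal.subset_span (Finset.mem_coe.mpr
        (Finset.mem_image_of_mem r' hq)))
    have := Ideal.mul_mem_left _ x this
    rwa [mul_one] at this
  -- module generators of `B/K`
  obtain ⟨gen, hgen⟩ := hfin.fg_top
  have hlift : ∀ x : B ⧸ K, ∃ b : B, Ideal.Quotient.mk K b = x := Ideal.Quotient.mk_surjective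
  choose lift hlift' using hlift
  -- a uniform exponent
  have hunif : ∃ N : ℕ, ∀ z ∈ t, ∀ g ∈ gen, z ^ N * lift g ∈ B₀ := by
    choose! Nf hNf using htgood
    refine ⟨t.sup fun z => gen.sup fun g => Nf z (lift g), fun z hz g hg => ?_⟩
    refine hNf z hz (lift g) _ ?_
    exact (Finset.le_sup (f := fun g => Nf z (lift g)) hg).trans
      (Finset.le_sup (f := fun z => gen.sup fun g => Nf z (lift g)) hz)
  obtain ⟨N, hN⟩ := hunif
  -- powers of the elements of `t` still generate the unit ideal modulo `K`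
  set t' : Finset B := t.image (fun z => z ^ (N + 1)) with ht'
  have htspan' : K ⊔ Ideal.span (t' : Set B) = ⊤ := by
    by_contra hne
    obtain ⟨𝔪, h𝔪, hle⟩ := Ideal.exists_le_maximal _ hne
    have hK𝔪 : K ≤ 𝔪 := le_sup_left.trans hle
    have ht𝔪 : Ideal.span (t : Set B) ≤ 𝔪 := by
      rw [Ideal.span_le]
      intro z hz
      have : z ^ (N + 1) ∈ 𝔪 := hle (Ideal.mem_sup_right (Ideal.subset_span
        (Finset.mem_coe.mpr (Finset.mem_image_of_mem _ (Finset.mem_coe.mp hz)))))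
      exact h𝔪.isPrime.mem_of_pow_mem _ this
    have : (⊤ : Ideal B) ≤ 𝔪 := by rw [← htspan]; exact sup_le hK𝔪 ht𝔪
    exact h𝔪.ne_top (top_le_iff.mp this)
  have h1' : (1 : B) ∈ K ⊔ Ideal.span (t' : Set B) := by rw [htspan']; trivial
  obtain ⟨j', hj', y', hy', hjy'⟩ := Submodule.mem_sup.mp h1'
  obtain ⟨f, hf⟩ := Submodule.mem_span_finset'.mp hy'
  have hzw : ∀ w : t', ∃ z ∈ t, z ^ (N + 1) = w.1 := fun w => by
    obtain ⟨z, hz, hzw⟩ := Finset.mem_image.mp w.2
    exact ⟨z, hz, hzw⟩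
  choose zw hzwt hzwpow using hzw
  have hcoef : ∀ w : t', ∃ a : (B ⧸ K) → A, ∑ g ∈ gen, a g • g = Ideal.Quotient.mk K (f w) := by
    intro w
    have : Ideal.Quotient.mk K (f w) ∈ Submodule.span A (gen : Set (B ⧸ K)) := by
      rw [hgen]; trivial
    obtain ⟨a, -, ha⟩ := Submodule.mem_span_finset.mp this
    exact ⟨a, ha⟩
  choose a ha using hcoef
  set b₀' : B₀ := ∑ w : t', ∑ g ∈ gen.attach,
    a w g.1 • (⟨zw w ^ N * lift g.1, hN _ (hzwt w) _ g.2⟩ * ⟨zw w, htB _ (hzwt w)⟩ : B₀) with hb₀'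
  have hmk : Ideal.Quotient.mk K (b₀' : B) = 1 := by
    have hy1 : Ideal.Quotient.mk K y' = 1 := by
      have := congrArg (Ideal.Quotient.mk K) hjy'
      rwa [map_add, Ideal.Quotient.eq_zero_iff_mem.mpr hj', zero_add, map_one] at this
    rw [← hy1, ← hf, hb₀']
    push_cast
    rw [map_sum, map_sum]
    refine Finset.sum_congr rfl fun w _ => ?_
    rw [smul_eq_mul, map_mul, ← ha w, map_sum, Finset.sum_mul, ← Finset.sum_attach gen]
    refine Finset.sum_congr rfl fun g _ => ?_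
    rw [← hzwpow w, pow_succ]
    simp only [Algebra.smul_def, map_mul, map_pow, hlift']
    rw [← Ideal.Quotient.algebraMap_eq, ← IsScalarTower.algebraMap_apply]
    ring
  refine ⟨B₀, b₀', hB₀fg, b₀'.2, ?_, fun x => ?_⟩
  · rw [← Ideal.Quotient.eq, hmk, map_one]
  -- `b₀'` lies in the radical of the conductor ideal of `x`
  have hrad : b₀' ∈ (condIdeal B₀ x).radical := by
    rw [hb₀']
    refine Ideal.sum_mem _ fun w _ => Ideal.sum_mem _ fun g _ => ?_
    rw [Algebra.smul_def, ← mul_assoc]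
    refine Ideal.mul_mem_left _ _ ?_
    obtain ⟨M, hM⟩ := htgood _ (hzwt w) x
    exact ⟨M, by rw [mem_condIdeal]; push_cast; exact hM M le_rfl⟩
  obtain ⟨M₀, hM₀⟩ := hrad
  rw [mem_condIdeal] at hM₀
  refine ⟨M₀, fun M hM => ?_⟩
  obtain ⟨k, rfl⟩ := Nat.exists_eq_add_of_le hM
  rw [pow_add, mul_comm (_ ^ M₀), mul_assoc]
  refine B₀.mul_mem (B₀.pow_mem b₀'.2 k) ?_
  simpa using hM₀

open TensorProduct in
/-- Assembly of the finite part `C` from an idempotent of `A₁ ⊗ B₀`. -/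
theorem assembly {B : Type u} [CommRing B] [Algebra A B] (B₀ : Subalgebra A B)
    [Module.Finite A B₀]
    (b₀ : B) (hb₀ : b₀ ∈ B₀) (hb₀1 : b₀ - 1 ∈ I.map (algebraMap A B))
    (hgood : ∀ x : B, ∃ N : ℕ, ∀ M, N ≤ M → b₀ ^ M * x ∈ B₀)
    (A₁ : Type u) [CommRing A₁] [Algebra A A₁] [Algebra.Etale A A₁]
    (hbij : Function.Bijective (Ideal.quotientMap (I.map (algebraMap A A₁)) (algebraMap A A₁)
      Ideal.le_comap_map))
    (e : A₁ ⊗[A] B₀) (he : IsIdempotentElem e) (N : ℕ)
    (heN : e - 1 ⊗ₜ ((⟨b₀, hb₀⟩ : B₀) ^ N) ∈ I.map (algebraMap A (A₁ ⊗[A] B₀)))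
    (w s : A₁ ⊗[A] B₀) (hws : w * (1 ⊗ₜ (⟨b₀, hb₀⟩ : B₀)) + s * (1 - e) = 1) :
    ∃ (C : Type u) (_ : CommRing C) (_ : Algebra A C) (_ : Algebra A₁ C) (_ : Algebra B C)
      (_ : IsScalarTower A A₁ C) (_ : IsScalarTower A B C),
      Algebra.Etale B C ∧ Module.Finite A₁ C ∧
      Function.Surjective
        ((Ideal.Quotient.mk (Ideal.map (algebraMap A C) I)).comp (algebraMap B C)) ∧
      RingHom.ker ((Ideal.Quotient.mk (Ideal.map (algebraMap A C) I)).comp (algebraMap B C)) =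
        Ideal.map (algebraMap A B) I := by
  classical
  set β : B₀ := ⟨b₀, hb₀⟩ with hβ
  let L := Localization.Away b₀
  let D := L ⊗[A] A₁
  let ι₀ : B₀ →ₐ[A] L := (IsScalarTower.toAlgHom A B L).comp B₀.val
  let φ : A₁ ⊗[A] B₀ →ₐ[A] D :=
    (Algebra.TensorProduct.map ι₀ (AlgHom.id A A₁)).comp
      (Algebra.TensorProduct.comm A A₁ B₀).toAlgHom
  have hφ : ∀ (a₁ : A₁) (β' : B₀), φ (a₁ ⊗ₜ β') = (algebraMap B L (β' : B)) ⊗ₜ a₁ := by
    intro a₁ β'
    simp [φ, ι₀]
  let x : D := φ e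
  have hx : IsIdempotentElem x := he.map φ
  let C := Localization.Away x
  let algA₁C : Algebra A₁ C :=
    ((algebraMap D C).comp (Algebra.TensorProduct.includeRight : A₁ →ₐ[A] D).toRingHom).toAlgebra
  have halgA₁C : ∀ a₁ : A₁, algebraMap A₁ C a₁ = algebraMap D C (1 ⊗ₜ a₁) := fun a₁ => rfl
  have towerA₁ : IsScalarTower A A₁ C := by
    refine IsScalarTower.of_algebraMap_eq fun α => ?_
    rw [halgA₁C, IsScalarTower.algebraMap_apply A D C]
    congr 1
    rw [Algebra.TensorProduct.algebraMap_apply, Algebra.TensorProduct.tmul_one_eq_one_tmul]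
  -- basic facts in `C`
  have hx1 : algebraMap D C x = 1 := by
    have hu : IsUnit (algebraMap D C x) := IsLocalization.Away.algebraMap_isUnit x
    have hi : algebraMap D C x * algebraMap D C x = algebraMap D C x := by
      rw [← map_mul, hx.eq]
    exact hu.mul_left_cancel (by rw [hi, mul_one])
  let Ψr : A₁ ⊗[A] B₀ →+* C := (algebraMap D C).comp φ.toRingHom
  have hΨr : ∀ (a₁ : A₁) (β' : B₀), Ψr (a₁ ⊗ₜ β') = algebraMap A₁ C a₁ * algebraMap B C (β' : B) := by
    intro a₁ β'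
    show algebraMap D C (φ (a₁ ⊗ₜ β')) = _
    rw [hφ, halgA₁C, IsScalarTower.algebraMap_apply B D C, ← map_mul,
      Algebra.TensorProduct.algebraMap_apply, Algebra.TensorProduct.tmul_mul_tmul, one_mul, mul_one]
  have hΨe : Ψr e = 1 := hx1
  have hunit : Ψr w * algebraMap B C b₀ = 1 := by
    have := congrArg Ψr hws
    rw [map_add, map_mul, map_mul, map_sub, map_one, hΨe, sub_self, mul_zero, add_zero,
      hΨr, map_one, one_mul] at this
    exact this
  -- surjectivity of `Ψr`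
  have hΨsurj : Function.Surjective Ψr := by
    have hR : ∀ c : C, c ∈ Ψr.range := by
      have hA₁ : ∀ a₁ : A₁, algebraMap A₁ C a₁ ∈ Ψr.range := fun a₁ =>
        ⟨a₁ ⊗ₜ 1, by rw [hΨr]; simp⟩
      have hB₀ : ∀ β' : B₀, algebraMap B C (β' : B) ∈ Ψr.range := fun β' =>
        ⟨1 ⊗ₜ β', by rw [hΨr]; simp⟩
      have hw : Ψr w ∈ Ψr.range := ⟨w, rfl⟩
      have hB : ∀ b : B, algebraMap B C b ∈ Ψr.range := by
        intro b
        obtain ⟨M, hM⟩ := hgood b
        have h1 : algebraMap B C b = (Ψr w) ^ M * algebraMap B C (b₀ ^ M * b) := by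
          rw [map_mul, map_pow, ← mul_assoc, ← mul_pow, hunit, one_pow, one_mul]
        rw [h1]
        exact Ψr.range.mul_mem (Ψr.range.pow_mem hw M) (hB₀ ⟨_, hM M le_rfl⟩)
      have hL : ∀ l : L, algebraMap L C l ∈ Ψr.range := by
        intro l
        obtain ⟨⟨b, ⟨_, k, rfl⟩⟩, hl⟩ := IsLocalization.surj (Submonoid.powers b₀) l
        simp only at hl
        have h1 : algebraMap L C l = algebraMap B C b * (Ψr w) ^ k := by
          have h2 := congrArg (algebraMap L C) hl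
          rw [map_mul, ← IsScalarTower.algebraMap_apply B L C,
            ← IsScalarTower.algebraMap_apply B L C, map_pow] at h2
          rw [← h2, mul_assoc, ← mul_pow, mul_comm (algebraMap B C b₀), hunit, one_pow, mul_one]
        rw [h1]
        exact Ψr.range.mul_mem (hB b) (Ψr.range.pow_mem hw k)
      have hD : ∀ d : D, algebraMap D C d ∈ Ψr.range := by
        intro d
        induction d using TensorProduct.induction_on with
        | zero => rw [map_zero]; exact Ψr.range.zero_mem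
        | tmul l a₁ =>
          have h1 : (l ⊗ₜ[A] a₁ : D) = algebraMap L D l * (1 ⊗ₜ a₁) := by
            rw [Algebra.TensorProduct.algebraMap_apply, Algebra.TensorProduct.tmul_mul_tmul]
            simp
          rw [h1, map_mul, ← IsScalarTower.algebraMap_apply L D C, ← halgA₁C]
          exact Ψr.range.mul_mem (hL l) (hA₁ a₁)
        | add d₁ d₂ h₁ h₂ => rw [map_add]; exact Ψr.range.add_mem h₁ h₂
      intro c
      obtain ⟨⟨d, ⟨_, k, rfl⟩⟩, hc⟩ := IsLocalization.surj (Submonoid.powers x) c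
      simp only at hc
      rw [map_pow, hx1, one_pow, mul_one] at hc
      rw [hc]
      exact hD d
    intro c
    exact hR c
  refine ⟨C, inferInstance, inferInstance, algA₁C, inferInstance, towerA₁, inferInstance,
    ?_, ?_, ?_, ?_⟩
  · have : Algebra.Etale B D := Algebra.Etale.comp B L D
    exact Algebra.Etale.comp B D C
  · let Ψ : A₁ ⊗[A] B₀ →ₗ[A₁] C :=
      { toFun := Ψr
        map_add' := map_add Ψr
        map_smul' := fun a₁ t => by
          show Ψr (a₁ • t) = a₁ • Ψr t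
          rw [Algebra.smul_def a₁ t, Algebra.smul_def a₁ (Ψr t), map_mul]
          congr 1
          rw [Algebra.TensorProduct.algebraMap_apply, hΨr]
          simp }
    exact Module.Finite.of_surjective Ψ hΨsurj
  · intro c'
    obtain ⟨c, rfl⟩ := Ideal.Quotient.mk_surjective c'
    obtain ⟨s₀, rfl⟩ := hΨsurj c
    have hle : (I.map (algebraMap A A₁)).map (algebraMap A₁ C) = I.map (algebraMap A C) := by
      rw [Ideal.map_map, ← IsScalarTower.algebraMap_eq]
    have key : ∃ β' : B₀, Ψr s₀ - algebraMap B C (β' : B) ∈ Ideal.map (algebraMap A C) I := by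
      induction s₀ using TensorProduct.induction_on with
      | zero => exact ⟨0, by simp⟩
      | tmul a₁ β₁ =>
        obtain ⟨α', hα'⟩ := hbij.2 (Ideal.Quotient.mk _ a₁)
        obtain ⟨α, rfl⟩ := Ideal.Quotient.mk_surjective α'
        rw [Ideal.quotientMap_mk, Ideal.Quotient.eq] at hα'
        refine ⟨α • β₁, ?_⟩
        rw [hΨr]
        have h1 : algebraMap A₁ C a₁ * algebraMap B C (β₁ : B) -
            algebraMap B C ((α • β₁ : B₀) : B) =
            algebraMap A₁ C (a₁ - algebraMap A A₁ α) * algebraMap B C (β₁ : B) := by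
          rw [Subalgebra.coe_smul, Algebra.smul_def, map_mul,
            ← IsScalarTower.algebraMap_apply A B C, IsScalarTower.algebraMap_apply A A₁ C, map_sub]
          ring
        rw [h1]
        refine Ideal.mul_mem_right _ _ ?_
        rw [← hle]
        apply Ideal.mem_map_of_mem
        have := neg_mem hα'
        rwa [neg_sub] at this
      | add s₁ s₂ h₁ h₂ =>
        obtain ⟨β₁, h₁⟩ := h₁
        obtain ⟨β₂, h₂⟩ := h₂
        refine ⟨β₁ + β₂, ?_⟩
        have h3 : Ψr (s₁ + s₂) - algebraMap B C ((β₁ + β₂ : B₀) : B) =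
            (Ψr s₁ - algebraMap B C (β₁ : B)) + (Ψr s₂ - algebraMap B C (β₂ : B)) := by
          rw [Subalgebra.coe_add, map_add, map_add]
          ring
        rw [h3]
        exact add_mem h₁ h₂
    obtain ⟨β', hβ'⟩ := key
    refine ⟨β', ?_⟩
    rw [RingHom.comp_apply, Ideal.Quotient.eq]
    have := neg_mem hβ'
    rwa [neg_sub] at this
  · -- the retraction `ρ : C → B ⧸ IB`
    set K := I.map (algebraMap A B) with hK
    have hmkb₀ : Ideal.Quotient.mk K b₀ = 1 := by
      rw [← map_one (Ideal.Quotient.mk K), Ideal.Quotient.eq]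
      exact hb₀1
    have hu₀ : IsUnit ((Ideal.Quotient.mkₐ A K) b₀) := by
      show IsUnit (Ideal.Quotient.mk K b₀)
      rw [hmkb₀]
      exact isUnit_one
    let ρL : L →ₐ[A] B ⧸ K := IsLocalization.Away.liftAlgHom (S := L) b₀
      (f := Ideal.Quotient.mkₐ A K) hu₀
    have hρL : ∀ b : B, ρL (algebraMap B L b) = Ideal.Quotient.mk K b := fun b =>
      IsLocalization.Away.lift_eq b₀ hu₀ b
    let ε : (A ⧸ I) ≃+* (A₁ ⧸ I.map (algebraMap A A₁)) := RingEquiv.ofBijective _ hbij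
    let ρA₁r : A₁ →+* B ⧸ K := (Ideal.quotientMap K (algebraMap A B) Ideal.le_comap_map).comp
      (ε.symm.toRingHom.comp (Ideal.Quotient.mk _))
    have hρA₁r : ∀ α : A, ρA₁r (algebraMap A A₁ α) = algebraMap A (B ⧸ K) α := by
      intro α
      show Ideal.quotientMap K (algebraMap A B) Ideal.le_comap_map
        (ε.symm (Ideal.Quotient.mk _ (algebraMap A A₁ α))) = _
      have h1 : Ideal.Quotient.mk _ (algebraMap A A₁ α) = ε (Ideal.Quotient.mk I α) := by
        simp [ε]
      rw [h1, ε.symm_apply_apply, Ideal.quotientMap_mk]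
      rfl
    let ρA₁ : A₁ →ₐ[A] B ⧸ K := { ρA₁r with commutes' := hρA₁r }
    let ρD : D →ₐ[A] B ⧸ K := Algebra.TensorProduct.lift ρL ρA₁ (fun _ _ => Commute.all _ _)
    have hρD : ∀ (l : L) (a₁ : A₁), ρD (l ⊗ₜ a₁) = ρL l * ρA₁ a₁ := fun l a₁ =>
      Algebra.TensorProduct.lift_tmul _ _ _ l a₁
    have hI0 : ∀ i ∈ I, algebraMap A (B ⧸ K) i = 0 := by
      intro i hi
      rw [IsScalarTower.algebraMap_apply A B (B ⧸ K), Ideal.Quotient.algebraMap_eq,
        Ideal.Quotient.eq_zero_iff_mem]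
      exact Ideal.mem_map_of_mem _ hi
    have hρDφ : ∀ z ∈ I.map (algebraMap A (A₁ ⊗[A] B₀)), ρD (φ z) = 0 := by
      intro z hz
      have h1 : (I.map (algebraMap A (A₁ ⊗[A] B₀))).map (ρD.comp φ).toRingHom ≤ ⊥ := by
        rw [Ideal.map_map, Ideal.map_le_iff_le_comap]
        intro i hi
        rw [Ideal.mem_comap, RingHom.comp_apply]
        show (ρD.comp φ) (algebraMap A _ i) ∈ _
        rw [AlgHom.commutes, hI0 i hi]
        exact Ideal.zero_mem _
      have h2 := h1 (Ideal.mem_map_of_mem _ hz)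
      exact (Ideal.mem_bot).mp h2
    have hρx : ρD x = 1 := by
      have h1 : x = φ (1 ⊗ₜ (β ^ N)) + φ (e - 1 ⊗ₜ (β ^ N)) := by
        rw [← map_add]
        show φ e = _
        congr 1
        ring
      rw [h1, map_add, hρDφ _ heN, add_zero, hφ, hρD, hρL, map_one, mul_one,
        Subalgebra.coe_pow, map_pow]
      show (Ideal.Quotient.mk K b₀) ^ N = 1
      rw [hmkb₀, one_pow]
    have hux : IsUnit (ρD.toRingHom x) := by
      show IsUnit (ρD x)
      rw [hρx]
      exact isUnit_one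
    let ρ : C →+* B ⧸ K := IsLocalization.Away.lift x (g := ρD.toRingHom) hux
    have hρ : ∀ d : D, ρ (algebraMap D C d) = ρD d := fun d =>
      IsLocalization.Away.lift_eq x hux d
    have hρB : ∀ b : B, ρ (algebraMap B C b) = Ideal.Quotient.mk K b := by
      intro b
      rw [IsScalarTower.algebraMap_apply B D C, hρ, Algebra.TensorProduct.algebraMap_apply,
        hρD, hρL, map_one, mul_one]
    have hρA : ∀ α : A, ρ (algebraMap A C α) = algebraMap A (B ⧸ K) α := by
      intro α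
      rw [IsScalarTower.algebraMap_apply A D C, hρ, ρD.commutes]
    ext b
    rw [RingHom.mem_ker, RingHom.comp_apply, Ideal.Quotient.eq_zero_iff_mem]
    constructor
    · intro hb
      have h2 : ρ (algebraMap B C b) ∈ (I.map (algebraMap A C)).map ρ :=
        Ideal.mem_map_of_mem _ hb
      rw [Ideal.map_map] at h2
      have h3 : I.map (ρ.comp (algebraMap A C)) = ⊥ := by
        rw [eq_bot_iff, Ideal.map_le_iff_le_comap]
        intro i hi
        rw [Ideal.mem_comap, RingHom.comp_apply, hρA, hI0 i hi]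
        exact Ideal.zero_mem _
      rw [h3, Ideal.mem_bot, hρB, Ideal.Quotient.eq_zero_iff_mem] at h2
      exact h2
    · intro hb
      have h4 : (I.map (algebraMap A B)).map (algebraMap B C) = I.map (algebraMap A C) := by
        rw [Ideal.map_map, ← IsScalarTower.algebraMap_eq]
      rw [← h4]
      exact Ideal.mem_map_of_mem _ hb


/-- Bijectivity of `A/I → A₁/IA₁` is transitive. -/
theorem bijective_quotientMap_trans {A A' A₁ : Type*} [CommRing A] [CommRing A'] [CommRing A₁]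
    [Algebra A A'] [Algebra A' A₁] [Algebra A A₁] [IsScalarTower A A' A₁] (I : Ideal A)
    (h₁ : Function.Bijective (Ideal.quotientMap (I.map (algebraMap A A')) (algebraMap A A')
      Ideal.le_comap_map))
    (h₂ : Function.Bijective (Ideal.quotientMap ((I.map (algebraMap A A')).map (algebraMap A' A₁))
      (algebraMap A' A₁) Ideal.le_comap_map)) :
    Function.Bijective (Ideal.quotientMap (I.map (algebraMap A A₁)) (algebraMap A A₁)
      Ideal.le_comap_map) := by
  have hmap : (I.map (algebraMap A A')).map (algebraMap A' A₁) = I.map (algebraMap A A₁) := by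
    rw [Ideal.map_map, ← IsScalarTower.algebraMap_eq]
  constructor
  · rw [injective_iff_map_eq_zero]
    intro x hx
    obtain ⟨α, rfl⟩ := Ideal.Quotient.mk_surjective x
    rw [Ideal.quotientMap_mk, Ideal.Quotient.eq_zero_iff_mem, ← hmap,
      IsScalarTower.algebraMap_apply A A' A₁] at hx
    have h3 : Ideal.quotientMap ((I.map (algebraMap A A')).map (algebraMap A' A₁))
        (algebraMap A' A₁) Ideal.le_comap_map (Ideal.Quotient.mk _ (algebraMap A A' α)) = 0 := by
      rw [Ideal.quotientMap_mk, Ideal.Quotient.eq_zero_iff_mem]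
      exact hx
    have h4 := (injective_iff_map_eq_zero _).mp h₂.1 _ h3
    have h5 : Ideal.quotientMap (I.map (algebraMap A A')) (algebraMap A A') Ideal.le_comap_map
        (Ideal.Quotient.mk I α) = 0 := by
      rw [Ideal.quotientMap_mk]
      exact h4
    exact (injective_iff_map_eq_zero _).mp h₁.1 _ h5
  · intro y
    obtain ⟨y₁, rfl⟩ := Ideal.Quotient.mk_surjective y
    obtain ⟨x', hx'⟩ := h₂.2 (Ideal.Quotient.mk _ y₁)
    obtain ⟨x, rfl⟩ := h₁.2 x'
    obtain ⟨α, rfl⟩ := Ideal.Quotient.mk_surjective x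
    refine ⟨Ideal.Quotient.mk I α, ?_⟩
    rw [Ideal.quotientMap_mk, Ideal.quotientMap_mk, Ideal.Quotient.eq, hmap,
      ← IsScalarTower.algebraMap_apply A A' A₁] at hx'
    rw [Ideal.quotientMap_mk, Ideal.Quotient.eq]
    exact hx'

/-- Surjectivity and kernel of `A → A₁/IA₁` from bijectivity of `A/I → A₁/IA₁`. -/
theorem surjective_and_ker_of_bijective {A A₁ : Type*} [CommRing A] [CommRing A₁] [Algebra A A₁]
    (I : Ideal A)
    (h : Function.Bijective (Ideal.quotientMap (I.map (algebraMap A A₁)) (algebraMap A A₁)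
      Ideal.le_comap_map)) :
    Function.Surjective ((Ideal.Quotient.mk (I.map (algebraMap A A₁))).comp (algebraMap A A₁)) ∧
      RingHom.ker ((Ideal.Quotient.mk (I.map (algebraMap A A₁))).comp (algebraMap A A₁)) = I := by
  constructor
  · intro y
    obtain ⟨x, hx⟩ := h.2 y
    obtain ⟨α, rfl⟩ := Ideal.Quotient.mk_surjective x
    exact ⟨α, by rw [← hx, Ideal.quotientMap_mk]; rfl⟩
  · ext α
    rw [RingHom.mem_ker, RingHom.comp_apply]
    have h1 : Ideal.Quotient.mk (I.map (algebraMap A A₁)) (algebraMap A A₁ α) =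
        Ideal.quotientMap (I.map (algebraMap A A₁)) (algebraMap A A₁) Ideal.le_comap_map
          (Ideal.Quotient.mk I α) := by rw [Ideal.quotientMap_mk]
    rw [h1, map_eq_zero_iff _ h.1, Ideal.Quotient.eq_zero_iff_mem]

open TensorProduct in
/-- Étale localisation of the finite part: for a finite type `A`-algebra `B` with `B/IB` finite over
`A` there are an étale neighbourhood `A'` of `V(I)` and an étale `B`-algebra `C`, finite over `A'`,
with `B/IB ≅ C/IC`. -/
theorem exists_etale_finite_part (B : Type u) [CommRing B] [Algebra A B] [Algebra.FiniteType A B]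
    (hfin : Module.Finite A (B ⧸ Ideal.map (algebraMap A B) I)) :
    ∃ (A' : Type u) (_ : CommRing A') (_ : Algebra A A') (_ : Algebra.Etale A A')
      (C : Type u) (_ : CommRing C) (_ : Algebra A C) (_ : Algebra A' C) (_ : Algebra B C)
      (_ : IsScalarTower A A' C) (_ : IsScalarTower A B C),
      Function.Surjective
        ((Ideal.Quotient.mk (Ideal.map (algebraMap A A') I)).comp (algebraMap A A')) ∧
      RingHom.ker ((Ideal.Quotient.mk (Ideal.map (algebraMap A A') I)).comp (algebraMap A A')) = I ∧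
      Algebra.Etale B C ∧ Module.Finite A' C ∧
      Function.Surjective
        ((Ideal.Quotient.mk (Ideal.map (algebraMap A C) I)).comp (algebraMap B C)) ∧
      RingHom.ker ((Ideal.Quotient.mk (Ideal.map (algebraMap A C) I)).comp (algebraMap B C)) =
        Ideal.map (algebraMap A B) I := by
  classical
  obtain ⟨B₀, b₀, hfg, hb₀, hb₀1, hgood⟩ := exists_finite_subalgebra_near I B hfin
  have hfinB₀ : Module.Finite A B₀ := ⟨(Submodule.fg_top _).mpr hfg⟩
  set β : B₀ := ⟨b₀, hb₀⟩ with hβ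
  set K₀ := I.map (algebraMap A B₀) with hK₀
  -- `β ^ N * (β - 1) ∈ I B₀`
  obtain ⟨N, hN⟩ := exists_pow_mul_mem_map (I := I) B₀ b₀ hb₀ hgood (b₀ - 1) hb₀1
  have hβN : β ^ N * (β - 1) ∈ K₀ := by
    obtain ⟨z, hz, hzb⟩ := hN N le_rfl
    have hz' : z = β ^ N * (β - 1) := Subtype.ext (by rw [hzb]; rfl)
    rwa [hz'] at hz
  have hstep : ∀ k : ℕ, Ideal.Quotient.mk K₀ (β ^ (N + k)) = Ideal.Quotient.mk K₀ (β ^ N) := by
    intro k
    induction k with
    | zero => rfl
    | succ k ih =>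
      rw [← ih, Ideal.Quotient.eq]
      have : β ^ (N + (k + 1)) - β ^ (N + k) = β ^ k * (β ^ N * (β - 1)) := by ring
      rw [this]
      exact K₀.mul_mem_left _ hβN
  have hidem : IsIdempotentElem (Ideal.Quotient.mk K₀ (β ^ N)) := by
    show _ * _ = _
    rw [← map_mul, ← pow_add, hstep]
  obtain ⟨A', _, _, hA'et, hA'bij, e', he', he'lift⟩ :=
    Groth.Agent.S2041.result I (Ideal.Quotient.mk K₀ (β ^ N)) hidem
  have he'β := he'lift (β ^ N) rfl
  -- Nakayama step
  set I' := I.map (algebraMap A A') with hI'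
  set IT₀ := I.map (algebraMap A (A' ⊗[A] B₀)) with hIT₀
  have hIT₀' : I'.map (algebraMap A' (A' ⊗[A] B₀)) = IT₀ := by
    rw [hI', Ideal.map_map, ← IsScalarTower.algebraMap_eq]
  have hincl : ∀ z ∈ K₀, ((1 : A') ⊗ₜ[A] z : A' ⊗[A] B₀) ∈ IT₀ := by
    intro z hz
    have h1 : K₀.map (Algebra.TensorProduct.includeRight : B₀ →ₐ[A] A' ⊗[A] B₀).toRingHom = IT₀ := by
      rw [hK₀, Ideal.map_map, hIT₀]
      congr 1
      exact (Algebra.TensorProduct.includeRight : B₀ →ₐ[A] A' ⊗[A] B₀).comp_algebraMap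
    rw [← h1]
    exact Ideal.mem_map_of_mem _ hz
  set 𝔞 : Ideal (A' ⊗[A] B₀) := Ideal.span {1 - e', (1 : A') ⊗ₜ[A] β} with h𝔞
  have hsup : 𝔞 ⊔ I'.map (algebraMap A' (A' ⊗[A] B₀)) = ⊤ := by
    rw [hIT₀', Ideal.eq_top_iff_one]
    have h1 : e' * ((1 : A') ⊗ₜ[A] β - 1) ∈ IT₀ := by
      have h2 : e' * ((1 : A') ⊗ₜ[A] β - 1) =
          (e' - 1 ⊗ₜ (β ^ N)) * ((1 : A') ⊗ₜ[A] β - 1) + (1 : A') ⊗ₜ[A] (β ^ N * (β - 1)) := by
        have h3 : (1 ⊗ₜ (β ^ N)) * ((1 : A') ⊗ₜ[A] β - 1) =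
            ((1 : A') ⊗ₜ[A] (β ^ N * (β - 1)) : A' ⊗[A] B₀) := by
          rw [Algebra.TensorProduct.one_def, ← TensorProduct.tmul_sub,
            Algebra.TensorProduct.tmul_mul_tmul, one_mul]
        rw [← h3]
        ring
      rw [h2]
      exact IT₀.add_mem (IT₀.mul_mem_right _ he'β) (hincl _ hβN)
    have h4 : (1 : A' ⊗[A] B₀) = ((1 - e') + e' * ((1 : A') ⊗ₜ[A] β)) +
        (-(e' * ((1 : A') ⊗ₜ[A] β - 1))) := by ring
    rw [h4]
    refine Submodule.add_mem_sup (𝔞.add_mem ?_ (𝔞.mul_mem_left _ ?_)) (IT₀.neg_mem h1)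
    · exact Ideal.subset_span (by simp)
    · exact Ideal.subset_span (by simp)
  obtain ⟨a, ha1, ha𝔞⟩ := exists_sub_one_mem_and_algebraMap_mem I' 𝔞 hsup
  obtain ⟨t₁, t₂, ht⟩ := Ideal.mem_span_pair.mp ha𝔞
  -- the localisation `A₁ = A'[1/a]`
  let A₁ := Localization.Away a
  have hetA₁ : Algebra.Etale A A₁ := Algebra.Etale.comp A A' A₁
  have hbijA' : Function.Bijective (Ideal.quotientMap (I.map (algebraMap A A')) (algebraMap A A')
      Ideal.le_comap_map) := hA'bij
  have ha1' : 1 - a ∈ I' := by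
    have := I'.neg_mem ha1
    rwa [neg_sub] at this
  have hbij₁ : Function.Bijective (Ideal.quotientMap (I.map (algebraMap A A₁)) (algebraMap A A₁)
      Ideal.le_comap_map) :=
    bijective_quotientMap_trans I hbijA'
      (Groth.Agent.Lib.helper26.AwayNbhd.bijective_quotientMap_away I' a ha1')
  -- base change of the data to `A₁`
  let θ : A' ⊗[A] B₀ →ₐ[A] A₁ ⊗[A] B₀ :=
    Algebra.TensorProduct.map (IsScalarTower.toAlgHom A A' A₁) (AlgHom.id A B₀)
  have hθ : ∀ (a' : A') (z : B₀), θ (a' ⊗ₜ z) = (algebraMap A' A₁ a') ⊗ₜ z := fun a' z => by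
    simp [θ]
  have hθI : ∀ z ∈ IT₀, θ z ∈ I.map (algebraMap A (A₁ ⊗[A] B₀)) := by
    intro z hz
    have h1 : IT₀.map θ.toRingHom = I.map (algebraMap A (A₁ ⊗[A] B₀)) := by
      rw [hIT₀, Ideal.map_map]
      congr 1
    rw [← h1]
    exact Ideal.mem_map_of_mem _ hz
  obtain ⟨u, hu⟩ := (IsLocalization.Away.algebraMap_isUnit (S := A₁) a).exists_left_inv
  have hws : ((u ⊗ₜ[A] (1 : B₀)) * θ t₂) * ((1 : A₁) ⊗ₜ[A] β) +
      ((u ⊗ₜ[A] (1 : B₀)) * θ t₁) * (1 - θ e') = 1 := by
    have h1 := congrArg θ ht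
    rw [map_add, map_mul, map_mul, map_sub, map_one, hθ, map_one,
      Algebra.TensorProduct.algebraMap_apply, hθ] at h1
    have h2 : ((u ⊗ₜ[A] (1 : B₀)) * θ t₂) * ((1 : A₁) ⊗ₜ[A] β) +
        ((u ⊗ₜ[A] (1 : B₀)) * θ t₁) * (1 - θ e') =
        (u ⊗ₜ[A] (1 : B₀)) * (θ t₁ * (1 - θ e') + θ t₂ * ((1 : A₁) ⊗ₜ[A] β)) := by ring
    rw [h2, h1, Algebra.TensorProduct.tmul_mul_tmul, one_mul]
    show (u * algebraMap A' A₁ a) ⊗ₜ[A] (1 : B₀) = 1
    rw [hu]
    rfl
  have heN : θ e' - 1 ⊗ₜ ((⟨b₀, hb₀⟩ : B₀) ^ N) ∈ I.map (algebraMap A (A₁ ⊗[A] B₀)) := by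
    have := hθI _ he'β
    rwa [map_sub, hθ, map_one] at this
  obtain ⟨C, iC1, iC2, iC3, iC4, iC5, iC6, hC1, hC2, hC3, hC4⟩ :=
    assembly I B₀ b₀ hb₀ hb₀1 hgood A₁ hbij₁ (θ e') (he'.map θ) N heN _ _ hws
  obtain ⟨hs, hk⟩ := surjective_and_ker_of_bijective I hbij₁
  exact ⟨A₁, inferInstance, inferInstance, hetA₁, C, iC1, iC2, iC3, iC4, iC5, iC6, hs, hk,
    hC1, hC2, hC3, hC4⟩


end Groth.Agent.Lib.helper26.FinitePart
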