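import Mathlib
import Groth.Agent.Lib.Helper26.FinitePart
import Groth.Agent.Lib.Helper26.HenselPairIdem

/-!
# Lifting finite étale algebras along a Henselian pair (helper26)

* `etale_away_jacobian`: `A[X_ι]/(r_j)[1/Δ]` is étale (square system, `Δ` the Jacobian).
* `exists_etale_lift`: every étale `A/I`-algebra is the reduction of an étale `A`-algebra
  (Stacks 04D1).
* `nonempty_tensor_algEquiv_of_surjective`: a surjection `B → C` with kernel `IB` gives
  `(A/I) ⊗ B ≃ C`.
* `exists_finite_part_of_henselianRing`: over a Henselian pair, a finite type algebra `B` with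
  `B/IB` finite has an étale `B`-algebra `C`, finite over `A`, with `B/IB ≅ C/IC`.
* `exists_finite_etale_lift`: finite étale `A/I`-algebras lift to finite étale `A`-algebras
  (S0532).
-/

universe u

namespace Groth.Agent.Lib.helper26.FiniteEtaleLift

open Groth.Agent.Lib.helper26.HenselPair Groth.Agent.Lib.helper26.FinitePart

variable {A : Type u} [CommRing A] (I : Ideal A)

/-- A surjection `ψ : B → C` onto an `A/I`-algebra with kernel `IB` identifies `C` with
`(A/I) ⊗ B`. -/
theorem nonempty_tensor_algEquiv_of_surjective (B : Type u) [CommRing B] [Algebra A B]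
    (C : Type u) [CommRing C] [Algebra (A ⧸ I) C] (ψ : B →+* C)
    (hψA : ∀ a, ψ (algebraMap A B a) = algebraMap (A ⧸ I) C (Ideal.Quotient.mk I a))
    (hsurj : Function.Surjective ψ) (hker : RingHom.ker ψ = I.map (algebraMap A B)) :
    Nonempty (TensorProduct A (A ⧸ I) B ≃ₐ[A ⧸ I] C) := by
  let ε₀ : B ⧸ RingHom.ker ψ ≃+* C := RingHom.quotientKerEquivOfSurjective hsurj
  let ε : B ⧸ I.map (algebraMap A B) ≃+* C := (Ideal.quotEquivOfEq hker.symm).trans ε₀
  have hε : ∀ b : B, ε (Ideal.Quotient.mk _ b) = ψ b := fun b => rfl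
  let ε' : (B ⧸ I.map (algebraMap A B)) ≃ₐ[A ⧸ I] C := AlgEquiv.ofRingEquiv (f := ε) (by
    intro x
    obtain ⟨a, rfl⟩ := Ideal.Quotient.mk_surjective x
    exact (hε _).trans (hψA a))
  exact ⟨(Algebra.TensorProduct.quotIdealMapEquivQuotTensor B I).symm.trans ε'⟩

open MvPolynomial in
/-- `A[X_ι]/(r_j)[1/Δ]` is étale, for a square system with Jacobian `Δ`. -/
theorem etale_away_jacobian {ι σ : Type} [Finite ι] [Finite σ]
    (r : σ → MvPolynomial ι A) (m : σ → ι) (hm : Function.Injective m)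
    (hcard : Nat.card ι - Nat.card σ = 0) :
    Algebra.Etale A (Localization.Away
      (Algebra.PreSubmersivePresentation.naive (R := A) (v := r) m hm).jacobian) := by
  set Pre := Algebra.PreSubmersivePresentation.naive (R := A) (v := r) m hm with hPre
  set Δ := Pre.jacobian with hΔdef
  have hΔ : IsUnit (algebraMap _ (Localization.Away Δ) Δ) :=
    IsLocalization.Away.algebraMap_isUnit _
  let SP : Algebra.SubmersivePresentation A (Localization.Away Δ) _ _ :=
    { toPreSubmersivePresentation := .comp (.localizationAway (Localization.Away Δ) Δ) Pre,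
      jacobian_isUnit := by simpa [Algebra.smul_def, -isUnit_map_iff, hΔ] }
  have : Algebra.IsStandardSmoothOfRelativeDimension 0 A (Localization.Away Δ) :=
    ⟨_, _, _, inferInstance, SP, by
      simp only [Algebra.PreSubmersivePresentation.dimension_comp_eq_dimension_add_dimension, SP]
      simp [Algebra.Presentation.dimension, hcard]⟩
  infer_instance


open MvPolynomial in
/-- Étale algebras lift along `A → A/I` (Stacks 04D1, affine case). -/
theorem exists_etale_lift (C : Type u) [CommRing C] [Algebra (A ⧸ I) C]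
    [Algebra.Etale (A ⧸ I) C] :
    ∃ (B₁ : Type u) (_ : CommRing B₁) (_ : Algebra A B₁) (_ : Algebra.Etale A B₁) (ψ : B₁ →+* C),
      (∀ a, ψ (algebraMap A B₁ a) = algebraMap (A ⧸ I) C (Ideal.Quotient.mk I a)) ∧
      Function.Surjective ψ ∧ RingHom.ker ψ = I.map (algebraMap A B₁) := by
  classical
  obtain ⟨ι, σ, _, _, P, hdim⟩ :=
    (Algebra.Etale.iff_isStandardSmoothOfRelativeDimension_zero.mp
      (inferInstance : Algebra.Etale (A ⧸ I) C)).out
  have := Fintype.ofFinite σ
  have hlift : ∀ j : σ, ∃ q : MvPolynomial ι A, map (Ideal.Quotient.mk I) q = P.relation j :=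
    fun j => map_surjective _ Ideal.Quotient.mk_surjective _
  choose r hr using hlift
  set Pre := Algebra.PreSubmersivePresentation.naive (R := A) (v := r) P.map P.map_inj with hPre
  set Δ := Pre.jacobian with hΔdef
  have het : Algebra.Etale A (Localization.Away Δ) := etale_away_jacobian r P.map P.map_inj hdim
  let Q₀ := MvPolynomial ι A ⧸ Ideal.span (Set.range r)
  let B₁ := Localization.Away Δ
  -- the map `ψ₀ : A[X] → C`
  let g : A →+* C := (algebraMap (A ⧸ I) C).comp (Ideal.Quotient.mk I)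
  let ψ₀ : MvPolynomial ι A →+* C := eval₂Hom g P.val
  have hψ₀ : ∀ q, ψ₀ q = aeval P.val (map (Ideal.Quotient.mk I) q) := by
    intro q
    show eval₂ g P.val q = _
    rw [aeval_def, eval₂_map]
  have hψ₀r : ∀ q ∈ Ideal.span (Set.range r), ψ₀ q = 0 := by
    have hle : Ideal.span (Set.range r) ≤ RingHom.ker ψ₀ := by
      rw [Ideal.span_le]
      rintro _ ⟨j, rfl⟩
      show ψ₀ (r j) = 0
      rw [hψ₀, hr, Algebra.Presentation.aeval_val_relation]
    exact fun q hq => hle hq
  let ψ₁ : Q₀ →+* C := Ideal.Quotient.lift _ ψ₀ hψ₀r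
  have hψ₁ : ∀ q, ψ₁ (Ideal.Quotient.mk _ q) = ψ₀ q := fun q => rfl
  have hring : ∀ q : MvPolynomial ι A, algebraMap Pre.Ring Q₀ q = Ideal.Quotient.mk _ q := by
    intro q
    have h1 : (algebraMap Pre.Ring Q₀ : MvPolynomial ι A →+* Q₀) = Ideal.Quotient.mk _ := by
      apply MvPolynomial.ringHom_ext
      · intro a
        rw [Algebra.Generators.algebraMap_apply]
        simp
        rfl
      · intro i
        rw [Algebra.Generators.algebraMap_apply, aeval_X]
        rfl
    exact RingHom.congr_fun h1 q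
  have hΔeq : ψ₁ Δ = P.jacobian := by
    rw [hΔdef, Algebra.PreSubmersivePresentation.jacobian_eq_jacobiMatrix_det, hring, hψ₁,
      Algebra.PreSubmersivePresentation.jacobian_eq_jacobiMatrix_det, RingHom.map_det,
      RingHom.map_det]
    congr 1
    ext i j
    rw [RingHom.mapMatrix_apply, RingHom.mapMatrix_apply, Matrix.map_apply, Matrix.map_apply, hPre,
      Algebra.PreSubmersivePresentation.jacobiMatrix_naive,
      Algebra.PreSubmersivePresentation.jacobiMatrix_apply, hψ₀, ← pderiv_map, hr,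
      Algebra.Generators.algebraMap_apply]
  have hΔu : IsUnit (ψ₁ Δ) := by
    rw [hΔeq]
    exact P.jacobian_isUnit
  let ψ : B₁ →+* C := IsLocalization.Away.lift Δ (g := ψ₁) hΔu
  have hψ : ∀ z : Q₀, ψ (algebraMap Q₀ B₁ z) = ψ₁ z := fun z =>
    IsLocalization.Away.lift_eq Δ hΔu z
  have hAQ₀ : ∀ a : A, algebraMap A Q₀ a = Ideal.Quotient.mk _ (MvPolynomial.C a) := fun a => rfl
  have hcompat : ∀ a, ψ (algebraMap A B₁ a) = algebraMap (A ⧸ I) C (Ideal.Quotient.mk I a) := by
    intro a
    rw [IsScalarTower.algebraMap_apply A Q₀ B₁, hψ, hAQ₀, hψ₁]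
    show eval₂ g P.val (MvPolynomial.C a) = _
    rw [eval₂_C]
    rfl
  refine ⟨B₁, inferInstance, inferInstance, het, ψ, hcompat, ?_, ?_⟩
  · intro c
    obtain ⟨p, rfl⟩ := P.algebraMap_surjective c
    obtain ⟨q, rfl⟩ := map_surjective (Ideal.Quotient.mk I) Ideal.Quotient.mk_surjective p
    refine ⟨algebraMap Q₀ B₁ (Ideal.Quotient.mk _ q), ?_⟩
    rw [hψ, hψ₁, hψ₀, Algebra.Generators.algebraMap_apply]
  · apply le_antisymm
    · intro y hy
      rw [RingHom.mem_ker] at hy
      obtain ⟨⟨z, ⟨_, k, rfl⟩⟩, hz⟩ := IsLocalization.surj (Submonoid.powers Δ) y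
      simp only at hz
      obtain ⟨q, rfl⟩ := Ideal.Quotient.mk_surjective z
      have h1 : ψ₀ q = 0 := by
        have := congrArg ψ hz
        rw [map_mul, hy, zero_mul, hψ, hψ₁] at this
        exact this.symm
      -- `q` lies in `(r) + I A[X]`
      rw [hψ₀, ← Algebra.Generators.algebraMap_apply, ← RingHom.mem_ker] at h1
      have h2 : map (Ideal.Quotient.mk I) q ∈
          (Ideal.span (Set.range r)).map (map (Ideal.Quotient.mk I)) := by
        rw [Ideal.map_span, ← Set.range_comp]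
        have h3 : (map (Ideal.Quotient.mk I) ∘ r) = P.relation := funext hr
        rw [h3, P.span_range_relation_eq_ker]
        exact h1
      obtain ⟨q', hq', hqq'⟩ := (Ideal.mem_map_iff_of_surjective _
        (map_surjective _ Ideal.Quotient.mk_surjective)).mp h2
      have h4 : q - q' ∈ I.map (MvPolynomial.C : A →+* MvPolynomial ι A) := by
        have : q - q' ∈ RingHom.ker (map (Ideal.Quotient.mk I) : MvPolynomial ι A →+* _) := by
          rw [RingHom.mem_ker, map_sub, hqq', sub_self]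
        rwa [ker_map, Ideal.mk_ker] at this
      have h5 : Ideal.Quotient.mk (Ideal.span (Set.range r)) q ∈ I.map (algebraMap A Q₀) := by
        have h6 : Ideal.Quotient.mk (Ideal.span (Set.range r)) q =
            Ideal.Quotient.mk (Ideal.span (Set.range r)) (q - q') := by
          rw [map_sub, Ideal.Quotient.eq_zero_iff_mem.mpr hq', sub_zero]
        have h7 : I.map (algebraMap A Q₀) =
            (I.map (MvPolynomial.C : A →+* MvPolynomial ι A)).map (Ideal.Quotient.mk _) := by
          rw [Ideal.map_map]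
          rfl
        rw [h6, h7]
        exact Ideal.mem_map_of_mem _ h4
      have h8 : algebraMap Q₀ B₁ (Ideal.Quotient.mk _ q) ∈ I.map (algebraMap A B₁) := by
        have h9 : I.map (algebraMap A B₁) = (I.map (algebraMap A Q₀)).map (algebraMap Q₀ B₁) := by
          rw [Ideal.map_map, ← IsScalarTower.algebraMap_eq]
        rw [h9]
        exact Ideal.mem_map_of_mem _ h5
      have hu : IsUnit (algebraMap Q₀ B₁ (Δ ^ k)) :=
        (IsLocalization.Away.algebraMap_isUnit (S := B₁) Δ).map (powMonoidHom k) |> fun h => by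
          rw [map_pow]; exact h
      rw [← hz] at h8
      exact (Ideal.unit_mul_mem_iff_mem _ hu).mp (by rwa [mul_comm] at h8)
    · rw [Ideal.map_le_iff_le_comap]
      intro i hi
      rw [Ideal.mem_comap, RingHom.mem_ker, hcompat, Ideal.Quotient.eq_zero_iff_mem.mpr hi,
        map_zero]


section
open TensorProduct

theorem bijective_quotientMap_self :
    Function.Bijective (Ideal.quotientMap (I.map (algebraMap A A)) (algebraMap A A)
      Ideal.le_comap_map) := by
  have hI : I.map (algebraMap A A) = I := Ideal.map_id I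
  constructor
  · rw [injective_iff_map_eq_zero]
    intro x hx
    obtain ⟨α, rfl⟩ := Ideal.Quotient.mk_surjective x
    rw [Ideal.quotientMap_mk, Ideal.Quotient.eq_zero_iff_mem, hI] at hx
    exact Ideal.Quotient.eq_zero_iff_mem.mpr hx
  · intro y
    obtain ⟨y₁, rfl⟩ := Ideal.Quotient.mk_surjective y
    exact ⟨Ideal.Quotient.mk I y₁, by rw [Ideal.quotientMap_mk]; rfl⟩

/-- Over a Henselian pair the finite part splits off without étale localisation. -/
theorem exists_finite_part_of_henselianRing (h : HenselianRing A I) (B : Type u) [CommRing B]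
    [Algebra A B] [Algebra.FiniteType A B]
    (hfin : Module.Finite A (B ⧸ I.map (algebraMap A B))) :
    ∃ (C : Type u) (_ : CommRing C) (_ : Algebra A C) (_ : Algebra B C) (_ : IsScalarTower A B C),
      Algebra.Etale B C ∧ Module.Finite A C ∧
      Function.Surjective
        ((Ideal.Quotient.mk (Ideal.map (algebraMap A C) I)).comp (algebraMap B C)) ∧
      RingHom.ker ((Ideal.Quotient.mk (Ideal.map (algebraMap A C) I)).comp (algebraMap B C)) =
        Ideal.map (algebraMap A B) I := by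
  classical
  obtain ⟨B₀, b₀, hfg, hb₀, hb₀1, hgood⟩ := exists_finite_subalgebra_near I B hfin
  have hfinB₀ : Module.Finite A B₀ := ⟨(Submodule.fg_top _).mpr hfg⟩
  set β : B₀ := ⟨b₀, hb₀⟩ with hβ
  set K₀ := I.map (algebraMap A B₀) with hK₀
  obtain ⟨N, hN⟩ := exists_pow_mul_mem_map (I := I) B₀ b₀ hb₀ hgood (b₀ - 1) hb₀1
  have hβN : β ^ N * (β - 1) ∈ K₀ := by
    obtain ⟨z, hz, hzb⟩ := hN N le_rfl
    have hz' : z = β ^ N * (β - 1) := Subtype.ext (by rw [hzb]; rfl)
    rwa [hz'] at hz
  have hstep : ∀ k : ℕ, Ideal.Quotient.mk K₀ (β ^ (N + k)) = Ideal.Quotient.mk K₀ (β ^ N) := by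
    intro k
    induction k with
    | zero => rfl
    | succ k ih =>
      rw [← ih, Ideal.Quotient.eq]
      have : β ^ (N + (k + 1)) - β ^ (N + k) = β ^ k * (β ^ N * (β - 1)) := by ring
      rw [this]
      exact K₀.mul_mem_left _ hβN
  have hidem : IsIdempotentElem (Ideal.Quotient.mk K₀ (β ^ N)) := by
    show _ * _ = _
    rw [← map_mul, ← pow_add, hstep]
  obtain ⟨e₀, he₀, he₀mk⟩ := exists_idempotent_lift_of_henselianRing h B₀ _ hidem
  have he₀β : e₀ - β ^ N ∈ K₀ := Ideal.Quotient.eq.mp he₀mk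
  -- Nakayama step
  set 𝔞 : Ideal B₀ := Ideal.span {1 - e₀, β} with h𝔞
  have hsup : 𝔞 ⊔ I.map (algebraMap A B₀) = ⊤ := by
    rw [Ideal.eq_top_iff_one]
    have h1 : e₀ * (β - 1) ∈ K₀ := by
      have h2 : e₀ * (β - 1) = (e₀ - β ^ N) * (β - 1) + β ^ N * (β - 1) := by ring
      rw [h2]
      exact K₀.add_mem (K₀.mul_mem_right _ he₀β) hβN
    have h4 : (1 : B₀) = ((1 - e₀) + e₀ * β) + (-(e₀ * (β - 1))) := by ring
    rw [h4]
    refine Submodule.add_mem_sup (𝔞.add_mem ?_ (𝔞.mul_mem_left _ ?_)) (K₀.neg_mem h1)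
    · exact Ideal.subset_span (by simp)
    · exact Ideal.subset_span (by simp)
  obtain ⟨a, ha1, ha𝔞⟩ := exists_sub_one_mem_and_algebraMap_mem I 𝔞 hsup
  obtain ⟨t₁, t₂, ht⟩ := Ideal.mem_span_pair.mp ha𝔞
  have hau : IsUnit a := by
    have := (Ideal.mem_jacobson_bot.mp (h.jac ha1)) 1
    simpa using this
  obtain ⟨u, hu⟩ := hau.exists_left_inv
  have hincl : ∀ z ∈ K₀, ((1 : A) ⊗ₜ[A] z : A ⊗[A] B₀) ∈ I.map (algebraMap A (A ⊗[A] B₀)) := by
    intro z hz
    have h1 : K₀.map (Algebra.TensorProduct.includeRight : B₀ →ₐ[A] A ⊗[A] B₀).toRingHom =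
        I.map (algebraMap A (A ⊗[A] B₀)) := by
      rw [hK₀, Ideal.map_map]
      congr 1
      exact (Algebra.TensorProduct.includeRight : B₀ →ₐ[A] A ⊗[A] B₀).comp_algebraMap
    rw [← h1]
    exact Ideal.mem_map_of_mem _ hz
  have heN : ((1 : A) ⊗ₜ[A] e₀ : A ⊗[A] B₀) - 1 ⊗ₜ ((⟨b₀, hb₀⟩ : B₀) ^ N) ∈
      I.map (algebraMap A (A ⊗[A] B₀)) := by
    rw [← TensorProduct.tmul_sub]
    exact hincl _ he₀β
  have hidemT : IsIdempotentElem ((1 : A) ⊗ₜ[A] e₀ : A ⊗[A] B₀) := by
    show _ * _ = _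
    rw [Algebra.TensorProduct.tmul_mul_tmul, one_mul, he₀.eq]
  have hws : ((1 : A) ⊗ₜ[A] (u • t₂)) * ((1 : A) ⊗ₜ[A] (⟨b₀, hb₀⟩ : B₀)) +
      ((1 : A) ⊗ₜ[A] (u • t₁)) * (1 - (1 : A) ⊗ₜ[A] e₀) = 1 := by
    rw [Algebra.TensorProduct.one_def, ← TensorProduct.tmul_sub,
      Algebra.TensorProduct.tmul_mul_tmul, Algebra.TensorProduct.tmul_mul_tmul,
      ← TensorProduct.tmul_add, one_mul]
    congr 1
    have h1 : u • t₂ * β + u • t₁ * (1 - e₀) = u • (t₁ * (1 - e₀) + t₂ * β) := by
      rw [smul_add, smul_mul_assoc, smul_mul_assoc, add_comm]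
    rw [h1, ht, Algebra.smul_def, ← map_mul, hu, map_one]
  obtain ⟨C, iC1, iC2, iC3, iC4, iC5, iC6, hC1, hC2, hC3, hC4⟩ :=
    assembly I B₀ b₀ hb₀ hb₀1 hgood A (bijective_quotientMap_self I) _ hidemT N heN _ _ hws
  have heq : iC2 = iC3 := Algebra.algebra_ext _ _ (fun r =>
    @IsScalarTower.algebraMap_apply A A C _ _ _ _ iC3 iC2 iC5 r)
  exact ⟨C, iC1, iC2, iC4, iC6, hC1, heq ▸ hC2, hC3, hC4⟩

/-- Finite étale algebras lift along a Henselian pair (Stacks 09ZL, essential surjectivity). -/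
theorem exists_finite_etale_lift (h : HenselianRing A I) (C : Type u) [CommRing C]
    [Algebra (A ⧸ I) C] [Module.Finite (A ⧸ I) C] [Algebra.Etale (A ⧸ I) C] :
    ∃ (B : Type u) (_ : CommRing B) (_ : Algebra A B), Module.Finite A B ∧ Algebra.Etale A B ∧
      Nonempty (TensorProduct A (A ⧸ I) B ≃ₐ[A ⧸ I] C) := by
  obtain ⟨B₁, _, _, hB₁et, ψ, hψA, hψsurj, hψker⟩ := exists_etale_lift I C
  have hft : Algebra.FiniteType A B₁ := inferInstance
  have hfin : Module.Finite A (B₁ ⧸ I.map (algebraMap A B₁)) := by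
    let ε₀ : B₁ ⧸ RingHom.ker ψ ≃+* C := RingHom.quotientKerEquivOfSurjective hψsurj
    let ε : B₁ ⧸ I.map (algebraMap A B₁) ≃+* C := (Ideal.quotEquivOfEq hψker.symm).trans ε₀
    have hε : ∀ b, ε (Ideal.Quotient.mk _ b) = ψ b := fun b => rfl
    let g : C →ₗ[A ⧸ I] B₁ ⧸ I.map (algebraMap A B₁) :=
      { toFun := ε.symm
        map_add' := map_add _
        map_smul' := by
          intro x c
          obtain ⟨a, rfl⟩ := Ideal.Quotient.mk_surjective x
          apply ε.injective
          rw [RingHom.id_apply, ε.apply_symm_apply, Algebra.smul_def, Algebra.smul_def, map_mul,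
            ε.apply_symm_apply]
          congr 1
          exact ((hε _).trans (hψA a)).symm }
    have : Module.Finite (A ⧸ I) (B₁ ⧸ I.map (algebraMap A B₁)) :=
      Module.Finite.of_surjective g ε.symm.surjective
    exact Module.Finite.trans (A ⧸ I) _
  obtain ⟨C', _, _, _, _, hC'et, hC'fin, hC'surj, hC'ker⟩ :=
    exists_finite_part_of_henselianRing I h B₁ hfin
  have hC'etA : Algebra.Etale A C' := Algebra.Etale.comp A B₁ C'
  refine ⟨C', inferInstance, inferInstance, hC'fin, hC'etA, ?_⟩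
  let χ : B₁ →+* C' ⧸ I.map (algebraMap A C') :=
    (Ideal.Quotient.mk (I.map (algebraMap A C'))).comp (algebraMap B₁ C')
  let e₁ : B₁ ⧸ RingHom.ker χ ≃+* C' ⧸ I.map (algebraMap A C') :=
    RingHom.quotientKerEquivOfSurjective hC'surj
  let e₂ : B₁ ⧸ RingHom.ker χ ≃+* C :=
    (Ideal.quotEquivOfEq (hC'ker.trans hψker.symm)).trans
      (RingHom.quotientKerEquivOfSurjective hψsurj)
  have he₁ : ∀ b, e₁ (Ideal.Quotient.mk _ b) = χ b := fun b => rfl
  have he₂ : ∀ b, e₂ (Ideal.Quotient.mk _ b) = ψ b := fun b => rfl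
  let ψ' : C' →+* C := (e₂.toRingHom.comp e₁.symm.toRingHom).comp (Ideal.Quotient.mk _)
  have hψ' : ∀ c, ψ' c = e₂ (e₁.symm (Ideal.Quotient.mk _ c)) := fun c => rfl
  apply nonempty_tensor_algEquiv_of_surjective I C' C ψ'
  · intro a
    rw [hψ']
    have h1 : Ideal.Quotient.mk (I.map (algebraMap A C')) (algebraMap A C' a) =
        e₁ (Ideal.Quotient.mk _ (algebraMap A B₁ a)) := by
      rw [he₁]
      show _ = Ideal.Quotient.mk _ (algebraMap B₁ C' (algebraMap A B₁ a))
      rw [← IsScalarTower.algebraMap_apply]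
    rw [h1, e₁.symm_apply_apply, he₂]
    exact hψA a
  · exact (e₂.surjective.comp e₁.symm.surjective).comp Ideal.Quotient.mk_surjective
  · ext c
    rw [RingHom.mem_ker, hψ', map_eq_zero_iff _ e₂.injective,
      map_eq_zero_iff _ e₁.symm.injective, Ideal.Quotient.eq_zero_iff_mem]


end

end Groth.Agent.Lib.helper26.FiniteEtaleLift
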