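import Mathlib
import Groth.Agent.Lib.Helper26.EtaleLift
import Groth.Agent.Lib.Helper26.AwayNbhd

/-!
# Étale neighbourhoods of a pair `(A, I)` (helper26)

`IsNbhd I A'` says that `A/I → A'/IA'` is bijective.  For étale `A'` these are the étale
neighbourhoods of `V(I)`; they form a filtered category (`exists_common`, `exists_coequalizer`).
-/

universe u

namespace Groth.Agent.Lib.helper26.PairNbhd

open TensorProduct

variable {A : Type u} [CommRing A] (I : Ideal A)

/-- `A'` is a neighbourhood of `V(I)`: the map `A/I → A'/IA'` is bijective. -/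
def IsNbhd (A' : Type*) [CommRing A'] [Algebra A A'] : Prop :=
  Function.Bijective (Ideal.quotientMap (I.map (algebraMap A A')) (algebraMap A A')
    Ideal.le_comap_map)

variable {I}

theorem IsNbhd.exists_sub_mem {A' : Type*} [CommRing A'] [Algebra A A'] (h : IsNbhd I A')
    (x : A') : ∃ a : A, algebraMap A A' a - x ∈ I.map (algebraMap A A') := by
  obtain ⟨y, hy⟩ := h.2 (Ideal.Quotient.mk _ x)
  obtain ⟨a, rfl⟩ := Ideal.Quotient.mk_surjective y
  rw [Ideal.quotientMap_mk, Ideal.Quotient.eq] at hy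
  exact ⟨a, hy⟩

theorem IsNbhd.mem_of_algebraMap_mem {A' : Type*} [CommRing A'] [Algebra A A'] (h : IsNbhd I A')
    (a : A) (ha : algebraMap A A' a ∈ I.map (algebraMap A A')) : a ∈ I := by
  have h1 : Ideal.quotientMap (I.map (algebraMap A A')) (algebraMap A A') Ideal.le_comap_map
      (Ideal.Quotient.mk I a) = 0 := by
    rw [Ideal.quotientMap_mk, Ideal.Quotient.eq_zero_iff_mem]
    exact ha
  exact Ideal.Quotient.eq_zero_iff_mem.mp ((map_eq_zero_iff _ h.1).mp h1)

/-- An `A`-algebra map to `A/I` kills `IA'`. -/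
theorem algHom_eq_zero_of_mem {A' : Type*} [CommRing A'] [Algebra A A'] (σ : A' →ₐ[A] A ⧸ I)
    (x : A') (hx : x ∈ I.map (algebraMap A A')) : σ x = 0 := by
  have h1 : (I.map (algebraMap A A')).map σ.toRingHom ≤ ⊥ := by
    rw [Ideal.map_map, Ideal.map_le_iff_le_comap]
    intro i hi
    rw [Ideal.mem_comap, RingHom.comp_apply]
    show σ (algebraMap A A' i) ∈ _
    rw [σ.commutes, Ideal.Quotient.algebraMap_eq, Ideal.Quotient.eq_zero_iff_mem.mpr hi]
    exact Ideal.zero_mem _
  exact Ideal.mem_bot.mp (h1 (Ideal.mem_map_of_mem _ hx))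

/-- `A`-algebra maps from a neighbourhood to `A/I` are unique. -/
theorem IsNbhd.algHom_ext {A' : Type*} [CommRing A'] [Algebra A A'] (h : IsNbhd I A')
    (σ σ' : A' →ₐ[A] A ⧸ I) : σ = σ' := by
  ext x
  obtain ⟨a, ha⟩ := h.exists_sub_mem x
  have h1 := algHom_eq_zero_of_mem σ _ ha
  have h2 := algHom_eq_zero_of_mem σ' _ ha
  rw [map_sub, σ.commutes, sub_eq_zero] at h1
  rw [map_sub, σ'.commutes, sub_eq_zero] at h2
  rw [← h1, ← h2]

/-- The canonical map from a neighbourhood to `A/I`. -/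
noncomputable def IsNbhd.toQuot {A' : Type*} [CommRing A'] [Algebra A A'] (h : IsNbhd I A') :
    A' →ₐ[A] A ⧸ I :=
  { toRingHom := (RingEquiv.ofBijective _ h).symm.toRingHom.comp
      (Ideal.Quotient.mk (I.map (algebraMap A A')))
    commutes' := by
      intro a
      show (RingEquiv.ofBijective _ h).symm (Ideal.Quotient.mk _ (algebraMap A A' a)) = _
      rw [RingEquiv.symm_apply_eq]
      show _ = Ideal.quotientMap (I.map (algebraMap A A')) (algebraMap A A') Ideal.le_comap_map
        (Ideal.Quotient.mk I a)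
      rw [Ideal.quotientMap_mk] }

theorem IsNbhd.toQuot_spec {A' : Type*} [CommRing A'] [Algebra A A'] (h : IsNbhd I A') (x : A') :
    Ideal.quotientMap (I.map (algebraMap A A')) (algebraMap A A') Ideal.le_comap_map
      (h.toQuot x) = Ideal.Quotient.mk _ x :=
  (RingEquiv.ofBijective _ h).apply_symm_apply _

theorem IsNbhd.mk_eq {A' : Type*} [CommRing A'] [Algebra A A'] (h : IsNbhd I A') (x : A') (a : A)
    (hx : h.toQuot x = Ideal.Quotient.mk I a) :
    algebraMap A A' a - x ∈ I.map (algebraMap A A') := by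
  have h1 := h.toQuot_spec x
  rw [hx, Ideal.quotientMap_mk, Ideal.Quotient.eq] at h1
  exact h1

variable (I)

/-- Any étale algebra with an `A`-algebra map to `A/I` maps to an étale neighbourhood. -/
theorem exists_nbhd_of_algHom (B : Type u) [CommRing B] [Algebra A B] [Algebra.Etale A B]
    (σ : B →ₐ[A] A ⧸ I) :
    ∃ (A' : Type u) (_ : CommRing A') (_ : Algebra A A'), Algebra.Etale A A' ∧ IsNbhd I A' ∧
      Nonempty (B →ₐ[A] A') := by
  obtain ⟨A', i1, i2, h1, h2, ψ, -⟩ :=
    Groth.Agent.Lib.helper26.EtaleLift.exists_etale_lift_of_algHom I σ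
  exact ⟨A', i1, i2, h1, h2, ⟨ψ⟩⟩

/-- Two étale neighbourhoods are dominated by a third. -/
theorem exists_common (A₁ A₂ : Type u) [CommRing A₁] [Algebra A A₁] [Algebra.Etale A A₁]
    [CommRing A₂] [Algebra A A₂] [Algebra.Etale A A₂] (h₁ : IsNbhd I A₁) (h₂ : IsNbhd I A₂) :
    ∃ (A₃ : Type u) (_ : CommRing A₃) (_ : Algebra A A₃), Algebra.Etale A A₃ ∧ IsNbhd I A₃ ∧
      Nonempty (A₁ →ₐ[A] A₃) ∧ Nonempty (A₂ →ₐ[A] A₃) := by
  have : Algebra.Etale A (A₁ ⊗[A] A₂) := Algebra.Etale.comp A A₁ (A₁ ⊗[A] A₂)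
  let σ : A₁ ⊗[A] A₂ →ₐ[A] A ⧸ I :=
    Algebra.TensorProduct.lift h₁.toQuot h₂.toQuot (fun _ _ => Commute.all _ _)
  obtain ⟨A₃, i1, i2, h3, h4, ⟨ψ⟩⟩ := exists_nbhd_of_algHom I (A₁ ⊗[A] A₂) σ
  exact ⟨A₃, i1, i2, h3, h4, ⟨ψ.comp Algebra.TensorProduct.includeLeft⟩,
    ⟨ψ.comp Algebra.TensorProduct.includeRight⟩⟩

/-- Two maps between étale neighbourhoods are equalised by a further neighbourhood. -/
theorem exists_coequalizer (A₁ A₂ : Type u) [CommRing A₁] [Algebra A A₁] [Algebra.Etale A A₁]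
    [CommRing A₂] [Algebra A A₂] [Algebra.Etale A A₂] (h₁ : IsNbhd I A₁) (h₂ : IsNbhd I A₂)
    (f g : A₁ →ₐ[A] A₂) :
    ∃ s : A₂, 1 - s ∈ I.map (algebraMap A A₂) ∧
      ∀ x : A₁, algebraMap A₂ (Localization.Away s) (f x) =
        algebraMap A₂ (Localization.Away s) (g x) := by
  let Φ : A₁ ⊗[A] A₁ →ₐ[A] A₂ := Algebra.TensorProduct.lift f g (fun _ _ => Commute.all _ _)
  have hΦ : ∀ x y : A₁, Φ (x ⊗ₜ y) = f x * g y := fun x y =>
    Algebra.TensorProduct.lift_tmul _ _ _ x y
  set t := Algebra.FormallyUnramified.elem A A₁ with ht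
  refine ⟨Φ t, ?_, ?_⟩
  · -- `Φ t ≡ 1` modulo `I`
    have hfg : h₂.toQuot.comp f = h₂.toQuot.comp g := h₁.algHom_ext _ _
    have h3 : (h₂.toQuot.comp Φ) = (h₂.toQuot.comp f).comp (Algebra.TensorProduct.lmul' A) := by
      apply Algebra.TensorProduct.ext'
      intro x y
      show h₂.toQuot (Φ (x ⊗ₜ y)) = h₂.toQuot (f (Algebra.TensorProduct.lmul' A (x ⊗ₜ y)))
      rw [hΦ, Algebra.TensorProduct.lmul'_apply_tmul, map_mul, map_mul, map_mul]
      congr 1
      exact (AlgHom.congr_fun hfg y).symm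
    have h4 : h₂.toQuot (Φ t) = Ideal.Quotient.mk I 1 := by
      have := AlgHom.congr_fun h3 t
      simp only [AlgHom.comp_apply] at this
      rw [this, ht, Algebra.FormallyUnramified.lmul_elem, map_one, map_one, map_one]
    have := h₂.mk_eq _ _ h4
    rwa [map_one] at this
  · intro x
    have h1 : (g x - f x) * Φ t = 0 := by
      have := congrArg Φ (Algebra.FormallyUnramified.one_tmul_sub_tmul_one_mul_elem (R := A) x)
      rw [map_mul, map_sub, hΦ, hΦ, map_one, map_one, one_mul, mul_one, map_zero] at this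
      exact this
    have h2 : algebraMap A₂ (Localization.Away (Φ t)) (g x - f x) = 0 := by
      have hu : IsUnit (algebraMap A₂ (Localization.Away (Φ t)) (Φ t)) :=
        IsLocalization.Away.algebraMap_isUnit _
      have := congrArg (algebraMap A₂ (Localization.Away (Φ t))) h1
      rw [map_mul, map_zero] at this
      exact (hu.mul_left_eq_zero).mp this
    rw [map_sub, sub_eq_zero] at h2
    exact h2.symm

/-- Bijectivity of `A/I → A₁/IA₁` is transitive. -/
theorem bijective_quotientMap_trans {A A' A₁ : Type*} [CommRing A] [CommRing A'] [CommRing A₁]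
    [Algebra A A'] [Algebra A' A₁] [Algebra A A₁] [IsScalarTower A A' A₁] (I : Ideal A)
    (h₁ : Function.Bijective (Ideal.quotientMap (I.map (algebraMap A A')) (algebraMap A A')
      Ideal.le_comap_map))
    (h₂ : Function.Bijective (Ideal.quotientMap ((I.map (algebraMap A A')).map (algebraMap A' A₁))
      (algebraMap A' A₁) Ideal.le_comap_map)) :
    Function.Bijective (Ideal.quotientMap (I.map (algebraMap A A₁)) (algebraMap A A₁)
      Ideal.le_comap_map) := by
  have hmap : (I.map (algebraMap A A')).map (algebraMap A' A₁) = I.map (algebraMap A A₁) := by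
    rw [Ideal.map_map, ← IsScalarTower.algebraMap_eq]
  constructor
  · rw [injective_iff_map_eq_zero]
    intro x hx
    obtain ⟨α, rfl⟩ := Ideal.Quotient.mk_surjective x
    rw [Ideal.quotientMap_mk, Ideal.Quotient.eq_zero_iff_mem, ← hmap,
      IsScalarTower.algebraMap_apply A A' A₁] at hx
    have h3 : Ideal.quotientMap ((I.map (algebraMap A A')).map (algebraMap A' A₁))
        (algebraMap A' A₁) Ideal.le_comap_map (Ideal.Quotient.mk _ (algebraMap A A' α)) = 0 := by
      rw [Ideal.quotientMap_mk, Ideal.Quotient.eq_zero_iff_mem]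
      exact hx
    have h4 := (injective_iff_map_eq_zero _).mp h₂.1 _ h3
    have h5 : Ideal.quotientMap (I.map (algebraMap A A')) (algebraMap A A') Ideal.le_comap_map
        (Ideal.Quotient.mk I α) = 0 := by
      rw [Ideal.quotientMap_mk]
      exact h4
    exact (injective_iff_map_eq_zero _).mp h₁.1 _ h5
  · intro y
    obtain ⟨y₁, rfl⟩ := Ideal.Quotient.mk_surjective y
    obtain ⟨x', hx'⟩ := h₂.2 (Ideal.Quotient.mk _ y₁)
    obtain ⟨x, rfl⟩ := h₁.2 x'
    obtain ⟨α, rfl⟩ := Ideal.Quotient.mk_surjective x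
    refine ⟨Ideal.Quotient.mk I α, ?_⟩
    rw [Ideal.quotientMap_mk, Ideal.quotientMap_mk, Ideal.Quotient.eq, hmap,
      ← IsScalarTower.algebraMap_apply A A' A₁] at hx'
    rw [Ideal.quotientMap_mk, Ideal.Quotient.eq]
    exact hx'


/-- A principal localisation of a neighbourhood at `s ≡ 1` is a neighbourhood. -/
theorem IsNbhd.away {A' : Type*} [CommRing A'] [Algebra A A'] (h : IsNbhd I A') (s : A')
    (hs : 1 - s ∈ I.map (algebraMap A A')) : IsNbhd I (Localization.Away s) :=
  bijective_quotientMap_trans I h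
    (Groth.Agent.Lib.helper26.AwayNbhd.bijective_quotientMap_away _ s hs)

variable {I} in
theorem IsNbhd.mem_of_toQuot_eq_zero {A' : Type*} [CommRing A'] [Algebra A A'] (h : IsNbhd I A')
    (x : A') (hx : h.toQuot x = 0) : x ∈ I.map (algebraMap A A') := by
  have h1 := h.toQuot_spec x
  rw [hx, map_zero] at h1
  exact Ideal.Quotient.eq_zero_iff_mem.mp h1.symm

/-- Any étale algebra with an `A`-algebra map to `A/I` maps to an étale neighbourhood,
compatibly with the maps to `A/I`. -/
theorem exists_nbhd_of_algHom' (B : Type u) [CommRing B] [Algebra A B] [Algebra.Etale A B]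
    (σ : B →ₐ[A] A ⧸ I) :
    ∃ (A' : Type u) (_ : CommRing A') (_ : Algebra A A'), Algebra.Etale A A' ∧
      ∃ (h : IsNbhd I A') (ψ : B →ₐ[A] A'), h.toQuot.comp ψ = σ := by
  obtain ⟨A', i1, i2, h1, h2, ψ, hψ⟩ :=
    Groth.Agent.Lib.helper26.EtaleLift.exists_etale_lift_of_algHom I σ
  have h2' : IsNbhd I A' := h2
  refine ⟨A', i1, i2, h1, h2', ψ, ?_⟩
  ext b
  apply h2'.1
  rw [AlgHom.comp_apply, h2'.toQuot_spec]
  exact hψ b

end Groth.Agent.Lib.helper26.PairNbhd
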