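import Mathlib
import Groth.Agent.Lib.Helper26.PairNbhd

/-!
# The filtered category of étale neighbourhoods of a pair (helper26)

`Idx A I` is a small category equivalent to the category of étale `A`-algebras `A'` with
`A/I → A'/IA'` bijective (objects are presentations); it is filtered.
-/

universe u

namespace Groth.Agent.Lib.helper26.PairHens

open Groth.Agent.Lib.helper26.PairNbhd CategoryTheory

variable {A : Type u} [CommRing A] {I : Ideal A}

theorem isNbhd_iff {A' : Type*} [CommRing A'] [Algebra A A'] :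
    IsNbhd I A' ↔ (∀ x : A', ∃ a : A, algebraMap A A' a - x ∈ I.map (algebraMap A A')) ∧
      ∀ a : A, algebraMap A A' a ∈ I.map (algebraMap A A') → a ∈ I := by
  refine ⟨fun h => ⟨h.exists_sub_mem, h.mem_of_algebraMap_mem⟩, fun ⟨h1, h2⟩ => ⟨?_, ?_⟩⟩
  · rw [injective_iff_map_eq_zero]
    intro x hx
    obtain ⟨a, rfl⟩ := Ideal.Quotient.mk_surjective x
    rw [Ideal.quotientMap_mk, Ideal.Quotient.eq_zero_iff_mem] at hx
    exact Ideal.Quotient.eq_zero_iff_mem.mpr (h2 a hx)
  · intro y
    obtain ⟨x, rfl⟩ := Ideal.Quotient.mk_surjective y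
    obtain ⟨a, ha⟩ := h1 x
    exact ⟨Ideal.Quotient.mk I a, by rw [Ideal.quotientMap_mk, Ideal.Quotient.eq]; exact ha⟩

theorem IsNbhd.of_algEquiv {A' A'' : Type*} [CommRing A'] [Algebra A A'] [CommRing A'']
    [Algebra A A''] (e : A' ≃ₐ[A] A'') (h : IsNbhd I A') : IsNbhd I A'' := by
  have hmap : ∀ x : A', x ∈ I.map (algebraMap A A') ↔ e x ∈ I.map (algebraMap A A'') := by
    have h1 : (I.map (algebraMap A A')).map e.toAlgHom.toRingHom = I.map (algebraMap A A'') := by
      rw [Ideal.map_map]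
      congr 1
      exact e.toAlgHom.comp_algebraMap
    have h2 : (I.map (algebraMap A A'')).map e.symm.toAlgHom.toRingHom =
        I.map (algebraMap A A') := by
      rw [Ideal.map_map]
      congr 1
      exact e.symm.toAlgHom.comp_algebraMap
    intro x
    constructor
    · intro hx
      rw [← h1]
      exact Ideal.mem_map_of_mem _ hx
    · intro hx
      have := Ideal.mem_map_of_mem e.symm.toAlgHom.toRingHom hx
      rw [h2] at this
      simpa using this
  rw [isNbhd_iff] at h ⊢
  obtain ⟨h1, h2⟩ := h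
  refine ⟨fun y => ?_, fun a ha => ?_⟩
  · obtain ⟨a, ha⟩ := h1 (e.symm y)
    refine ⟨a, ?_⟩
    have := (hmap _).mp ha
    rwa [map_sub, e.commutes, e.apply_symm_apply] at this
  · apply h2 a
    rw [hmap, e.commutes]
    exact ha

variable (A I)

/-- Index type: presentations of étale neighbourhoods of `(A, I)`. -/
structure Idx : Type u where
  n : ℕ
  J : Ideal (MvPolynomial (Fin n) A)
  etale : Algebra.Etale A (MvPolynomial (Fin n) A ⧸ J)
  nbhd : IsNbhd I (MvPolynomial (Fin n) A ⧸ J)

variable {A I}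

namespace Idx

/-- the étale algebra -/
abbrev C (i : Idx A I) : Type u := MvPolynomial (Fin i.n) A ⧸ i.J

instance (i : Idx A I) : Algebra.Etale A i.C := i.etale

theorem isNbhd (i : Idx A I) : IsNbhd I i.C := i.nbhd

noncomputable instance : Category (Idx A I) where
  Hom i j := i.C →ₐ[A] j.C
  id i := AlgHom.id A i.C
  comp f g := g.comp f

/-- view a morphism as an algebra map -/
def homToAlgHom {i j : Idx A I} (f : i ⟶ j) : i.C →ₐ[A] j.C := f

/-- view an algebra map as a morphism -/
def ofAlgHom {i j : Idx A I} (f : i.C →ₐ[A] j.C) : i ⟶ j := f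

end Idx

open Idx

/-- Every étale neighbourhood is represented by an index. -/
theorem exists_idx (A' : Type u) [CommRing A'] [Algebra A A'] [Algebra.Etale A A']
    (h : IsNbhd I A') : ∃ k : Idx A I, Nonempty (A' ≃ₐ[A] k.C) := by
  have hft : Algebra.FiniteType A A' := inferInstance
  obtain ⟨n, f, hf⟩ := Algebra.FiniteType.iff_quotient_mvPolynomial''.1 hft
  let e : (MvPolynomial (Fin n) A ⧸ RingHom.ker f) ≃ₐ[A] A' :=
    Ideal.quotientKerAlgEquivOfSurjective hf
  exact ⟨⟨n, RingHom.ker f, Algebra.Etale.of_equiv e.symm, IsNbhd.of_algEquiv e.symm h⟩, ⟨e.symm⟩⟩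

theorem isNbhd_self : IsNbhd I A := by
  rw [isNbhd_iff]
  refine ⟨fun x => ⟨x, by simp⟩, fun a ha => ?_⟩
  rw [Algebra.algebraMap_self, Ideal.map_id] at ha
  exact ha

instance : Nonempty (Idx A I) := by
  obtain ⟨k, -⟩ := exists_idx (I := I) A isNbhd_self
  exact ⟨k⟩

instance : IsFiltered (Idx A I) where
  cocone_objs := by
    intro i j
    obtain ⟨A₃, _, _, h3, h4, ⟨f⟩, ⟨g⟩⟩ := exists_common I i.C j.C i.isNbhd j.isNbhd
    obtain ⟨k, ⟨e⟩⟩ := exists_idx A₃ h4
    exact ⟨k, Idx.ofAlgHom (e.toAlgHom.comp f), Idx.ofAlgHom (e.toAlgHom.comp g), trivial⟩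
  cocone_maps := by
    intro i j f g
    obtain ⟨s, hs, hfg⟩ := exists_coequalizer I i.C j.C i.isNbhd j.isNbhd
      (Idx.homToAlgHom f) (Idx.homToAlgHom g)
    have het : Algebra.Etale A (Localization.Away s) := Algebra.Etale.comp A j.C _
    obtain ⟨k, ⟨e⟩⟩ := exists_idx (Localization.Away s) (IsNbhd.away I j.isNbhd s hs)
    refine ⟨k, Idx.ofAlgHom (e.toAlgHom.comp (IsScalarTower.toAlgHom A j.C _)), ?_⟩
    apply AlgHom.ext
    intro x
    show e (algebraMap j.C (Localization.Away s) (Idx.homToAlgHom f x)) =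
      e (algebraMap j.C (Localization.Away s) (Idx.homToAlgHom g x))
    rw [hfg x]

end Groth.Agent.Lib.helper26.PairHens
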