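import Mathlib
import Groth.Agent.Lib.Helper26.PairHensIdx

/-!
# The henselization of a pair as a filtered colimit (helper26)

`H A I` is the colimit of the étale neighbourhoods of `(A, I)`; `ι i : i.C →ₐ[A] H A I` are the stage
maps.  Elementary interface: `exists_ι`, `ι_eq_ι`, `ι_eq_zero`, `ι_comp`, `exists_desc`,
`ringHom_ext`.
-/

universe u

namespace Groth.Agent.Lib.helper26.PairHens

open Groth.Agent.Lib.helper26.PairNbhd CategoryTheory CategoryTheory.Limits Idx

variable (A : Type u) [CommRing A] (I : Ideal A)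

/-- The diagram of étale neighbourhoods. -/
noncomputable def F : Idx A I ⥤ CommRingCat.{u} where
  obj i := CommRingCat.of i.C
  map f := CommRingCat.ofHom (Idx.homToAlgHom f).toRingHom
  map_id _ := rfl
  map_comp _ _ := rfl

/-- The henselization of the pair `(A, I)`. -/
noncomputable def H : Type u := (colimit (F A I) : CommRingCat.{u})

noncomputable instance : CommRing (H A I) :=
  (inferInstance : CommRing (colimit (F A I) : CommRingCat.{u}))

variable {A I}

/-- the stage maps -/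
noncomputable def ιR (i : Idx A I) : i.C →+* H A I := (colimit.ι (F A I) i).hom

theorem ιR_comp {i j : Idx A I} (f : i.C →ₐ[A] j.C) (x : i.C) : ιR j (f x) = ιR i x := by
  have h := colimit.w (F A I) (Idx.ofAlgHom f)
  have h2 := congrArg (fun φ => φ.hom x) h
  exact h2

theorem exists_ιR (z : H A I) : ∃ (i : Idx A I) (x : i.C), ιR i x = z :=
  Concrete.colimit_exists_rep (F A I) z

theorem ιR_eq_ιR {i j : Idx A I} {x : i.C} {y : j.C} (h : ιR i x = ιR j y) :
    ∃ (k : Idx A I) (f : i.C →ₐ[A] k.C) (g : j.C →ₐ[A] k.C), f x = g y := by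
  obtain ⟨k, f, g, hfg⟩ := Concrete.colimit_exists_of_rep_eq (F A I) x y h
  exact ⟨k, Idx.homToAlgHom f, Idx.homToAlgHom g, hfg⟩

/-- a base index -/
noncomputable def i₀ : Idx A I := Classical.arbitrary _

noncomputable instance : Algebra A (H A I) :=
  ((ιR (i₀ : Idx A I)).comp (algebraMap A (i₀ : Idx A I).C)).toAlgebra

theorem ιR_algebraMap (i : Idx A I) (a : A) :
    ιR i (algebraMap A i.C a) = algebraMap A (H A I) a := by
  obtain ⟨k, f, g, -⟩ := IsFilteredOrEmpty.cocone_objs i (i₀ : Idx A I)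
  have h1 := ιR_comp (Idx.homToAlgHom f) (algebraMap A i.C a)
  have h2 := ιR_comp (Idx.homToAlgHom g) (algebraMap A (i₀ : Idx A I).C a)
  rw [AlgHom.commutes] at h1 h2
  rw [← h1, h2]
  rfl

/-- the stage maps as algebra maps -/
noncomputable def ι (i : Idx A I) : i.C →ₐ[A] H A I :=
  { ιR i with commutes' := ιR_algebraMap i }

theorem ι_comp {i j : Idx A I} (f : i.C →ₐ[A] j.C) (x : i.C) : ι j (f x) = ι i x := ιR_comp f x

theorem exists_ι (z : H A I) : ∃ (i : Idx A I) (x : i.C), ι i x = z := exists_ιR z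

theorem ι_eq_ι {i j : Idx A I} {x : i.C} {y : j.C} (h : ι i x = ι j y) :
    ∃ (k : Idx A I) (f : i.C →ₐ[A] k.C) (g : j.C →ₐ[A] k.C), f x = g y := ιR_eq_ιR h

theorem ι_eq_zero {i : Idx A I} {x : i.C} (h : ι i x = 0) :
    ∃ (k : Idx A I) (f : i.C →ₐ[A] k.C), f x = 0 := by
  have h' : ι i x = ι i 0 := by rw [h, map_zero]
  obtain ⟨k, f, g, hfg⟩ := ι_eq_ι h'
  exact ⟨k, f, by rw [hfg, map_zero]⟩

/-- The universal property of the colimit. -/
theorem exists_desc (T : Type u) [CommRing T] (g : ∀ i : Idx A I, i.C →+* T)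
    (hg : ∀ (i j : Idx A I) (f : i.C →ₐ[A] j.C) (x : i.C), g j (f x) = g i x) :
    ∃ φ : H A I →+* T, ∀ (i : Idx A I) (x : i.C), φ (ι i x) = g i x := by
  let c : Cocone (F A I) :=
    { pt := CommRingCat.of T
      ι :=
        { app := fun i => CommRingCat.ofHom (g i)
          naturality := by
            intro i j f
            ext x
            exact hg i j (Idx.homToAlgHom f) x } }
  refine ⟨(colimit.desc (F A I) c).hom, fun i x => ?_⟩
  have h := colimit.ι_desc c i
  exact congrArg (fun φ => φ.hom x) h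

theorem ringHom_ext {T : Type*} [Semiring T] (φ ψ : H A I →+* T)
    (h : ∀ (i : Idx A I) (x : i.C), φ (ι i x) = ψ (ι i x)) : φ = ψ := by
  ext z
  obtain ⟨i, x, rfl⟩ := exists_ι z
  exact h i x

section Props

open Polynomial

theorem algHom_mem_map {B B' : Type*} [CommRing B] [CommRing B'] [Algebra A B] [Algebra A B']
    (f : B →ₐ[A] B') {x : B} (hx : x ∈ I.map (algebraMap A B)) :
    f x ∈ I.map (algebraMap A B') := by
  have h1 : (I.map (algebraMap A B)).map f.toRingHom = I.map (algebraMap A B') := by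
    rw [Ideal.map_map]
    congr 1
    exact f.comp_algebraMap
  rw [← h1]
  exact Ideal.mem_map_of_mem _ hx

theorem exists_common (i j : Idx A I) :
    ∃ (k : Idx A I), Nonempty (i.C →ₐ[A] k.C) ∧ Nonempty (j.C →ₐ[A] k.C) := by
  obtain ⟨k, f, g, -⟩ := IsFilteredOrEmpty.cocone_objs i j
  exact ⟨k, ⟨Idx.homToAlgHom f⟩, ⟨Idx.homToAlgHom g⟩⟩

theorem mem_map_iff (z : H A I) : z ∈ I.map (algebraMap A (H A I)) ↔
    ∃ (i : Idx A I) (x : i.C), x ∈ I.map (algebraMap A i.C) ∧ ι i x = z := by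
  constructor
  · intro hz
    unfold Ideal.map at hz
    induction hz using Submodule.span_induction with
    | mem z hz =>
      obtain ⟨a, ha, rfl⟩ := hz
      refine ⟨i₀, algebraMap A _ a, Ideal.mem_map_of_mem _ ha, ?_⟩
      exact (ι i₀).commutes a
    | zero => exact ⟨i₀, 0, zero_mem _, map_zero _⟩
    | add z z' _ _ h h' =>
      obtain ⟨i, x, hx, rfl⟩ := h
      obtain ⟨j, x', hx', rfl⟩ := h'
      obtain ⟨k, ⟨f⟩, ⟨g⟩⟩ := exists_common i j
      refine ⟨k, f x + g x', add_mem (algHom_mem_map f hx) (algHom_mem_map g hx'), ?_⟩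
      rw [map_add, ι_comp, ι_comp]
    | smul y z _ h =>
      obtain ⟨i, x, hx, rfl⟩ := h
      obtain ⟨j, y', rfl⟩ := exists_ι y
      obtain ⟨k, ⟨f⟩, ⟨g⟩⟩ := exists_common i j
      refine ⟨k, g y' * f x, Ideal.mul_mem_left _ _ (algHom_mem_map f hx), ?_⟩
      rw [map_mul, ι_comp, ι_comp, smul_eq_mul]
  · rintro ⟨i, x, hx, rfl⟩
    exact algHom_mem_map (ι i) hx

/-- `IH` is contained in the Jacobson radical of `H`. -/
theorem map_le_jacobson : I.map (algebraMap A (H A I)) ≤ Ideal.jacobson ⊥ := by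
  intro z hz
  rw [Ideal.mem_jacobson_bot]
  intro y
  obtain ⟨i, x, hx, rfl⟩ := (mem_map_iff z).mp hz
  obtain ⟨j, y', rfl⟩ := exists_ι y
  obtain ⟨k, ⟨f⟩, ⟨g⟩⟩ := exists_common i j
  set w : k.C := f x * g y' + 1 with hw
  have hw1 : 1 - w ∈ I.map (algebraMap A k.C) := by
    have : 1 - w = -(f x * g y') := by rw [hw]; ring
    rw [this]
    exact neg_mem (Ideal.mul_mem_right _ _ (algHom_mem_map f hx))
  have het : Algebra.Etale A (Localization.Away w) := Algebra.Etale.comp A k.C _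
  obtain ⟨m, ⟨e⟩⟩ := exists_idx (Localization.Away w) (IsNbhd.away I k.isNbhd w hw1)
  let φ : k.C →ₐ[A] m.C := e.toAlgHom.comp (IsScalarTower.toAlgHom A k.C _)
  have hu : IsUnit (φ w) :=
    (IsLocalization.Away.algebraMap_isUnit (S := Localization.Away w) w).map e
  have h1 : ι i x * ι j y' + 1 = ι m (φ w) := by
    rw [ι_comp, hw, map_add, map_mul, map_one, ι_comp, ι_comp]
  rw [h1]
  exact hu.map (ι m)


/-- Hensel's lemma after passing to a further étale neighbourhood. -/
theorem exists_root_stage (R : Type u) [CommRing R] [Algebra A R] [Algebra.Etale A R]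
    (hR : IsNbhd I R) (f : R[X]) (hf : f.Monic) (a₀ : R)
    (h0 : f.eval a₀ ∈ I.map (algebraMap A R))
    (h1 : IsUnit (hR.toQuot (f.derivative.eval a₀))) :
    ∃ (A' : Type u) (_ : CommRing A') (_ : Algebra A A'), Algebra.Etale A A' ∧ IsNbhd I A' ∧
      ∃ (φ : R →ₐ[A] A') (α : A'), (f.map φ.toRingHom).eval α = 0 ∧
        α - φ a₀ ∈ I.map (algebraMap A A') := by
  set g₀ := f /ₘ (X - C a₀) with hgdef
  have hfg : f = (X - C a₀) * g₀ + C (f.eval a₀) := by
    have := modByMonic_add_div f (X - C a₀)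
    rw [modByMonic_X_sub_C_eq_C_eval] at this
    rw [hgdef]
    linear_combination -this
  have hg0 : g₀.eval a₀ = f.derivative.eval a₀ := by
    conv_rhs => rw [hfg]
    simp [derivative_mul]
  let P : StandardEtalePair R := ⟨f, hf, g₀ * derivative f, ⟨g₀, 0, 1, by ring⟩⟩
  let algAE : Algebra A P.Ring := ((algebraMap R P.Ring).comp (algebraMap A R)).toAlgebra
  have towerE : IsScalarTower A R P.Ring := IsScalarTower.of_algebraMap_eq (fun _ => rfl)
  have hetE : Algebra.Etale A P.Ring := Algebra.Etale.comp A R P.Ring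
  let algRQ : Algebra R (A ⧸ I) := hR.toQuot.toRingHom.toAlgebra
  have halgRQ : ∀ r : R, algebraMap R (A ⧸ I) r = hR.toQuot r := fun r => rfl
  have towerQ : IsScalarTower A R (A ⧸ I) :=
    IsScalarTower.of_algebraMap_eq (fun a => (hR.toQuot.commutes a).symm)
  have hmap : P.HasMap (hR.toQuot a₀ : A ⧸ I) := by
    constructor
    · change aeval (hR.toQuot a₀) f = 0
      rw [← halgRQ, aeval_algebraMap_apply, halgRQ, coe_aeval_eq_eval]
      exact algHom_eq_zero_of_mem _ _ h0
    · change IsUnit (aeval (hR.toQuot a₀) (g₀ * derivative f))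
      rw [← halgRQ, aeval_algebraMap_apply, halgRQ, coe_aeval_eq_eval, eval_mul, hg0, map_mul]
      exact h1.mul h1
  let σR : P.Ring →ₐ[R] A ⧸ I := P.lift _ hmap
  let σ : P.Ring →ₐ[A] A ⧸ I := σR.restrictScalars A
  obtain ⟨A', i1, i2, hA'et, hA', ψ, hψ⟩ := exists_nbhd_of_algHom' I P.Ring σ
  refine ⟨A', i1, i2, hA'et, hA', ψ.comp (IsScalarTower.toAlgHom A R P.Ring), ψ P.X, ?_, ?_⟩
  · have h2 : aeval P.X f = 0 := (StandardEtalePair.hasMap_X (P := P)).1
    have h3 : (f.map (ψ.comp (IsScalarTower.toAlgHom A R P.Ring)).toRingHom).eval (ψ P.X) =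
        ψ (aeval P.X f) := by
      rw [Polynomial.eval_map, aeval_def]
      exact (hom_eval₂ f (algebraMap R P.Ring) ψ.toRingHom P.X).symm
    rw [h3, h2, map_zero]
  · apply hA'.mem_of_toQuot_eq_zero
    have h4 : ∀ e : P.Ring, hA'.toQuot (ψ e) = σ e := fun e => AlgHom.congr_fun hψ e
    rw [map_sub, AlgHom.comp_apply, h4, h4, sub_eq_zero]
    show σR P.X = σR (algebraMap R P.Ring a₀)
    rw [σR.commutes, halgRQ]
    exact StandardEtalePair.lift_X (P := P) (x := hR.toQuot a₀) hmap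


end Props

end Groth.Agent.Lib.helper26.PairHens
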