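import Mathlib
import Groth.Agent.Lib.Helper26.PairHens
import Groth.Agent.Lib.Helper26.HenselPairIdem
import Groth.Prelude.Def_Hens2

/-!
# Existence of the henselization of a pair (helper26)

`H A I` (the filtered colimit of the étale neighbourhoods of `(A, I)`, see `PairHens.lean`) is
Henselian along `IH` (`henselianRing_H`, via Gabber's criterion) and has the universal property
(`isPairHenselization_H`).  Also: unique lifting of maps from étale neighbourhoods into Henselian
pairs (`exists_algHom_of_henselianRing`, `algHom_ext_of_henselianRing`).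
-/

universe u

namespace Groth.Agent.Lib.helper26.PairHens

open Groth.Agent.Lib.helper26.PairNbhd Groth.Agent.Lib.helper26.HenselPair Polynomial

variable {A : Type u} [CommRing A] {I : Ideal A}

theorem exists_common_fun (n : ℕ) (c : ℕ → H A I)
    (hc : ∀ l, c l ∈ I.map (algebraMap A (H A I))) :
    ∃ (k : Idx A I) (y : ℕ → k.C), ∀ l < n, y l ∈ I.map (algebraMap A k.C) ∧ ι k (y l) = c l := by
  induction n with
  | zero => exact ⟨i₀, fun _ => 0, fun l hl => absurd hl (Nat.not_lt_zero l)⟩
  | succ n ih =>
    obtain ⟨k, y, hy⟩ := ih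
    obtain ⟨i, x, hx, hxc⟩ := (mem_map_iff (c n)).mp (hc n)
    obtain ⟨k', ⟨f⟩, ⟨g⟩⟩ := exists_common k i
    refine ⟨k', fun l => if l = n then g x else f (y l), fun l hl => ?_⟩
    by_cases hln : l = n
    · subst hln
      simp only [if_true]
      exact ⟨algHom_mem_map g hx, by rw [ι_comp, hxc]⟩
    · simp only [if_neg hln]
      have hl' : l < n := lt_of_le_of_ne (Nat.lt_succ_iff.mp hl) hln
      exact ⟨algHom_mem_map f (hy l hl').1, by rw [ι_comp, (hy l hl').2]⟩

theorem gabber_H : Gabber (I.map (algebraMap A (H A I))) := by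
  intro n hn p hdeg hcoef
  obtain ⟨k, y, hy⟩ := exists_common_fun (n + 1) (fun l => p.coeff l) hcoef
  set pk : k.C[X] := ∑ l ∈ Finset.range (n + 1), monomial l (y l) with hpk
  have hpk_coeff : ∀ m, pk.coeff m = if m < n + 1 then y m else 0 := by
    intro m
    rw [hpk, finsetSum_coeff]
    simp only [coeff_monomial]
    rw [Finset.sum_ite_eq' (Finset.range (n + 1)) m]
    simp only [Finset.mem_range]
  have hpk_mem : ∀ m, pk.coeff m ∈ I.map (algebraMap A k.C) := by
    intro m
    rw [hpk_coeff]
    split_ifs with h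
    · exact (hy m h).1
    · exact zero_mem _
  have hpk_map : pk.map (ι k).toRingHom = p := by
    ext m
    rw [coeff_map, hpk_coeff]
    split_ifs with h
    · exact (hy m h).2
    · rw [map_zero]
      exact (coeff_eq_zero_of_natDegree_lt (by omega)).symm
  have hpk_deg : pk.natDegree ≤ n := by
    rw [natDegree_le_iff_coeff_eq_zero]
    intro m hm
    rw [hpk_coeff, if_neg (by omega)]
  set f : k.C[X] := X ^ n * (X - 1) + pk with hf
  have hfmon : f.Monic := by
    rcases subsingleton_or_nontrivial k.C with hsub | hnt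
    · exact Subsingleton.elim _ _
    have hmon0 : (X ^ n * (X - 1) : k.C[X]).Monic := by
      have : (X - 1 : k.C[X]) = X - C 1 := by rw [map_one]
      rw [this]
      exact (monic_X_pow n).mul (monic_X_sub_C 1)
    have hdeg0 : (X ^ n * (X - 1) : k.C[X]).natDegree = n + 1 := by
      have : (X - 1 : k.C[X]) = X - C 1 := by rw [map_one]
      rw [this, ((monic_X_pow n).natDegree_mul (monic_X_sub_C 1)), natDegree_X_pow,
        natDegree_X_sub_C]
    apply hmon0.add_of_left
    rw [degree_eq_natDegree hmon0.ne_zero, hdeg0]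
    exact lt_of_le_of_lt (degree_le_natDegree) (by exact_mod_cast Nat.lt_succ_of_le hpk_deg)
  have h0 : f.eval 1 ∈ I.map (algebraMap A k.C) := by
    have : f.eval 1 = pk.eval 1 := by simp [hf]
    rw [this]
    exact eval_mem_of_coeff_mem pk hpk_mem 1
  have hder_mem : pk.derivative.eval 1 ∈ I.map (algebraMap A k.C) := by
    apply eval_mem_of_coeff_mem
    intro m
    rw [coeff_derivative]
    exact Ideal.mul_mem_right _ _ (hpk_mem _)
  have h1 : IsUnit (k.isNbhd.toQuot (f.derivative.eval 1)) := by
    have h2 : f.derivative.eval 1 = 1 + pk.derivative.eval 1 := by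
      simp [hf, derivative_mul]
    rw [h2, map_add, map_one, algHom_eq_zero_of_mem _ _ hder_mem, add_zero]
    exact isUnit_one
  obtain ⟨A', _, _, hA'et, hA', φ, α, hroot, hα⟩ :=
    exists_root_stage k.C k.isNbhd f hfmon 1 h0 h1
  obtain ⟨m, ⟨e⟩⟩ := exists_idx A' hA'
  let Θ' : A' →ₐ[A] H A I := (ι m).comp e.toAlgHom
  have hΘ : ∀ x : k.C, Θ' (φ x) = ι k x := fun x => ι_comp (e.toAlgHom.comp φ) x
  refine ⟨Θ' α, ?_, ?_⟩
  · have h3 : Θ' α - 1 = Θ' (α - φ 1) := by rw [map_sub, map_one, map_one]
    rw [h3]
    exact algHom_mem_map Θ' hα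
  · show (X ^ n * (X - 1) + p).eval (Θ' α) = 0
    have h4 : (X ^ n * (X - 1) + p : (H A I)[X]) = (f.map φ.toRingHom).map Θ'.toRingHom := by
      rw [Polynomial.map_map, ← hpk_map, hf]
      have h5 : (Θ'.toRingHom.comp φ.toRingHom) = (ι k).toRingHom :=
        RingHom.ext fun x => hΘ x
      rw [h5]
      simp
    rw [h4, Polynomial.eval_map]
    show eval₂ Θ'.toRingHom (Θ'.toRingHom α) (f.map φ.toRingHom) = 0
    rw [eval₂_at_apply, hroot, map_zero]

/-- `H A I` is Henselian along `IH`. -/
theorem henselianRing_H : HenselianRing (H A I) (I.map (algebraMap A (H A I))) :=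
  henselianRing_of_gabber map_le_jacobson gabber_H

open TensorProduct in
/-- Maps from an étale neighbourhood of `(A, I)` into a Henselian pair over `(A, I)` exist. -/
theorem exists_algHom_of_henselianRing (R : Type u) [CommRing R] [Algebra A R]
    [Algebra.Etale A R] (hR : IsNbhd I R) (T : Type u) [CommRing T] [Algebra A T] (J : Ideal T)
    (hT : HenselianRing T J) (hIJ : I.map (algebraMap A T) ≤ J) : Nonempty (R →ₐ[A] T) := by
  have hIJ' : I ≤ J.comap (Algebra.ofId A T) := Ideal.map_le_iff_le_comap.mp hIJ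
  let ρ : R →ₐ[A] T ⧸ J := (Ideal.quotientMapₐ J (Algebra.ofId A T) hIJ').comp hR.toQuot
  let σ : T ⊗[A] R →ₐ[T] T ⧸ J :=
    Algebra.TensorProduct.lift (Algebra.ofId T (T ⧸ J)) ρ (fun _ _ => Commute.all _ _)
  obtain ⟨τ, -⟩ := exists_lift_of_henselianRing hT (T ⊗[A] R) σ
  exact ⟨(τ.restrictScalars A).comp Algebra.TensorProduct.includeRight⟩

/-- Maps from an étale neighbourhood of `(A, I)` into a Henselian pair over `(A, I)` are unique. -/
theorem algHom_ext_of_henselianRing (R : Type u) [CommRing R] [Algebra A R]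
    [Algebra.Etale A R] (hR : IsNbhd I R) (T : Type u) [CommRing T] [Algebra A T] (J : Ideal T)
    (hT : HenselianRing T J) (hIJ : I.map (algebraMap A T) ≤ J) (g g' : R →ₐ[A] T) : g = g' := by
  apply algHom_eq_of_sub_mem J hT.jac g g'
  intro x
  obtain ⟨a, ha⟩ := hR.exists_sub_mem x
  have h1 : g x - g' x = g' (algebraMap A R a - x) - g (algebraMap A R a - x) := by
    rw [map_sub, map_sub, g.commutes, g'.commutes]
    ring
  rw [h1]
  exact sub_mem (hIJ (algHom_mem_map g' ha)) (hIJ (algHom_mem_map g ha))

/-- `H A I` is a henselization of the pair `(A, I)`. -/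
theorem isPairHenselization_H : Hens2.IsPairHenselization A I (H A I) := by
  refine ⟨henselianRing_H, ?_⟩
  intro T _ J f hT hIJ
  let algT : Algebra A T := f.toAlgebra
  have hIJ' : I.map (algebraMap A T) ≤ J := hIJ
  have hg : ∀ i : Idx A I, Nonempty (i.C →ₐ[A] T) := fun i =>
    exists_algHom_of_henselianRing i.C i.isNbhd T J hT hIJ'
  let g : ∀ i : Idx A I, i.C →ₐ[A] T := fun i => Classical.choice (hg i)
  have huniq : ∀ (i : Idx A I) (g' : i.C →ₐ[A] T), g' = g i := fun i g' =>
    algHom_ext_of_henselianRing i.C i.isNbhd T J hT hIJ' _ _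
  obtain ⟨φ, hφ⟩ := exists_desc T (fun i => (g i).toRingHom) (by
    intro i j u x
    exact AlgHom.congr_fun (huniq i ((g j).comp u)) x)
  refine ⟨φ, ?_, ?_⟩
  · ext a
    show φ (algebraMap A (H A I) a) = f a
    rw [← (ι (i₀ : Idx A I)).commutes a, hφ]
    exact (g i₀).commutes a
  · intro φ' hφ'
    apply ringHom_ext
    intro i x
    rw [hφ]
    let g' : i.C →ₐ[A] T :=
      { toRingHom := φ'.comp (ι i).toRingHom
        commutes' := by
          intro a
          show φ' (ι i (algebraMap A i.C a)) = f a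
          rw [(ι i).commutes]
          exact RingHom.congr_fun hφ' a }
    exact AlgHom.congr_fun (huniq i g') x

/-- Henselizations of pairs exist. -/
theorem exists_isPairHenselization (A : Type u) [CommRing A] (I : Ideal A) :
    ∃ (B : Type u) (_ : CommRing B) (_ : Algebra A B), Hens2.IsPairHenselization A I B :=
  ⟨H A I, inferInstance, inferInstance, isPairHenselization_H⟩

/-- Two henselizations of a pair are isomorphic. -/
theorem nonempty_algEquiv_of_isPairHenselization {B B' : Type u} [CommRing B] [Algebra A B]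
    [CommRing B'] [Algebra A B'] (hB : Hens2.IsPairHenselization A I B)
    (hB' : Hens2.IsPairHenselization A I B') : Nonempty (B ≃ₐ[A] B') := by
  obtain ⟨g, hg, -⟩ := hB.2 B' (I.map (algebraMap A B')) (algebraMap A B') hB'.1 le_rfl
  obtain ⟨g', hg', -⟩ := hB'.2 B (I.map (algebraMap A B)) (algebraMap A B) hB.1 le_rfl
  obtain ⟨u, -, hu⟩ := hB.2 B (I.map (algebraMap A B)) (algebraMap A B) hB.1 le_rfl
  obtain ⟨u', -, hu'⟩ := hB'.2 B' (I.map (algebraMap A B')) (algebraMap A B') hB'.1 le_rfl
  have h1 : g'.comp g = RingHom.id B := by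
    rw [hu (g'.comp g) (by show (g'.comp g).comp _ = _; rw [RingHom.comp_assoc, hg, hg']),
      hu (RingHom.id B) (by show (RingHom.id B).comp _ = _; simp)]
  have h2 : g.comp g' = RingHom.id B' := by
    rw [hu' (g.comp g') (by show (g.comp g').comp _ = _; rw [RingHom.comp_assoc, hg', hg]),
      hu' (RingHom.id B') (by show (RingHom.id B').comp _ = _; simp)]
  exact ⟨{ toFun := g
           invFun := g'
           left_inv := fun x => RingHom.congr_fun h1 x
           right_inv := fun x => RingHom.congr_fun h2 x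
           map_mul' := map_mul g
           map_add' := map_add g
           commutes' := fun a => RingHom.congr_fun hg a }⟩

/-- Every étale neighbourhood of `(A, I)` has exactly one `A`-algebra map to a henselization. -/
theorem nonempty_unique_algHom {B : Type u} [CommRing B] [Algebra A B]
    (hB : Hens2.IsPairHenselization A I B) (A' : Type u) [CommRing A'] [Algebra A A']
    [Algebra.Etale A A'] (h : IsNbhd I A') : Nonempty (Unique (A' →ₐ[A] B)) := by
  obtain ⟨g⟩ := exists_algHom_of_henselianRing A' h B _ hB.1 le_rfl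
  exact ⟨{ default := g
           uniq := fun g' => algHom_ext_of_henselianRing A' h B _ hB.1 le_rfl _ _ }⟩

/-- Every element of a henselization comes from an étale neighbourhood. -/
theorem exists_algHom_apply_eq {B : Type u} [CommRing B] [Algebra A B]
    (hB : Hens2.IsPairHenselization A I B) (x : B) :
    ∃ (k : Idx A I) (φ : k.C →ₐ[A] B) (s : k.C), φ s = x := by
  obtain ⟨θ⟩ := nonempty_algEquiv_of_isPairHenselization (isPairHenselization_H (A := A) (I := I)) hB
  obtain ⟨k, s, hs⟩ := exists_ι (θ.symm x)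
  refine ⟨k, θ.toAlgHom.comp (ι k), s, ?_⟩
  show θ (ι k s) = x
  rw [hs, θ.apply_symm_apply]

/-- An element of an étale neighbourhood dying in a henselization dies in a further étale
neighbourhood. -/
theorem exists_algHom_apply_eq_zero {B : Type u} [CommRing B] [Algebra A B]
    (hB : Hens2.IsPairHenselization A I B) (A' : Type u) [CommRing A'] [Algebra A A']
    [Algebra.Etale A A'] (h : IsNbhd I A') (φ : A' →ₐ[A] B) (s : A') (hs : φ s = 0) :
    ∃ (k : Idx A I) (ψ : A' →ₐ[A] k.C), ψ s = 0 := by
  obtain ⟨θ⟩ := nonempty_algEquiv_of_isPairHenselization hB (isPairHenselization_H (A := A) (I := I))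
  obtain ⟨i, ⟨e⟩⟩ := exists_idx A' h
  have h1 : θ.toAlgHom.comp φ = (ι i).comp e.toAlgHom :=
    algHom_ext_of_henselianRing A' h (H A I) _ henselianRing_H le_rfl _ _
  have h2 : ι i (e s) = 0 := by
    have := AlgHom.congr_fun h1 s
    simp only [AlgHom.comp_apply] at this
    rw [hs] at this
    simpa using this.symm
  obtain ⟨k, f, hf⟩ := ι_eq_zero h2
  exact ⟨k, f.comp e.toAlgHom, hf⟩


end Groth.Agent.Lib.helper26.PairHens
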