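import Mathlib
import Groth.Agent.Lib.Helper26.PairHensUniv
import Groth.Agent.Lib.Helper2.Henselian

/-!
# Flatness and infinitesimal neighbourhoods of the henselization of a pair (helper26)

For a henselization `B` of `(A, I)`: `B` is flat over `A` (`flat_of_isPairHenselization`) and
`A/Iⁿ → B/IⁿB` is bijective (`bijective_quotientMap_pow`).
-/

universe u

namespace Groth.Agent.Lib.helper26.PairHens

open Groth.Agent.Lib.helper26.PairNbhd Groth.Agent.Lib.helper26.HenselPair

variable {A : Type u} [CommRing A] {I : Ideal A}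

theorem exists_common_stage (n : ℕ) (c : ℕ → H A I) :
    ∃ (k : Idx A I) (y : ℕ → k.C), ∀ l < n, ι k (y l) = c l := by
  induction n with
  | zero => exact ⟨i₀, fun _ => 0, fun l hl => absurd hl (Nat.not_lt_zero l)⟩
  | succ n ih =>
    obtain ⟨k, y, hy⟩ := ih
    obtain ⟨i, x, hxc⟩ := exists_ι (c n)
    obtain ⟨k', ⟨f⟩, ⟨g⟩⟩ := exists_common k i
    refine ⟨k', fun l => if l = n then g x else f (y l), fun l hl => ?_⟩
    by_cases hln : l = n
    · subst hln
      simp only [if_true]
      rw [ι_comp, hxc]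
    · simp only [if_neg hln]
      have hl' : l < n := lt_of_le_of_ne (Nat.lt_succ_iff.mp hl) hln
      rw [ι_comp, hy l hl']

theorem exists_common_stage_fin {l : ℕ} (x : Fin l → H A I) :
    ∃ (k : Idx A I) (y : Fin l → k.C), ∀ i, ι k (y i) = x i := by
  obtain ⟨k, y, hy⟩ := exists_common_stage l (fun m => if h : m < l then x ⟨m, h⟩ else 0)
  refine ⟨k, fun i => y i.1, fun i => ?_⟩
  rw [hy i.1 i.2, dif_pos i.2]

/-- The henselization `H A I` is flat over `A`. -/
theorem flat_H : Module.Flat A (H A I) := by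
  apply Module.Flat.of_forall_isTrivialRelation
  intro l f x hfx
  obtain ⟨k, y, hy⟩ := exists_common_stage_fin x
  have h1 : ι k (∑ i, f i • y i) = 0 := by
    rw [map_sum, ← hfx]
    refine Finset.sum_congr rfl fun i _ => ?_
    rw [map_smul, hy]
  obtain ⟨k', u, hu⟩ := ι_eq_zero h1
  have h2 : ∑ i, f i • u (y i) = 0 := by
    rw [← hu, map_sum]
    refine Finset.sum_congr rfl fun i _ => ?_
    rw [map_smul]
  obtain ⟨m, a, z, hz1, hz2⟩ := Module.Flat.isTrivialRelation_of_sum_smul_eq_zero h2
  refine ⟨m, a, fun j => ι k' (z j), fun i => ?_, hz2⟩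
  have hz1' : u (y i) = ∑ j, a i j • z j := hz1 i
  rw [← hy i, ← ι_comp u, hz1', map_sum]
  refine Finset.sum_congr rfl fun j _ => ?_
  rw [map_smul]

theorem exists_sub_mem_H (z : H A I) :
    ∃ a : A, algebraMap A (H A I) a - z ∈ I.map (algebraMap A (H A I)) := by
  obtain ⟨i, x, rfl⟩ := exists_ι z
  obtain ⟨a, ha⟩ := i.isNbhd.exists_sub_mem x
  refine ⟨a, ?_⟩
  have := algHom_mem_map (ι i) ha
  rwa [map_sub, (ι i).commutes] at this

section General

variable {B : Type u} [CommRing B] [Algebra A B]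

theorem flat_of_isPairHenselization (hB : Hens2.IsPairHenselization A I B) : Module.Flat A B := by
  obtain ⟨θ⟩ := nonempty_algEquiv_of_isPairHenselization (isPairHenselization_H (A := A) (I := I)) hB
  have := flat_H (A := A) (I := I)
  exact Module.Flat.of_linearEquiv θ.toLinearEquiv.symm

theorem exists_sub_mem_of_isPairHenselization (hB : Hens2.IsPairHenselization A I B) (b : B) :
    ∃ a : A, algebraMap A B a - b ∈ I.map (algebraMap A B) := by
  obtain ⟨θ⟩ := nonempty_algEquiv_of_isPairHenselization (isPairHenselization_H (A := A) (I := I)) hB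
  obtain ⟨a, ha⟩ := exists_sub_mem_H (θ.symm b)
  refine ⟨a, ?_⟩
  have := algHom_mem_map θ.toAlgHom ha
  simpa using this

theorem exists_sub_mem_pow (hB : Hens2.IsPairHenselization A I B) (n : ℕ) (b : B) :
    ∃ a : A, algebraMap A B a - b ∈ (I ^ n).map (algebraMap A B) := by
  induction n generalizing b with
  | zero => exact ⟨0, by rw [pow_zero, Ideal.one_eq_top, Ideal.map_top]; trivial⟩
  | succ n ih =>
    -- elements of `IB` are congruent to elements of `I` modulo `I^(n+1) B`
    have key : ∀ j ∈ I.map (algebraMap A B), ∃ a' ∈ I,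
        algebraMap A B a' - j ∈ (I ^ (n + 1)).map (algebraMap A B) := by
      intro j hj
      unfold Ideal.map at hj
      induction hj using Submodule.span_induction with
      | mem j hj =>
        obtain ⟨i, hi, rfl⟩ := hj
        exact ⟨i, hi, by rw [sub_self]; exact zero_mem _⟩
      | zero => exact ⟨0, zero_mem _, by simp⟩
      | add j j' _ _ h h' =>
        obtain ⟨a, ha, haj⟩ := h
        obtain ⟨a', ha', haj'⟩ := h'
        refine ⟨a + a', add_mem ha ha', ?_⟩
        have : algebraMap A B (a + a') - (j + j') =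
            (algebraMap A B a - j) + (algebraMap A B a' - j') := by rw [map_add]; ring
        rw [this]
        exact add_mem haj haj'
      | smul c j _ h =>
        obtain ⟨a', ha', haj⟩ := h
        obtain ⟨ac, hac⟩ := ih c
        refine ⟨ac * a', Ideal.mul_mem_left _ _ ha', ?_⟩
        have : algebraMap A B (ac * a') - c • j =
            (algebraMap A B ac - c) * algebraMap A B a' + c * (algebraMap A B a' - j) := by
          rw [map_mul, smul_eq_mul]; ring
        rw [this]
        refine add_mem ?_ (Ideal.mul_mem_left _ _ haj)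
        rw [pow_succ, Ideal.map_mul]
        exact Ideal.mul_mem_mul hac (Ideal.mem_map_of_mem _ ha')
    obtain ⟨a₀, ha₀⟩ := exists_sub_mem_of_isPairHenselization hB b
    obtain ⟨a', -, ha'⟩ := key _ ha₀
    refine ⟨a₀ - a', ?_⟩
    have : algebraMap A B (a₀ - a') - b = -(algebraMap A B a' - (algebraMap A B a₀ - b)) := by
      rw [map_sub]; ring
    rw [this]
    exact neg_mem ha'

theorem mem_pow_of_algebraMap_mem (hB : Hens2.IsPairHenselization A I B) (n : ℕ) (a : A)
    (ha : algebraMap A B a ∈ (I ^ n).map (algebraMap A B)) : a ∈ I ^ n := by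
  set Q := A ⧸ I ^ n
  have hnil : ∀ x ∈ I.map (Ideal.Quotient.mk (I ^ n)), IsNilpotent x := by
    intro x hx
    obtain ⟨i, hi, rfl⟩ := (Ideal.mem_map_iff_of_surjective _ Ideal.Quotient.mk_surjective).mp hx
    refine ⟨n, ?_⟩
    rw [← map_pow, Ideal.Quotient.eq_zero_iff_mem]
    exact Ideal.pow_mem_pow hi n
  have hQ : HenselianRing Q (I.map (Ideal.Quotient.mk (I ^ n))) :=
    Groth.Agent.Lib.helper2.henselianRing_of_locally_nilpotent _ hnil
  obtain ⟨ρ, hρ, -⟩ := hB.2 Q _ (Ideal.Quotient.mk (I ^ n)) hQ le_rfl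
  have h1 : ((I ^ n).map (algebraMap A B)).map ρ ≤ ⊥ := by
    rw [Ideal.map_map, hρ, Ideal.map_quotient_self]
  have h2 := h1 (Ideal.mem_map_of_mem ρ ha)
  rw [Ideal.mem_bot] at h2
  have h3 : ρ (algebraMap A B a) = Ideal.Quotient.mk (I ^ n) a := RingHom.congr_fun hρ a
  rw [h3, Ideal.Quotient.eq_zero_iff_mem] at h2
  exact h2

/-- `A/Iⁿ → B/IⁿB` is bijective for a henselization `B` of `(A, I)`. -/
theorem bijective_quotientMap_pow (hB : Hens2.IsPairHenselization A I B) (n : ℕ) :
    Function.Bijective (Ideal.quotientMap ((I ^ n).map (algebraMap A B)) (algebraMap A B)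
      Ideal.le_comap_map) := by
  constructor
  · rw [injective_iff_map_eq_zero]
    intro x hx
    obtain ⟨a, rfl⟩ := Ideal.Quotient.mk_surjective x
    rw [Ideal.quotientMap_mk, Ideal.Quotient.eq_zero_iff_mem] at hx
    exact Ideal.Quotient.eq_zero_iff_mem.mpr (mem_pow_of_algebraMap_mem hB n a hx)
  · intro y
    obtain ⟨b, rfl⟩ := Ideal.Quotient.mk_surjective y
    obtain ⟨a, ha⟩ := exists_sub_mem_pow hB n b
    exact ⟨Ideal.Quotient.mk _ a, by rw [Ideal.quotientMap_mk, Ideal.Quotient.eq]; exact ha⟩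

end General

end Groth.Agent.Lib.helper26.PairHens
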