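import Mathlib
import Groth.Agent.Lib.Helper26.PairHensFlat
import Groth.Agent.Lib.Helper26.FiniteEtaleLift

/-!
# Truncations of a henselization of `(R, IR)` (helper26)

`nonempty_tensor_algEquiv_quotient_pow`: for an `A`-algebra `R` and a henselization `B` of
`(R, IR)`, `B/IʳB ≃ (A/Iʳ) ⊗ R` as `A/Iʳ`-algebras (used for S17602, S17603).
-/

universe u

namespace Groth.Agent.Lib.helper26.PairHens

open Groth.Agent.Lib.helper26.PairNbhd Groth.Agent.Lib.helper26.HenselPair

variable {A : Type u} [CommRing A] (I : Ideal A)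

/-- For an `A`-algebra `R` and a henselization `B` of `(R, IR)`: `B/IʳB ≃ (A/Iʳ) ⊗ R`. -/
theorem nonempty_tensor_algEquiv_quotient_pow (R : Type u) [CommRing R] [Algebra A R]
    (B : Type u) [CommRing B] [Algebra R B] [Algebra A B] [IsScalarTower A R B]
    (hB : Hens2.IsPairHenselization R (I.map (algebraMap A R)) B) (r : ℕ) :
    Nonempty (TensorProduct A (A ⧸ I ^ r) R ≃ₐ[A ⧸ I ^ r] B ⧸ (I ^ r).map (algebraMap A B)) := by
  have hid : ((I.map (algebraMap A R)) ^ r).map (algebraMap R B) = (I ^ r).map (algebraMap A B) := by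
    rw [← Ideal.map_pow, Ideal.map_map, ← IsScalarTower.algebraMap_eq]
  have hid' : (I.map (algebraMap A R)) ^ r = (I ^ r).map (algebraMap A R) := by
    rw [Ideal.map_pow]
  let ψ : R →+* B ⧸ (I ^ r).map (algebraMap A B) :=
    (Ideal.Quotient.mk _).comp (algebraMap R B)
  apply Groth.Agent.Lib.helper26.FiniteEtaleLift.nonempty_tensor_algEquiv_of_surjective
    (I ^ r) R _ ψ
  · intro a
    show Ideal.Quotient.mk _ (algebraMap R B (algebraMap A R a)) = _
    rw [← IsScalarTower.algebraMap_apply]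
    rfl
  · intro y
    obtain ⟨b, rfl⟩ := Ideal.Quotient.mk_surjective y
    obtain ⟨ρ, hρ⟩ := exists_sub_mem_pow hB r b
    rw [hid] at hρ
    exact ⟨ρ, Ideal.Quotient.eq.mpr hρ⟩
  · ext ρ
    rw [RingHom.mem_ker]
    show Ideal.Quotient.mk _ (algebraMap R B ρ) = 0 ↔ _
    rw [Ideal.Quotient.eq_zero_iff_mem, ← hid', ← hid]
    constructor
    · intro h
      exact mem_pow_of_algebraMap_mem hB r ρ h
    · intro h
      exact Ideal.mem_map_of_mem _ h

end Groth.Agent.Lib.helper26.PairHens
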