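import Mathlib
import Groth.Agent.Lib.Helper26.PairHensTrunc

/-!
# Henselizations that are finite (helper26)

* `isPairHenselization_of_isNbhd`: an étale neighbourhood of `(A, I)` that is henselian along `I`
  is the henselization of `(A, I)`.
* `finite_of_finite_quotient`: over a henselian pair `(A, I)`, if `R` is a finite type `A`-algebra
  with `R/IR` finite over `A`, then the henselization of `(R, IR)` is finite over `A`
  (and finitely presented if `R` is).
-/

universe u

namespace Groth.Agent.Lib.helper26.PairHens

open Groth.Agent.Lib.helper26.PairNbhd Groth.Agent.Lib.helper26.HenselPair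

variable {A : Type u} [CommRing A] (I : Ideal A)

/-- An étale neighbourhood of `(A, I)` that is henselian along `I` is the henselization. -/
theorem isPairHenselization_of_isNbhd (C : Type u) [CommRing C] [Algebra A C] [Algebra.Etale A C]
    (hC : IsNbhd I C) (hh : HenselianRing C (I.map (algebraMap A C))) :
    Hens2.IsPairHenselization A I C := by
  refine ⟨hh, ?_⟩
  intro T _ J f hT hIJ
  let algT : Algebra A T := f.toAlgebra
  have hIJ' : I.map (algebraMap A T) ≤ J := hIJ
  obtain ⟨g⟩ := exists_algHom_of_henselianRing C hC T J hT hIJ'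
  refine ⟨g.toRingHom, g.comp_algebraMap, ?_⟩
  intro g' hg'
  let g'' : C →ₐ[A] T := { g' with commutes' := fun a => RingHom.congr_fun hg' a }
  have := algHom_ext_of_henselianRing C hC T J hT hIJ' g'' g
  ext x
  exact AlgHom.congr_fun this x

/-- Over a henselian pair `(A, I)`: if `R` is of finite type over `A` and `R/IR` is finite over
`A`, then any henselization `B` of `(R, IR)` is finite over `A`, and is étale over `R`. -/
theorem finite_of_finite_quotient (h : HenselianRing A I) (R : Type u) [CommRing R] [Algebra A R]
    [Algebra.FiniteType A R] (B : Type u) [CommRing B] [Algebra R B] [Algebra A B]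
    [IsScalarTower A R B] (hB : Hens2.IsPairHenselization R (I.map (algebraMap A R)) B)
    (hfin : Module.Finite A (R ⧸ I.map (algebraMap A R))) :
    Module.Finite A B ∧ Algebra.Etale R B := by
  obtain ⟨C, _, _, _, _, hCet, hCfin, hsurj, hker⟩ :=
    Groth.Agent.Lib.helper26.FiniteEtaleLift.exists_finite_part_of_henselianRing I h R hfin
  have hmap : (I.map (algebraMap A R)).map (algebraMap R C) = I.map (algebraMap A C) := by
    rw [Ideal.map_map, ← IsScalarTower.algebraMap_eq]
  have hnb : IsNbhd (I.map (algebraMap A R)) C := by
    rw [isNbhd_iff, hmap]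
    constructor
    · intro x
      obtain ⟨r, hr⟩ := hsurj (Ideal.Quotient.mk _ x)
      refine ⟨r, ?_⟩
      rw [RingHom.comp_apply, Ideal.Quotient.eq] at hr
      exact hr
    · intro r hr
      rw [← hker, RingHom.mem_ker, RingHom.comp_apply, Ideal.Quotient.eq_zero_iff_mem]
      exact hr
  have hint : Algebra.IsIntegral A C := inferInstance
  have hhC : HenselianRing C (I.map (algebraMap A C)) := henselianRing_map_of_isIntegral h C
  have hC : Hens2.IsPairHenselization R (I.map (algebraMap A R)) C :=
    isPairHenselization_of_isNbhd _ C hnb (by rw [hmap]; exact hhC)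
  obtain ⟨θ⟩ := nonempty_algEquiv_of_isPairHenselization hC hB
  refine ⟨?_, Algebra.Etale.of_equiv θ⟩
  exact Module.Finite.equiv (θ.restrictScalars A).toLinearEquiv

/-- A henselization of `(A, I)` is a neighbourhood: `A/I → B/IB` is bijective. -/
theorem isNbhd_of_isPairHenselization {B : Type u} [CommRing B] [Algebra A B]
    (hB : Hens2.IsPairHenselization A I B) : IsNbhd I B := by
  rw [isNbhd_iff]
  refine ⟨exists_sub_mem_of_isPairHenselization hB, fun a ha => ?_⟩
  have := mem_pow_of_algebraMap_mem hB 1 a (by rwa [pow_one])
  rwa [pow_one] at this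

/-- Over a henselian pair `(A, I)`: if `R` is an `A`-algebra of finite type and `B` is a
henselization of `(R, IR)` with `B/IB` finite over `A`, then `B` is finite over `A` and étale
over `R`. -/
theorem finite_of_finite_quotient' (h : HenselianRing A I) (R : Type u) [CommRing R] [Algebra A R]
    [Algebra.FiniteType A R] (B : Type u) [CommRing B] [Algebra R B] [Algebra A B]
    [IsScalarTower A R B] (hB : Hens2.IsPairHenselization R (I.map (algebraMap A R)) B)
    (hfin : Module.Finite A (B ⧸ I.map (algebraMap A B))) :
    Module.Finite A B ∧ Algebra.Etale R B := by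
  apply finite_of_finite_quotient I h R B hB
  have hnb := isNbhd_of_isPairHenselization _ hB
  have hmap : (I.map (algebraMap A R)).map (algebraMap R B) = I.map (algebraMap A B) := by
    rw [Ideal.map_map, ← IsScalarTower.algebraMap_eq]
  -- the `A`-linear bijection `R/IR → B/IB`
  let L : (R ⧸ I.map (algebraMap A R)) →ₗ[A] (B ⧸ I.map (algebraMap A B)) :=
    { toFun := Ideal.quotientMap (I.map (algebraMap A B)) (algebraMap R B)
        (by rw [← hmap]; exact Ideal.le_comap_map)
      map_add' := map_add _
      map_smul' := by
        intro a x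
        obtain ⟨r, rfl⟩ := Ideal.Quotient.mk_surjective x
        rw [RingHom.id_apply, Algebra.smul_def, Algebra.smul_def, map_mul]
        congr 1
        rw [IsScalarTower.algebraMap_apply A R (R ⧸ _), Ideal.Quotient.algebraMap_eq,
          Ideal.quotientMap_mk, ← IsScalarTower.algebraMap_apply,
          IsScalarTower.algebraMap_apply A B (B ⧸ _), Ideal.Quotient.algebraMap_eq] }
  have hL : Function.Bijective L := by
    constructor
    · rw [← LinearMap.ker_eq_bot, LinearMap.ker_eq_bot']
      intro x hx
      obtain ⟨r, rfl⟩ := Ideal.Quotient.mk_surjective x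
      have hx' : Ideal.Quotient.mk (I.map (algebraMap A B)) (algebraMap R B r) = 0 := hx
      rw [Ideal.Quotient.eq_zero_iff_mem, ← hmap] at hx'
      exact Ideal.Quotient.eq_zero_iff_mem.mpr (hnb.mem_of_algebraMap_mem r hx')
    · intro y
      obtain ⟨b, rfl⟩ := Ideal.Quotient.mk_surjective y
      obtain ⟨r, hr⟩ := hnb.exists_sub_mem b
      refine ⟨Ideal.Quotient.mk _ r, ?_⟩
      show Ideal.Quotient.mk (I.map (algebraMap A B)) (algebraMap R B r) = _
      rw [Ideal.Quotient.eq, ← hmap]
      exact hr
  exact Module.Finite.equiv (LinearEquiv.ofBijective L hL).symm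

end Groth.Agent.Lib.helper26.PairHens
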