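import Mathlib
import Groth.Agent.Lib.Helper26.PairHensFinite

/-!
# Henselization of a pair vs. henselization of a local ring (helper26)

* `henselianRing_of_ringEquiv`, `IsPairHenselization.of_algEquiv`: transport along isomorphisms.
* `isHenselization_iff`: for a local `A`-algebra `B` with local structure map, `B` is a
  henselization of the pair `(A, 𝔪)` iff it is a henselization of the local ring `A`.
-/

universe u

namespace Groth.Agent.Lib.helper26.PairHens

open Groth.Agent.Lib.helper26.PairNbhd Groth.Agent.Lib.helper26.HenselPair Polynomial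

/-- Henselian pairs transport along ring isomorphisms. -/
theorem henselianRing_of_ringEquiv {R S : Type*} [CommRing R] [CommRing S] (e : R ≃+* S)
    (I : Ideal R) (h : HenselianRing R I) : HenselianRing S (I.map (e : R →+* S)) := by
  have hmem : ∀ x : S, x ∈ I.map (e : R →+* S) ↔ e.symm x ∈ I := by
    intro x
    rw [Ideal.mem_map_iff_of_surjective (e : R →+* S) e.surjective]
    constructor
    · rintro ⟨y, hy, rfl⟩
      simpa using hy
    · intro hx
      exact ⟨e.symm x, hx, by simp⟩
  constructor
  · intro x hx
    rw [hmem] at hx
    have h1 := h.jac hx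
    rw [Ideal.mem_jacobson_bot] at h1 ⊢
    intro z
    have h2 := (h1 (e.symm z)).map e
    simpa using h2
  · intro f hf a₀ h₁ h₂
    have hf' : (f.map (e.symm : S →+* R)).Monic := hf.map _
    have h₁' : (f.map (e.symm : S →+* R)).eval (e.symm a₀) ∈ I := by
      rw [Polynomial.eval_map, ← RingEquiv.coe_toRingHom, Polynomial.eval₂_hom]
      exact (hmem _).mp h₁
    have h₂' : IsUnit (Ideal.Quotient.mk I
        ((f.map (e.symm : S →+* R)).derivative.eval (e.symm a₀))) := by
      rw [Polynomial.derivative_map, Polynomial.eval_map, ← RingEquiv.coe_toRingHom,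
        Polynomial.eval₂_hom]
      obtain ⟨w, hw⟩ := isUnit_iff_exists_inv.mp h₂
      obtain ⟨w, rfl⟩ := Ideal.Quotient.mk_surjective w
      rw [isUnit_iff_exists_inv]
      refine ⟨Ideal.Quotient.mk I (e.symm w), ?_⟩
      rw [← map_mul, ← map_one (Ideal.Quotient.mk _), Ideal.Quotient.eq] at hw ⊢
      have := (hmem _).mp hw
      simpa using this
    obtain ⟨a, ha, haa⟩ := h.is_henselian _ hf' _ h₁' h₂'
    refine ⟨e a, ?_, ?_⟩
    · rw [Polynomial.IsRoot.def] at ha ⊢
      have h3 : e ((f.map (e.symm : S →+* R)).eval a) = 0 := by rw [ha, map_zero]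
      rw [Polynomial.eval_map, ← RingEquiv.coe_toRingHom e, Polynomial.hom_eval₂] at h3
      have h4 : ((e : R →+* S).comp (e.symm : S →+* R)) = RingHom.id S := by
        ext x; simp
      rw [RingEquiv.coe_toRingHom, h4, Polynomial.eval₂_id] at h3
      exact h3
    · rw [hmem]
      simpa using haa

variable {A : Type u} [CommRing A] {I : Ideal A}

/-- A henselization of a pair transports along algebra isomorphisms. -/
theorem isPairHenselization_of_algEquiv {B B' : Type u} [CommRing B] [Algebra A B] [CommRing B']
    [Algebra A B'] (hB : Hens2.IsPairHenselization A I B) (e : B ≃ₐ[A] B') :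
    Hens2.IsPairHenselization A I B' := by
  constructor
  · have h1 := henselianRing_of_ringEquiv e.toRingEquiv _ hB.1
    have h2 : (I.map (algebraMap A B)).map ((e.toRingEquiv : B ≃+* B') : B →+* B') =
        I.map (algebraMap A B') := by
      rw [Ideal.map_map]
      congr 1
      ext a
      simp
    rwa [h2] at h1
  · intro C _ J f hC hIJ
    obtain ⟨g, hg, hguniq⟩ := hB.2 C J f hC hIJ
    refine ⟨g.comp (e.symm : B' →+* B), ?_, ?_⟩
    · ext a
      have := RingHom.congr_fun hg a
      simpa using this
    · intro g' hg'
      have h3 : g'.comp (e : B →+* B') = g := by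
        apply hguniq
        ext a
        have := RingHom.congr_fun hg' a
        simpa using this
      ext x
      have := RingHom.congr_fun h3 (e.symm x)
      simpa using this

/-- Henselian along the maximal ideal means henselian local. -/
theorem henselianLocalRing_of_henselianRing (R : Type*) [CommRing R] [IsLocalRing R]
    (h : HenselianRing R (IsLocalRing.maximalIdeal R)) : HenselianLocalRing R where
  is_henselian := fun f hf a₀ h₁ h₂ => h.is_henselian f hf a₀ h₁ (h₂.map _)

section Local

variable (A) [IsLocalRing A]

/-- For a henselization `B` of the pair `(A, 𝔪)`, the ideal `𝔪B` is maximal. -/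
theorem isMaximal_map_of_isPairHenselization {B : Type u} [CommRing B] [Algebra A B]
    (hB : Hens2.IsPairHenselization A (IsLocalRing.maximalIdeal A) B) :
    ((IsLocalRing.maximalIdeal A).map (algebraMap A B)).IsMaximal := by
  have hnb := isNbhd_of_isPairHenselization _ hB
  let e := RingEquiv.ofBijective _ hnb
  have : IsField (B ⧸ (IsLocalRing.maximalIdeal A).map (algebraMap A B)) :=
    e.symm.toMulEquiv.isField
      ((Ideal.Quotient.maximal_ideal_iff_isField_quotient _).mp inferInstance)
  exact (Ideal.Quotient.maximal_ideal_iff_isField_quotient _).mpr this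

/-- A henselization of the pair `(A, 𝔪)` is a local ring. -/
theorem isLocalRing_of_isPairHenselization {B : Type u} [CommRing B] [Algebra A B]
    (hB : Hens2.IsPairHenselization A (IsLocalRing.maximalIdeal A) B) : IsLocalRing B := by
  have hmax := isMaximal_map_of_isPairHenselization A hB
  apply IsLocalRing.of_unique_max_ideal
  refine ⟨_, hmax, fun J hJ => ?_⟩
  have h1 : (IsLocalRing.maximalIdeal A).map (algebraMap A B) ≤ J :=
    hB.1.jac.trans (sInf_le ⟨bot_le, hJ⟩)
  exact (hmax.eq_of_le hJ.ne_top h1).symm

variable {A}

/-- A local henselization of the pair `(A, 𝔪)` is a henselization of the local ring `A`. -/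
theorem isHenselization_of_isPairHenselization {B : Type u} [CommRing B] [IsLocalRing B]
    [Algebra A B] [IsLocalHom (algebraMap A B)]
    (hB : Hens2.IsPairHenselization A (IsLocalRing.maximalIdeal A) B) :
    Hensel.IsHenselization A B := by
  have hmax := isMaximal_map_of_isPairHenselization A hB
  have hmeq : (IsLocalRing.maximalIdeal A).map (algebraMap A B) = IsLocalRing.maximalIdeal B :=
    IsLocalRing.eq_maximalIdeal hmax
  have hhens : HenselianLocalRing B :=
    henselianLocalRing_of_henselianRing B (by rw [← hmeq]; exact hB.1)
  refine ⟨hhens, ?_⟩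
  intro T _ _ f hf
  exact hB.2 T (IsLocalRing.maximalIdeal T) f inferInstance
    (((IsLocalRing.local_hom_TFAE f).out 0 2).mp hf)

/-- A henselization of the local ring `A` is a henselization of the pair `(A, 𝔪)`. -/
theorem isPairHenselization_of_isHenselization {B : Type u} [CommRing B] [IsLocalRing B]
    [Algebra A B] [IsLocalHom (algebraMap A B)] (h : Hensel.IsHenselization A B) :
    Hens2.IsPairHenselization A (IsLocalRing.maximalIdeal A) B := by
  set m := IsLocalRing.maximalIdeal A with hm
  have hH : Hens2.IsPairHenselization A m (H A m) := isPairHenselization_H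
  have hloc : IsLocalRing (H A m) := isLocalRing_of_isPairHenselization A hH
  have hmax := isMaximal_map_of_isPairHenselization A hH
  have hmeq : m.map (algebraMap A (H A m)) = IsLocalRing.maximalIdeal (H A m) :=
    IsLocalRing.eq_maximalIdeal hmax
  have hlochom : IsLocalHom (algebraMap A (H A m)) :=
    ((IsLocalRing.local_hom_TFAE (algebraMap A (H A m))).out 0 2).mpr hmeq.le
  have hHL : HenselianLocalRing (H A m) :=
    henselianLocalRing_of_henselianRing _ (by rw [← hmeq]; exact hH.1)
  have hBL : HenselianLocalRing B := h.henselian
  have hBH : HenselianRing B (IsLocalRing.maximalIdeal B) := inferInstance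
  have hmB : m.map (algebraMap A B) ≤ IsLocalRing.maximalIdeal B :=
    ((IsLocalRing.local_hom_TFAE (algebraMap A B)).out 0 2).mp (inferInstance : IsLocalHom _)
  -- the two comparison maps
  obtain ⟨g, hg, -⟩ := h.universal (H A m) (algebraMap A (H A m)) hlochom
  obtain ⟨g', hg', -⟩ := hH.2 B (IsLocalRing.maximalIdeal B) (algebraMap A B) hBH hmB
  obtain ⟨u, -, hu⟩ := h.universal B (algebraMap A B) inferInstance
  obtain ⟨u', -, hu'⟩ := hH.2 (H A m) _ (algebraMap A (H A m)) hH.1 le_rfl
  have h1 : g'.comp g = RingHom.id B := by
    rw [hu (g'.comp g) (by show (g'.comp g).comp _ = _; rw [RingHom.comp_assoc, hg, hg']),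
      hu (RingHom.id B) (by show (RingHom.id B).comp _ = _; simp)]
  have h2 : g.comp g' = RingHom.id (H A m) := by
    rw [hu' (g.comp g') (by show (g.comp g').comp _ = _; rw [RingHom.comp_assoc, hg', hg]),
      hu' (RingHom.id _) (by show (RingHom.id _).comp _ = _; simp)]
  let e : H A m ≃ₐ[A] B :=
    { toFun := g'
      invFun := g
      left_inv := fun x => RingHom.congr_fun h2 x
      right_inv := fun x => RingHom.congr_fun h1 x
      map_mul' := map_mul g'
      map_add' := map_add g'
      commutes' := fun a => RingHom.congr_fun hg' a }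
  exact isPairHenselization_of_algEquiv hH e

/-- For a local `A`-algebra `B` with local structure map: henselization of the pair `(A, 𝔪)`
iff henselization of the local ring `A`. -/
theorem isPairHenselization_iff_isHenselization {B : Type u} [CommRing B] [IsLocalRing B]
    [Algebra A B] [IsLocalHom (algebraMap A B)] :
    Hens2.IsPairHenselization A (IsLocalRing.maximalIdeal A) B ↔ Hensel.IsHenselization A B :=
  ⟨isHenselization_of_isPairHenselization, isPairHenselization_of_isHenselization⟩

end Local

end Groth.Agent.Lib.helper26.PairHens
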