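import Mathlib
import Groth.Agent.Lib.Helper26.PairHensLocal

/-!
# Calculus of henselizations of pairs (helper26)

* `isPairHenselization_of_tower`: a henselization of `(A, I)` is a henselization of any étale
  neighbourhood `(A', IA')`.
* `exists_stage_fin`: finitely many elements of a henselization come from a common stage.
* `isPairHenselization_tensor`: `Hens(S, IS)` is `Hens(Ah ⊗ S, I)` where `Ah = Hens(A, I)`.
* `isPairHenselization_of_surjective` / `surjective_and_ker_of_isPairHenselization`:
  `Hens(A/K) = Hens(A)/K Hens(A)`.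
-/

universe u

namespace Groth.Agent.Lib.helper26.PairHens

open Groth.Agent.Lib.helper26.PairNbhd Groth.Agent.Lib.helper26.HenselPair TensorProduct

variable {A : Type u} [CommRing A] {I : Ideal A}

/-- A henselization of `(A, I)` is a henselization of any étale neighbourhood `(A', IA')`. -/
theorem isPairHenselization_of_tower {B : Type u} [CommRing B] [Algebra A B]
    (hB : Hens2.IsPairHenselization A I B) (A' : Type u) [CommRing A'] [Algebra A A']
    [Algebra.Etale A A'] (h : IsNbhd I A') [Algebra A' B] [IsScalarTower A A' B] :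
    Hens2.IsPairHenselization A' (I.map (algebraMap A A')) B := by
  have hmap : (I.map (algebraMap A A')).map (algebraMap A' B) = I.map (algebraMap A B) := by
    rw [Ideal.map_map, ← IsScalarTower.algebraMap_eq]
  refine ⟨by rw [hmap]; exact hB.1, ?_⟩
  intro C _ J f' hC hIJ
  set f : A →+* C := f'.comp (algebraMap A A') with hf
  have hIJ' : I.map f ≤ J := by
    rw [hf, ← Ideal.map_map]
    exact hIJ
  obtain ⟨g, hg, hguniq⟩ := hB.2 C J f hC hIJ'
  let algC : Algebra A C := f.toAlgebra
  have hIJ'' : I.map (algebraMap A C) ≤ J := hIJ'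
  have key : ∀ g₁ : B →+* C, g₁.comp (algebraMap A B) = f → g₁.comp (algebraMap A' B) = f' := by
    intro g₁ hg₁
    let φ₁ : A' →ₐ[A] C :=
      { g₁.comp (algebraMap A' B) with
        commutes' := fun a => by
          show g₁ (algebraMap A' B (algebraMap A A' a)) = f a
          rw [← IsScalarTower.algebraMap_apply, ← hg₁]
          rfl }
    let φ₂ : A' →ₐ[A] C := { f' with commutes' := fun a => rfl }
    have := algHom_ext_of_henselianRing A' h C J hC hIJ'' φ₁ φ₂
    ext x
    exact AlgHom.congr_fun this x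
  refine ⟨g, key g hg, ?_⟩
  intro g' hg'
  apply hguniq
  show g'.comp (algebraMap A B) = f
  rw [hf, ← hg', RingHom.comp_assoc, ← IsScalarTower.algebraMap_eq]

/-- Finitely many elements of a henselization come from a common stage. -/
theorem exists_stage_fin {B : Type u} [CommRing B] [Algebra A B]
    (hB : Hens2.IsPairHenselization A I B) {l : ℕ} (x : Fin l → B) :
    ∃ (k : Idx A I) (φ : k.C →ₐ[A] B) (y : Fin l → k.C), ∀ i, φ (y i) = x i := by
  obtain ⟨θ⟩ := nonempty_algEquiv_of_isPairHenselization (isPairHenselization_H (A := A) (I := I)) hB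
  obtain ⟨k, y, hy⟩ := exists_common_stage_fin (fun i => θ.symm (x i))
  refine ⟨k, θ.toAlgHom.comp (ι k), y, fun i => ?_⟩
  show θ (ι k (y i)) = x i
  rw [hy, θ.apply_symm_apply]

/-- `Hens(S, IS)` is a henselization of `(Ah ⊗ S, I(Ah ⊗ S))` for `Ah = Hens(A, I)`. -/
theorem isPairHenselization_tensor {Ah : Type u} [CommRing Ah] [Algebra A Ah]
    (hAh : Hens2.IsPairHenselization A I Ah) (S : Type u) [CommRing S] [Algebra A S]
    (C : Type u) [CommRing C] [Algebra S C]
    (hC : Hens2.IsPairHenselization S (I.map (algebraMap A S)) C) [Algebra (Ah ⊗[A] S) C]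
    (hcompat : ∀ s : S, algebraMap (Ah ⊗[A] S) C (1 ⊗ₜ s) = algebraMap S C s) :
    Hens2.IsPairHenselization (Ah ⊗[A] S) (I.map (algebraMap A (Ah ⊗[A] S))) C := by
  have hAT : ∀ a : A, algebraMap A (Ah ⊗[A] S) a = (1 : Ah) ⊗ₜ[A] algebraMap A S a := by
    intro a
    rw [Algebra.TensorProduct.algebraMap_apply, Algebra.algebraMap_eq_smul_one,
      Algebra.algebraMap_eq_smul_one, TensorProduct.smul_tmul]
  have hcomp : (algebraMap (Ah ⊗[A] S) C).comp (algebraMap A (Ah ⊗[A] S)) =
      (algebraMap S C).comp (algebraMap A S) := by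
    ext a
    rw [RingHom.comp_apply, RingHom.comp_apply, hAT, hcompat]
  have hmap : (I.map (algebraMap A (Ah ⊗[A] S))).map (algebraMap (Ah ⊗[A] S) C) =
      (I.map (algebraMap A S)).map (algebraMap S C) := by
    rw [Ideal.map_map, Ideal.map_map, hcomp]
  refine ⟨by rw [hmap]; exact hC.1, ?_⟩
  intro D _ J g hD hIJ
  -- the map `S → D`
  obtain ⟨gS, hgS'⟩ : ∃ gS : S →+* D, ∀ s, gS s = g (1 ⊗ₜ s) :=
    ⟨g.comp (Algebra.TensorProduct.includeRight (R := A) (A := Ah) (B := S)).toRingHom,
      fun s => rfl⟩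
  have hIJS : (I.map (algebraMap A S)).map gS ≤ J := by
    refine le_trans (le_of_eq ?_) hIJ
    rw [Ideal.map_map, Ideal.map_map]
    congr 1
    ext a
    rw [RingHom.comp_apply, RingHom.comp_apply, hAT, hgS']
  obtain ⟨ε, hε, hεuniq⟩ := hC.2 D J gS hD hIJS
  -- uniqueness of maps `Ah → D`
  obtain ⟨f₀, hf₀⟩ : ∃ f₀ : A →+* D, ∀ a, f₀ a = g (algebraMap A (Ah ⊗[A] S) a) :=
    ⟨g.comp (algebraMap A (Ah ⊗[A] S)), fun a => rfl⟩
  have hIJ₀ : I.map f₀ ≤ J := by
    refine le_trans (le_of_eq ?_) hIJ
    rw [Ideal.map_map]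
    congr 1
    ext a
    rw [hf₀, RingHom.comp_apply]
  obtain ⟨u, -, huuniq⟩ := hAh.2 D J f₀ hD hIJ₀
  have key : ∀ ε' : C →+* D, ε'.comp (algebraMap S C) = gS →
      ε'.comp (algebraMap (Ah ⊗[A] S) C) = g := by
    intro ε' hε'
    -- the two maps `Ah → D`
    have h1 : ∀ x : Ah, ε' (algebraMap (Ah ⊗[A] S) C (x ⊗ₜ 1)) = u x := by
      have : (ε'.comp (algebraMap (Ah ⊗[A] S) C)).comp
          (Algebra.TensorProduct.includeLeft (R := A) (S := A) (A := Ah) (B := S)).toRingHom
          = u := by
        apply huuniq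
        ext a
        show ε' (algebraMap (Ah ⊗[A] S) C (algebraMap A Ah a ⊗ₜ 1)) = f₀ a
        rw [hf₀, ← Algebra.TensorProduct.algebraMap_apply, hAT, hcompat, ← hgS', ← hε']
        rfl
      intro x
      exact RingHom.congr_fun this x
    have h2 : ∀ x : Ah, g (x ⊗ₜ 1) = u x := by
      have : g.comp
          (Algebra.TensorProduct.includeLeft (R := A) (S := A) (A := Ah) (B := S)).toRingHom
          = u := by
        apply huuniq
        ext a
        show g (algebraMap A Ah a ⊗ₜ 1) = f₀ a
        rw [hf₀, ← Algebra.TensorProduct.algebraMap_apply]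
      intro x
      exact RingHom.congr_fun this x
    apply RingHom.ext
    intro t
    induction t using TensorProduct.induction_on with
    | zero => simp
    | add x y hx hy => rw [map_add, map_add, hx, hy]
    | tmul x s =>
      have h3 : x ⊗ₜ[A] s = (x ⊗ₜ[A] (1 : S)) * ((1 : Ah) ⊗ₜ[A] s) := by
        rw [Algebra.TensorProduct.tmul_mul_tmul, mul_one, one_mul]
      rw [h3, map_mul, map_mul]
      congr 1
      · rw [RingHom.comp_apply, h1, h2]
      · have := RingHom.congr_fun hε' s
        rw [RingHom.comp_apply, hgS'] at this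
        rw [RingHom.comp_apply, hcompat]
        exact this
  refine ⟨ε, key ε hε, ?_⟩
  intro ε' hε'
  apply hεuniq
  show ε'.comp (algebraMap S C) = gS
  ext s
  rw [RingHom.comp_apply, hgS', ← hε', RingHom.comp_apply, hcompat]

/-- `Hens(S, IS)` for a quotient `S` of `A` is the corresponding quotient of `Hens(A, I)`. -/
theorem isPairHenselization_of_surjective {Ah : Type u} [CommRing Ah] [Algebra A Ah]
    (hAh : Hens2.IsPairHenselization A I Ah) {S : Type u} [CommRing S] (f : A →+* S)
    (hf : Function.Surjective f) {B' : Type u} [CommRing B'] (φ : Ah →+* B')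
    (hφ : Function.Surjective φ) (hker : RingHom.ker φ = (RingHom.ker f).map (algebraMap A Ah))
    [Algebra S B'] (hcompat : ∀ a, algebraMap S B' (f a) = φ (algebraMap A Ah a)) :
    Hens2.IsPairHenselization S (I.map f) B' := by
  have hmap : (I.map f).map (algebraMap S B') = (I.map (algebraMap A Ah)).map φ := by
    rw [Ideal.map_map, Ideal.map_map]
    congr 1
    ext a
    exact hcompat a
  constructor
  · rw [hmap]
    let _ : Algebra Ah B' := φ.toAlgebra
    have : Algebra.IsIntegral Ah B' := Algebra.isIntegral_of_surjective hφ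
    exact henselianRing_map_of_isIntegral hAh.1 B'
  · intro D _ J g hD hIJ
    have hIJ' : I.map (g.comp f) ≤ J := by
      rw [← Ideal.map_map]
      exact hIJ
    obtain ⟨g₀, hg₀, hg₀uniq⟩ := hAh.2 D J (g.comp f) hD hIJ'
    have hkill : RingHom.ker φ ≤ RingHom.ker g₀ := by
      rw [hker, Ideal.map_le_iff_le_comap]
      intro a ha
      rw [Ideal.mem_comap, RingHom.mem_ker]
      have := RingHom.congr_fun hg₀ a
      rw [RingHom.comp_apply] at this
      rw [this, RingHom.comp_apply, (RingHom.mem_ker).mp ha, map_zero]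
    refine ⟨φ.liftOfSurjective hφ ⟨g₀, hkill⟩, ?_, ?_⟩
    · ext s
      obtain ⟨a, rfl⟩ := hf s
      rw [RingHom.comp_apply, hcompat, RingHom.liftOfRightInverse_comp_apply]
      exact RingHom.congr_fun hg₀ a
    · intro g' hg'
      have h1 : g'.comp φ = g₀ := by
        apply hg₀uniq
        ext a
        rw [RingHom.comp_apply, RingHom.comp_apply, ← hcompat, ← hg']
        rfl
      apply RingHom.ext
      intro b
      obtain ⟨x, rfl⟩ := hφ b
      rw [RingHom.liftOfRightInverse_comp_apply]
      exact RingHom.congr_fun h1 x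

/-- For a quotient `S` of `A`, the canonical map `Hens(A, I) → Hens(S, IS)` is surjective with
kernel generated by the kernel of `A → S`. -/
theorem surjective_and_ker_of_isPairHenselization {Ah : Type u} [CommRing Ah] [Algebra A Ah]
    (hAh : Hens2.IsPairHenselization A I Ah) {S : Type u} [CommRing S] (f : A →+* S)
    (hf : Function.Surjective f) {Bs : Type u} [CommRing Bs] [Algebra S Bs]
    (hBs : Hens2.IsPairHenselization S (I.map f) Bs) (φ : Ah →+* Bs)
    (hφ : ∀ a, φ (algebraMap A Ah a) = algebraMap S Bs (f a)) :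
    Function.Surjective φ ∧ RingHom.ker φ = (RingHom.ker f).map (algebraMap A Ah) := by
  set K' := (RingHom.ker f).map (algebraMap A Ah) with hK'
  have hkill : RingHom.ker f ≤ RingHom.ker ((Ideal.Quotient.mk K').comp (algebraMap A Ah)) := by
    intro a ha
    rw [RingHom.mem_ker, RingHom.comp_apply, Ideal.Quotient.eq_zero_iff_mem]
    exact Ideal.mem_map_of_mem _ ha
  let σ : S →+* Ah ⧸ K' :=
    f.liftOfSurjective hf ⟨(Ideal.Quotient.mk K').comp (algebraMap A Ah), hkill⟩
  have hσ : ∀ a, σ (f a) = Ideal.Quotient.mk K' (algebraMap A Ah a) := fun a =>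
    RingHom.liftOfRightInverse_comp_apply _ _ _ _ a
  let _ : Algebra S (Ah ⧸ K') := σ.toAlgebra
  have hQ : Hens2.IsPairHenselization S (I.map f) (Ah ⧸ K') :=
    isPairHenselization_of_surjective hAh f hf (Ideal.Quotient.mk K')
      Ideal.Quotient.mk_surjective Ideal.mk_ker hσ
  obtain ⟨θ⟩ := nonempty_algEquiv_of_isPairHenselization hQ hBs
  have hJ : I.map ((algebraMap S Bs).comp f) ≤ (I.map f).map (algebraMap S Bs) := by
    rw [Ideal.map_map]
  obtain ⟨u, -, huuniq⟩ := hAh.2 Bs _ ((algebraMap S Bs).comp f) hBs.1 hJ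
  have h1 : φ = u := by
    apply huuniq
    ext a
    exact hφ a
  have h2 : (θ : (Ah ⧸ K') →+* Bs).comp (Ideal.Quotient.mk K') = u := by
    apply huuniq
    ext a
    show θ (Ideal.Quotient.mk K' (algebraMap A Ah a)) = algebraMap S Bs (f a)
    rw [← hσ]
    exact θ.commutes (f a)
  have h3 : ∀ x, φ x = θ (Ideal.Quotient.mk K' x) := fun x => by
    rw [h1, ← h2]; rfl
  constructor
  · intro b
    obtain ⟨q, rfl⟩ := θ.surjective b
    obtain ⟨x, rfl⟩ := Ideal.Quotient.mk_surjective q
    exact ⟨x, h3 x⟩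
  · ext x
    rw [RingHom.mem_ker, h3, map_eq_zero_iff θ θ.injective, Ideal.Quotient.eq_zero_iff_mem]

end Groth.Agent.Lib.helper26.PairHens
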