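import Mathlib
import Groth.Agent.Lib.Helper26.PairHensCalc

/-!
# Chinese remainder theorem for henselizations of pairs (helper26)

For pairwise comaximal ideals `I₁, …, Iₙ`, `Hens(A, ⋂ Iᵢ) ≃ ∏ Hens(A, Iᵢ)`.
-/

universe u

namespace Groth.Agent.Lib.helper26.PairHens

open Groth.Agent.Lib.helper26.PairNbhd Groth.Agent.Lib.helper26.HenselPair

/-- Idempotents modulo a henselian ideal lift. -/
theorem exists_idempotent_sub_mem {R : Type u} [CommRing R] {K : Ideal R} (h : HenselianRing R K)
    (x : R) (hx : x * x - x ∈ K) : ∃ e : R, IsIdempotentElem e ∧ e - x ∈ K := by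
  have hKid : K.map (algebraMap R R) = K := by
    rw [Algebra.algebraMap_self]; exact Ideal.map_id K
  have hint : Algebra.IsIntegral R R := Algebra.isIntegral_of_surjective (fun x => ⟨x, rfl⟩)
  have hidem : IsIdempotentElem (Ideal.Quotient.mk (K.map (algebraMap R R)) x) := by
    show _ * _ = _
    rw [← map_mul, Ideal.Quotient.eq, hKid]
    exact hx
  obtain ⟨e, he, hee⟩ := exists_idempotent_lift_of_henselianRing h R _ hidem
  refine ⟨e, he, ?_⟩
  rw [Ideal.Quotient.eq, hKid] at hee
  exact hee

/-- An idempotent in the Jacobson radical is zero. -/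
theorem eq_zero_of_isIdempotentElem_of_mem_jacobson {R : Type*} [CommRing R] {e : R}
    (he : IsIdempotentElem e) (hj : e ∈ Ideal.jacobson (⊥ : Ideal R)) : e = 0 := by
  have h1 : IsUnit (e * (-1) + 1) := Ideal.mem_jacobson_bot.mp hj (-1)
  have h2 : e * (e * (-1) + 1) = 0 := by
    have := he.eq
    linear_combination (-1 : R) * this
  exact (h1.mul_left_eq_zero).mp h2

variable {A : Type u} [CommRing A]

theorem nonempty_algEquiv_pi {n : ℕ} (I : Fin n → Ideal A)
    (hI : Pairwise fun i j => I i ⊔ I j = ⊤) {B : Type u} [CommRing B] [Algebra A B]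
    (hB : Hens2.IsPairHenselization A (⨅ i, I i) B) (Bi : Fin n → Type u)
    [∀ i, CommRing (Bi i)] [∀ i, Algebra A (Bi i)]
    (hBi : ∀ i, Hens2.IsPairHenselization A (I i) (Bi i)) :
    Nonempty (B ≃ₐ[A] ∀ i, Bi i) := by
  classical
  set N : Ideal A := ⨅ i, I i with hN
  -- the elements `a i`
  have hex : ∀ i, ∃ a : A, a - 1 ∈ I i ∧ ∀ j, j ≠ i → a ∈ I j := by
    intro i
    have h1 : I i ⊔ ⨅ j ∈ Finset.univ.erase i, I j = ⊤ :=
      Ideal.sup_iInf_eq_top fun j hj => hI (Finset.ne_of_mem_erase hj).symm
    have h2 : (1 : A) ∈ I i ⊔ ⨅ j ∈ Finset.univ.erase i, I j := by rw [h1]; trivial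
    obtain ⟨x, hx, a, ha, hxa⟩ := Submodule.mem_sup.mp h2
    refine ⟨a, ?_, fun j hj => ?_⟩
    · have : a - 1 = -x := by rw [← hxa]; ring
      rw [this]; exact neg_mem hx
    · have := Ideal.mem_iInf.mp ha j
      exact Ideal.mem_iInf.mp this (Finset.mem_erase.mpr ⟨hj, Finset.mem_univ _⟩)
  choose a ha1 haj using hex
  have hmul : ∀ i, ∀ x ∈ I i, a i * x ∈ N := by
    intro i x hx
    rw [hN, Ideal.mem_iInf]
    intro j
    by_cases hji : j = i
    · subst hji; exact Ideal.mul_mem_left _ _ hx
    · exact Ideal.mul_mem_right _ _ (haj i j hji)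
  have hidem : ∀ i, a i * a i - a i ∈ N := by
    intro i
    have : a i * a i - a i = a i * (a i - 1) := by ring
    rw [this]; exact hmul i _ (ha1 i)
  have hortho : ∀ i j, i ≠ j → a i * a j ∈ N := fun i j hij => hmul i _ (haj j i hij)
  have hsum : ∑ i, a i - 1 ∈ N := by
    rw [hN, Ideal.mem_iInf]
    intro k
    have : ∑ i, a i - 1 = (a k - 1) + ∑ i ∈ Finset.univ.erase k, a i := by
      rw [← Finset.add_sum_erase _ _ (Finset.mem_univ k)]; ring
    rw [this]
    exact add_mem (ha1 k) (Ideal.sum_mem _ fun i hi => haj i k (Finset.ne_of_mem_erase hi).symm)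
  set K := N.map (algebraMap A B) with hK
  have hKjac : K ≤ Ideal.jacobson ⊥ := hB.1.jac
  have hlift : ∀ i, ∃ e : B, IsIdempotentElem e ∧ e - algebraMap A B (a i) ∈ K := by
    intro i
    apply exists_idempotent_sub_mem hB.1
    rw [← map_mul, ← map_sub]
    exact Ideal.mem_map_of_mem _ (hidem i)
  choose e he hea using hlift
  have heortho : Pairwise (fun i j => e i * e j = 0) := by
    intro i j hij
    apply eq_zero_of_isIdempotentElem_of_mem_jacobson ((he i).mul (he j))
    apply hKjac
    have h1 : e i * e j = (e i - algebraMap A B (a i)) * e j +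
        algebraMap A B (a i) * (e j - algebraMap A B (a j)) + algebraMap A B (a i * a j) := by
      rw [map_mul]; ring
    rw [h1]
    exact add_mem (add_mem (Ideal.mul_mem_right _ _ (hea i)) (Ideal.mul_mem_left _ _ (hea j)))
      (Ideal.mem_map_of_mem _ (hortho i j hij))
  have heOI : OrthogonalIdempotents e := ⟨he, heortho⟩
  have hecomplete : ∑ i, e i = 1 := by
    have h1 : IsIdempotentElem (1 - ∑ i, e i) := heOI.isIdempotentElem_sum.one_sub
    have h2 : 1 - ∑ i, e i ∈ K := by
      have : 1 - ∑ i, e i = -(algebraMap A B (∑ i, a i - 1)) +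
          ∑ i, (algebraMap A B (a i) - e i) := by
        rw [Finset.sum_sub_distrib, map_sub, map_sum, map_one]; ring
      rw [this]
      refine add_mem (neg_mem (Ideal.mem_map_of_mem _ hsum)) (Ideal.sum_mem _ fun i _ => ?_)
      have := neg_mem (hea i)
      rwa [neg_sub] at this
    have := eq_zero_of_isIdempotentElem_of_mem_jacobson h1 (hKjac h2)
    exact (sub_eq_zero.mp this).symm
  have heCOI : CompleteOrthogonalIdempotents e := ⟨heOI, hecomplete⟩
  -- each factor is a henselization of `(A, I i)`
  have hQ : ∀ i, Hens2.IsPairHenselization A (I i) (B ⧸ Ideal.span {1 - e i}) := by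
    intro i
    set Q := B ⧸ Ideal.span {1 - e i}
    have hint : Algebra.IsIntegral B Q :=
      Algebra.isIntegral_of_surjective Ideal.Quotient.mk_surjective
    have h1 : HenselianRing Q (K.map (algebraMap B Q)) := henselianRing_map_of_isIntegral hB.1 Q
    have hKQ : K.map (algebraMap B Q) = N.map (algebraMap A Q) := by
      rw [hK, Ideal.map_map, ← IsScalarTower.algebraMap_eq]
    rw [hKQ] at h1
    have hunit : IsUnit (algebraMap A Q (a i)) := by
      apply Ideal.isUnit_of_sub_one_mem_jacobson_bot
      apply h1.jac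
      have h2 : algebraMap A Q (a i) - 1 =
          algebraMap B Q (algebraMap A B (a i) - e i) := by
        rw [map_sub, ← IsScalarTower.algebraMap_apply]
        have : algebraMap B Q (e i) = 1 := by
          rw [Ideal.Quotient.algebraMap_eq, ← map_one (Ideal.Quotient.mk _), eq_comm,
            Ideal.Quotient.eq]
          exact Ideal.subset_span rfl
        rw [this]
      rw [h2, ← hKQ]
      apply Ideal.mem_map_of_mem
      have := neg_mem (hea i)
      rwa [neg_sub] at this
    have hIN : (I i).map (algebraMap A Q) = N.map (algebraMap A Q) := by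
      apply le_antisymm
      · rw [Ideal.map_le_iff_le_comap]
        intro x hx
        rw [Ideal.mem_comap]
        obtain ⟨u, hu⟩ := hunit
        have h3 : algebraMap A Q x = (↑u⁻¹ : Q) * algebraMap A Q (a i * x) := by
          rw [map_mul, ← hu, ← mul_assoc, Units.inv_mul, one_mul]
        rw [h3]
        exact Ideal.mul_mem_left _ _ (Ideal.mem_map_of_mem _ (hmul i x hx))
      · exact Ideal.map_mono (iInf_le _ i)
    refine ⟨by rw [hIN]; exact h1, ?_⟩
    intro C _ J f hC hIJ
    have hNJ : N.map f ≤ J := (Ideal.map_mono (iInf_le _ i)).trans hIJ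
    obtain ⟨g, hg, hguniq⟩ := hB.2 C J f hC hNJ
    have hg' : ∀ x, g (algebraMap A B x) = f x := fun x => RingHom.congr_fun hg x
    have hgK : ∀ y ∈ K, g y ∈ J := by
      intro y hy
      have : K.map g ≤ J := by
        rw [hK, Ideal.map_map, hg]; exact hNJ
      exact this (Ideal.mem_map_of_mem _ hy)
    have hkill : g (1 - e i) = 0 := by
      apply eq_zero_of_isIdempotentElem_of_mem_jacobson
      · exact ((he i).one_sub).map g
      · apply hC.jac
        have h4 : g (1 - e i) = -(f (a i - 1)) - g (e i - algebraMap A B (a i)) := by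
          rw [map_sub, map_sub, map_sub, hg', map_one, map_one]; ring
        rw [h4]
        exact sub_mem (neg_mem (hIJ (Ideal.mem_map_of_mem _ (ha1 i)))) (hgK _ (hea i))
    have hkill' : ∀ b ∈ Ideal.span {1 - e i}, g b = 0 := by
      intro b hb
      obtain ⟨c, rfl⟩ := Ideal.mem_span_singleton'.mp hb
      rw [map_mul, hkill, mul_zero]
    refine ⟨Ideal.Quotient.lift _ g hkill', ?_, ?_⟩
    · ext x
      rw [RingHom.comp_apply, IsScalarTower.algebraMap_apply A B Q, Ideal.Quotient.algebraMap_eq,
        Ideal.Quotient.lift_mk, hg']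
    · intro g' hg''
      apply Ideal.Quotient.ringHom_ext
      have : g'.comp (Ideal.Quotient.mk _) = g := by
        apply hguniq
        ext x
        have := RingHom.congr_fun hg'' x
        rw [RingHom.comp_apply, IsScalarTower.algebraMap_apply A B Q,
          Ideal.Quotient.algebraMap_eq] at this
        exact this
      rw [this]
      ext b
      rfl
  -- assemble
  have θ : ∀ i, (B ⧸ Ideal.span {1 - e i}) ≃ₐ[A] Bi i := fun i =>
    Classical.choice (nonempty_algEquiv_of_isPairHenselization (hQ i) (hBi i))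
  let ψ : B →ₐ[A] ∀ i, B ⧸ Ideal.span {1 - e i} :=
    { RingHom.pi fun i => Ideal.Quotient.mk (Ideal.span {1 - e i}) with
      commutes' := fun x => rfl }
  have hψ : Function.Bijective ψ := heCOI.bijective_pi
  exact ⟨(AlgEquiv.ofBijective ψ hψ).trans (AlgEquiv.piCongrRight θ)⟩

end Groth.Agent.Lib.helper26.PairHens
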