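import Mathlib
import Groth.Agent.Lib.Helper26.PairHensCalc

/-!
# Henselization and integral base change (helper26)

* `henselianRing_of_le_radical`: a henselian pair `(R, K)` is henselian along any `K'` with
  `K ≤ K' ≤ √K`.
* `bijective_productMap_of_isIntegral`: `Ah ⊗[A] B ≃ Bh` for integral `A → B`.
-/

universe u

namespace Groth.Agent.Lib.helper26.PairHens

open Groth.Agent.Lib.helper26.PairNbhd Groth.Agent.Lib.helper26.HenselPair TensorProduct Polynomial

/-- A henselian pair `(R, K)` is henselian along any `K'` with `K ≤ K' ≤ √K`. -/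
theorem henselianRing_of_le_radical {R : Type u} [CommRing R] {K K' : Ideal R}
    (h : HenselianRing R K) (h1 : K ≤ K') (h2 : K' ≤ K.radical) : HenselianRing R K' := by
  have hjac : K' ≤ Ideal.jacobson ⊥ := by
    refine h2.trans (Ideal.radical_le_jacobson.trans ?_)
    have := Ideal.jacobson_mono h.jac
    rwa [Ideal.jacobson_idem] at this
  refine ⟨hjac, ?_⟩
  intro f hf a₀ h₁ h₂
  set Q := R ⧸ K
  have hnil : ∀ x ∈ K'.map (Ideal.Quotient.mk K), IsNilpotent x := by
    intro x hx
    obtain ⟨y, hy, rfl⟩ := (Ideal.mem_map_iff_of_surjective _ Ideal.Quotient.mk_surjective).mp hx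
    obtain ⟨n, hn⟩ := h2 hy
    exact ⟨n, by rw [← map_pow, Ideal.Quotient.eq_zero_iff_mem]; exact hn⟩
  have hQ : HenselianRing Q (K'.map (Ideal.Quotient.mk K)) :=
    Groth.Agent.Lib.helper2.henselianRing_of_locally_nilpotent _ hnil
  have hf' : (f.map (Ideal.Quotient.mk K)).Monic := hf.map _
  have h₁' : (f.map (Ideal.Quotient.mk K)).eval (Ideal.Quotient.mk K a₀) ∈
      K'.map (Ideal.Quotient.mk K) := by
    rw [Polynomial.eval_map, Polynomial.eval₂_hom]
    exact Ideal.mem_map_of_mem _ h₁
  have h₂' : IsUnit (Ideal.Quotient.mk (K'.map (Ideal.Quotient.mk K))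
      ((f.map (Ideal.Quotient.mk K)).derivative.eval (Ideal.Quotient.mk K a₀))) := by
    rw [Polynomial.derivative_map, Polynomial.eval_map, Polynomial.eval₂_hom]
    obtain ⟨w, hw⟩ := isUnit_iff_exists_inv.mp h₂
    obtain ⟨w, rfl⟩ := Ideal.Quotient.mk_surjective w
    rw [isUnit_iff_exists_inv]
    refine ⟨Ideal.Quotient.mk _ (Ideal.Quotient.mk K w), ?_⟩
    rw [← map_mul, ← map_one (Ideal.Quotient.mk K'), Ideal.Quotient.eq] at hw
    rw [← map_mul, ← map_mul, ← map_one (Ideal.Quotient.mk (K'.map (Ideal.Quotient.mk K))),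
      Ideal.Quotient.eq, ← map_one (Ideal.Quotient.mk K), ← map_sub]
    exact Ideal.mem_map_of_mem _ hw
  obtain ⟨a₁', ha₁', haa'⟩ := hQ.is_henselian _ hf' _ h₁' h₂'
  obtain ⟨a₁, rfl⟩ := Ideal.Quotient.mk_surjective a₁'
  have hfa₁ : f.eval a₁ ∈ K := by
    rw [Polynomial.IsRoot.def, Polynomial.eval_map, Polynomial.eval₂_hom] at ha₁'
    exact Ideal.Quotient.eq_zero_iff_mem.mp ha₁'
  have ha₁₀ : a₁ - a₀ ∈ K' := by
    rw [← map_sub] at haa'
    obtain ⟨x, hx, hxe⟩ := (Ideal.mem_map_iff_of_surjective _ Ideal.Quotient.mk_surjective).mp haa'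
    have : x - (a₁ - a₀) ∈ K := Ideal.Quotient.eq.mp hxe
    have h3 : a₁ - a₀ = x - (x - (a₁ - a₀)) := by ring
    rw [h3]
    exact sub_mem hx (h1 this)
  have hunit : IsUnit (f.derivative.eval a₁) := by
    have hloc := isLocalHom_of_le_jacobson_bot K' hjac
    apply hloc.map_nonunit
    have : Ideal.Quotient.mk K' (f.derivative.eval a₁) =
        Ideal.Quotient.mk K' (f.derivative.eval a₀) := by
      rw [Ideal.Quotient.eq]
      obtain ⟨c, hc⟩ := Polynomial.sub_dvd_eval_sub a₁ a₀ f.derivative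
      rw [hc]
      exact Ideal.mul_mem_right _ _ ha₁₀
    rw [this]
    exact h₂
  obtain ⟨a, ha, haa⟩ := h.is_henselian f hf a₁ hfa₁ (hunit.map _)
  refine ⟨a, ha, ?_⟩
  have h3 : a - a₀ = (a - a₁) + (a₁ - a₀) := by ring
  rw [h3]
  exact add_mem (h1 haa) ha₁₀

variable {A : Type u} [CommRing A] {I : Ideal A}

/-- For `A → B` integral, `J ⊇ IB` with the same radical: `Ah ⊗[A] B` (as a `B`-algebra through
the right factor) is a henselization of `(B, J)`. -/
theorem isPairHenselization_tensor_of_isIntegral {Ah : Type u} [CommRing Ah] [Algebra A Ah]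
    (hA : Hens2.IsPairHenselization A I Ah) (B : Type u) [CommRing B] [Algebra A B]
    [Algebra.IsIntegral A B] (J : Ideal B) (hIJ : I.map (algebraMap A B) ≤ J)
    (hrad : J ≤ (I.map (algebraMap A B)).radical) :
    ∀ (T : Type u) [CommRing T] [Algebra B T] (e : Ah ⊗[A] B ≃+* T),
      (∀ b : B, e (1 ⊗ₜ b) = algebraMap B T b) → Hens2.IsPairHenselization B J T := by
  intro T _ _ e he
  set ι₂ : B →+* Ah ⊗[A] B :=
    (Algebra.TensorProduct.includeRight (R := A) (A := Ah) (B := B)).toRingHom with hι₂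
  have hι₂' : ∀ b, ι₂ b = 1 ⊗ₜ b := fun b => rfl
  have hA1 : ∀ a : A, (algebraMap A Ah a ⊗ₜ[A] (1 : B)) = (1 : Ah) ⊗ₜ[A] algebraMap A B a := by
    intro a
    rw [Algebra.algebraMap_eq_smul_one, Algebra.algebraMap_eq_smul_one, TensorProduct.smul_tmul]
  -- `Ah ⊗ B` is henselian along `J (Ah ⊗ B)`
  have hint : Algebra.IsIntegral Ah (Ah ⊗[A] B) := inferInstance
  have h1 : HenselianRing (Ah ⊗[A] B) ((I.map (algebraMap A Ah)).map (algebraMap Ah (Ah ⊗[A] B))) :=
    henselianRing_map_of_isIntegral hA.1 _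
  have hid : (I.map (algebraMap A Ah)).map (algebraMap Ah (Ah ⊗[A] B)) =
      (I.map (algebraMap A B)).map ι₂ := by
    rw [Ideal.map_map, Ideal.map_map]
    congr 1
    ext a
    show algebraMap Ah (Ah ⊗[A] B) (algebraMap A Ah a) = ι₂ (algebraMap A B a)
    rw [hι₂', ← hA1, Algebra.TensorProduct.algebraMap_apply, Algebra.algebraMap_self,
      RingHom.id_apply]
  have h2 : HenselianRing (Ah ⊗[A] B) (J.map ι₂) := by
    apply henselianRing_of_le_radical h1
    · rw [hid]
      exact Ideal.map_mono hIJ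
    · rw [hid]
      exact (Ideal.map_mono hrad).trans (Ideal.map_radical_le _)
  have h3 := henselianRing_of_ringEquiv e _ h2
  have hJT : (J.map ι₂).map (e : Ah ⊗[A] B →+* T) = J.map (algebraMap B T) := by
    rw [Ideal.map_map]
    congr 1
    ext b
    simp only [RingHom.comp_apply, hι₂']
    exact he b
  rw [hJT] at h3
  refine ⟨h3, ?_⟩
  intro D _ K g hD hJK
  have hIK : I.map (g.comp (algebraMap A B)) ≤ K := by
    rw [← Ideal.map_map]
    exact (Ideal.map_mono hIJ).trans hJK
  obtain ⟨u, hu, huuniq⟩ := hA.2 D K (g.comp (algebraMap A B)) hD hIK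
  let _ : Algebra A D := (g.comp (algebraMap A B)).toAlgebra
  let uA : Ah →ₐ[A] D := { u with commutes' := fun a => RingHom.congr_fun hu a }
  let gA : B →ₐ[A] D := { g with commutes' := fun a => rfl }
  let μ : Ah ⊗[A] B →ₐ[A] D := Algebra.TensorProduct.productMap uA gA
  refine ⟨μ.toRingHom.comp (e.symm : T →+* Ah ⊗[A] B), ?_, ?_⟩
  · ext b
    simp only [RingHom.comp_apply]
    rw [← he b]
    show μ (e.symm (e (1 ⊗ₜ b))) = g b
    rw [e.symm_apply_apply, Algebra.TensorProduct.productMap_right_apply]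
    rfl
  · intro g' hg'
    have h4 : ∀ t : Ah ⊗[A] B, g' (e t) = μ t := by
      intro t
      induction t using TensorProduct.induction_on with
      | zero => simp
      | add x y hx hy => rw [map_add, map_add, map_add, hx, hy]
      | tmul x b =>
        have h5 : x ⊗ₜ[A] b = (x ⊗ₜ[A] (1 : B)) * ((1 : Ah) ⊗ₜ[A] b) := by
          rw [Algebra.TensorProduct.tmul_mul_tmul, mul_one, one_mul]
        rw [h5, map_mul, map_mul, map_mul]
        congr 1
        · -- both are `A`-maps `Ah → D`
          have h6 : (g'.comp (e : Ah ⊗[A] B →+* T)).comp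
              (Algebra.TensorProduct.includeLeft (R := A) (S := A) (A := Ah) (B := B)).toRingHom
              = u := by
            apply huuniq
            ext a
            show g' (e (algebraMap A Ah a ⊗ₜ 1)) = g (algebraMap A B a)
            rw [hA1, he, ← hg']
            rfl
          have h8 := RingHom.congr_fun h6 x
          rw [Algebra.TensorProduct.productMap_left_apply]
          exact h8
        · rw [he, Algebra.TensorProduct.productMap_right_apply]
          have := RingHom.congr_fun hg' b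
          exact this
    ext t
    obtain ⟨t, rfl⟩ := e.surjective t
    rw [h4]
    show μ t = μ (e.symm (e t))
    rw [e.symm_apply_apply]

/-- Henselization commutes with integral base change. -/
theorem bijective_productMap_of_isIntegral {Ah : Type u} [CommRing Ah] [Algebra A Ah]
    (hA : Hens2.IsPairHenselization A I Ah) (B : Type u) [CommRing B] [Algebra A B]
    [Algebra.IsIntegral A B] (J : Ideal B) (hIJ : I.map (algebraMap A B) ≤ J)
    (hrad : J ≤ (I.map (algebraMap A B)).radical)
    (Bh : Type u) [CommRing Bh] [Algebra B Bh] [Algebra A Bh] [IsScalarTower A B Bh]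
    (hB : Hens2.IsPairHenselization B J Bh) (φ : Ah →ₐ[A] Bh) :
    Function.Bijective (Algebra.TensorProduct.productMap φ (IsScalarTower.toAlgHom A B Bh)) := by
  let _ : Algebra B (Ah ⊗[A] B) := Algebra.TensorProduct.rightAlgebra
  have hT : Hens2.IsPairHenselization B J (Ah ⊗[A] B) :=
    isPairHenselization_tensor_of_isIntegral hA B J hIJ hrad (Ah ⊗[A] B) (RingEquiv.refl _)
      (fun b => rfl)
  obtain ⟨θ⟩ := nonempty_algEquiv_of_isPairHenselization hT hB
  obtain ⟨w, -, hwuniq⟩ := hT.2 Bh _ (algebraMap B Bh) hB.1 le_rfl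
  have h1 : (θ : Ah ⊗[A] B →+* Bh) = w := by
    apply hwuniq
    ext b
    exact θ.commutes b
  have h2 : (Algebra.TensorProduct.productMap φ (IsScalarTower.toAlgHom A B Bh)).toRingHom = w := by
    apply hwuniq
    ext b
    show Algebra.TensorProduct.productMap φ (IsScalarTower.toAlgHom A B Bh) (1 ⊗ₜ b) = _
    rw [Algebra.TensorProduct.productMap_right_apply]
    rfl
  have h3 : ∀ t, Algebra.TensorProduct.productMap φ (IsScalarTower.toAlgHom A B Bh) t = θ t := by
    intro t
    have := RingHom.congr_fun (h2.trans h1.symm) t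
    exact this
  constructor
  · intro x y hxy
    rw [h3, h3] at hxy
    exact θ.injective hxy
  · intro y
    obtain ⟨x, rfl⟩ := θ.surjective y
    exact ⟨x, h3 x⟩

end Groth.Agent.Lib.helper26.PairHens
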