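import Mathlib

/-!
# Positively graded algebras over a field, part 1: irrelevant ideal and homogeneous prime avoidance
(helper26)

`R` a `ℤ`-graded `k`-algebra (`𝒜 : ℤ → Submodule k R`) with `𝒜 n = ⊥` for `n < 0` and
`𝒜 0 = k · 1`.

* `irr 𝒜`: the irrelevant ideal, spanned by the homogeneous elements of positive degree;
* `ringKrullDim_quotient_le_zero_of_irr_le`: an ideal containing `irr 𝒜` has quotient of
  dimension `≤ 0`;
* `exists_homogeneous_notMem`: homogeneous prime avoidance: finitely many primes none of which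
  contains `irr 𝒜` are avoided by a single homogeneous element of positive degree.
-/

set_option autoImplicit false
set_option linter.unusedSectionVars false
universe u

namespace Groth.Agent.Lib.helper26.Seg

variable {k : Type u} [Field k] {R : Type u} [CommRing R] [Algebra k R]
  (𝒜 : ℤ → Submodule k R) [GradedAlgebra 𝒜]

/-- The irrelevant ideal: spanned by the homogeneous elements of positive degree. -/
def irr : Ideal R := Ideal.span (⋃ n ∈ Set.Ioi (0 : ℤ), (𝒜 n : Set R))

theorem mem_irr_of_mem {n : ℤ} (hn : 0 < n) {x : R} (hx : x ∈ 𝒜 n) : x ∈ irr 𝒜 :=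
  Ideal.subset_span (Set.mem_biUnion (Set.mem_Ioi.2 hn) hx)

/-- every element is congruent to a scalar modulo the irrelevant ideal -/
theorem exists_sub_mem_irr (hpos : ∀ n : ℤ, n < 0 → 𝒜 n = ⊥)
    (h0 : 𝒜 0 = Submodule.span k {(1 : R)}) (r : R) :
    ∃ c : k, r - algebraMap k R c ∈ irr 𝒜 := by
  classical
  have h1 : ((DirectSum.decompose 𝒜 r 0 : 𝒜 0) : R) ∈ Submodule.span k {(1 : R)} := by
    rw [← h0]; exact (DirectSum.decompose 𝒜 r 0).2
  obtain ⟨c, hc⟩ := Submodule.mem_span_singleton.1 h1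
  refine ⟨c, ?_⟩
  have hsum := DirectSum.sum_support_decompose 𝒜 r
  have key : ∀ s : Finset ℤ, (∑ i ∈ s, ((DirectSum.decompose 𝒜 r i : 𝒜 i) : R)) -
      (if (0 : ℤ) ∈ s then algebraMap k R c else 0) ∈ irr 𝒜 := by
    intro s
    induction s using Finset.induction_on with
    | empty => simp
    | insert a s ha ih =>
      rw [Finset.sum_insert ha]
      by_cases h0a : a = 0
      · subst h0a
        have : (0 : ℤ) ∉ s := ha
        rw [if_neg this] at ih
        rw [if_pos (Finset.mem_insert_self _ _)]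
        have e : ((DirectSum.decompose 𝒜 r 0 : 𝒜 0) : R) = algebraMap k R c := by
          rw [← hc, Algebra.smul_def, mul_one]
        rw [e]
        simpa using ih
      · have hmem : ((DirectSum.decompose 𝒜 r a : 𝒜 a) : R) ∈ irr 𝒜 := by
          rcases lt_or_gt_of_ne h0a with h | h
          · have hle : 𝒜 a ≤ ⊥ := (hpos a h).le
            have := hle (DirectSum.decompose 𝒜 r a).2
            rw [Submodule.mem_bot] at this
            rw [this]; exact zero_mem _
          · exact mem_irr_of_mem 𝒜 h (DirectSum.decompose 𝒜 r a).2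
        have e : (if (0 : ℤ) ∈ insert a s then algebraMap k R c else 0) =
            (if (0 : ℤ) ∈ s then algebraMap k R c else 0) := by
          have : (0 : ℤ) ∈ insert a s ↔ (0 : ℤ) ∈ s := by
            rw [Finset.mem_insert]
            constructor
            · rintro (h | h)
              · exact absurd h.symm h0a
              · exact h
            · exact Or.inr
          simp only [this]
        rw [e, add_sub_assoc]
        exact add_mem hmem ih
  have h2 := key (DFinsupp.support (DirectSum.decompose 𝒜 r))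
  rw [hsum] at h2
  by_cases h0s : (0 : ℤ) ∈ DFinsupp.support (DirectSum.decompose 𝒜 r)
  · rwa [if_pos h0s] at h2
  · rw [if_neg h0s, sub_zero] at h2
    have hz : (DirectSum.decompose 𝒜 r) 0 = 0 := by
      rwa [DFinsupp.mem_support_iff, not_not] at h0s
    have hc0 : algebraMap k R c = 0 := by
      rw [Algebra.algebraMap_eq_smul_one, hc, hz]; rfl
    rw [hc0, sub_zero]; exact h2

/-- an ideal containing the irrelevant ideal has a quotient of dimension `≤ 0` -/
theorem ringKrullDim_quotient_le_zero_of_irr_le (hpos : ∀ n : ℤ, n < 0 → 𝒜 n = ⊥)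
    (h0 : 𝒜 0 = Submodule.span k {(1 : R)}) (I : Ideal R) (hI : irr 𝒜 ≤ I) :
    ringKrullDim (R ⧸ I) ≤ 0 := by
  have hsurj : Function.Surjective (algebraMap k (R ⧸ I)) := by
    intro y
    obtain ⟨r, rfl⟩ := Ideal.Quotient.mk_surjective y
    obtain ⟨c, hc⟩ := exists_sub_mem_irr 𝒜 hpos h0 r
    refine ⟨c, ?_⟩
    rw [IsScalarTower.algebraMap_apply k R (R ⧸ I), Ideal.Quotient.algebraMap_eq, eq_comm,
      Ideal.Quotient.eq]
    exact hI hc
  refine le_trans (ringKrullDim_le_of_surjective _ hsurj) ?_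
  rw [ringKrullDim_eq_zero_of_field]

theorem exists_homogeneous_notMem_of_not_le (p : Ideal R) (hp : ¬ irr 𝒜 ≤ p) :
    ∃ (n : ℤ) (_ : 0 < n) (x : R), x ∈ 𝒜 n ∧ x ∉ p := by
  by_contra hcon
  push Not at hcon
  apply hp
  unfold irr
  rw [Ideal.span_le]
  intro x hx
  simp only [Set.mem_iUnion, Set.mem_Ioi, SetLike.mem_coe] at hx
  obtain ⟨n, hn, hxn⟩ := hx
  exact hcon n hn x hxn

/-- **Homogeneous prime avoidance.** -/
theorem exists_homogeneous_notMem : ∀ (m : ℕ) (s : Finset (Ideal R)), s.card = m →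
    (∀ p ∈ s, p.IsPrime ∧ ¬ irr 𝒜 ≤ p) →
    ∃ (d : ℕ) (_ : 0 < d) (x : R), x ∈ 𝒜 d ∧ ∀ p ∈ s, x ∉ p := by
  classical
  intro m
  induction m using Nat.strong_induction_on with
  | _ m ih =>
  intro s hcard hs
  rcases Nat.eq_zero_or_pos m with hm | hm
  · subst hm
    rw [Finset.card_eq_zero] at hcard
    subst hcard
    exact ⟨1, one_pos, 0, zero_mem _, by simp⟩
  -- for each `p ∈ s` an element avoiding the others
  have hstep : ∀ p ∈ s, ∃ (d : ℕ) (_ : 0 < d) (x : R), x ∈ 𝒜 d ∧ ∀ q ∈ s.erase p, x ∉ q := by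
    intro p hp
    apply ih (m - 1) (by omega) (s.erase p) (by rw [Finset.card_erase_of_mem hp, hcard])
    intro q hq
    exact hs q (Finset.mem_of_mem_erase hq)
  by_cases hex : ∃ p ∈ s, ∃ (d : ℕ) (_ : 0 < d) (x : R), x ∈ 𝒜 d ∧ (∀ q ∈ s.erase p, x ∉ q) ∧ x ∉ p
  · obtain ⟨p, hp, d, hd, x, hx, hxq, hxp⟩ := hex
    refine ⟨d, hd, x, hx, ?_⟩
    intro q hq
    by_cases hqp : q = p
    · subst hqp; exact hxp
    · exact hxq q (Finset.mem_erase.2 ⟨hqp, hq⟩)
  push Not at hex
  -- choose the elements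
  choose! d hd x hx hxq using hstep
  have hxp : ∀ p ∈ s, x p ∈ p := fun p hp => hex p hp (d p) (hd p hp) (x p) (hx p hp) (hxq p hp)
  obtain ⟨p₁, hp₁⟩ : s.Nonempty := by
    rw [← Finset.card_pos, hcard]; exact hm
  by_cases hone : s.erase p₁ = ∅
  · -- only one prime
    obtain ⟨n, hn, y, hy, hyp⟩ := exists_homogeneous_notMem_of_not_le 𝒜 p₁ (hs p₁ hp₁).2
    lift n to ℕ using hn.le
    refine ⟨n, by exact_mod_cast hn, y, hy, ?_⟩
    intro q hq
    by_cases hqp : q = p₁
    · subst hqp; exact hyp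
    · exfalso
      have : q ∈ s.erase p₁ := Finset.mem_erase.2 ⟨hqp, hq⟩
      rw [hone] at this
      simp at this
  -- several primes
  set s' := s.erase p₁ with hs'
  set y : R := ∏ q ∈ s', x q with hy
  set e : ℕ := ∑ q ∈ s', d q with he
  have hymem : y ∈ 𝒜 (e : ℤ) := by
    rw [hy, he]
    have : ∀ t : Finset (Ideal R), t ⊆ s' → (∏ q ∈ t, x q) ∈ 𝒜 ((∑ q ∈ t, d q : ℕ) : ℤ) := by
      intro t
      induction t using Finset.induction_on with
      | empty => intro _; simpa using SetLike.GradedOne.one_mem (A := 𝒜)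
      | insert a t ha iht =>
        intro hsub
        rw [Finset.prod_insert ha, Finset.sum_insert ha]
        push_cast
        have ha' : a ∈ s := Finset.mem_of_mem_erase (hsub (Finset.mem_insert_self _ _))
        exact SetLike.mul_mem_graded (hx a ha')
          (by simpa using iht (fun q hq => hsub (Finset.mem_insert_of_mem hq)))
    exact this s' subset_rfl
  have hepos : 0 < e := by
    obtain ⟨q, hq⟩ := Finset.nonempty_iff_ne_empty.2 hone
    have hq' : q ∈ s := Finset.mem_of_mem_erase hq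
    exact lt_of_lt_of_le (hd q hq') (Finset.single_le_sum (f := d) (fun _ _ => Nat.zero_le _) hq)
  have hd1 : 0 < d p₁ := hd p₁ hp₁
  refine ⟨d p₁ * e, Nat.mul_pos hd1 hepos, x p₁ ^ e + y ^ (d p₁), ?_, ?_⟩
  · apply add_mem
    · have := SetLike.pow_mem_graded e (hx p₁ hp₁)
      simpa [mul_comm] using this
    · have := SetLike.pow_mem_graded (d p₁) hymem
      simpa [mul_comm] using this
  · intro q hq
    have hqprime : q.IsPrime := (hs q hq).1
    by_cases hqp : q = p₁
    · subst hqp
      -- x q ∈ q, y ∉ q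
      intro hmem
      have h1 : x q ^ e ∈ q := Ideal.pow_mem_of_mem _ (hxp q hq) e hepos
      have h2 : y ^ (d q) ∈ q := (Ideal.add_mem_iff_right _ h1).1 hmem
      have h3 : y ∈ q := hqprime.mem_of_pow_mem _ h2
      rw [hy] at h3
      obtain ⟨q', hq', hq'mem⟩ := (hqprime.prod_mem_iff).1 h3
      have hq's : q' ∈ s := Finset.mem_of_mem_erase hq'
      have hne : q ≠ q' := fun h => (Finset.mem_erase.1 hq').1 h.symm
      exact hxq q' hq's q (Finset.mem_erase.2 ⟨hne, hq⟩) hq'mem
    · -- x p₁ ∉ q, y ∈ q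
      intro hmem
      have hqs' : q ∈ s' := Finset.mem_erase.2 ⟨hqp, hq⟩
      have h1 : y ∈ q := by
        obtain ⟨c, hc⟩ := Finset.dvd_prod_of_mem x hqs'
        rw [hy, hc]
        exact q.mul_mem_right _ (hxp q hq)
      have h2 : y ^ (d p₁) ∈ q := Ideal.pow_mem_of_mem _ h1 _ hd1
      have h3 : x p₁ ^ e ∈ q := (Ideal.add_mem_iff_left _ h2).1 hmem
      have h4 : x p₁ ∈ q := hqprime.mem_of_pow_mem _ h3
      exact hxq p₁ hp₁ q hqs' h4

end Groth.Agent.Lib.helper26.Seg
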