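import Mathlib
import Groth.Agent.Lib.Helper26.Seg1

/-!
# The standard grading of polynomial rings, indexed by `ℤ` (helper26)

`𝒜 n = MvPolynomial.weightedHomogeneousSubmodule k (fun _ => (1 : ℤ)) n`:
* `stdGr_eq_bot`: `𝒜 n = 0` for `n < 0`;  `stdGr_zero`: `𝒜 0 = k·1`;
* `exists_eq_smul_X_pow`: in one variable, `𝒜 n = k·X^n`;
* `irr_le_span_X`: in one variable, the irrelevant ideal is contained in `(X)`.
-/

set_option autoImplicit false
set_option linter.unusedSectionVars false
universe u

namespace Groth.Agent.Lib.helper26.GrCM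

open Groth.Agent.Lib.helper26.Seg

attribute [local instance] MvPolynomial.weightedGradedAlgebra

variable (k : Type u) [Field k] (σ : Type) [Fintype σ]

/-- the standard grading of a polynomial ring, indexed by `ℤ` -/
abbrev stdGr : ℤ → Submodule k (MvPolynomial σ k) :=
  MvPolynomial.weightedHomogeneousSubmodule k (fun _ : σ => (1 : ℤ))

variable {k σ}

theorem weight_one_eq (d : σ →₀ ℕ) :
    Finsupp.weight (fun _ : σ => (1 : ℤ)) d = ((d.degree : ℕ) : ℤ) := by
  rw [Finsupp.weight_apply, Finsupp.degree_apply, Finsupp.sum]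
  push_cast
  refine Finset.sum_congr rfl fun i _ => ?_
  simp

theorem stdGr_eq_bot (n : ℤ) (hn : n < 0) : stdGr k σ n = ⊥ := by
  rw [eq_bot_iff]
  intro p hp
  rw [Submodule.mem_bot]
  rw [MvPolynomial.mem_weightedHomogeneousSubmodule] at hp
  apply hp.eq_zero_of_no_monomials
  intro d hd
  rw [weight_one_eq] at hd
  omega

theorem stdGr_zero : stdGr k σ 0 = Submodule.span k {(1 : MvPolynomial σ k)} := by
  apply le_antisymm
  · intro p hp
    rw [MvPolynomial.mem_weightedHomogeneousSubmodule] at hp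
    have h1 := hp.eq_monomial_of_unique_weight (d₀ := 0) (by
      intro d hd
      rw [weight_one_eq] at hd
      have h2 : d.degree = 0 := by exact_mod_cast hd
      exact (Finsupp.degree_eq_zero_iff d).1 h2)
    rw [h1, Submodule.mem_span_singleton]
    refine ⟨MvPolynomial.coeff 0 p, ?_⟩
    rw [MvPolynomial.smul_eq_C_mul, mul_one]
    rfl
  · rw [Submodule.span_le]
    rintro _ rfl
    rw [SetLike.mem_coe, MvPolynomial.mem_weightedHomogeneousSubmodule]
    exact MvPolynomial.isWeightedHomogeneous_one k _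

theorem X_mem_stdGr (i : σ) : (MvPolynomial.X i : MvPolynomial σ k) ∈ stdGr k σ 1 := by
  rw [MvPolynomial.mem_weightedHomogeneousSubmodule]
  exact MvPolynomial.isWeightedHomogeneous_X k _ i

theorem X_pow_mem_stdGr (i : σ) (n : ℕ) :
    (MvPolynomial.X i ^ n : MvPolynomial σ k) ∈ stdGr k σ (n : ℤ) := by
  rw [MvPolynomial.mem_weightedHomogeneousSubmodule]
  have := (MvPolynomial.isWeightedHomogeneous_X k (fun _ : σ => (1 : ℤ)) i).pow n
  simpa using this

/-- in one variable, every homogeneous polynomial of degree `n` is a multiple of `X^n` -/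
theorem exists_eq_smul_X_pow {n : ℕ} {p : MvPolynomial (Fin 1) k} (hp : p ∈ stdGr k (Fin 1) (n : ℤ)) :
    ∃ c : k, p = c • (MvPolynomial.X 0 ^ n : MvPolynomial (Fin 1) k) := by
  rw [MvPolynomial.mem_weightedHomogeneousSubmodule] at hp
  have h1 := hp.eq_monomial_of_unique_weight (d₀ := Finsupp.single 0 n) (by
    intro d hd
    rw [weight_one_eq] at hd
    have h2 : d.degree = n := by exact_mod_cast hd
    rw [Finsupp.degree_eq_sum, Fin.sum_univ_one] at h2
    apply Finsupp.ext
    intro i
    have hi : i = 0 := Subsingleton.elim _ _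
    rw [hi, Finsupp.single_eq_same, h2])
  refine ⟨MvPolynomial.coeff (Finsupp.single 0 n) p, ?_⟩
  rw [h1, MvPolynomial.coeff_monomial, if_pos rfl, MvPolynomial.X_pow_eq_monomial,
    MvPolynomial.smul_monomial, smul_eq_mul, mul_one]

/-- in one variable, the irrelevant ideal is contained in `(X)` -/
theorem irr_le_span_X :
    irr (stdGr k (Fin 1)) ≤ Ideal.span {(MvPolynomial.X 0 : MvPolynomial (Fin 1) k)} := by
  unfold irr
  rw [Ideal.span_le]
  intro g hg
  simp only [Set.mem_iUnion, SetLike.mem_coe] at hg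
  obtain ⟨n, hn, hg⟩ := hg
  rw [Set.mem_Ioi] at hn
  obtain ⟨m, rfl⟩ : ∃ m : ℕ, n = ((m + 1 : ℕ) : ℤ) := ⟨(n - 1).toNat, by push_cast; omega⟩
  obtain ⟨c, rfl⟩ := exists_eq_smul_X_pow hg
  rw [SetLike.mem_coe, Ideal.mem_span_singleton']
  refine ⟨c • MvPolynomial.X 0 ^ m, ?_⟩
  rw [pow_succ, smul_mul_assoc]

theorem X_isSMulRegular (i : σ) :
    IsSMulRegular (MvPolynomial σ k) (MvPolynomial.X i : MvPolynomial σ k) := by
  intro z w hzw
  exact mul_left_cancel₀ (MvPolynomial.X_ne_zero i) hzw

theorem X_smul_ne_one (i : σ) (ρ : MvPolynomial σ k) :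
    (MvPolynomial.X i : MvPolynomial σ k) • ρ ≠ 1 := by
  intro h
  have h1 := congrArg (MvPolynomial.aeval (R := k) (fun _ : σ => (0 : k))) h
  rw [smul_eq_mul, map_mul, MvPolynomial.aeval_X, zero_mul, map_one] at h1
  exact zero_ne_one h1

end Groth.Agent.Lib.helper26.GrCM
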