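import Mathlib
import Groth.Agent.Lib.Helper26.SuppLoc

/-!
# Finite restriction of scalars, part 2 (helper26): `dim M_p` is the height of `p` in `Supp M`.
-/

set_option autoImplicit false
universe u

namespace Groth.Agent.Lib.helper26.FinRestr

open Groth.Agent.Lib.helper26.SuppLoc

section height

variable {R : Type u} [CommRing R] (M : Type u) [AddCommGroup M] [Module R M]
  (p : Ideal R) [hp : p.IsPrime]

/-- `dim_{R_p} M_p` is the height of `p` in the poset `Supp M`. -/
theorem supportDim_localization_eq_height
    (hsupp : (⟨p, hp⟩ : PrimeSpectrum R) ∈ Module.support R M) :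
    Module.supportDim (Localization.AtPrime p) (LocalizedModule p.primeCompl M) =
      ((Order.height (⟨⟨p, hp⟩, hsupp⟩ : Module.support R M) : ℕ∞) : WithBot ℕ∞) := by
  rw [Order.height_eq_krullDim_Iic]
  unfold Module.supportDim
  have hdisj : ∀ q : Ideal R, q ≤ p → Disjoint (p.primeCompl : Set R) (q : Set R) := by
    intro q hq
    rw [Set.disjoint_left]
    intro a ha haq
    exact ha (hq haq)
  apply le_antisymm
  · let f : Module.support (Localization.AtPrime p) (LocalizedModule p.primeCompl M) →
        Set.Iic (⟨⟨p, hp⟩, hsupp⟩ : Module.support R M) := fun Q' =>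
      ⟨⟨PrimeSpectrum.comap (algebraMap R (Localization.AtPrime p)) Q'.1,
        (mem_support_localizedModule_iff p M Q'.1).mp Q'.2⟩, comap_le p Q'.1⟩
    refine Order.krullDim_le_of_strictMono f ?_
    intro a b hab
    change (a.1.asIdeal.comap (algebraMap R (Localization.AtPrime p))) <
      (b.1.asIdeal.comap (algebraMap R (Localization.AtPrime p)))
    have hab' : a.1.asIdeal < b.1.asIdeal := hab
    refine lt_of_le_of_ne (Ideal.comap_mono hab'.le) ?_
    intro heq
    have h1 := IsLocalization.map_under p.primeCompl (Localization.AtPrime p) a.1.asIdeal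
    have h2 := IsLocalization.map_under p.primeCompl (Localization.AtPrime p) b.1.asIdeal
    have heq' : Ideal.under R a.1.asIdeal = Ideal.under R b.1.asIdeal := heq
    rw [heq', h2] at h1
    exact hab'.ne h1.symm
  · let g : Set.Iic (⟨⟨p, hp⟩, hsupp⟩ : Module.support R M) →
        Module.support (Localization.AtPrime p) (LocalizedModule p.primeCompl M) := fun x =>
      ⟨⟨x.1.1.asIdeal.map (algebraMap R (Localization.AtPrime p)),
        IsLocalization.isPrime_of_isPrime_disjoint p.primeCompl _ _ x.1.1.2 (hdisj _ x.2)⟩, by
        rw [mem_support_localizedModule_iff]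
        convert x.1.2 using 1
        apply PrimeSpectrum.ext
        exact IsLocalization.under_map_of_isPrime_disjoint p.primeCompl _ x.1.1.2 (hdisj _ x.2)⟩
    refine Order.krullDim_le_of_strictMono g ?_
    intro a b hab
    change a.1.1.asIdeal.map (algebraMap R (Localization.AtPrime p)) <
      b.1.1.asIdeal.map (algebraMap R (Localization.AtPrime p))
    have hab' : a.1.1.asIdeal < b.1.1.asIdeal := hab
    refine lt_of_le_of_ne (Ideal.map_mono hab'.le) ?_
    intro heq
    have h1 := IsLocalization.under_map_of_isPrime_disjoint p.primeCompl (Localization.AtPrime p)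
      a.1.1.2 (hdisj _ a.2)
    have h2 := IsLocalization.under_map_of_isPrime_disjoint p.primeCompl (Localization.AtPrime p)
      b.1.1.2 (hdisj _ b.2)
    rw [heq, h2] at h1
    exact hab'.ne h1.symm

end height

end Groth.Agent.Lib.helper26.FinRestr
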