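import Mathlib
import Groth.Prelude.Def_GrLC
import Groth.Agent.Lib.Helper19.GrMod

/-!
# The degree pieces of `*H¹` of a one-dimensional graded ring (helper26)

For a graded ring `R` with a homogeneous non-zero-divisor `x ∈ R_D` such that `R₊` is nilpotent
modulo every power of `x`: `*H¹_{R₊}(R)_n ≠ 0` (computed from any *injective resolution of `R`)
if and only if some `r ∈ R_{n + N D}` is not divisible by `x^N`  (i.e. `(R_x/R)_n ≠ 0`).
-/

set_option autoImplicit false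
set_option linter.unusedSectionVars false
universe u

namespace Groth.Agent.Lib.helper26.Seg

section Hom

variable {ι : Type} [AddCommGroup ι] [DecidableEq ι]
variable {R : Type u} [CommRing R]
variable {M : Type u} [AddCommGroup M] [Module R M] {τ : Type u} [SetLike τ M]
  [AddSubgroupClass τ M] (ℳ : ι → τ) [DirectSum.Decomposition ℳ]
variable {N : Type u} [AddCommGroup N] [Module R N] {τ' : Type u} [SetLike τ' N]
  [AddSubgroupClass τ' N] (𝒩 : ι → τ') [DirectSum.Decomposition 𝒩]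

/-- a graded homomorphism commutes with taking components -/
theorem grHom_decompose' (f : M →ₗ[R] N) (hf : GrLC.IsGrHom ℳ 𝒩 f) (x : M) (n : ι) :
    ((DirectSum.decompose 𝒩 (f x) n : 𝒩 n) : N) = f ((DirectSum.decompose ℳ x n : ℳ n) : M) := by
  classical
  induction x using DirectSum.Decomposition.inductionOn ℳ with
  | zero => simp
  | @homogeneous m x =>
    by_cases h : m = n
    · subst h
      rw [DirectSum.decompose_of_mem_same 𝒩 (hf m x x.2), DirectSum.decompose_of_mem_same ℳ x.2]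
    · rw [DirectSum.decompose_of_mem_ne 𝒩 (hf m x x.2) h, DirectSum.decompose_of_mem_ne ℳ x.2 h,
        map_zero]
  | add x y hx hy =>
    rw [map_add, DirectSum.decompose_add, DirectSum.add_apply, AddMemClass.coe_add, hx, hy,
      DirectSum.decompose_add, DirectSum.add_apply, AddMemClass.coe_add, map_add]

/-- an injective graded homomorphism reflects homogeneity -/
theorem mem_of_map_mem' (f : M →ₗ[R] N) (hf : GrLC.IsGrHom ℳ 𝒩 f) (hinj : Function.Injective f)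
    {x : M} {g : ι} (hx : f x ∈ 𝒩 g) : x ∈ ℳ g := by
  have h1 := grHom_decompose' ℳ 𝒩 f hf x g
  rw [DirectSum.decompose_of_mem_same 𝒩 hx] at h1
  rw [hinj h1]
  exact SetLike.coe_mem _

end Hom

section H1

variable {k : Type u} [Field k] {R : Type u} [CommRing R] [Algebra k R]
  (𝒜 : ℤ → Submodule k R) [GradedAlgebra 𝒜] (mR : HomogeneousIdeal 𝒜)
  (I : GrLC.StarInjRes 𝒜 𝒜)

theorem d_zero_ε (ρ : R) : I.d 0 (I.ε ρ) = 0 := by
  have h : I.ε ρ ∈ LinearMap.ker (I.d 0) := by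
    rw [I.exact_zero]; exact ⟨ρ, rfl⟩
  exact h

theorem pow_smul_mem {x : R} {D : ℤ} (hx : x ∈ 𝒜 D) (N : ℕ) {n : ℤ} {j : ℕ}
    {e : (I.X j).carrier} (he : e ∈ (I.X j).gr n) : x ^ N • e ∈ (I.X j).gr (n + N * D) := by
  have h1 : x ^ N ∈ 𝒜 (N • D) := SetLike.pow_mem_graded N hx
  have h2 := SetLike.GradedSMul.smul_mem (A := 𝒜) (B := (I.X j).gr) h1 he
  rw [vadd_eq_add, nsmul_eq_mul, add_comm] at h2
  exact h2

/-- a nonzero class of degree `n` in `*H¹` gives an element of `R_{n+ND}` not divisible by `x^N` -/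
theorem exists_notMem_of_Hcomp_ne_bot {x : R} {D : ℤ} (hx : x ∈ 𝒜 D) (hxm : x ∈ mR.toIdeal)
    (hrad : ∀ N : ℕ, ∃ N' : ℕ, mR.toIdeal ^ N' ≤ Ideal.span {x ^ N}) (n : ℤ)
    (h : I.Hcomp mR 1 n ≠ ⊥) :
    ∃ (N : ℕ) (r : R), r ∈ 𝒜 (n + N * D) ∧ r ∉ Ideal.span {x ^ N} := by
  classical
  obtain ⟨y, hy, hy0⟩ := Submodule.exists_mem_ne_zero_of_ne_bot h
  obtain ⟨z, hzn, rfl⟩ := hy
  have hzcob : (z : (I.X 1).carrier) ∉ I.cobdy mR 1 := by
    intro hmem
    apply hy0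
    exact (Submodule.Quotient.mk_eq_zero _).2 hmem
  have hzker : (z : (I.X 1).carrier) ∈ LinearMap.ker (I.d 1) := z.2.2
  have hzgam : (z : (I.X 1).carrier) ∈ GrLC.gam mR.toIdeal (I.X 1).carrier := z.2.1
  have h1 : (z : (I.X 1).carrier) ∈ LinearMap.range (I.d 0) := by
    rw [← I.exact_succ 0]; exact hzker
  obtain ⟨e, he⟩ := h1
  set e' : (I.X 0).carrier :=
    ((DirectSum.decompose (I.X 0).gr e n : (I.X 0).gr n) : (I.X 0).carrier) with he'def
  have he'n : e' ∈ (I.X 0).gr n := SetLike.coe_mem _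
  have he' : I.d 0 e' = z := by
    rw [he'def, ← grHom_decompose' (I.X 0).gr (I.X 1).gr (I.d 0) (I.d_grHom 0) e n, he,
      DirectSum.decompose_of_mem_same _ hzn]
  obtain ⟨N, hN⟩ := hzgam
  have hxN : x ^ N ∈ mR.toIdeal ^ N := Ideal.pow_mem_pow hxm N
  have h2 : I.d 0 (x ^ N • e') = 0 := by rw [map_smul, he', hN _ hxN]
  have h3 : x ^ N • e' ∈ LinearMap.range I.ε := by rw [← I.exact_zero]; exact h2
  obtain ⟨r, hr⟩ := h3
  refine ⟨N, r, ?_, ?_⟩
  · apply mem_of_map_mem' 𝒜 (I.X 0).gr I.ε I.ε_grHom I.ε_injective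
    rw [hr]
    exact pow_smul_mem 𝒜 I hx N he'n
  · intro hmem
    obtain ⟨ρ, hρ⟩ := Ideal.mem_span_singleton'.1 hmem
    apply hzcob
    show (z : (I.X 1).carrier) ∈ (GrLC.gam mR.toIdeal (I.X 0).carrier).map (I.d 0)
    refine ⟨e' - I.ε ρ, ?_, ?_⟩
    · obtain ⟨N', hN'⟩ := hrad N
      refine ⟨N', fun a ha => ?_⟩
      obtain ⟨c, hc⟩ := Ideal.mem_span_singleton'.1 (hN' ha)
      have h4 : x ^ N • (e' - I.ε ρ) = 0 := by
        rw [smul_sub, ← hr, ← map_smul, smul_eq_mul, mul_comm, hρ, sub_self]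
      rw [← hc, mul_smul, h4, smul_zero]
    · rw [map_sub, he', d_zero_ε, sub_zero]

theorem isInternal_toAddSubgroup :
    DirectSum.IsInternal (fun g => (𝒜 g).toAddSubgroup) :=
  DirectSum.Decomposition.isInternal 𝒜

theorem isInternal_shift (c : ℤ) :
    DirectSum.IsInternal (fun g => (𝒜 (g + c)).toAddSubgroup) :=
  Groth.Agent.Lib.helper19.GrMod.isInternal_comp (fun g => (𝒜 g).toAddSubgroup)
    (isInternal_toAddSubgroup 𝒜) (Equiv.addRight c)

/-- the ring `R` with grading shifted by `c`: `R(c)_g = R_{g+c}`, as a bundled graded module -/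
noncomputable abbrev shiftRing (c : ℤ) : GrLC.GMod.{u} 𝒜 :=
  { carrier := R
    gr := fun g => (𝒜 (g + c)).toAddSubgroup
    dec := (isInternal_shift 𝒜 c).chooseDecomposition
    gsmul := ⟨by
      intro i j r y hr hy
      have h1 : r * y ∈ 𝒜 (i + (j + c)) := SetLike.mul_mem_graded hr hy
      rw [← add_assoc] at h1
      exact h1⟩ }

theorem mem_shiftRing_gr (c g : ℤ) (a : R) : a ∈ (shiftRing 𝒜 c).gr g ↔ a ∈ 𝒜 (g + c) := Iff.rfl

/-- an element of `R_{n+ND}` not divisible by `x^N` gives a nonzero class of degree `n` in `*H¹` -/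
theorem Hcomp_ne_bot_of_notMem {x : R} {D : ℤ} (hx : x ∈ 𝒜 D) (hxm : x ∈ mR.toIdeal)
    (hxreg : IsSMulRegular R x)
    (hrad : ∀ N : ℕ, ∃ N' : ℕ, mR.toIdeal ^ N' ≤ Ideal.span {x ^ N}) (n : ℤ) (N : ℕ) (r : R)
    (hr : r ∈ 𝒜 (n + N * D)) (hrx : r ∉ Ideal.span {x ^ N}) :
    I.Hcomp mR 1 n ≠ ⊥ := by
  classical
  have hxN : x ^ N ∈ 𝒜 (N • D) := SetLike.pow_mem_graded N hx
  have hxNreg : IsSMulRegular R (x ^ N) := hxreg.pow N
  -- the extension problem
  let f : (shiftRing 𝒜 (-(n + N * D))).carrier →ₗ[R] (shiftRing 𝒜 (-n)).carrier :=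
    LinearMap.lsmul R R (x ^ N)
  have hf : GrLC.IsGrHom (shiftRing 𝒜 (-(n + N * D))).gr (shiftRing 𝒜 (-n)).gr f := by
    intro g a ha
    rw [mem_shiftRing_gr] at ha ⊢
    have h1 : x ^ N * a ∈ 𝒜 (N • D + (g + -(n + N * D))) := SetLike.mul_mem_graded hxN ha
    have h2 : N • D + (g + -(n + N * D)) = g + -n := by rw [nsmul_eq_mul]; ring
    rw [h2] at h1
    exact h1
  have hfinj : Function.Injective f := hxNreg
  let g : (shiftRing 𝒜 (-(n + N * D))).carrier →ₗ[R] (I.X 0).carrier :=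
    LinearMap.toSpanSingleton R (I.X 0).carrier (I.ε r)
  have hεr : I.ε r ∈ (I.X 0).gr (n + N * D) := I.ε_grHom _ r hr
  have hg : GrLC.IsGrHom (shiftRing 𝒜 (-(n + N * D))).gr (I.X 0).gr g := by
    intro j a ha
    rw [mem_shiftRing_gr] at ha
    have h1 := SetLike.GradedSMul.smul_mem (A := 𝒜) (B := (I.X 0).gr) ha hεr
    rw [vadd_eq_add, neg_add_cancel_right] at h1
    exact h1
  obtain ⟨h, hgr, hcomp⟩ := I.starInj 0 _ _ f hf hfinj g hg
  set e' : (I.X 0).carrier := h (1 : R) with he'def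
  have he'n : e' ∈ (I.X 0).gr n := by
    apply hgr n
    rw [mem_shiftRing_gr, add_neg_cancel]
    exact SetLike.GradedOne.one_mem
  have hxe : x ^ N • e' = I.ε r := by
    have h1 := LinearMap.congr_fun hcomp (1 : R)
    rw [LinearMap.comp_apply] at h1
    have h2 : f (1 : R) = x ^ N • (1 : R) := rfl
    have h3 : g (1 : R) = I.ε r := by
      show (1 : R) • I.ε r = I.ε r
      rw [one_smul]
    rw [h2, map_smul, h3] at h1
    exact h1
  -- the cocycle
  set z : (I.X 1).carrier := I.d 0 e' with hzdef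
  have hzn : z ∈ (I.X 1).gr n := I.d_grHom 0 n e' he'n
  have hzker : z ∈ LinearMap.ker (I.d 1) := by
    rw [I.exact_succ 0]; exact ⟨e', rfl⟩
  have hzgam : z ∈ GrLC.gam mR.toIdeal (I.X 1).carrier := by
    obtain ⟨N', hN'⟩ := hrad N
    refine ⟨N', fun a ha => ?_⟩
    obtain ⟨c, hc⟩ := Ideal.mem_span_singleton'.1 (hN' ha)
    rw [hzdef, ← map_smul, ← hc, mul_smul, hxe, ← map_smul, d_zero_ε]
  have hzc : z ∈ I.cocyc mR 1 := ⟨hzgam, hzker⟩
  have hzcob : z ∉ I.cobdy mR 1 := by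
    intro hmem
    change z ∈ (GrLC.gam mR.toIdeal (I.X 0).carrier).map (I.d 0) at hmem
    obtain ⟨γ, hγ, hγz⟩ := hmem
    have h1 : e' - γ ∈ LinearMap.ker (I.d 0) := by
      rw [LinearMap.mem_ker, map_sub, hγz, sub_self]
    rw [I.exact_zero] at h1
    obtain ⟨ρ, hρ⟩ := h1
    obtain ⟨M, hM⟩ := hγ
    have hxM : x ^ M ∈ mR.toIdeal ^ M := Ideal.pow_mem_pow hxm M
    have h2 : x ^ N • γ = I.ε (r - x ^ N * ρ) := by
      rw [map_sub, ← hxe, ← smul_eq_mul, map_smul, hρ, smul_sub, sub_sub_cancel]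
    have h3 : I.ε (x ^ M * (r - x ^ N * ρ)) = 0 := by
      rw [← smul_eq_mul, map_smul, ← h2, smul_comm, hM _ hxM, smul_zero]
    have h4 : x ^ M * (r - x ^ N * ρ) = 0 := by
      apply I.ε_injective
      rw [h3, map_zero]
    have h5 : r - x ^ N * ρ = 0 := by
      apply hxreg.pow M
      show x ^ M • (r - x ^ N * ρ) = x ^ M • 0
      rw [smul_eq_mul, h4, smul_zero]
    apply hrx
    rw [Ideal.mem_span_singleton']
    exact ⟨ρ, by rw [mul_comm]; exact (sub_eq_zero.1 h5).symm⟩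
  intro hbot
  have h1 : I.toH mR 1 ⟨z, hzc⟩ ∈ I.Hcomp mR 1 n := ⟨⟨z, hzc⟩, hzn, rfl⟩
  rw [hbot, Submodule.mem_bot] at h1
  apply hzcob
  have h2 := (Submodule.Quotient.mk_eq_zero _).1 h1
  exact h2

end H1

end Groth.Agent.Lib.helper26.Seg
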