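import Mathlib
import Groth.Prelude.Def_GrLC
import Groth.Agent.Lib.Helper19.GrMod
import Groth.Agent.Lib.Helper26.Seg19

/-!
# The degree pieces of `*H¹` of a graded module with a homogeneous regular element (helper26)

For a graded module `M` over a graded ring `R` with a homogeneous `M`-regular element `x ∈ R_D`,
`x ∈ 𝔪`: `*H¹_𝔪(M)_n ≠ 0` (computed from any *injective resolution of `M`) as soon as some
`μ ∈ M_{n + N D}` is not divisible by `x^N` (and `𝔪` is nilpotent on `M/x^N M`); conversely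
`*H¹_𝔪(M)_n ≠ 0` produces such a `μ`.
-/

set_option autoImplicit false
set_option linter.unusedSectionVars false
universe u

namespace Groth.Agent.Lib.helper26.GrCM

open Groth.Agent.Lib.helper26.Seg

section H1

variable {k : Type u} [Field k] {R : Type u} [CommRing R] [Algebra k R]
  (𝒜 : ℤ → Submodule k R) [GradedAlgebra 𝒜] (mR : HomogeneousIdeal 𝒜)
  {M : Type u} [AddCommGroup M] [Module R M]
  (ℳ : ℤ → AddSubgroup M) [DirectSum.Decomposition ℳ] [SetLike.GradedSMul 𝒜 ℳ]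
  (I : GrLC.StarInjRes 𝒜 ℳ)

theorem d_zero_ε_mod (ρ : M) : I.d 0 (I.ε ρ) = 0 := by
  have h : I.ε ρ ∈ LinearMap.ker (I.d 0) := by
    rw [I.exact_zero]; exact ⟨ρ, rfl⟩
  exact h

theorem pow_smul_mem_mod {x : R} {D : ℤ} (hx : x ∈ 𝒜 D) (N : ℕ) {n : ℤ} {j : ℕ}
    {e : (I.X j).carrier} (he : e ∈ (I.X j).gr n) : x ^ N • e ∈ (I.X j).gr (n + N * D) := by
  have h1 : x ^ N ∈ 𝒜 (N • D) := SetLike.pow_mem_graded N hx
  have h2 := SetLike.GradedSMul.smul_mem (A := 𝒜) (B := (I.X j).gr) h1 he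
  rw [vadd_eq_add, nsmul_eq_mul, add_comm] at h2
  exact h2

/-- a nonzero class of degree `n` in `*H¹` gives an element of `M_{n+ND}` not divisible by `x^N` -/
theorem exists_notMem_of_Hcomp_ne_bot_mod {x : R} {D : ℤ} (hx : x ∈ 𝒜 D) (hxm : x ∈ mR.toIdeal)
    (hxreg : IsSMulRegular M x) (n : ℤ) (h : I.Hcomp mR 1 n ≠ ⊥) :
    ∃ (N : ℕ) (μ : M), μ ∈ ℳ (n + N * D) ∧ ∀ ρ : M, x ^ N • ρ ≠ μ := by
  classical
  obtain ⟨y, hy, hy0⟩ := Submodule.exists_mem_ne_zero_of_ne_bot h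
  obtain ⟨z, hzn, rfl⟩ := hy
  have hzcob : (z : (I.X 1).carrier) ∉ I.cobdy mR 1 := by
    intro hmem
    apply hy0
    exact (Submodule.Quotient.mk_eq_zero _).2 hmem
  have hzker : (z : (I.X 1).carrier) ∈ LinearMap.ker (I.d 1) := z.2.2
  have hzgam : (z : (I.X 1).carrier) ∈ GrLC.gam mR.toIdeal (I.X 1).carrier := z.2.1
  have h1 : (z : (I.X 1).carrier) ∈ LinearMap.range (I.d 0) := by
    rw [← I.exact_succ 0]; exact hzker
  obtain ⟨e, he⟩ := h1
  set e' : (I.X 0).carrier :=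
    ((DirectSum.decompose (I.X 0).gr e n : (I.X 0).gr n) : (I.X 0).carrier) with he'def
  have he'n : e' ∈ (I.X 0).gr n := SetLike.coe_mem _
  have he' : I.d 0 e' = z := by
    rw [he'def, ← grHom_decompose' (I.X 0).gr (I.X 1).gr (I.d 0) (I.d_grHom 0) e n, he,
      DirectSum.decompose_of_mem_same _ hzn]
  obtain ⟨N, hN⟩ := hzgam
  have hxN : x ^ N ∈ mR.toIdeal ^ N := Ideal.pow_mem_pow hxm N
  have h2 : I.d 0 (x ^ N • e') = 0 := by rw [map_smul, he', hN _ hxN]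
  have h3 : x ^ N • e' ∈ LinearMap.range I.ε := by rw [← I.exact_zero]; exact h2
  obtain ⟨μ, hμ⟩ := h3
  refine ⟨N, μ, ?_, ?_⟩
  · apply mem_of_map_mem' ℳ (I.X 0).gr I.ε I.ε_grHom I.ε_injective
    rw [hμ]
    exact pow_smul_mem_mod 𝒜 ℳ I hx N he'n
  · intro ρ hρ
    apply hzcob
    show (z : (I.X 1).carrier) ∈ (GrLC.gam mR.toIdeal (I.X 0).carrier).map (I.d 0)
    refine ⟨e' - I.ε ρ, ?_, ?_⟩
    · refine ⟨N, fun a ha => ?_⟩
      -- `a • e'` is in the image of `ε`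
      have h4 : I.d 0 (a • e') = 0 := by rw [map_smul, he', hN _ ha]
      have h5 : a • e' ∈ LinearMap.range I.ε := by rw [← I.exact_zero]; exact h4
      obtain ⟨μa, hμa⟩ := h5
      have h6 : a • (e' - I.ε ρ) = I.ε (μa - a • ρ) := by
        rw [smul_sub, map_sub, hμa, map_smul]
      have h7 : I.ε (x ^ N • (μa - a • ρ)) = 0 := by
        rw [map_smul, ← h6, smul_comm, smul_sub, ← hμ, ← map_smul, hρ, sub_self, smul_zero]
      have h8 : x ^ N • (μa - a • ρ) = 0 := by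
        apply I.ε_injective
        rw [h7, map_zero]
      have h9 : μa - a • ρ = 0 := by
        apply hxreg.pow N
        show x ^ N • (μa - a • ρ) = x ^ N • 0
        rw [h8, smul_zero]
      rw [h6, h9, map_zero]
    · rw [map_sub, he', d_zero_ε_mod, sub_zero]

theorem isInternal_shiftM (c : ℤ) : DirectSum.IsInternal (fun g => ℳ (g + c)) :=
  Groth.Agent.Lib.helper19.GrMod.isInternal_comp ℳ
    (DirectSum.Decomposition.isInternal ℳ) (Equiv.addRight c)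

/-- the module `M` with grading shifted by `c`: `M(c)_g = M_{g+c}`, as a bundled graded module -/
noncomputable abbrev shiftMod (c : ℤ) : GrLC.GMod.{u} 𝒜 :=
  { carrier := M
    gr := fun g => ℳ (g + c)
    dec := (isInternal_shiftM ℳ c).chooseDecomposition
    gsmul := ⟨by
      intro i j r y hr hy
      have h1 := SetLike.GradedSMul.smul_mem (A := 𝒜) (B := ℳ) hr hy
      rw [vadd_eq_add, ← add_assoc] at h1
      exact h1⟩ }

theorem mem_shiftMod_gr (c g : ℤ) (a : M) : a ∈ (shiftMod 𝒜 ℳ c).gr g ↔ a ∈ ℳ (g + c) := Iff.rfl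

/-- an element of `M_{n+ND}` not divisible by `x^N` gives a nonzero class of degree `n` in `*H¹` -/
theorem Hcomp_ne_bot_of_notMem_mod {x : R} {D : ℤ} (hx : x ∈ 𝒜 D) (hxm : x ∈ mR.toIdeal)
    (hxreg : IsSMulRegular M x) (n : ℤ) (N : ℕ)
    (hrad : ∃ N' : ℕ, ∀ a ∈ mR.toIdeal ^ N', ∀ m : M, ∃ m' : M, a • m = x ^ N • m')
    (μ : M) (hμ : μ ∈ ℳ (n + N * D)) (hμx : ∀ ρ : M, x ^ N • ρ ≠ μ) :
    I.Hcomp mR 1 n ≠ ⊥ := by
  classical
  have hxN : x ^ N ∈ 𝒜 (N • D) := SetLike.pow_mem_graded N hx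
  have hf' : ∀ (g : ℤ) (a : M), a ∈ ℳ g → x ^ N • a ∈ ℳ (g + N * D) := by
    intro g a ha
    have h1 := SetLike.GradedSMul.smul_mem (A := 𝒜) (B := ℳ) hxN ha
    rw [vadd_eq_add, nsmul_eq_mul, add_comm] at h1
    exact h1
  have hxNreg : IsSMulRegular M (x ^ N) := hxreg.pow N
  -- the extension problem
  let f : (GrLC.GMod.of 𝒜 M ℳ).carrier →ₗ[R] (shiftMod 𝒜 ℳ (N * D)).carrier :=
    LinearMap.lsmul R M (x ^ N)
  have hf : GrLC.IsGrHom (GrLC.GMod.of 𝒜 M ℳ).gr (shiftMod 𝒜 ℳ (N * D)).gr f := by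
    intro g a ha
    exact hf' g a ha
  have hfinj : Function.Injective f := hxNreg
  obtain ⟨h, hgr, hcomp⟩ := I.starInj 0 _ _ f hf hfinj I.ε I.ε_grHom
  have hh : ∀ m : M, h (x ^ N • m) = I.ε m := fun m => LinearMap.congr_fun hcomp m
  set e' : (I.X 0).carrier := h μ with he'def
  have he'n : e' ∈ (I.X 0).gr n := by
    apply hgr n
    rw [mem_shiftMod_gr]
    exact hμ
  have hxe : x ^ N • e' = I.ε μ := by
    rw [he'def, ← map_smul]
    exact hh μ
  -- the cocycle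
  set z : (I.X 1).carrier := I.d 0 e' with hzdef
  have hzn : z ∈ (I.X 1).gr n := I.d_grHom 0 n e' he'n
  have hzker : z ∈ LinearMap.ker (I.d 1) := by
    rw [I.exact_succ 0]; exact ⟨e', rfl⟩
  have hzgam : z ∈ GrLC.gam mR.toIdeal (I.X 1).carrier := by
    obtain ⟨N', hN'⟩ := hrad
    refine ⟨N', fun a ha => ?_⟩
    obtain ⟨m', hm'⟩ := hN' a ha μ
    have h1 : a • e' = I.ε m' := by
      rw [he'def, ← map_smul]
      have h2 : (a • μ : (shiftMod 𝒜 ℳ (N * D)).carrier) = x ^ N • m' := hm'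
      rw [h2]
      exact hh m'
    rw [hzdef, ← map_smul, h1, d_zero_ε_mod]
  have hzc : z ∈ I.cocyc mR 1 := ⟨hzgam, hzker⟩
  have hzcob : z ∉ I.cobdy mR 1 := by
    intro hmem
    change z ∈ (GrLC.gam mR.toIdeal (I.X 0).carrier).map (I.d 0) at hmem
    obtain ⟨γ, hγ, hγz⟩ := hmem
    have h1 : e' - γ ∈ LinearMap.ker (I.d 0) := by
      rw [LinearMap.mem_ker, map_sub, hγz, sub_self]
    rw [I.exact_zero] at h1
    obtain ⟨ρ, hρ⟩ := h1
    obtain ⟨K, hK⟩ := hγ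
    have hxK : x ^ K ∈ mR.toIdeal ^ K := Ideal.pow_mem_pow hxm K
    have h2 : x ^ N • γ = I.ε (μ - x ^ N • ρ) := by
      rw [map_sub, ← hxe, map_smul, hρ, smul_sub, sub_sub_cancel]
    have h3 : I.ε (x ^ K • (μ - x ^ N • ρ)) = 0 := by
      rw [map_smul, ← h2, smul_comm, hK _ hxK, smul_zero]
    have h4 : x ^ K • (μ - x ^ N • ρ) = 0 := by
      apply I.ε_injective
      rw [h3, map_zero]
    have h5 : μ - x ^ N • ρ = 0 := by
      apply hxreg.pow K
      show x ^ K • (μ - x ^ N • ρ) = x ^ K • 0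
      rw [h4, smul_zero]
    exact hμx ρ (sub_eq_zero.1 h5).symm
  intro hbot
  have h1 : I.toH mR 1 ⟨z, hzc⟩ ∈ I.Hcomp mR 1 n := ⟨⟨z, hzc⟩, hzn, rfl⟩
  rw [hbot, Submodule.mem_bot] at h1
  apply hzcob
  have h2 := (Submodule.Quotient.mk_eq_zero _).1 h1
  exact h2

end H1

end Groth.Agent.Lib.helper26.GrCM
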