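import Mathlib
import Groth.Agent.Lib.Helper26.AffEquidim
import Groth.Agent.Lib.Helper24.CatEquidim2

/-!
# Homogeneous ideals of polynomial rings: minimal primes, irrelevant ideal, dimension drop (helper26)
-/

set_option autoImplicit false
set_option linter.unusedSectionVars false
universe u

open MvPolynomial

namespace Groth.Agent.Lib.helper26.Graded

section general

variable {A : Type*} [CommRing A] (𝒜 : ℕ → AddSubgroup A) 

end general

attribute [local instance] MvPolynomial.gradedAlgebra

variable {k : Type u} [Field k] {σ : Type} [Finite σ]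

/-- Minimal primes over a homogeneous ideal are homogeneous. -/
theorem isHomogeneous_of_mem_minimalPrimes {J p : Ideal (MvPolynomial σ k)}
    (hJ : J.IsHomogeneous (homogeneousSubmodule σ k)) (hp : p ∈ J.minimalPrimes) :
    p.IsHomogeneous (homogeneousSubmodule σ k) := by
  have hprime : p.IsPrime := hp.1.1
  have hcore : (p.homogeneousCore (homogeneousSubmodule σ k)).toIdeal.IsPrime :=
    hprime.homogeneousCore
  have hle : J ≤ (p.homogeneousCore (homogeneousSubmodule σ k)).toIdeal := by
    rw [← hJ.toIdeal_homogeneousCore_eq_self]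
    exact Ideal.homogeneousCore_mono _ hp.1.2
  have h1 : p ≤ (p.homogeneousCore (homogeneousSubmodule σ k)).toIdeal :=
    hp.2 ⟨hcore, hle⟩ (Ideal.toIdeal_homogeneousCore_le _ p)
  have heq : (p.homogeneousCore (homogeneousSubmodule σ k)).toIdeal = p :=
    le_antisymm (Ideal.toIdeal_homogeneousCore_le _ p) h1
  rw [← heq]
  exact (p.homogeneousCore (homogeneousSubmodule σ k)).isHomogeneous

/-- A proper homogeneous ideal lies in the irrelevant ideal `(X_i)`. -/
theorem le_span_X_of_isHomogeneous {p : Ideal (MvPolynomial σ k)}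
    (hp : p.IsHomogeneous (homogeneousSubmodule σ k)) (hne : p ≠ ⊤) :
    p ≤ Ideal.span (Set.range (X : σ → MvPolynomial σ k)) := by
  intro x hx
  rw [← Set.image_univ, mem_ideal_span_X_image]
  intro m hm
  by_contra hcon
  push Not at hcon
  have hm0 : m = 0 := by
    ext i
    simpa using hcon i (Set.mem_univ i)
  have hc : coeff 0 x ≠ 0 := by
    rw [← hm0]
    exact mem_support_iff.1 hm
  have h0 : (DirectSum.decompose (homogeneousSubmodule σ k) x 0 : MvPolynomial σ k) ∈ p := hp 0 hx
  have h1 : (DirectSum.decompose (homogeneousSubmodule σ k) x 0 : MvPolynomial σ k) =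
      C (coeff 0 x) := by
    rw [← homogeneousComponent_zero]
    exact decomposition.decompose'_apply x 0
  rw [h1] at h0
  apply hne
  rw [Ideal.eq_top_iff_one]
  have : (1 : MvPolynomial σ k) = C (coeff 0 x)⁻¹ * C (coeff 0 x) := by
    rw [← C_mul, inv_mul_cancel₀ hc, C_1]
  rw [this]
  exact p.mul_mem_left _ h0

theorem span_X_isMaximal :
    (Ideal.span (Set.range (X : σ → MvPolynomial σ k))).IsMaximal := by
  have hker : RingHom.ker (constantCoeff : MvPolynomial σ k →+* k) =
      Ideal.span (Set.range (X : σ → MvPolynomial σ k)) := by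
    ext x
    rw [RingHom.mem_ker, ← Set.image_univ, mem_ideal_span_X_image]
    constructor
    · intro h m hm
      by_contra hcon
      push Not at hcon
      have hm0 : m = 0 := by
        ext i
        simpa using hcon i (Set.mem_univ i)
      rw [hm0] at hm
      exact (mem_support_iff.1 hm) h
    · intro h
      by_contra hne
      have h0 : (0 : σ →₀ ℕ) ∈ x.support := mem_support_iff.2 hne
      obtain ⟨i, -, hi⟩ := h 0 h0
      exact hi rfl
  rw [← hker]
  exact RingHom.ker_isMaximal_of_surjective _ (fun c => ⟨C c, constantCoeff_C _ c⟩)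

/-- Over an infinite field there is a linear form avoiding finitely many ideals not containing the
irrelevant ideal. -/
theorem exists_linear_form_notMem [Infinite k] (s : Finset (Ideal (MvPolynomial σ k)))
    (hs : ∀ p ∈ s, ¬ Ideal.span (Set.range (X : σ → MvPolynomial σ k)) ≤ p) :
    ∃ h : MvPolynomial σ k, h.IsHomogeneous 1 ∧ ∀ p ∈ s, h ∉ p := by
  classical
  let E := homogeneousSubmodule σ k 1
  let W : Ideal (MvPolynomial σ k) → Subspace k E := fun p =>
    (Submodule.restrictScalars k p).comap E.subtype
  have hW : (⊤ : Subspace k E) ∉ s.image W := by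
    intro htop
    rw [Finset.mem_image] at htop
    obtain ⟨p, hp, hWp⟩ := htop
    apply hs p hp
    rw [Ideal.span_le]
    rintro _ ⟨i, rfl⟩
    have hXi : (X i : MvPolynomial σ k) ∈ E := isHomogeneous_X k i
    have : (⟨X i, hXi⟩ : E) ∈ W p := by
      rw [hWp]
      exact Submodule.mem_top
    exact this
  have hne := Subspace.biUnion_ne_univ_of_top_notMem hW
  obtain ⟨h, hh⟩ := (Set.ne_univ_iff_exists_notMem _).1 hne
  refine ⟨h.1, h.2, fun p hp hmem => hh ?_⟩
  simp only [Set.mem_iUnion]
  exact ⟨W p, Finset.mem_image_of_mem W hp, hmem⟩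

end Groth.Agent.Lib.helper26.Graded
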