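import Mathlib
import Groth.Agent.Lib.Helper26.Graded1

/-!
# Dimension drop for hypersurface sections in finite type algebras over a field (helper26)
-/

set_option autoImplicit false
set_option linter.unusedSectionVars false
universe u

namespace Groth.Agent.Lib.helper26.Graded

variable (k S : Type u) [Field k] [CommRing S] [Algebra k S] [Algebra.FiniteType k S]

/-- `dim R/comap f J = dim S/J` for surjective `f`. -/
theorem ringKrullDim_quotient_comap {R S : Type u} [CommRing R] [CommRing S] (f : R →+* S)
    (hf : Function.Surjective f) (J : Ideal S) :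
    ringKrullDim (R ⧸ J.comap f) = ringKrullDim (S ⧸ J) := by
  have hsurj : Function.Surjective ((Ideal.Quotient.mk J).comp f) :=
    Ideal.Quotient.mk_surjective.comp hf
  have hker : RingHom.ker ((Ideal.Quotient.mk J).comp f) = J.comap f := by
    rw [← RingHom.comap_ker, Ideal.mk_ker]
  have e1 := RingHom.quotientKerEquivOfSurjective hsurj
  have e2 := Ideal.quotEquivOfEq hker
  exact (ringKrullDim_eq_of_ringEquiv e2.symm).trans (ringKrullDim_eq_of_ringEquiv e1)

include k in
/-- In a finite type algebra over a field: for a prime `p`, `x ∉ p` and `P` minimal over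
`p + (x)`, `dim S/P + 1 = dim S/p`. -/
theorem dim_quotient_of_mem_minimalPrimes_sup_span (p : Ideal S) [p.IsPrime] (x : S) (hx : x ∉ p)
    (P : Ideal S) (hP : P ∈ (p ⊔ Ideal.span {x}).minimalPrimes) :
    ringKrullDim (S ⧸ P) + 1 = ringKrullDim (S ⧸ p) := by
  have hN : IsNoetherianRing S := Algebra.FiniteType.isNoetherianRing k S
  have hsurj : Function.Surjective (Ideal.Quotient.mk p) := Ideal.Quotient.mk_surjective
  have hcomap : (Ideal.span {Ideal.Quotient.mk p x}).comap (Ideal.Quotient.mk p) =
      p ⊔ Ideal.span {x} := by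
    rw [← Set.image_singleton, ← Ideal.map_span, Ideal.comap_map_of_surjective _ hsurj,
      ← RingHom.ker_eq_comap_bot, Ideal.mk_ker, sup_comm]
  rw [← hcomap, Ideal.comap_minimalPrimes_eq_of_surjective hsurj] at hP
  obtain ⟨Pb, hPb, rfl⟩ := hP
  have hPbprime : Pb.IsPrime := hPb.1.1
  have hle : Pb.height ≤ 1 :=
    Ideal.height_le_one_of_isPrincipal_of_mem_minimalPrimes (Ideal.span {Ideal.Quotient.mk p x})
      Pb hPb
  have hne : Pb.height ≠ 0 := by
    rw [Ne, Ideal.height_eq_zero_iff, IsDomain.minimalPrimes_eq_singleton_bot,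
      Set.mem_singleton_iff]
    intro hbot
    have hmem : Ideal.Quotient.mk p x ∈ Pb := hPb.1.2 (Ideal.subset_span rfl)
    rw [hbot, Ideal.mem_bot, Ideal.Quotient.eq_zero_iff_mem] at hmem
    exact hx hmem
  have hone : Pb.height = 1 := le_antisymm hle (Order.one_le_iff_ne_zero.2 hne)
  have key := Groth.Agent.Lib.helper26.DimFormula.height_add_dim_quotient_of_domain k (S ⧸ p) Pb
  rw [hone] at key
  rw [ringKrullDim_quotient_comap _ hsurj Pb, ← key, add_comm]
  rfl

/-- `dim S/J ≤ c` if this holds for all minimal primes over `J`. -/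
theorem ringKrullDim_quotient_le_of_forall_minimalPrimes {S : Type u} [CommRing S] (J : Ideal S)
    (c : WithBot ℕ∞) (h : ∀ Q ∈ J.minimalPrimes, ringKrullDim (S ⧸ Q) ≤ c) :
    ringKrullDim (S ⧸ J) ≤ c := by
  apply Groth.Agent.Lib.Helper24.CatEquidim.ringKrullDim_le_of_forall_minimalPrimes
  intro P hP
  obtain ⟨hQ, hd⟩ := Groth.Agent.Lib.Helper24.CatEquidim.minimalPrimes_quotient S J P hP
  rw [hd]
  exact h _ hQ

end Groth.Agent.Lib.helper26.Graded
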