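import Mathlib
import Groth.Agent.Lib.Helper26.Seg1
import Groth.Agent.Lib.Helper26.Graded2

/-!
# Positively graded algebras over a field, part 2: homogeneous systems of parameters (helper26)

`R` a finite type `ℤ`-graded `k`-algebra with `𝒜 n = ⊥` for `n < 0` and `𝒜 0 = k · 1`.

* `exists_homogeneous_dim_drop`: for an ideal `J` with `dim R/J ≤ e` there is a homogeneous `y` of
  positive degree with `dim R/(J + (y)) ≤ e - 1`;
* `exists_homogeneous_sop`: if `dim R ≤ r` there are `d > 0` and `x : Fin r → 𝒜 d` such that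
  `R/(x)` is finite over `k`.
-/

set_option autoImplicit false
set_option linter.unusedSectionVars false
universe u

namespace Groth.Agent.Lib.helper26.Seg

open Groth.Agent.Lib.helper26.Graded

variable {k : Type u} [Field k] {R : Type u} [CommRing R] [Algebra k R]
  (𝒜 : ℤ → Submodule k R) [GradedAlgebra 𝒜]

theorem le_pred_of_add_one_le {a : WithBot ℕ∞} {e : ℕ} (h : a + 1 ≤ (e : WithBot ℕ∞)) :
    a ≤ ((e - 1 : ℕ) : WithBot ℕ∞) := by
  induction a using WithBot.recBotCoe with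
  | bot => exact bot_le
  | coe a =>
    induction a using ENat.recTopCoe with
    | top =>
      exfalso
      have : ((⊤ : ℕ∞) : WithBot ℕ∞) + 1 = ((⊤ : ℕ∞) : WithBot ℕ∞) := rfl
      rw [this] at h
      have h2 : ((⊤ : ℕ∞) : WithBot ℕ∞) ≤ ((e : ℕ∞) : WithBot ℕ∞) := h
      rw [WithBot.coe_le_coe] at h2
      simp at h2
    | coe a =>
      have h2 : (((a + 1 : ℕ) : ℕ∞) : WithBot ℕ∞) ≤ ((e : ℕ∞) : WithBot ℕ∞) := by
        push_cast; exact h
      rw [WithBot.coe_le_coe, Nat.cast_le] at h2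
      have h3 : a ≤ e - 1 := by omega
      have : ((a : ℕ∞) : WithBot ℕ∞) ≤ (((e - 1 : ℕ) : ℕ∞) : WithBot ℕ∞) := by
        rw [WithBot.coe_le_coe, Nat.cast_le]; exact h3
      exact this

theorem ringKrullDim_quotient_mono {I J : Ideal R} (h : I ≤ J) :
    ringKrullDim (R ⧸ J) ≤ ringKrullDim (R ⧸ I) := by
  have := Ideal.Quotient.factor_surjective h
  exact ringKrullDim_le_of_surjective (Ideal.Quotient.factor h) this

variable [Algebra.FiniteType k R]

theorem exists_homogeneous_dim_drop (hpos : ∀ n : ℤ, n < 0 → 𝒜 n = ⊥)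
    (h0 : 𝒜 0 = Submodule.span k {(1 : R)}) (J : Ideal R) (e : ℕ)
    (he : ringKrullDim (R ⧸ J) ≤ e) :
    ∃ (d : ℕ) (_ : 0 < d) (y : R), y ∈ 𝒜 d ∧
      ringKrullDim (R ⧸ (J ⊔ Ideal.span {y})) ≤ ((e - 1 : ℕ) : WithBot ℕ∞) := by
  classical
  have hN : IsNoetherianRing R := Algebra.FiniteType.isNoetherianRing k R
  have hfin : J.minimalPrimes.Finite := Ideal.finite_minimalPrimes_of_isNoetherianRing R J
  set s : Finset (Ideal R) := hfin.toFinset.filter (fun p => ¬ irr 𝒜 ≤ p) with hs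
  have hsp : ∀ p ∈ s, p.IsPrime ∧ ¬ irr 𝒜 ≤ p := by
    intro p hp
    rw [hs, Finset.mem_filter, Set.Finite.mem_toFinset] at hp
    exact ⟨hp.1.1.1, hp.2⟩
  obtain ⟨d, hd, y, hy, hys⟩ := exists_homogeneous_notMem 𝒜 s.card s rfl hsp
  refine ⟨d, hd, y, hy, ?_⟩
  apply ringKrullDim_quotient_le_of_forall_minimalPrimes
  intro Q hQ
  have hQprime : Q.IsPrime := hQ.1.1
  have hJQ : J ≤ Q := le_trans le_sup_left hQ.1.2
  have hyQ : y ∈ Q := hQ.1.2 (Ideal.mem_sup_right (Ideal.subset_span rfl))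
  obtain ⟨p, hp, hpQ⟩ := Ideal.exists_minimalPrimes_le hJQ
  have hpprime : p.IsPrime := hp.1.1
  by_cases hirr : irr 𝒜 ≤ p
  · refine le_trans (ringKrullDim_quotient_mono hpQ) ?_
    refine le_trans (ringKrullDim_quotient_le_zero_of_irr_le 𝒜 hpos h0 p hirr) ?_
    exact_mod_cast Nat.zero_le _
  · have hps : p ∈ s := by
      rw [hs, Finset.mem_filter, Set.Finite.mem_toFinset]; exact ⟨hp, hirr⟩
    have hyp : y ∉ p := hys p hps
    have hle : p ⊔ Ideal.span {y} ≤ Q :=
      sup_le hpQ ((Ideal.span_singleton_le_iff_mem _).2 hyQ)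
    obtain ⟨P', hP', hP'Q⟩ := Ideal.exists_minimalPrimes_le hle
    have key := dim_quotient_of_mem_minimalPrimes_sup_span k R p y hyp P' hP'
    have h1 : ringKrullDim (R ⧸ P') + 1 ≤ (e : WithBot ℕ∞) := by
      rw [key]
      exact le_trans (ringKrullDim_quotient_mono hp.1.2) he
    exact le_trans (ringKrullDim_quotient_mono hP'Q) (le_pred_of_add_one_le h1)

/-- lists of homogeneous elements of positive degree cutting down the dimension -/
theorem exists_list (hpos : ∀ n : ℤ, n < 0 → 𝒜 n = ⊥)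
    (h0 : 𝒜 0 = Submodule.span k {(1 : R)}) (r : ℕ) (hr : ringKrullDim R ≤ r) :
    ∀ i : ℕ, ∃ l : List (R × ℕ), l.length = i ∧ (∀ z ∈ l, 0 < z.2 ∧ z.1 ∈ 𝒜 (z.2 : ℤ)) ∧
      ringKrullDim (R ⧸ Ideal.ofList (l.map Prod.fst)) ≤ ((r - i : ℕ) : WithBot ℕ∞) := by
  intro i
  induction i with
  | zero =>
    refine ⟨[], rfl, by simp, ?_⟩
    simp only [Nat.sub_zero]
    exact le_trans (ringKrullDim_le_of_surjective _ Ideal.Quotient.mk_surjective) hr
  | succ i ih =>
    obtain ⟨l, hl, hlz, hdim⟩ := ih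
    obtain ⟨d, hd, y, hy, hdrop⟩ := exists_homogeneous_dim_drop 𝒜 hpos h0 _ _ hdim
    refine ⟨(y, d) :: l, by simp [hl], ?_, ?_⟩
    · intro z hz
      rcases List.mem_cons.1 hz with h | h
      · subst h; exact ⟨hd, hy⟩
      · exact hlz z h
    · rw [List.map_cons, Ideal.ofList_cons, sup_comm]
      have : r - i - 1 = r - (i + 1) := by omega
      rw [← this]
      exact hdrop

theorem finite_quotient_of_dim_le_zero (J : Ideal R) (h : ringKrullDim (R ⧸ J) ≤ 0) :
    Module.Finite k (R ⧸ J) := by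
  have : Ring.KrullDimLE 0 (R ⧸ J) := (Ring.krullDimLE_iff).2 (by simpa using h)
  exact (Module.finite_iff_krullDimLE_zero (R := k) (A := R ⧸ J)).2 this

/-- **Homogeneous systems of parameters in one degree.** -/
theorem exists_homogeneous_sop (hpos : ∀ n : ℤ, n < 0 → 𝒜 n = ⊥)
    (h0 : 𝒜 0 = Submodule.span k {(1 : R)}) (r : ℕ) (hr : ringKrullDim R ≤ r) :
    ∃ (d : ℕ) (_ : 0 < d) (x : Fin r → R), (∀ i, x i ∈ 𝒜 (d : ℤ)) ∧
      Module.Finite k (R ⧸ Ideal.span (Set.range x)) := by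
  classical
  obtain ⟨l, hl, hlz, hdim⟩ := exists_list 𝒜 hpos h0 r hr r
  rw [Nat.sub_self] at hdim
  set D : ℕ := (l.map Prod.snd).prod with hD
  have hDpos : 0 < D := by
    rw [hD]
    apply List.prod_pos
    intro a ha
    obtain ⟨z, hz, rfl⟩ := List.mem_map.1 ha
    exact (hlz z hz).1
  have hdvd : ∀ z ∈ l, z.2 ∣ D := by
    intro z hz
    rw [hD]
    exact List.dvd_prod (List.mem_map.2 ⟨z, hz, rfl⟩)
  let x : Fin r → R := fun i => (l.get (i.cast hl.symm)).1 ^ (D / (l.get (i.cast hl.symm)).2)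
  refine ⟨D, hDpos, x, ?_, ?_⟩
  · intro i
    have hz : l.get (i.cast hl.symm) ∈ l := List.get_mem _ _
    have h1 := SetLike.pow_mem_graded (D / (l.get (i.cast hl.symm)).2) (hlz _ hz).2
    have h2 : (D / (l.get (i.cast hl.symm)).2) • ((l.get (i.cast hl.symm)).2 : ℤ) = (D : ℤ) := by
      rw [nsmul_eq_mul]
      exact_mod_cast Nat.div_mul_cancel (hdvd _ hz)
    rw [h2] at h1
    exact h1
  · apply finite_quotient_of_dim_le_zero
    apply ringKrullDim_quotient_le_of_forall_minimalPrimes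
    intro Q hQ
    have hQprime : Q.IsPrime := hQ.1.1
    have hle : Ideal.ofList (l.map Prod.fst) ≤ Q := by
      rw [Ideal.ofList, Ideal.span_le]
      intro y hy
      obtain ⟨z, hz, rfl⟩ := List.mem_map.1 hy
      obtain ⟨n, hn⟩ := List.get_of_mem hz
      have hnr : (n : ℕ) < r := by rw [← hl]; exact n.2
      have hx : x ⟨n, hnr⟩ ∈ Q := hQ.1.2 (Ideal.subset_span ⟨_, rfl⟩)
      have hx' : x ⟨n, hnr⟩ = z.1 ^ (D / z.2) := by
        simp only [x]
        have : (Fin.cast hl.symm ⟨(n : ℕ), hnr⟩) = n := Fin.ext rfl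
        rw [this, hn]
      rw [hx'] at hx
      exact hQprime.mem_of_pow_mem _ hx
    refine le_trans (ringKrullDim_quotient_mono hle) ?_
    exact_mod_cast hdim

end Groth.Agent.Lib.helper26.Seg
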