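import Mathlib

/-!
# Positively graded algebras over a field, part 3: graded Nakayama (helper26)

`T` a `ℤ`-graded `k`-algebra with `𝒯 n = ⊥` for `n < 0`, `u : ι → T` (`ι` finite) homogeneous of
positive degrees such that `T/(u)` is a finite `k`-module.  Then `T` is a finite module over
`k[u]`: `finite_aeval`.
-/

set_option autoImplicit false
set_option linter.unusedSectionVars false
universe u

namespace Groth.Agent.Lib.helper26.Seg

variable {k : Type u} [Field k] {T : Type u} [CommRing T] [Algebra k T]
  (𝒯 : ℤ → Submodule k T) [GradedAlgebra 𝒯]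

/-- a finite set of homogeneous elements spanning `T` modulo an ideal with finite quotient -/
theorem exists_finset_homogeneous (I : Ideal T) [Module.Finite k (T ⧸ I)] :
    ∃ W : Finset T, (∀ w ∈ W, ∃ n : ℤ, w ∈ 𝒯 n) ∧
      ∀ t : T, ∃ v ∈ Submodule.span k (W : Set T), t - v ∈ I := by
  classical
  obtain ⟨B, hB⟩ := (Module.Finite.fg_top : (⊤ : Submodule k (T ⧸ I)).FG)
  let ℓ : T ⧸ I → T := Function.surjInv Ideal.Quotient.mk_surjective
  have hℓ : ∀ b, Ideal.Quotient.mk I (ℓ b) = b := Function.surjInv_eq _
  let W : Finset T := B.biUnion (fun b => (DFinsupp.support (DirectSum.decompose 𝒯 (ℓ b))).image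
    (fun n => ((DirectSum.decompose 𝒯 (ℓ b) n : 𝒯 n) : T)))
  refine ⟨W, ?_, ?_⟩
  · intro w hw
    simp only [W, Finset.mem_biUnion, Finset.mem_image] at hw
    obtain ⟨b, _, n, _, rfl⟩ := hw
    exact ⟨n, (DirectSum.decompose 𝒯 (ℓ b) n).2⟩
  · have hℓW : ∀ b ∈ B, ℓ b ∈ Submodule.span k (W : Set T) := by
      intro b hb
      rw [← DirectSum.sum_support_decompose 𝒯 (ℓ b)]
      refine Submodule.sum_mem _ fun n hn => Submodule.subset_span ?_
      simp only [W, Finset.coe_biUnion, Finset.coe_image, Set.mem_iUnion, Set.mem_image,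
        Finset.mem_coe]
      exact ⟨b, hb, n, hn, rfl⟩
    let π : T →ₗ[k] T ⧸ I := (Ideal.Quotient.mkₐ k I).toLinearMap
    have hπ : ∀ t, π t = Ideal.Quotient.mk I t := fun _ => rfl
    have hmap : Submodule.map π (Submodule.span k (W : Set T)) = ⊤ := by
      rw [eq_top_iff, ← hB, Submodule.span_le]
      intro b hb
      exact ⟨ℓ b, hℓW b hb, by rw [hπ, hℓ]⟩
    intro t
    have : π t ∈ Submodule.map π (Submodule.span k (W : Set T)) := by rw [hmap]; trivial
    obtain ⟨v, hv, hvt⟩ := this
    refine ⟨v, hv, ?_⟩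
    rw [← Ideal.Quotient.eq, ← hπ, ← hπ, hvt]

variable {ι : Type} [Finite ι] (u : ι → T) (d : ι → ℕ)

/-- **Graded Nakayama.** -/
theorem finite_range_aeval (hpos : ∀ n : ℤ, n < 0 → 𝒯 n = ⊥) (hd : ∀ i, 0 < d i)
    (hu : ∀ i, u i ∈ 𝒯 (d i : ℤ)) [Module.Finite k (T ⧸ Ideal.span (Set.range u))] :
    Module.Finite (MvPolynomial.aeval (R := k) u).range T := by
  classical
  have : Fintype ι := Fintype.ofFinite ι
  obtain ⟨W, hWhom, hW⟩ := exists_finset_homogeneous 𝒯 (Ideal.span (Set.range u))
  set A : Subalgebra k T := (MvPolynomial.aeval (R := k) u).range with hA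
  set N : Submodule A T := Submodule.span A (W : Set T) with hN
  have huA : ∀ i, u i ∈ A := fun i => ⟨MvPolynomial.X i, by simp⟩
  have hmulN : ∀ i, ∀ x ∈ N, x * u i ∈ N := by
    intro i x hx
    have : x * u i = (⟨u i, huA i⟩ : A) • x := by
      rw [Subalgebra.smul_def, smul_eq_mul, mul_comm]
    rw [this]
    exact N.smul_mem _ hx
  have hkN : ∀ (c : k) (x : T), x ∈ N → c • x ∈ N := by
    intro c x hx
    have : c • x = (algebraMap k A c) • x := by
      show c • x = ((algebraMap k A c : A) : T) * x
      rw [Algebra.smul_def]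
      rfl
    rw [this]
    exact N.smul_mem _ hx
  have hspanN : ∀ v ∈ Submodule.span k (W : Set T), v ∈ N := by
    intro v hv
    induction hv using Submodule.span_induction with
    | mem x hx => exact Submodule.subset_span hx
    | zero => exact zero_mem _
    | add x y _ _ hx hy => exact add_mem hx hy
    | smul c x _ hx => exact hkN c x hx
  -- components of elements of the span lie in `N`
  have hcomp : ∀ (n : ℤ), ∀ v ∈ Submodule.span k (W : Set T),
      ((DirectSum.decompose 𝒯 v n : 𝒯 n) : T) ∈ N := by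
    intro n v hv
    induction hv using Submodule.span_induction with
    | mem x hx =>
      obtain ⟨e, he⟩ := hWhom x hx
      by_cases hen : e = n
      · subst hen
        rw [DirectSum.decompose_of_mem_same _ he]
        exact Submodule.subset_span hx
      · rw [DirectSum.decompose_of_mem_ne _ he hen]
        exact zero_mem _
    | zero => simp
    | add x y _ _ hx hy =>
      rw [DirectSum.decompose_add, DirectSum.add_apply, Submodule.coe_add]
      exact add_mem hx hy
    | smul c x _ hx =>
      rw [DirectSum.decompose_smul, DirectSum.smul_apply, Submodule.coe_smul]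
      exact hkN c _ hx
  have key : ∀ m : ℕ, ∀ n : ℤ, n < m → ∀ t ∈ 𝒯 n, t ∈ N := by
    intro m
    induction m with
    | zero =>
      intro n hn t ht
      have hle : 𝒯 n ≤ ⊥ := (hpos n (by simpa using hn)).le
      have := hle ht
      rw [Submodule.mem_bot] at this
      rw [this]; exact zero_mem _
    | succ m ih =>
      intro n hn t ht
      by_cases hnm : n < m
      · exact ih n hnm t ht
      have hnm' : n = m := by push_cast at hn; omega
      obtain ⟨v, hv, hvt⟩ := hW t
      obtain ⟨c, hc⟩ := (Ideal.mem_span_range_iff_exists_fun).1 hvt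
      have ht' : t = v + ∑ i, c i * u i := by rw [hc]; ring
      have h1 : ((DirectSum.decompose 𝒯 t n : 𝒯 n) : T) = t := DirectSum.decompose_of_mem_same _ ht
      rw [← h1, ht', DirectSum.decompose_add, DirectSum.add_apply, Submodule.coe_add,
        DirectSum.decompose_sum, DFinsupp.finsetSum_apply, AddSubmonoidClass.coe_finsetSum]
      refine add_mem (hcomp n v hv) (Submodule.sum_mem _ fun i _ => ?_)
      have hn' : n = (n - d i) + d i := by ring
      have h2 : ((DirectSum.decompose 𝒯 (c i * u i) n : 𝒯 n) : T) =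
          ((DirectSum.decompose 𝒯 (c i) (n - d i) : 𝒯 (n - d i)) : T) * u i := by
        have h3 := DirectSum.coe_decompose_mul_add_of_right_mem 𝒯 (a := c i) (i := n - d i)
          (hu i)
        have h4 : ∀ (y : T) (n₁ n₂ : ℤ), n₁ = n₂ →
            ((DirectSum.decompose 𝒯 y n₁ : 𝒯 n₁) : T) = ((DirectSum.decompose 𝒯 y n₂ : 𝒯 n₂) : T) := by
          rintro y _ _ rfl; rfl
        rw [h4 _ _ _ hn', h3]
      rw [h2]
      apply hmulN
      apply ih (n - d i) _ _ (DirectSum.decompose 𝒯 (c i) (n - d i)).2
      have := hd i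
      omega
  have htop : N = ⊤ := by
    rw [eq_top_iff]
    intro t _
    rw [← DirectSum.sum_support_decompose 𝒯 t]
    refine Submodule.sum_mem _ fun n _ => ?_
    exact key (n.toNat + 1) n (by push_cast; omega) _ (DirectSum.decompose 𝒯 t n).2
  exact ⟨⟨W, htop⟩⟩

/-- the algebra map `k[X_i] → T`, `X_i ↦ u i`, is finite -/
theorem finite_aeval (hpos : ∀ n : ℤ, n < 0 → 𝒯 n = ⊥) (hd : ∀ i, 0 < d i)
    (hu : ∀ i, u i ∈ 𝒯 (d i : ℤ)) [Module.Finite k (T ⧸ Ideal.span (Set.range u))] :
    (MvPolynomial.aeval (R := k) u).toRingHom.Finite := by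
  have h1 := finite_range_aeval 𝒯 u d hpos hd hu
  have h2 : (algebraMap (MvPolynomial.aeval (R := k) u).range T).Finite :=
    RingHom.finite_algebraMap.2 h1
  have h3 : ((MvPolynomial.aeval (R := k) u).rangeRestrict :
      MvPolynomial ι k →+* (MvPolynomial.aeval (R := k) u).range).Finite :=
    RingHom.Finite.of_surjective _ (AlgHom.rangeRestrict_surjective _)
  have h4 := h2.comp h3
  have e : (MvPolynomial.aeval (R := k) u).toRingHom =
      (algebraMap (MvPolynomial.aeval (R := k) u).range T).comp
        ((MvPolynomial.aeval (R := k) u).rangeRestrict :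
          MvPolynomial ι k →+* (MvPolynomial.aeval (R := k) u).range) := by
    ext x <;> rfl
  rw [e]
  exact h4

end Groth.Agent.Lib.helper26.Seg
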