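import Mathlib
import Groth.Agent.Lib.Helper26.Seg3

/-!
# Positively graded algebras over a field, part 4: graded pieces and finite quotients (helper26)

* `exists_le_of_finite_quotient`: for a homogeneous ideal `I` with `R/I` finite over `k`, the
  pieces `𝒜 n` lie in `I` for `n` large;
* `exists_coeffs`: a homogeneous element of the ideal generated by homogeneous `x i` of degree
  `d` is a combination with homogeneous coefficients;
* `finite_piece`: the pieces of a Noetherian positively graded algebra with `𝒜 0 = k · 1` are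
  finite dimensional;
* `finite_quotient_of_le`: if the pieces are finite dimensional and `𝒯 n ≤ I` for `n > n₀` then
  `T/I` is finite over `k`.
-/

set_option autoImplicit false
set_option linter.unusedSectionVars false
universe u

namespace Groth.Agent.Lib.helper26.Seg

variable {k : Type u} [Field k] {R : Type u} [CommRing R] [Algebra k R]
  (𝒜 : ℤ → Submodule k R) [GradedAlgebra 𝒜]

theorem coe_decompose_congr (y : R) {n₁ n₂ : ℤ} (h : n₁ = n₂) :
    ((DirectSum.decompose 𝒜 y n₁ : 𝒜 n₁) : R) = ((DirectSum.decompose 𝒜 y n₂ : 𝒜 n₂) : R) := by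
  subst h; rfl

/-- the degree `n` component of an element of the `k`-span of homogeneous elements of degrees
different from `n` vanishes -/
theorem decompose_eq_zero_of_mem_span (W : Set R) (n : ℤ)
    (hW : ∀ w ∈ W, ∃ e : ℤ, e ≠ n ∧ w ∈ 𝒜 e) (v : R) (hv : v ∈ Submodule.span k W) :
    ((DirectSum.decompose 𝒜 v n : 𝒜 n) : R) = 0 := by
  induction hv using Submodule.span_induction with
  | mem x hx =>
    obtain ⟨e, hen, he⟩ := hW x hx
    rw [DirectSum.decompose_of_mem_ne _ he hen]
  | zero => simp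
  | add x y _ _ hx hy =>
    rw [DirectSum.decompose_add, DirectSum.add_apply, Submodule.coe_add, hx, hy, add_zero]
  | smul c x _ hx =>
    rw [DirectSum.decompose_smul, DirectSum.smul_apply, Submodule.coe_smul, hx, smul_zero]

theorem exists_le_of_finite_quotient (I : Ideal R) (hI : I.IsHomogeneous 𝒜)
    [Module.Finite k (R ⧸ I)] : ∃ n₀ : ℤ, ∀ n : ℤ, n₀ < n → ∀ a ∈ 𝒜 n, a ∈ I := by
  classical
  obtain ⟨W, hWhom, hW⟩ := exists_finset_homogeneous 𝒜 I
  choose! e he using hWhom
  refine ⟨∑ w ∈ W, |e w|, ?_⟩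
  intro n hn a ha
  obtain ⟨v, hv, hav⟩ := hW a
  have h1 := hI n hav
  rw [DirectSum.decompose_sub, DirectSum.sub_apply, AddSubgroupClass.coe_sub,
    DirectSum.decompose_of_mem_same _ ha] at h1
  have h2 : ((DirectSum.decompose 𝒜 v n : 𝒜 n) : R) = 0 := by
    apply decompose_eq_zero_of_mem_span 𝒜 (W : Set R) n _ v hv
    intro w hw
    refine ⟨e w, ?_, he w hw⟩
    have h3 : |e w| ≤ ∑ w ∈ W, |e w| :=
      Finset.single_le_sum (f := fun w => |e w|) (fun _ _ => abs_nonneg _) hw
    have h4 := le_abs_self (e w)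
    omega
  rwa [h2, sub_zero] at h1

variable {ι : Type} [Finite ι]

theorem exists_coeffs (x : ι → R) (d : ℤ) (hx : ∀ i, x i ∈ 𝒜 d) (n : ℤ) (a : R) (ha : a ∈ 𝒜 n)
    (hmem : a ∈ Ideal.span (Set.range x)) :
    ∃ c : ι → R, (∀ i, c i ∈ 𝒜 (n - d)) ∧ a = ∑ᶠ i, c i * x i := by
  classical
  have : Fintype ι := Fintype.ofFinite ι
  obtain ⟨c, hc⟩ := (Ideal.mem_span_range_iff_exists_fun).1 hmem
  refine ⟨fun i => ((DirectSum.decompose 𝒜 (c i) (n - d) : 𝒜 (n - d)) : R),
    fun i => (DirectSum.decompose 𝒜 (c i) (n - d)).2, ?_⟩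
  rw [finsum_eq_sum_of_fintype]
  have h1 : ((DirectSum.decompose 𝒜 a n : 𝒜 n) : R) = a := DirectSum.decompose_of_mem_same _ ha
  rw [← h1, ← hc, DirectSum.decompose_sum, DFinsupp.finsetSum_apply,
    AddSubmonoidClass.coe_finsetSum]
  refine Finset.sum_congr rfl fun i _ => ?_
  have hn' : n = (n - d) + d := by ring
  rw [coe_decompose_congr 𝒜 _ hn',
    DirectSum.coe_decompose_mul_add_of_right_mem 𝒜 (a := c i) (i := n - d) (hx i)]

/-- finitely many homogeneous generators of a finitely generated ideal spanned by homogeneous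
elements -/
theorem exists_finset_homogeneous_span (P : ℤ → Prop) (J : Ideal R)
    (hJ : J = Ideal.span (⋃ m ∈ {m | P m}, (𝒜 m : Set R))) (hfg : J.FG) :
    ∃ H : Finset R, (∀ h ∈ H, ∃ m : ℤ, P m ∧ h ∈ 𝒜 m) ∧ J = Ideal.span (H : Set R) := by
  classical
  obtain ⟨G, hG⟩ := hfg
  -- each generator is a combination of finitely many homogeneous elements
  have hstep : ∀ g ∈ J, ∃ H : Finset R, (∀ h ∈ H, ∃ m : ℤ, P m ∧ h ∈ 𝒜 m) ∧
      g ∈ Ideal.span (H : Set R) := by
    intro g hg
    rw [hJ] at hg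
    induction hg using Submodule.span_induction with
    | mem x hx =>
      simp only [Set.mem_iUnion, Set.mem_ofPred_eq, SetLike.mem_coe] at hx
      obtain ⟨m, hm, hxm⟩ := hx
      refine ⟨{x}, ?_, Ideal.subset_span (by simp)⟩
      intro h hh
      rw [Finset.mem_singleton] at hh
      subst hh
      exact ⟨m, hm, hxm⟩
    | zero => exact ⟨∅, by simp, zero_mem _⟩
    | add x y _ _ hx hy =>
      obtain ⟨H₁, h₁, hx⟩ := hx
      obtain ⟨H₂, h₂, hy⟩ := hy
      refine ⟨H₁ ∪ H₂, ?_, ?_⟩
      · intro h hh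
        rcases Finset.mem_union.1 hh with hh | hh
        · exact h₁ h hh
        · exact h₂ h hh
      · apply add_mem
        · exact Ideal.span_mono (by simp) hx
        · exact Ideal.span_mono (by simp) hy
    | smul c x _ hx =>
      obtain ⟨H₁, h₁, hx⟩ := hx
      exact ⟨H₁, h₁, Ideal.mul_mem_left _ c hx⟩
  have hGJ : ∀ g ∈ G, g ∈ J := fun g hg => by rw [← hG]; exact Ideal.subset_span hg
  choose! Hf hHf1 hHf2 using hstep
  refine ⟨G.biUnion Hf, ?_, ?_⟩
  · intro h hh
    obtain ⟨g, hg, hhg⟩ := Finset.mem_biUnion.1 hh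
    exact hHf1 g (hGJ g hg) h hhg
  · apply le_antisymm
    · rw [← hG, Ideal.span_le]
      intro g hg
      refine Ideal.span_mono ?_ (hHf2 g (hGJ g hg))
      intro h hh
      exact Finset.mem_biUnion.2 ⟨g, hg, hh⟩
    · rw [Ideal.span_le]
      intro h hh
      obtain ⟨g, hg, hhg⟩ := Finset.mem_biUnion.1 hh
      obtain ⟨m, hm, hhm⟩ := hHf1 g (hGJ g hg) h hhg
      rw [hJ]
      exact Ideal.subset_span (Set.mem_biUnion hm hhm)

theorem finite_piece [IsNoetherianRing R] (hpos : ∀ n : ℤ, n < 0 → 𝒜 n = ⊥)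
    (h0 : 𝒜 0 = Submodule.span k {(1 : R)}) (n : ℤ) : Module.Finite k (𝒜 n) := by
  classical
  obtain ⟨H, hHhom, hH⟩ := exists_finset_homogeneous_span 𝒜 (fun m => n ≤ m) _ rfl
    (IsNoetherian.noetherian _)
  choose! e he1 he2 using hHhom
  -- `𝒜 n` is contained in the span of the generators of degree `n`
  have hle : 𝒜 n ≤ Submodule.span k ((H.filter (fun h => e h = n) : Finset R) : Set R) := by
    intro a ha
    have haJ : a ∈ Ideal.span (H : Set R) := by
      rw [← hH]
      exact Ideal.subset_span (Set.mem_biUnion (show n ≤ n from le_rfl) ha)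
    obtain ⟨c, hc⟩ := (Submodule.mem_span_finset' (R := R)).1 haJ
    simp only [smul_eq_mul] at hc
    have h1 : ((DirectSum.decompose 𝒜 a n : 𝒜 n) : R) = a := DirectSum.decompose_of_mem_same _ ha
    rw [← h1, ← hc, DirectSum.decompose_sum, DFinsupp.finsetSum_apply,
      AddSubmonoidClass.coe_finsetSum]
    refine Submodule.sum_mem _ fun h _ => ?_
    have hhH : (h : R) ∈ H := h.2
    have hn' : n = (n - e h) + e h := by ring
    rw [coe_decompose_congr 𝒜 _ hn',
      DirectSum.coe_decompose_mul_add_of_right_mem 𝒜 (a := c h) (i := n - e h) (he2 h hhH)]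
    rcases lt_or_eq_of_le (he1 h hhH) with hlt | heq
    · have hle : 𝒜 (n - e h) ≤ ⊥ := (hpos _ (by omega)).le
      have := hle (DirectSum.decompose 𝒜 (c h) (n - e h)).2
      rw [Submodule.mem_bot] at this
      rw [this, zero_mul]; exact zero_mem _
    · have hz : n - e (h : R) = 0 := by omega
      have hmem : ((DirectSum.decompose 𝒜 (c h) (n - e h) : 𝒜 (n - e h)) : R) ∈ 𝒜 0 := by
        rw [coe_decompose_congr 𝒜 _ hz]
        exact (DirectSum.decompose 𝒜 (c h) 0).2
      rw [h0] at hmem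
      obtain ⟨b, hb⟩ := Submodule.mem_span_singleton.1 hmem
      rw [← hb, smul_mul_assoc, one_mul]
      apply Submodule.smul_mem
      apply Submodule.subset_span
      rw [Finset.coe_filter]
      exact ⟨hhH, heq.symm⟩
  have hfg : (Submodule.span k ((H.filter (fun h => e h = n) : Finset R) : Set R)).FG :=
    ⟨_, rfl⟩
  have : IsNoetherian k (Submodule.span k ((H.filter (fun h => e h = n) : Finset R) : Set R)) :=
    isNoetherian_of_fg_of_noetherian _ hfg
  have h2 := Module.Finite.of_injective (Submodule.inclusion hle) (Submodule.inclusion_injective hle)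
  exact h2

theorem finite_quotient_of_le (hpos : ∀ n : ℤ, n < 0 → 𝒜 n = ⊥)
    (hfin : ∀ n : ℤ, Module.Finite k (𝒜 n)) (I : Ideal R) (n₀ : ℤ)
    (hI : ∀ n : ℤ, n₀ < n → ∀ a ∈ 𝒜 n, a ∈ I) : Module.Finite k (R ⧸ I) := by
  classical
  let V : Submodule k R := ⨆ n ∈ Finset.Icc (0 : ℤ) n₀, 𝒜 n
  have hV : V.FG := by
    apply Submodule.fg_biSup
    intro n _
    exact (Module.finite_def.1 (hfin n)) |> fun h => by
      have := (Submodule.fg_top (𝒜 n)).1 h
      exact this
  let π : R →ₗ[k] R ⧸ I := (Ideal.Quotient.mkₐ k I).toLinearMap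
  have hπ : ∀ t, π t = Ideal.Quotient.mk I t := fun _ => rfl
  have hmap : Submodule.map π V = ⊤ := by
    rw [eq_top_iff]
    rintro y -
    obtain ⟨r, rfl⟩ := Ideal.Quotient.mk_surjective y
    rw [← hπ, ← DirectSum.sum_support_decompose 𝒜 r, map_sum]
    refine Submodule.sum_mem _ fun n _ => ?_
    by_cases hn : n ∈ Finset.Icc (0 : ℤ) n₀
    · exact ⟨_, Submodule.mem_iSup_of_mem n (Submodule.mem_iSup_of_mem hn
        (DirectSum.decompose 𝒜 r n).2), rfl⟩
    · rw [Finset.mem_Icc, not_and_or, not_le, not_le] at hn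
      have : π ((DirectSum.decompose 𝒜 r n : 𝒜 n) : R) = 0 := by
        rw [hπ, Ideal.Quotient.eq_zero_iff_mem]
        rcases hn with hn | hn
        · have hle : 𝒜 n ≤ ⊥ := (hpos n hn).le
          have := hle (DirectSum.decompose 𝒜 r n).2
          rw [Submodule.mem_bot] at this
          rw [this]; exact zero_mem _
        · exact hI n hn _ (DirectSum.decompose 𝒜 r n).2
      rw [this]; exact zero_mem _
  have : (⊤ : Submodule k (R ⧸ I)).FG := by rw [← hmap]; exact hV.map π
  exact ⟨this⟩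

end Groth.Agent.Lib.helper26.Seg
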