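import Mathlib
import Groth.Agent.Lib.Helper26.Seg2
import Groth.Agent.Lib.Helper26.Seg4

/-!
# Positively graded algebras over a field, part 5: radicals, integral maps, a prime lemma (helper26)

* `ringKrullDim_le_of_isIntegral`, `injective_of_isIntegral_of_dim_le`,
  `ringKrullDim_le_of_isIntegral_of_injective`: Krull dimension and integral maps (the same
  statements as in helper24's `SopFinite` and helper19's `FibreCone2`, re-proved here to keep the
  import graph small);
* `irr_le_radical_of_finite_quotient`, `finite_quotient_of_irr_le_radical`: for a homogeneous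
  ideal `I` of a positively graded finite type algebra, `R/I` is finite over `k` iff
  `R₊ ⊆ √I`;
* `forall_mem_or_forall_mem_of_sum_mem`: if a prime contains all the "antidiagonal sums"
  `∑_{i+j=m} a i * b j` then it contains all `a i` or all `b j`.
-/

set_option autoImplicit false
set_option linter.unusedSectionVars false
universe u

namespace Groth.Agent.Lib.helper26.Seg

theorem ringKrullDim_le_of_isIntegral {P R : Type*} [CommRing P] [CommRing R] (f : P →+* R)
    (hf : f.IsIntegral) : ringKrullDim R ≤ ringKrullDim P := by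
  let _ : Algebra P R := f.toAlgebra
  refine Order.krullDim_le_of_strictMono (f := PrimeSpectrum.comap f) ?_
  intro p q hpq
  rw [← PrimeSpectrum.asIdeal_lt_asIdeal] at hpq ⊢
  obtain ⟨x, hxq, hxp⟩ := SetLike.exists_of_lt hpq
  exact Ideal.comap_lt_comap_of_integral_mem_sdiff (R := P) hpq.le ⟨hxq, hxp⟩ (hf x)

theorem injective_of_isIntegral_of_dim_le {P R : Type*} [CommRing P] [IsDomain P] [CommRing R]
    [Nontrivial R] [FiniteRingKrullDim R] (f : P →+* R) (hf : f.IsIntegral)
    (hdim : ringKrullDim P ≤ ringKrullDim R) : Function.Injective f := by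
  rw [injective_iff_map_eq_zero]
  intro x hx
  by_contra hx0
  have hle : Ideal.span {x} ≤ RingHom.ker f := by
    rw [Ideal.span_singleton_le_iff_mem]; exact hx
  let g : P ⧸ Ideal.span {x} →+* R := Ideal.Quotient.lift _ f (fun a ha => hle ha)
  have hg : g.IsIntegral := by
    have : g.comp (Ideal.Quotient.mk _) = f := by ext; rfl
    exact RingHom.IsIntegral.tower_top (Ideal.Quotient.mk _) g (by rw [this]; exact hf)
  have h1 := ringKrullDim_le_of_isIntegral g hg
  have h2 : ringKrullDim (P ⧸ Ideal.span {x}) + 1 ≤ ringKrullDim P :=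
    ringKrullDim_quotient_succ_le_of_nonZeroDivisor (mem_nonZeroDivisors_of_ne_zero hx0)
  have h3 : ringKrullDim R + 1 ≤ ringKrullDim R :=
    (add_le_add_left h1 1).trans (h2.trans hdim)
  have hne_top : ringKrullDim R ≠ ⊤ := ringKrullDim_ne_top
  have hne_bot : ringKrullDim R ≠ ⊥ := ringKrullDim_ne_bot
  obtain ⟨n, hn⟩ : ∃ n : ℕ, ringKrullDim R = n := by
    cases h : ringKrullDim R with
    | bot => exact absurd h hne_bot
    | coe a =>
      cases ha : a with
      | top => rw [ha] at h; exact absurd h hne_top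
      | coe n => exact ⟨n, rfl⟩
  rw [hn] at h3
  have : ((n + 1 : ℕ) : WithBot ℕ∞) ≤ (n : WithBot ℕ∞) := by exact_mod_cast h3
  have h4 : n + 1 ≤ n := by exact_mod_cast this
  omega

theorem ringKrullDim_le_of_isIntegral_of_injective {A B : Type*} [CommRing A] [CommRing B]
    (f : A →+* B) (hf : f.IsIntegral) (hinj : Function.Injective f) :
    ringKrullDim A ≤ ringKrullDim B := by
  algebraize [f]
  have : Algebra.IsIntegral A B := ⟨hf⟩
  have hinj' : Function.Injective (algebraMap A B) := hinj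
  unfold ringKrullDim Order.krullDim
  apply iSup_le
  intro l
  obtain ⟨P, -, hP, hPl⟩ := Ideal.exists_ideal_over_prime_of_isIntegral
    (S := B) l.head.asIdeal (⊥ : Ideal B) (by
      rw [← RingHom.ker_eq_comap_bot, (RingHom.injective_iff_ker_eq_bot _).mp hinj']
      exact bot_le)
  have : P.LiesOver l.head.asIdeal := ⟨hPl.symm⟩
  obtain ⟨L, hL, -, -⟩ := Ideal.exists_ltSeries_of_hasGoingUp l P
  rw [← hL]
  exact le_iSup (fun p : LTSeries (PrimeSpectrum B) => (p.length : WithBot ℕ∞)) L

theorem ringKrullDim_quotient_radical {R : Type*} [CommRing R] (I : Ideal R) :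
    ringKrullDim (R ⧸ I.radical) = ringKrullDim (R ⧸ I) := by
  rw [ringKrullDim_quotient, ringKrullDim_quotient, PrimeSpectrum.zeroLocus_radical]

section graded

variable {k : Type u} [Field k] {R : Type u} [CommRing R] [Algebra k R]
  (𝒜 : ℤ → Submodule k R) [GradedAlgebra 𝒜]

theorem irr_le_radical_of_finite_quotient (I : Ideal R) (hI : I.IsHomogeneous 𝒜)
    [Module.Finite k (R ⧸ I)] : irr 𝒜 ≤ I.radical := by
  obtain ⟨n₀, hn₀⟩ := exists_le_of_finite_quotient 𝒜 I hI
  unfold irr
  rw [Ideal.span_le]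
  intro a ha
  simp only [Set.mem_iUnion, SetLike.mem_coe] at ha
  obtain ⟨n, hn, ha⟩ := ha
  rw [Set.mem_Ioi] at hn
  refine ⟨n₀.toNat + 1, ?_⟩
  have h1 : a ^ (n₀.toNat + 1) ∈ 𝒜 ((n₀.toNat + 1) • n) := SetLike.pow_mem_graded _ ha
  refine hn₀ _ ?_ _ h1
  rw [nsmul_eq_mul]
  have h2 : n₀ ≤ (n₀.toNat : ℤ) := Int.self_le_toNat n₀
  have h3 : ((n₀.toNat + 1 : ℕ) : ℤ) * 1 ≤ ((n₀.toNat + 1 : ℕ) : ℤ) * n :=
    mul_le_mul_of_nonneg_left (by omega) (by positivity)
  push_cast at h3 ⊢
  omega

theorem finite_quotient_of_irr_le_radical [Algebra.FiniteType k R]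
    (hpos : ∀ n : ℤ, n < 0 → 𝒜 n = ⊥) (h0 : 𝒜 0 = Submodule.span k {(1 : R)}) (I : Ideal R)
    (h : irr 𝒜 ≤ I.radical) : Module.Finite k (R ⧸ I) := by
  apply finite_quotient_of_dim_le_zero
  rw [← ringKrullDim_quotient_radical]
  exact ringKrullDim_quotient_le_zero_of_irr_le 𝒜 hpos h0 _ h

end graded

/-- If a prime ideal contains all antidiagonal sums `∑_{i+j=m} a i * b j`, then it contains all
`a i` or all `b j`. -/
theorem forall_mem_or_forall_mem_of_sum_mem {A : Type*} [CommRing A] (Q : Ideal A) [Q.IsPrime]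
    (r s : ℕ) (a : Fin r → A) (b : Fin s → A)
    (h : ∀ m : ℕ, m < r + s - 1 →
      (∑ p : Fin r × Fin s, if (p.1 : ℕ) + (p.2 : ℕ) = m then a p.1 * b p.2 else 0) ∈ Q) :
    (∀ i, a i ∈ Q) ∨ (∀ j, b j ∈ Q) := by
  classical
  by_contra hcon
  push Not at hcon
  obtain ⟨⟨i, hi⟩, ⟨j, hj⟩⟩ := hcon
  obtain ⟨i₀, hi₀, hmini⟩ := Finset.exists_min_image (Finset.univ.filter (fun i => a i ∉ Q))
    (fun i => (i : ℕ)) ⟨i, by simp [hi]⟩
  obtain ⟨j₀, hj₀, hminj⟩ := Finset.exists_min_image (Finset.univ.filter (fun j => b j ∉ Q))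
    (fun j => (j : ℕ)) ⟨j, by simp [hj]⟩
  simp only [Finset.mem_filter, Finset.mem_univ, true_and] at hi₀ hj₀ hmini hminj
  have hm : (i₀ : ℕ) + (j₀ : ℕ) < r + s - 1 := by
    have := i₀.2; have := j₀.2; omega
  have hsum := h _ hm
  rw [← Finset.add_sum_erase Finset.univ _ (Finset.mem_univ (i₀, j₀))] at hsum
  simp only [if_true] at hsum
  have hrest : (∑ p ∈ Finset.univ.erase (i₀, j₀),
      if (p.1 : ℕ) + (p.2 : ℕ) = (i₀ : ℕ) + (j₀ : ℕ) then a p.1 * b p.2 else 0) ∈ Q := by
    refine Ideal.sum_mem _ fun p hp => ?_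
    split_ifs with hpm
    · have hne : p ≠ (i₀, j₀) := Finset.ne_of_mem_erase hp
      by_cases hlt : (p.1 : ℕ) < i₀
      · have : a p.1 ∈ Q := by
          by_contra hna
          have := hmini p.1 hna
          omega
        exact Q.mul_mem_right _ this
      · have hlt2 : (p.2 : ℕ) < j₀ := by
          by_contra hge
          apply hne
          have h1 : (p.1 : ℕ) = i₀ := by omega
          have h2 : (p.2 : ℕ) = j₀ := by omega
          exact Prod.ext (Fin.ext h1) (Fin.ext h2)
        have : b p.2 ∈ Q := by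
          by_contra hnb
          have := hminj p.2 hnb
          omega
        exact Q.mul_mem_left _ this
    · exact zero_mem _
  have hprod : a i₀ * b j₀ ∈ Q := by
    have := Q.sub_mem hsum hrest
    simpa using this
  rcases Ideal.IsPrime.mem_or_mem inferInstance hprod with h1 | h1
  · exact hi₀ h1
  · exact hj₀ h1

end Groth.Agent.Lib.helper26.Seg
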