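import Mathlib
import Groth.Agent.Lib.Helper26.Seg5
import Groth.Agent.S18646

/-!
# Segre products, part 6: finiteness over the antidiagonal sums, the upper bound (helper26)

Setting: `R`, `S` positively graded finite type `k`-algebras (`k` a field, degree `0` part `k`),
`T` graded with an injective `ψ : T → R ⊗ S` mapping `𝒯 n` onto the span of `𝒜 n ⊗ ℬ n`.

* `pieceT_eq_bot`, `finite_pieceT`: the pieces of `T` vanish in negative degrees and are finite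
  dimensional;
* `exists_t`: lifts `t (i, j)` of `x i ⊗ y j`;
* `finite_quotient_span_t`: if `R/(x)` and `S/(y)` are finite over `k` then so is `T/(t)`;
* `finite_aeval_t`: then `k[Z_ij] → T` is finite, `finiteType_T`: `T` is of finite type;
* `ringKrullDim_le`: `dim T ≤ r + s - 1` if `x`, `y` have `r`, `s` members.
-/

set_option autoImplicit false
set_option linter.unusedSectionVars false
universe u
open scoped TensorProduct

namespace Groth.Agent.Lib.helper26.Seg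

variable {k : Type u} [Field k] {R : Type u} [CommRing R] [Algebra k R]
  (𝒜 : ℤ → Submodule k R) [GradedAlgebra 𝒜]
  {S : Type u} [CommRing S] [Algebra k S] (ℬ : ℤ → Submodule k S) [GradedAlgebra ℬ]
  {T : Type u} [CommRing T] [Algebra k T] (𝒯 : ℤ → Submodule k T) [GradedAlgebra 𝒯]
  (ψ : T →ₐ[k] R ⊗[k] S)
  (hdegT : ∀ n : ℤ, (𝒯 n).map ψ.toLinearMap =
    Submodule.span k {x : R ⊗[k] S | ∃ a ∈ 𝒜 n, ∃ b ∈ ℬ n, x = a ⊗ₜ[k] b})
  (hψ : Function.Injective ψ)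

include hdegT hψ in
theorem pieceT_eq_bot (hposR : ∀ n : ℤ, n < 0 → 𝒜 n = ⊥) (n : ℤ) (hn : n < 0) : 𝒯 n = ⊥ := by
  rw [eq_bot_iff]
  intro t ht
  have h1 : ψ t ∈ (𝒯 n).map ψ.toLinearMap := ⟨t, ht, rfl⟩
  rw [hdegT, hposR n hn] at h1
  have h2 : Submodule.span k {x : R ⊗[k] S | ∃ a ∈ (⊥ : Submodule k R), ∃ b ∈ ℬ n,
      x = a ⊗ₜ[k] b} ≤ ⊥ := by
    rw [Submodule.span_le]
    rintro x ⟨a, ha, b, hb, rfl⟩
    rw [Submodule.mem_bot] at ha
    simp [ha]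
  have h3 := h2 h1
  rw [Submodule.mem_bot] at h3 ⊢
  exact hψ (by rw [h3, map_zero])

include hdegT hψ in
theorem finite_pieceT (hA : ∀ n, Module.Finite k (𝒜 n)) (hB : ∀ n, Module.Finite k (ℬ n))
    (n : ℤ) : Module.Finite k (𝒯 n) := by
  rw [Module.Finite.iff_fg]
  apply Submodule.fg_of_fg_map_injective ψ.toLinearMap hψ
  rw [hdegT]
  have : {x : R ⊗[k] S | ∃ a ∈ 𝒜 n, ∃ b ∈ ℬ n, x = a ⊗ₜ[k] b} =
      Set.image2 (fun a b => TensorProduct.mk k R S a b) (𝒜 n) (ℬ n) := by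
    ext x; constructor
    · rintro ⟨a, ha, b, hb, rfl⟩; exact ⟨a, ha, b, hb, rfl⟩
    · rintro ⟨a, ha, b, hb, rfl⟩; exact ⟨a, ha, b, hb, rfl⟩
  rw [this, ← Submodule.map₂_eq_span_image2]
  exact Submodule.FG.map₂ _ ((Module.Finite.iff_fg).1 (hA n)) ((Module.Finite.iff_fg).1 (hB n))

include hdegT in
theorem exists_t {d : ℤ} {ι κ : Type} (x : ι → R) (y : κ → S) (hx : ∀ i, x i ∈ 𝒜 d)
    (hy : ∀ j, y j ∈ ℬ d) :
    ∃ t : ι × κ → T, (∀ p, t p ∈ 𝒯 d) ∧ ∀ p, ψ (t p) = x p.1 ⊗ₜ[k] y p.2 := by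
  have h : ∀ p : ι × κ, ∃ t ∈ 𝒯 d, ψ t = x p.1 ⊗ₜ[k] y p.2 := by
    intro p
    have h1 : x p.1 ⊗ₜ[k] y p.2 ∈ (𝒯 d).map ψ.toLinearMap := by
      rw [hdegT]; exact Submodule.subset_span ⟨_, hx p.1, _, hy p.2, rfl⟩
    obtain ⟨t, ht, hteq⟩ := h1
    exact ⟨t, ht, hteq⟩
  choose t ht1 ht2 using h
  exact ⟨t, ht1, ht2⟩

include hdegT hψ in
/-- purity: membership of the pieces of `T` in an ideal can be tested in `R ⊗ S` -/
theorem pieceT_le_of_le (I : Ideal T) (n : ℤ)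
    (h : ∀ a ∈ 𝒜 n, ∀ b ∈ ℬ n, a ⊗ₜ[k] b ∈ I.map ψ.toRingHom) : ∀ t ∈ 𝒯 n, t ∈ I := by
  intro t ht
  rw [← Groth.Agent.S18646.comap_map 𝒜 ℬ 𝒯 ψ hdegT hψ I, Ideal.mem_comap]
  have h3 : ψ t ∈ (𝒯 n).map ψ.toLinearMap := ⟨t, ht, rfl⟩
  rw [hdegT] at h3
  have h4 : Submodule.span k {x | ∃ a ∈ 𝒜 n, ∃ b ∈ ℬ n, x = a ⊗ₜ[k] b} ≤
      (I.map ψ.toRingHom).restrictScalars k := by
    rw [Submodule.span_le]; rintro x ⟨a, ha, b, hb, rfl⟩; exact h a ha b hb
  exact h4 h3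

theorem tmul_mem_map_span {ι κ : Type} (x : ι → R) (y : κ → S) (t : ι × κ → T)
    (ht : ∀ p, ψ (t p) = x p.1 ⊗ₜ[k] y p.2) :
    ∀ a ∈ Ideal.span (Set.range x), ∀ b ∈ Ideal.span (Set.range y),
      a ⊗ₜ[k] b ∈ (Ideal.span (Set.range t)).map ψ.toRingHom := by
  intro a ha b hb
  induction ha using Submodule.span_induction with
  | mem a ha =>
    obtain ⟨i, rfl⟩ := ha
    induction hb using Submodule.span_induction with
    | mem b hb =>
      obtain ⟨j, rfl⟩ := hb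
      have : x i ⊗ₜ[k] y j = ψ.toRingHom (t (i, j)) := (ht (i, j)).symm
      rw [this]
      exact Ideal.mem_map_of_mem _ (Ideal.subset_span ⟨_, rfl⟩)
    | zero => simp
    | add b b' _ _ h h' => rw [TensorProduct.tmul_add]; exact add_mem h h'
    | smul c b _ h =>
      rw [smul_eq_mul]
      have : x i ⊗ₜ[k] (c * b) = ((1 : R) ⊗ₜ[k] c) * (x i ⊗ₜ[k] b) := by
        rw [Algebra.TensorProduct.tmul_mul_tmul, one_mul]
      rw [this]; exact Ideal.mul_mem_left _ _ h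
  | zero => simp
  | add a a' _ _ h h' => rw [TensorProduct.add_tmul]; exact add_mem h h'
  | smul c a _ h =>
    rw [smul_eq_mul]
    have : (c * a) ⊗ₜ[k] b = (c ⊗ₜ[k] (1 : S)) * (a ⊗ₜ[k] b) := by
      rw [Algebra.TensorProduct.tmul_mul_tmul, one_mul]
    rw [this]; exact Ideal.mul_mem_left _ _ h

section fin

variable [Algebra.FiniteType k R] [Algebra.FiniteType k S]
  (hposR : ∀ n : ℤ, n < 0 → 𝒜 n = ⊥) (h0R : 𝒜 0 = Submodule.span k {(1 : R)})
  (hposS : ∀ n : ℤ, n < 0 → ℬ n = ⊥) (h0S : ℬ 0 = Submodule.span k {(1 : S)})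
  {ι κ : Type} [Finite ι] [Finite κ] {d : ℕ} (x : ι → R) (y : κ → S)
  (hx : ∀ i, x i ∈ 𝒜 (d : ℤ)) (hy : ∀ j, y j ∈ ℬ (d : ℤ))
  (t : ι × κ → T) (ht1 : ∀ p, t p ∈ 𝒯 (d : ℤ)) (ht : ∀ p, ψ (t p) = x p.1 ⊗ₜ[k] y p.2)

include hdegT hψ hposR h0R hposS h0S hx hy ht in
theorem finite_quotient_span_t [Module.Finite k (R ⧸ Ideal.span (Set.range x))]
    [Module.Finite k (S ⧸ Ideal.span (Set.range y))] :
    Module.Finite k (T ⧸ Ideal.span (Set.range t)) := by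
  have hNR : IsNoetherianRing R := Algebra.FiniteType.isNoetherianRing k R
  have hNS : IsNoetherianRing S := Algebra.FiniteType.isNoetherianRing k S
  have hxh : (Ideal.span (Set.range x)).IsHomogeneous 𝒜 := by
    apply Ideal.homogeneous_span
    rintro _ ⟨i, rfl⟩
    exact ⟨_, hx i⟩
  have hyh : (Ideal.span (Set.range y)).IsHomogeneous ℬ := by
    apply Ideal.homogeneous_span
    rintro _ ⟨j, rfl⟩
    exact ⟨_, hy j⟩
  obtain ⟨n₁, hn₁⟩ := exists_le_of_finite_quotient 𝒜 _ hxh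
  obtain ⟨n₂, hn₂⟩ := exists_le_of_finite_quotient ℬ _ hyh
  apply finite_quotient_of_le 𝒯 (pieceT_eq_bot 𝒜 ℬ 𝒯 ψ hdegT hψ hposR)
    (finite_pieceT 𝒜 ℬ 𝒯 ψ hdegT hψ (finite_piece 𝒜 hposR h0R) (finite_piece ℬ hposS h0S))
    _ (max n₁ n₂)
  intro n hn
  apply pieceT_le_of_le 𝒜 ℬ 𝒯 ψ hdegT hψ
  intro a ha b hb
  exact tmul_mem_map_span ψ x y t ht a (hn₁ n (lt_of_le_of_lt (le_max_left _ _) hn) a ha)
    b (hn₂ n (lt_of_le_of_lt (le_max_right _ _) hn) b hb)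

include hdegT hψ hposR h0R hposS h0S hx hy ht ht1 in
theorem finite_aeval_t (hd : 0 < d) [Module.Finite k (R ⧸ Ideal.span (Set.range x))]
    [Module.Finite k (S ⧸ Ideal.span (Set.range y))] :
    (MvPolynomial.aeval (R := k) t).toRingHom.Finite := by
  have := finite_quotient_span_t 𝒜 ℬ 𝒯 ψ hdegT hψ hposR h0R hposS h0S x y hx hy t ht
  exact finite_aeval 𝒯 t (fun _ => d) (pieceT_eq_bot 𝒜 ℬ 𝒯 ψ hdegT hψ hposR) (fun _ => hd) ht1

theorem finiteType_of_finite_aeval {ι : Type} [Finite ι] (t : ι → T)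
    (h : (MvPolynomial.aeval (R := k) t).toRingHom.Finite) : Algebra.FiniteType k T := by
  let _ : Algebra (MvPolynomial ι k) T := (MvPolynomial.aeval (R := k) t).toRingHom.toAlgebra
  have : IsScalarTower k (MvPolynomial ι k) T :=
    IsScalarTower.of_algebraMap_eq (fun c => ((MvPolynomial.aeval (R := k) t).commutes c).symm)
  have : Module.Finite (MvPolynomial ι k) T := h
  exact Algebra.FiniteType.trans (inferInstance : Algebra.FiniteType k (MvPolynomial ι k))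
    inferInstance

theorem ringKrullDim_le_of_finite_aeval {n : ℕ} (z : Fin n → T)
    (h : (MvPolynomial.aeval (R := k) z).toRingHom.Finite) :
    ringKrullDim T ≤ (n : WithBot ℕ∞) := by
  have h1 := ringKrullDim_le_of_isIntegral _ h.to_isIntegral
  rw [MvPolynomial.ringKrullDim_of_isNoetherianRing, ringKrullDim_eq_zero_of_field, zero_add,
    Nat.card_fin] at h1
  exact h1

end fin

end Groth.Agent.Lib.helper26.Seg
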