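import Mathlib
import Groth.Agent.Lib.Helper26.Seg6

/-!
# Segre products, part 7: the upper bound `dim (R # S) ≤ dim R + dim S - 1` (helper26)

With `x : Fin r → 𝒜 d`, `y : Fin s → ℬ d` homogeneous systems of parameters and `t (i, j)` lifts
of `x i ⊗ y j`, the antidiagonal sums `zsum t m = ∑_{i+j=m} t (i, j)` (`m < r + s - 1`) generate an
ideal whose radical contains the irrelevant ideal of `T`.
-/

set_option autoImplicit false
set_option linter.unusedSectionVars false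
universe u
open scoped TensorProduct

namespace Groth.Agent.Lib.helper26.Seg

variable {k : Type u} [Field k] {R : Type u} [CommRing R] [Algebra k R]
  (𝒜 : ℤ → Submodule k R) [GradedAlgebra 𝒜]
  {S : Type u} [CommRing S] [Algebra k S] (ℬ : ℤ → Submodule k S) [GradedAlgebra ℬ]
  {T : Type u} [CommRing T] [Algebra k T] (𝒯 : ℤ → Submodule k T) [GradedAlgebra 𝒯]
  (ψ : T →ₐ[k] R ⊗[k] S)
  (hdegT : ∀ n : ℤ, (𝒯 n).map ψ.toLinearMap =
    Submodule.span k {x : R ⊗[k] S | ∃ a ∈ 𝒜 n, ∃ b ∈ ℬ n, x = a ⊗ₜ[k] b})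
  (hψ : Function.Injective ψ)

include hdegT hψ in
theorem pieceT_zero (h0R : 𝒜 0 = Submodule.span k {(1 : R)})
    (h0S : ℬ 0 = Submodule.span k {(1 : S)}) : 𝒯 0 = Submodule.span k {(1 : T)} := by
  apply le_antisymm
  · intro t ht
    have h1 : ψ t ∈ (𝒯 0).map ψ.toLinearMap := ⟨t, ht, rfl⟩
    rw [hdegT] at h1
    have h2 : Submodule.span k {x : R ⊗[k] S | ∃ a ∈ 𝒜 0, ∃ b ∈ ℬ 0, x = a ⊗ₜ[k] b} ≤
        Submodule.span k {(1 : R ⊗[k] S)} := by
      rw [Submodule.span_le]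
      rintro _ ⟨a, ha, b, hb, rfl⟩
      rw [h0R] at ha
      rw [h0S] at hb
      obtain ⟨c, rfl⟩ := Submodule.mem_span_singleton.1 ha
      obtain ⟨c', rfl⟩ := Submodule.mem_span_singleton.1 hb
      rw [SetLike.mem_coe, Submodule.mem_span_singleton]
      refine ⟨c * c', ?_⟩
      rw [TensorProduct.smul_tmul_smul, Algebra.TensorProduct.one_def]
    obtain ⟨c, hc⟩ := Submodule.mem_span_singleton.1 (h2 h1)
    rw [Submodule.mem_span_singleton]
    refine ⟨c, hψ ?_⟩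
    rw [map_smul, map_one, hc]
  · rw [Submodule.span_le, Set.singleton_subset_iff]
    exact SetLike.GradedOne.one_mem

section upper

variable [Algebra.FiniteType k R] [Algebra.FiniteType k S]
  (hposR : ∀ n : ℤ, n < 0 → 𝒜 n = ⊥) (h0R : 𝒜 0 = Submodule.span k {(1 : R)})
  (hposS : ∀ n : ℤ, n < 0 → ℬ n = ⊥) (h0S : ℬ 0 = Submodule.span k {(1 : S)})
  {r s d : ℕ} (x : Fin r → R) (y : Fin s → S)
  (hx : ∀ i, x i ∈ 𝒜 (d : ℤ)) (hy : ∀ j, y j ∈ ℬ (d : ℤ))
  (t : Fin r × Fin s → T) (ht1 : ∀ p, t p ∈ 𝒯 (d : ℤ)) (ht : ∀ p, ψ (t p) = x p.1 ⊗ₜ[k] y p.2)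

/-- the antidiagonal sums -/
noncomputable def zsum (t : Fin r × Fin s → T) (m : Fin (r + s - 1)) : T :=
  ∑ p : Fin r × Fin s, if (p.1 : ℕ) + (p.2 : ℕ) = m then t p else 0

include ht1 in
theorem zsum_mem (m : Fin (r + s - 1)) : zsum t m ∈ 𝒯 (d : ℤ) := by
  unfold zsum
  refine Submodule.sum_mem _ fun p _ => ?_
  split_ifs
  · exact ht1 p
  · exact zero_mem _

include ht in
theorem psi_zsum (m : Fin (r + s - 1)) :
    ψ (zsum t m) = ∑ p : Fin r × Fin s, if (p.1 : ℕ) + (p.2 : ℕ) = m then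
      (x p.1 ⊗ₜ[k] (1 : S)) * ((1 : R) ⊗ₜ[k] y p.2) else 0 := by
  rw [zsum, map_sum]
  refine Finset.sum_congr rfl fun p _ => ?_
  split_ifs
  · rw [ht, Algebra.TensorProduct.tmul_mul_tmul, mul_one, one_mul]
  · rw [map_zero]

include hdegT hψ hx hy ht in
theorem irr_le_radical_zsum [Module.Finite k (R ⧸ Ideal.span (Set.range x))]
    [Module.Finite k (S ⧸ Ideal.span (Set.range y))] :
    irr 𝒯 ≤ (Ideal.span (Set.range (zsum t))).radical := by
  have hxh : (Ideal.span (Set.range x)).IsHomogeneous 𝒜 := by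
    apply Ideal.homogeneous_span
    rintro _ ⟨i, rfl⟩
    exact ⟨_, hx i⟩
  have hyh : (Ideal.span (Set.range y)).IsHomogeneous ℬ := by
    apply Ideal.homogeneous_span
    rintro _ ⟨j, rfl⟩
    exact ⟨_, hy j⟩
  set I := Ideal.span (Set.range (zsum t)) with hI
  unfold irr
  rw [Ideal.span_le]
  intro τ hτ
  simp only [Set.mem_iUnion, SetLike.mem_coe] at hτ
  obtain ⟨n, hn, hτ⟩ := hτ
  rw [Set.mem_Ioi] at hn
  have hpur := Groth.Agent.S18646.comap_map 𝒜 ℬ 𝒯 ψ hdegT hψ I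
  rw [SetLike.mem_coe, ← hpur, ← Ideal.comap_radical, Ideal.mem_comap, Ideal.radical_eq_sInf,
    Ideal.mem_sInf]
  rintro Q ⟨hQ, hQp⟩
  have hz : ∀ m, ψ (zsum t m) ∈ Q := fun m =>
    hQ (Ideal.mem_map_of_mem _ (Ideal.subset_span ⟨m, rfl⟩))
  have hor := forall_mem_or_forall_mem_of_sum_mem Q r s (fun i => x i ⊗ₜ[k] (1 : S))
    (fun j => (1 : R) ⊗ₜ[k] y j) (by
      intro m hm
      have := hz ⟨m, hm⟩
      rw [psi_zsum ψ x y t ht] at this
      exact this)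
  have key : ∀ a ∈ 𝒜 n, ∀ b ∈ ℬ n, a ⊗ₜ[k] b ∈ Q := by
    intro a ha b hb
    have hab : a ⊗ₜ[k] b = (a ⊗ₜ[k] (1 : S)) * ((1 : R) ⊗ₜ[k] b) := by
      rw [Algebra.TensorProduct.tmul_mul_tmul, mul_one, one_mul]
    rcases hor with h | h
    · have h1 : a ⊗ₜ[k] (1 : S) ∈ Q := by
        set QR := Q.comap (Algebra.TensorProduct.includeLeft : R →ₐ[k] R ⊗[k] S).toRingHom
          with hQR
        have hle : Ideal.span (Set.range x) ≤ QR := by
          rw [Ideal.span_le]; rintro _ ⟨i, rfl⟩; exact h i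
        have hprime : QR.IsPrime := Ideal.comap_isPrime _ _
        have h2 := (irr_le_radical_of_finite_quotient 𝒜 _ hxh).trans
          (hprime.radical_le_iff.2 hle)
        exact h2 (mem_irr_of_mem 𝒜 hn ha)
      rw [hab]; exact Q.mul_mem_right _ h1
    · have h1 : (1 : R) ⊗ₜ[k] b ∈ Q := by
        set QS := Q.comap (Algebra.TensorProduct.includeRight : S →ₐ[k] R ⊗[k] S).toRingHom
          with hQS
        have hle : Ideal.span (Set.range y) ≤ QS := by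
          rw [Ideal.span_le]; rintro _ ⟨j, rfl⟩; exact h j
        have hprime : QS.IsPrime := Ideal.comap_isPrime _ _
        have h2 := (irr_le_radical_of_finite_quotient ℬ _ hyh).trans
          (hprime.radical_le_iff.2 hle)
        exact h2 (mem_irr_of_mem ℬ hn hb)
      rw [hab]; exact Q.mul_mem_left _ h1
  have h3 : ψ τ ∈ (𝒯 n).map ψ.toLinearMap := ⟨τ, hτ, rfl⟩
  rw [hdegT] at h3
  have h4 : Submodule.span k {x | ∃ a ∈ 𝒜 n, ∃ b ∈ ℬ n, x = a ⊗ₜ[k] b} ≤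
      Q.restrictScalars k := by
    rw [Submodule.span_le]; rintro x ⟨a, ha, b, hb, rfl⟩; exact key a ha b hb
  exact h4 h3

include hdegT hψ hposR h0R hposS h0S hx hy ht ht1 in
/-- **Upper bound** for the dimension of a Segre product. -/
theorem ringKrullDim_le (hd : 0 < d) [Module.Finite k (R ⧸ Ideal.span (Set.range x))]
    [Module.Finite k (S ⧸ Ideal.span (Set.range y))] :
    ringKrullDim T ≤ ((r + s - 1 : ℕ) : WithBot ℕ∞) := by
  have hfin := finite_aeval_t 𝒜 ℬ 𝒯 ψ hdegT hψ hposR h0R hposS h0S x y hx hy t ht1 ht hd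
  have hFT : Algebra.FiniteType k T := finiteType_of_finite_aeval t hfin
  have hposT := pieceT_eq_bot 𝒜 ℬ 𝒯 ψ hdegT hψ hposR
  have h0T := pieceT_zero 𝒜 ℬ 𝒯 ψ hdegT hψ h0R h0S
  have hirr := irr_le_radical_zsum 𝒜 ℬ 𝒯 ψ hdegT hψ x y hx hy t ht
  have := finite_quotient_of_irr_le_radical 𝒯 hposT h0T _ hirr
  have h2 := finite_aeval 𝒯 (zsum t) (fun _ => d) hposT (fun _ => hd) (zsum_mem 𝒯 t ht1)
  exact ringKrullDim_le_of_finite_aeval _ h2

end upper

end Groth.Agent.Lib.helper26.Seg
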