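import Mathlib
import Groth.Agent.Lib.Helper26.Seg7

/-!
# Segre products, part 8: the polynomial Segre ring and the lower bound (helper26)

* `theta0 : k[Z_ij] → k[X, Y]`, `Z_ij ↦ X_i Y_j`; `Pn n` the kernel of `theta0` followed by killing
  the variables of rank `< n`: a chain of `r + s` primes of `k[Z_ij]`;
* `le_ringKrullDim_quotient`: `r + s - 1 ≤ dim k[Z_ij]/K` for `K ≤ ker theta0`;
* `gam_injective`: algebraically independent `x` in `R` and `y` in `S` give algebraically
  independent `x ⊗ 1, 1 ⊗ y` in `R ⊗ S`;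
* `le_ringKrullDim`: the lower bound for the dimension of a Segre product.
-/

set_option autoImplicit false
set_option linter.unusedSectionVars false
universe u
open scoped TensorProduct

namespace Groth.Agent.Lib.helper26.Seg

section poly

variable (k : Type u) [Field k] (r s : ℕ)

noncomputable def theta0 :
    MvPolynomial (Fin r × Fin s) k →ₐ[k] MvPolynomial (Fin r ⊕ Fin s) k :=
  MvPolynomial.aeval (fun p => MvPolynomial.X (Sum.inl p.1) * MvPolynomial.X (Sum.inr p.2))

/-- the order in which the variables are killed -/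
def rk : Fin r ⊕ Fin s → ℕ
  | Sum.inl i => if (i : ℕ) + 1 < r then (i : ℕ) else r + s - 2
  | Sum.inr j => if (j : ℕ) + 1 < s then r - 1 + (j : ℕ) else r + s

noncomputable def kappa (n : ℕ) :
    MvPolynomial (Fin r ⊕ Fin s) k →ₐ[k] MvPolynomial (Fin r ⊕ Fin s) k :=
  MvPolynomial.aeval (fun v => if rk r s v < n then 0 else MvPolynomial.X v)

theorem kappa_X (n : ℕ) (v : Fin r ⊕ Fin s) :
    kappa k r s n (MvPolynomial.X v) = if rk r s v < n then 0 else MvPolynomial.X v := by
  rw [kappa, MvPolynomial.aeval_X]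

theorem kappa_comp (n : ℕ) :
    (kappa k r s (n + 1)).comp (kappa k r s n) = kappa k r s (n + 1) := by
  apply MvPolynomial.algHom_ext
  intro v
  rw [AlgHom.comp_apply, kappa_X, kappa_X]
  by_cases h1 : rk r s v < n
  · rw [if_pos h1, map_zero, if_pos (by omega)]
  · rw [if_neg h1, kappa_X]

noncomputable def Pn (n : ℕ) : Ideal (MvPolynomial (Fin r × Fin s) k) :=
  RingHom.ker ((kappa k r s n).comp (theta0 k r s)).toRingHom

theorem mem_Pn {n : ℕ} {f : MvPolynomial (Fin r × Fin s) k} :
    f ∈ Pn k r s n ↔ kappa k r s n (theta0 k r s f) = 0 := Iff.rfl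

instance (n : ℕ) : (Pn k r s n).IsPrime := RingHom.ker_isPrime _

theorem Pn_le_succ (n : ℕ) : Pn k r s n ≤ Pn k r s (n + 1) := by
  intro f hf
  rw [mem_Pn] at hf ⊢
  rw [← kappa_comp, AlgHom.comp_apply, hf, map_zero]

theorem Pn_mono : Monotone (Pn k r s) := monotone_nat_of_le_succ (Pn_le_succ k r s)

theorem X_mem_Pn_iff (n : ℕ) (p : Fin r × Fin s) :
    MvPolynomial.X p ∈ Pn k r s n ↔ rk r s (Sum.inl p.1) < n ∨ rk r s (Sum.inr p.2) < n := by
  rw [mem_Pn, theta0, MvPolynomial.aeval_X, map_mul, kappa_X, kappa_X]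
  by_cases h1 : rk r s (Sum.inl p.1) < n
  · simp [h1]
  · by_cases h2 : rk r s (Sum.inr p.2) < n
    · simp [h2]
    · simp [h1, h2, MvPolynomial.X_ne_zero]

theorem exists_X_mem (hr : 1 ≤ r) (hs : 1 ≤ s) (n : ℕ) (hn : n < r + s - 1) :
    ∃ p : Fin r × Fin s, MvPolynomial.X p ∈ Pn k r s (n + 1) ∧
      MvPolynomial.X p ∉ Pn k r s n := by
  by_cases h1 : n + 1 < r
  · refine ⟨(⟨n, by omega⟩, ⟨s - 1, by omega⟩), ?_, ?_⟩
    · rw [X_mem_Pn_iff]; left
      simp only [rk]; rw [if_pos h1]; omega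
    · rw [X_mem_Pn_iff, not_or]
      simp only [rk]
      rw [if_pos h1, if_neg (by omega)]
      omega
  · by_cases h2 : n + 1 < r + s - 1
    · refine ⟨(⟨r - 1, by omega⟩, ⟨n - (r - 1), by omega⟩), ?_, ?_⟩
      · rw [X_mem_Pn_iff]; right
        simp only [rk]; rw [if_pos (by omega)]; omega
      · rw [X_mem_Pn_iff, not_or]
        simp only [rk]
        rw [if_neg (by omega), if_pos (by omega)]
        omega
    · refine ⟨(⟨r - 1, by omega⟩, ⟨s - 1, by omega⟩), ?_, ?_⟩
      · rw [X_mem_Pn_iff]; left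
        simp only [rk]; rw [if_neg (by omega)]; omega
      · rw [X_mem_Pn_iff, not_or]
        simp only [rk]
        rw [if_neg (by omega), if_neg (by omega)]
        omega

theorem Pn_lt_succ (hr : 1 ≤ r) (hs : 1 ≤ s) (n : ℕ) (hn : n < r + s - 1) :
    Pn k r s n < Pn k r s (n + 1) := by
  obtain ⟨p, hp1, hp2⟩ := exists_X_mem k r s hr hs n hn
  exact lt_of_le_of_ne (Pn_le_succ k r s n) (fun h => hp2 (h ▸ hp1))

/-- the lower bound for the dimension of the polynomial Segre ring -/
theorem le_ringKrullDim_quotient (hr : 1 ≤ r) (hs : 1 ≤ s)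
    (K : Ideal (MvPolynomial (Fin r × Fin s) k)) (hK : K ≤ Pn k r s 0) :
    ((r + s - 1 : ℕ) : WithBot ℕ∞) ≤ ringKrullDim (MvPolynomial (Fin r × Fin s) k ⧸ K) := by
  rw [ringKrullDim_quotient, Order.le_krullDim_iff]
  let f : Fin (r + s - 1 + 1) → PrimeSpectrum.zeroLocus (R := MvPolynomial (Fin r × Fin s) k) K :=
    fun i => ⟨⟨Pn k r s i, inferInstance⟩, by
      rw [PrimeSpectrum.mem_zeroLocus]
      exact hK.trans (Pn_mono k r s (Nat.zero_le _))⟩
  have hf : StrictMono f := by
    rw [Fin.strictMono_iff_lt_succ]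
    intro i
    rw [← Subtype.coe_lt_coe, ← PrimeSpectrum.asIdeal_lt_asIdeal]
    exact Pn_lt_succ k r s hr hs i i.2
  exact ⟨LTSeries.mk _ f hf, rfl⟩

end poly

section gam

variable {k : Type u} [Field k] {R : Type u} [CommRing R] [Algebra k R]
  {S : Type u} [CommRing S] [Algebra k S] {ι κ : Type}

variable (k) in
noncomputable def gam (x : ι → R) (y : κ → S) : MvPolynomial (ι ⊕ κ) k →ₐ[k] R ⊗[k] S :=
  MvPolynomial.aeval (Sum.elim (fun i => x i ⊗ₜ[k] (1 : S)) (fun j => (1 : R) ⊗ₜ[k] y j))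

theorem gam_comp (x : ι → R) (y : κ → S) :
    (gam k x y).comp (MvPolynomial.tensorEquivSum k ι κ k).toAlgHom =
      Algebra.TensorProduct.map (MvPolynomial.aeval (R := k) x) (MvPolynomial.aeval (R := k) y) := by
  apply Algebra.TensorProduct.ext
  · apply MvPolynomial.algHom_ext
    intro i
    simp [gam]
  · apply MvPolynomial.algHom_ext
    intro j
    simp [gam]

theorem gam_injective (x : ι → R) (y : κ → S)
    (hx : Function.Injective (MvPolynomial.aeval (R := k) x))
    (hy : Function.Injective (MvPolynomial.aeval (R := k) y)) :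
    Function.Injective (gam k x y) := by
  have h1 : Function.Injective (Algebra.TensorProduct.map (MvPolynomial.aeval (R := k) x)
      (MvPolynomial.aeval (R := k) y)) :=
    TensorProduct.map_injective_of_flat_flat (MvPolynomial.aeval (R := k) x).toLinearMap
      (MvPolynomial.aeval (R := k) y).toLinearMap hx hy
  rw [← gam_comp] at h1
  intro a b hab
  have h2 := @h1 ((MvPolynomial.tensorEquivSum k ι κ k).symm a)
    ((MvPolynomial.tensorEquivSum k ι κ k).symm b) (by simpa using hab)
  exact (MvPolynomial.tensorEquivSum k ι κ k).symm.injective h2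

end gam

end Groth.Agent.Lib.helper26.Seg
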