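import Mathlib
import Groth.Agent.Lib.Helper26.Seg8

/-!
# Segre products, part 9: the lower bound, powers of systems of parameters (helper26)

* `le_ringKrullDim`: `r + s - 1 ≤ dim T` when `x`, `y` are algebraically independent and `T` is
  finite over `k[t_ij]`;
* `finite_quotient_pow`: powers of a homogeneous system of parameters;
* `injective_aeval_of_finite_quotient`: a homogeneous system of parameters with `dim R` members
  is algebraically independent.
-/

set_option autoImplicit false
set_option linter.unusedSectionVars false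
universe u
open scoped TensorProduct

namespace Groth.Agent.Lib.helper26.Seg

section lower

variable {k : Type u} [Field k] {R : Type u} [CommRing R] [Algebra k R]
  {S : Type u} [CommRing S] [Algebra k S]
  {T : Type u} [CommRing T] [Algebra k T]
  (ψ : T →ₐ[k] R ⊗[k] S) (hψ : Function.Injective ψ)
  {r s : ℕ} (x : Fin r → R) (y : Fin s → S)
  (t : Fin r × Fin s → T) (ht : ∀ p, ψ (t p) = x p.1 ⊗ₜ[k] y p.2)

include ht in
theorem psi_comp_aeval :
    ψ.comp (MvPolynomial.aeval (R := k) t) = (gam k x y).comp (theta0 k r s) := by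
  apply MvPolynomial.algHom_ext
  intro p
  simp [theta0, gam, ht]

include ht hψ in
/-- **Lower bound** for the dimension of a Segre product. -/
theorem le_ringKrullDim (hr : 1 ≤ r) (hs : 1 ≤ s)
    (hx : Function.Injective (MvPolynomial.aeval (R := k) x))
    (hy : Function.Injective (MvPolynomial.aeval (R := k) y))
    (hfin : (MvPolynomial.aeval (R := k) t).toRingHom.Finite) :
    ((r + s - 1 : ℕ) : WithBot ℕ∞) ≤ ringKrullDim T := by
  set Φ := (MvPolynomial.aeval (R := k) t) with hΦ
  set K := RingHom.ker Φ.toRingHom with hKdef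
  have hK : K ≤ Pn k r s 0 := by
    intro f hf
    rw [mem_Pn]
    have h1 : Φ f = 0 := hf
    have h2 : gam k x y (theta0 k r s f) = 0 := by
      have := DFunLike.congr_fun (psi_comp_aeval ψ x y t ht) f
      simp only [AlgHom.comp_apply] at this
      rw [← this, h1, map_zero]
    rw [(injective_iff_map_eq_zero _).1 (gam_injective x y hx hy) _ h2, map_zero]
  have h3 := le_ringKrullDim_quotient k r s hr hs K hK
  refine h3.trans ?_
  apply ringKrullDim_le_of_isIntegral_of_injective (RingHom.kerLift Φ.toRingHom) _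
    (RingHom.kerLift_injective _)
  have h4 : (RingHom.kerLift Φ.toRingHom).comp (Ideal.Quotient.mk K) = Φ.toRingHom := by
    ext <;> rfl
  exact RingHom.IsIntegral.tower_top (Ideal.Quotient.mk K) _ (by rw [h4]; exact hfin.to_isIntegral)

end lower

section graded

variable {k : Type u} [Field k] {R : Type u} [CommRing R] [Algebra k R]
  (𝒜 : ℤ → Submodule k R) [GradedAlgebra 𝒜] [Algebra.FiniteType k R]
  (hpos : ∀ n : ℤ, n < 0 → 𝒜 n = ⊥) (h0 : 𝒜 0 = Submodule.span k {(1 : R)})
  {ι : Type} [Finite ι] {d : ℕ} (x : ι → R) (hx : ∀ i, x i ∈ 𝒜 (d : ℤ))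

include hpos h0 hx in
theorem finite_quotient_pow [Module.Finite k (R ⧸ Ideal.span (Set.range x))] (e : ℕ) :
    Module.Finite k (R ⧸ Ideal.span (Set.range (fun i => x i ^ e))) := by
  have hxh : (Ideal.span (Set.range x)).IsHomogeneous 𝒜 := by
    apply Ideal.homogeneous_span
    rintro _ ⟨i, rfl⟩
    exact ⟨_, hx i⟩
  apply finite_quotient_of_irr_le_radical 𝒜 hpos h0
  refine (irr_le_radical_of_finite_quotient 𝒜 _ hxh).trans ?_
  rw [Ideal.radical_le_radical_iff, Ideal.span_le]
  rintro _ ⟨i, rfl⟩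
  exact ⟨e, Ideal.subset_span ⟨i, rfl⟩⟩

include hx in
theorem pow_mem_piece (e : ℕ) (i : ι) : x i ^ e ∈ 𝒜 ((d * e : ℕ) : ℤ) := by
  have h1 : x i ^ e ∈ 𝒜 (e • (d : ℤ)) := SetLike.pow_mem_graded e (hx i)
  have h2 : e • (d : ℤ) = ((d * e : ℕ) : ℤ) := by
    rw [nsmul_eq_mul]; push_cast; ring
  rwa [h2] at h1

end graded

section graded2

variable {k : Type u} [Field k] {R : Type u} [CommRing R] [Algebra k R]
  (𝒜 : ℤ → Submodule k R) [GradedAlgebra 𝒜]
  (hpos : ∀ n : ℤ, n < 0 → 𝒜 n = ⊥) {d : ℕ}

include hpos in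
theorem injective_aeval_of_finite_quotient {r : ℕ} (x : Fin r → R) (hx : ∀ i, x i ∈ 𝒜 (d : ℤ))
    (hd : 0 < d) (hdim : ringKrullDim R = r)
    [Module.Finite k (R ⧸ Ideal.span (Set.range x))] :
    Function.Injective (MvPolynomial.aeval (R := k) x) := by
  have hfin := finite_aeval 𝒜 x (fun _ => d) hpos (fun _ => hd) hx
  have hF : FiniteRingKrullDim R := by
    rw [finiteRingKrullDim_iff_ne_bot_and_top, hdim]
    exact ⟨WithBot.coe_ne_bot, by
      intro h
      have : ((r : ℕ∞) : WithBot ℕ∞) = ((⊤ : ℕ∞) : WithBot ℕ∞) := h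
      exact ENat.natCast_ne_top r (WithBot.coe_injective this)⟩
  have hN : Nontrivial R := Nontrivial.of_finiteRingKrullDim
  apply injective_of_isIntegral_of_dim_le _ hfin.to_isIntegral
  rw [MvPolynomial.ringKrullDim_of_isNoetherianRing, ringKrullDim_eq_zero_of_field, zero_add,
    Nat.card_fin, hdim]

end graded2

end Groth.Agent.Lib.helper26.Seg
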