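import Mathlib
import Groth.Agent.Lib.Helper26.Seg9
import Groth.Agent.Lib.Helper26.AffEquidim
import Groth.Agent.Lib.Helper26.CM7
import Groth.Agent.Lib.Helper26.DepthCR

/-!
# Positively graded algebras, part 10: the irrelevant ideal is maximal of height `dim R`;
homogeneous non-zero-divisors (helper26)

* `decompose_zero_of_mem_irr`, `irr_ne_top`, `eq_irr_of_le`, `irr_isMaximal`;
* `height_irr`: `ht R₊ = dim R` for a positively graded finite type algebra over a field;
* `exists_homogeneous_regular`: if `depth_{R₊} R ≥ 1` there is a homogeneous non-zero-divisor of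
  positive degree.
-/

set_option autoImplicit false
set_option linter.unusedSectionVars false
universe u

namespace Groth.Agent.Lib.helper26.Seg

variable {k : Type u} [Field k] {R : Type u} [CommRing R] [Algebra k R]
  (𝒜 : ℤ → Submodule k R) [GradedAlgebra 𝒜]
  (hpos : ∀ n : ℤ, n < 0 → 𝒜 n = ⊥) (h0 : 𝒜 0 = Submodule.span k {(1 : R)})

include hpos in
theorem decompose_zero_of_mem_irr {r : R} (hr : r ∈ irr 𝒜) :
    ((DirectSum.decompose 𝒜 r 0 : 𝒜 0) : R) = 0 := by
  unfold irr at hr
  induction hr using Submodule.closure_induction with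
  | zero => simp
  | add x y _ _ hx hy =>
    rw [DirectSum.decompose_add, DirectSum.add_apply, Submodule.coe_add, hx, hy, add_zero]
  | smul_mem c g hg =>
    simp only [Set.mem_iUnion, SetLike.mem_coe] at hg
    obtain ⟨n, hn, hg⟩ := hg
    rw [Set.mem_Ioi] at hn
    rw [smul_eq_mul]
    have h1 : (0 : ℤ) = -n + n := by ring
    rw [coe_decompose_congr 𝒜 _ h1, DirectSum.coe_decompose_mul_add_of_right_mem 𝒜 hg]
    have hle : 𝒜 (-n) ≤ ⊥ := (hpos _ (by omega)).le
    have := hle (DirectSum.decompose 𝒜 c (-n)).2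
    rw [Submodule.mem_bot] at this
    rw [this, zero_mul]

include hpos in
theorem irr_ne_top [Nontrivial R] : irr 𝒜 ≠ ⊤ := by
  intro h
  have h1 : (1 : R) ∈ irr 𝒜 := by rw [h]; trivial
  have h2 := decompose_zero_of_mem_irr 𝒜 hpos h1
  rw [DirectSum.decompose_of_mem_same 𝒜 (SetLike.GradedOne.one_mem)] at h2
  exact one_ne_zero h2

include hpos h0 in
theorem eq_irr_of_le (Q : Ideal R) (hQ : Q ≠ ⊤) (h : irr 𝒜 ≤ Q) : Q = irr 𝒜 := by
  apply le_antisymm _ h
  intro t ht
  obtain ⟨c, hc⟩ := exists_sub_mem_irr 𝒜 hpos h0 t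
  have h1 : algebraMap k R c ∈ Q := by
    have := Q.sub_mem ht (h hc)
    simpa using this
  have hc0 : c = 0 := by
    by_contra hne
    apply hQ
    rw [Ideal.eq_top_iff_one]
    have : (1 : R) = algebraMap k R c⁻¹ * algebraMap k R c := by
      rw [← map_mul, inv_mul_cancel₀ hne, map_one]
    rw [this]
    exact Q.mul_mem_left _ h1
  rw [hc0, map_zero, sub_zero] at hc
  exact hc

include hpos h0 in
theorem irr_isMaximal [Nontrivial R] : (irr 𝒜).IsMaximal := by
  rw [Ideal.isMaximal_def]
  refine ⟨irr_ne_top 𝒜 hpos, fun J hJ => ?_⟩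
  by_contra hne
  have := eq_irr_of_le 𝒜 hpos h0 J hne hJ.le
  exact hJ.ne this.symm

include hpos h0 in
/-- `ht R₊ = dim R`. -/
theorem height_irr [Algebra.FiniteType k R] (s : ℕ) (hs : ringKrullDim R = s) :
    (irr 𝒜).height = s := by
  have hF : FiniteRingKrullDim R := by
    rw [finiteRingKrullDim_iff_ne_bot_and_top, hs]
    exact ⟨WithBot.coe_ne_bot, by
      intro h
      have : ((s : ℕ∞) : WithBot ℕ∞) = ((⊤ : ℕ∞) : WithBot ℕ∞) := h
      exact ENat.natCast_ne_top s (WithBot.coe_injective this)⟩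
  have hN : Nontrivial R := Nontrivial.of_finiteRingKrullDim
  have hmax := irr_isMaximal 𝒜 hpos h0
  have hprime : (irr 𝒜).IsPrime := hmax.isPrime
  apply le_antisymm
  · have h1 := Ideal.height_le_ringKrullDim_of_ne_top (irr_ne_top 𝒜 hpos)
    rw [hs] at h1
    exact_mod_cast h1
  · obtain ⟨d, hd, z, hz, hfinq⟩ := exists_homogeneous_sop 𝒜 hpos h0 s hs.le
    have hfin := finite_aeval 𝒜 z (fun _ => d) hpos (fun _ => hd) hz
    have hinj := injective_aeval_of_finite_quotient 𝒜 hpos z hz hd hs
    set α := (MvPolynomial.aeval (R := k) z) with hα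
    let _ : Algebra (MvPolynomial (Fin s) k) R := α.toRingHom.toAlgebra
    have halg : ∀ p, algebraMap (MvPolynomial (Fin s) k) R p = α p := fun _ => rfl
    have hint : Algebra.IsIntegral (MvPolynomial (Fin s) k) R := ⟨hfin.to_isIntegral⟩
    set q := (irr 𝒜).comap (algebraMap (MvPolynomial (Fin s) k) R) with hq
    have hqmax : q.IsMaximal := Ideal.isMaximal_comap_of_isIntegral_of_isMaximal (irr 𝒜)
    have hqprime : q.IsPrime := hqmax.isPrime
    -- `ht q = s`
    have hhtq : q.height = s := by
      have h1 := Groth.Agent.Lib.helper26.DimFormula.height_add_dim_quotient_of_domain k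
        (MvPolynomial (Fin s) k) q
      have h2 : ringKrullDim (MvPolynomial (Fin s) k ⧸ q) = 0 := by
        have : IsField (MvPolynomial (Fin s) k ⧸ q) :=
          (Ideal.Quotient.maximal_ideal_iff_isField_quotient q).1 hqmax
        exact ringKrullDim_eq_zero_of_isField this
      rw [h2, add_zero, MvPolynomial.ringKrullDim_of_isNoetherianRing,
        ringKrullDim_eq_zero_of_field, zero_add, Nat.card_fin] at h1
      exact_mod_cast h1
    -- a chain of length `s` ending at `q`
    obtain ⟨l, hllast, hllen⟩ := Ideal.exists_ltSeries_length_eq_height q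
    have hinj' : Function.Injective (algebraMap (MvPolynomial (Fin s) k) R) := hinj
    -- lying over the head
    obtain ⟨P₀, -, hP₀prime, hP₀⟩ := Ideal.exists_ideal_over_prime_of_isIntegral
      (S := R) l.head.asIdeal (⊥ : Ideal R) (by
        rw [← RingHom.ker_eq_comap_bot, (RingHom.injective_iff_ker_eq_bot _).mp hinj']
        exact bot_le)
    have hlo : P₀.LiesOver l.head.asIdeal := ⟨hP₀.symm⟩
    obtain ⟨L, hLlen, hLhead, hLmap⟩ := Ideal.exists_ltSeries_of_hasGoingUp l P₀
    have hlast : PrimeSpectrum.comap (algebraMap (MvPolynomial (Fin s) k) R) L.last = l.last := by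
      have h1 := congrArg List.getLast? hLmap
      rw [List.getLast?_map, List.getLast?_eq_some_getLast L.toList_ne_nil,
        List.getLast?_eq_some_getLast l.toList_ne_nil, RelSeries.getLast_toList,
        RelSeries.getLast_toList, Option.map_some] at h1
      exact Option.some_injective _ h1
    -- `L.last = irr`
    have hQ : L.last.asIdeal = irr 𝒜 := by
      apply eq_irr_of_le 𝒜 hpos h0 _ L.last.2.ne_top
      have hxh : (Ideal.span (Set.range z)).IsHomogeneous 𝒜 := by
        apply Ideal.homogeneous_span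
        rintro _ ⟨i, rfl⟩
        exact ⟨_, hz i⟩
      refine (irr_le_radical_of_finite_quotient 𝒜 _ hxh).trans ?_
      rw [L.last.2.radical_le_iff, Ideal.span_le]
      rintro _ ⟨i, rfl⟩
      have h2 : (MvPolynomial.X i : MvPolynomial (Fin s) k) ∈ q := by
        rw [hq, Ideal.mem_comap, halg, hα, MvPolynomial.aeval_X]
        exact mem_irr_of_mem 𝒜 (by exact_mod_cast hd) (hz i)
      have h3 : (MvPolynomial.X i : MvPolynomial (Fin s) k) ∈
          (PrimeSpectrum.comap (algebraMap (MvPolynomial (Fin s) k) R) L.last).asIdeal := by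
        rw [hlast, hllast]; exact h2
      have h4 : algebraMap (MvPolynomial (Fin s) k) R (MvPolynomial.X i) ∈ L.last.asIdeal := h3
      rwa [halg, hα, MvPolynomial.aeval_X] at h4
    have h5 : (L.length : ℕ∞) ≤ Order.height L.last := Order.length_le_height_last
    rw [← PrimeSpectrum.height_eq_orderHeight, hQ, hLlen, hllen, hhtq] at h5
    exact h5

include hpos in
/-- a homogeneous non-zero-divisor of positive degree, when `depth_{R₊} R ≥ 1` -/
theorem exists_homogeneous_regular [IsNoetherianRing R] [Nontrivial R]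
    (hdepth : 1 ≤ LocCoh.idealDepth (irr 𝒜) R) :
    ∃ (d : ℕ) (_ : 0 < d) (x : R), x ∈ 𝒜 (d : ℤ) ∧ IsSMulRegular R x := by
  classical
  have hfin : (associatedPrimes R R).Finite := associatedPrimes.finite R R
  have hIM : irr 𝒜 • (⊤ : Submodule R R) ≠ ⊤ := by
    rw [smul_eq_mul, Ideal.mul_top]
    exact irr_ne_top 𝒜 hpos
  have hs : ∀ p ∈ hfin.toFinset, p.IsPrime ∧ ¬ irr 𝒜 ≤ p := by
    intro p hp
    rw [Set.Finite.mem_toFinset] at hp
    obtain ⟨hprime, m, hm⟩ := (isAssociatedPrime_iff).1 hp
    refine ⟨hprime, fun hle => ?_⟩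
    have hm0 : m ≠ 0 := by
      rintro rfl
      apply hprime.ne_top
      rw [hm, Ideal.eq_top_iff_one, Submodule.mem_colon_singleton]
      simp
    have h0' := Groth.Agent.Lib.helper26.Depth.idealDepth_eq_zero_of_annihilated (irr 𝒜) R hIM m
      hm0 (by
        intro a ha
        have := hle ha
        rw [hm, Submodule.mem_colon_singleton, Submodule.mem_bot] at this
        exact this)
    rw [h0'] at hdepth
    exact absurd hdepth (by simp)
  obtain ⟨d, hd, x, hx, hxs⟩ := exists_homogeneous_notMem 𝒜 hfin.toFinset.card hfin.toFinset rfl hs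
  refine ⟨d, hd, x, hx, ?_⟩
  by_contra hreg
  have h1 : x ∈ {r : R | IsSMulRegular R r}ᶜ := hreg
  rw [← biUnion_associatedPrimes_eq_compl_regular R R] at h1
  simp only [Set.mem_iUnion, SetLike.mem_coe] at h1
  obtain ⟨p, hp, hxp⟩ := h1
  exact hxs p (by rw [Set.Finite.mem_toFinset]; exact hp) hxp

end Groth.Agent.Lib.helper26.Seg
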