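import Mathlib
import Groth.Agent.Lib.Helper26.Seg10

/-!
# Standard graded algebras of dimension one (helper26)

`R` a positively graded finite type algebra over a field `k` with `𝒜 0 = k`.

* `exists_not_isNilpotent`: if `R₊` is generated by `𝒜 1` and `dim R ≥ 1` there is a non-nilpotent
  element of degree one;
* `dichotomy`: for a homogeneous non-zero-divisor `x` of degree `d > 0` in a ring of dimension `≤ 1`
  either `R/xR` has a homogeneous socle element of degree `≥ d` or `𝒜 n ⊆ xR` for all `n ≥ d`;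
* `nonempty_algEquiv_polynomial`: if `a ∈ 𝒜 1` is not nilpotent and `𝒜 n ⊆ aR` for `n ≥ 1` then
  `R ≅ k[X]`;
* `exists_socle`: a standard graded Cohen–Macaulay-like (it has a homogeneous non-zero-divisor)
  ring of dimension one which is not a polynomial ring has a homogeneous non-zero-divisor `x` of
  degree `D` such that `R/xR` has a socle element of degree `≥ D`.
-/

set_option autoImplicit false
set_option linter.unusedSectionVars false
universe u

namespace Groth.Agent.Lib.helper26.Seg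

variable {k : Type u} [Field k] {R : Type u} [CommRing R] [Algebra k R]
  (𝒜 : ℤ → Submodule k R) [GradedAlgebra 𝒜]
  (hpos : ∀ n : ℤ, n < 0 → 𝒜 n = ⊥) (h0 : 𝒜 0 = Submodule.span k {(1 : R)})

include hpos h0 in
theorem exists_not_isNilpotent
    (hstd : irr 𝒜 = Ideal.span ((𝒜 1 : Submodule k R) : Set R)) (hdim : 1 ≤ ringKrullDim R) :
    ∃ a ∈ 𝒜 1, ¬ IsNilpotent a := by
  by_contra hcon
  push Not at hcon
  have hN : Nontrivial R := by
    by_contra hne
    rw [not_nontrivial_iff_subsingleton] at hne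
    rw [ringKrullDim_eq_bot_of_subsingleton] at hdim
    exact absurd hdim (by simp)
  have hle : irr 𝒜 ≤ nilradical R := by
    rw [hstd, Ideal.span_le]
    intro a ha
    exact hcon a ha
  have h1 : Ring.KrullDimLE 0 R := by
    rw [Ring.krullDimLE_zero_iff]
    intro p hp
    have : p = irr 𝒜 := eq_irr_of_le 𝒜 hpos h0 p hp.ne_top
      (hle.trans (nilradical_le_prime p))
    rw [this]
    exact irr_isMaximal 𝒜 hpos h0
  rw [Ring.krullDimLE_iff] at h1
  have := hdim.trans h1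
  exact absurd this (by norm_num)

/-- homogeneous quotient: if `r ∈ 𝒜 n` is a multiple of `x ∈ 𝒜 d` then the cofactor can be taken
in `𝒜 (n - d)`. -/
theorem exists_mul_eq_of_mem_span_singleton {x : R} {d : ℤ} (hx : x ∈ 𝒜 d) {n : ℤ} {r : R}
    (hr : r ∈ 𝒜 n) (hmem : r ∈ Ideal.span {x}) : ∃ c ∈ 𝒜 (n - d), r = c * x := by
  classical
  obtain ⟨c, rfl⟩ := Ideal.mem_span_singleton'.1 hmem
  refine ⟨((DirectSum.decompose 𝒜 c (n - d) : 𝒜 (n - d)) : R),
    (DirectSum.decompose 𝒜 c (n - d)).2, ?_⟩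
  have h1 : ((DirectSum.decompose 𝒜 (c * x) n : 𝒜 n) : R) = c * x :=
    DirectSum.decompose_of_mem_same _ hr
  have hn' : n = (n - d) + d := by ring
  rw [← h1, coe_decompose_congr 𝒜 _ hn',
    DirectSum.coe_decompose_mul_add_of_right_mem 𝒜 (a := c) (i := n - d) hx]

include hpos h0 in
theorem dichotomy [Algebra.FiniteType k R] (hdim : ringKrullDim R ≤ 1) {d : ℕ} (hd : 0 < d)
    {x : R} (hx : x ∈ 𝒜 (d : ℤ)) (hreg : IsSMulRegular R x) :
    (∃ e : ℤ, (d : ℤ) ≤ e ∧ ∃ r ∈ 𝒜 e, r ∉ Ideal.span {x} ∧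
      ∀ a ∈ irr 𝒜, a * r ∈ Ideal.span {x}) ∨
    (∀ n : ℤ, (d : ℤ) ≤ n → ∀ r ∈ 𝒜 n, r ∈ Ideal.span {x}) := by
  classical
  by_cases hall : ∀ n : ℤ, (d : ℤ) ≤ n → ∀ r ∈ 𝒜 n, r ∈ Ideal.span {x}
  · exact Or.inr hall
  left
  push Not at hall
  -- `R/xR` is finite over `k`
  have hxnzd : x ∈ nonZeroDivisors R := by
    rw [mem_nonZeroDivisors_iff_right]
    intro z hz
    apply hreg
    show x • z = x • 0
    rw [smul_eq_mul, smul_eq_mul, mul_zero, mul_comm]
    exact hz
  have h1 := ringKrullDim_quotient_succ_le_of_nonZeroDivisor hxnzd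
  have h2 : ringKrullDim (R ⧸ Ideal.span {x}) ≤ 0 := by
    have h3 := h1.trans hdim
    have h4 := le_pred_of_add_one_le (e := 1) (by exact_mod_cast h3)
    simpa using h4
  have hfin := finite_quotient_of_dim_le_zero (k := k) (Ideal.span {x}) h2
  have hxh : (Ideal.span {x}).IsHomogeneous 𝒜 := by
    apply Ideal.homogeneous_span
    rintro _ rfl
    exact ⟨_, hx⟩
  obtain ⟨n₀, hn₀⟩ := exists_le_of_finite_quotient 𝒜 _ hxh
  obtain ⟨e, ⟨hde, r, hr, hrx⟩, hmax⟩ := Int.exists_greatest_of_bdd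
    (P := fun n => (d : ℤ) ≤ n ∧ ∃ r ∈ 𝒜 n, r ∉ Ideal.span {x})
    ⟨n₀, by
      rintro n ⟨-, r, hr, hrx⟩
      by_contra hlt
      push Not at hlt
      exact hrx (hn₀ n hlt r hr)⟩
    (by
      obtain ⟨n, hn, r, hr, hrx⟩ := hall
      exact ⟨n, hn, r, hr, hrx⟩)
  refine ⟨e, hde, r, hr, hrx, ?_⟩
  intro a ha
  unfold irr at ha
  induction ha using Submodule.closure_induction with
  | zero => simp
  | add y z _ _ hy hz => rw [add_mul]; exact add_mem hy hz
  | smul_mem c g hg =>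
    simp only [Set.mem_iUnion, SetLike.mem_coe] at hg
    obtain ⟨j, hj, hg⟩ := hg
    rw [Set.mem_Ioi] at hj
    rw [smul_eq_mul, mul_assoc]
    apply Ideal.mul_mem_left
    by_contra hne
    have := hmax (j + e) ⟨by omega, g * r, SetLike.mul_mem_graded hg hr, hne⟩
    omega

include h0 in
/-- if all pieces of degree `≥ 1` are multiples of `a ∈ 𝒜 1` then `𝒜 n = k aⁿ`. -/
theorem piece_eq_span_pow {a : R} (ha : a ∈ 𝒜 1)
    (hall : ∀ n : ℤ, 1 ≤ n → ∀ r ∈ 𝒜 n, r ∈ Ideal.span {a}) (n : ℕ) :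
    ∀ r ∈ 𝒜 (n : ℤ), ∃ c : k, r = c • a ^ n := by
  induction n with
  | zero =>
    intro r hr
    rw [Nat.cast_zero, h0] at hr
    obtain ⟨c, rfl⟩ := Submodule.mem_span_singleton.1 hr
    exact ⟨c, by simp⟩
  | succ n ih =>
    intro r hr
    obtain ⟨c, hc, rfl⟩ := exists_mul_eq_of_mem_span_singleton 𝒜 ha hr
      (hall _ (by push_cast; omega) r hr)
    have hc' : c ∈ 𝒜 (n : ℤ) := by
      have : ((n + 1 : ℕ) : ℤ) - 1 = (n : ℤ) := by push_cast; ring
      rwa [this] at hc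
    obtain ⟨c', rfl⟩ := ih c hc'
    exact ⟨c', by rw [smul_mul_assoc, pow_succ]⟩

include hpos h0 in
theorem bijective_aeval_of_forall_mem_span {a : R} (ha : a ∈ 𝒜 1) (hnil : ¬ IsNilpotent a)
    (hall : ∀ n : ℤ, 1 ≤ n → ∀ r ∈ 𝒜 n, r ∈ Ideal.span {a}) :
    Function.Bijective (Polynomial.aeval (R := k) a) := by
  classical
  have hpow : ∀ n : ℕ, a ^ n ∈ 𝒜 (n : ℤ) := by
    intro n
    have := SetLike.pow_mem_graded n ha
    simpa using this
  have hpow0 : ∀ n : ℕ, a ^ n ≠ 0 := fun n h => hnil ⟨n, h⟩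
  have hsurj : Function.Surjective (Polynomial.aeval (R := k) a) := by
    intro r
    rw [← DirectSum.sum_support_decompose 𝒜 r]
    have : ∀ n : ℤ, ∃ p : Polynomial k, Polynomial.aeval a p =
        ((DirectSum.decompose 𝒜 r n : 𝒜 n) : R) := by
      intro n
      by_cases hn : n < 0
      · refine ⟨0, ?_⟩
        have hle : 𝒜 n ≤ ⊥ := (hpos n hn).le
        have := hle (DirectSum.decompose 𝒜 r n).2
        rw [Submodule.mem_bot] at this
        rw [this, map_zero]
      · push Not at hn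
        obtain ⟨m, rfl⟩ := Int.eq_ofNat_of_zero_le hn
        obtain ⟨c, hc⟩ := piece_eq_span_pow 𝒜 h0 ha hall m _ (DirectSum.decompose 𝒜 r m).2
        refine ⟨Polynomial.C c * Polynomial.X ^ m, ?_⟩
        rw [hc, map_mul, map_pow, Polynomial.aeval_X, Polynomial.aeval_C, Algebra.smul_def]
    choose p hp using this
    refine ⟨∑ n ∈ DFinsupp.support (DirectSum.decompose 𝒜 r), p n, ?_⟩
    rw [map_sum]
    exact Finset.sum_congr rfl fun n _ => hp n
  have hinj : Function.Injective (Polynomial.aeval (R := k) a) := by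
    rw [injective_iff_map_eq_zero]
    intro p hp
    ext n
    rw [Polynomial.coeff_zero]
    have h1 : ((DirectSum.decompose 𝒜 (Polynomial.aeval a p) (n : ℤ) : 𝒜 (n : ℤ)) : R) =
        p.coeff n • a ^ n := by
      rw [Polynomial.aeval_eq_sum_range, DirectSum.decompose_sum, DFinsupp.finsetSum_apply,
        AddSubmonoidClass.coe_finsetSum]
      rw [Finset.sum_eq_single n]
      · rw [DirectSum.decompose_of_mem_same 𝒜 (Submodule.smul_mem _ _ (hpow n))]
      · intro m _ hmn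
        rw [DirectSum.decompose_of_mem_ne 𝒜 (Submodule.smul_mem _ _ (hpow m))
          (by exact_mod_cast hmn)]
      · intro hn
        rw [Finset.mem_range, not_lt] at hn
        have : p.coeff n = 0 := Polynomial.coeff_eq_zero_of_natDegree_lt (by omega)
        rw [this, zero_smul, DirectSum.decompose_zero]
        rfl
    rw [hp, DirectSum.decompose_zero] at h1
    have h2 : p.coeff n • a ^ n = 0 := by rw [← h1]; rfl
    rcases smul_eq_zero.1 h2 with h | h
    · exact h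
    · exact absurd h (hpow0 n)
  exact ⟨hinj, hsurj⟩

include hpos h0 in
theorem nonempty_algEquiv_polynomial {a : R} (ha : a ∈ 𝒜 1) (hnil : ¬ IsNilpotent a)
    (hall : ∀ n : ℤ, 1 ≤ n → ∀ r ∈ 𝒜 n, r ∈ Ideal.span {a}) :
    Nonempty (R ≃ₐ[k] Polynomial k) :=
  ⟨(AlgEquiv.ofBijective _ (bijective_aeval_of_forall_mem_span 𝒜 hpos h0 ha hnil hall)).symm⟩

include hpos h0 in
/-- a standard graded ring of dimension one with a homogeneous non-zero-divisor, which is not a
polynomial ring, has a homogeneous non-zero-divisor `x'` of some degree `D > 0` such that `R/x'R`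
has a homogeneous socle element of degree `≥ D`. -/
theorem exists_socle [Algebra.FiniteType k R]
    (hstd : irr 𝒜 = Ideal.span ((𝒜 1 : Submodule k R) : Set R)) (hdim : ringKrullDim R = 1)
    (hnp : IsEmpty (R ≃ₐ[k] Polynomial k)) {d : ℕ} (hd : 0 < d) {x : R} (hx : x ∈ 𝒜 (d : ℤ))
    (hreg : IsSMulRegular R x) :
    ∃ (D : ℕ) (_ : 0 < D) (x' : R), x' ∈ 𝒜 (D : ℤ) ∧ IsSMulRegular R x' ∧
      ∃ e : ℤ, (D : ℤ) ≤ e ∧ ∃ r ∈ 𝒜 e, r ∉ Ideal.span {x'} ∧
        ∀ a ∈ irr 𝒜, a * r ∈ Ideal.span {x'} := by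
  rcases dichotomy 𝒜 hpos h0 hdim.le hd hx hreg with h | h
  · exact ⟨d, hd, x, hx, hreg, h⟩
  · obtain ⟨a, ha, hnil⟩ := exists_not_isNilpotent 𝒜 hpos h0 hstd hdim.ge
    have hapow : a ^ d ∈ 𝒜 (d : ℤ) := by
      have := SetLike.pow_mem_graded d ha
      simpa using this
    obtain ⟨c, hc, hcx⟩ := exists_mul_eq_of_mem_span_singleton 𝒜 hx hapow (h d le_rfl _ hapow)
    rw [sub_self, h0] at hc
    obtain ⟨l, rfl⟩ := Submodule.mem_span_singleton.1 hc
    have hl : l ≠ 0 := by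
      rintro rfl
      rw [zero_smul, zero_mul] at hcx
      exact hnil ⟨d, hcx⟩
    have harreg : IsSMulRegular R a := by
      intro z w hzw
      simp only [smul_eq_mul] at hzw
      have h1 : a ^ d * z = a ^ d * w := by
        obtain ⟨d', rfl⟩ : ∃ d', d = d' + 1 := ⟨d - 1, by omega⟩
        rw [pow_succ, mul_assoc, mul_assoc, hzw]
      rw [hcx, smul_mul_assoc, one_mul, smul_mul_assoc, smul_mul_assoc] at h1
      have h2 : x * z = x * w := smul_right_injective R hl h1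
      exact hreg h2
    rcases dichotomy 𝒜 hpos h0 hdim.le one_pos (by simpa using ha) harreg with h' | h'
    · exact ⟨1, one_pos, a, by simpa using ha, harreg, h'⟩
    · exact (hnp.false (nonempty_algEquiv_polynomial 𝒜 hpos h0 ha hnil
        (by simpa using h')).some).elim

/-- passing to powers of the non-zero-divisor -/
theorem socle_pow {D : ℕ} {x : R} (hx : x ∈ 𝒜 (D : ℤ)) (hreg : IsSMulRegular R x) {e : ℤ}
    {r : R} (hr : r ∈ 𝒜 e) (hrx : r ∉ Ideal.span {x})
    (hsoc : ∀ a ∈ irr 𝒜, a * r ∈ Ideal.span {x}) (q : ℕ) :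
    x ^ (q + 1) ∈ 𝒜 ((D * (q + 1) : ℕ) : ℤ) ∧ IsSMulRegular R (x ^ (q + 1)) ∧
      x ^ q * r ∈ 𝒜 (e + ((D * q : ℕ) : ℤ)) ∧ x ^ q * r ∉ Ideal.span {x ^ (q + 1)} ∧
      ∀ a ∈ irr 𝒜, a * (x ^ q * r) ∈ Ideal.span {x ^ (q + 1)} := by
  have hpow : ∀ m : ℕ, x ^ m ∈ 𝒜 ((D * m : ℕ) : ℤ) := by
    intro m
    have h1 : x ^ m ∈ 𝒜 (m • (D : ℤ)) := SetLike.pow_mem_graded m hx
    have h2 : m • (D : ℤ) = ((D * m : ℕ) : ℤ) := by
      rw [nsmul_eq_mul]; push_cast; ring
    rwa [h2] at h1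
  refine ⟨hpow _, hreg.pow _, ?_, ?_, ?_⟩
  · have := SetLike.mul_mem_graded (hpow q) hr
    rwa [add_comm] at this
  · intro hmem
    obtain ⟨c, hc⟩ := Ideal.mem_span_singleton'.1 hmem
    apply hrx
    rw [Ideal.mem_span_singleton']
    refine ⟨c, ?_⟩
    have h1 : x ^ q * (c * x) = x ^ q * r := by
      rw [← hc, pow_succ]; ring
    exact (hreg.pow q) h1
  · intro a ha
    obtain ⟨c, hc⟩ := Ideal.mem_span_singleton'.1 (hsoc a ha)
    rw [Ideal.mem_span_singleton']
    refine ⟨c, ?_⟩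
    rw [pow_succ, ← mul_assoc, ← mul_assoc, mul_comm a, mul_assoc (x ^ q), ← hc]
    ring

end Groth.Agent.Lib.helper26.Seg
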