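import Mathlib
import Groth.Agent.Lib.Helper26.Seg11
import Groth.Agent.Lib.Helper26.Depth3

/-!
# Segre products with a one-dimensional factor: a socle element (helper26)

If `x ∈ 𝒜 D`, `y ∈ ℬ D` are non-zero-divisors, `r ∈ 𝒜 e` (`e ≥ D`) represents a socle element of
`R/xR` and `ℬ (e - D) ≠ 0`, then the depth of the Segre product `T` with respect to its irrelevant
ideal is exactly one.
-/

set_option autoImplicit false
set_option linter.unusedSectionVars false
universe u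
open scoped TensorProduct Pointwise

namespace Groth.Agent.Lib.helper26.Seg

variable {k : Type u} [Field k] {R : Type u} [CommRing R] [Algebra k R]
  {S : Type u} [CommRing S] [Algebra k S]

theorem isSMulRegular_tmul_one {x : R} (hx : IsSMulRegular R x) :
    IsSMulRegular (R ⊗[k] S) (x ⊗ₜ[k] (1 : S)) := by
  have h1 : LinearMap.mulLeft k (x ⊗ₜ[k] (1 : S)) = (LinearMap.mulLeft k x).rTensor S := by
    apply TensorProduct.ext'
    intro a b
    simp [Algebra.TensorProduct.tmul_mul_tmul]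
  have h2 : Function.Injective ((LinearMap.mulLeft k x).rTensor S) :=
    Module.Flat.rTensor_preserves_injective_linearMap _ hx
  intro z w hzw
  apply h2
  rw [← h1]
  exact hzw

theorem isSMulRegular_one_tmul {y : S} (hy : IsSMulRegular S y) :
    IsSMulRegular (R ⊗[k] S) ((1 : R) ⊗ₜ[k] y) := by
  have h1 : LinearMap.mulLeft k ((1 : R) ⊗ₜ[k] y) = (LinearMap.mulLeft k y).lTensor R := by
    apply TensorProduct.ext'
    intro a b
    simp [Algebra.TensorProduct.tmul_mul_tmul]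
  have h2 : Function.Injective ((LinearMap.mulLeft k y).lTensor R) :=
    Module.Flat.lTensor_preserves_injective_linearMap _ hy
  intro z w hzw
  apply h2
  rw [← h1]
  exact hzw

theorem tmul_ne_zero {U V : Type u} [AddCommGroup U] [Module k U] [AddCommGroup V] [Module k V]
    {u : U} {v : V} (hu : u ≠ 0) (hv : v ≠ 0) : u ⊗ₜ[k] v ≠ 0 := by
  obtain ⟨f, hf⟩ : ∃ f : Module.Dual k U, f u ≠ 0 := by
    by_contra h
    push Not at h
    exact hu ((Module.forall_dual_apply_eq_zero_iff k u).1 h)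
  obtain ⟨g, hg⟩ : ∃ g : Module.Dual k V, g v ≠ 0 := by
    by_contra h
    push Not at h
    exact hv ((Module.forall_dual_apply_eq_zero_iff k v).1 h)
  intro h
  have h1 := congrArg (fun z => TensorProduct.lid k k (TensorProduct.map f g z)) h
  simp only [TensorProduct.map_tmul, TensorProduct.lid_tmul, map_zero, smul_eq_mul] at h1
  rcases mul_eq_zero.1 h1 with h2 | h2
  · exact hf h2
  · exact hg h2

theorem tmul_ne_mul {x r : R} {s₀ : S} (hrx : r ∉ Ideal.span {x}) (hs₀ : s₀ ≠ 0)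
    (w : R ⊗[k] S) : r ⊗ₜ[k] s₀ ≠ (x ⊗ₜ[k] (1 : S)) * w := by
  intro h
  have h1 := congrArg (Algebra.TensorProduct.map (Ideal.Quotient.mkₐ k (Ideal.span {x}))
    (AlgHom.id k S)) h
  rw [map_mul, Algebra.TensorProduct.map_tmul, Algebra.TensorProduct.map_tmul] at h1
  have h2 : (Ideal.Quotient.mkₐ k (Ideal.span {x})) x = 0 := by
    rw [Ideal.Quotient.mkₐ_eq_mk, Ideal.Quotient.eq_zero_iff_mem]
    exact Ideal.subset_span rfl
  rw [h2, TensorProduct.zero_tmul, zero_mul] at h1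
  have h3 : (Ideal.Quotient.mkₐ k (Ideal.span {x})) r ≠ 0 := by
    rw [Ideal.Quotient.mkₐ_eq_mk, Ne, Ideal.Quotient.eq_zero_iff_mem]
    exact hrx
  exact tmul_ne_zero h3 (by simpa using hs₀) h1

section main

variable (𝒜 : ℤ → Submodule k R) [GradedAlgebra 𝒜] (ℬ : ℤ → Submodule k S) [GradedAlgebra ℬ]
  {T : Type u} [CommRing T] [Algebra k T] (𝒯 : ℤ → Submodule k T) [GradedAlgebra 𝒯]
  (ψ : T →ₐ[k] R ⊗[k] S)
  (hdegT : ∀ n : ℤ, (𝒯 n).map ψ.toLinearMap =
    Submodule.span k {x : R ⊗[k] S | ∃ a ∈ 𝒜 n, ∃ b ∈ ℬ n, x = a ⊗ₜ[k] b})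
  (hψ : Function.Injective ψ)

include hdegT hψ in
theorem idealDepth_irr_segre_eq_one [IsNoetherianRing T] (hposR : ∀ n : ℤ, n < 0 → 𝒜 n = ⊥)
    {D : ℕ} (hD : 0 < D) {x : R} (hx : x ∈ 𝒜 (D : ℤ)) (hxreg : IsSMulRegular R x)
    {y : S} (hy : y ∈ ℬ (D : ℤ)) (hyreg : IsSMulRegular S y)
    {e : ℤ} {r : R} (hr : r ∈ 𝒜 e) (hrx : r ∉ Ideal.span {x})
    (hsoc : ∀ a ∈ irr 𝒜, a * r ∈ Ideal.span {x})
    {s₀ : S} (hs₀ : s₀ ∈ ℬ (e - D)) (hs₀ne : s₀ ≠ 0) :
    LocCoh.idealDepth (irr 𝒯) T = 1 := by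
  have ha' : x ⊗ₜ[k] y ∈ (𝒯 (D : ℤ)).map ψ.toLinearMap := by
    rw [hdegT]; exact Submodule.subset_span ⟨x, hx, y, hy, rfl⟩
  obtain ⟨a, haT, ha⟩ := ha'
  have hys : y * s₀ ∈ ℬ e := by
    have := SetLike.mul_mem_graded hy hs₀
    rwa [show (D : ℤ) + (e - D) = e by ring] at this
  have hb' : r ⊗ₜ[k] (y * s₀) ∈ (𝒯 e).map ψ.toLinearMap := by
    rw [hdegT]; exact Submodule.subset_span ⟨r, hr, _, hys, rfl⟩
  obtain ⟨b, hbT, hb⟩ := hb'
  replace ha : ψ a = x ⊗ₜ[k] y := ha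
  replace hb : ψ b = r ⊗ₜ[k] (y * s₀) := hb
  have hxy : x ⊗ₜ[k] y = (x ⊗ₜ[k] (1 : S)) * ((1 : R) ⊗ₜ[k] y) := by
    rw [Algebra.TensorProduct.tmul_mul_tmul, mul_one, one_mul]
  -- `a` is regular
  have hareg : IsSMulRegular T a := by
    intro z w hzw
    apply hψ
    have h1 : ψ (a * z) = ψ (a * w) := congrArg ψ hzw
    rw [map_mul, map_mul, ha, hxy, mul_assoc, mul_assoc] at h1
    exact isSMulRegular_one_tmul hyreg (isSMulRegular_tmul_one hxreg h1)
  -- `b ∉ aT`
  have hbna : b ∉ Ideal.span {a} := by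
    intro hmem
    obtain ⟨c, hc⟩ := Ideal.mem_span_singleton'.1 hmem
    have h1 : ψ c * ψ a = ψ b := by rw [← map_mul, hc]
    rw [ha, hb] at h1
    have h2 : ((1 : R) ⊗ₜ[k] y) * (r ⊗ₜ[k] s₀) =
        ((1 : R) ⊗ₜ[k] y) * ((x ⊗ₜ[k] (1 : S)) * ψ c) := by
      rw [Algebra.TensorProduct.tmul_mul_tmul, one_mul, ← h1, hxy]
      ring
    exact tmul_ne_mul hrx hs₀ne (ψ c) (isSMulRegular_one_tmul hyreg h2)
  -- `T₊ b ⊆ aT`
  have hsocT : ∀ τ ∈ irr 𝒯, τ * b ∈ Ideal.span {a} := by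
    intro τ hτ
    unfold irr at hτ
    induction hτ using Submodule.closure_induction with
    | zero => simp
    | add y z _ _ hy hz => rw [add_mul]; exact add_mem hy hz
    | smul_mem c g hg =>
      simp only [Set.mem_iUnion, SetLike.mem_coe] at hg
      obtain ⟨j, hj, hg⟩ := hg
      rw [Set.mem_Ioi] at hj
      rw [smul_eq_mul, mul_assoc]
      apply Ideal.mul_mem_left
      rw [← Groth.Agent.S18646.comap_map 𝒜 ℬ 𝒯 ψ hdegT hψ (Ideal.span {a}), Ideal.mem_comap]
      have h3 : ψ g ∈ (𝒯 j).map ψ.toLinearMap := ⟨g, hg, rfl⟩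
      rw [hdegT] at h3
      have h4 : Submodule.span k {z | ∃ a' ∈ 𝒜 j, ∃ b' ∈ ℬ j, z = a' ⊗ₜ[k] b'} ≤
          Submodule.comap (LinearMap.mulRight k (r ⊗ₜ[k] (y * s₀)))
            ((Ideal.map ψ.toRingHom (Ideal.span {a})).restrictScalars k) := by
        rw [Submodule.span_le]
        rintro z ⟨a', ha', b', hb', rfl⟩
        rw [SetLike.mem_coe, Submodule.mem_comap, LinearMap.mulRight_apply,
          Submodule.restrictScalars_mem, Algebra.TensorProduct.tmul_mul_tmul]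
        obtain ⟨c', hc'⟩ := Ideal.mem_span_singleton'.1 (hsoc a' (mem_irr_of_mem 𝒜 hj ha'))
        have h5 : (a' * r) ⊗ₜ[k] (b' * (y * s₀)) =
            (c' ⊗ₜ[k] (b' * s₀)) * ψ.toRingHom a := by
          have : ψ.toRingHom a = ψ a := rfl
          rw [this, ha, Algebra.TensorProduct.tmul_mul_tmul, hc']
          congr 1
          ring
        rw [h5]
        exact Ideal.mul_mem_left _ _ (Ideal.mem_map_of_mem _ (Ideal.subset_span rfl))
      have h6 := h4 h3
      rw [Submodule.mem_comap, LinearMap.mulRight_apply, Submodule.restrictScalars_mem] at h6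
      have : ψ.toRingHom (g * b) = ψ g * ψ b := map_mul ψ g b
      rw [this, hb]
      exact h6
  have hN : Nontrivial T := by
    by_contra hne
    rw [not_nontrivial_iff_subsingleton] at hne
    exact hbna (by rw [Subsingleton.elim b 0]; exact zero_mem _)
  have hposT := pieceT_eq_bot 𝒜 ℬ 𝒯 ψ hdegT hψ hposR
  have haI : a ∈ irr 𝒯 := mem_irr_of_mem 𝒯 (by exact_mod_cast hD) haT
  have hne_top := irr_ne_top 𝒯 hposT
  have hmem_iff : ∀ z : T, z ∈ (a • (⊤ : Submodule T T)) ↔ z ∈ Ideal.span {a} := by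
    intro z
    rw [Submodule.mem_smul_pointwise_iff_exists, Ideal.mem_span_singleton']
    constructor
    · rintro ⟨n, -, rfl⟩; exact ⟨n, by rw [smul_eq_mul, mul_comm]⟩
    · rintro ⟨c, rfl⟩; exact ⟨c, trivial, by rw [smul_eq_mul, mul_comm]⟩
  have h1 := Groth.Agent.Lib.helper26.Depth.idealDepth_quotSMulTop_add_one (irr 𝒯) T a haI hareg
  have h2 : LocCoh.idealDepth (irr 𝒯) (QuotSMulTop a T) = 0 := by
    apply Groth.Agent.Lib.helper26.Depth.idealDepth_eq_zero_of_annihilated (irr 𝒯)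
      (QuotSMulTop a T) ?_ (Submodule.Quotient.mk b) ?_ ?_
    · intro htop
      apply hne_top
      rw [Ideal.eq_top_iff_one]
      have h3 : (Submodule.Quotient.mk (1 : T) : QuotSMulTop a T) ∈
          irr 𝒯 • (⊤ : Submodule T (QuotSMulTop a T)) := by rw [htop]; trivial
      have h4 : irr 𝒯 • (⊤ : Submodule T (QuotSMulTop a T)) =
          Submodule.map (Submodule.mkQ (a • (⊤ : Submodule T T))) (irr 𝒯 • (⊤ : Submodule T T)) := by
        rw [Submodule.map_smul'', Submodule.map_top, Submodule.range_mkQ]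
      rw [h4] at h3
      obtain ⟨z, hz, hz1⟩ := h3
      rw [smul_eq_mul, Ideal.mul_top] at hz
      have h5 : z - 1 ∈ a • (⊤ : Submodule T T) := by
        rw [← Submodule.Quotient.eq]
        exact hz1
      rw [hmem_iff] at h5
      have h6 : z - 1 ∈ irr 𝒯 := by
        obtain ⟨c, hc⟩ := Ideal.mem_span_singleton'.1 h5
        rw [← hc]
        exact Ideal.mul_mem_left _ _ haI
      have := (irr 𝒯).sub_mem hz h6
      simpa using this
    · intro h
      rw [Submodule.Quotient.mk_eq_zero, hmem_iff] at h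
      exact hbna h
    · intro τ hτ
      rw [← Submodule.Quotient.mk_smul, Submodule.Quotient.mk_eq_zero, hmem_iff, smul_eq_mul]
      exact hsocT τ hτ
  rw [h2, zero_add] at h1
  exact h1.symm

end main

end Groth.Agent.Lib.helper26.Seg
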