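import Mathlib
import Groth.Agent.Lib.Helper26.Seg12
import Groth.Agent.S18647

/-!
# Segre products with a one-dimensional standard graded factor: Cohen–Macaulay ⟹ polynomial
(helper26)
-/

set_option autoImplicit false
set_option linter.unusedSectionVars false
universe u
open scoped TensorProduct

namespace Groth.Agent.Lib.helper26.Seg

theorem exists_nat_ringKrullDim_le (k : Type u) [Field k] (R : Type u) [CommRing R] [Algebra k R]
    [Algebra.FiniteType k R] : ∃ n : ℕ, ringKrullDim R ≤ n := by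
  obtain ⟨n, f, hf⟩ := Algebra.FiniteType.iff_quotient_mvPolynomial''.1
    (inferInstance : Algebra.FiniteType k R)
  refine ⟨n, ?_⟩
  have h1 := ringKrullDim_le_of_surjective (f : MvPolynomial (Fin n) k →+* R) hf
  rw [MvPolynomial.ringKrullDim_of_isNoetherianRing, ringKrullDim_eq_zero_of_field, zero_add,
    Nat.card_fin] at h1
  exact h1

theorem exists_nat_ringKrullDim_eq (k : Type u) [Field k] (R : Type u) [CommRing R] [Algebra k R]
    [Algebra.FiniteType k R] [Nontrivial R] : ∃ n : ℕ, ringKrullDim R = n := by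
  obtain ⟨n, hn⟩ := exists_nat_ringKrullDim_le k R
  have h0 : (0 : WithBot ℕ∞) ≤ ringKrullDim R := ringKrullDim_nonneg_of_nontrivial
  cases h : ringKrullDim R with
  | bot => rw [h] at h0; exact absurd h0 (by simp)
  | coe a =>
    cases ha : a with
    | top =>
      rw [h, ha] at hn
      exact absurd hn (by
        intro h'
        have : ((⊤ : ℕ∞) : WithBot ℕ∞) ≤ ((n : ℕ∞) : WithBot ℕ∞) := h'
        rw [WithBot.coe_le_coe] at this
        exact absurd this (by simp))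
    | coe m => exact ⟨m, rfl⟩

variable {k : Type u} [Field k] {R : Type u} [CommRing R] [Algebra k R]
  (𝒜 : ℤ → Submodule k R) [GradedAlgebra 𝒜]
  {S : Type u} [CommRing S] [Algebra k S] (ℬ : ℤ → Submodule k S) [GradedAlgebra ℬ]
  {T : Type u} [CommRing T] [Algebra k T] (𝒯 : ℤ → Submodule k T) [GradedAlgebra 𝒯]
  (ψ : T →ₐ[k] R ⊗[k] S)
  (hdegT : ∀ n : ℤ, (𝒯 n).map ψ.toLinearMap =
    Submodule.span k {x : R ⊗[k] S | ∃ a ∈ 𝒜 n, ∃ b ∈ ℬ n, x = a ⊗ₜ[k] b})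
  (hψ : Function.Injective ψ)
  [Algebra.FiniteType k R] [Algebra.FiniteType k S]
  (hposR : ∀ n : ℤ, n < 0 → 𝒜 n = ⊥) (h0R : 𝒜 0 = Submodule.span k {(1 : R)})
  (hposS : ∀ n : ℤ, n < 0 → ℬ n = ⊥) (h0S : ℬ 0 = Submodule.span k {(1 : S)})

include hdegT hψ hposR h0R hposS h0S in
/-- the Segre product of finite type algebras is of finite type -/
theorem finiteType_segre [Nontrivial R] [Nontrivial S] : Algebra.FiniteType k T := by
  obtain ⟨r, hr⟩ := exists_nat_ringKrullDim_le k R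
  obtain ⟨s, hs⟩ := exists_nat_ringKrullDim_le k S
  obtain ⟨dR, hdR, x₀, hx₀, hfinR⟩ := exists_homogeneous_sop 𝒜 hposR h0R r hr
  obtain ⟨dS, hdS, y₀, hy₀, hfinS⟩ := exists_homogeneous_sop ℬ hposS h0S s hs
  have hfinR' := finite_quotient_pow 𝒜 hposR h0R x₀ hx₀ dS
  have hfinS' := finite_quotient_pow ℬ hposS h0S y₀ hy₀ dR
  have hx : ∀ i, (fun i => x₀ i ^ dS) i ∈ 𝒜 ((dR * dS : ℕ) : ℤ) := pow_mem_piece 𝒜 x₀ hx₀ dS
  have hy : ∀ j, (fun j => y₀ j ^ dR) j ∈ ℬ ((dR * dS : ℕ) : ℤ) := by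
    intro j
    have := pow_mem_piece ℬ y₀ hy₀ dR j
    rwa [mul_comm] at this
  have hd : 0 < dR * dS := Nat.mul_pos hdR hdS
  obtain ⟨t, ht1, ht⟩ := exists_t 𝒜 ℬ 𝒯 ψ hdegT (fun i => x₀ i ^ dS) (fun j => y₀ j ^ dR) hx hy
  have hfin := finite_aeval_t 𝒜 ℬ 𝒯 ψ hdegT hψ hposR h0R hposS h0S _ _ hx hy t ht1 ht hd
  exact finiteType_of_finite_aeval t hfin

include hdegT hψ hposR h0R hposS h0S in
/-- **Cohen–Macaulay ⟹ polynomial.** -/
theorem nonempty_algEquiv_of_isCohenMacaulayRing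
    [LocCoh.IsCohenMacaulayRing R] [LocCoh.IsCohenMacaulayRing S]
    (hstdR : irr 𝒜 = Ideal.span ((𝒜 1 : Submodule k R) : Set R))
    (hstdS : irr ℬ = Ideal.span ((ℬ 1 : Submodule k S) : Set S))
    (hr : ringKrullDim R = 1) (hs : 2 ≤ ringKrullDim S)
    (hCM : LocCoh.IsCohenMacaulayRing T) : Nonempty (R ≃ₐ[k] Polynomial k) := by
  by_contra hnp
  rw [not_nonempty_iff] at hnp
  have hNR : Nontrivial R := by
    by_contra hne
    rw [not_nontrivial_iff_subsingleton] at hne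
    rw [ringKrullDim_eq_bot_of_subsingleton] at hr
    exact absurd hr (by simp)
  have hNS : Nontrivial S := by
    by_contra hne
    rw [not_nontrivial_iff_subsingleton] at hne
    rw [ringKrullDim_eq_bot_of_subsingleton] at hs
    exact absurd hs (by simp)
  have hNoethR : IsNoetherianRing R := Algebra.FiniteType.isNoetherianRing k R
  have hNoethS : IsNoetherianRing S := Algebra.FiniteType.isNoetherianRing k S
  obtain ⟨s, hsdim⟩ := exists_nat_ringKrullDim_eq k S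
  have h2s : 2 ≤ s := by
    rw [hsdim] at hs
    exact_mod_cast hs
  -- dimension and depth of `T`
  have hdimT : ringKrullDim T = ((1 + s - 1 : ℕ) : WithBot ℕ∞) :=
    Groth.Agent.S18647.result k R 𝒜 hposR h0R S ℬ hposS h0S T 𝒯 ψ hψ hdegT 1 s
      (by rw [hr]; rfl) hsdim le_rfl (by omega)
  have hs' : 1 + s - 1 = s := by omega
  rw [hs'] at hdimT
  have hFT : Algebra.FiniteType k T := finiteType_segre 𝒜 ℬ 𝒯 ψ hdegT hψ hposR h0R hposS h0S
  have hposT := pieceT_eq_bot 𝒜 ℬ 𝒯 ψ hdegT hψ hposR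
  have h0T := pieceT_zero 𝒜 ℬ 𝒯 ψ hdegT hψ h0R h0S
  have hNT : Nontrivial T := by
    by_contra hne
    rw [not_nontrivial_iff_subsingleton] at hne
    rw [ringKrullDim_eq_bot_of_subsingleton] at hdimT
    exact absurd hdimT (by simp)
  have hhtT := height_irr 𝒯 hposT h0T s hdimT
  have hNoethT : IsNoetherianRing T := Algebra.FiniteType.isNoetherianRing k T
  have hdepthT : LocCoh.idealDepth (irr 𝒯) T = s := by
    rw [← hhtT]
    exact ((Groth.Agent.Lib.helper26.Depth.isCohenMacaulayRing_iff_idealDepth_eq_height T).1 hCM)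
      (irr 𝒯) (irr_ne_top 𝒯 hposT)
  -- homogeneous non-zero-divisors
  have hdepthR : LocCoh.idealDepth (irr 𝒜) R = 1 := by
    have h1 := ((Groth.Agent.Lib.helper26.Depth.isCohenMacaulayRing_iff_idealDepth_eq_height R).1
      (inferInstance : LocCoh.IsCohenMacaulayRing R)) (irr 𝒜) (irr_ne_top 𝒜 hposR)
    rw [h1, height_irr 𝒜 hposR h0R 1 (by rw [hr]; rfl)]
    rfl
  have hdepthS : LocCoh.idealDepth (irr ℬ) S = s := by
    have h1 := ((Groth.Agent.Lib.helper26.Depth.isCohenMacaulayRing_iff_idealDepth_eq_height S).1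
      (inferInstance : LocCoh.IsCohenMacaulayRing S)) (irr ℬ) (irr_ne_top ℬ hposS)
    rw [h1, height_irr ℬ hposS h0S s hsdim]
  obtain ⟨d₀, hd₀, x₀, hx₀, hx₀reg⟩ := exists_homogeneous_regular 𝒜 hposR (by rw [hdepthR])
  obtain ⟨d₁, hd₁, y₀, hy₀, hy₀reg⟩ := exists_homogeneous_regular ℬ hposS (by
    rw [hdepthS]; exact_mod_cast (by omega : 1 ≤ s))
  -- the socle element of `R`
  obtain ⟨D, hD, x', hx', hx'reg, e, hDe, r, hr', hrx', hsoc⟩ :=
    exists_socle 𝒜 hposR h0R hstdR hr hnp hd₀ hx₀ hx₀reg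
  obtain ⟨q, rfl⟩ : ∃ q, d₁ = q + 1 := ⟨d₁ - 1, by omega⟩
  obtain ⟨h1, h2, h3, h4, h5⟩ := socle_pow 𝒜 hx' hx'reg hr' hrx' hsoc q
  -- a nonzero element of `S` in degree `e - D`
  obtain ⟨a', ha', hnil'⟩ := exists_not_isNilpotent ℬ hposS h0S hstdS
    (le_trans (by norm_num) hs)
  obtain ⟨m, hm⟩ := Int.eq_ofNat_of_zero_le (sub_nonneg.2 hDe)
  have hs₀ : a' ^ m ∈ ℬ (e + ((D * q : ℕ) : ℤ) - ((D * (q + 1) : ℕ) : ℤ)) := by
    have h6 : a' ^ m ∈ ℬ (m • (1 : ℤ)) := SetLike.pow_mem_graded m ha'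
    have h7 : m • (1 : ℤ) = e + ((D * q : ℕ) : ℤ) - ((D * (q + 1) : ℕ) : ℤ) := by
      rw [nsmul_eq_mul, mul_one, ← hm]; push_cast; ring
    rwa [h7] at h6
  have hy' : y₀ ^ D ∈ ℬ ((D * (q + 1) : ℕ) : ℤ) := by
    have h6 : y₀ ^ D ∈ ℬ (D • ((q + 1 : ℕ) : ℤ)) := SetLike.pow_mem_graded D hy₀
    have h7 : D • ((q + 1 : ℕ) : ℤ) = ((D * (q + 1) : ℕ) : ℤ) := by
      rw [nsmul_eq_mul]; push_cast; ring
    rwa [h7] at h6
  have hone := idealDepth_irr_segre_eq_one 𝒜 ℬ 𝒯 ψ hdegT hψ hposR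
    (Nat.mul_pos hD (Nat.succ_pos q)) h1 h2 hy' (hy₀reg.pow D) h3 h4 h5 hs₀
    (fun h => hnil' ⟨m, h⟩)
  rw [hdepthT] at hone
  have : s = 1 := by exact_mod_cast hone
  omega

end Groth.Agent.Lib.helper26.Seg
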