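import Mathlib
import Groth.Agent.Lib.Helper26.Seg13
import Groth.Agent.Lib.Helper26.CM2

/-!
# Homogeneous systems of parameters in graded Cohen–Macaulay algebras are regular sequences
(helper26)

* `mem_of_mul_mem_of_notMem_irr`: graded descent from the localization at the irrelevant ideal.
* `isWeaklyRegular_localization`: a system of parameters is a regular sequence in `S_{S₊}`.
* `regular_of_sop`: for a graded Cohen–Macaulay `k`-algebra `S` of dimension `s` and homogeneous
  `y₁,…,y_s` of positive degree with `S₊^N ⊆ (y)`: `y_j z ∈ (y_i, i<j) ⟹ z ∈ (y_i, i<j)`.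
-/

set_option autoImplicit false
set_option linter.unusedSectionVars false
universe u

namespace Groth.Agent.Lib.helper26.Seg

open RingTheory.Sequence

/-- weak regularity of a finite family in a ring, in elementary terms -/
theorem isWeaklyRegular_ofFn_iff {A : Type u} [CommRing A] {s : ℕ} (u : Fin s → A) :
    IsWeaklyRegular A (List.ofFn u) ↔ ∀ (j : Fin s) (z : A),
      u j * z ∈ Ideal.span (u '' {i | i < j}) → z ∈ Ideal.span (u '' {i | i < j}) := by
  have key : ∀ (i : ℕ) (hi : i < s), (Ideal.ofList ((List.ofFn u).take i) •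
      (⊤ : Submodule A A)) = Ideal.span (u '' {i' | i' < (⟨i, hi⟩ : Fin s)}) := by
    intro i hi
    rw [smul_eq_mul, Ideal.mul_top]
    unfold Ideal.ofList
    congr 1
    ext a
    simp only [Set.mem_ofPred_eq, Set.mem_image]
    rw [List.mem_take_iff_getElem]
    constructor
    · rintro ⟨m, hm, rfl⟩
      rw [List.length_ofFn] at hm
      refine ⟨⟨m, by omega⟩, ?_, ?_⟩
      · show (⟨m, _⟩ : Fin s) < ⟨i, hi⟩
        rw [Fin.mk_lt_mk]; omega
      · rw [List.getElem_ofFn]
    · rintro ⟨m, hm, rfl⟩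
      have hm' : (m : ℕ) < i := hm
      refine ⟨m, ?_, ?_⟩
      · rw [List.length_ofFn]; omega
      · rw [List.getElem_ofFn]
  rw [isWeaklyRegular_iff]
  constructor
  · intro h j z hz
    have h1 := h j (by rw [List.length_ofFn]; exact j.2)
    rw [isSMulRegular_iff_right_eq_zero_of_smul] at h1
    have h2 := h1 (Submodule.Quotient.mk z)
    rw [← Submodule.Quotient.mk_smul, Submodule.Quotient.mk_eq_zero,
      Submodule.Quotient.mk_eq_zero, key j j.2, List.getElem_ofFn, smul_eq_mul] at h2
    exact h2 hz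
  · intro h i hi
    have hi' : i < s := by rwa [List.length_ofFn] at hi
    rw [isSMulRegular_iff_right_eq_zero_of_smul]
    intro m hm
    obtain ⟨z, rfl⟩ := Submodule.Quotient.mk_surjective _ m
    rw [← Submodule.Quotient.mk_smul, Submodule.Quotient.mk_eq_zero, key i hi',
      List.getElem_ofFn, smul_eq_mul] at hm
    rw [Submodule.Quotient.mk_eq_zero, key i hi']
    exact h ⟨i, hi'⟩ z hm


variable {k : Type u} [Field k] {S : Type u} [CommRing S] [Algebra k S]
  (ℬ : ℤ → Submodule k S) [GradedAlgebra ℬ]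
  (hpos : ∀ n : ℤ, n < 0 → ℬ n = ⊥) (h0 : ℬ 0 = Submodule.span k {(1 : S)})

include hpos h0 in
/-- graded descent: a homogeneous element which lies in a homogeneous ideal after multiplication
by an element outside the irrelevant ideal lies in that ideal -/
theorem mem_of_mul_mem_of_notMem_irr (J : Ideal S) (hJ : J.IsHomogeneous ℬ) {z : S} {i : ℤ}
    (hz : z ∈ ℬ i) {σ : S} (hσ : σ ∉ irr ℬ) (h : σ * z ∈ J) : z ∈ J := by
  classical
  obtain ⟨c, hc⟩ := exists_sub_mem_irr ℬ hpos h0 σ
  have hc0 : c ≠ 0 := by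
    rintro rfl
    rw [map_zero, sub_zero] at hc
    exact hσ hc
  have h1 := hJ i h
  have h2 : ((DirectSum.decompose ℬ (σ * z) i : ℬ i) : S) =
      ((DirectSum.decompose ℬ σ 0 : ℬ 0) : S) * z := by
    have h3 : i = 0 + i := by ring
    rw [coe_decompose_congr ℬ _ h3, DirectSum.coe_decompose_mul_add_of_right_mem ℬ hz]
  have h3 : ((DirectSum.decompose ℬ σ 0 : ℬ 0) : S) = algebraMap k S c := by
    have h4 := decompose_zero_of_mem_irr ℬ hpos hc
    rw [DirectSum.decompose_sub, DirectSum.sub_apply, AddSubgroupClass.coe_sub,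
      DirectSum.decompose_of_mem_same ℬ (SetLike.algebraMap_mem_graded ℬ c), sub_eq_zero] at h4
    exact h4
  rw [h2, h3] at h1
  have h5 : z = algebraMap k S c⁻¹ * (algebraMap k S c * z) := by
    rw [← mul_assoc, ← map_mul, inv_mul_cancel₀ hc0, map_one, one_mul]
  rw [h5]
  exact Ideal.mul_mem_left _ _ h1

/-- an ideal containing a power of the maximal ideal has a zero-dimensional quotient -/
theorem ringKrullDim_quotient_eq_zero_of_pow_le {A : Type u} [CommRing A] [IsLocalRing A]
    (I : Ideal A) (hI : I ≠ ⊤) (N : ℕ) (hN : IsLocalRing.maximalIdeal A ^ N ≤ I) :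
    ringKrullDim (A ⧸ I) = 0 := by
  have hnt : Nontrivial (A ⧸ I) := Ideal.Quotient.nontrivial_iff.2 hI
  rw [← ringKrullDimZero_iff_ringKrullDim_eq_zero, Ring.krullDimLE_zero_iff]
  intro P hP
  have hQ : (P.comap (Ideal.Quotient.mk I)).IsPrime := hP.comap _
  have h1 : I ≤ P.comap (Ideal.Quotient.mk I) := by
    intro a ha
    rw [Ideal.mem_comap, Ideal.Quotient.eq_zero_iff_mem.2 ha]
    exact zero_mem _
  have h2 : IsLocalRing.maximalIdeal A ≤ P.comap (Ideal.Quotient.mk I) :=
    hQ.le_of_pow_le (hN.trans h1)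
  have h3 : P.comap (Ideal.Quotient.mk I) = IsLocalRing.maximalIdeal A :=
    ((IsLocalRing.maximalIdeal.isMaximal A).eq_of_le hQ.ne_top h2).symm
  have h4 : P = (IsLocalRing.maximalIdeal A).map (Ideal.Quotient.mk I) := by
    rw [← h3, Ideal.map_comap_of_surjective _ Ideal.Quotient.mk_surjective]
  rcases Ideal.map_eq_top_or_isMaximal_of_surjective (Ideal.Quotient.mk I)
    Ideal.Quotient.mk_surjective (IsLocalRing.maximalIdeal.isMaximal A) with h | h
  · rw [← h4] at h
    exact absurd h hP.ne_top
  · rw [h4]; exact h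

variable [Algebra.FiniteType k S]

include hpos h0 in
/-- a homogeneous system of parameters of a graded Cohen–Macaulay algebra is a regular sequence in
the localization at the irrelevant ideal -/
theorem isWeaklyRegular_localization [LocCoh.IsCohenMacaulayRing S] [hp : (irr ℬ).IsPrime]
    (s : ℕ) (hs : ringKrullDim S = s) (y : Fin s → S) (hy : ∀ i, y i ∈ irr ℬ)
    (N : ℕ) (hN : irr ℬ ^ N ≤ Ideal.span (Set.range y)) :
    IsWeaklyRegular (Localization.AtPrime (irr ℬ))
      ((List.ofFn y).map (algebraMap S (Localization.AtPrime (irr ℬ)))) := by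
  have hCMloc := LocCoh.IsCohenMacaulayRing.isCohenMacaulayLocalRing_localization (R := S) (irr ℬ)
  have hNoeth : IsNoetherianRing S := Algebra.FiniteType.isNoetherianRing k S
  have hmem : ∀ x ∈ (List.ofFn y).map (algebraMap S (Localization.AtPrime (irr ℬ))),
      x ∈ IsLocalRing.maximalIdeal (Localization.AtPrime (irr ℬ)) := by
    intro x hx
    rw [List.mem_map] at hx
    obtain ⟨a, ha, rfl⟩ := hx
    rw [List.mem_ofFn] at ha
    obtain ⟨i, rfl⟩ := ha
    exact (IsLocalization.AtPrime.to_map_mem_maximal_iff _ (irr ℬ) _).2 (hy i)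
  apply Groth.Agent.Lib.helper26.Depth.isWeaklyRegular_of_supportDim_quot_ofList _
    (Localization.AtPrime (irr ℬ)) hCMloc.supportDim_eq_depth hmem
  have e1 : (Ideal.ofList ((List.ofFn y).map (algebraMap S (Localization.AtPrime (irr ℬ)))) •
      (⊤ : Submodule (Localization.AtPrime (irr ℬ)) (Localization.AtPrime (irr ℬ)))) =
      Ideal.ofList ((List.ofFn y).map (algebraMap S (Localization.AtPrime (irr ℬ)))) := by
    rw [smul_eq_mul, Ideal.mul_top]
  rw [e1, Module.supportDim_quotient_eq_ringKrullDim, Module.supportDim_self_eq_ringKrullDim,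
    IsLocalization.AtPrime.ringKrullDim_eq_height (irr ℬ) (Localization.AtPrime (irr ℬ)),
    height_irr ℬ hpos h0 s hs, List.length_map, List.length_ofFn]
  have e2 : Ideal.ofList ((List.ofFn y).map (algebraMap S (Localization.AtPrime (irr ℬ)))) =
      (Ideal.span (Set.range y)).map (algebraMap S (Localization.AtPrime (irr ℬ))) := by
    rw [Ideal.map_span]
    unfold Ideal.ofList
    congr 1
    ext x
    simp [List.mem_ofFn]
  have hle : Ideal.ofList ((List.ofFn y).map (algebraMap S (Localization.AtPrime (irr ℬ)))) ≤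
      IsLocalRing.maximalIdeal (Localization.AtPrime (irr ℬ)) := by
    unfold Ideal.ofList
    rw [Ideal.span_le]
    exact fun x hx => hmem x hx
  have hne : Ideal.ofList ((List.ofFn y).map (algebraMap S (Localization.AtPrime (irr ℬ)))) ≠ ⊤ := by
    intro htop
    rw [htop] at hle
    exact (IsLocalRing.maximalIdeal.isMaximal _).ne_top (eq_top_iff.2 hle)
  rw [ringKrullDim_quotient_eq_zero_of_pow_le _ hne N, zero_add]
  · rfl
  · rw [e2, ← Localization.AtPrime.map_eq_maximalIdeal, ← Ideal.map_pow]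
    exact Ideal.map_mono hN

include hpos h0 in
/-- **Homogeneous systems of parameters of a graded Cohen–Macaulay algebra are regular sequences.** -/
theorem regular_of_sop [LocCoh.IsCohenMacaulayRing S] [Nontrivial S]
    (s : ℕ) (hs : ringKrullDim S = s) (y : Fin s → S) (d : Fin s → ℕ) (hd : ∀ i, 0 < d i)
    (hy : ∀ i, y i ∈ ℬ (d i : ℤ)) (N : ℕ) (hN : irr ℬ ^ N ≤ Ideal.span (Set.range y))
    (j : Fin s) (z : S) (h : y j * z ∈ Ideal.span (y '' {i | i < j})) :
    z ∈ Ideal.span (y '' {i | i < j}) := by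
  classical
  have hmax := irr_isMaximal ℬ hpos h0
  have hp : (irr ℬ).IsPrime := hmax.isPrime
  set J := Ideal.span (y '' {i | i < j}) with hJdef
  have hJ : J.IsHomogeneous ℬ := by
    apply Ideal.homogeneous_span
    rintro _ ⟨i, -, rfl⟩
    exact ⟨_, hy i⟩
  have hreg := isWeaklyRegular_localization ℬ hpos h0 s hs y
    (fun i => mem_irr_of_mem ℬ (by exact_mod_cast hd i) (hy i)) N hN
  rw [List.map_ofFn, isWeaklyRegular_ofFn_iff] at hreg
  have h2 : Ideal.span ((algebraMap S (Localization.AtPrime (irr ℬ)) ∘ y) '' {i | i < j}) =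
      J.map (algebraMap S (Localization.AtPrime (irr ℬ))) := by
    rw [hJdef, Ideal.map_span, Set.image_comp]
  -- homogeneous case
  have hhom : ∀ (i : ℤ) (w : S), w ∈ ℬ i → y j * w ∈ J → w ∈ J := by
    intro i w hw hyw
    have h1 := hreg j (algebraMap S _ w) (by
      rw [h2, Function.comp_apply, ← map_mul]
      exact Ideal.mem_map_of_mem _ hyw)
    rw [h2, IsLocalization.mem_map_algebraMap_iff (irr ℬ).primeCompl] at h1
    obtain ⟨⟨a, σ⟩, ha⟩ := h1
    rw [← map_mul, IsLocalization.eq_iff_exists (irr ℬ).primeCompl] at ha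
    obtain ⟨c, hc⟩ := ha
    apply mem_of_mul_mem_of_notMem_irr ℬ hpos h0 J hJ hw (σ := (c : S) * (σ : S))
    · exact (irr ℬ).primeCompl.mul_mem c.2 σ.2
    · have : (c : S) * σ * w = c * a := by
        rw [← hc]; ring
      rw [this]
      exact Ideal.mul_mem_left _ _ a.2
  -- general case
  rw [← DirectSum.sum_support_decompose ℬ z]
  apply Ideal.sum_mem
  intro i _
  apply hhom i _ (SetLike.coe_mem _)
  have h1 := hJ (d j + i) h
  rwa [DirectSum.coe_decompose_mul_add_of_left_mem ℬ (hy j)] at h1

end Groth.Agent.Lib.helper26.Seg
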