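import Mathlib
import Groth.Agent.Lib.Helper26.Seg21

/-!
# A regular sequence in the Segre product (helper26)

Bigraded projections on `R ⊗ S`, and the key step: under the vanishing hypothesis
`S_{n-e} ≠ 0 → R_n ⊆ x'R`, the elements `t_j` with `ψ t_j = x' ⊗ y_j` form a regular sequence on
the Segre product `T` whenever `x'` is regular on `R` and `y` is a regular sequence on `S`.
-/

set_option autoImplicit false
set_option linter.unusedSectionVars false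
universe u
open scoped TensorProduct

namespace Groth.Agent.Lib.helper26.Seg

variable {k : Type u} [Field k] {R : Type u} [CommRing R] [Algebra k R]
  (𝒜 : ℤ → Submodule k R) [GradedAlgebra 𝒜]
  {S : Type u} [CommRing S] [Algebra k S] (ℬ : ℤ → Submodule k S) [GradedAlgebra ℬ]

/-- the projection of `R ⊗ S` onto its bidegree `(a, b)` part -/
noncomputable def biProj (a b : ℤ) : R ⊗[k] S →ₗ[k] R ⊗[k] S :=
  TensorProduct.map (GradedAlgebra.proj 𝒜 a) (GradedAlgebra.proj ℬ b)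

theorem biProj_tmul (a b : ℤ) (r : R) (z : S) :
    biProj 𝒜 ℬ a b (r ⊗ₜ[k] z) =
      ((DirectSum.decompose 𝒜 r a : 𝒜 a) : R) ⊗ₜ[k] ((DirectSum.decompose ℬ z b : ℬ b) : S) := by
  unfold biProj
  rw [TensorProduct.map_tmul, GradedAlgebra.proj_apply, GradedAlgebra.proj_apply]

theorem biProj_mem (a b : ℤ) (w : R ⊗[k] S) :
    biProj 𝒜 ℬ a b w ∈
      Submodule.span k {x : R ⊗[k] S | ∃ a' ∈ 𝒜 a, ∃ b' ∈ ℬ b, x = a' ⊗ₜ[k] b'} := by
  induction w using TensorProduct.induction_on with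
  | zero => rw [map_zero]; exact zero_mem _
  | tmul r z =>
    rw [biProj_tmul]
    exact Submodule.subset_span ⟨_, SetLike.coe_mem _, _, SetLike.coe_mem _, rfl⟩
  | add x y hx hy => rw [map_add]; exact add_mem hx hy

theorem biProj_fix {n : ℤ} {w : R ⊗[k] S}
    (hw : w ∈ Submodule.span k {x : R ⊗[k] S | ∃ a' ∈ 𝒜 n, ∃ b' ∈ ℬ n, x = a' ⊗ₜ[k] b'}) :
    biProj 𝒜 ℬ n n w = w := by
  induction hw using Submodule.span_induction with
  | mem x hx =>
    obtain ⟨a', ha', b', hb', rfl⟩ := hx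
    rw [biProj_tmul, DirectSum.decompose_of_mem_same 𝒜 ha', DirectSum.decompose_of_mem_same ℬ hb']
  | zero => rw [map_zero]
  | add x y _ _ hx hy => rw [map_add, hx, hy]
  | smul c x _ hx => rw [map_smul, hx]

theorem biProj_mul_right {e : ℤ} {y : S} (hy : y ∈ ℬ e) (a b : ℤ) (w : R ⊗[k] S) :
    biProj 𝒜 ℬ a (b + e) (w * ((1 : R) ⊗ₜ[k] y)) = biProj 𝒜 ℬ a b w * ((1 : R) ⊗ₜ[k] y) := by
  induction w using TensorProduct.induction_on with
  | zero => simp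
  | tmul r z =>
    rw [Algebra.TensorProduct.tmul_mul_tmul, mul_one, biProj_tmul, biProj_tmul,
      Algebra.TensorProduct.tmul_mul_tmul, mul_one,
      DirectSum.coe_decompose_mul_add_of_right_mem ℬ hy]
  | add x y hx hy => rw [add_mul, map_add, map_add, add_mul, hx, hy]

/-- **Key step 1**: the degree `(n,n)` part of an element of `R ⊗ (Y)` lies in `(x' ⊗ Y)`. -/
theorem biProj_mem_span {n e : ℤ} {x' : R} (Y : Set S) (hY : ∀ y ∈ Y, y ∈ ℬ e)
    (hH : ℬ (n - e) ≠ ⊥ → ∀ a ∈ 𝒜 n, a ∈ Ideal.span {x'})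
    {v : R ⊗[k] S} (hv : v ∈ Ideal.span ((fun y : S => (1 : R) ⊗ₜ[k] y) '' Y)) :
    biProj 𝒜 ℬ n n v ∈ Ideal.span ((fun y : S => x' ⊗ₜ[k] y) '' Y) := by
  suffices hQ : ∀ w : R ⊗[k] S, biProj 𝒜 ℬ n n (w * v) ∈
      Ideal.span ((fun y : S => x' ⊗ₜ[k] y) '' Y) by
    have := hQ 1
    rwa [one_mul] at this
  induction hv using Submodule.span_induction with
  | mem v hv =>
    obtain ⟨y, hyY, rfl⟩ := hv
    intro w
    have hn : n = (n - e) + e := by ring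
    have h1 : biProj 𝒜 ℬ n n (w * ((1 : R) ⊗ₜ[k] y)) =
        biProj 𝒜 ℬ n (n - e) w * ((1 : R) ⊗ₜ[k] y) := by
      rw [← biProj_mul_right 𝒜 ℬ (hY y hyY) n (n - e) w, ← hn]
    rw [h1]
    have h2 := biProj_mem 𝒜 ℬ n (n - e) w
    have h3 : Submodule.span k {x : R ⊗[k] S | ∃ a' ∈ 𝒜 n, ∃ b' ∈ ℬ (n - e), x = a' ⊗ₜ[k] b'} ≤
        Submodule.comap (LinearMap.mulRight k ((1 : R) ⊗ₜ[k] y))
          ((Ideal.span ((fun y : S => x' ⊗ₜ[k] y) '' Y)).restrictScalars k) := by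
      rw [Submodule.span_le]
      rintro _ ⟨a', ha', b', hb', rfl⟩
      rw [SetLike.mem_coe, Submodule.mem_comap, LinearMap.mulRight_apply,
        Submodule.restrictScalars_mem, Algebra.TensorProduct.tmul_mul_tmul, mul_one]
      by_cases hbot : ℬ (n - e) = ⊥
      · rw [hbot, Submodule.mem_bot] at hb'
        rw [hb', zero_mul, TensorProduct.tmul_zero]
        exact zero_mem _
      · obtain ⟨c, hc⟩ := Ideal.mem_span_singleton'.1 (hH hbot a' ha')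
        have h4 : a' ⊗ₜ[k] (b' * y) = (c ⊗ₜ[k] b') * (x' ⊗ₜ[k] y) := by
          rw [Algebra.TensorProduct.tmul_mul_tmul, hc]
        rw [h4]
        exact Ideal.mul_mem_left _ _ (Ideal.subset_span ⟨y, hyY, rfl⟩)
    have h5 := h3 h2
    rw [Submodule.mem_comap, LinearMap.mulRight_apply, Submodule.restrictScalars_mem] at h5
    exact h5
  | zero => intro w; rw [mul_zero, map_zero]; exact zero_mem _
  | add x y _ _ hx hy => intro w; rw [mul_add, map_add]; exact add_mem (hx w) (hy w)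
  | smul c x _ hx =>
    intro w
    rw [smul_eq_mul, ← mul_assoc]
    exact hx (w * c)

/-- **Key step 2**: cancelling `x' ⊗ y₀`. -/
theorem mem_span_of_mul_mem {x' : R} (hxreg : IsSMulRegular R x') (Y : Set S) {y₀ : S}
    (hy₀ : ∀ z : S, y₀ * z ∈ Ideal.span Y → z ∈ Ideal.span Y) {v : R ⊗[k] S}
    (hv : (x' ⊗ₜ[k] y₀) * v ∈ Ideal.span ((fun y : S => x' ⊗ₜ[k] y) '' Y)) :
    v ∈ Ideal.span ((fun y : S => (1 : R) ⊗ₜ[k] y) '' Y) := by
  -- every element of `(x' ⊗ Y)` is `(x' ⊗ 1) κ` with `κ ∈ (1 ⊗ Y)`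
  have h1 : ∀ u ∈ Ideal.span ((fun y : S => x' ⊗ₜ[k] y) '' Y),
      ∃ κ ∈ Ideal.span ((fun y : S => (1 : R) ⊗ₜ[k] y) '' Y), u = (x' ⊗ₜ[k] (1 : S)) * κ := by
    intro u hu
    induction hu using Submodule.span_induction with
    | mem u hu =>
      obtain ⟨y, hyY, rfl⟩ := hu
      refine ⟨(1 : R) ⊗ₜ[k] y, Ideal.subset_span ⟨y, hyY, rfl⟩, ?_⟩
      rw [Algebra.TensorProduct.tmul_mul_tmul, mul_one, one_mul]
    | zero => exact ⟨0, zero_mem _, by rw [mul_zero]⟩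
    | add x y _ _ hx hy =>
      obtain ⟨κ₁, hκ₁, rfl⟩ := hx
      obtain ⟨κ₂, hκ₂, rfl⟩ := hy
      exact ⟨κ₁ + κ₂, add_mem hκ₁ hκ₂, by rw [mul_add]⟩
    | smul c x _ hx =>
      obtain ⟨κ, hκ, rfl⟩ := hx
      exact ⟨c * κ, Ideal.mul_mem_left _ _ hκ, by rw [smul_eq_mul]; ring⟩
  obtain ⟨κ, hκ, hκe⟩ := h1 _ hv
  have h2 : (x' ⊗ₜ[k] y₀) = (x' ⊗ₜ[k] (1 : S)) * ((1 : R) ⊗ₜ[k] y₀) := by
    rw [Algebra.TensorProduct.tmul_mul_tmul, mul_one, one_mul]
  rw [h2, mul_assoc] at hκe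
  have h3 : ((1 : R) ⊗ₜ[k] y₀) * v = κ := isSMulRegular_tmul_one hxreg hκe
  -- pass to `R ⊗ S/J`
  set J : Ideal S := Ideal.span Y with hJ
  let q : R ⊗[k] S →ₐ[k] R ⊗[k] (S ⧸ J) :=
    Algebra.TensorProduct.map (AlgHom.id k R) (Ideal.Quotient.mkₐ k J)
  have hker : RingHom.ker q =
      Ideal.span ((fun y : S => (1 : R) ⊗ₜ[k] y) '' Y) := by
    have h4 := Algebra.TensorProduct.lTensor_ker (A := R) (Ideal.Quotient.mkₐ k J)
      (Ideal.Quotient.mkₐ_surjective k J)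
    have hk : RingHom.ker (Ideal.Quotient.mkₐ k J) = J := by
      ext z
      rw [RingHom.mem_ker, Ideal.Quotient.mkₐ_eq_mk, Ideal.Quotient.eq_zero_iff_mem]
    rw [hk, hJ, Ideal.map_span] at h4
    rw [h4]
    congr 1
  rw [← hker, RingHom.mem_ker]
  have h5 : q κ = 0 := by rw [← RingHom.mem_ker, hker]; exact hκ
  rw [← h3, map_mul] at h5
  have h6 : q ((1 : R) ⊗ₜ[k] y₀) = (1 : R) ⊗ₜ[k] (Ideal.Quotient.mk J y₀) := by
    show Algebra.TensorProduct.map (AlgHom.id k R) (Ideal.Quotient.mkₐ k J) _ = _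
    rw [Algebra.TensorProduct.map_tmul]
    rfl
  rw [h6] at h5
  have hreg : IsSMulRegular (S ⧸ J) (Ideal.Quotient.mk J y₀) := by
    rw [isSMulRegular_iff_right_eq_zero_of_smul]
    intro m hm
    obtain ⟨z, rfl⟩ := Ideal.Quotient.mk_surjective m
    rw [smul_eq_mul, ← map_mul, Ideal.Quotient.eq_zero_iff_mem] at hm
    rw [Ideal.Quotient.eq_zero_iff_mem]
    exact hy₀ z hm
  have h7 := isSMulRegular_one_tmul (k := k) (R := R) hreg
  rw [isSMulRegular_iff_right_eq_zero_of_smul] at h7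
  exact h7 _ h5

variable {T : Type u} [CommRing T] [Algebra k T] (𝒯 : ℤ → Submodule k T) [GradedAlgebra 𝒯]
  (ψ : T →ₐ[k] R ⊗[k] S)
  (hdegT : ∀ n : ℤ, (𝒯 n).map ψ.toLinearMap =
    Submodule.span k {x : R ⊗[k] S | ∃ a ∈ 𝒜 n, ∃ b ∈ ℬ n, x = a ⊗ₜ[k] b})
  (hψ : Function.Injective ψ)

include hdegT hψ in
/-- **A regular sequence in the Segre product.** -/
theorem segre_regular {e : ℤ} {x' : R} (hxreg : IsSMulRegular R x') {s : ℕ}
    (y : Fin s → S) (hy : ∀ i, y i ∈ ℬ e)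
    (hS : ∀ (j : Fin s) (z : S), y j * z ∈ Ideal.span (y '' {i | i < j}) →
      z ∈ Ideal.span (y '' {i | i < j}))
    (t : Fin s → T) (ht : ∀ i, t i ∈ 𝒯 e) (hψt : ∀ i, ψ (t i) = x' ⊗ₜ[k] y i)
    (hH : ∀ n : ℤ, ℬ (n - e) ≠ ⊥ → ∀ a ∈ 𝒜 n, a ∈ Ideal.span {x'})
    (j : Fin s) (τ : T) (h : t j * τ ∈ Ideal.span (t '' {i | i < j})) :
    τ ∈ Ideal.span (t '' {i | i < j}) := by
  classical
  set I := Ideal.span (t '' {i | i < j}) with hIdef
  have hI : I.IsHomogeneous 𝒯 := by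
    apply Ideal.homogeneous_span
    rintro _ ⟨i, -, rfl⟩
    exact ⟨_, ht i⟩
  have hmap : Ideal.map ψ.toRingHom I =
      Ideal.span ((fun z : S => x' ⊗ₜ[k] z) '' (y '' {i | i < j})) := by
    rw [hIdef, Ideal.map_span, ← Set.image_comp, ← Set.image_comp]
    congr 1
    apply Set.image_congr
    intro i _
    exact hψt i
  have hhom : ∀ (n : ℤ) (w : T), w ∈ 𝒯 n → t j * w ∈ I → w ∈ I := by
    intro n w hw htw
    rw [← Groth.Agent.S18646.comap_map 𝒜 ℬ 𝒯 ψ hdegT hψ I, Ideal.mem_comap, hmap]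
    have h1 : ψ.toRingHom (t j * w) ∈ Ideal.map ψ.toRingHom I := Ideal.mem_map_of_mem _ htw
    rw [hmap] at h1
    have h2 : ψ.toRingHom (t j * w) = (x' ⊗ₜ[k] y j) * ψ w := by
      show ψ (t j * w) = _
      rw [map_mul, hψt]
    rw [h2] at h1
    have h3 := mem_span_of_mul_mem hxreg (y '' {i | i < j}) (hS j) h1
    have h4 := biProj_mem_span 𝒜 ℬ (n := n) (e := e) (x' := x') (y '' {i | i < j})
      (by rintro _ ⟨i, -, rfl⟩; exact hy i) (hH n) h3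
    have h5 : ψ w ∈ (𝒯 n).map ψ.toLinearMap := ⟨w, hw, rfl⟩
    rw [hdegT] at h5
    rw [biProj_fix 𝒜 ℬ h5] at h4
    exact h4
  rw [← DirectSum.sum_support_decompose 𝒯 τ]
  apply Ideal.sum_mem
  intro i _
  apply hhom i _ (SetLike.coe_mem _)
  have h1 := hI (e + i) h
  rwa [DirectSum.coe_decompose_mul_add_of_left_mem 𝒯 (ht j)] at h1

end Groth.Agent.Lib.helper26.Seg
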