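import Mathlib

/-!
# Quotient gradings (helper26)

The image grading `qGr 𝒜 I` on `A ⧸ I` for a homogeneous ideal `I` of a graded algebra `𝒜` indexed by an arbitrary
additive monoid (adapted from helper12's `ProjClosed1`, which treats `ℕ`), with its `GradedAlgebra` instance, and the
transfer of the hypotheses "no negative degrees" and "degree zero is `k·1`".
-/

set_option autoImplicit false
universe u

open DirectSum

namespace Groth.Agent.Lib.helper26.Seg

section Quot

variable {ι : Type} [DecidableEq ι] [AddMonoid ι]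
variable {k A : Type u} [CommRing k] [CommRing A] [Algebra k A] (𝒜 : ι → Submodule k A)
  [GradedAlgebra 𝒜] (I : HomogeneousIdeal 𝒜)

/-- The image grading on the quotient by a homogeneous ideal. -/
def qGr (d : ι) : Submodule k (A ⧸ I.toIdeal) :=
  (𝒜 d).map (Ideal.Quotient.mkₐ k I.toIdeal).toLinearMap

theorem mk_mem_qGr {d : ι} {a : A} (ha : a ∈ 𝒜 d) :
    Ideal.Quotient.mk I.toIdeal a ∈ qGr 𝒜 I d := ⟨a, ha, rfl⟩

theorem exists_of_mem_qGr {d : ι} {z : A ⧸ I.toIdeal} (hz : z ∈ qGr 𝒜 I d) :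
    ∃ a ∈ 𝒜 d, Ideal.Quotient.mk I.toIdeal a = z := hz

/-- component maps -/
def qComp (d : ι) : 𝒜 d →+ qGr 𝒜 I d :=
  ((Ideal.Quotient.mkₐ k I.toIdeal).toLinearMap.submoduleMap (𝒜 d)).toAddMonoidHom

/-- the decomposition map before passing to the quotient -/
def qPhi : A →+ ⨁ d, qGr 𝒜 I d :=
  (DirectSum.map (qComp 𝒜 I)).comp (DirectSum.decomposeAddEquiv 𝒜).toAddMonoidHom

theorem qPhi_of_mem {d : ι} {a : A} (ha : a ∈ 𝒜 d) :
    qPhi 𝒜 I a = DirectSum.of (fun d => qGr 𝒜 I d) d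
      ⟨Ideal.Quotient.mk I.toIdeal a, mk_mem_qGr 𝒜 I ha⟩ := by
  unfold qPhi
  simp only [AddMonoidHom.coe_comp, Function.comp_apply, AddEquiv.coe_toAddMonoidHom,
    DirectSum.decomposeAddEquiv_apply]
  rw [DirectSum.decompose_of_mem 𝒜 ha, DirectSum.map_of]
  rfl

theorem coe_qPhi (a : A) :
    DirectSum.coeAddMonoidHom (qGr 𝒜 I) (qPhi 𝒜 I a) = Ideal.Quotient.mk I.toIdeal a := by
  induction a using DirectSum.Decomposition.inductionOn 𝒜 with
  | zero => simp
  | @homogeneous d a =>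
    rw [qPhi_of_mem 𝒜 I a.2, DirectSum.coeAddMonoidHom_of]
  | add a b ha hb => rw [map_add, map_add, ha, hb, map_add]

theorem qPhi_mem {x : A} (hx : x ∈ I.toIdeal) : qPhi 𝒜 I x = 0 := by
  ext d
  unfold qPhi
  simp only [AddMonoidHom.coe_comp, Function.comp_apply, AddEquiv.coe_toAddMonoidHom,
    DirectSum.decomposeAddEquiv_apply, DirectSum.map_apply, DirectSum.zero_apply,
    ZeroMemClass.coe_zero]
  exact Ideal.Quotient.eq_zero_iff_mem.mpr (I.isHomogeneous d hx)

theorem qPhi_congr {a b : A}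
    (h : Ideal.Quotient.mk I.toIdeal a = Ideal.Quotient.mk I.toIdeal b) :
    qPhi 𝒜 I a = qPhi 𝒜 I b := by
  have : a - b ∈ I.toIdeal := Ideal.Quotient.eq.mp h
  have h0 := qPhi_mem 𝒜 I this
  rw [map_sub, sub_eq_zero] at h0
  exact h0

noncomputable instance qDecomp : DirectSum.Decomposition (qGr 𝒜 I) where
  decompose' y := qPhi 𝒜 I (Quotient.out y)
  left_inv y := by
    show DirectSum.coeAddMonoidHom (qGr 𝒜 I) (qPhi 𝒜 I (Quotient.out y)) = y
    rw [coe_qPhi]
    exact Ideal.Quotient.mk_out y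
  right_inv y := by
    show qPhi 𝒜 I (Quotient.out (DirectSum.coeAddMonoidHom (qGr 𝒜 I) y)) = y
    have hkey : ∀ a : A, qPhi 𝒜 I (Quotient.out (Ideal.Quotient.mk I.toIdeal a)) = qPhi 𝒜 I a :=
      fun a => qPhi_congr 𝒜 I (Ideal.Quotient.mk_out _)
    induction y using DirectSum.induction_on with
    | zero =>
      rw [map_zero]
      have := hkey 0
      rw [map_zero, map_zero] at this
      exact this
    | of d b =>
      obtain ⟨b, a, ha, rfl⟩ := b
      rw [DirectSum.coeAddMonoidHom_of]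
      show qPhi 𝒜 I (Quotient.out (Ideal.Quotient.mk I.toIdeal a)) = _
      rw [hkey a, qPhi_of_mem 𝒜 I ha]
      rfl
    | add y z hy hz =>
      rw [map_add]
      have h1 : Ideal.Quotient.mk I.toIdeal
          (Quotient.out (DirectSum.coeAddMonoidHom (qGr 𝒜 I) y +
          DirectSum.coeAddMonoidHom (qGr 𝒜 I) z)) =
          Ideal.Quotient.mk I.toIdeal
            (Quotient.out (DirectSum.coeAddMonoidHom (qGr 𝒜 I) y) +
            Quotient.out (DirectSum.coeAddMonoidHom (qGr 𝒜 I) z)) := by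
        rw [map_add, Ideal.Quotient.mk_out, Ideal.Quotient.mk_out, Ideal.Quotient.mk_out]
      rw [qPhi_congr 𝒜 I h1, map_add, hy, hz]

instance qGradedMonoid : SetLike.GradedMonoid (qGr 𝒜 I) where
  one_mem := ⟨1, SetLike.GradedOne.one_mem, map_one (Ideal.Quotient.mk I.toIdeal)⟩
  mul_mem := by
    rintro i j _ _ ⟨a, ha, rfl⟩ ⟨b, hb, rfl⟩
    exact ⟨a * b, SetLike.GradedMul.mul_mem ha hb, map_mul (Ideal.Quotient.mk I.toIdeal) _ _⟩

noncomputable instance qGradedAlgebra : GradedAlgebra (qGr 𝒜 I) where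
  toGradedMonoid := qGradedMonoid 𝒜 I
  toDecomposition := qDecomp 𝒜 I

theorem qGr_eq_bot {d : ι} (h : 𝒜 d = ⊥) : qGr 𝒜 I d = ⊥ := by
  unfold qGr
  rw [h, Submodule.map_bot]

theorem qGr_eq_span_one {d : ι} (h : 𝒜 d = Submodule.span k {(1 : A)}) :
    qGr 𝒜 I d = Submodule.span k {(1 : A ⧸ I.toIdeal)} := by
  unfold qGr
  rw [h, Submodule.map_span, Set.image_singleton]
  simp

end Quot

end Groth.Agent.Lib.helper26.Seg
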