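import Mathlib
import Groth.Agent.Lib.Helper26.Seg9
import Groth.Agent.Lib.Helper26.Seg22
import Groth.Agent.Lib.Helper26.Seg24

/-!
# Quotients of Segre products (helper26)

* `ringKrullDim_segre`: `dim (R # S) = dim R + dim S - 1` (library form of S18647).
* For homogeneous ideals `I ⊆ R`, `J ⊆ S`, the kernel `qKer ψ I J` of `T → (R/I) ⊗ (S/J)` is homogeneous and
  `T / qKer` is the Segre product of `R/I` and `S/J`; hence `dim T / qKer = dim R/I + dim S/J - 1`.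
-/

set_option autoImplicit false
set_option linter.unusedSectionVars false
universe u
open scoped TensorProduct

namespace Groth.Agent.Lib.helper26.Seg

/-- library form of S18647 -/
theorem ringKrullDim_segre (k : Type u) [Field k] (R : Type u) [CommRing R] [Algebra k R]
    (𝒜 : ℤ → Submodule k R) [GradedAlgebra 𝒜] (hposR : ∀ n : ℤ, n < 0 → 𝒜 n = ⊥)
    (h0R : 𝒜 0 = Submodule.span k {(1 : R)}) [Algebra.FiniteType k R] (S : Type u) [CommRing S]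
    [Algebra k S] (ℬ : ℤ → Submodule k S) [GradedAlgebra ℬ] (hposS : ∀ n : ℤ, n < 0 → ℬ n = ⊥)
    (h0S : ℬ 0 = Submodule.span k {(1 : S)}) [Algebra.FiniteType k S] (T : Type u) [CommRing T]
    [Algebra k T] (𝒯 : ℤ → Submodule k T) [GradedAlgebra 𝒯] (ψ : T →ₐ[k] TensorProduct k R S)
    (hψ : Function.Injective ψ)
    (hdegT : ∀ n : ℤ, (𝒯 n).map ψ.toLinearMap =
      Submodule.span k {x : TensorProduct k R S | ∃ a ∈ 𝒜 n, ∃ b ∈ ℬ n, x = a ⊗ₜ[k] b})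
    (r s : ℕ) (hr : ringKrullDim R = r) (hs : ringKrullDim S = s) (h1r : 1 ≤ r) (h1s : 1 ≤ s) :
    ringKrullDim T = ((r + s - 1 : ℕ) : WithBot ℕ∞) := by
  have hfR : ∃ (d : ℕ) (_ : 0 < d) (x : Fin r → R), (∀ i, x i ∈ 𝒜 (d : ℤ)) ∧
      Module.Finite k (R ⧸ Ideal.span (Set.range x)) :=
    exists_homogeneous_sop 𝒜 hposR h0R r hr.le
  have hfS : ∃ (d : ℕ) (_ : 0 < d) (y : Fin s → S), (∀ j, y j ∈ ℬ (d : ℤ)) ∧
      Module.Finite k (S ⧸ Ideal.span (Set.range y)) :=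
    exists_homogeneous_sop ℬ hposS h0S s hs.le
  obtain ⟨dR, hdR, x₀, hx₀, hfinR⟩ := hfR
  obtain ⟨dS, hdS, y₀, hy₀, hfinS⟩ := hfS
  have hfinR' := finite_quotient_pow 𝒜 hposR h0R x₀ hx₀ dS
  have hfinS' := finite_quotient_pow ℬ hposS h0S y₀ hy₀ dR
  have hx : ∀ i, (fun i => x₀ i ^ dS) i ∈ 𝒜 ((dR * dS : ℕ) : ℤ) :=
    pow_mem_piece 𝒜 x₀ hx₀ dS
  have hy : ∀ j, (fun j => y₀ j ^ dR) j ∈ ℬ ((dR * dS : ℕ) : ℤ) := by
    intro j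
    have := pow_mem_piece ℬ y₀ hy₀ dR j
    rwa [mul_comm] at this
  have hd : 0 < dR * dS := Nat.mul_pos hdR hdS
  obtain ⟨t, ht1, ht⟩ := exists_t 𝒜 ℬ 𝒯 ψ hdegT
    (fun i => x₀ i ^ dS) (fun j => y₀ j ^ dR) hx hy
  apply le_antisymm
  · exact ringKrullDim_le 𝒜 ℬ 𝒯 ψ hdegT hψ hposR h0R hposS h0S
      _ _ hx hy t ht1 ht hd
  · have hxinj := injective_aeval_of_finite_quotient 𝒜 hposR
      _ hx hd hr
    have hyinj := injective_aeval_of_finite_quotient ℬ hposS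
      _ hy hd hs
    have hfin := finite_aeval_t 𝒜 ℬ 𝒯 ψ hdegT hψ hposR h0R hposS h0S
      _ _ hx hy t ht1 ht hd
    exact le_ringKrullDim ψ hψ _ _ t ht h1r h1s hxinj hyinj hfin

variable {k : Type u} [Field k] {R : Type u} [CommRing R] [Algebra k R]
  (𝒜 : ℤ → Submodule k R) [GradedAlgebra 𝒜]
  {S : Type u} [CommRing S] [Algebra k S] (ℬ : ℤ → Submodule k S) [GradedAlgebra ℬ]
  {T : Type u} [CommRing T] [Algebra k T] (𝒯 : ℤ → Submodule k T) [GradedAlgebra 𝒯]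

theorem biProj_eq_zero_of_ne {m n : ℤ} (hmn : m ≠ n) {w : R ⊗[k] S}
    (hw : w ∈ Submodule.span k {x : R ⊗[k] S | ∃ a' ∈ 𝒜 m, ∃ b' ∈ ℬ m, x = a' ⊗ₜ[k] b'}) :
    biProj 𝒜 ℬ n n w = 0 := by
  induction hw using Submodule.span_induction with
  | mem x hx =>
    obtain ⟨a', ha', b', hb', rfl⟩ := hx
    rw [biProj_tmul, DirectSum.decompose_of_mem_ne 𝒜 ha' hmn, TensorProduct.zero_tmul]
  | zero => rw [map_zero]
  | add x y _ _ hx hy => rw [map_add, hx, hy, add_zero]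
  | smul c x _ hx => rw [map_smul, hx, smul_zero]

/-- a `k`-linear map from a graded module into `R ⊗ S` carrying degree `m` into bidegree `(m,m)` commutes with
the projections -/
theorem biProj_map_eq (f : T →ₗ[k] R ⊗[k] S)
    (hf : ∀ m : ℤ, ∀ t ∈ 𝒯 m, f t ∈
      Submodule.span k {x : R ⊗[k] S | ∃ a' ∈ 𝒜 m, ∃ b' ∈ ℬ m, x = a' ⊗ₜ[k] b'}) (t : T) (n : ℤ) :
    biProj 𝒜 ℬ n n (f t) = f ((DirectSum.decompose 𝒯 t n : 𝒯 n) : T) := by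
  classical
  conv_lhs => rw [← DirectSum.sum_support_decompose 𝒯 t]
  rw [map_sum, map_sum, Finset.sum_eq_single n]
  · exact biProj_fix 𝒜 ℬ (hf n _ (SetLike.coe_mem _))
  · intro m _ hmn
    exact biProj_eq_zero_of_ne 𝒜 ℬ hmn (hf m _ (SetLike.coe_mem _))
  · intro hn
    have h0 : DirectSum.decompose 𝒯 t n = 0 := by
      simpa using hn
    rw [h0]
    simp

section Quot

variable (ψ : T →ₐ[k] R ⊗[k] S) (I : HomogeneousIdeal 𝒜) (J : HomogeneousIdeal ℬ)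

/-- the quotient map on tensor products -/
noncomputable def qPi : R ⊗[k] S →ₐ[k] (R ⧸ I.toIdeal) ⊗[k] (S ⧸ J.toIdeal) :=
  Algebra.TensorProduct.map (Ideal.Quotient.mkₐ k I.toIdeal) (Ideal.Quotient.mkₐ k J.toIdeal)

theorem qPi_tmul (a : R) (b : S) :
    qPi 𝒜 ℬ I J (a ⊗ₜ[k] b) = Ideal.Quotient.mk I.toIdeal a ⊗ₜ[k] Ideal.Quotient.mk J.toIdeal b := by
  unfold qPi
  rw [Algebra.TensorProduct.map_tmul]
  rfl

/-- the kernel of `T → (R/I) ⊗ (S/J)` -/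
noncomputable def qKer : Ideal T := RingHom.ker ((qPi 𝒜 ℬ I J).comp ψ).toRingHom

theorem mem_qKer {t : T} : t ∈ qKer 𝒜 ℬ ψ I J ↔ qPi 𝒜 ℬ I J (ψ t) = 0 := Iff.rfl

variable (hdegT : ∀ n : ℤ, (𝒯 n).map ψ.toLinearMap =
      Submodule.span k {x : R ⊗[k] S | ∃ a ∈ 𝒜 n, ∃ b ∈ ℬ n, x = a ⊗ₜ[k] b})

include hdegT in
theorem qPi_psi_mem {m : ℤ} {t : T} (ht : t ∈ 𝒯 m) :
    qPi 𝒜 ℬ I J (ψ t) ∈ Submodule.span k {x : (R ⧸ I.toIdeal) ⊗[k] (S ⧸ J.toIdeal) |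
      ∃ a' ∈ qGr 𝒜 I m, ∃ b' ∈ qGr ℬ J m, x = a' ⊗ₜ[k] b'} := by
  have h1 : ψ t ∈ Submodule.span k {x : R ⊗[k] S | ∃ a ∈ 𝒜 m, ∃ b ∈ ℬ m, x = a ⊗ₜ[k] b} := by
    rw [← hdegT m]
    exact ⟨t, ht, rfl⟩
  generalize ψ t = w at h1
  induction h1 using Submodule.span_induction with
  | mem x hx =>
    obtain ⟨a, ha, b, hb, rfl⟩ := hx
    rw [qPi_tmul]
    exact Submodule.subset_span ⟨_, mk_mem_qGr 𝒜 I ha, _, mk_mem_qGr ℬ J hb, rfl⟩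
  | zero => rw [map_zero]; exact zero_mem _
  | add x y _ _ hx hy => rw [map_add]; exact add_mem hx hy
  | smul c x _ hx => rw [map_smul]; exact Submodule.smul_mem _ _ hx

include hdegT in
theorem qKer_isHomogeneous : (qKer 𝒜 ℬ ψ I J).IsHomogeneous 𝒯 := by
  intro n t ht
  rw [mem_qKer] at ht ⊢
  have h := biProj_map_eq (qGr 𝒜 I) (qGr ℬ J) 𝒯
    (((qPi 𝒜 ℬ I J).comp ψ).toLinearMap)
    (fun m t ht => qPi_psi_mem 𝒜 ℬ 𝒯 ψ I J hdegT ht) t n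
  have h' : biProj (qGr 𝒜 I) (qGr ℬ J) n n (qPi 𝒜 ℬ I J (ψ t)) =
      qPi 𝒜 ℬ I J (ψ ((DirectSum.decompose 𝒯 t n : 𝒯 n) : T)) := h
  rw [← h', ht, map_zero]

/-- the kernel as a homogeneous ideal -/
noncomputable def qK : HomogeneousIdeal 𝒯 :=
  ⟨qKer 𝒜 ℬ ψ I J, qKer_isHomogeneous 𝒜 ℬ 𝒯 ψ I J hdegT⟩

/-- the induced map `T / qKer → (R/I) ⊗ (S/J)` -/
noncomputable def qPsi : (T ⧸ qKer 𝒜 ℬ ψ I J) →ₐ[k] (R ⧸ I.toIdeal) ⊗[k] (S ⧸ J.toIdeal) :=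
  Ideal.Quotient.liftₐ (qKer 𝒜 ℬ ψ I J) ((qPi 𝒜 ℬ I J).comp ψ) (fun _ ht => ht)

theorem qPsi_mk (t : T) :
    qPsi 𝒜 ℬ ψ I J (Ideal.Quotient.mk (qKer 𝒜 ℬ ψ I J) t) = qPi 𝒜 ℬ I J (ψ t) := rfl

theorem qPsi_injective : Function.Injective (qPsi 𝒜 ℬ ψ I J) := by
  rw [injective_iff_map_eq_zero]
  intro z hz
  obtain ⟨t, rfl⟩ := Ideal.Quotient.mk_surjective z
  rw [qPsi_mk] at hz
  exact Ideal.Quotient.eq_zero_iff_mem.mpr hz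

include hdegT in
theorem qPsi_hdeg (n : ℤ) :
    (qGr 𝒯 (qK 𝒜 ℬ 𝒯 ψ I J hdegT) n).map (qPsi 𝒜 ℬ ψ I J).toLinearMap =
      Submodule.span k {x : (R ⧸ I.toIdeal) ⊗[k] (S ⧸ J.toIdeal) |
        ∃ a ∈ qGr 𝒜 I n, ∃ b ∈ qGr ℬ J n, x = a ⊗ₜ[k] b} := by
  apply le_antisymm
  · rintro _ ⟨z, hz, rfl⟩
    obtain ⟨t, ht, rfl⟩ := hz
    exact qPi_psi_mem 𝒜 ℬ 𝒯 ψ I J hdegT ht
  · rw [Submodule.span_le]
    rintro _ ⟨a', ha', b', hb', rfl⟩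
    obtain ⟨a, ha, rfl⟩ := ha'
    obtain ⟨b, hb, rfl⟩ := hb'
    have h1 : a ⊗ₜ[k] b ∈ (𝒯 n).map ψ.toLinearMap := by
      rw [hdegT n]
      exact Submodule.subset_span ⟨a, ha, b, hb, rfl⟩
    obtain ⟨t, ht, hψt⟩ := h1
    refine ⟨Ideal.Quotient.mk _ t, mk_mem_qGr 𝒯 (qK 𝒜 ℬ 𝒯 ψ I J hdegT) ht, ?_⟩
    show qPi 𝒜 ℬ I J (ψ t) = _
    have hψt' : ψ t = a ⊗ₜ[k] b := hψt
    rw [hψt', qPi_tmul]
    rfl

include hdegT in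
/-- **dimension of the quotient Segre product** -/
theorem ringKrullDim_quotient_qKer [Algebra.FiniteType k R] [Algebra.FiniteType k S]
    (hposR : ∀ n : ℤ, n < 0 → 𝒜 n = ⊥) (h0R : 𝒜 0 = Submodule.span k {(1 : R)})
    (hposS : ∀ n : ℤ, n < 0 → ℬ n = ⊥) (h0S : ℬ 0 = Submodule.span k {(1 : S)})
    (a b : ℕ) (ha : ringKrullDim (R ⧸ I.toIdeal) = a) (hb : ringKrullDim (S ⧸ J.toIdeal) = b)
    (h1a : 1 ≤ a) (h1b : 1 ≤ b) :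
    ringKrullDim (T ⧸ qKer 𝒜 ℬ ψ I J) = ((a + b - 1 : ℕ) : WithBot ℕ∞) := by
  exact ringKrullDim_segre k (R ⧸ I.toIdeal) (qGr 𝒜 I)
    (fun n hn => qGr_eq_bot 𝒜 I (hposR n hn)) (qGr_eq_span_one 𝒜 I h0R)
    (S ⧸ J.toIdeal) (qGr ℬ J) (fun n hn => qGr_eq_bot ℬ J (hposS n hn)) (qGr_eq_span_one ℬ J h0S)
    (T ⧸ (qK 𝒜 ℬ 𝒯 ψ I J hdegT).toIdeal) (qGr 𝒯 (qK 𝒜 ℬ 𝒯 ψ I J hdegT)) (qPsi 𝒜 ℬ ψ I J)
    (qPsi_injective 𝒜 ℬ ψ I J) (qPsi_hdeg 𝒜 ℬ 𝒯 ψ I J hdegT) a b ha hb h1a h1b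

end Quot

end Groth.Agent.Lib.helper26.Seg
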