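import Mathlib
import Groth.Prelude.Def_GrSeg
import Groth.Agent.Lib.Helper26.Seg25

/-!
# Segre products of modules: supports (helper26)

* `act_eq`: the action of `w ∈ R ⊗ S` on a pure tensor `m ⊗ n'` factors through `(R/I) ⊗ (S/J)` whenever `I`, `J`
  kill `m`, `n'`; the factor is injective for `I = Ann m`, `J = Ann n'`.
* graded modules: annihilators (of homogeneous elements, of the module) are homogeneous.
* `le_supportDim_of_tmul`: `dim R/Ann x + dim S/Ann y - 1 ≤ dim (M # N)` for `x`, `y` homogeneous of the same degree.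
* `supportDim_le`: `dim (M # N) ≤ dim R/Ann M + dim S/Ann N - 1`.
-/

set_option autoImplicit false
set_option linter.unusedSectionVars false
universe u
open scoped TensorProduct

namespace Groth.Agent.Lib.helper26.Seg

section Eval

variable {k : Type u} [Field k] {R S : Type u} [CommRing R] [CommRing S] [Algebra k R] [Algebra k S]
  {M N : Type u} [AddCommGroup M] [Module R M] [Module k M] [IsScalarTower k R M]
  [AddCommGroup N] [Module S N] [Module k N] [IsScalarTower k S N]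

/-- `R/I → M`, `r ↦ r • m`, for `I` killing `m` -/
noncomputable def evLift (I : Ideal R) (m : M) (h : I ≤ Ideal.torsionOf R M m) : (R ⧸ I) →ₗ[k] M :=
  (Submodule.liftQ I (LinearMap.toSpanSingleton R M m) h).restrictScalars k

theorem evLift_mk (I : Ideal R) (m : M) (h : I ≤ Ideal.torsionOf R M m) (r : R) :
    evLift (k := k) I m h (Ideal.Quotient.mk I r) = r • m := by
  show Submodule.liftQ I (LinearMap.toSpanSingleton R M m) h (Submodule.Quotient.mk r) = r • m
  rw [Submodule.liftQ_apply, LinearMap.toSpanSingleton_apply]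

theorem evLift_injective (m : M) :
    Function.Injective (evLift (k := k) (Ideal.torsionOf R M m) m le_rfl) := by
  intro z₁ z₂ h
  obtain ⟨r₁, rfl⟩ := Ideal.Quotient.mk_surjective z₁
  obtain ⟨r₂, rfl⟩ := Ideal.Quotient.mk_surjective z₂
  rw [evLift_mk, evLift_mk] at h
  rw [Ideal.Quotient.eq, Ideal.mem_torsionOf_iff, sub_smul, h, sub_self]

theorem act_eq (I : Ideal R) (J : Ideal S) (m : M) (n' : N) (hI : I ≤ Ideal.torsionOf R M m)
    (hJ : J ≤ Ideal.torsionOf S N n') (w : R ⊗[k] S) :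
    GrSeg.act k R S M N w (m ⊗ₜ[k] n') =
      TensorProduct.map (evLift (k := k) I m hI) (evLift (k := k) J n' hJ)
        (Algebra.TensorProduct.map (Ideal.Quotient.mkₐ k I) (Ideal.Quotient.mkₐ k J) w) := by
  induction w using TensorProduct.induction_on with
  | zero => simp
  | tmul r s =>
    rw [GrSeg.act_tmul, Algebra.TensorProduct.map_tmul, TensorProduct.map_tmul]
    show _ = evLift (k := k) I m hI (Ideal.Quotient.mk I r) ⊗ₜ[k]
      evLift (k := k) J n' hJ (Ideal.Quotient.mk J s)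
    rw [evLift_mk, evLift_mk]
  | add x y hx hy => rw [map_add, LinearMap.add_apply, hx, hy, map_add, map_add]

theorem act_eq_zero_iff (m : M) (n' : N) (w : R ⊗[k] S) :
    GrSeg.act k R S M N w (m ⊗ₜ[k] n') = 0 ↔
      Algebra.TensorProduct.map (Ideal.Quotient.mkₐ k (Ideal.torsionOf R M m))
        (Ideal.Quotient.mkₐ k (Ideal.torsionOf S N n')) w = 0 := by
  rw [act_eq (Ideal.torsionOf R M m) (Ideal.torsionOf S N n') m n' le_rfl le_rfl w]
  have hinj := TensorProduct.map_injective_of_flat_flat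
    (evLift (k := k) (Ideal.torsionOf R M m) m le_rfl)
    (evLift (k := k) (Ideal.torsionOf S N n') n' le_rfl) (evLift_injective m) (evLift_injective n')
  constructor
  · intro h
    apply hinj
    rw [h, map_zero]
  · intro h
    rw [h, map_zero]

end Eval

section Graded

variable {k : Type u} [Field k] {R : Type u} [CommRing R] [Algebra k R]
  (𝒜 : ℤ → Submodule k R) [GradedAlgebra 𝒜]
  {M : Type u} [AddCommGroup M] [Module R M]
  (ℳ : ℤ → AddSubgroup M) [DirectSum.Decomposition ℳ] [SetLike.GradedSMul 𝒜 ℳ]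

theorem decompose_smul_eq_zero {n : ℤ} {x : M} (hx : x ∈ ℳ n) {r : R} (h : r • x = 0) (j : ℤ) :
    ((DirectSum.decompose 𝒜 r j : 𝒜 j) : R) • x = 0 := by
  classical
  have hsum : ∑ i ∈ (DirectSum.decompose 𝒜 r).support,
      ((DirectSum.decompose 𝒜 r i : 𝒜 i) : R) • x = 0 := by
    rw [← Finset.sum_smul, DirectSum.sum_support_decompose 𝒜 r, h]
  have hmem : ∀ i : ℤ, ((DirectSum.decompose 𝒜 r i : 𝒜 i) : R) • x ∈ ℳ (i + n) := fun i => by
    have := SetLike.GradedSMul.smul_mem (A := 𝒜) (B := ℳ)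
      (SetLike.coe_mem (DirectSum.decompose 𝒜 r i)) hx
    simpa [vadd_eq_add] using this
  have h2 := congrArg (fun z => ((DirectSum.decompose ℳ z (j + n) : ℳ (j + n)) : M)) hsum
  simp only [DirectSum.decompose_sum, DirectSum.decompose_zero, DirectSum.zero_apply,
    ZeroMemClass.coe_zero] at h2
  rw [DFinsupp.finsetSum_apply, AddSubmonoidClass.coe_finsetSum, Finset.sum_eq_single j] at h2
  · rwa [DirectSum.decompose_of_mem_same ℳ (hmem j)] at h2
  · intro i _ hij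
    rw [DirectSum.decompose_of_mem_ne ℳ (hmem i)]
    intro hh
    exact hij (by linarith)
  · intro hj
    have h0 : DirectSum.decompose 𝒜 r j = 0 := by simpa using hj
    rw [h0]
    simp

theorem torsionOf_isHomogeneous {n : ℤ} {x : M} (hx : x ∈ ℳ n) :
    (Ideal.torsionOf R M x).IsHomogeneous 𝒜 := by
  intro j r hr
  rw [Ideal.mem_torsionOf_iff] at hr ⊢
  exact decompose_smul_eq_zero 𝒜 ℳ hx hr j

include ℳ in
theorem annihilator_isHomogeneous : (Module.annihilator R M).IsHomogeneous 𝒜 := by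
  intro j r hr
  rw [Module.mem_annihilator] at hr ⊢
  intro m
  induction m using DirectSum.Decomposition.inductionOn ℳ with
  | zero => rw [smul_zero]
  | @homogeneous i m => exact decompose_smul_eq_zero 𝒜 ℳ m.2 (hr m) j
  | add a b ha hb => rw [smul_add, ha, hb, add_zero]

/-- the annihilator of a homogeneous element as a homogeneous ideal -/
def torsionOfH {n : ℤ} {x : M} (hx : x ∈ ℳ n) : HomogeneousIdeal 𝒜 :=
  ⟨Ideal.torsionOf R M x, torsionOf_isHomogeneous 𝒜 ℳ hx⟩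

/-- the annihilator of a graded module as a homogeneous ideal -/
def annH (ℳ : ℤ → AddSubgroup M) [DirectSum.Decomposition ℳ] [SetLike.GradedSMul 𝒜 ℳ] :
    HomogeneousIdeal 𝒜 :=
  ⟨Module.annihilator R M, annihilator_isHomogeneous 𝒜 ℳ⟩

end Graded

section Segre

variable {k : Type u} [Field k] {R : Type u} [CommRing R] [Algebra k R]
  (𝒜 : ℤ → Submodule k R) [GradedAlgebra 𝒜]
  {S : Type u} [CommRing S] [Algebra k S] (ℬ : ℤ → Submodule k S) [GradedAlgebra ℬ]
  {T : Type u} [CommRing T] [Algebra k T] (𝒯 : ℤ → Submodule k T) [GradedAlgebra 𝒯]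
  (ψ : T →ₐ[k] R ⊗[k] S)
  {M : Type u} [AddCommGroup M] [Module R M] [Module k M] [IsScalarTower k R M]
  (ℳ : ℤ → AddSubgroup M) [DirectSum.Decomposition ℳ] [SetLike.GradedSMul 𝒜 ℳ]
  {N : Type u} [AddCommGroup N] [Module S N] [Module k N] [IsScalarTower k S N]
  (𝒩 : ℤ → AddSubgroup N) [DirectSum.Decomposition 𝒩] [SetLike.GradedSMul ℬ 𝒩]
  {P : Type u} [AddCommGroup P] [Module T P] [Module k P] [IsScalarTower k T P]
  (𝒬 : ℤ → AddSubgroup P) [DirectSum.Decomposition 𝒬] (φ : P →ₗ[k] M ⊗[k] N)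
  (hP : GrSeg.IsSegreMod ψ ℳ 𝒩 𝒬 φ)

include hP in
theorem torsionOf_eq_qKer {n : ℤ} {x : M} (hx : x ∈ ℳ n) {y : N} (hy : y ∈ 𝒩 n) {p : P}
    (hp : φ p = x ⊗ₜ[k] y) :
    Ideal.torsionOf T P p = qKer 𝒜 ℬ ψ (torsionOfH 𝒜 ℳ hx) (torsionOfH ℬ 𝒩 hy) := by
  ext t
  rw [Ideal.mem_torsionOf_iff, mem_qKer]
  rw [← hP.injective.eq_iff, map_zero, hP.map_smul, hp, act_eq_zero_iff]
  rfl

include hP in
/-- **lower bound** -/
theorem le_supportDim_of_tmul [Algebra.FiniteType k R] [Algebra.FiniteType k S]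
    (hdegT : ∀ n : ℤ, (𝒯 n).map ψ.toLinearMap =
      Submodule.span k {x : R ⊗[k] S | ∃ a ∈ 𝒜 n, ∃ b ∈ ℬ n, x = a ⊗ₜ[k] b})
    (hposR : ∀ n : ℤ, n < 0 → 𝒜 n = ⊥) (h0R : 𝒜 0 = Submodule.span k {(1 : R)})
    (hposS : ∀ n : ℤ, n < 0 → ℬ n = ⊥) (h0S : ℬ 0 = Submodule.span k {(1 : S)})
    {n : ℤ} {x : M} (hx : x ∈ ℳ n) {y : N} (hy : y ∈ 𝒩 n) {p : P} (hp : φ p = x ⊗ₜ[k] y)
    (a b : ℕ) (ha : ringKrullDim (R ⧸ Ideal.torsionOf R M x) = a)
    (hb : ringKrullDim (S ⧸ Ideal.torsionOf S N y) = b) (h1a : 1 ≤ a) (h1b : 1 ≤ b) :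
    ((a + b - 1 : ℕ) : WithBot ℕ∞) ≤ Module.supportDim T P := by
  have hK := torsionOf_eq_qKer 𝒜 ℬ ψ ℳ 𝒩 𝒬 φ hP hx hy hp
  have hdim := ringKrullDim_quotient_qKer 𝒜 ℬ 𝒯 ψ (torsionOfH 𝒜 ℳ hx) (torsionOfH ℬ 𝒩 hy) hdegT
    hposR h0R hposS h0S a b ha hb h1a h1b
  rw [← hK] at hdim
  rw [← hdim, ← Module.supportDim_quotient_eq_ringKrullDim]
  have e := Ideal.quotTorsionOfEquivSpanSingleton T P p
  rw [Module.supportDim_eq_of_equiv e]
  exact Module.supportDim_le_of_injective (Submodule.subtype _) (Submodule.subtype_injective _)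

include hP in
theorem smul_eq_zero_of_mem_qKer {t : T} (ht : t ∈ qKer 𝒜 ℬ ψ (annH 𝒜 ℳ) (annH ℬ 𝒩)) (p : P) :
    t • p = 0 := by
  rw [mem_qKer] at ht
  apply hP.injective
  rw [map_zero, hP.map_smul]
  generalize φ p = z
  induction z using TensorProduct.induction_on with
  | zero => rw [map_zero]
  | tmul m n' =>
    have hI : (annH 𝒜 ℳ).toIdeal ≤ Ideal.torsionOf R M m := by
      intro r hr
      rw [Ideal.mem_torsionOf_iff]
      exact Module.mem_annihilator.mp hr m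
    have hJ : (annH ℬ 𝒩).toIdeal ≤ Ideal.torsionOf S N n' := by
      intro r hr
      rw [Ideal.mem_torsionOf_iff]
      exact Module.mem_annihilator.mp hr n'
    rw [act_eq _ _ m n' hI hJ]
    have ht' : Algebra.TensorProduct.map (Ideal.Quotient.mkₐ k (annH 𝒜 ℳ).toIdeal)
        (Ideal.Quotient.mkₐ k (annH ℬ 𝒩).toIdeal) (ψ t) = 0 := ht
    rw [ht', map_zero]
  | add z₁ z₂ h₁ h₂ => rw [map_add, h₁, h₂, add_zero]

include hP in
/-- **upper bound** -/
theorem supportDim_le [Algebra.FiniteType k R] [Algebra.FiniteType k S]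
    (hdegT : ∀ n : ℤ, (𝒯 n).map ψ.toLinearMap =
      Submodule.span k {x : R ⊗[k] S | ∃ a ∈ 𝒜 n, ∃ b ∈ ℬ n, x = a ⊗ₜ[k] b})
    (hposR : ∀ n : ℤ, n < 0 → 𝒜 n = ⊥) (h0R : 𝒜 0 = Submodule.span k {(1 : R)})
    (hposS : ∀ n : ℤ, n < 0 → ℬ n = ⊥) (h0S : ℬ 0 = Submodule.span k {(1 : S)})
    (a b : ℕ) (ha : ringKrullDim (R ⧸ Module.annihilator R M) = a)
    (hb : ringKrullDim (S ⧸ Module.annihilator S N) = b) (h1a : 1 ≤ a) (h1b : 1 ≤ b) :
    Module.supportDim T P ≤ ((a + b - 1 : ℕ) : WithBot ℕ∞) := by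
  have hdim := ringKrullDim_quotient_qKer 𝒜 ℬ 𝒯 ψ (annH 𝒜 ℳ) (annH ℬ 𝒩) hdegT
    hposR h0R hposS h0S a b ha hb h1a h1b
  rw [← hdim, ← Module.supportDim_quotient_eq_ringKrullDim]
  have hsub : Module.support T P ⊆
      Module.support T (T ⧸ qKer 𝒜 ℬ ψ (annH 𝒜 ℳ) (annH ℬ 𝒩)) := by
    intro q hq
    rw [Module.support_eq_zeroLocus, Ideal.annihilator_quotient, PrimeSpectrum.mem_zeroLocus]
    rw [Module.mem_support_iff_exists_annihilator] at hq
    obtain ⟨p, hp⟩ := hq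
    intro t ht
    apply hp
    rw [Submodule.mem_annihilator_span_singleton]
    exact smul_eq_zero_of_mem_qKer 𝒜 ℬ ψ ℳ 𝒩 𝒬 φ hP ht p
  unfold Module.supportDim
  exact Order.krullDim_le_of_strictMono (Set.inclusion hsub) (fun _ _ h => h)

end Segre

end Groth.Agent.Lib.helper26.Seg
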