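import Mathlib
import Groth.Agent.Lib.Helper26.Seg10
import Groth.Agent.Lib.Helper26.Seg26

/-!
# Segre products of modules: homogeneous elements with large support (helper26)

* `one_le_of_not_isArtinian`: a finite non-Artinian module over a Noetherian ring has positive dimension.
* `exists_homogeneous_dim_ge`: over a standard graded algebra, a finite graded module of dimension `d ≥ 1` has in
  every large degree a homogeneous element `x` with `dim R/Ann x ≥ d`.
* `exists_preimage_tmul`: elements `x # y` of a Segre product of modules.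
-/

set_option autoImplicit false
set_option linter.unusedSectionVars false
universe u
open scoped TensorProduct

namespace Groth.Agent.Lib.helper26.Seg

theorem one_le_of_not_isArtinian {R : Type u} [CommRing R] [IsNoetherianRing R] {M : Type u}
    [AddCommGroup M] [Module R M] [Module.Finite R M] (h : ¬ IsArtinian R M) (d : ℕ)
    (hd : Module.supportDim R M = d) : 1 ≤ d := by
  by_contra hlt
  have hd0 : d = 0 := by omega
  subst hd0
  apply h
  rw [Module.supportDim_eq_ringKrullDim_quotient_annihilator] at hd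
  have hdim : Ring.KrullDimLE 0 (R ⧸ Module.annihilator R M) := by
    rw [Ring.krullDimLE_iff]
    exact hd.le
  have hart : IsArtinianRing (R ⧸ Module.annihilator R M) :=
    isArtinianRing_iff_isNoetherianRing_krullDimLE_zero.mpr ⟨inferInstance, hdim⟩
  let _ : Module (R ⧸ Module.annihilator R M) M := Module.quotientAnnihilator
  have hst : IsScalarTower R (R ⧸ Module.annihilator R M) M :=
    ⟨fun r z m => by
      obtain ⟨z, rfl⟩ := Ideal.Quotient.mk_surjective z
      show (r • Ideal.Quotient.mk _ z) • m = r • (Ideal.Quotient.mk _ z • m)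
      show (Ideal.Quotient.mk _ (r • z)) • m = r • (z • m)
      show (r • z) • m = r • (z • m)
      rw [smul_assoc]⟩
  have hfin : Module.Finite (R ⧸ Module.annihilator R M) M := Module.Finite.of_restrictScalars_finite R _ M
  have hA : IsArtinian (R ⧸ Module.annihilator R M) M := inferInstance
  exact isArtinian_of_surjective_algebraMap (S := R) (R := R ⧸ Module.annihilator R M)
    Ideal.Quotient.mk_surjective

section Std

variable {k : Type u} [Field k] {R : Type u} [CommRing R] [Algebra k R]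
  (𝒜 : ℤ → Submodule k R) [GradedAlgebra 𝒜]
  (hpos : ∀ n : ℤ, n < 0 → 𝒜 n = ⊥) (h0 : 𝒜 0 = Submodule.span k {(1 : R)})
  {M : Type u} [AddCommGroup M] [Module R M]
  (ℳ : ℤ → AddSubgroup M) [DirectSum.Decomposition ℳ] [SetLike.GradedSMul 𝒜 ℳ]

include ℳ in
theorem span_homogeneous_eq_top :
    Submodule.span R {m : M | ∃ n : ℤ, m ∈ ℳ n} = ⊤ := by
  rw [eq_top_iff]
  rintro m -
  induction m using DirectSum.Decomposition.inductionOn ℳ with
  | zero => exact zero_mem _
  | @homogeneous i m => exact Submodule.subset_span ⟨i, m.2⟩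
  | add a b ha hb => exact add_mem ha hb

theorem pow_smul_mem_piece {u : R} (hu : u ∈ 𝒜 1) {n₀ : ℤ} {x₀ : M} (hx₀ : x₀ ∈ ℳ n₀) (j : ℕ) :
    u ^ j • x₀ ∈ ℳ (n₀ + j) := by
  induction j with
  | zero => simpa using hx₀
  | succ j ih =>
    have := SetLike.GradedSMul.smul_mem (A := 𝒜) (B := ℳ) hu ih
    rw [pow_succ', mul_smul]
    have h2 : (1 : ℤ) +ᵥ (n₀ + (j : ℤ)) = n₀ + ((j + 1 : ℕ) : ℤ) := by
      rw [vadd_eq_add]; push_cast; ring
    rwa [h2] at this

include hpos h0 in
theorem exists_homogeneous_dim_ge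
    (hstd : Ideal.span (⋃ n ∈ Set.Ioi (0 : ℤ), (𝒜 n : Set R)) =
      Ideal.span ((𝒜 1 : Submodule k R) : Set R))
    (d : ℕ) (hd : Module.supportDim R M = d) (h1 : 1 ≤ d) :
    ∃ n₀ : ℤ, ∀ n : ℤ, n₀ ≤ n → ∃ x ∈ ℳ n,
      (d : WithBot ℕ∞) ≤ ringKrullDim (R ⧸ Ideal.torsionOf R M x) := by
  have hle : ((d : ℕ) : WithBot ℕ∞) ≤ Order.krullDim (Module.support R M) := by
    rw [← hd]; rfl
  rw [Order.le_krullDim_iff] at hle
  obtain ⟨p, hp⟩ := hle
  -- the head of the chain
  have hhead : (p.head : PrimeSpectrum R) ∈ Module.support R M := p.head.2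
  rw [Module.mem_support_iff_of_span_eq_top (span_homogeneous_eq_top (R := R) ℳ)] at hhead
  obtain ⟨x₀, ⟨n₀, hx₀⟩, hann⟩ := hhead
  have hann' : Ideal.torsionOf R M x₀ ≤ (p.head : PrimeSpectrum R).asIdeal := by
    intro r hr
    apply hann
    rw [Submodule.mem_annihilator_span_singleton]
    exact (Ideal.mem_torsionOf_iff _ _).mp hr
  -- the head is not the irrelevant ideal
  have hnot : ¬ irr 𝒜 ≤ (p.head : PrimeSpectrum R).asIdeal := by
    intro hirr
    have hlen : 0 < p.length := by omega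
    have hlt : p.head < p ⟨1, by omega⟩ := by
      apply p.strictMono
      show (0 : Fin (p.length + 1)) < ⟨1, by omega⟩
      rw [Fin.lt_def]
      simp
    have hlt' : (p.head : PrimeSpectrum R).asIdeal < (p ⟨1, by omega⟩ : PrimeSpectrum R).asIdeal :=
      hlt
    have e1 := eq_irr_of_le 𝒜 hpos h0 _ (p.head : PrimeSpectrum R).isPrime.ne_top hirr
    have e2 := eq_irr_of_le 𝒜 hpos h0 _ (p ⟨1, by omega⟩ : PrimeSpectrum R).isPrime.ne_top
      (hirr.trans hlt'.le)
    rw [e1, e2] at hlt'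
    exact lt_irrefl _ hlt'
  have hu : ∃ u ∈ 𝒜 1, u ∉ (p.head : PrimeSpectrum R).asIdeal := by
    by_contra hcon
    push Not at hcon
    apply hnot
    show Ideal.span _ ≤ _
    rw [hstd, Ideal.span_le]
    exact hcon
  obtain ⟨u, hu1, hup⟩ := hu
  refine ⟨n₀, fun n hn => ?_⟩
  obtain ⟨j, rfl⟩ : ∃ j : ℕ, n = n₀ + j := ⟨(n - n₀).toNat, by omega⟩
  refine ⟨u ^ j • x₀, pow_smul_mem_piece 𝒜 ℳ hu1 hx₀ j, ?_⟩
  have hI : Ideal.torsionOf R M (u ^ j • x₀) ≤ (p.head : PrimeSpectrum R).asIdeal := by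
    intro r hr
    rw [Ideal.mem_torsionOf_iff, ← mul_smul] at hr
    have h2 : r * u ^ j ∈ (p.head : PrimeSpectrum R).asIdeal :=
      hann' ((Ideal.mem_torsionOf_iff _ _).mpr hr)
    rcases (p.head : PrimeSpectrum R).isPrime.mem_or_mem h2 with h3 | h3
    · exact h3
    · exact absurd ((p.head : PrimeSpectrum R).isPrime.mem_of_pow_mem _ h3) hup
  rw [ringKrullDim_quotient, Order.le_krullDim_iff]
  have hmem : ∀ i : Fin (p.length + 1), (p i : PrimeSpectrum R) ∈
      PrimeSpectrum.zeroLocus (R := R) (Ideal.torsionOf R M (u ^ j • x₀)) := by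
    intro i
    rw [PrimeSpectrum.mem_zeroLocus]
    intro r hr
    have hle : p.head ≤ p i := p.head_le i
    exact hle (hI hr)
  refine ⟨LTSeries.mk p.length (fun i => ⟨(p i : PrimeSpectrum R), hmem i⟩) ?_, hp⟩
  intro i i' hii'
  exact p.strictMono hii'

end Std

section Pre

variable {k : Type u} [Field k] {R S T : Type u} [CommRing R] [CommRing S] [CommRing T] [Algebra k R]
  [Algebra k S] [Algebra k T] (ψ : T →ₐ[k] R ⊗[k] S)
  {M : Type u} [AddCommGroup M] [Module R M] [Module k M] [IsScalarTower k R M]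
  (ℳ : ℤ → AddSubgroup M)
  {N : Type u} [AddCommGroup N] [Module S N] [Module k N] [IsScalarTower k S N]
  (𝒩 : ℤ → AddSubgroup N)
  {P : Type u} [AddCommGroup P] [Module T P] [Module k P] [IsScalarTower k T P]
  (𝒬 : ℤ → AddSubgroup P) [DirectSum.Decomposition 𝒬] (φ : P →ₗ[k] M ⊗[k] N)
  (hP : GrSeg.IsSegreMod ψ ℳ 𝒩 𝒬 φ)

include hP in
theorem exists_preimage_tmul {n : ℤ} {x : M} (hx : x ∈ ℳ n) {y : N} (hy : y ∈ 𝒩 n) :
    ∃ p ∈ 𝒬 n, φ p = x ⊗ₜ[k] y := by
  have h : x ⊗ₜ[k] y ∈ (GrSeg.segrePiece k ℳ 𝒩 n : Set (M ⊗[k] N)) :=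
    Submodule.subset_span ⟨x, hx, y, hy, rfl⟩
  rw [← hP.image_piece n] at h
  obtain ⟨p, hp, h⟩ := h
  exact ⟨p, hp, h⟩

end Pre

end Groth.Agent.Lib.helper26.Seg
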