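import Mathlib
import Groth.Agent.Lib.Helper19.Segre
import Groth.Agent.Lib.Helper26.Seg10
import Groth.Agent.Lib.Helper26.Seg27

/-!
# Graded modules over graded `k`-algebras: components, homogeneous submodules (helper26)

* `cmp ℳ m n`: the degree `n` component of `m`, and its calculus (`cmp_smul`, …);
* `mem_span_image_smul_top_iff`: elements of `(y_i : i ∈ F) M` are the sums `∑ y_i • c_i`;
* `cmp_mem_span_image_smul_top`: `(y_i : i ∈ F) M` is a homogeneous submodule for homogeneous `y_i`;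
* `exists_homogeneous_coeffs`: homogeneous coefficients;
* `mem_of_smul_mem_of_notMem_irr`: graded descent from the localization at the irrelevant ideal.
-/

set_option autoImplicit false
set_option linter.unusedSectionVars false
universe u

namespace Groth.Agent.Lib.helper26.GrCM

open Groth.Agent.Lib.helper26.Seg

section Basics

variable {k : Type u} [Field k] {R : Type u} [CommRing R] [Algebra k R]
  (𝒜 : ℤ → Submodule k R) [GradedAlgebra 𝒜]
  {M : Type u} [AddCommGroup M] [Module R M] [Module k M] [IsScalarTower k R M]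
  (ℳ : ℤ → AddSubgroup M) [DirectSum.Decomposition ℳ] [SetLike.GradedSMul 𝒜 ℳ]

/-- the degree `n` component -/
noncomputable def cmp (m : M) (n : ℤ) : M := ((DirectSum.decompose ℳ m n : ℳ n) : M)

theorem cmp_mem (m : M) (n : ℤ) : cmp ℳ m n ∈ ℳ n := SetLike.coe_mem _

theorem cmp_zero (n : ℤ) : cmp ℳ (0 : M) n = 0 := by
  unfold cmp
  rw [DirectSum.decompose_zero, DirectSum.zero_apply, ZeroMemClass.coe_zero]

theorem cmp_add (m m' : M) (n : ℤ) : cmp ℳ (m + m') n = cmp ℳ m n + cmp ℳ m' n := by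
  unfold cmp
  rw [DirectSum.decompose_add, DirectSum.add_apply, AddMemClass.coe_add]

theorem cmp_neg (m : M) (n : ℤ) : cmp ℳ (-m) n = -cmp ℳ m n := by
  have h := cmp_add ℳ m (-m) n
  rw [add_neg_cancel, cmp_zero] at h
  exact (neg_eq_of_add_eq_zero_right h.symm).symm

theorem cmp_sub (m m' : M) (n : ℤ) : cmp ℳ (m - m') n = cmp ℳ m n - cmp ℳ m' n := by
  rw [sub_eq_add_neg, cmp_add, cmp_neg, ← sub_eq_add_neg]

theorem cmp_sum {ι : Type*} (F : Finset ι) (f : ι → M) (n : ℤ) :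
    cmp ℳ (∑ i ∈ F, f i) n = ∑ i ∈ F, cmp ℳ (f i) n := by
  classical
  induction F using Finset.induction_on with
  | empty => simp [cmp_zero]
  | insert a F ha ih => rw [Finset.sum_insert ha, Finset.sum_insert ha, cmp_add, ih]

theorem cmp_of_mem_same {m : M} {n : ℤ} (hm : m ∈ ℳ n) : cmp ℳ m n = m :=
  DirectSum.decompose_of_mem_same ℳ hm

theorem cmp_of_mem_ne {m : M} {i n : ℤ} (hm : m ∈ ℳ i) (h : i ≠ n) : cmp ℳ m n = 0 :=
  DirectSum.decompose_of_mem_ne ℳ hm h

theorem cmp_cmp_same (m : M) (n : ℤ) : cmp ℳ (cmp ℳ m n) n = cmp ℳ m n :=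
  cmp_of_mem_same ℳ (cmp_mem ℳ m n)

theorem sum_cmp [DecidableEq M] (m : M) :
    ∑ n ∈ (DirectSum.decompose ℳ m).support, cmp ℳ m n = m :=
  DirectSum.sum_support_decompose ℳ m

theorem cmp_smul {i : ℤ} {r : R} (hr : r ∈ 𝒜 i) (m : M) (n : ℤ) :
    cmp ℳ (r • m) n = r • cmp ℳ m (n - i) :=
  Groth.Agent.Lib.helper19.Segre.decompose_smul_apply 𝒜 ℳ hr m n

theorem cmp_smul' {i : ℤ} {r : R} (hr : r ∈ 𝒜 i) (m : M) (n : ℤ) :
    cmp ℳ (r • m) (i + n) = r • cmp ℳ m n := by
  rw [cmp_smul 𝒜 ℳ hr, add_sub_cancel_left]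

include 𝒜 in
theorem cmp_ksmul (c : k) (m : M) (n : ℤ) : cmp ℳ (c • m) n = c • cmp ℳ m n := by
  have h1 : c • m = (algebraMap k R c) • m := by rw [algebraMap_smul]
  rw [h1, cmp_smul 𝒜 ℳ (SetLike.algebraMap_mem_graded 𝒜 c), sub_zero, algebraMap_smul]

theorem smul_mem {i j : ℤ} {r : R} (hr : r ∈ 𝒜 i) {m : M} (hm : m ∈ ℳ j) : r • m ∈ ℳ (i + j) :=
  Groth.Agent.Lib.helper19.Segre.smul_mem_add 𝒜 ℳ hr hm

include 𝒜 in
theorem ksmul_mem {j : ℤ} (c : k) {m : M} (hm : m ∈ ℳ j) : c • m ∈ ℳ j :=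
  Groth.Agent.Lib.helper19.Segre.ksmul_mem 𝒜 ℳ c hm

/-- the degree `n` projection as a `k`-linear map -/
noncomputable def projM (n : ℤ) : M →ₗ[k] M where
  toFun m := cmp ℳ m n
  map_add' m m' := cmp_add ℳ m m' n
  map_smul' c m := cmp_ksmul 𝒜 ℳ c m n

theorem projM_apply (n : ℤ) (m : M) : projM 𝒜 ℳ n m = cmp ℳ m n := rfl

/-- the pieces as `k`-subspaces -/
def pieceK (n : ℤ) : Submodule k M :=
  { (ℳ n) with smul_mem' := fun c _ hm => ksmul_mem 𝒜 ℳ c hm }

theorem mem_pieceK {n : ℤ} {m : M} : m ∈ pieceK 𝒜 ℳ n ↔ m ∈ ℳ n := Iff.rfl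

/-- components of a general scalar multiple -/
theorem cmp_smul_general [DecidableEq R] (r : R) (m : M) (n : ℤ) :
    cmp ℳ (r • m) n = ∑ i ∈ (DirectSum.decompose 𝒜 r).support,
      ((DirectSum.decompose 𝒜 r i : 𝒜 i) : R) • cmp ℳ m (n - i) := by
  conv_lhs => rw [← DirectSum.sum_support_decompose 𝒜 r, Finset.sum_smul]
  rw [cmp_sum]
  refine Finset.sum_congr rfl fun i _ => ?_
  exact cmp_smul 𝒜 ℳ (SetLike.coe_mem _) m n

end Basics

section Span

variable {k : Type u} [Field k] {R : Type u} [CommRing R] [Algebra k R]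
  (𝒜 : ℤ → Submodule k R) [GradedAlgebra 𝒜]
  {M : Type u} [AddCommGroup M] [Module R M] [Module k M] [IsScalarTower k R M]
  (ℳ : ℤ → AddSubgroup M) [DirectSum.Decomposition ℳ] [SetLike.GradedSMul 𝒜 ℳ]
  {ι : Type} [DecidableEq ι]

omit [DecidableEq ι] in
/-- elements of `(y_i : i ∈ F) M` -/
theorem mem_span_image_smul_top_iff (y : ι → R) (F : Finset ι) (m : M) :
    m ∈ Ideal.span (y '' (F : Set ι)) • (⊤ : Submodule R M) ↔
      ∃ c : ι → M, m = ∑ i ∈ F, y i • c i := by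
  classical
  constructor
  · intro hm
    refine Submodule.smul_induction_on hm ?_ ?_
    · intro r hr n _
      induction hr using Submodule.span_induction with
      | mem x hx =>
        obtain ⟨i, hi, rfl⟩ := hx
        refine ⟨fun j => if j = i then n else 0, ?_⟩
        rw [Finset.sum_eq_single i]
        · simp
        · intro j _ hji; simp [hji]
        · intro hi'; exact absurd (Finset.mem_coe.1 hi) hi'
      | zero => exact ⟨fun _ => 0, by simp⟩
      | add x x' _ _ hx hx' =>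
        obtain ⟨c, hc⟩ := hx
        obtain ⟨c', hc'⟩ := hx'
        exact ⟨fun i => c i + c' i, by
          rw [add_smul, hc, hc', ← Finset.sum_add_distrib]
          exact Finset.sum_congr rfl fun i _ => (smul_add _ _ _).symm⟩
      | smul a x _ hx =>
        obtain ⟨c, hc⟩ := hx
        exact ⟨fun i => a • c i, by
          rw [smul_eq_mul, mul_smul, hc, Finset.smul_sum]
          exact Finset.sum_congr rfl fun i _ => smul_comm _ _ _⟩
    · rintro x x' ⟨c, hc⟩ ⟨c', hc'⟩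
      exact ⟨fun i => c i + c' i, by
        rw [hc, hc', ← Finset.sum_add_distrib]
        exact Finset.sum_congr rfl fun i _ => (smul_add _ _ _).symm⟩
  · rintro ⟨c, rfl⟩
    refine Submodule.sum_mem _ fun i hi => ?_
    exact Submodule.smul_mem_smul (Ideal.subset_span ⟨i, Finset.mem_coe.2 hi, rfl⟩) trivial

omit [DecidableEq ι] in
/-- `(y_i : i ∈ F) M` is a homogeneous submodule, for homogeneous `y_i` -/
theorem cmp_mem_span_image_smul_top (y : ι → R) (d : ι → ℤ) (hy : ∀ i, y i ∈ 𝒜 (d i))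
    (F : Finset ι) {m : M} (hm : m ∈ Ideal.span (y '' (F : Set ι)) • (⊤ : Submodule R M)) (n : ℤ) :
    cmp ℳ m n ∈ Ideal.span (y '' (F : Set ι)) • (⊤ : Submodule R M) := by
  rw [mem_span_image_smul_top_iff] at hm ⊢
  obtain ⟨c, rfl⟩ := hm
  refine ⟨fun i => cmp ℳ (c i) (n - d i), ?_⟩
  rw [cmp_sum]
  exact Finset.sum_congr rfl fun i _ => cmp_smul 𝒜 ℳ (hy i) (c i) n

omit [DecidableEq ι] in
/-- homogeneous coefficients -/
theorem exists_homogeneous_coeffs (y : ι → R) (d : ι → ℤ) (hy : ∀ i, y i ∈ 𝒜 (d i))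
    (F : Finset ι) {m : M} {n : ℤ} (hmn : m ∈ ℳ n)
    (hm : m ∈ Ideal.span (y '' (F : Set ι)) • (⊤ : Submodule R M)) :
    ∃ c : ι → M, (∀ i, c i ∈ ℳ (n - d i)) ∧ m = ∑ i ∈ F, y i • c i := by
  rw [mem_span_image_smul_top_iff] at hm
  obtain ⟨c, hc⟩ := hm
  refine ⟨fun i => cmp ℳ (c i) (n - d i), fun i => cmp_mem ℳ _ _, ?_⟩
  have h1 : cmp ℳ m n = m := cmp_of_mem_same ℳ hmn
  rw [← h1, hc, cmp_sum]
  exact Finset.sum_congr rfl fun i _ => cmp_smul 𝒜 ℳ (hy i) (c i) n

end Span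

section Descent

variable {k : Type u} [Field k] {R : Type u} [CommRing R] [Algebra k R]
  (𝒜 : ℤ → Submodule k R) [GradedAlgebra 𝒜]
  (hpos : ∀ n : ℤ, n < 0 → 𝒜 n = ⊥) (h0 : 𝒜 0 = Submodule.span k {(1 : R)})
  {M : Type u} [AddCommGroup M] [Module R M] [Module k M] [IsScalarTower k R M]
  (ℳ : ℤ → AddSubgroup M) [DirectSum.Decomposition ℳ] [SetLike.GradedSMul 𝒜 ℳ]

include hpos h0 in
/-- graded descent: a homogeneous element which lies in a homogeneous submodule after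
multiplication by an element outside the irrelevant ideal lies in that submodule -/
theorem mem_of_smul_mem_of_notMem_irr (L : Submodule R M) (hL : ∀ m ∈ L, ∀ n, cmp ℳ m n ∈ L)
    {z : M} {i : ℤ} (hz : z ∈ ℳ i) {σ : R} (hσ : σ ∉ irr 𝒜) (h : σ • z ∈ L) : z ∈ L := by
  classical
  obtain ⟨c, hc⟩ := exists_sub_mem_irr 𝒜 hpos h0 σ
  have hc0 : c ≠ 0 := by
    rintro rfl
    rw [map_zero, sub_zero] at hc
    exact hσ hc
  have h1 := hL _ h i
  rw [cmp_smul_general 𝒜 ℳ] at h1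
  have h2 : ∑ j ∈ (DirectSum.decompose 𝒜 σ).support,
      ((DirectSum.decompose 𝒜 σ j : 𝒜 j) : R) • cmp ℳ z (i - j) =
      ((DirectSum.decompose 𝒜 σ 0 : 𝒜 0) : R) • z := by
    by_cases h00 : (0 : ℤ) ∈ (DirectSum.decompose 𝒜 σ).support
    · rw [Finset.sum_eq_single (0 : ℤ)]
      · rw [sub_zero, cmp_of_mem_same ℳ hz]
      · intro j _ hj
        rw [cmp_of_mem_ne ℳ hz (by omega), smul_zero]
      · intro h; exact absurd h00 h
    · rw [Finset.sum_eq_zero]
      · rw [DFinsupp.notMem_support_iff] at h00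
        rw [h00, ZeroMemClass.coe_zero, zero_smul]
      · intro j hj
        have hj0 : j ≠ 0 := by rintro rfl; exact h00 hj
        rw [cmp_of_mem_ne ℳ hz (by omega), smul_zero]
  rw [h2] at h1
  have h3 : ((DirectSum.decompose 𝒜 σ 0 : 𝒜 0) : R) = algebraMap k R c := by
    have h4 := decompose_zero_of_mem_irr 𝒜 hpos hc
    rw [DirectSum.decompose_sub, DirectSum.sub_apply, AddSubgroupClass.coe_sub,
      DirectSum.decompose_of_mem_same 𝒜 (SetLike.algebraMap_mem_graded 𝒜 c), sub_eq_zero] at h4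
    exact h4
  rw [h3] at h1
  have h5 : z = algebraMap k R c⁻¹ • (algebraMap k R c • z) := by
    rw [← mul_smul, ← map_mul, inv_mul_cancel₀ hc0, map_one, one_smul]
  rw [h5]
  exact L.smul_mem _ h1

end Descent

end Groth.Agent.Lib.helper26.GrCM
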