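import Mathlib
import Groth.Prelude.Def_GrSeg
import Groth.Agent.Lib.Helper26.GrCM3

/-!
# Segre products of graded modules: basic tools (helper26)

* `phi_mem`, `exists_of_mem_segrePiece`, `act_mem_segrePiece`, `gradedSMul`;
* the bigraded projections `biP a b` of `M ⊗ N` and their calculus;
* `act` of pure tensors: factorization and injectivity;
* `mem_span_smul_top_of_phi_eq` (divisibility): if `φ p = ∑ (x ⊗ y_i) • w_i` in `M ⊗ N` then
  `p ∈ (t_i) P`, where `ψ t_i = x ⊗ y_i`.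
-/

set_option autoImplicit false
set_option linter.unusedSectionVars false
universe u
open scoped TensorProduct

namespace Groth.Agent.Lib.helper26.GrCM

open Groth.Agent.Lib.helper26.Seg

variable {k : Type u} [Field k] {R : Type u} [CommRing R] [Algebra k R]
  (𝒜 : ℤ → Submodule k R) [GradedAlgebra 𝒜]
  {S : Type u} [CommRing S] [Algebra k S] (ℬ : ℤ → Submodule k S) [GradedAlgebra ℬ]
  {T : Type u} [CommRing T] [Algebra k T] (𝒯 : ℤ → Submodule k T) [GradedAlgebra 𝒯]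
  (ψ : T →ₐ[k] R ⊗[k] S)
  {M : Type u} [AddCommGroup M] [Module R M] [Module k M] [IsScalarTower k R M]
  (ℳ : ℤ → AddSubgroup M) [DirectSum.Decomposition ℳ] [SetLike.GradedSMul 𝒜 ℳ]
  {N : Type u} [AddCommGroup N] [Module S N] [Module k N] [IsScalarTower k S N]
  (𝒩 : ℤ → AddSubgroup N) [DirectSum.Decomposition 𝒩] [SetLike.GradedSMul ℬ 𝒩]
  {P : Type u} [AddCommGroup P] [Module T P] [Module k P] [IsScalarTower k T P]
  (𝒬 : ℤ → AddSubgroup P) [DirectSum.Decomposition 𝒬]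
  (φ : P →ₗ[k] M ⊗[k] N) (hP : GrSeg.IsSegreMod ψ ℳ 𝒩 𝒬 φ)
  (hdegT : ∀ n : ℤ, (𝒯 n).map ψ.toLinearMap =
    Submodule.span k {x : R ⊗[k] S | ∃ a ∈ 𝒜 n, ∃ b ∈ ℬ n, x = a ⊗ₜ[k] b})

section Act

theorem act_tmul_eq_comp (x : R) (y : S) (w : M ⊗[k] N) :
    GrSeg.act k R S M N (x ⊗ₜ[k] y) w =
      GrSeg.act k R S M N (x ⊗ₜ[k] (1 : S)) (GrSeg.act k R S M N ((1 : R) ⊗ₜ[k] y) w) := by
  induction w using TensorProduct.induction_on with
  | zero => simp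
  | tmul m n => rw [GrSeg.act_tmul, GrSeg.act_tmul, GrSeg.act_tmul, one_smul, one_smul]
  | add w w' h h' => rw [map_add, map_add, map_add, h, h']

theorem act_tmul_eq_comp' (x : R) (y : S) (w : M ⊗[k] N) :
    GrSeg.act k R S M N (x ⊗ₜ[k] y) w =
      GrSeg.act k R S M N ((1 : R) ⊗ₜ[k] y) (GrSeg.act k R S M N (x ⊗ₜ[k] (1 : S)) w) := by
  induction w using TensorProduct.induction_on with
  | zero => simp
  | tmul m n => rw [GrSeg.act_tmul, GrSeg.act_tmul, GrSeg.act_tmul, one_smul, one_smul]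
  | add w w' h h' => rw [map_add, map_add, map_add, h, h']

theorem act_tmul_one_injective {x : R} (hx : IsSMulRegular M x) :
    Function.Injective (GrSeg.act k R S M N (x ⊗ₜ[k] (1 : S))) := by
  let f : M →ₗ[k] M := (LinearMap.lsmul R M x).restrictScalars k
  have hf : Function.Injective f := hx
  have h1 : GrSeg.act k R S M N (x ⊗ₜ[k] (1 : S)) = f.rTensor N := by
    apply TensorProduct.ext'
    intro m n
    rw [GrSeg.act_tmul, one_smul, LinearMap.rTensor_tmul]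
    rfl
  rw [h1]
  exact Module.Flat.rTensor_preserves_injective_linearMap f hf

theorem act_one_tmul_injective {y : S} (hy : IsSMulRegular N y) :
    Function.Injective (GrSeg.act k R S M N ((1 : R) ⊗ₜ[k] y)) := by
  let f : N →ₗ[k] N := (LinearMap.lsmul S N y).restrictScalars k
  have hf : Function.Injective f := hy
  have h1 : GrSeg.act k R S M N ((1 : R) ⊗ₜ[k] y) = f.lTensor M := by
    apply TensorProduct.ext'
    intro m n
    rw [GrSeg.act_tmul, one_smul, LinearMap.lTensor_tmul]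
    rfl
  rw [h1]
  exact Module.Flat.lTensor_preserves_injective_linearMap f hf

theorem act_tmul_injective {x : R} {y : S} (hx : IsSMulRegular M x) (hy : IsSMulRegular N y) :
    Function.Injective (GrSeg.act k R S M N (x ⊗ₜ[k] y)) := by
  intro w w' h
  rw [act_tmul_eq_comp, act_tmul_eq_comp x y w'] at h
  exact act_one_tmul_injective hy (act_tmul_one_injective hx h)

end Act

section Pieces

include hP in
theorem phi_mem {n : ℤ} {p : P} (hp : p ∈ 𝒬 n) : φ p ∈ GrSeg.segrePiece k ℳ 𝒩 n := by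
  have h : φ p ∈ (GrSeg.segrePiece k ℳ 𝒩 n : Set (M ⊗[k] N)) := by
    rw [← hP.image_piece n]
    exact ⟨p, hp, rfl⟩
  exact h

include hP in
theorem exists_of_mem_segrePiece {n : ℤ} {z : M ⊗[k] N} (hz : z ∈ GrSeg.segrePiece k ℳ 𝒩 n) :
    ∃ p ∈ 𝒬 n, φ p = z := by
  have h : z ∈ (GrSeg.segrePiece k ℳ 𝒩 n : Set (M ⊗[k] N)) := hz
  rw [← hP.image_piece n] at h
  obtain ⟨p, hp, h⟩ := h
  exact ⟨p, hp, h⟩

theorem act_mem_segrePiece {i j : ℤ} {w : R ⊗[k] S}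
    (hw : w ∈ Submodule.span k {x : R ⊗[k] S | ∃ a ∈ 𝒜 i, ∃ b ∈ ℬ i, x = a ⊗ₜ[k] b})
    {z : M ⊗[k] N} (hz : z ∈ GrSeg.segrePiece k ℳ 𝒩 j) :
    GrSeg.act k R S M N w z ∈ GrSeg.segrePiece k ℳ 𝒩 (i + j) := by
  induction hw using Submodule.span_induction with
  | mem w hw =>
    obtain ⟨a, ha, b, hb, rfl⟩ := hw
    unfold GrSeg.segrePiece at hz
    induction hz using Submodule.span_induction with
    | mem z hz =>
      obtain ⟨m, hm, n, hn, rfl⟩ := hz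
      rw [GrSeg.act_tmul]
      exact Submodule.subset_span ⟨_, smul_mem 𝒜 ℳ ha hm, _, smul_mem ℬ 𝒩 hb hn, rfl⟩
    | zero => rw [map_zero]; exact zero_mem _
    | add z z' _ _ h h' => rw [map_add]; exact add_mem h h'
    | smul c z _ h => rw [map_smul]; exact Submodule.smul_mem _ _ h
  | zero => rw [map_zero, LinearMap.zero_apply]; exact zero_mem _
  | add w w' _ _ h h' => rw [map_add, LinearMap.add_apply]; exact add_mem h h'
  | smul c w _ h => rw [map_smul, LinearMap.smul_apply]; exact Submodule.smul_mem _ _ h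

include hP hdegT in
/-- the Segre product of graded modules is a graded module over the Segre product of the rings -/
theorem gradedSMul : SetLike.GradedSMul 𝒯 𝒬 := by
  refine ⟨fun {i j} {t p} ht hp => ?_⟩
  rw [vadd_eq_add]
  have h1 : ψ t ∈ Submodule.span k {x : R ⊗[k] S | ∃ a ∈ 𝒜 i, ∃ b ∈ ℬ i, x = a ⊗ₜ[k] b} := by
    rw [← hdegT i]; exact ⟨t, ht, rfl⟩
  have h2 := act_mem_segrePiece 𝒜 ℬ ℳ 𝒩 h1 (phi_mem ψ ℳ 𝒩 𝒬 φ hP hp)
  rw [← hP.map_smul] at h2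
  obtain ⟨p', hp', h3⟩ := exists_of_mem_segrePiece ψ ℳ 𝒩 𝒬 φ hP h2
  rw [← hP.injective h3]
  exact hp'

end Pieces

section BiProj

/-- the projection of `M ⊗ N` onto its bidegree `(a, b)` part -/
noncomputable def biP (a b : ℤ) : M ⊗[k] N →ₗ[k] M ⊗[k] N :=
  TensorProduct.map (projM 𝒜 ℳ a) (projM ℬ 𝒩 b)

theorem biP_tmul (a b : ℤ) (m : M) (n : N) :
    biP 𝒜 ℬ ℳ 𝒩 a b (m ⊗ₜ[k] n) = cmp ℳ m a ⊗ₜ[k] cmp 𝒩 n b := by
  unfold biP
  rw [TensorProduct.map_tmul, projM_apply, projM_apply]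

theorem biP_mem (a b : ℤ) (w : M ⊗[k] N) :
    biP 𝒜 ℬ ℳ 𝒩 a b w ∈
      Submodule.span k {z : M ⊗[k] N | ∃ m ∈ ℳ a, ∃ n ∈ 𝒩 b, z = m ⊗ₜ[k] n} := by
  induction w using TensorProduct.induction_on with
  | zero => rw [map_zero]; exact zero_mem _
  | tmul m n =>
    rw [biP_tmul]
    exact Submodule.subset_span ⟨_, cmp_mem ℳ _ _, _, cmp_mem 𝒩 _ _, rfl⟩
  | add x y hx hy => rw [map_add]; exact add_mem hx hy

theorem biP_mem_segrePiece (n : ℤ) (w : M ⊗[k] N) :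
    biP 𝒜 ℬ ℳ 𝒩 n n w ∈ GrSeg.segrePiece k ℳ 𝒩 n := biP_mem 𝒜 ℬ ℳ 𝒩 n n w

theorem biP_fix {n : ℤ} {w : M ⊗[k] N} (hw : w ∈ GrSeg.segrePiece k ℳ 𝒩 n) :
    biP 𝒜 ℬ ℳ 𝒩 n n w = w := by
  unfold GrSeg.segrePiece at hw
  induction hw using Submodule.span_induction with
  | mem x hx =>
    obtain ⟨a', ha', b', hb', rfl⟩ := hx
    rw [biP_tmul, cmp_of_mem_same ℳ ha', cmp_of_mem_same 𝒩 hb']
  | zero => rw [map_zero]
  | add x y _ _ hx hy => rw [map_add, hx, hy]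
  | smul c x _ hx => rw [map_smul, hx]

theorem biP_eq_zero_of_ne {m n : ℤ} (hmn : m ≠ n) {w : M ⊗[k] N}
    (hw : w ∈ GrSeg.segrePiece k ℳ 𝒩 m) : biP 𝒜 ℬ ℳ 𝒩 n n w = 0 := by
  unfold GrSeg.segrePiece at hw
  induction hw using Submodule.span_induction with
  | mem x hx =>
    obtain ⟨a', ha', b', hb', rfl⟩ := hx
    rw [biP_tmul, cmp_of_mem_ne ℳ ha' hmn, TensorProduct.zero_tmul]
  | zero => rw [map_zero]
  | add x y _ _ hx hy => rw [map_add, hx, hy, add_zero]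
  | smul c x _ hx => rw [map_smul, hx, smul_zero]

theorem biP_act {i j : ℤ} {r : R} (hr : r ∈ 𝒜 i) {z : S} (hz : z ∈ ℬ j) (a b : ℤ)
    (w : M ⊗[k] N) :
    biP 𝒜 ℬ ℳ 𝒩 (i + a) (j + b) (GrSeg.act k R S M N (r ⊗ₜ[k] z) w) =
      GrSeg.act k R S M N (r ⊗ₜ[k] z) (biP 𝒜 ℬ ℳ 𝒩 a b w) := by
  induction w using TensorProduct.induction_on with
  | zero => simp
  | tmul m n =>
    rw [GrSeg.act_tmul, biP_tmul, biP_tmul, GrSeg.act_tmul, cmp_smul' 𝒜 ℳ hr, cmp_smul' ℬ 𝒩 hz]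
  | add x y hx hy => rw [map_add, map_add, map_add, map_add, hx, hy]

include hP in
theorem biP_phi (p : P) (n : ℤ) : biP 𝒜 ℬ ℳ 𝒩 n n (φ p) = φ (cmp 𝒬 p n) := by
  classical
  conv_lhs => rw [← sum_cmp 𝒬 p]
  rw [map_sum, map_sum]
  by_cases hn : n ∈ (DirectSum.decompose 𝒬 p).support
  · rw [Finset.sum_eq_single n]
    · exact biP_fix 𝒜 ℬ ℳ 𝒩 (phi_mem ψ ℳ 𝒩 𝒬 φ hP (cmp_mem 𝒬 p n))
    · intro m _ hmn
      exact biP_eq_zero_of_ne 𝒜 ℬ ℳ 𝒩 hmn (phi_mem ψ ℳ 𝒩 𝒬 φ hP (cmp_mem 𝒬 p m))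
    · intro h; exact absurd hn h
  · rw [Finset.sum_eq_zero]
    · rw [DFinsupp.notMem_support_iff] at hn
      unfold cmp
      rw [hn, ZeroMemClass.coe_zero, map_zero]
    · intro m hm
      have hmn : m ≠ n := by rintro rfl; exact hn hm
      exact biP_eq_zero_of_ne 𝒜 ℬ ℳ 𝒩 hmn (phi_mem ψ ℳ 𝒩 𝒬 φ hP (cmp_mem 𝒬 p m))

end BiProj

section Div

variable {ι : Type} (F : Finset ι)

include hP in
/-- **Divisibility**: if `φ p = ∑ (x ⊗ y_i) • w_i` in `M ⊗ N` then `p ∈ (t_i) P`. -/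
theorem mem_span_smul_top_of_phi_eq {e : ℤ} {x : R} (hx : x ∈ 𝒜 e) (y : ι → S)
    (hy : ∀ i, y i ∈ ℬ e) (t : ι → T) (hψt : ∀ i, ψ (t i) = x ⊗ₜ[k] y i)
    (p : P) (w : ι → M ⊗[k] N)
    (hpw : φ p = ∑ i ∈ F, GrSeg.act k R S M N (x ⊗ₜ[k] y i) (w i)) :
    p ∈ Ideal.span (t '' (F : Set ι)) • (⊤ : Submodule T P) := by
  classical
  rw [← sum_cmp 𝒬 p]
  refine Submodule.sum_mem _ fun n _ => ?_
  have h1 : φ (cmp 𝒬 p n) = ∑ i ∈ F, GrSeg.act k R S M N (x ⊗ₜ[k] y i)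
      (biP 𝒜 ℬ ℳ 𝒩 (n - e) (n - e) (w i)) := by
    rw [← biP_phi 𝒜 ℬ ψ ℳ 𝒩 𝒬 φ hP, hpw, map_sum]
    refine Finset.sum_congr rfl fun i _ => ?_
    have h2 := biP_act 𝒜 ℬ ℳ 𝒩 hx (hy i) (n - e) (n - e) (w i)
    rw [add_sub_cancel] at h2
    exact h2
  have h3 : ∀ i, ∃ q ∈ 𝒬 (n - e), φ q = biP 𝒜 ℬ ℳ 𝒩 (n - e) (n - e) (w i) := fun i =>
    exists_of_mem_segrePiece ψ ℳ 𝒩 𝒬 φ hP (biP_mem_segrePiece 𝒜 ℬ ℳ 𝒩 (n - e) (w i))
  choose q _ hq using h3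
  have h4 : cmp 𝒬 p n = ∑ i ∈ F, t i • q i := by
    apply hP.injective
    rw [h1, map_sum]
    refine Finset.sum_congr rfl fun i _ => ?_
    rw [hP.map_smul, hψt, hq]
  rw [h4]
  refine Submodule.sum_mem _ fun i hi => ?_
  exact Submodule.smul_mem_smul (Ideal.subset_span ⟨i, Finset.mem_coe.2 hi, rfl⟩) trivial

end Div

end Groth.Agent.Lib.helper26.GrCM
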