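import Mathlib
import Groth.Agent.Lib.Helper26.Seg13

/-!
# Depth one criteria for Segre products (helper26)

* `idealDepth_eq_one_of_torsion`: if `a ∈ J` is regular, `b ∉ (a)` and `J^N b ⊆ (a)` then
  `depth_J T = 1`.
* `idealDepth_irr_segre_eq_one'`: the Segre product `T = R # S` has `depth_{T₊} T = 1` as soon as
  some homogeneous `r ∈ R_{n+D}` is not divisible by the regular `x ∈ R_D`, `R₊` is nilpotent modulo
  `x`, `S_n ≠ 0` and `S_D` contains a regular element.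
-/

set_option autoImplicit false
set_option linter.unusedSectionVars false
universe u
open scoped TensorProduct Pointwise

namespace Groth.Agent.Lib.helper26.Seg

section General

variable {T : Type u} [CommRing T] [IsNoetherianRing T]

theorem idealDepth_eq_one_of_socle (J : Ideal T) (hJ : J ≠ ⊤) {a : T} (haJ : a ∈ J)
    (hareg : IsSMulRegular T a) {b : T} (hbna : b ∉ Ideal.span {a})
    (hsocT : ∀ τ ∈ J, τ * b ∈ Ideal.span {a}) : LocCoh.idealDepth J T = 1 := by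
  have hmem_iff : ∀ z : T, z ∈ (a • (⊤ : Submodule T T)) ↔ z ∈ Ideal.span {a} := by
    intro z
    rw [Submodule.mem_smul_pointwise_iff_exists, Ideal.mem_span_singleton']
    constructor
    · rintro ⟨n, -, rfl⟩; exact ⟨n, by rw [smul_eq_mul, mul_comm]⟩
    · rintro ⟨c, rfl⟩; exact ⟨c, trivial, by rw [smul_eq_mul, mul_comm]⟩
  have h1 := Groth.Agent.Lib.helper26.Depth.idealDepth_quotSMulTop_add_one J T a haJ hareg
  have h2 : LocCoh.idealDepth J (QuotSMulTop a T) = 0 := by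
    apply Groth.Agent.Lib.helper26.Depth.idealDepth_eq_zero_of_annihilated J
      (QuotSMulTop a T) ?_ (Submodule.Quotient.mk b) ?_ ?_
    · intro htop
      apply hJ
      rw [Ideal.eq_top_iff_one]
      have h3 : (Submodule.Quotient.mk (1 : T) : QuotSMulTop a T) ∈
          J • (⊤ : Submodule T (QuotSMulTop a T)) := by rw [htop]; trivial
      have h4 : J • (⊤ : Submodule T (QuotSMulTop a T)) =
          Submodule.map (Submodule.mkQ (a • (⊤ : Submodule T T))) (J • (⊤ : Submodule T T)) := by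
        rw [Submodule.map_smul'', Submodule.map_top, Submodule.range_mkQ]
      rw [h4] at h3
      obtain ⟨z, hz, hz1⟩ := h3
      rw [smul_eq_mul, Ideal.mul_top] at hz
      have h5 : z - 1 ∈ a • (⊤ : Submodule T T) := by
        rw [← Submodule.Quotient.eq]
        exact hz1
      rw [hmem_iff] at h5
      have h6 : z - 1 ∈ J := by
        obtain ⟨c, hc⟩ := Ideal.mem_span_singleton'.1 h5
        rw [← hc]
        exact Ideal.mul_mem_left _ _ haJ
      have := J.sub_mem hz h6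
      simpa using this
    · intro h
      rw [Submodule.Quotient.mk_eq_zero, hmem_iff] at h
      exact hbna h
    · intro τ hτ
      rw [← Submodule.Quotient.mk_smul, Submodule.Quotient.mk_eq_zero, hmem_iff, smul_eq_mul]
      exact hsocT τ hτ
  rw [h2, zero_add] at h1
  exact h1.symm

theorem idealDepth_eq_one_of_torsion (J : Ideal T) (hJ : J ≠ ⊤) {a : T} (haJ : a ∈ J)
    (hareg : IsSMulRegular T a) (N : ℕ) : ∀ {b : T}, b ∉ Ideal.span {a} →
    (∀ τ ∈ J ^ N, τ * b ∈ Ideal.span {a}) → LocCoh.idealDepth J T = 1 := by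
  induction N with
  | zero =>
    intro b hb h
    exfalso
    apply hb
    have := h 1 (by rw [pow_zero, Ideal.one_eq_top]; trivial)
    rwa [one_mul] at this
  | succ N ih =>
    intro b hb h
    by_cases h' : ∀ τ ∈ J ^ N, τ * b ∈ Ideal.span {a}
    · exact ih hb h'
    · push Not at h'
      obtain ⟨τ, hτ, hτb⟩ := h'
      apply idealDepth_eq_one_of_socle J hJ haJ hareg hτb
      intro σ hσ
      rw [← mul_assoc]
      apply h
      rw [pow_succ']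
      exact Ideal.mul_mem_mul hσ hτ

end General

variable {k : Type u} [Field k] {R : Type u} [CommRing R] [Algebra k R]
  (𝒜 : ℤ → Submodule k R) [GradedAlgebra 𝒜]
  {S : Type u} [CommRing S] [Algebra k S] (ℬ : ℤ → Submodule k S) [GradedAlgebra ℬ]
  {T : Type u} [CommRing T] [Algebra k T] (𝒯 : ℤ → Submodule k T) [GradedAlgebra 𝒯]
  (ψ : T →ₐ[k] R ⊗[k] S)
  (hdegT : ∀ n : ℤ, (𝒯 n).map ψ.toLinearMap =
    Submodule.span k {x : R ⊗[k] S | ∃ a ∈ 𝒜 n, ∃ b ∈ ℬ n, x = a ⊗ₜ[k] b})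
  (hψ : Function.Injective ψ)

include hdegT in
/-- `ψ` maps `T₊` into the extension of `R₊` -/
theorem map_irr_le : Ideal.map ψ.toRingHom (irr 𝒯) ≤
    Ideal.map (Algebra.TensorProduct.includeLeft : R →ₐ[k] R ⊗[k] S).toRingHom (irr 𝒜) := by
  rw [Ideal.map_le_iff_le_comap]
  unfold irr
  rw [Ideal.span_le]
  intro g hg
  simp only [Set.mem_iUnion, SetLike.mem_coe] at hg
  obtain ⟨j, hj, hg⟩ := hg
  rw [Set.mem_Ioi] at hj
  rw [SetLike.mem_coe, Ideal.mem_comap]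
  have h3 : ψ g ∈ (𝒯 j).map ψ.toLinearMap := ⟨g, hg, rfl⟩
  rw [hdegT] at h3
  have h4 : Submodule.span k {z | ∃ a' ∈ 𝒜 j, ∃ b' ∈ ℬ j, z = a' ⊗ₜ[k] b'} ≤
      ((Ideal.map (Algebra.TensorProduct.includeLeft : R →ₐ[k] R ⊗[k] S).toRingHom
        (Ideal.span (⋃ i ∈ Set.Ioi (0 : ℤ), (𝒜 i : Set R)))).restrictScalars k) := by
    rw [Submodule.span_le]
    rintro z ⟨a', ha', b', hb', rfl⟩
    rw [SetLike.mem_coe, Submodule.restrictScalars_mem]
    have h5 : a' ⊗ₜ[k] b' = ((1 : R) ⊗ₜ[k] b') *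
        (Algebra.TensorProduct.includeLeft : R →ₐ[k] R ⊗[k] S).toRingHom a' := by
      show _ = _ * (a' ⊗ₜ[k] (1 : S))
      rw [Algebra.TensorProduct.tmul_mul_tmul, one_mul, mul_one]
    rw [h5]
    exact Ideal.mul_mem_left _ _ (Ideal.mem_map_of_mem _ (mem_irr_of_mem 𝒜 hj ha'))
  exact h4 h3

include hdegT in
theorem map_mem_of_mem_irr_pow {x : R} (N : ℕ) (hN : irr 𝒜 ^ N ≤ Ideal.span {x}) {τ : T}
    (hτ : τ ∈ irr 𝒯 ^ N) : ∃ w : R ⊗[k] S, ψ τ = (x ⊗ₜ[k] (1 : S)) * w := by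
  have h1 : ψ.toRingHom τ ∈ Ideal.map ψ.toRingHom (irr 𝒯 ^ N) := Ideal.mem_map_of_mem _ hτ
  rw [Ideal.map_pow] at h1
  have h2 := Ideal.pow_right_mono (map_irr_le 𝒜 ℬ 𝒯 ψ hdegT) N h1
  rw [← Ideal.map_pow] at h2
  have h3 := Ideal.map_mono (f := (Algebra.TensorProduct.includeLeft : R →ₐ[k] R ⊗[k] S).toRingHom)
    hN h2
  rw [Ideal.map_span, Set.image_singleton] at h3
  obtain ⟨w, hw⟩ := Ideal.mem_span_singleton'.1 h3
  refine ⟨w, ?_⟩
  rw [mul_comm]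
  exact hw.symm

include hdegT hψ in
/-- **Depth one for Segre products, general gradings.** -/
theorem idealDepth_irr_segre_eq_one' [IsNoetherianRing T] (hposR : ∀ n : ℤ, n < 0 → 𝒜 n = ⊥)
    {D : ℕ} (hD : 0 < D) {x : R} (hx : x ∈ 𝒜 (D : ℤ)) (hxreg : IsSMulRegular R x)
    {y : S} (hy : y ∈ ℬ (D : ℤ)) (hyreg : IsSMulRegular S y)
    {n : ℤ} {r : R} (hr : r ∈ 𝒜 (n + D)) (hrx : r ∉ Ideal.span {x})
    (N : ℕ) (hN : irr 𝒜 ^ N ≤ Ideal.span {x})
    {s₀ : S} (hs₀ : s₀ ∈ ℬ n) (hs₀ne : s₀ ≠ 0) :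
    LocCoh.idealDepth (irr 𝒯) T = 1 := by
  have ha' : x ⊗ₜ[k] y ∈ (𝒯 (D : ℤ)).map ψ.toLinearMap := by
    rw [hdegT]; exact Submodule.subset_span ⟨x, hx, y, hy, rfl⟩
  obtain ⟨a, haT, ha⟩ := ha'
  have hys : y * s₀ ∈ ℬ (n + D) := by
    have := SetLike.mul_mem_graded hy hs₀
    rwa [add_comm] at this
  have hb' : r ⊗ₜ[k] (y * s₀) ∈ (𝒯 (n + D)).map ψ.toLinearMap := by
    rw [hdegT]; exact Submodule.subset_span ⟨r, hr, _, hys, rfl⟩
  obtain ⟨b, hbT, hb⟩ := hb'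
  replace ha : ψ a = x ⊗ₜ[k] y := ha
  replace hb : ψ b = r ⊗ₜ[k] (y * s₀) := hb
  have hxy : x ⊗ₜ[k] y = (x ⊗ₜ[k] (1 : S)) * ((1 : R) ⊗ₜ[k] y) := by
    rw [Algebra.TensorProduct.tmul_mul_tmul, mul_one, one_mul]
  -- `a` is regular
  have hareg : IsSMulRegular T a := by
    intro z w hzw
    apply hψ
    have h1 : ψ (a * z) = ψ (a * w) := congrArg ψ hzw
    rw [map_mul, map_mul, ha, hxy, mul_assoc, mul_assoc] at h1
    exact isSMulRegular_one_tmul hyreg (isSMulRegular_tmul_one hxreg h1)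
  -- `b ∉ aT`
  have hbna : b ∉ Ideal.span {a} := by
    intro hmem
    obtain ⟨c, hc⟩ := Ideal.mem_span_singleton'.1 hmem
    have h1 : ψ c * ψ a = ψ b := by rw [← map_mul, hc]
    rw [ha, hb] at h1
    have h2 : ((1 : R) ⊗ₜ[k] y) * (r ⊗ₜ[k] s₀) =
        ((1 : R) ⊗ₜ[k] y) * ((x ⊗ₜ[k] (1 : S)) * ψ c) := by
      rw [Algebra.TensorProduct.tmul_mul_tmul, one_mul, ← h1, hxy]
      ring
    exact tmul_ne_mul hrx hs₀ne (ψ c) (isSMulRegular_one_tmul hyreg h2)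
  have hN' : Nontrivial T := by
    by_contra hne
    rw [not_nontrivial_iff_subsingleton] at hne
    exact hbna (by rw [Subsingleton.elim b 0]; exact zero_mem _)
  have hposT := pieceT_eq_bot 𝒜 ℬ 𝒯 ψ hdegT hψ hposR
  have haI : a ∈ irr 𝒯 := mem_irr_of_mem 𝒯 (by exact_mod_cast hD) haT
  have hne_top := irr_ne_top 𝒯 hposT
  apply idealDepth_eq_one_of_torsion (irr 𝒯) hne_top haI hareg N hbna
  intro τ hτ
  obtain ⟨w, hw⟩ := map_mem_of_mem_irr_pow 𝒜 ℬ 𝒯 ψ hdegT N hN hτ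
  rw [← Groth.Agent.S18646.comap_map 𝒜 ℬ 𝒯 ψ hdegT hψ (Ideal.span {a}), Ideal.mem_comap]
  have h1 : ψ.toRingHom (τ * b) = (w * (r ⊗ₜ[k] s₀)) * ψ.toRingHom a := by
    show ψ (τ * b) = (w * (r ⊗ₜ[k] s₀)) * ψ a
    rw [map_mul, hw, hb, ha, hxy]
    have : r ⊗ₜ[k] (y * s₀) = ((1 : R) ⊗ₜ[k] y) * (r ⊗ₜ[k] s₀) := by
      rw [Algebra.TensorProduct.tmul_mul_tmul, one_mul]
    rw [this]
    ring
  rw [h1]
  exact Ideal.mul_mem_left _ _ (Ideal.mem_map_of_mem _ (Ideal.subset_span rfl))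

end Groth.Agent.Lib.helper26.Seg
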