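import Mathlib
import Groth.Agent.Lib.Helper26.GrCM6
import Groth.Agent.Lib.Helper26.Seg20
import Groth.Agent.Lib.Helper26.Depth3
import Groth.Agent.Lib.Helper26.DepthCR

/-!
# Depth one criteria for Segre products of modules (helper26)

* `idealDepth_eq_one_of_torsion_mod`: if `a ∈ J` is `P`-regular, `b ∉ aP` and `J^N b ⊆ aP` then
  `depth_J P = 1`;
* `act_mul`: the action of `R ⊗ S` on `M ⊗ N` is multiplicative;
* `idealDepth_irr_segre_mod_eq_one`: `depth_{T₊} (M # N) = 1` as soon as some homogeneous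
  `μ ∈ M_{n+D}` is not divisible by the `M`-regular `x ∈ R_D`, `R₊` is nilpotent on `M/xM`, `N_n ≠ 0`
  and `S_D` contains an `N`-regular element.
-/

set_option autoImplicit false
set_option linter.unusedSectionVars false
universe u
open scoped TensorProduct Pointwise

namespace Groth.Agent.Lib.helper26.GrCM

open Groth.Agent.Lib.helper26.Seg

section General

variable {T : Type u} [CommRing T] [IsNoetherianRing T]
  {P : Type u} [AddCommGroup P] [Module T P] [Module.Finite T P]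

theorem idealDepth_eq_one_of_socle_mod (J : Ideal T) (hJ : J • (⊤ : Submodule T P) ≠ ⊤) {a : T}
    (haJ : a ∈ J) (hareg : IsSMulRegular P a) {b : P} (hbna : b ∉ a • (⊤ : Submodule T P))
    (hsocT : ∀ τ ∈ J, τ • b ∈ a • (⊤ : Submodule T P)) : LocCoh.idealDepth J P = 1 := by
  have h1 := Groth.Agent.Lib.helper26.Depth.idealDepth_quotSMulTop_add_one J P a haJ hareg
  have h2 : LocCoh.idealDepth J (QuotSMulTop a P) = 0 := by
    apply Groth.Agent.Lib.helper26.Depth.idealDepth_eq_zero_of_annihilated J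
      (QuotSMulTop a P) ?_ (Submodule.Quotient.mk b) ?_ ?_
    · intro htop
      apply hJ
      rw [eq_top_iff]
      rintro p -
      have h3 : (Submodule.Quotient.mk p : QuotSMulTop a P) ∈
          J • (⊤ : Submodule T (QuotSMulTop a P)) := by rw [htop]; trivial
      have h4 : J • (⊤ : Submodule T (QuotSMulTop a P)) =
          Submodule.map (Submodule.mkQ (a • (⊤ : Submodule T P))) (J • (⊤ : Submodule T P)) := by
        rw [Submodule.map_smul'', Submodule.map_top, Submodule.range_mkQ]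
      rw [h4] at h3
      obtain ⟨z, hz, hz1⟩ := h3
      have h5 : z - p ∈ a • (⊤ : Submodule T P) := by
        rw [← Submodule.Quotient.eq]
        exact hz1
      have h6 : z - p ∈ J • (⊤ : Submodule T P) := by
        obtain ⟨c, -, hc⟩ := h5
        rw [← hc]
        exact Submodule.smul_mem_smul haJ Submodule.mem_top
      have := (J • (⊤ : Submodule T P)).sub_mem hz h6
      simpa using this
    · intro h
      rw [Submodule.Quotient.mk_eq_zero] at h
      exact hbna h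
    · intro τ hτ
      rw [← Submodule.Quotient.mk_smul, Submodule.Quotient.mk_eq_zero]
      exact hsocT τ hτ
  rw [h2, zero_add] at h1
  exact h1.symm

theorem idealDepth_eq_one_of_torsion_mod (J : Ideal T) (hJ : J • (⊤ : Submodule T P) ≠ ⊤) {a : T}
    (haJ : a ∈ J) (hareg : IsSMulRegular P a) (N : ℕ) : ∀ {b : P}, b ∉ a • (⊤ : Submodule T P) →
    (∀ τ ∈ J ^ N, τ • b ∈ a • (⊤ : Submodule T P)) → LocCoh.idealDepth J P = 1 := by
  induction N with
  | zero =>
    intro b hb h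
    exfalso
    apply hb
    have := h 1 (by rw [pow_zero, Ideal.one_eq_top]; trivial)
    rwa [one_smul] at this
  | succ N ih =>
    intro b hb h
    by_cases h' : ∀ τ ∈ J ^ N, τ • b ∈ a • (⊤ : Submodule T P)
    · exact ih hb h'
    · push Not at h'
      obtain ⟨τ, hτ, hτb⟩ := h'
      apply idealDepth_eq_one_of_socle_mod J hJ haJ hareg hτb
      intro σ hσ
      rw [← mul_smul]
      apply h
      rw [pow_succ']
      exact Ideal.mul_mem_mul hσ hτ

end General

variable {k : Type u} [Field k] {R : Type u} [CommRing R] [Algebra k R]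
  (𝒜 : ℤ → Submodule k R) [GradedAlgebra 𝒜]
  {S : Type u} [CommRing S] [Algebra k S] (ℬ : ℤ → Submodule k S) [GradedAlgebra ℬ]
  {T : Type u} [CommRing T] [Algebra k T] (𝒯 : ℤ → Submodule k T) [GradedAlgebra 𝒯]
  (ψ : T →ₐ[k] R ⊗[k] S)
  {M : Type u} [AddCommGroup M] [Module R M] [Module k M] [IsScalarTower k R M]
  (ℳ : ℤ → AddSubgroup M) [DirectSum.Decomposition ℳ] [SetLike.GradedSMul 𝒜 ℳ]
  {N : Type u} [AddCommGroup N] [Module S N] [Module k N] [IsScalarTower k S N]
  (𝒩 : ℤ → AddSubgroup N) [DirectSum.Decomposition 𝒩] [SetLike.GradedSMul ℬ 𝒩]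
  {P : Type u} [AddCommGroup P] [Module T P] [Module k P] [IsScalarTower k T P]
  (𝒬 : ℤ → AddSubgroup P) [DirectSum.Decomposition 𝒬]
  (φ : P →ₗ[k] M ⊗[k] N) (hP : GrSeg.IsSegreMod ψ ℳ 𝒩 𝒬 φ)
  (hdegT : ∀ n : ℤ, (𝒯 n).map ψ.toLinearMap =
    Submodule.span k {x : R ⊗[k] S | ∃ a ∈ 𝒜 n, ∃ b ∈ ℬ n, x = a ⊗ₜ[k] b})

section ActMul

theorem act_mul (a b : R ⊗[k] S) (w : M ⊗[k] N) :
    GrSeg.act k R S M N (a * b) w = GrSeg.act k R S M N a (GrSeg.act k R S M N b w) := by
  induction a using TensorProduct.induction_on with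
  | zero => simp
  | tmul r s =>
    induction b using TensorProduct.induction_on with
    | zero => simp
    | tmul r' s' =>
      induction w using TensorProduct.induction_on with
      | zero => simp
      | tmul m n =>
        rw [Algebra.TensorProduct.tmul_mul_tmul, GrSeg.act_tmul, GrSeg.act_tmul, GrSeg.act_tmul,
          mul_smul, mul_smul]
      | add w w' h h' => rw [map_add, map_add, map_add, h, h']
    | add b b' h h' =>
      rw [mul_add, map_add, LinearMap.add_apply, h, h', map_add, LinearMap.add_apply, map_add]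
  | add a a' h h' =>
    rw [add_mul, map_add, LinearMap.add_apply, h, h', map_add, LinearMap.add_apply]

/-- elements of the extension of an ideal `𝔞 ⊆ R` with `𝔞 M ⊆ xM` act into `(x ⊗ 1)(M ⊗ N)` -/
theorem act_mem_range_of_mem_map {x : R} (𝔞 : Ideal R)
    (h𝔞 : ∀ a ∈ 𝔞, ∀ m : M, ∃ m' : M, a • m = x • m') {u : R ⊗[k] S}
    (hu : u ∈ Ideal.map (Algebra.TensorProduct.includeLeft : R →ₐ[k] R ⊗[k] S).toRingHom 𝔞)
    (w : M ⊗[k] N) :
    GrSeg.act k R S M N u w ∈ LinearMap.range (GrSeg.act k R S M N (x ⊗ₜ[k] (1 : S))) := by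
  have hstable : ∀ (c : R ⊗[k] S) (v : M ⊗[k] N),
      v ∈ LinearMap.range (GrSeg.act k R S M N (x ⊗ₜ[k] (1 : S))) →
      GrSeg.act k R S M N c v ∈ LinearMap.range (GrSeg.act k R S M N (x ⊗ₜ[k] (1 : S))) := by
    rintro c _ ⟨v', rfl⟩
    refine ⟨GrSeg.act k R S M N c v', ?_⟩
    rw [← act_mul, ← act_mul, mul_comm]
  unfold Ideal.map at hu
  induction hu using Submodule.span_induction generalizing w with
  | mem u hu =>
    obtain ⟨a, ha, rfl⟩ := hu
    show GrSeg.act k R S M N (a ⊗ₜ[k] (1 : S)) w ∈ _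
    induction w using TensorProduct.induction_on with
    | zero => rw [map_zero]; exact zero_mem _
    | tmul m n =>
      obtain ⟨m', hm'⟩ := h𝔞 a ha m
      refine ⟨m' ⊗ₜ[k] n, ?_⟩
      rw [GrSeg.act_tmul, GrSeg.act_tmul, hm']
    | add w w' h h' => rw [map_add]; exact add_mem h h'
  | zero => rw [map_zero, LinearMap.zero_apply]; exact zero_mem _
  | add u u' _ _ h h' => rw [map_add, LinearMap.add_apply]; exact add_mem (h w) (h' w)
  | smul c u _ h =>
    rw [smul_eq_mul, act_mul]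
    exact hstable c _ (h w)

end ActMul

section DepthOne

include hP hdegT in
/-- **Depth one for Segre products of modules.** -/
theorem idealDepth_irr_segre_mod_eq_one [IsNoetherianRing T] [Module.Finite T P]
    (hJP : irr 𝒯 • (⊤ : Submodule T P) ≠ ⊤)
    {D : ℕ} (hD : 0 < D) {x : R} (hx : x ∈ 𝒜 (D : ℤ)) (hxreg : IsSMulRegular M x)
    {y : S} (hy : y ∈ ℬ (D : ℤ)) (hyreg : IsSMulRegular N y)
    {n : ℤ} {μ : M} (hμ : μ ∈ ℳ (n + D)) (hμx : ∀ ρ : M, x • ρ ≠ μ)
    (K : ℕ) (hK : ∀ a ∈ irr 𝒜 ^ K, ∀ m : M, ∃ m' : M, a • m = x • m')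
    {ν : N} (hν : ν ∈ 𝒩 n) (hν0 : ν ≠ 0) :
    LocCoh.idealDepth (irr 𝒯) P = 1 := by
  classical
  have ha' : x ⊗ₜ[k] y ∈ (𝒯 (D : ℤ)).map ψ.toLinearMap := by
    rw [hdegT]; exact Submodule.subset_span ⟨x, hx, y, hy, rfl⟩
  obtain ⟨a, haT, ha⟩ := ha'
  replace ha : ψ a = x ⊗ₜ[k] y := ha
  have hyν : y • ν ∈ 𝒩 (n + D) := by
    have := smul_mem ℬ 𝒩 hy hν
    rwa [add_comm] at this
  obtain ⟨b, hbQ, hb⟩ := exists_of_mem_segrePiece ψ ℳ 𝒩 𝒬 φ hP
    (Submodule.subset_span ⟨μ, hμ, y • ν, hyν, rfl⟩ : μ ⊗ₜ[k] (y • ν) ∈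
      GrSeg.segrePiece k ℳ 𝒩 (n + D))
  have hb' : φ b = GrSeg.act k R S M N ((1 : R) ⊗ₜ[k] y) (μ ⊗ₜ[k] ν) := by
    rw [hb, GrSeg.act_tmul, one_smul]
  -- `a` is regular on `P`
  have hareg : IsSMulRegular P a := by
    intro p p' hpp'
    apply hP.injective
    have h1 : φ (a • p) = φ (a • p') := congrArg φ hpp'
    rw [hP.map_smul, hP.map_smul, ha] at h1
    exact act_tmul_injective hxreg hyreg h1
  -- `b ∉ aP`
  have hbna : b ∉ a • (⊤ : Submodule T P) := by
    rintro ⟨c, -, hc⟩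
    have hc' : a • c = b := hc
    have h1 : φ b = GrSeg.act k R S M N (x ⊗ₜ[k] y) (φ c) := by
      rw [← hc', hP.map_smul, ha]
    rw [hb', act_tmul_eq_comp' x y (φ c)] at h1
    have h2 := act_one_tmul_injective (R := R) (M := M) hyreg h1
    -- pass to `M/xM ⊗ N`
    set Lk : Submodule k M := LinearMap.range ((LinearMap.lsmul R M x).restrictScalars k) with hLk
    have hμL : Lk.mkQ μ ≠ 0 := by
      intro h0
      rw [Submodule.mkQ_apply, Submodule.Quotient.mk_eq_zero] at h0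
      obtain ⟨ρ, hρ⟩ := h0
      exact hμx ρ hρ
    have h3 : (Lk.mkQ.rTensor N) (GrSeg.act k R S M N (x ⊗ₜ[k] (1 : S)) (φ c)) = 0 := by
      generalize φ c = w
      induction w using TensorProduct.induction_on with
      | zero => simp
      | tmul m n' =>
        have hxm : (Submodule.Quotient.mk (x • m) : M ⧸ Lk) = 0 :=
          (Submodule.Quotient.mk_eq_zero Lk).2 ⟨m, rfl⟩
        rw [GrSeg.act_tmul, LinearMap.rTensor_tmul, Submodule.mkQ_apply, hxm,
          TensorProduct.zero_tmul]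
      | add w w' h h' => rw [map_add, map_add, h, h', add_zero]
    rw [← h2, LinearMap.rTensor_tmul] at h3
    exact tmul_ne_zero hμL hν0 h3
  have haI : a ∈ irr 𝒯 := mem_irr_of_mem 𝒯 (by exact_mod_cast hD) haT
  apply idealDepth_eq_one_of_torsion_mod (irr 𝒯) hJP haI hareg K hbna
  intro τ hτ
  -- `ψ τ` lies in the extension of `R₊^K`
  have h1 : ψ.toRingHom τ ∈ Ideal.map ψ.toRingHom (irr 𝒯 ^ K) := Ideal.mem_map_of_mem _ hτ
  rw [Ideal.map_pow] at h1
  have h2 := Ideal.pow_right_mono (map_irr_le 𝒜 ℬ 𝒯 ψ hdegT) K h1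
  rw [← Ideal.map_pow] at h2
  obtain ⟨w', hw'⟩ := act_mem_range_of_mem_map (M := M) (N := N) (irr 𝒜 ^ K) hK h2 (μ ⊗ₜ[k] ν)
  have h3 : φ (τ • b) = GrSeg.act k R S M N (x ⊗ₜ[k] y) w' := by
    rw [hP.map_smul, hb', ← act_mul, mul_comm, act_mul, act_tmul_eq_comp' x y w', hw']
    rfl
  have h4 := mem_span_smul_top_of_phi_eq 𝒜 ℬ ψ ℳ 𝒩 𝒬 φ hP (Finset.univ : Finset Unit) hx
    (fun _ => y) (fun _ => hy) (fun _ => a) (fun _ => ha) (τ • b) (fun _ => w')
    (by rw [Finset.sum_const, Finset.card_univ, Fintype.card_unit, one_smul]; exact h3)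
  have h5 : Ideal.span ((fun _ : Unit => a) '' ((Finset.univ : Finset Unit) : Set Unit)) = 
      Ideal.span {a} := by
    congr 1
    ext z
    simp
  rw [h5, Submodule.ideal_span_singleton_smul] at h4
  exact h4

end DepthOne

end Groth.Agent.Lib.helper26.GrCM
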