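import Mathlib
import Groth.Agent.Lib.Helper26.DepthLoc
import Groth.Agent.Lib.Helper26.DepthCR
import Groth.Agent.Lib.Helper26.Depth5
import Groth.Agent.Lib.Helper26.CM7
import Groth.Agent.Lib.Helper26.SuppLoc

/-!
# Modules finite free over a Cohen–Macaulay subring are Cohen–Macaulay (helper26)

`A → T` a ring map, `A` a Cohen–Macaulay ring, `P` a `T`-module which is finite free over `A`.
Then every localization `P_q` (`q` a prime of `T`) is zero or a Cohen–Macaulay `T_q`-module.
-/

set_option autoImplicit false
universe u

namespace Groth.Agent.Lib.helper26.GrCM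

open LocCoh

section mono

variable {A : Type u} [CommRing A]

theorem idealDepth_mono' (I J : Ideal A) (N : Type u) [AddCommGroup N] [Module A N] (hIJ : I ≤ J) :
    idealDepth I N ≤ idealDepth J N := by
  by_cases hJ : J • (⊤ : Submodule A N) = ⊤
  · rw [Groth.Agent.Lib.helper26.Depth.idealDepth_eq_top_of_smul_top_eq_top J N hJ]
    exact le_top
  have hI : I • (⊤ : Submodule A N) ≠ ⊤ := fun h =>
    hJ (top_le_iff.1 (h.symm.le.trans (Submodule.smul_mono hIJ le_rfl)))
  rw [Groth.Agent.Lib.helper26.Depth.idealDepth_eq_iSup I N hI,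
    Groth.Agent.Lib.helper26.Depth.idealDepth_eq_iSup J N hJ]
  exact iSup₂_mono' fun rs h => ⟨rs, ⟨h.1, fun r hr => hIJ (h.2 r hr)⟩, le_rfl⟩

end mono

section

variable {A T : Type u} [CommRing A] [CommRing T] [Algebra A T]
  (P : Type u) [AddCommGroup P] [Module T P] [Module A P] [IsScalarTower A T P]

/-- Cayley–Hamilton: incomparability for primes in the support of a `T`-module finite over `A` -/
theorem comap_lt_comap_of_annihilator_le [Module.Finite A P] {Q₁ Q₂ : Ideal T} [Q₁.IsPrime]
    (hle : Q₁ ≤ Q₂) (hne : Q₁ ≠ Q₂) (hann : Module.annihilator T P ≤ Q₁) :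
    Q₁.comap (algebraMap A T) < Q₂.comap (algebraMap A T) := by
  obtain ⟨z, hz2, hz1⟩ := SetLike.exists_of_lt (lt_of_le_of_ne hle hne)
  let ρ : T →ₐ[A] Module.End A P := Algebra.lsmul A A P
  obtain ⟨p, hmonic, hp⟩ := LinearMap.exists_monic_and_aeval_eq_zero A (ρ z)
  refine Ideal.comap_lt_comap_of_root_mem_sdiff hle ⟨hz2, hz1⟩
    (Polynomial.map_monic_ne_zero hmonic) ?_
  apply hann
  rw [Module.mem_annihilator]
  intro x
  have h1 : ρ (Polynomial.aeval z p) = 0 := by rw [← Polynomial.aeval_algHom_apply, hp]
  have h2 := LinearMap.congr_fun h1 x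
  rw [Polynomial.aeval_def] at h2
  exact h2

variable [IsNoetherianRing T]

/-- **Finite free over a Cohen–Macaulay ring implies Cohen–Macaulay.** -/
theorem isCohenMacaulayModule_localization_of_free [hA : IsCohenMacaulayRing A]
    [Module.Finite A P] [Module.Free A P] (q : Ideal T) [q.IsPrime] :
    Subsingleton (LocalizedModule q.primeCompl P) ∨
      IsCohenMacaulayModule (Localization.AtPrime q) (LocalizedModule q.primeCompl P) := by
  classical
  by_cases hss : Subsingleton (LocalizedModule q.primeCompl P)
  · exact Or.inl hss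
  right
  rw [not_subsingleton_iff_nontrivial] at hss
  have hfinT : Module.Finite T P := Module.Finite.of_restrictScalars_finite A T P
  have hntP : Nontrivial P := by
    by_contra hne
    rw [not_nontrivial_iff_subsingleton] at hne
    have : Subsingleton (LocalizedModule q.primeCompl P) := by
      refine ⟨fun a b => ?_⟩
      induction a using LocalizedModule.induction_on with
      | h m s =>
        induction b using LocalizedModule.induction_on with
        | h m' s' =>
          rw [Subsingleton.elim m 0, Subsingleton.elim m' 0, LocalizedModule.zero_mk,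
            LocalizedModule.zero_mk]
    exact not_subsingleton _ this
  set 𝔭 : Ideal A := q.comap (algebraMap A T) with h𝔭def
  have h𝔭 : 𝔭.IsPrime := Ideal.comap_isPrime _ _
  -- (a) depth ≥ height
  have ha : 𝔭.height ≤ depth (Localization.AtPrime q) (LocalizedModule q.primeCompl P) := by
    have h1 := Groth.Agent.Lib.helper26.Depth.idealDepth_le_depth_localization q P q le_rfl
    have h2 : idealDepth (𝔭.map (algebraMap A T)) P ≤ idealDepth q P :=
      idealDepth_mono' _ _ P Ideal.map_comap_le
    have h3 := Groth.Agent.Lib.helper26.Depth.idealDepth_map_eq (B := T) 𝔭 P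
    have h4 := Groth.Agent.Lib.helper26.Depth.idealDepth_free 𝔭 P
    have h5 := ((Groth.Agent.Lib.helper26.Depth.isCohenMacaulayRing_iff_idealDepth_eq_height A).1
      hA) 𝔭 h𝔭.ne_top
    rw [← h5, ← h4, h3]
    exact h2.trans h1
  -- (b) dimension ≤ height
  have hb : Module.supportDim (Localization.AtPrime q) (LocalizedModule q.primeCompl P) ≤
      ((𝔭.height : ℕ∞) : WithBot ℕ∞) := by
    unfold Module.supportDim Order.krullDim
    refine iSup_le fun l => ?_
    let f : ↥(Module.support (Localization.AtPrime q) (LocalizedModule q.primeCompl P)) →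
        PrimeSpectrum A := fun x =>
      PrimeSpectrum.comap (algebraMap A T)
        (PrimeSpectrum.comap (algebraMap T (Localization.AtPrime q)) x.1)
    have hf : StrictMono f := by
      intro x y hxy
      have hxy' : x.1 < y.1 := hxy
      set Q₁ := PrimeSpectrum.comap (algebraMap T (Localization.AtPrime q)) x.1 with hQ₁
      set Q₂ := PrimeSpectrum.comap (algebraMap T (Localization.AtPrime q)) y.1 with hQ₂
      have hle : Q₁.asIdeal ≤ Q₂.asIdeal := Ideal.comap_mono hxy'.le
      have hne : Q₁.asIdeal ≠ Q₂.asIdeal := by
        intro h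
        have h1 : Q₁ = Q₂ := PrimeSpectrum.ext h
        have h2 := PrimeSpectrum.localization_comap_injective (Localization.AtPrime q)
          q.primeCompl h1
        exact hxy'.ne h2
      have hsupp : Q₁ ∈ Module.support T P :=
        (Groth.Agent.Lib.helper26.SuppLoc.mem_support_localizedModule_iff q P x.1).1 x.2
      have hann : Module.annihilator T P ≤ Q₁.asIdeal :=
        Module.annihilator_le_of_mem_support hsupp
      have h3 := comap_lt_comap_of_annihilator_le (A := A) P hle hne hann
      exact h3
    have hlast : (l.map f hf).last ≤ (⟨𝔭, h𝔭⟩ : PrimeSpectrum A) := by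
      rw [LTSeries.last_map]
      show (f l.last).asIdeal ≤ 𝔭
      exact Ideal.comap_mono (Groth.Agent.Lib.helper26.SuppLoc.comap_le q l.last.1)
    have h1 := Order.length_le_height hlast
    rw [← PrimeSpectrum.height_eq_orderHeight] at h1
    have h2 : (l.map f hf).length = l.length := rfl
    rw [h2] at h1
    exact_mod_cast h1
  -- (c) depth ≤ dimension
  have hc := Groth.Agent.Lib.helper26.Depth.depth_le_supportDim (A := Localization.AtPrime q)
    (LocalizedModule q.primeCompl P)
  unfold IsCohenMacaulayModule
  apply le_antisymm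
  · refine hb.trans ?_
    exact_mod_cast ha
  · exact hc

end

end Groth.Agent.Lib.helper26.GrCM
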