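import Mathlib

/-!
# Regular sequences give polynomial independence (helper26)

If `t₀,…,t_{n-1}` is a weakly regular sequence on a `T`-module `P` (`T` a `k`-algebra) and
`w_j ∈ P` are `k`-linearly independent modulo `(t)P`, then the `w_j` are linearly independent over
the polynomial ring `k[X₀,…,X_{n-1}]` acting through `X_i ↦ t_i`.
-/

set_option autoImplicit false
universe u v
open scoped Pointwise

namespace Groth.Agent.Lib.helper26.GrCM

open RingTheory.Sequence

section onevar

variable {A₀ T : Type u} [CommRing A₀] [CommRing T] [Algebra A₀ T]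
  {P : Type u} [AddCommGroup P] [Module T P] {κ : Type v} [Fintype κ]

/-- one-variable step -/
theorem polynomial_indep (x : T) (hx : IsSMulRegular P x) (w : κ → P)
    (h : ∀ c : κ → A₀, (∑ j, algebraMap A₀ T (c j) • w j) ∈ x • (⊤ : Submodule T P) → c = 0) :
    ∀ c : κ → Polynomial A₀, (∑ j, Polynomial.aeval x (c j) • w j) = 0 → c = 0 := by
  have key : ∀ (N : ℕ) (c : κ → Polynomial A₀), (∀ j, (c j).natDegree ≤ N) →
      (∑ j, Polynomial.aeval x (c j) • w j) = 0 → c = 0 := by
    intro N
    induction N with
    | zero =>
      intro c hdeg hsum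
      have hc : ∀ j, c j = Polynomial.C ((c j).coeff 0) := fun j =>
        Polynomial.eq_C_of_natDegree_le_zero (hdeg j)
      have h1 : (∑ j, algebraMap A₀ T ((c j).coeff 0) • w j) = 0 := by
        rw [← hsum]
        refine Finset.sum_congr rfl fun j _ => ?_
        conv_rhs => rw [hc j, Polynomial.aeval_C]
      have h2 := h (fun j => (c j).coeff 0) (by rw [h1]; exact zero_mem _)
      funext j
      rw [hc j, show (c j).coeff 0 = 0 from congrFun h2 j, map_zero]
      rfl
    | succ N ih =>
      intro c hdeg hsum
      have hdecomp : ∀ j, Polynomial.aeval x (c j) =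
          x * Polynomial.aeval x (c j).divX + algebraMap A₀ T ((c j).coeff 0) := by
        intro j
        conv_lhs => rw [← Polynomial.X_mul_divX_add (c j)]
        rw [map_add, map_mul, Polynomial.aeval_X, Polynomial.aeval_C]
      have h1 : (∑ j, algebraMap A₀ T ((c j).coeff 0) • w j) =
          -(x • ∑ j, Polynomial.aeval x (c j).divX • w j) := by
        rw [eq_neg_iff_add_eq_zero, Finset.smul_sum, ← Finset.sum_add_distrib, ← hsum]
        refine Finset.sum_congr rfl fun j _ => ?_
        rw [hdecomp j, add_smul, mul_smul, add_comm]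
      have h2 := h (fun j => (c j).coeff 0) (by
        rw [h1]
        exact neg_mem (Submodule.smul_mem_pointwise_smul _ _ _ trivial))
      have hc0 : ∀ j, (c j).coeff 0 = 0 := fun j => congrFun h2 j
      have h3 : x • (∑ j, Polynomial.aeval x (c j).divX • w j) = 0 := by
        have h4 : (∑ j, algebraMap A₀ T ((c j).coeff 0) • w j) = 0 := by
          refine Finset.sum_eq_zero fun j _ => ?_
          rw [hc0 j, map_zero, zero_smul]
        rw [h4] at h1
        exact neg_eq_zero.1 h1.symm
      have h5 : (∑ j, Polynomial.aeval x (c j).divX • w j) = 0 := by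
        apply hx
        show x • _ = x • 0
        rw [h3, smul_zero]
      have h6 := ih (fun j => (c j).divX) (fun j => by
        rw [Polynomial.natDegree_divX_eq_natDegree_tsub_one]
        have := hdeg j
        omega) h5
      funext j
      have h7 : (c j).divX = 0 := congrFun h6 j
      rw [← Polynomial.X_mul_divX_add (c j), h7, hc0 j, mul_zero, map_zero, add_zero]
      rfl
  intro c hsum
  exact key (Finset.univ.sup fun j => (c j).natDegree) c
    (fun j => Finset.le_sup (f := fun j => (c j).natDegree) (Finset.mem_univ j)) hsum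

end onevar

section multivar

variable {k : Type u} [Field k] {T : Type u} [CommRing T] [Algebra k T]

/-- compatibility of `finSuccEquiv` with evaluation -/
theorem aeval_finSuccEquiv {n : ℕ} (t : Fin (n + 1) → T) (c : MvPolynomial (Fin (n + 1)) k) :
    letI : Algebra (MvPolynomial (Fin n) k) T :=
      (MvPolynomial.aeval (R := k) (Fin.tail t)).toRingHom.toAlgebra
    Polynomial.aeval (R := MvPolynomial (Fin n) k) (t 0) (MvPolynomial.finSuccEquiv k n c) =
      MvPolynomial.aeval (R := k) t c := by
  let _ : Algebra (MvPolynomial (Fin n) k) T :=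
    (MvPolynomial.aeval (R := k) (Fin.tail t)).toRingHom.toAlgebra
  have halg : ∀ a : MvPolynomial (Fin n) k, algebraMap (MvPolynomial (Fin n) k) T a =
      MvPolynomial.aeval (R := k) (Fin.tail t) a := fun a => rfl
  have h : ((Polynomial.aeval (R := MvPolynomial (Fin n) k) (t 0)).toRingHom.comp
      (MvPolynomial.finSuccEquiv k n).toRingEquiv.toRingHom) =
      (MvPolynomial.aeval (R := k) t).toRingHom := by
    apply MvPolynomial.ringHom_ext
    · intro a
      show Polynomial.aeval (R := MvPolynomial (Fin n) k) (t 0)
        (MvPolynomial.finSuccEquiv k n (MvPolynomial.C a)) = MvPolynomial.aeval (R := k) t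
          (MvPolynomial.C a)
      rw [MvPolynomial.finSuccEquiv_apply, MvPolynomial.coe_eval₂Hom, MvPolynomial.eval₂_C,
        RingHom.comp_apply, Polynomial.aeval_C, halg, MvPolynomial.aeval_C, MvPolynomial.aeval_C]
    · intro i
      show Polynomial.aeval (R := MvPolynomial (Fin n) k) (t 0)
        (MvPolynomial.finSuccEquiv k n (MvPolynomial.X i)) = MvPolynomial.aeval (R := k) t
          (MvPolynomial.X i)
      refine Fin.cases ?_ (fun i' => ?_) i
      · rw [MvPolynomial.finSuccEquiv_X_zero, Polynomial.aeval_X, MvPolynomial.aeval_X]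
      · rw [MvPolynomial.finSuccEquiv_X_succ, Polynomial.aeval_C, halg, MvPolynomial.aeval_X,
          MvPolynomial.aeval_X]
        rfl
  exact RingHom.congr_fun h c

/-- **Independence over the polynomial ring.** -/
theorem mvPolynomial_indep : ∀ (n : ℕ) (P : Type u) [AddCommGroup P] [Module T P]
    (t : Fin n → T), IsWeaklyRegular P (List.ofFn t) →
    ∀ {κ : Type v} [Fintype κ] (w : κ → P),
      (∀ a : κ → k, (∑ j, algebraMap k T (a j) • w j) ∈
        Ideal.span (Set.range t) • (⊤ : Submodule T P) → a = 0) →
      ∀ c : κ → MvPolynomial (Fin n) k,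
        (∑ j, MvPolynomial.aeval (R := k) t (c j) • w j) = 0 → c = 0 := by
  intro n
  induction n with
  | zero =>
    intro P _ _ t _ κ _ w hli c hsum
    have hc : ∀ j, c j = MvPolynomial.C ((c j).coeff 0) := fun j =>
      MvPolynomial.eq_C_of_isEmpty (c j)
    have h1 : (∑ j, algebraMap k T ((c j).coeff 0) • w j) = 0 := by
      rw [← hsum]
      refine Finset.sum_congr rfl fun j _ => ?_
      conv_rhs => rw [hc j, MvPolynomial.aeval_C]
    have h2 := hli (fun j => (c j).coeff 0) (by rw [h1]; exact zero_mem _)
    funext j
    rw [hc j, show (c j).coeff 0 = 0 from congrFun h2 j, map_zero]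
    rfl
  | succ n ih =>
    intro P _ _ t hreg κ _ w hli c hsum
    rw [List.ofFn_succ, isWeaklyRegular_cons_iff] at hreg
    obtain ⟨hreg0, hreg'⟩ := hreg
    -- independence in the quotient
    have hli' : ∀ a : κ → k, (∑ j, algebraMap k T (a j) •
        (Submodule.Quotient.mk (w j) : QuotSMulTop (t 0) P)) ∈
        Ideal.span (Set.range (Fin.tail t)) • (⊤ : Submodule T (QuotSMulTop (t 0) P)) → a = 0 := by
      intro a ha
      apply hli a
      have h1 : Ideal.span (Set.range (Fin.tail t)) • (⊤ : Submodule T (QuotSMulTop (t 0) P)) =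
          Submodule.map (Submodule.mkQ (t 0 • (⊤ : Submodule T P)))
            (Ideal.span (Set.range (Fin.tail t)) • (⊤ : Submodule T P)) := by
        rw [Submodule.map_smul'', Submodule.map_top, Submodule.range_mkQ]
      rw [h1] at ha
      obtain ⟨y, hy, hy'⟩ := ha
      have h2 : (∑ j, algebraMap k T (a j) • w j) - y ∈ t 0 • (⊤ : Submodule T P) := by
        rw [← Submodule.Quotient.eq]
        have e1 : (Submodule.Quotient.mk (∑ j, algebraMap k T (a j) • w j) :
            QuotSMulTop (t 0) P) = ∑ j, algebraMap k T (a j) •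
              (Submodule.Quotient.mk (w j) : QuotSMulTop (t 0) P) := by
          show (Submodule.mkQ (t 0 • (⊤ : Submodule T P))) _ = _
          rw [map_sum]
          refine Finset.sum_congr rfl fun j _ => ?_
          rw [map_smul]
          rfl
        rw [e1, ← hy']
        rfl
      have h3 : Ideal.span (Set.range (Fin.tail t)) ≤ Ideal.span (Set.range t) := by
        apply Ideal.span_mono
        rintro _ ⟨i, rfl⟩
        exact ⟨i.succ, rfl⟩
      have h4 : t 0 • (⊤ : Submodule T P) ≤ Ideal.span (Set.range t) • (⊤ : Submodule T P) := by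
        rintro _ ⟨p, -, rfl⟩
        exact Submodule.smul_mem_smul (Ideal.subset_span ⟨0, rfl⟩) trivial
      have h5 : (∑ j, algebraMap k T (a j) • w j) =
          ((∑ j, algebraMap k T (a j) • w j) - y) + y := by abel
      rw [h5]
      exact add_mem (h4 h2) (Submodule.smul_mono h3 le_rfl hy)
    have ih' := ih (QuotSMulTop (t 0) P) (Fin.tail t) hreg'
      (fun j => (Submodule.Quotient.mk (w j) : QuotSMulTop (t 0) P)) hli'
    let _ : Algebra (MvPolynomial (Fin n) k) T :=
      (MvPolynomial.aeval (R := k) (Fin.tail t)).toRingHom.toAlgebra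
    have halg : ∀ a : MvPolynomial (Fin n) k, algebraMap (MvPolynomial (Fin n) k) T a =
        MvPolynomial.aeval (R := k) (Fin.tail t) a := fun a => rfl
    have hone := polynomial_indep (A₀ := MvPolynomial (Fin n) k) (t 0) hreg0 w (by
      intro c' hc'
      apply ih' c'
      have h1 : (∑ j, MvPolynomial.aeval (R := k) (Fin.tail t) (c' j) •
          (Submodule.Quotient.mk (w j) : QuotSMulTop (t 0) P)) =
          Submodule.Quotient.mk (∑ j, algebraMap (MvPolynomial (Fin n) k) T (c' j) • w j) := by
        symm
        show (Submodule.mkQ (t 0 • (⊤ : Submodule T P))) _ = _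
        rw [map_sum]
        refine Finset.sum_congr rfl fun j _ => ?_
        rw [map_smul, halg]
        rfl
      rw [h1, Submodule.Quotient.mk_eq_zero]
      exact hc')
    have h2 := hone (fun j => MvPolynomial.finSuccEquiv k n (c j)) (by
      rw [← hsum]
      refine Finset.sum_congr rfl fun j _ => ?_
      rw [aeval_finSuccEquiv t (c j)])
    funext j
    have h3 : MvPolynomial.finSuccEquiv k n (c j) = 0 := congrFun h2 j
    have h4 := (MvPolynomial.finSuccEquiv k n).injective (h3.trans (map_zero _).symm)
    rw [h4]
    rfl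

end multivar

end Groth.Agent.Lib.helper26.GrCM
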