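import Mathlib
import Groth.Agent.Lib.Helper26.GrCM3
import Groth.Agent.Lib.Helper26.Seg4

/-!
# Finiteness for graded modules over graded `k`-algebras (helper26)

* `cmp_smul_of_mem`, `exists_homogeneous_generators`, `exists_forall_lt_eq_bot`, `fg_pieceK`;
* `exists_forall_le_of_finite_quotient`: a homogeneous submodule of finite codimension contains all
  pieces of large degree;
* `finite_quotient_of_forall_le`: conversely;
* `finite_quotient_smul_top`: `M/JM` is finite-dimensional as soon as `R/(Ann M + J)` is.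
-/

set_option autoImplicit false
set_option linter.unusedSectionVars false
universe u

namespace Groth.Agent.Lib.helper26.GrCM

open Groth.Agent.Lib.helper26.Seg

section Fin

variable {k : Type u} [Field k] {R : Type u} [CommRing R] [Algebra k R]
  (𝒜 : ℤ → Submodule k R) [GradedAlgebra 𝒜]
  (hpos : ∀ n : ℤ, n < 0 → 𝒜 n = ⊥) (h0 : 𝒜 0 = Submodule.span k {(1 : R)})
  {M : Type u} [AddCommGroup M] [Module R M] [Module k M] [IsScalarTower k R M]
  (ℳ : ℤ → AddSubgroup M) [DirectSum.Decomposition ℳ] [SetLike.GradedSMul 𝒜 ℳ]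

/-- components of a multiple of a homogeneous element -/
theorem cmp_smul_of_mem {j : ℤ} {g : M} (hg : g ∈ ℳ j) (c : R) (n : ℤ) :
    cmp ℳ (c • g) n = ((DirectSum.decompose 𝒜 c (n - j) : 𝒜 (n - j)) : R) • g := by
  classical
  rw [cmp_smul_general 𝒜 ℳ]
  by_cases h00 : (n - j) ∈ (DirectSum.decompose 𝒜 c).support
  · rw [Finset.sum_eq_single (n - j)]
    · rw [sub_sub_cancel, cmp_of_mem_same ℳ hg]
    · intro i _ hi
      rw [cmp_of_mem_ne ℳ hg (by omega), smul_zero]
    · intro h; exact absurd h00 h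
  · rw [Finset.sum_eq_zero]
    · rw [DFinsupp.notMem_support_iff] at h00
      rw [h00, ZeroMemClass.coe_zero, zero_smul]
    · intro i hi
      have hi0 : i ≠ n - j := by rintro rfl; exact h00 hi
      rw [cmp_of_mem_ne ℳ hg (by omega), smul_zero]

include 𝒜 in
theorem exists_homogeneous_generators [Module.Finite R M] :
    ∃ G : Finset M, (∀ g ∈ G, ∃ n : ℤ, g ∈ ℳ n) ∧ Submodule.span R (G : Set M) = ⊤ := by
  have h1 : Submodule.span R {m : M | ∃ n : ℤ, m ∈ ℳ n} = ⊤ := span_homogeneous_eq_top ℳ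
  have h2 : (Submodule.span R {m : M | ∃ n : ℤ, m ∈ ℳ n}).FG := by
    rw [h1]; exact Module.Finite.fg_top
  obtain ⟨G, hG, hGs⟩ := (Submodule.fg_span_iff_fg_span_finset_subset _).1 h2
  exact ⟨G, fun g hg => hG hg, by rw [← hGs, h1]⟩

/-- a homogeneous element is a combination of homogeneous generators with homogeneous
coefficients -/
theorem exists_coeffs_of_mem (G : Finset M) (e : M → ℤ) (he : ∀ g ∈ G, g ∈ ℳ (e g))
    (hG : Submodule.span R (G : Set M) = ⊤) {n : ℤ} {m : M} (hm : m ∈ ℳ n) :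
    ∃ c : M → R, (∀ g, c g ∈ 𝒜 (n - e g)) ∧ m = ∑ g ∈ G, c g • g := by
  have h1 : m ∈ Submodule.span R (G : Set M) := by rw [hG]; trivial
  obtain ⟨c, hc⟩ := (Submodule.mem_span_finset (R := R)).1 h1
  refine ⟨fun g => ((DirectSum.decompose 𝒜 (c g) (n - e g) : 𝒜 (n - e g)) : R),
    fun g => SetLike.coe_mem _, ?_⟩
  have h2 : cmp ℳ m n = m := cmp_of_mem_same ℳ hm
  rw [← h2, ← hc.2, cmp_sum]
  refine Finset.sum_congr rfl fun g hg => ?_
  exact cmp_smul_of_mem 𝒜 ℳ (he g hg) (c g) n

include hpos in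
theorem exists_forall_lt_eq_bot [Module.Finite R M] : ∃ n₀ : ℤ, ∀ n : ℤ, n < n₀ → ℳ n = ⊥ := by
  classical
  obtain ⟨G, hGhom, hG⟩ := exists_homogeneous_generators 𝒜 ℳ
  choose! e he using hGhom
  refine ⟨-∑ g ∈ G, |e g|, fun n hn => ?_⟩
  rw [eq_bot_iff]
  intro m hm
  obtain ⟨c, hc, rfl⟩ := exists_coeffs_of_mem 𝒜 ℳ G e he hG hm
  rw [AddSubgroup.mem_bot]
  refine Finset.sum_eq_zero fun g hg => ?_
  have h1 : |e g| ≤ ∑ g ∈ G, |e g| :=
    Finset.single_le_sum (f := fun g => |e g|) (fun _ _ => abs_nonneg _) hg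
  have h2 : n - e g < 0 := by
    have := neg_abs_le (e g)
    omega
  have h3 : c g ∈ (⊥ : Submodule k R) := by rw [← hpos _ h2]; exact hc g
  rw [(Submodule.mem_bot k).1 h3, zero_smul]

include hpos h0 in
theorem fg_pieceK [IsNoetherianRing R] [Module.Finite R M] (n : ℤ) : (pieceK 𝒜 ℳ n).FG := by
  classical
  obtain ⟨G, hGhom, hG⟩ := exists_homogeneous_generators 𝒜 ℳ
  choose! e he using hGhom
  let f : M → R →ₗ[k] M := fun g => (LinearMap.toSpanSingleton R M g).restrictScalars k
  have hf : ∀ g r, f g r = r • g := fun g r => rfl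
  let V : Submodule k M := ⨆ g ∈ G, Submodule.map (f g) (𝒜 (n - e g))
  have hV : V.FG := by
    apply Submodule.fg_biSup
    intro g _
    apply Submodule.FG.map
    have := finite_piece 𝒜 hpos h0 (n - e g)
    exact (Submodule.fg_top _).1 (Module.finite_def.1 this)
  have hle : pieceK 𝒜 ℳ n ≤ V := by
    intro m hm
    obtain ⟨c, hc, rfl⟩ := exists_coeffs_of_mem 𝒜 ℳ G e he hG hm
    refine Submodule.sum_mem _ fun g hg => ?_
    exact Submodule.mem_iSup_of_mem g (Submodule.mem_iSup_of_mem hg ⟨c g, hc g, rfl⟩)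
  have : IsNoetherian k V := isNoetherian_of_fg_of_noetherian _ hV
  have h2 : Module.Finite k (pieceK 𝒜 ℳ n) :=
    Module.Finite.of_injective (Submodule.inclusion hle) (Submodule.inclusion_injective hle)
  exact (Submodule.fg_top _).1 (Module.finite_def.1 h2)

include 𝒜 in
/-- a homogeneous submodule of finite codimension contains all pieces of large degree -/
theorem exists_forall_le_of_finite_quotient (L : Submodule R M)
    (hL : ∀ m ∈ L, ∀ n, cmp ℳ m n ∈ L) [Module.Finite k (M ⧸ L)] :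
    ∃ n₁ : ℤ, ∀ n : ℤ, n₁ < n → ∀ m ∈ ℳ n, m ∈ L := by
  classical
  obtain ⟨B, hB⟩ := (Module.Finite.fg_top : (⊤ : Submodule k (M ⧸ L)).FG)
  let ℓ : M ⧸ L → M := Function.surjInv (Submodule.mkQ_surjective L)
  have hℓ : ∀ b, Submodule.Quotient.mk (ℓ b) = b := Function.surjInv_eq (Submodule.mkQ_surjective L)
  -- a bound for the degrees occurring
  let D : Finset ℤ := B.biUnion (fun b => (DirectSum.decompose ℳ (ℓ b)).support)
  refine ⟨∑ i ∈ D, |i|, fun n hn m hm => ?_⟩
  have hnD : n ∉ D := by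
    intro hmem
    have h1 : |n| ≤ ∑ i ∈ D, |i| :=
      Finset.single_le_sum (f := fun i => |i|) (fun _ _ => abs_nonneg _) hmem
    have := le_abs_self n
    omega
  have hcmpB : ∀ b ∈ B, cmp ℳ (ℓ b) n = 0 := by
    intro b hb
    have h1 : n ∉ (DirectSum.decompose ℳ (ℓ b)).support := by
      intro hmem
      exact hnD (Finset.mem_biUnion.2 ⟨b, hb, hmem⟩)
    rw [DFinsupp.notMem_support_iff] at h1
    unfold cmp
    rw [h1, ZeroMemClass.coe_zero]
  -- write `m` modulo `L`
  have h1 : (Submodule.Quotient.mk m : M ⧸ L) ∈ Submodule.span k (B : Set (M ⧸ L)) := by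
    rw [hB]; trivial
  obtain ⟨c, hc⟩ := (Submodule.mem_span_finset (R := k)).1 h1
  have h2 : m - ∑ b ∈ B, c b • ℓ b ∈ L := by
    rw [← Submodule.Quotient.mk_eq_zero, Submodule.Quotient.mk_sub, sub_eq_zero, ← hc.2]
    show _ = (Submodule.mkQ L) _
    rw [map_sum]
    refine Finset.sum_congr rfl fun b _ => ?_
    rw [Submodule.mkQ_apply, Submodule.Quotient.mk_smul, hℓ]
  have h3 := hL _ h2 n
  rw [cmp_sub, cmp_of_mem_same ℳ hm, cmp_sum] at h3
  have h4 : ∑ b ∈ B, cmp ℳ (c b • ℓ b) n = 0 := by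
    refine Finset.sum_eq_zero fun b hb => ?_
    rw [cmp_ksmul 𝒜 ℳ, hcmpB b hb, smul_zero]
  rw [h4, sub_zero] at h3
  exact h3

include hpos h0 in
/-- a submodule containing all pieces of large degree has finite codimension -/
theorem finite_quotient_of_forall_le [IsNoetherianRing R] [Module.Finite R M] (L : Submodule R M)
    (n₁ : ℤ) (hL : ∀ n : ℤ, n₁ < n → ∀ m ∈ ℳ n, m ∈ L) : Module.Finite k (M ⧸ L) := by
  classical
  obtain ⟨n₀, hn₀⟩ := exists_forall_lt_eq_bot 𝒜 hpos ℳ
  let V : Submodule k M := ⨆ n ∈ Finset.Icc n₀ n₁, pieceK 𝒜 ℳ n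
  have hV : V.FG := by
    apply Submodule.fg_biSup
    intro n _
    exact fg_pieceK 𝒜 hpos h0 ℳ n
  let π : M →ₗ[k] M ⧸ L := (Submodule.mkQ L).restrictScalars k
  have hπ : ∀ t, π t = Submodule.Quotient.mk t := fun _ => rfl
  have hmap : Submodule.map π V = ⊤ := by
    rw [eq_top_iff]
    rintro y -
    obtain ⟨m, rfl⟩ := Submodule.Quotient.mk_surjective L y
    rw [← hπ, ← sum_cmp ℳ m, map_sum]
    refine Submodule.sum_mem _ fun n _ => ?_
    by_cases hn : n ∈ Finset.Icc n₀ n₁
    · exact ⟨_, Submodule.mem_iSup_of_mem n (Submodule.mem_iSup_of_mem hn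
        (cmp_mem ℳ m n)), rfl⟩
    · rw [Finset.mem_Icc, not_and_or, not_le, not_le] at hn
      have : π (cmp ℳ m n) = 0 := by
        rw [hπ, Submodule.Quotient.mk_eq_zero]
        rcases hn with hn | hn
        · have h1 := cmp_mem ℳ m n
          rw [hn₀ n hn, AddSubgroup.mem_bot] at h1
          rw [h1]; exact zero_mem _
        · exact hL n hn _ (cmp_mem ℳ m n)
      rw [this]; exact zero_mem _
  have : (⊤ : Submodule k (M ⧸ L)).FG := by rw [← hmap]; exact hV.map π
  exact ⟨this⟩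

end Fin

section Quot

variable {k : Type u} [Field k] {R : Type u} [CommRing R] [Algebra k R]
  {M : Type u} [AddCommGroup M] [Module R M] [Module k M] [IsScalarTower k R M]

theorem smul_mem_of_mem_sup (J : Ideal R) {a : R} (ha : a ∈ Module.annihilator R M ⊔ J) (m : M) :
    a • m ∈ J • (⊤ : Submodule R M) := by
  obtain ⟨b, hb, c, hc, rfl⟩ := Submodule.mem_sup.1 ha
  rw [add_smul, Module.mem_annihilator.1 hb m, zero_add]
  exact Submodule.smul_mem_smul hc trivial

/-- `M/JM` is finite-dimensional as soon as `R/(Ann M + J)` is -/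
theorem finite_quotient_smul_top [Module.Finite R M] (J : Ideal R)
    [Module.Finite k (R ⧸ (Module.annihilator R M ⊔ J))] :
    Module.Finite k (M ⧸ J • (⊤ : Submodule R M)) := by
  classical
  obtain ⟨G, hG⟩ := (Module.Finite.fg_top : (⊤ : Submodule R M).FG)
  set K : Ideal R := Module.annihilator R M ⊔ J with hK
  set L : Submodule R M := J • (⊤ : Submodule R M) with hLdef
  let f : M → (R ⧸ K) →ₗ[k] M ⧸ L := fun g =>
    (Submodule.liftQ K ((Submodule.mkQ L).comp (LinearMap.toSpanSingleton R M g)) (by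
      intro a ha
      rw [LinearMap.mem_ker, LinearMap.comp_apply, LinearMap.toSpanSingleton_apply,
        Submodule.mkQ_apply, Submodule.Quotient.mk_eq_zero]
      exact smul_mem_of_mem_sup J ha g)).restrictScalars k
  have hf : ∀ g (r : R), f g (Ideal.Quotient.mk K r) = Submodule.Quotient.mk (r • g) :=
    fun g r => rfl
  let V : Submodule k (M ⧸ L) := ⨆ g ∈ G, LinearMap.range (f g)
  have hV : V.FG := by
    apply Submodule.fg_biSup
    intro g _
    rw [LinearMap.range_eq_map]
    exact Submodule.FG.map _ Module.Finite.fg_top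
  have htop : V = ⊤ := by
    rw [eq_top_iff]
    rintro y -
    obtain ⟨m, rfl⟩ := Submodule.Quotient.mk_surjective L y
    have h1 : m ∈ Submodule.span R (G : Set M) := by rw [hG]; trivial
    obtain ⟨c, hc⟩ := (Submodule.mem_span_finset (R := R)).1 h1
    rw [← hc.2]
    have h2 : (Submodule.Quotient.mk (∑ g ∈ G, c g • g) : M ⧸ L) =
        ∑ g ∈ G, f g (Ideal.Quotient.mk K (c g)) := by
      show (Submodule.mkQ L) _ = _
      rw [map_sum]
      exact Finset.sum_congr rfl fun g _ => (hf g (c g)).symm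
    rw [h2]
    refine Submodule.sum_mem _ fun g hg => ?_
    exact Submodule.mem_iSup_of_mem g (Submodule.mem_iSup_of_mem hg ⟨_, rfl⟩)
  exact ⟨by rw [← htop]; exact hV⟩

/-- transfer of finiteness from the quotient by the annihilator -/
theorem finite_quotient_sup_of_finite (I J : Ideal R)
    [Module.Finite k ((R ⧸ I) ⧸ J.map (Ideal.Quotient.mkₐ k I))] :
    Module.Finite k (R ⧸ (I ⊔ J)) :=
  Module.Finite.equiv (DoubleQuot.quotQuotEquivQuotSupₐ k I J).toLinearEquiv

end Quot

end Groth.Agent.Lib.helper26.GrCM
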