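import Mathlib
import Groth.Agent.Lib.Helper26.GrCM1
import Groth.Agent.Lib.Helper26.GrCM2
import Groth.Agent.Lib.Helper26.GrCM4
import Groth.Agent.Lib.Helper26.CMPoly2
import Groth.Agent.Lib.Helper17.FieldCM

/-!
# A graded Cohen–Macaulay criterion for modules (helper26)

`P` a graded module, bounded below, over a graded `k`-algebra `T`; `t₁, …, t_s` homogeneous of
positive degrees forming a weakly regular sequence on `P` with `P/(t)P` finite-dimensional over `k`.
Then `P` is free of finite rank over `k[X₁,…,X_s]` (acting through `X_i ↦ t_i`), hence every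
localization of `P` at a prime of `T` is zero or Cohen–Macaulay.
-/

set_option autoImplicit false
set_option linter.unusedSectionVars false
universe u

namespace Groth.Agent.Lib.helper26.GrCM

open Groth.Agent.Lib.helper26.Seg

variable {k : Type u} [Field k] {T : Type u} [CommRing T] [Algebra k T]
  (𝒯 : ℤ → Submodule k T) [GradedAlgebra 𝒯]
  {P : Type u} [AddCommGroup P] [Module T P] [Module k P] [IsScalarTower k T P]
  (𝒬 : ℤ → AddSubgroup P) [DirectSum.Decomposition 𝒬] [SetLike.GradedSMul 𝒯 𝒬]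
  {s : ℕ} (t : Fin s → T) (d : Fin s → ℕ)

theorem range_eq_image_univ : Set.range t = t '' ((Finset.univ : Finset (Fin s)) : Set (Fin s)) := by
  rw [Finset.coe_univ, Set.image_univ]

/-- **Graded Nakayama** for modules, with prescribed generators. -/
theorem mem_closure_aeval_smul (hbdd : ∃ n₀ : ℤ, ∀ n : ℤ, n < n₀ → 𝒬 n = ⊥) (hd : ∀ i, 0 < d i)
    (ht : ∀ i, t i ∈ 𝒯 (d i : ℤ)) {κ : Type u} (w : κ → P) (hwhom : ∀ j, ∃ n : ℤ, w j ∈ 𝒬 n)
    (hW : ∀ p : P, ∃ v ∈ Submodule.span k (Set.range w),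
      p - v ∈ Ideal.span (Set.range t) • (⊤ : Submodule T P)) (p : P) :
    p ∈ AddSubgroup.closure {x : P | ∃ (q : MvPolynomial (Fin s) k) (j : κ),
      x = MvPolynomial.aeval (R := k) t q • w j} := by
  classical
  set N : AddSubgroup P := AddSubgroup.closure {x : P | ∃ (q : MvPolynomial (Fin s) k) (j : κ),
      x = MvPolynomial.aeval (R := k) t q • w j} with hN
  have hmulN : ∀ i, ∀ x ∈ N, t i • x ∈ N := by
    intro i x hx
    induction hx using AddSubgroup.closure_induction with
    | mem x hx =>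
      obtain ⟨q, j, rfl⟩ := hx
      apply AddSubgroup.subset_closure
      refine ⟨MvPolynomial.X i * q, j, ?_⟩
      rw [map_mul, MvPolynomial.aeval_X, mul_smul]
    | zero => rw [smul_zero]; exact zero_mem _
    | add x y _ _ hx hy => rw [smul_add]; exact add_mem hx hy
    | neg x _ hx => rw [smul_neg]; exact neg_mem hx
  have hkN : ∀ (c : k) (x : P), x ∈ N → c • x ∈ N := by
    intro c x hx
    induction hx using AddSubgroup.closure_induction with
    | mem x hx =>
      obtain ⟨q, j, rfl⟩ := hx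
      apply AddSubgroup.subset_closure
      refine ⟨c • q, j, ?_⟩
      rw [map_smul, smul_assoc]
    | zero => rw [smul_zero]; exact zero_mem _
    | add x y _ _ hx hy => rw [smul_add]; exact add_mem hx hy
    | neg x _ hx => rw [smul_neg]; exact neg_mem hx
  have hwN : ∀ j, w j ∈ N := by
    intro j
    apply AddSubgroup.subset_closure
    exact ⟨1, j, by rw [map_one, one_smul]⟩
  have hcomp : ∀ (n : ℤ), ∀ v ∈ Submodule.span k (Set.range w), cmp 𝒬 v n ∈ N := by
    intro n v hv
    induction hv using Submodule.span_induction with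
    | mem x hx =>
      obtain ⟨j, rfl⟩ := hx
      obtain ⟨e, he⟩ := hwhom j
      by_cases hen : e = n
      · subst hen
        rw [cmp_of_mem_same 𝒬 he]
        exact hwN j
      · rw [cmp_of_mem_ne 𝒬 he hen]
        exact zero_mem _
    | zero => rw [cmp_zero]; exact zero_mem _
    | add x y _ _ hx hy => rw [cmp_add]; exact add_mem hx hy
    | smul c x _ hx => rw [cmp_ksmul 𝒯 𝒬]; exact hkN c _ hx
  obtain ⟨n₀, hn₀⟩ := hbdd
  have key : ∀ m : ℕ, ∀ n : ℤ, n < n₀ + m → ∀ p ∈ 𝒬 n, p ∈ N := by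
    intro m
    induction m with
    | zero =>
      intro n hn p hp
      rw [hn₀ n (by simpa using hn), AddSubgroup.mem_bot] at hp
      rw [hp]; exact zero_mem _
    | succ m ih =>
      intro n hn p hp
      obtain ⟨v, hv, hvt⟩ := hW p
      rw [range_eq_image_univ, mem_span_image_smul_top_iff] at hvt
      obtain ⟨c, hc⟩ := hvt
      have hp' : p = v + ∑ i, t i • c i := by rw [← hc]; abel
      have h1 : cmp 𝒬 p n = p := cmp_of_mem_same 𝒬 hp
      rw [← h1, hp', cmp_add, cmp_sum]
      refine add_mem (hcomp n v hv) (AddSubgroup.sum_mem _ fun i _ => ?_)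
      rw [cmp_smul 𝒯 𝒬 (ht i)]
      apply hmulN
      apply ih (n - d i) _ _ (cmp_mem 𝒬 _ _)
      have := hd i
      push_cast at hn
      omega
  rw [← sum_cmp 𝒬 p]
  refine AddSubgroup.sum_mem _ fun n _ => ?_
  exact key (n - n₀).toNat.succ n (by push_cast; omega) _ (cmp_mem 𝒬 p n)

/-- homogeneous generators modulo a submodule of finite codimension -/
theorem exists_finset_homogeneous_mod (L : Submodule T P) [Module.Finite k (P ⧸ L)] :
    ∃ W : Finset P, (∀ w ∈ W, ∃ n : ℤ, w ∈ 𝒬 n) ∧
      ∀ p : P, ∃ v ∈ Submodule.span k (W : Set P), p - v ∈ L := by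
  classical
  obtain ⟨B, hB⟩ := (Module.Finite.fg_top : (⊤ : Submodule k (P ⧸ L)).FG)
  let ℓ : P ⧸ L → P := Function.surjInv (Submodule.mkQ_surjective L)
  have hℓ : ∀ b, Submodule.Quotient.mk (ℓ b) = b := Function.surjInv_eq (Submodule.mkQ_surjective L)
  let W : Finset P := B.biUnion (fun b => (DFinsupp.support (DirectSum.decompose 𝒬 (ℓ b))).image
    (fun n => cmp 𝒬 (ℓ b) n))
  refine ⟨W, ?_, ?_⟩
  · intro w hw
    simp only [W, Finset.mem_biUnion, Finset.mem_image] at hw
    obtain ⟨b, _, n, _, rfl⟩ := hw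
    exact ⟨n, cmp_mem 𝒬 _ _⟩
  · have hℓW : ∀ b ∈ B, ℓ b ∈ Submodule.span k (W : Set P) := by
      intro b hb
      rw [← sum_cmp 𝒬 (ℓ b)]
      refine Submodule.sum_mem _ fun n hn => Submodule.subset_span ?_
      simp only [W, Finset.coe_biUnion, Finset.coe_image, Set.mem_iUnion, Set.mem_image,
        Finset.mem_coe]
      exact ⟨b, hb, n, hn, rfl⟩
    let π : P →ₗ[k] P ⧸ L := (Submodule.mkQ L).restrictScalars k
    have hπ : ∀ p, π p = Submodule.Quotient.mk p := fun _ => rfl
    have hmap : Submodule.map π (Submodule.span k (W : Set P)) = ⊤ := by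
      rw [eq_top_iff, ← hB, Submodule.span_le]
      intro b hb
      exact ⟨ℓ b, hℓW b hb, by rw [hπ, hℓ]⟩
    intro p
    have : π p ∈ Submodule.map π (Submodule.span k (W : Set P)) := by rw [hmap]; trivial
    obtain ⟨v, hv, hvt⟩ := this
    refine ⟨v, hv, ?_⟩
    rw [← Submodule.Quotient.eq, ← hπ, ← hπ, hvt]

/-- existence of homogeneous lifts of a `k`-basis of `P/L` -/
theorem exists_homogeneous_basis_lift_mod (L : Submodule T P) [Module.Finite k (P ⧸ L)] :
    ∃ (κ : Type u) (_ : Fintype κ) (w : κ → P), (∀ j, ∃ n : ℤ, w j ∈ 𝒬 n) ∧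
      (∀ a : κ → k, (∑ j, a j • w j) ∈ L → a = 0) ∧
      ∀ p : P, ∃ v ∈ Submodule.span k (Set.range w), p - v ∈ L := by
  classical
  obtain ⟨W, hWhom, hW⟩ := exists_finset_homogeneous_mod (k := k) 𝒬 L
  let π : P →ₗ[k] P ⧸ L := (Submodule.mkQ L).restrictScalars k
  have hπ : ∀ p, π p = Submodule.Quotient.mk p := fun _ => rfl
  obtain ⟨b, hbS, hbspan, hbli⟩ := exists_linearIndependent k (π '' (W : Set P))
  have hbfin : b.Finite := (W.finite_toSet.image π).subset hbS
  have hbft : Fintype b := hbfin.fintype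
  have hpre : ∀ y : b, ∃ x ∈ W, π x = y := fun y => hbS y.2
  choose w hwW hwπ using hpre
  refine ⟨b, hbft, w, fun j => hWhom _ (hwW j), ?_, ?_⟩
  · intro a ha
    have h1 : π (∑ j, a j • w j) = 0 := by
      rw [hπ, Submodule.Quotient.mk_eq_zero]; exact ha
    rw [map_sum] at h1
    have h2 : ∑ j : b, a j • (j : P ⧸ L) = 0 := by
      rw [← h1]
      refine Finset.sum_congr rfl fun j _ => ?_
      rw [map_smul, hwπ]
    funext j
    exact (Fintype.linearIndependent_iff.1 hbli a h2) j
  · intro p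
    obtain ⟨v₀, hv₀, hv₀t⟩ := hW p
    have h1 : π v₀ ∈ Submodule.span k b := by
      rw [hbspan, ← Submodule.map_span]
      exact ⟨v₀, hv₀, rfl⟩
    have h2 : Submodule.span k b ≤ Submodule.map π (Submodule.span k (Set.range w)) := by
      rw [Submodule.span_le]
      intro y hy
      exact ⟨w ⟨y, hy⟩, Submodule.subset_span ⟨⟨y, hy⟩, rfl⟩, hwπ ⟨y, hy⟩⟩
    obtain ⟨v, hv, hvπ⟩ := h2 h1
    refine ⟨v, hv, ?_⟩
    have h3 : v₀ - v ∈ L := by
      rw [← Submodule.Quotient.eq, ← hπ, ← hπ, hvπ]
    have : p - v = (p - v₀) + (v₀ - v) := by abel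
    rw [this]
    exact add_mem hv₀t h3

/-- **Graded Cohen–Macaulay criterion for modules.** -/
theorem isCohenMacaulayModule_of_isWeaklyRegular [IsNoetherianRing T]
    (hbdd : ∃ n₀ : ℤ, ∀ n : ℤ, n < n₀ → 𝒬 n = ⊥) (hd : ∀ i, 0 < d i)
    (ht : ∀ i, t i ∈ 𝒯 (d i : ℤ))
    [Module.Finite k (P ⧸ Ideal.span (Set.range t) • (⊤ : Submodule T P))]
    (hreg : RingTheory.Sequence.IsWeaklyRegular P (List.ofFn t)) (q : Ideal T) [q.IsPrime] :
    Subsingleton (LocalizedModule q.primeCompl P) ∨
      LocCoh.IsCohenMacaulayModule (Localization.AtPrime q) (LocalizedModule q.primeCompl P) := by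
  classical
  obtain ⟨κ, hκ, w, hwhom, hli, hsp⟩ :=
    exists_homogeneous_basis_lift_mod (k := k) 𝒬 (Ideal.span (Set.range t) • (⊤ : Submodule T P))
  have hclos := mem_closure_aeval_smul 𝒯 𝒬 t d hbdd hd ht w hwhom hsp
  let alg : Algebra (MvPolynomial (Fin s) k) T := (MvPolynomial.aeval (R := k) t).toRingHom.toAlgebra
  let mod : Module (MvPolynomial (Fin s) k) P :=
    Module.compHom P (MvPolynomial.aeval (R := k) t).toRingHom
  have hsmul : ∀ (a : MvPolynomial (Fin s) k) (p : P), a • p = MvPolynomial.aeval (R := k) t a • p :=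
    fun a p => rfl
  have hsmulT : ∀ (a : MvPolynomial (Fin s) k) (x : T), a • x = MvPolynomial.aeval (R := k) t a * x :=
    fun a x => rfl
  have htower : IsScalarTower (MvPolynomial (Fin s) k) T P :=
    ⟨fun a x p => by rw [hsmul, hsmulT, mul_smul]⟩
  let Φ : (κ → MvPolynomial (Fin s) k) →ₗ[MvPolynomial (Fin s) k] P :=
    Fintype.linearCombination (MvPolynomial (Fin s) k) w
  have hΦ : ∀ c, Φ c = ∑ j, MvPolynomial.aeval (R := k) t (c j) • w j := by
    intro c
    rw [Fintype.linearCombination_apply]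
    rfl
  have hinj : Function.Injective Φ := by
    rw [← LinearMap.ker_eq_bot, LinearMap.ker_eq_bot']
    intro c hc
    rw [hΦ] at hc
    refine mvPolynomial_indep s P t hreg w ?_ c hc
    intro a ha
    apply hli a
    have h1 : (∑ j, a j • w j) = ∑ j, algebraMap k T (a j) • w j :=
      Finset.sum_congr rfl fun j _ => (algebraMap_smul T (a j) (w j)).symm
    rw [h1]; exact ha
  have hsurj : Function.Surjective Φ := by
    intro p
    rw [← LinearMap.mem_range]
    have hp := hclos p
    induction hp using AddSubgroup.closure_induction with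
    | mem x hx =>
      obtain ⟨q', j, rfl⟩ := hx
      refine ⟨Pi.single j q', ?_⟩
      rw [hΦ, Finset.sum_eq_single j]
      · rw [Pi.single_eq_same]
      · intro i _ hij
        rw [Pi.single_eq_of_ne hij, map_zero, zero_smul]
      · intro h; exact absurd (Finset.mem_univ j) h
    | zero => exact zero_mem _
    | add x y _ _ hx hy => exact add_mem hx hy
    | neg x _ hx => exact neg_mem hx
  let e : (κ → MvPolynomial (Fin s) k) ≃ₗ[MvPolynomial (Fin s) k] P :=
    LinearEquiv.ofBijective Φ ⟨hinj, hsurj⟩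
  have hfree : Module.Free (MvPolynomial (Fin s) k) P := Module.Free.of_equiv e
  have hfin : Module.Finite (MvPolynomial (Fin s) k) P := Module.Finite.equiv e
  have hk : LocCoh.IsCohenMacaulayRing k :=
    Groth.Agent.Lib.helper17.FieldCM.isCohenMacaulayRing_of_isArtinianRing k
  have hA : LocCoh.IsCohenMacaulayRing (MvPolynomial (Fin s) k) :=
    Groth.Agent.Lib.helper26.CMPoly.isCohenMacaulayRing_mvPolynomial k s
  exact isCohenMacaulayModule_localization_of_free (A := MvPolynomial (Fin s) k) (T := T) (P := P) q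

end Groth.Agent.Lib.helper26.GrCM
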