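import Mathlib
import Groth.Agent.Lib.Helper26.GrCM6

/-!
# A regular sequence on the Segre product of graded modules (helper26)

* `isWeaklyRegular_ofFn_iff_mod`: weak regularity of a finite family on a module, elementwise;
* `exists_of_act_mem`: cancelling `1 ⊗ y₀` modulo `(1 ⊗ y_i)`;
* `segre_regular_mod`: under the vanishing hypothesis `N_{n-e} ≠ 0 → M_n ⊆ x'M`, the elements `t_j`
  with `ψ t_j = x' ⊗ y_j` form a regular sequence on `M # N`;
* `forall_mem_span_smul_top`: `(M # N)_n ⊆ (t)(M # N)` for large `n`.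
-/

set_option autoImplicit false
set_option linter.unusedSectionVars false
universe u
open scoped TensorProduct

namespace Groth.Agent.Lib.helper26.GrCM

open Groth.Agent.Lib.helper26.Seg RingTheory.Sequence

/-- weak regularity of a finite family on a module, in elementary terms -/
theorem isWeaklyRegular_ofFn_iff_mod {A : Type u} [CommRing A] {M : Type u} [AddCommGroup M]
    [Module A M] {s : ℕ} (u : Fin s → A) :
    IsWeaklyRegular M (List.ofFn u) ↔ ∀ (j : Fin s) (z : M),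
      u j • z ∈ Ideal.span (u '' ((Finset.Iio j : Finset (Fin s)) : Set (Fin s))) •
        (⊤ : Submodule A M) →
      z ∈ Ideal.span (u '' ((Finset.Iio j : Finset (Fin s)) : Set (Fin s))) •
        (⊤ : Submodule A M) := by
  have key : ∀ (i : ℕ) (hi : i < s), (Ideal.ofList ((List.ofFn u).take i) •
      (⊤ : Submodule A M)) = Ideal.span (u '' ((Finset.Iio (⟨i, hi⟩ : Fin s) : Finset (Fin s)) :
        Set (Fin s))) • (⊤ : Submodule A M) := by
    intro i hi
    unfold Ideal.ofList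
    congr 2
    ext a
    simp only [Finset.coe_Iio, Set.mem_image, Set.mem_Iio]
    rw [Set.mem_ofPred_eq, List.mem_take_iff_getElem]
    constructor
    · rintro ⟨m, hm, rfl⟩
      rw [List.length_ofFn] at hm
      refine ⟨⟨m, by omega⟩, ?_, ?_⟩
      · rw [Fin.mk_lt_mk]; omega
      · rw [List.getElem_ofFn]
    · rintro ⟨m, hm, rfl⟩
      have hm' : (m : ℕ) < i := hm
      refine ⟨m, ?_, ?_⟩
      · rw [List.length_ofFn]; omega
      · rw [List.getElem_ofFn]
  rw [isWeaklyRegular_iff]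
  constructor
  · intro h j z hz
    have h1 := h j (by rw [List.length_ofFn]; exact j.2)
    rw [isSMulRegular_iff_right_eq_zero_of_smul] at h1
    have h2 := h1 (Submodule.Quotient.mk z)
    rw [← Submodule.Quotient.mk_smul, Submodule.Quotient.mk_eq_zero,
      Submodule.Quotient.mk_eq_zero, key j j.2, List.getElem_ofFn] at h2
    exact h2 hz
  · intro h i hi
    have hi' : i < s := by rwa [List.length_ofFn] at hi
    rw [isSMulRegular_iff_right_eq_zero_of_smul]
    intro m hm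
    obtain ⟨z, rfl⟩ := Submodule.Quotient.mk_surjective _ m
    rw [← Submodule.Quotient.mk_smul, Submodule.Quotient.mk_eq_zero, key i hi',
      List.getElem_ofFn] at hm
    rw [Submodule.Quotient.mk_eq_zero, key i hi']
    exact h ⟨i, hi'⟩ z hm

variable {k : Type u} [Field k] {R : Type u} [CommRing R] [Algebra k R]
  (𝒜 : ℤ → Submodule k R) [GradedAlgebra 𝒜]
  {S : Type u} [CommRing S] [Algebra k S] (ℬ : ℤ → Submodule k S) [GradedAlgebra ℬ]
  {T : Type u} [CommRing T] [Algebra k T] (𝒯 : ℤ → Submodule k T) [GradedAlgebra 𝒯]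
  (ψ : T →ₐ[k] R ⊗[k] S)
  {M : Type u} [AddCommGroup M] [Module R M] [Module k M] [IsScalarTower k R M]
  (ℳ : ℤ → AddSubgroup M) [DirectSum.Decomposition ℳ] [SetLike.GradedSMul 𝒜 ℳ]
  {N : Type u} [AddCommGroup N] [Module S N] [Module k N] [IsScalarTower k S N]
  (𝒩 : ℤ → AddSubgroup N) [DirectSum.Decomposition 𝒩] [SetLike.GradedSMul ℬ 𝒩]
  {P : Type u} [AddCommGroup P] [Module T P] [Module k P] [IsScalarTower k T P]
  (𝒬 : ℤ → AddSubgroup P) [DirectSum.Decomposition 𝒬]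
  (φ : P →ₗ[k] M ⊗[k] N) (hP : GrSeg.IsSegreMod ψ ℳ 𝒩 𝒬 φ)
  (hdegT : ∀ n : ℤ, (𝒯 n).map ψ.toLinearMap =
    Submodule.span k {x : R ⊗[k] S | ∃ a ∈ 𝒜 n, ∃ b ∈ ℬ n, x = a ⊗ₜ[k] b})

section SumAct

variable {ι : Type} (F : Finset ι)

/-- `w ↦ ∑_{i ∈ F} a_i • w_i` -/
noncomputable def sumAct (a : ι → R ⊗[k] S) : (ι → M ⊗[k] N) →ₗ[k] M ⊗[k] N :=
  ∑ i ∈ F, (GrSeg.act k R S M N (a i)).comp (LinearMap.proj i)

theorem sumAct_apply (a : ι → R ⊗[k] S) (w : ι → M ⊗[k] N) :
    sumAct (M := M) (N := N) F a w = ∑ i ∈ F, GrSeg.act k R S M N (a i) (w i) := by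
  unfold sumAct
  rw [LinearMap.sum_apply]
  rfl

/-- **cancelling `1 ⊗ y₀` modulo `(1 ⊗ y_i)`** -/
theorem exists_of_act_mem (y : ι → S) {y₀ : S}
    (hreg : ∀ z : N, y₀ • z ∈ Ideal.span (y '' (F : Set ι)) • (⊤ : Submodule S N) →
      z ∈ Ideal.span (y '' (F : Set ι)) • (⊤ : Submodule S N))
    (v : M ⊗[k] N)
    (hv : GrSeg.act k R S M N ((1 : R) ⊗ₜ[k] y₀) v ∈
      LinearMap.range (sumAct (M := M) (N := N) F fun i => (1 : R) ⊗ₜ[k] y i)) :
    v ∈ LinearMap.range (sumAct (M := M) (N := N) F fun i => (1 : R) ⊗ₜ[k] y i) := by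
  classical
  set JN : Submodule k N :=
    (Ideal.span (y '' (F : Set ι)) • (⊤ : Submodule S N)).restrictScalars k with hJN
  have hmemJN : ∀ z : N, z ∈ JN ↔ z ∈ Ideal.span (y '' (F : Set ι)) • (⊤ : Submodule S N) :=
    fun z => Iff.rfl
  let Q : M ⊗[k] N →ₗ[k] M ⊗[k] (N ⧸ JN) := JN.mkQ.lTensor M
  -- `Q` kills the range
  have hQrange : ∀ u ∈ LinearMap.range (sumAct (M := M) (N := N) F fun i => (1 : R) ⊗ₜ[k] y i),
      Q u = 0 := by
    rintro _ ⟨w, rfl⟩
    rw [sumAct_apply, map_sum]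
    refine Finset.sum_eq_zero fun i hi => ?_
    generalize w i = z
    induction z using TensorProduct.induction_on with
    | zero => simp
    | tmul m n =>
      rw [GrSeg.act_tmul, one_smul, LinearMap.lTensor_tmul, Submodule.mkQ_apply,
        (Submodule.Quotient.mk_eq_zero JN).2, TensorProduct.tmul_zero]
      rw [hmemJN]
      exact Submodule.smul_mem_smul (Ideal.subset_span ⟨i, Finset.mem_coe.2 hi, rfl⟩) trivial
    | add z z' h h' => rw [map_add, map_add, h, h', add_zero]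
  -- multiplication by `y₀` on the quotient
  let f₀ : N →ₗ[k] N := (LinearMap.lsmul S N y₀).restrictScalars k
  have hf₀ : JN ≤ JN.comap f₀ := by
    intro z hz
    rw [Submodule.mem_comap, hmemJN]
    exact Submodule.smul_mem _ _ ((hmemJN z).1 hz)
  let μ : (N ⧸ JN) →ₗ[k] (N ⧸ JN) := JN.mapQ JN f₀ hf₀
  have hμinj : Function.Injective μ := by
    rw [← LinearMap.ker_eq_bot, LinearMap.ker_eq_bot']
    intro z hz
    obtain ⟨z, rfl⟩ := Submodule.Quotient.mk_surjective JN z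
    rw [Submodule.mapQ_apply, Submodule.Quotient.mk_eq_zero, hmemJN] at hz
    rw [Submodule.Quotient.mk_eq_zero, hmemJN]
    exact hreg z hz
  have hμQ : ∀ u : M ⊗[k] N, Q (GrSeg.act k R S M N ((1 : R) ⊗ₜ[k] y₀) u) = μ.lTensor M (Q u) := by
    intro u
    induction u using TensorProduct.induction_on with
    | zero => simp
    | tmul m n =>
      rw [GrSeg.act_tmul, one_smul, LinearMap.lTensor_tmul, LinearMap.lTensor_tmul,
        LinearMap.lTensor_tmul, Submodule.mkQ_apply, Submodule.mkQ_apply, Submodule.mapQ_apply]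
      rfl
    | add z z' h h' => rw [map_add, map_add, map_add, map_add, h, h']
  have hQv : Q v = 0 := by
    have h1 := hQrange _ hv
    rw [hμQ] at h1
    have h2 : Function.Injective (μ.lTensor M) :=
      Module.Flat.lTensor_preserves_injective_linearMap μ hμinj
    exact h2 (h1.trans (map_zero _).symm)
  -- exactness
  have hex := lTensor_exact M (LinearMap.exact_subtype_mkQ JN) (Submodule.mkQ_surjective JN)
  obtain ⟨z, hz⟩ := (hex v).1 hQv
  rw [← hz]
  clear hz hQv hv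
  induction z using TensorProduct.induction_on with
  | zero => rw [map_zero]; exact zero_mem _
  | tmul m n =>
    rw [LinearMap.lTensor_tmul, Submodule.subtype_apply]
    have hn : (n : N) ∈ Ideal.span (y '' (F : Set ι)) • (⊤ : Submodule S N) := n.2
    rw [mem_span_image_smul_top_iff] at hn
    obtain ⟨c, hc⟩ := hn
    refine ⟨fun i => m ⊗ₜ[k] c i, ?_⟩
    rw [sumAct_apply, hc, TensorProduct.tmul_sum]
    refine Finset.sum_congr rfl fun i _ => ?_
    rw [GrSeg.act_tmul, one_smul]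
  | add z z' h h' => rw [map_add]; exact add_mem h h'

end SumAct

section Regular

include hP hdegT in
/-- **A regular sequence on the Segre product of modules.** -/
theorem segre_regular_mod {e : ℤ} {x' : R} (hx' : x' ∈ 𝒜 e) (hxreg : IsSMulRegular M x') {s : ℕ}
    (y : Fin s → S) (hy : ∀ i, y i ∈ ℬ e)
    (hS : ∀ (j : Fin s) (z : N),
      y j • z ∈ Ideal.span (y '' ((Finset.Iio j : Finset (Fin s)) : Set (Fin s))) •
        (⊤ : Submodule S N) →
      z ∈ Ideal.span (y '' ((Finset.Iio j : Finset (Fin s)) : Set (Fin s))) • (⊤ : Submodule S N))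
    (t : Fin s → T) (ht : ∀ i, t i ∈ 𝒯 e) (hψt : ∀ i, ψ (t i) = x' ⊗ₜ[k] y i)
    (j : Fin s)
    (hH : (Finset.Iio j).Nonempty → ∀ n : ℤ, 𝒩 (n - e) ≠ ⊥ → ∀ a ∈ ℳ n, ∃ a' : M, x' • a' = a)
    (τ : P)
    (h : t j • τ ∈ Ideal.span (t '' ((Finset.Iio j : Finset (Fin s)) : Set (Fin s))) •
      (⊤ : Submodule T P)) :
    τ ∈ Ideal.span (t '' ((Finset.Iio j : Finset (Fin s)) : Set (Fin s))) •
      (⊤ : Submodule T P) := by
  classical
  have hgs : SetLike.GradedSMul 𝒯 𝒬 := gradedSMul 𝒜 ℬ 𝒯 ψ ℳ 𝒩 𝒬 φ hP hdegT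
  set F : Finset (Fin s) := Finset.Iio j with hF
  set L : Submodule T P := Ideal.span (t '' (F : Set (Fin s))) • (⊤ : Submodule T P) with hL
  -- homogeneous case
  have hhom : ∀ (n : ℤ) (τ : P), τ ∈ 𝒬 n → t j • τ ∈ L → τ ∈ L := by
    intro n τ hτ hτL
    rw [hL, mem_span_image_smul_top_iff] at hτL
    obtain ⟨c, hc⟩ := hτL
    set v := φ τ with hv
    have h1 : GrSeg.act k R S M N (x' ⊗ₜ[k] (1 : S))
        (GrSeg.act k R S M N ((1 : R) ⊗ₜ[k] y j) v) =
        GrSeg.act k R S M N (x' ⊗ₜ[k] (1 : S))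
          (sumAct (M := M) (N := N) F (fun i => (1 : R) ⊗ₜ[k] y i) (fun i => φ (c i))) := by
      rw [← act_tmul_eq_comp, ← hψt, ← hP.map_smul, hc, map_sum, sumAct_apply, map_sum]
      refine Finset.sum_congr rfl fun i _ => ?_
      rw [hP.map_smul, hψt, act_tmul_eq_comp]
    have h2 := act_tmul_one_injective (S := S) (N := N) hxreg h1
    have h3 : v ∈ LinearMap.range (sumAct (M := M) (N := N) F fun i => (1 : R) ⊗ₜ[k] y i) :=
      exists_of_act_mem F y (hS j) v ⟨_, h2.symm⟩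
    obtain ⟨w, hw⟩ := h3
    rw [sumAct_apply] at hw
    by_cases hne : F.Nonempty
    · -- elements of bidegree `(n, n - e)` are divisible by `x' ⊗ 1`
      have hdiv : ∀ z ∈ Submodule.span k
          {z : M ⊗[k] N | ∃ m ∈ ℳ n, ∃ n' ∈ 𝒩 (n - e), z = m ⊗ₜ[k] n'},
          ∃ u : M ⊗[k] N, z = GrSeg.act k R S M N (x' ⊗ₜ[k] (1 : S)) u := by
        intro z hz
        induction hz using Submodule.span_induction with
        | mem z hz =>
          obtain ⟨m, hm, n', hn', rfl⟩ := hz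
          by_cases hbot : 𝒩 (n - e) = ⊥
          · rw [hbot, AddSubgroup.mem_bot] at hn'
            exact ⟨0, by rw [hn', TensorProduct.tmul_zero, map_zero]⟩
          · obtain ⟨a', ha'⟩ := hH hne n hbot m hm
            exact ⟨a' ⊗ₜ[k] n', by rw [GrSeg.act_tmul, one_smul, ha']⟩
        | zero => exact ⟨0, by rw [map_zero]⟩
        | add z z' _ _ hz hz' =>
          obtain ⟨u, rfl⟩ := hz
          obtain ⟨u', rfl⟩ := hz'
          exact ⟨u + u', by rw [map_add]⟩
        | smul a z _ hz =>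
          obtain ⟨u, rfl⟩ := hz
          exact ⟨a • u, by rw [map_smul]⟩
      have h4 : ∀ i, ∃ u : M ⊗[k] N, biP 𝒜 ℬ ℳ 𝒩 n (n - e) (w i) =
          GrSeg.act k R S M N (x' ⊗ₜ[k] (1 : S)) u := fun i =>
        hdiv _ (biP_mem 𝒜 ℬ ℳ 𝒩 n (n - e) (w i))
      choose u hu using h4
      have h5 : v = ∑ i ∈ F, GrSeg.act k R S M N (x' ⊗ₜ[k] y i) (u i) := by
        have h6 : biP 𝒜 ℬ ℳ 𝒩 n n v = v := biP_fix 𝒜 ℬ ℳ 𝒩 (phi_mem ψ ℳ 𝒩 𝒬 φ hP hτ)
        rw [← h6, ← hw, map_sum]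
        refine Finset.sum_congr rfl fun i _ => ?_
        have h7 := biP_act 𝒜 ℬ ℳ 𝒩 (SetLike.GradedOne.one_mem : (1 : R) ∈ 𝒜 0) (hy i) n (n - e)
          (w i)
        rw [zero_add, add_sub_cancel] at h7
        rw [h7, hu, ← act_tmul_eq_comp']
      exact mem_span_smul_top_of_phi_eq 𝒜 ℬ ψ ℳ 𝒩 𝒬 φ hP F hx' y hy t hψt τ u h5
    · rw [Finset.not_nonempty_iff_eq_empty] at hne
      rw [hne, Finset.sum_empty] at hw
      have : τ = 0 := by
        apply hP.injective
        rw [map_zero, ← hv, ← hw]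
      rw [this]
      exact zero_mem _
  -- general case
  rw [← sum_cmp 𝒬 τ]
  refine Submodule.sum_mem _ fun n _ => ?_
  apply hhom n _ (cmp_mem 𝒬 τ n)
  have h1 := cmp_mem_span_image_smul_top 𝒯 𝒬 t (fun _ => e) ht F h (e + n)
  rwa [cmp_smul' 𝒯 𝒬 (ht j)] at h1

include hP in
/-- `(M # N)_n ⊆ (t)(M # N)` for large `n` -/
theorem forall_mem_span_smul_top {e : ℤ} {x' : R} (hx' : x' ∈ 𝒜 e) {s : ℕ}
    (y : Fin s → S) (hy : ∀ i, y i ∈ ℬ e)
    (t : Fin s → T) (hψt : ∀ i, ψ (t i) = x' ⊗ₜ[k] y i) (n : ℤ)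
    (hM : ∀ m ∈ ℳ n, ∃ a' : M, x' • a' = m)
    (hN : ∀ z ∈ 𝒩 n, z ∈ Ideal.span (Set.range y) • (⊤ : Submodule S N))
    (p : P) (hp : p ∈ 𝒬 n) :
    p ∈ Ideal.span (Set.range t) • (⊤ : Submodule T P) := by
  classical
  have hrt : Set.range t = t '' ((Finset.univ : Finset (Fin s)) : Set (Fin s)) := by
    rw [Finset.coe_univ, Set.image_univ]
  have hry : Set.range y = y '' ((Finset.univ : Finset (Fin s)) : Set (Fin s)) := by
    rw [Finset.coe_univ, Set.image_univ]
  rw [hrt]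
  have h1 := phi_mem ψ ℳ 𝒩 𝒬 φ hP hp
  have h2 : ∀ z ∈ GrSeg.segrePiece k ℳ 𝒩 n,
      z ∈ LinearMap.range (sumAct (M := M) (N := N) Finset.univ fun i => x' ⊗ₜ[k] y i) := by
    intro z hz
    unfold GrSeg.segrePiece at hz
    induction hz using Submodule.span_induction with
    | mem z hz =>
      obtain ⟨m, hm, n', hn', rfl⟩ := hz
      obtain ⟨a', rfl⟩ := hM m hm
      have h3 := hN n' hn'
      rw [hry, mem_span_image_smul_top_iff] at h3
      obtain ⟨c, hc⟩ := h3
      refine ⟨fun i => a' ⊗ₜ[k] c i, ?_⟩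
      rw [sumAct_apply, hc, TensorProduct.tmul_sum]
      refine Finset.sum_congr rfl fun i _ => ?_
      rw [GrSeg.act_tmul]
    | zero => exact zero_mem _
    | add z z' _ _ h h' => exact add_mem h h'
    | smul a z _ h => exact Submodule.smul_mem _ _ h
  obtain ⟨w, hw⟩ := h2 _ h1
  rw [sumAct_apply] at hw
  exact mem_span_smul_top_of_phi_eq 𝒜 ℬ ψ ℳ 𝒩 𝒬 φ hP Finset.univ hx' y hy t hψt p w hw.symm

end Regular

end Groth.Agent.Lib.helper26.GrCM
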