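import Mathlib
import Groth.Agent.Lib.Helper26.CM1
import Groth.Agent.Lib.Helper26.SuppLoc
import Groth.Agent.Lib.Helper26.Seg27

/-!
# Graded Cohen–Macaulay modules are unmixed (helper26)

For a finite graded module `M` over a positively graded finite type `k`-algebra `R` (`R₀ = k`):
* `le_irr_of_isHomogeneous`: proper homogeneous ideals lie in the irrelevant ideal;
* `le_supportDim_localization_irr`: `dim M ≤ dim M_𝔪` for `𝔪 = R₊`;
* `le_ringKrullDim_quotient_torsionOf`: if `M_𝔪` is Cohen–Macaulay then `dim R/Ann x ≥ dim M` for every nonzero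
  homogeneous `x ∈ M`.
-/

set_option autoImplicit false
set_option linter.unusedSectionVars false
universe u
open scoped TensorProduct

namespace Groth.Agent.Lib.helper26.Seg

section Loc

variable {R : Type u} [CommRing R] (𝔪 : Ideal R) [𝔪.IsPrime]

theorem disjoint_primeCompl_of_le {q : Ideal R} (hq : q ≤ 𝔪) :
    Disjoint (𝔪.primeCompl : Set R) (q : Set R) := by
  rw [Set.disjoint_left]
  intro a ha haq
  exact ha (hq haq)

/-- `dim A/𝔓 ≤ dim R/(𝔓 ∩ R)` for a prime `𝔓` of a localization `A = R_𝔪` -/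
theorem ringKrullDim_quotient_le_comap (Q : Ideal (Localization.AtPrime 𝔪)) :
    ringKrullDim (Localization.AtPrime 𝔪 ⧸ Q) ≤
      ringKrullDim (R ⧸ Q.comap (algebraMap R (Localization.AtPrime 𝔪))) := by
  rw [ringKrullDim_quotient, ringKrullDim_quotient]
  refine Order.krullDim_le_of_strictMono
    (fun q => ⟨PrimeSpectrum.comap (algebraMap R (Localization.AtPrime 𝔪)) q.1, ?_⟩) ?_
  · have hq := q.2
    rw [PrimeSpectrum.mem_zeroLocus] at hq ⊢
    intro a ha
    exact hq ha
  · intro q₁ q₂ h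
    have hle : q₁.1.asIdeal ≤ q₂.1.asIdeal := h.le
    have hne : ¬ q₂.1.asIdeal ≤ q₁.1.asIdeal := fun h' => h.not_ge h'
    refine lt_of_le_of_ne (Ideal.comap_mono hle) ?_
    intro heq
    apply hne
    have h1 : (PrimeSpectrum.comap (algebraMap R (Localization.AtPrime 𝔪)) q₁.1).asIdeal =
        (PrimeSpectrum.comap (algebraMap R (Localization.AtPrime 𝔪)) q₂.1).asIdeal :=
      congrArg PrimeSpectrum.asIdeal (congrArg Subtype.val heq)
    have h2 : q₂.1.asIdeal.under R ≤ q₁.1.asIdeal.under R := h1.ge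
    exact (IsLocalization.under_le_under_iff 𝔪.primeCompl (Localization.AtPrime 𝔪)).mp h2

end Loc

section Gr

variable {k : Type u} [Field k] {R : Type u} [CommRing R] [Algebra k R]
  (𝒜 : ℤ → Submodule k R) [GradedAlgebra 𝒜]
  (hpos : ∀ n : ℤ, n < 0 → 𝒜 n = ⊥) (h0 : 𝒜 0 = Submodule.span k {(1 : R)})

include hpos h0 in
theorem le_irr_of_isHomogeneous (I : Ideal R) (hI : I.IsHomogeneous 𝒜) (hne : I ≠ ⊤) :
    I ≤ irr 𝒜 := by
  classical
  intro r hr
  rw [← DirectSum.sum_support_decompose 𝒜 r]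
  refine Ideal.sum_mem _ (fun i _ => ?_)
  rcases lt_trichotomy i 0 with hi | hi | hi
  · have hle : 𝒜 i ≤ ⊥ := (hpos i hi).le
    have := hle (DirectSum.decompose 𝒜 r i).2
    rw [Submodule.mem_bot] at this
    rw [this]
    exact zero_mem _
  · subst hi
    have hmem : ((DirectSum.decompose 𝒜 r 0 : 𝒜 0) : R) ∈ I := hI 0 hr
    have h1 : ((DirectSum.decompose 𝒜 r 0 : 𝒜 0) : R) ∈ Submodule.span k {(1 : R)} := by
      rw [← h0]; exact (DirectSum.decompose 𝒜 r 0).2
    rw [Submodule.mem_span_singleton] at h1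
    obtain ⟨c, hc⟩ := h1
    by_cases hc0 : c = 0
    · rw [← hc, hc0, zero_smul]; exact zero_mem _
    · exfalso
      apply hne
      rw [Ideal.eq_top_iff_one]
      have : (1 : R) = c⁻¹ • (c • (1 : R)) := by rw [smul_smul, inv_mul_cancel₀ hc0, one_smul]
      rw [this, hc, Algebra.smul_def]
      exact Ideal.mul_mem_left _ _ hmem
  · exact mem_irr_of_mem 𝒜 hi (DirectSum.decompose 𝒜 r i).2

variable {M : Type u} [AddCommGroup M] [Module R M]
  (ℳ : ℤ → AddSubgroup M) [DirectSum.Decomposition ℳ] [SetLike.GradedSMul 𝒜 ℳ]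

include hpos h0 ℳ in
/-- `dim M ≤ dim M_𝔪` for a finite graded module -/
theorem le_supportDim_localization_irr [Algebra.FiniteType k R] [Module.Finite R M] [Nontrivial M]
    [hp : (irr 𝒜).IsPrime] (r : ℕ) (hr : Module.supportDim R M = r) :
    (r : WithBot ℕ∞) ≤ Module.supportDim (Localization.AtPrime (irr 𝒜))
      (LocalizedModule (irr 𝒜).primeCompl M) := by
  have hdim : ringKrullDim (R ⧸ (annH 𝒜 ℳ).toIdeal) = r := by
    rw [← hr, Module.supportDim_eq_ringKrullDim_quotient_annihilator]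
    rfl
  have hannne : Module.annihilator R M ≠ ⊤ := by
    intro h
    have h1 : (1 : R) ∈ Module.annihilator R M := by rw [h]; trivial
    rw [Module.mem_annihilator] at h1
    obtain ⟨m, hm⟩ := exists_ne (0 : M)
    exact hm (by simpa using h1 m)
  have hnt : Nontrivial (R ⧸ (annH 𝒜 ℳ).toIdeal) := Ideal.Quotient.nontrivial_iff.mpr hannne
  have hposq : ∀ n : ℤ, n < 0 → qGr 𝒜 (annH 𝒜 ℳ) n = ⊥ :=
    fun n hn => qGr_eq_bot 𝒜 _ (hpos n hn)
  have h0q := qGr_eq_span_one 𝒜 (annH 𝒜 ℳ) h0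
  have hmax : (irr (qGr 𝒜 (annH 𝒜 ℳ))).IsMaximal := irr_isMaximal _ hposq h0q
  have hht : (irr (qGr 𝒜 (annH 𝒜 ℳ))).height = r := height_irr _ hposq h0q r hdim
  have hprime : (irr (qGr 𝒜 (annH 𝒜 ℳ))).IsPrime := hmax.isPrime
  have hh : ((r : ℕ) : ℕ∞) ≤ Order.height
      (⟨irr (qGr 𝒜 (annH 𝒜 ℳ)), hprime⟩ : PrimeSpectrum (R ⧸ (annH 𝒜 ℳ).toIdeal)) := by
    rw [← PrimeSpectrum.height_eq_orderHeight, hht]
  obtain ⟨l, hlast, hlen⟩ := Order.exists_series_of_le_height _ hh
  -- the comap of the irrelevant ideal of the quotient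
  have hcomap : Ideal.comap (Ideal.Quotient.mk (annH 𝒜 ℳ).toIdeal) (irr (qGr 𝒜 (annH 𝒜 ℳ))) =
      irr 𝒜 := by
    apply eq_irr_of_le 𝒜 hpos h0
    · exact (Ideal.comap_ne_top _ hprime.ne_top)
    · show Ideal.span _ ≤ _
      rw [Ideal.span_le]
      intro a ha
      simp only [Set.mem_iUnion, SetLike.mem_coe] at ha
      obtain ⟨n, hn, ha⟩ := ha
      rw [SetLike.mem_coe, Ideal.mem_comap]
      exact mem_irr_of_mem _ hn (mk_mem_qGr 𝒜 _ ha)
  -- the primes of `R`
  let q : Fin (l.length + 1) → Ideal R := fun i =>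
    Ideal.comap (Ideal.Quotient.mk (annH 𝒜 ℳ).toIdeal) (l i).asIdeal
  have hqprime : ∀ i, (q i).IsPrime := fun i => Ideal.comap_isPrime _ _
  have hqle : ∀ i, q i ≤ irr 𝒜 := by
    intro i
    rw [← hcomap]
    apply Ideal.comap_mono
    have : l i ≤ l.last := l.strictMono.monotone (Fin.le_last i)
    rw [hlast] at this
    exact this
  have hqann : ∀ i, Module.annihilator R M ≤ q i := by
    intro i a ha
    show Ideal.Quotient.mk _ a ∈ (l i).asIdeal
    have : Ideal.Quotient.mk (annH 𝒜 ℳ).toIdeal a = 0 := Ideal.Quotient.eq_zero_iff_mem.mpr ha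
    rw [this]
    exact zero_mem _
  have hqlt : ∀ i j, i < j → q i < q j := by
    intro i j hij
    have hlt : l i < l j := l.strictMono hij
    have hle : (l i).asIdeal ≤ (l j).asIdeal := hlt.le
    refine lt_of_le_of_ne (Ideal.comap_mono hle) ?_
    intro heq
    apply hlt.not_ge
    show (l j).asIdeal ≤ (l i).asIdeal
    intro z hz
    obtain ⟨a, rfl⟩ := Ideal.Quotient.mk_surjective z
    have : a ∈ q j := hz
    rw [← heq] at this
    exact this
  -- the primes of the localization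
  have hdisj : ∀ i, Disjoint ((irr 𝒜).primeCompl : Set R) (q i : Set R) := fun i =>
    disjoint_primeCompl_of_le (irr 𝒜) (hqle i)
  have hq'prime : ∀ i, (Ideal.map (algebraMap R (Localization.AtPrime (irr 𝒜))) (q i)).IsPrime :=
    fun i => IsLocalization.isPrime_of_isPrime_disjoint (irr 𝒜).primeCompl _ _ (hqprime i) (hdisj i)
  have hunder : ∀ i, (Ideal.map (algebraMap R (Localization.AtPrime (irr 𝒜))) (q i)).under R = q i :=
    fun i => IsLocalization.under_map_of_isPrime_disjoint (irr 𝒜).primeCompl _ (hqprime i) (hdisj i)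
  have hmem : ∀ i, (⟨Ideal.map (algebraMap R (Localization.AtPrime (irr 𝒜))) (q i), hq'prime i⟩ :
      PrimeSpectrum (Localization.AtPrime (irr 𝒜))) ∈
      Module.support (Localization.AtPrime (irr 𝒜)) (LocalizedModule (irr 𝒜).primeCompl M) := by
    intro i
    rw [SuppLoc.mem_support_localizedModule_iff, Module.mem_support_iff_of_finite]
    show Module.annihilator R M ≤
      (Ideal.map (algebraMap R (Localization.AtPrime (irr 𝒜))) (q i)).under R
    rw [hunder i]
    exact hqann i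
  unfold Module.supportDim
  rw [Order.le_krullDim_iff]
  refine ⟨LTSeries.mk l.length (fun i => ⟨_, hmem i⟩) ?_, hlen⟩
  intro i j hij
  have h1 := hqlt i j hij
  show Ideal.map (algebraMap R (Localization.AtPrime (irr 𝒜))) (q i) <
    Ideal.map (algebraMap R (Localization.AtPrime (irr 𝒜))) (q j)
  refine lt_of_le_of_ne (Ideal.map_mono h1.le) ?_
  intro heq
  have h2 := hunder i
  rw [heq, hunder j] at h2
  exact h1.ne h2.symm

include hpos h0 in
/-- **unmixedness**: for a nonzero homogeneous element `x` of a finite graded module which is Cohen–Macaulay at the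
irrelevant ideal, `dim R/Ann x ≥ dim M`. -/
theorem le_ringKrullDim_quotient_torsionOf [Algebra.FiniteType k R] [Module.Finite R M]
    [hp : (irr 𝒜).IsPrime]
    (hCM : Subsingleton (LocalizedModule (irr 𝒜).primeCompl M) ∨
      LocCoh.IsCohenMacaulayModule (Localization.AtPrime (irr 𝒜))
        (LocalizedModule (irr 𝒜).primeCompl M))
    (r : ℕ) (hr : Module.supportDim R M = r) {n : ℤ} {x : M} (hx : x ∈ ℳ n) (hx0 : x ≠ 0) :
    (r : WithBot ℕ∞) ≤ ringKrullDim (R ⧸ Ideal.torsionOf R M x) := by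
  have hnoe : IsNoetherianRing R := Algebra.FiniteType.isNoetherianRing k R
  have hntM : Nontrivial M := ⟨⟨x, 0, hx0⟩⟩
  -- `Ann x ⊆ 𝔪`
  have hIne : Ideal.torsionOf R M x ≠ ⊤ := by
    intro h
    have h1 : (1 : R) ∈ Ideal.torsionOf R M x := by rw [h]; trivial
    rw [Ideal.mem_torsionOf_iff, one_smul] at h1
    exact hx0 h1
  have hIle : Ideal.torsionOf R M x ≤ irr 𝒜 :=
    le_irr_of_isHomogeneous 𝒜 hpos h0 _ (torsionOf_isHomogeneous 𝒜 ℳ hx) hIne
  -- the image of `x` in the localization is nonzero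
  set z := LocalizedModule.mkLinearMap (irr 𝒜).primeCompl M x with hz
  have hz0 : z ≠ 0 := by
    intro h
    obtain ⟨u, hu⟩ := (IsLocalizedModule.eq_zero_iff (irr 𝒜).primeCompl
      (LocalizedModule.mkLinearMap (irr 𝒜).primeCompl M)).mp h
    exact u.2 (hIle ((Ideal.mem_torsionOf_iff _ _).mpr hu))
  have hnotss : ¬ Subsingleton (LocalizedModule (irr 𝒜).primeCompl M) := by
    intro h
    exact hz0 (Subsingleton.elim _ _)
  have hCM' := hCM.resolve_left hnotss
  -- an associated prime of `A z`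
  have hntN : Nontrivial (Submodule.span (Localization.AtPrime (irr 𝒜)) {z}) :=
    ⟨⟨⟨z, Submodule.mem_span_singleton_self z⟩, 0, fun h => hz0 (congrArg Subtype.val h)⟩⟩
  obtain ⟨Q, hQ⟩ := associatedPrimes.nonempty (Localization.AtPrime (irr 𝒜))
    (Submodule.span (Localization.AtPrime (irr 𝒜)) {z})
  have hQM : Q ∈ associatedPrimes (Localization.AtPrime (irr 𝒜))
      (LocalizedModule (irr 𝒜).primeCompl M) :=
    associatedPrimes.subset_of_injective (f := (Submodule.span (Localization.AtPrime (irr 𝒜)) {z}).subtype)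
      (Submodule.subtype_injective _) hQ
  have hdimQ := Depth.ringKrullDim_quotient_eq_supportDim_of_isCohenMacaulayModule
    (LocalizedModule (irr 𝒜).primeCompl M) hCM' Q hQM
  have h4 := le_supportDim_localization_irr 𝒜 hpos h0 ℳ r hr
  rw [← hdimQ] at h4
  refine h4.trans ((ringKrullDim_quotient_le_comap (irr 𝒜) Q).trans ?_)
  apply ringKrullDim_quotient_mono
  -- `Ann x ⊆ Q ∩ R`
  obtain ⟨hQprime, w, hw⟩ := hQ
  intro a ha
  rw [Ideal.mem_comap, hw]
  obtain ⟨w, hwmem⟩ := w
  obtain ⟨α, rfl⟩ := Submodule.mem_span_singleton.mp hwmem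
  apply Ideal.le_radical
  rw [Submodule.mem_colon_singleton, Submodule.mem_bot]
  apply Subtype.ext
  show algebraMap R (Localization.AtPrime (irr 𝒜)) a • (α • z) = 0
  rw [smul_comm, algebraMap_smul, hz, ← map_smul, (Ideal.mem_torsionOf_iff _ _).mp ha, map_zero,
    smul_zero]

end Gr

end Groth.Agent.Lib.helper26.Seg
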