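import Mathlib
import Groth.Agent.Lib.Helper26.GrCM4
import Groth.Agent.Lib.Helper26.Seg28
import Groth.Agent.Lib.Helper26.DepthLoc

/-!
# Depth of graded Cohen–Macaulay modules at the irrelevant ideal; homogeneous regular elements
(helper26)

* `le_idealDepth_irr`: `dim M ≤ depth_{R₊} M` when `M_{R₊}` is Cohen–Macaulay;
* `irr_smul_top_ne_top`: `R₊ M ≠ M` for a nonzero graded module bounded below;
* `exists_homogeneous_regular_mod`: a homogeneous `M`-regular element of positive degree when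
  `depth_{R₊} M ≥ 1`.
-/

set_option autoImplicit false
set_option linter.unusedSectionVars false
universe u

namespace Groth.Agent.Lib.helper26.GrCM

open Groth.Agent.Lib.helper26.Seg

variable {k : Type u} [Field k] {R : Type u} [CommRing R] [Algebra k R]
  (𝒜 : ℤ → Submodule k R) [GradedAlgebra 𝒜]
  (hpos : ∀ n : ℤ, n < 0 → 𝒜 n = ⊥) (h0 : 𝒜 0 = Submodule.span k {(1 : R)})
  {M : Type u} [AddCommGroup M] [Module R M] [Module k M] [IsScalarTower k R M]
  (ℳ : ℤ → AddSubgroup M) [DirectSum.Decomposition ℳ] [SetLike.GradedSMul 𝒜 ℳ]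

include hpos h0 ℳ in
/-- `dim M ≤ depth_{R₊} M` when `M_{R₊}` is Cohen–Macaulay -/
theorem le_idealDepth_irr [Algebra.FiniteType k R] [Module.Finite R M] [Nontrivial M]
    [hp : (irr 𝒜).IsPrime]
    (hCM : Subsingleton (LocalizedModule (irr 𝒜).primeCompl M) ∨
      LocCoh.IsCohenMacaulayModule (Localization.AtPrime (irr 𝒜))
        (LocalizedModule (irr 𝒜).primeCompl M))
    (r : ℕ) (hr : Module.supportDim R M = r) :
    (r : ℕ∞) ≤ LocCoh.idealDepth (irr 𝒜) M := by
  have hNoeth : IsNoetherianRing R := Algebra.FiniteType.isNoetherianRing k R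
  rw [Groth.Agent.Lib.helper26.Depth.idealDepth_eq_iInf_depth_localization (irr 𝒜) M]
  refine le_iInf₂ fun p hp' => ?_
  have h1 : p.asIdeal = irr 𝒜 := eq_irr_of_le 𝒜 hpos h0 p.asIdeal p.2.ne_top hp'
  have h2 : p = ⟨irr 𝒜, hp⟩ := PrimeSpectrum.ext h1
  subst h2
  have h3 := le_supportDim_localization_irr 𝒜 hpos h0 ℳ r hr
  rcases hCM with hss | hcm
  · exfalso
    rw [Module.supportDim_eq_bot_of_subsingleton] at h3
    exact absurd h3 (by simp)
  · rw [hcm] at h3
    exact_mod_cast h3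

include hpos in
/-- `R₊ M ≠ M` for a nonzero graded module bounded below -/
theorem irr_smul_top_ne_top [Nontrivial M] (hbdd : ∃ n₀ : ℤ, ∀ n : ℤ, n < n₀ → ℳ n = ⊥) :
    irr 𝒜 • (⊤ : Submodule R M) ≠ ⊤ := by
  classical
  -- a nonzero piece of least degree
  have hex : ∃ n : ℤ, ℳ n ≠ ⊥ := by
    by_contra hcon
    push Not at hcon
    obtain ⟨m, hm⟩ := exists_ne (0 : M)
    apply hm
    rw [← sum_cmp ℳ m]
    refine Finset.sum_eq_zero fun n _ => ?_
    have h1 := cmp_mem ℳ m n
    rw [hcon n, AddSubgroup.mem_bot] at h1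
    exact h1
  obtain ⟨n₀, hn₀⟩ := hbdd
  obtain ⟨n, hn, hmin⟩ := Int.exists_least_of_bdd (P := fun n => ℳ n ≠ ⊥)
    ⟨n₀, fun z hz => by
      by_contra hlt
      push Not at hlt
      exact hz (hn₀ z hlt)⟩ hex
  have hlow : ∀ n' : ℤ, n' < n → ℳ n' = ⊥ := by
    intro n' hn'
    by_contra hne
    have := hmin n' hne
    omega
  -- elements of `R₊ M` have no component of degree `≤ n`
  have hkey0 : ∀ r ∈ irr 𝒜, ∀ m : M, cmp ℳ (r • m) n = 0 := by
    intro r hr
    unfold irr at hr
    induction hr using Submodule.span_induction with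
    | mem g hg =>
      intro m
      simp only [Set.mem_iUnion, SetLike.mem_coe] at hg
      obtain ⟨i, hi, hg⟩ := hg
      rw [Set.mem_Ioi] at hi
      rw [cmp_smul 𝒜 ℳ hg]
      have h1 := cmp_mem ℳ m (n - i)
      rw [hlow (n - i) (by omega), AddSubgroup.mem_bot] at h1
      rw [h1, smul_zero]
    | zero => intro m; rw [zero_smul, cmp_zero]
    | add a b _ _ ha hb => intro m; rw [add_smul, cmp_add, ha, hb, add_zero]
    | smul a b _ hb => intro m; rw [smul_eq_mul, mul_comm, mul_smul]; exact hb _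
  have hkey : ∀ z ∈ irr 𝒜 • (⊤ : Submodule R M), cmp ℳ z n = 0 := by
    intro z hz
    refine Submodule.smul_induction_on hz ?_ ?_
    · intro r hr m _
      exact hkey0 r hr m
    · intro x y hx hy
      rw [cmp_add, hx, hy, add_zero]
  intro htop
  obtain ⟨m, hm, hm0⟩ : ∃ m ∈ ℳ n, m ≠ 0 := by
    by_contra hcon
    push Not at hcon
    apply hn
    rw [eq_bot_iff]
    intro m hm
    rw [AddSubgroup.mem_bot]
    exact hcon m hm
  have h1 := hkey m (by rw [htop]; trivial)
  rw [cmp_of_mem_same ℳ hm] at h1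
  exact hm0 h1

include hpos in
/-- a homogeneous `M`-regular element of positive degree, when `depth_{R₊} M ≥ 1` -/
theorem exists_homogeneous_regular_mod [IsNoetherianRing R] [Module.Finite R M] [Nontrivial M]
    (hbdd : ∃ n₀ : ℤ, ∀ n : ℤ, n < n₀ → ℳ n = ⊥)
    (hdepth : 1 ≤ LocCoh.idealDepth (irr 𝒜) M) :
    ∃ (d : ℕ) (_ : 0 < d) (x : R), x ∈ 𝒜 (d : ℤ) ∧ IsSMulRegular M x := by
  classical
  have hfin : (associatedPrimes R M).Finite := associatedPrimes.finite R M
  have hIM : irr 𝒜 • (⊤ : Submodule R M) ≠ ⊤ := irr_smul_top_ne_top 𝒜 hpos ℳ hbdd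
  have hs : ∀ p ∈ hfin.toFinset, p.IsPrime ∧ ¬ irr 𝒜 ≤ p := by
    intro p hp
    rw [Set.Finite.mem_toFinset] at hp
    obtain ⟨hprime, m, hm⟩ := (isAssociatedPrime_iff).1 hp
    refine ⟨hprime, fun hle => ?_⟩
    have hm0 : m ≠ 0 := by
      rintro rfl
      apply hprime.ne_top
      rw [hm, Ideal.eq_top_iff_one, Submodule.mem_colon_singleton]
      simp
    have h0' := Groth.Agent.Lib.helper26.Depth.idealDepth_eq_zero_of_annihilated (irr 𝒜) M hIM m
      hm0 (by
        intro a ha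
        have := hle ha
        rw [hm, Submodule.mem_colon_singleton, Submodule.mem_bot] at this
        exact this)
    rw [h0'] at hdepth
    exact absurd hdepth (by simp)
  obtain ⟨d, hd, x, hx, hxs⟩ := exists_homogeneous_notMem 𝒜 hfin.toFinset.card hfin.toFinset rfl hs
  refine ⟨d, hd, x, hx, ?_⟩
  by_contra hreg
  have h1 : x ∈ {r : R | IsSMulRegular M r}ᶜ := hreg
  rw [← biUnion_associatedPrimes_eq_compl_regular R M] at h1
  simp only [Set.mem_iUnion, SetLike.mem_coe] at h1
  obtain ⟨p, hp, hxp⟩ := h1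
  exact hxs p (by rw [Set.Finite.mem_toFinset]; exact hp) hxp

end Groth.Agent.Lib.helper26.GrCM
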