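import Mathlib
import Groth.Agent.Lib.Helper26.Seg13
import Groth.Agent.Lib.Helper26.CMPoly1

/-!
# Segre products with a polynomial ring in one variable (helper26)

* `mem_span_of_socle_of_isIntegrallyClosed`: in a normal graded domain `R/aR` (`a` of degree one)
  has no socle in positive degrees;
* `nonempty_ringEquiv_of_polynomial`: if `R = k[a]` with `a` of degree one then `R # S ≅ S`.
-/

set_option autoImplicit false
set_option linter.unusedSectionVars false
universe u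
open scoped TensorProduct

namespace Groth.Agent.Lib.helper26.Seg

section normal

variable {k : Type u} [Field k] {R : Type u} [CommRing R] [Algebra k R]
  (𝒜 : ℤ → Submodule k R) [GradedAlgebra 𝒜]

theorem mem_span_of_socle_of_isIntegrallyClosed [IsDomain R] [IsIntegrallyClosed R]
    [IsNoetherianRing R] {a : R} (ha : a ∈ 𝒜 1) (ha0 : a ≠ 0) {e : ℤ} (he : 1 ≤ e) {r : R}
    (hr : r ∈ 𝒜 e) (hsoc : ∀ b ∈ irr 𝒜, b * r ∈ Ideal.span {a}) : r ∈ Ideal.span {a} := by
  -- `(r/a) R₊ ⊆ R₊`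
  have hkey : ∀ b ∈ irr 𝒜, ∃ c ∈ irr 𝒜, b * r = c * a := by
    intro b hb
    have hb' := hb
    unfold irr at hb'
    induction hb' using Submodule.closure_induction with
    | zero => exact ⟨0, zero_mem _, by simp⟩
    | add y z hy' hz' hy hz =>
      obtain ⟨c, hc, e1⟩ := hy hy'
      obtain ⟨c', hc', e2⟩ := hz hz'
      exact ⟨c + c', add_mem hc hc', by rw [add_mul, add_mul, e1, e2]⟩
    | smul_mem t g hg =>
      have hg' := hg
      simp only [Set.mem_iUnion, SetLike.mem_coe] at hg'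
      obtain ⟨j, hj, hgj⟩ := hg'
      rw [Set.mem_Ioi] at hj
      obtain ⟨c, hc, e1⟩ := exists_mul_eq_of_mem_span_singleton 𝒜 ha
        (SetLike.mul_mem_graded hgj hr) (hsoc g (mem_irr_of_mem 𝒜 hj hgj))
      refine ⟨t * c, Ideal.mul_mem_left _ _ (mem_irr_of_mem 𝒜 (by omega) hc), ?_⟩
      rw [smul_eq_mul, mul_assoc, e1, mul_assoc]
  set K := FractionRing R with hK
  set u : K := algebraMap R K r / algebraMap R K a with hu
  have ha0' : algebraMap R K a ≠ 0 := by
    rw [Ne, map_eq_zero_iff _ (IsFractionRing.injective R K)]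
    exact ha0
  set N : Submodule R K := Submodule.map (Algebra.linearMap R K) (irr 𝒜) with hN
  have hNbot : N ≠ ⊥ := by
    intro h
    have h1 : algebraMap R K a ∈ N := ⟨a, mem_irr_of_mem 𝒜 one_pos ha, rfl⟩
    rw [h, Submodule.mem_bot] at h1
    exact ha0' h1
  have hNfg : N.FG := (IsNoetherian.noetherian (irr 𝒜)).map _
  have hint : IsIntegral R u := by
    refine isIntegral_of_smul_mem_submodule N hNbot hNfg u ?_
    rintro _ ⟨b, hb, rfl⟩
    obtain ⟨c, hc, e1⟩ := hkey b hb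
    refine ⟨c, hc, ?_⟩
    rw [Algebra.linearMap_apply, Algebra.linearMap_apply, smul_eq_mul, hu, div_mul_eq_mul_div,
      eq_div_iff ha0', ← map_mul, ← map_mul, mul_comm r b, e1]
  obtain ⟨y, hy⟩ := IsIntegrallyClosed.isIntegral_iff.1 hint
  rw [Ideal.mem_span_singleton']
  refine ⟨y, ?_⟩
  apply IsFractionRing.injective R K
  rw [map_mul, hy, hu, div_mul_cancel₀ _ ha0']

end normal

section graded

variable {k : Type u} [Field k] {T : Type u} [CommRing T] [Algebra k T]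
  (𝒯 : ℤ → Submodule k T) [GradedAlgebra 𝒯]
  {S : Type u} [CommRing S] [Algebra k S] (ℬ : ℤ → Submodule k S) [GradedAlgebra ℬ]

/-- a linear map respecting the gradings commutes with taking homogeneous components -/
theorem decompose_map_of_graded (f : T →ₗ[k] S) (hf : ∀ n, ∀ t ∈ 𝒯 n, f t ∈ ℬ n) (t : T) (n : ℤ) :
    ((DirectSum.decompose ℬ (f t) n : ℬ n) : S) = f ((DirectSum.decompose 𝒯 t n : 𝒯 n) : T) := by
  classical
  induction t using DirectSum.Decomposition.inductionOn 𝒯 with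
  | zero => simp
  | @homogeneous m t =>
    by_cases hmn : m = n
    · subst hmn
      rw [DirectSum.decompose_of_mem_same ℬ (hf m t t.2), DirectSum.decompose_of_mem_same 𝒯 t.2]
    · rw [DirectSum.decompose_of_mem_ne ℬ (hf m t t.2) hmn, DirectSum.decompose_of_mem_ne 𝒯 t.2 hmn,
        map_zero]
  | add t t' h h' =>
    rw [map_add, DirectSum.decompose_add, DirectSum.add_apply, Submodule.coe_add, h, h',
      DirectSum.decompose_add, DirectSum.add_apply, Submodule.coe_add, map_add]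

end graded

section iso

variable {k : Type u} [Field k] {R : Type u} [CommRing R] [Algebra k R]
  (𝒜 : ℤ → Submodule k R) [GradedAlgebra 𝒜]
  {S : Type u} [CommRing S] [Algebra k S] (ℬ : ℤ → Submodule k S) [GradedAlgebra ℬ]
  {T : Type u} [CommRing T] [Algebra k T] (𝒯 : ℤ → Submodule k T) [GradedAlgebra 𝒯]
  (ψ : T →ₐ[k] R ⊗[k] S)
  (hdegT : ∀ n : ℤ, (𝒯 n).map ψ.toLinearMap =
    Submodule.span k {x : R ⊗[k] S | ∃ a ∈ 𝒜 n, ∃ b ∈ ℬ n, x = a ⊗ₜ[k] b})
  (hψ : Function.Injective ψ)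
  (hposR : ∀ n : ℤ, n < 0 → 𝒜 n = ⊥) (h0R : 𝒜 0 = Submodule.span k {(1 : R)})
  (hposS : ∀ n : ℤ, n < 0 → ℬ n = ⊥)

include hdegT hψ hposR h0R hposS in
/-- if `R = k[a]` with `a` of degree one then `R # S ≅ S` -/
theorem nonempty_ringEquiv_of_polynomial {a : R} (ha : a ∈ 𝒜 1)
    (hbij : Function.Bijective (Polynomial.aeval (R := k) a))
    (hall : ∀ n : ℤ, 1 ≤ n → ∀ r ∈ 𝒜 n, r ∈ Ideal.span {a}) : Nonempty (T ≃+* S) := by
  classical
  set φ : Polynomial k ≃ₐ[k] R := AlgEquiv.ofBijective _ hbij with hφ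
  have hφX : φ Polynomial.X = a := by
    rw [hφ, AlgEquiv.ofBijective_apply, Polynomial.aeval_X]
  set ε : R →ₐ[k] k := (Polynomial.aeval (1 : k)).comp φ.symm.toAlgHom with hε
  have hεa : ε a = 1 := by
    rw [hε, AlgHom.comp_apply, ← hφX]
    simp
  have hεpow : ∀ m : ℕ, ε (a ^ m) = 1 := fun m => by rw [map_pow, hεa, one_pow]
  set θ : T →ₐ[k] S := (Algebra.TensorProduct.lid k S).toAlgHom.comp
    ((Algebra.TensorProduct.map ε (AlgHom.id k S)).comp ψ) with hθ
  have hθ1 : ∀ (t : T) (m : ℕ) (s : S), ψ t = (a ^ m) ⊗ₜ[k] s → θ t = s := by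
    intro t m s h
    rw [hθ, AlgHom.comp_apply, AlgHom.comp_apply, h, Algebra.TensorProduct.map_tmul, hεpow]
    simp
  have hposT := pieceT_eq_bot 𝒜 ℬ 𝒯 ψ hdegT hψ hposR
  -- elements of `𝒯 m` are of the form `a ^ m ⊗ s`
  have hK1 : ∀ (m : ℕ), ∀ t ∈ 𝒯 (m : ℤ), ∃ s ∈ ℬ (m : ℤ), ψ t = (a ^ m) ⊗ₜ[k] s := by
    intro m t ht
    have h1 : ψ t ∈ (𝒯 (m : ℤ)).map ψ.toLinearMap := ⟨t, ht, rfl⟩
    rw [hdegT] at h1
    have h2 : Submodule.span k {x : R ⊗[k] S | ∃ a' ∈ 𝒜 (m : ℤ), ∃ b ∈ ℬ (m : ℤ), x = a' ⊗ₜ[k] b} ≤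
        Submodule.map (TensorProduct.mk k R S (a ^ m)) (ℬ (m : ℤ)) := by
      rw [Submodule.span_le]
      rintro _ ⟨a', ha', b, hb, rfl⟩
      obtain ⟨c, rfl⟩ := piece_eq_span_pow 𝒜 h0R ha hall m a' ha'
      refine ⟨c • b, Submodule.smul_mem _ _ hb, ?_⟩
      rw [TensorProduct.mk_apply, TensorProduct.tmul_smul, TensorProduct.smul_tmul']
    obtain ⟨s, hs, hs'⟩ := h2 h1
    exact ⟨s, hs, hs'.symm⟩
  have hK2 : ∀ (m : ℕ), ∀ s ∈ ℬ (m : ℤ), ∃ t ∈ 𝒯 (m : ℤ), ψ t = (a ^ m) ⊗ₜ[k] s := by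
    intro m s hs
    have hpow : a ^ m ∈ 𝒜 (m : ℤ) := by
      have := SetLike.pow_mem_graded m ha
      simpa using this
    have h1 : (a ^ m) ⊗ₜ[k] s ∈ (𝒯 (m : ℤ)).map ψ.toLinearMap := by
      rw [hdegT]; exact Submodule.subset_span ⟨_, hpow, s, hs, rfl⟩
    obtain ⟨t, ht, hteq⟩ := h1
    exact ⟨t, ht, hteq⟩
  have hgr : ∀ n, ∀ t ∈ 𝒯 n, θ.toLinearMap t ∈ ℬ n := by
    intro n t ht
    by_cases hn : n < 0
    · have hle : 𝒯 n ≤ ⊥ := (hposT n hn).le
      have := hle ht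
      rw [Submodule.mem_bot] at this
      rw [this, map_zero]
      exact zero_mem _
    · push Not at hn
      obtain ⟨m, rfl⟩ := Int.eq_ofNat_of_zero_le hn
      obtain ⟨s, hs, hst⟩ := hK1 m t ht
      rw [AlgHom.toLinearMap_apply, hθ1 t m s hst]
      exact hs
  have hinj : Function.Injective θ := by
    rw [injective_iff_map_eq_zero]
    intro t ht
    rw [← DirectSum.sum_support_decompose 𝒯 t]
    refine Finset.sum_eq_zero fun n _ => ?_
    have h1 := decompose_map_of_graded 𝒯 ℬ θ.toLinearMap hgr t n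
    rw [AlgHom.toLinearMap_apply, ht, DirectSum.decompose_zero] at h1
    have h2 : θ ((DirectSum.decompose 𝒯 t n : 𝒯 n) : T) = 0 := by
      rw [← AlgHom.toLinearMap_apply, ← h1]; rfl
    by_cases hn : n < 0
    · have hle : 𝒯 n ≤ ⊥ := (hposT n hn).le
      have := hle (DirectSum.decompose 𝒯 t n).2
      rwa [Submodule.mem_bot] at this
    · push Not at hn
      obtain ⟨m, rfl⟩ := Int.eq_ofNat_of_zero_le hn
      obtain ⟨s, hs, hst⟩ := hK1 m _ (DirectSum.decompose 𝒯 t m).2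
      have h3 := hθ1 _ m s hst
      rw [h2] at h3
      apply hψ
      rw [hst, ← h3, TensorProduct.tmul_zero, map_zero]
  have hsurj : Function.Surjective θ := by
    intro s
    induction s using DirectSum.Decomposition.inductionOn ℬ with
    | zero => exact ⟨0, map_zero _⟩
    | @homogeneous n s =>
      by_cases hn : n < 0
      · have hle : ℬ n ≤ ⊥ := (hposS n hn).le
        have := hle s.2
        rw [Submodule.mem_bot] at this
        exact ⟨0, by rw [map_zero, this]⟩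
      · push Not at hn
        obtain ⟨m, rfl⟩ := Int.eq_ofNat_of_zero_le hn
        obtain ⟨t, -, hts⟩ := hK2 m s s.2
        exact ⟨t, hθ1 t m s hts⟩
    | add s s' h h' =>
      obtain ⟨t, rfl⟩ := h
      obtain ⟨t', rfl⟩ := h'
      exact ⟨t + t', map_add _ _ _⟩
  exact ⟨RingEquiv.ofBijective θ ⟨hinj, hsurj⟩⟩

end iso

end Groth.Agent.Lib.helper26.Seg
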