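import Mathlib
import Groth.Agent.Lib.Helper26.Seg14

/-!
# Segre products with a one-dimensional standard graded factor: polynomial ⟹ Cohen–Macaulay
(helper26)
-/

set_option autoImplicit false
set_option linter.unusedSectionVars false
universe u
open scoped TensorProduct

namespace Groth.Agent.Lib.helper26.Seg

variable {k : Type u} [Field k] {R : Type u} [CommRing R] [Algebra k R]
  (𝒜 : ℤ → Submodule k R) [GradedAlgebra 𝒜]
  {S : Type u} [CommRing S] [Algebra k S] (ℬ : ℤ → Submodule k S) [GradedAlgebra ℬ]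
  {T : Type u} [CommRing T] [Algebra k T] (𝒯 : ℤ → Submodule k T) [GradedAlgebra 𝒯]
  (ψ : T →ₐ[k] R ⊗[k] S)
  (hdegT : ∀ n : ℤ, (𝒯 n).map ψ.toLinearMap =
    Submodule.span k {x : R ⊗[k] S | ∃ a ∈ 𝒜 n, ∃ b ∈ ℬ n, x = a ⊗ₜ[k] b})
  (hψ : Function.Injective ψ)
  [Algebra.FiniteType k R]
  (hposR : ∀ n : ℤ, n < 0 → 𝒜 n = ⊥) (h0R : 𝒜 0 = Submodule.span k {(1 : R)})
  (hposS : ∀ n : ℤ, n < 0 → ℬ n = ⊥)

include hdegT hψ hposR h0R hposS in
theorem isCohenMacaulayRing_of_algEquiv_polynomial [LocCoh.IsCohenMacaulayRing S]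
    (hstdR : irr 𝒜 = Ideal.span ((𝒜 1 : Submodule k R) : Set R))
    (hr : ringKrullDim R = 1) (e : R ≃ₐ[k] Polynomial k) : LocCoh.IsCohenMacaulayRing T := by
  have hdom : IsDomain R := e.toRingEquiv.toMulEquiv.isDomain (Polynomial k)
  have hic : IsIntegrallyClosed R := IsIntegrallyClosed.of_equiv e.symm.toRingEquiv
  have hNoeth : IsNoetherianRing R := Algebra.FiniteType.isNoetherianRing k R
  obtain ⟨a, ha, hnil⟩ := exists_not_isNilpotent 𝒜 hposR h0R hstdR hr.ge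
  have ha0 : a ≠ 0 := fun h => hnil (h ▸ IsNilpotent.zero)
  have hareg : IsSMulRegular R a := by
    intro z w hzw
    exact mul_left_cancel₀ ha0 hzw
  rcases dichotomy 𝒜 hposR h0R hr.le one_pos (by simpa using ha) hareg with
    ⟨e', he', r, hr', hrx, hsoc⟩ | hall
  · exact absurd (mem_span_of_socle_of_isIntegrallyClosed 𝒜 ha ha0 (by exact_mod_cast he') hr'
      hsoc) hrx
  · have hall' : ∀ n : ℤ, 1 ≤ n → ∀ r ∈ 𝒜 n, r ∈ Ideal.span {a} := by simpa using hall
    have hbij := bijective_aeval_of_forall_mem_span 𝒜 hposR h0R ha hnil hall'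
    obtain ⟨E⟩ := nonempty_ringEquiv_of_polynomial 𝒜 ℬ 𝒯 ψ hdegT hψ hposR h0R hposS ha hbij hall'
    exact Groth.Agent.Lib.helper26.CMPoly.isCohenMacaulayRing_of_ringEquiv E.symm

end Groth.Agent.Lib.helper26.Seg
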