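import Mathlib
import Groth.Agent.Lib.Helper17.GorFlat
import Groth.Agent.Lib.Helper17.ArtGor

/-!
# One-dimensional Gorenstein local rings: the socle modulo a regular element is simple (helper26)

* `socle_dependent`: in a Gorenstein local ring `A` of dimension `≤ 1` with a regular element `f`
  of the maximal ideal, two elements of `(f : 𝔪)` are linearly dependent modulo `f` with a unit
  coefficient.
* `exists_smul_add_smul_mem_span`: the same for the localization of a `k`-algebra at a maximal ideal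
  with residue field `k`, with coefficients in `k`.
-/

set_option autoImplicit false
universe u

open IsLocalRing

namespace Groth.Agent.Lib.helper26.Seg

theorem socle_dependent (A : Type u) [CommRing A] [IsLocalRing A] [IsNoetherianRing A]
    (hG : LocCoh.IsGorensteinLocalRing A) (hdim : ringKrullDim A ≤ 1) (f : A)
    (hf : f ∈ maximalIdeal A) (hreg : IsSMulRegular A f) (z₁ z₂ : A)
    (h₁ : ∀ n ∈ maximalIdeal A, n * z₁ ∈ Ideal.span {f})
    (h₂ : ∀ n ∈ maximalIdeal A, n * z₂ ∈ Ideal.span {f}) :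
    ∃ u₁ u₂ : A, (IsUnit u₁ ∨ IsUnit u₂) ∧ u₁ * z₁ + u₂ * z₂ ∈ Ideal.span {f} := by
  have hloc : IsLocalRing (A ⧸ Ideal.span {f}) :=
    Groth.Agent.Lib.helper17.GorQuot.isLocalRing_quot f hf
  have hG' : LocCoh.IsGorensteinLocalRing (A ⧸ Ideal.span {f}) :=
    (Groth.Agent.Lib.helper17.GorFlat.gor_quot_iff A f hf hreg).1 hG
  have hfnzd : f ∈ nonZeroDivisors A := by
    rw [mem_nonZeroDivisors_iff_right]
    intro z hz
    apply hreg
    show f • z = f • 0
    rw [smul_eq_mul, smul_eq_mul, mul_zero, mul_comm]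
    exact hz
  have hdim' : ringKrullDim (A ⧸ Ideal.span {f}) ≤ 0 := by
    have h1 := ringKrullDim_quotient_succ_le_of_nonZeroDivisor hfnzd
    have h2 := h1.trans hdim
    cases h : ringKrullDim (A ⧸ Ideal.span {f}) with
    | bot => exact bot_le
    | coe a =>
      rw [h] at h2
      have h3 : ((a + 1 : ℕ∞) : WithBot ℕ∞) ≤ ((1 : ℕ∞) : WithBot ℕ∞) := h2
      rw [WithBot.coe_le_coe] at h3
      have h4 : a = 0 := by
        cases a with
        | top => simp at h3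
        | coe m =>
          have : ((m + 1 : ℕ) : ℕ∞) ≤ ((1 : ℕ) : ℕ∞) := by exact_mod_cast h3
          rw [Nat.cast_le] at this
          have : m = 0 := by omega
          rw [this]; rfl
      rw [h4]
      rfl
  have hKD : Ring.KrullDimLE 0 (A ⧸ Ideal.span {f}) := by
    rw [Ring.krullDimLE_iff]
    exact hdim'
  have hArt : IsArtinianRing (A ⧸ Ideal.span {f}) :=
    isArtinianRing_iff_isNoetherianRing_krullDimLE_zero.2 ⟨inferInstance, hKD⟩
  have htyp := (Groth.Agent.Lib.helper17.ArtGor.isGorensteinLocalRing_iff_typ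
    (A ⧸ Ideal.span {f})).1 hG'
  unfold Groth.Agent.Lib.helper17.ArtGor.typ at htyp
  rw [Module.length_eq_one_iff] at htyp
  -- the socle homomorphisms
  have hkill : ∀ z : A, (∀ n ∈ maximalIdeal A, n * z ∈ Ideal.span {f}) →
      maximalIdeal (A ⧸ Ideal.span {f}) ≤
        LinearMap.ker (LinearMap.toSpanSingleton (A ⧸ Ideal.span {f}) (A ⧸ Ideal.span {f})
          (Ideal.Quotient.mk (Ideal.span {f}) z)) := by
    intro z hz n' hn'
    obtain ⟨n, rfl⟩ := Ideal.Quotient.mk_surjective n'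
    rw [Groth.Agent.Lib.helper17.GorQuot.mk_mem_maximalIdeal_iff f hf] at hn'
    rw [LinearMap.mem_ker, LinearMap.toSpanSingleton_apply, smul_eq_mul, ← map_mul,
      Ideal.Quotient.eq_zero_iff_mem]
    exact hz n hn'
  let φ₁ : ResidueField (A ⧸ Ideal.span {f}) →ₗ[A ⧸ Ideal.span {f}] (A ⧸ Ideal.span {f}) :=
    Submodule.liftQ (maximalIdeal (A ⧸ Ideal.span {f})) _ (hkill z₁ h₁)
  let φ₂ : ResidueField (A ⧸ Ideal.span {f}) →ₗ[A ⧸ Ideal.span {f}] (A ⧸ Ideal.span {f}) :=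
    Submodule.liftQ (maximalIdeal (A ⧸ Ideal.span {f})) _ (hkill z₂ h₂)
  have hφ₁ : φ₁ (residue _ 1) = Ideal.Quotient.mk (Ideal.span {f}) z₁ := by
    show Submodule.liftQ _ _ _ (Submodule.Quotient.mk 1) = _
    rw [Submodule.liftQ_apply, LinearMap.toSpanSingleton_apply, one_smul]
  have hφ₂ : φ₂ (residue _ 1) = Ideal.Quotient.mk (Ideal.span {f}) z₂ := by
    show Submodule.liftQ _ _ _ (Submodule.Quotient.mk 1) = _
    rw [Submodule.liftQ_apply, LinearMap.toSpanSingleton_apply, one_smul]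
  by_cases hz : φ₁ = 0
  · refine ⟨1, 0, Or.inl isUnit_one, ?_⟩
    rw [hz, LinearMap.zero_apply] at hφ₁
    rw [one_mul, zero_mul, add_zero, ← Ideal.Quotient.eq_zero_iff_mem]
    exact hφ₁.symm
  · obtain ⟨u', hu'⟩ := IsSimpleModule.toSpanSingleton_surjective (A ⧸ Ideal.span {f}) hz φ₂
    obtain ⟨u, rfl⟩ := Ideal.Quotient.mk_surjective u'
    refine ⟨u, -1, Or.inr isUnit_one.neg, ?_⟩
    rw [LinearMap.toSpanSingleton_apply] at hu'
    have h3 := LinearMap.congr_fun hu' (residue _ 1)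
    rw [LinearMap.smul_apply, hφ₁, hφ₂, smul_eq_mul, ← map_mul] at h3
    rw [neg_one_mul, ← sub_eq_add_neg, ← Ideal.Quotient.eq]
    exact h3

theorem exists_smul_add_smul_mem_span (k : Type u) [Field k] (T : Type u) [CommRing T]
    [Algebra k T] [IsNoetherianRing T] (𝔪 : Ideal T) [𝔪.IsPrime]
    (hk : ∀ t : T, ∃ c : k, t - algebraMap k T c ∈ 𝔪)
    (hG : LocCoh.IsGorensteinLocalRing (Localization.AtPrime 𝔪)) (hht : 𝔪.height ≤ 1)
    (a : T) (ha : a ∈ 𝔪) (hareg : IsSMulRegular T a) (b₁ b₂ : T)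
    (h₁ : ∀ τ ∈ 𝔪, τ * b₁ ∈ Ideal.span {a}) (h₂ : ∀ τ ∈ 𝔪, τ * b₂ ∈ Ideal.span {a}) :
    ∃ c₁ c₂ : k, (c₁ ≠ 0 ∨ c₂ ≠ 0) ∧ c₁ • b₁ + c₂ • b₂ ∈ Ideal.span {a} := by
  have hNoeth : IsNoetherianRing (Localization.AtPrime 𝔪) :=
    IsLocalization.isNoetherianRing 𝔪.primeCompl _ inferInstance
  have hdim : ringKrullDim (Localization.AtPrime 𝔪) ≤ 1 := by
    rw [IsLocalization.AtPrime.ringKrullDim_eq_height 𝔪 (Localization.AtPrime 𝔪)]
    exact_mod_cast hht
  have hf : algebraMap T (Localization.AtPrime 𝔪) a ∈ maximalIdeal (Localization.AtPrime 𝔪) :=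
    (IsLocalization.AtPrime.to_map_mem_maximal_iff (Localization.AtPrime 𝔪) 𝔪 a).2 ha
  have hfreg : IsSMulRegular (Localization.AtPrime 𝔪) (algebraMap T (Localization.AtPrime 𝔪) a) := by
    have hanzd : a ∈ nonZeroDivisors T := by
      rw [mem_nonZeroDivisors_iff_right]
      intro z hz
      apply hareg
      show a • z = a • 0
      rw [smul_eq_mul, smul_eq_mul, mul_zero, mul_comm]
      exact hz
    have h1 : algebraMap T (Localization.AtPrime 𝔪) a ∈ nonZeroDivisors (Localization.AtPrime 𝔪) :=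
      IsLocalization.map_nonZeroDivisors_le 𝔪.primeCompl (Localization.AtPrime 𝔪)
        (Submonoid.mem_map_of_mem _ hanzd)
    intro z w hzw
    have h2 : (z - w) * algebraMap T (Localization.AtPrime 𝔪) a = 0 := by
      have h3 : algebraMap T (Localization.AtPrime 𝔪) a * z =
          algebraMap T (Localization.AtPrime 𝔪) a * w := hzw
      rw [sub_mul, mul_comm, h3, mul_comm, sub_self]
    exact sub_eq_zero.1 ((mem_nonZeroDivisors_iff_right.1 h1) _ h2)
  have hloc : ∀ b : T, (∀ τ ∈ 𝔪, τ * b ∈ Ideal.span {a}) →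
      ∀ n ∈ maximalIdeal (Localization.AtPrime 𝔪), n * algebraMap T (Localization.AtPrime 𝔪) b ∈
        Ideal.span {algebraMap T (Localization.AtPrime 𝔪) a} := by
    intro b hb n hn
    obtain ⟨τ, σ, rfl⟩ := IsLocalization.exists_mk'_eq 𝔪.primeCompl n
    rw [IsLocalization.AtPrime.mk'_mem_maximal_iff (Localization.AtPrime 𝔪) 𝔪] at hn
    obtain ⟨c, hc⟩ := Ideal.mem_span_singleton'.1 (hb τ hn)
    rw [Ideal.mem_span_singleton']
    refine ⟨IsLocalization.mk' (Localization.AtPrime 𝔪) c σ, ?_⟩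
    rw [mul_comm, IsLocalization.mul_mk'_eq_mk'_of_mul,
      mul_comm (IsLocalization.mk' (Localization.AtPrime 𝔪) τ σ),
      IsLocalization.mul_mk'_eq_mk'_of_mul, mul_comm a c, hc, mul_comm b τ]
  obtain ⟨u₁, u₂, hu, hmem⟩ := socle_dependent (Localization.AtPrime 𝔪) hG hdim _ hf hfreg
    _ _ (hloc b₁ h₁) (hloc b₂ h₂)
  obtain ⟨w, hw⟩ := Ideal.mem_span_singleton'.1 hmem
  obtain ⟨⟨t₁, σ₁⟩, e₁⟩ := IsLocalization.surj 𝔪.primeCompl u₁
  obtain ⟨⟨t₂, σ₂⟩, e₂⟩ := IsLocalization.surj 𝔪.primeCompl u₂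
  obtain ⟨⟨t₃, σ₃⟩, e₃⟩ := IsLocalization.surj 𝔪.primeCompl w
  simp only at e₁ e₂ e₃
  have key : algebraMap T (Localization.AtPrime 𝔪) (t₃ * σ₁ * σ₂ * a) =
      algebraMap T (Localization.AtPrime 𝔪) (t₁ * σ₂ * σ₃ * b₁ + t₂ * σ₁ * σ₃ * b₂) := by
    simp only [map_add, map_mul]
    rw [← e₁, ← e₂, ← e₃]
    linear_combination (algebraMap T (Localization.AtPrime 𝔪) σ₁ *
      algebraMap T (Localization.AtPrime 𝔪) σ₂ * algebraMap T (Localization.AtPrime 𝔪) σ₃) * hw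
  obtain ⟨σ', hσ'⟩ := (IsLocalization.eq_iff_exists 𝔪.primeCompl (Localization.AtPrime 𝔪)).1 key
  obtain ⟨c₁, hc₁⟩ := hk (σ' * t₁ * σ₂ * σ₃)
  obtain ⟨c₂, hc₂⟩ := hk (σ' * t₂ * σ₁ * σ₃)
  have hunit : ∀ (u : Localization.AtPrime 𝔪) (t : T) (σ : 𝔪.primeCompl),
      u * algebraMap T (Localization.AtPrime 𝔪) σ = algebraMap T (Localization.AtPrime 𝔪) t →
      IsUnit u → t ∈ 𝔪.primeCompl := by
    intro u t σ e hu
    rw [← IsLocalization.AtPrime.isUnit_to_map_iff (Localization.AtPrime 𝔪) 𝔪 t, ← e]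
    exact hu.mul (IsLocalization.map_units _ σ)
  refine ⟨c₁, c₂, ?_, ?_⟩
  · rcases hu with hu | hu
    · left
      intro h0
      rw [h0, map_zero, sub_zero] at hc₁
      have ht₁ := hunit u₁ t₁ σ₁ e₁ hu
      have : σ' * t₁ * σ₂ * σ₃ ∈ 𝔪.primeCompl :=
        mul_mem (mul_mem (mul_mem σ'.2 ht₁) σ₂.2) σ₃.2
      exact this hc₁
    · right
      intro h0
      rw [h0, map_zero, sub_zero] at hc₂
      have ht₂ := hunit u₂ t₂ σ₂ e₂ hu
      have : σ' * t₂ * σ₁ * σ₃ ∈ 𝔪.primeCompl :=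
        mul_mem (mul_mem (mul_mem σ'.2 ht₂) σ₁.2) σ₃.2
      exact this hc₂
  · have h3 : c₁ • b₁ + c₂ • b₂ = σ' * t₃ * σ₁ * σ₂ * a -
        ((σ' * t₁ * σ₂ * σ₃ - algebraMap k T c₁) * b₁ +
          (σ' * t₂ * σ₁ * σ₃ - algebraMap k T c₂) * b₂) := by
      rw [Algebra.smul_def, Algebra.smul_def]
      linear_combination (-1 : T) * hσ'
    rw [h3]
    exact sub_mem (Ideal.mul_mem_left _ _ (Ideal.subset_span rfl))
      (add_mem (h₁ _ hc₁) (h₂ _ hc₂))

end Groth.Agent.Lib.helper26.Seg
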