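import Mathlib
import Groth.Agent.Lib.Helper26.Seg15
import Groth.Agent.Lib.Helper26.Seg17
import Groth.Agent.Lib.Helper17.GorRing

/-!
# Segre products of one-dimensional standard graded rings: Gorenstein ⟹ polynomial factor
(helper26)
-/

set_option autoImplicit false
set_option linter.unusedSectionVars false
universe u
open scoped TensorProduct

namespace Groth.Agent.Lib.helper26.Seg

variable {k : Type u} [Field k] {R : Type u} [CommRing R] [Algebra k R]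
  (𝒜 : ℤ → Submodule k R) [GradedAlgebra 𝒜]
  {S : Type u} [CommRing S] [Algebra k S] (ℬ : ℤ → Submodule k S) [GradedAlgebra ℬ]
  {T : Type u} [CommRing T] [Algebra k T] (𝒯 : ℤ → Submodule k T) [GradedAlgebra 𝒯]
  (ψ : T →ₐ[k] R ⊗[k] S)
  (hdegT : ∀ n : ℤ, (𝒯 n).map ψ.toLinearMap =
    Submodule.span k {x : R ⊗[k] S | ∃ a ∈ 𝒜 n, ∃ b ∈ ℬ n, x = a ⊗ₜ[k] b})
  (hψ : Function.Injective ψ)

/-- the embedding of the Segre product into `S ⊗ R` -/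
noncomputable def swap : T →ₐ[k] S ⊗[k] R :=
  (Algebra.TensorProduct.comm k R S).toAlgHom.comp ψ

theorem swap_apply (t : T) : swap ψ t = Algebra.TensorProduct.comm k R S (ψ t) := rfl

theorem swap_eq_tmul {t : T} {x : R} {y : S} (h : ψ t = x ⊗ₜ[k] y) : swap ψ t = y ⊗ₜ[k] x := by
  rw [swap_apply, h, Algebra.TensorProduct.comm_tmul]

include hψ in
theorem swap_injective : Function.Injective (swap ψ) := by
  intro a b hab
  apply hψ
  exact (Algebra.TensorProduct.comm k R S).injective hab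

include hdegT in
theorem swap_hdegT (n : ℤ) : (𝒯 n).map (swap ψ).toLinearMap =
    Submodule.span k {x : S ⊗[k] R | ∃ a ∈ ℬ n, ∃ b ∈ 𝒜 n, x = a ⊗ₜ[k] b} := by
  have h1 : (swap ψ).toLinearMap =
      (Algebra.TensorProduct.comm k R S).toLinearMap ∘ₗ ψ.toLinearMap := rfl
  rw [h1, Submodule.map_comp, hdegT, Submodule.map_span]
  congr 1
  ext z
  constructor
  · rintro ⟨w, ⟨a, ha, b, hb, rfl⟩, rfl⟩
    exact ⟨b, hb, a, ha, by simp⟩
  · rintro ⟨b, hb, a, ha, rfl⟩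
    exact ⟨a ⊗ₜ[k] b, ⟨a, ha, b, hb, rfl⟩, by simp⟩

include hψ in
theorem isSMulRegular_of_map_eq_tmul {a : T} {x : R} {y : S} (ha : ψ a = x ⊗ₜ[k] y)
    (hx : IsSMulRegular R x) (hy : IsSMulRegular S y) : IsSMulRegular T a := by
  have hxy : x ⊗ₜ[k] y = (x ⊗ₜ[k] (1 : S)) * ((1 : R) ⊗ₜ[k] y) := by
    rw [Algebra.TensorProduct.tmul_mul_tmul, mul_one, one_mul]
  intro z w hzw
  apply hψ
  have h1 : ψ (a * z) = ψ (a * w) := congrArg ψ hzw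
  rw [map_mul, map_mul, ha, hxy, mul_assoc, mul_assoc] at h1
  exact isSMulRegular_one_tmul hy (isSMulRegular_tmul_one hx h1)

include hdegT hψ in
theorem mul_mem_span_of_socle {a b : T} {x r : R} {y s' : S} (ha : ψ a = x ⊗ₜ[k] y)
    (hb : ψ b = r ⊗ₜ[k] (y * s')) (hsoc : ∀ a' ∈ irr 𝒜, a' * r ∈ Ideal.span {x}) :
    ∀ τ ∈ irr 𝒯, τ * b ∈ Ideal.span {a} := by
  intro τ hτ
  unfold irr at hτ
  induction hτ using Submodule.closure_induction with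
  | zero => simp
  | add y z _ _ hy hz => rw [add_mul]; exact add_mem hy hz
  | smul_mem c g hg =>
    simp only [Set.mem_iUnion, SetLike.mem_coe] at hg
    obtain ⟨j, hj, hg⟩ := hg
    rw [Set.mem_Ioi] at hj
    rw [smul_eq_mul, mul_assoc]
    apply Ideal.mul_mem_left
    rw [← Groth.Agent.S18646.comap_map 𝒜 ℬ 𝒯 ψ hdegT hψ (Ideal.span {a}), Ideal.mem_comap]
    have h3 : ψ g ∈ (𝒯 j).map ψ.toLinearMap := ⟨g, hg, rfl⟩
    rw [hdegT] at h3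
    have h4 : Submodule.span k {z | ∃ a' ∈ 𝒜 j, ∃ b' ∈ ℬ j, z = a' ⊗ₜ[k] b'} ≤
        Submodule.comap (LinearMap.mulRight k (r ⊗ₜ[k] (y * s')))
          ((Ideal.map ψ.toRingHom (Ideal.span {a})).restrictScalars k) := by
      rw [Submodule.span_le]
      rintro z ⟨a', ha', b', hb', rfl⟩
      rw [SetLike.mem_coe, Submodule.mem_comap, LinearMap.mulRight_apply,
        Submodule.restrictScalars_mem, Algebra.TensorProduct.tmul_mul_tmul]
      obtain ⟨c', hc'⟩ := Ideal.mem_span_singleton'.1 (hsoc a' (mem_irr_of_mem 𝒜 hj ha'))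
      have h5 : (a' * r) ⊗ₜ[k] (b' * (y * s')) =
          (c' ⊗ₜ[k] (b' * s')) * ψ.toRingHom a := by
        have : ψ.toRingHom a = ψ a := rfl
        rw [this, ha, Algebra.TensorProduct.tmul_mul_tmul, hc']
        congr 1
        ring
      rw [h5]
      exact Ideal.mul_mem_left _ _ (Ideal.mem_map_of_mem _ (Ideal.subset_span rfl))
    have h6 := h4 h3
    rw [Submodule.mem_comap, LinearMap.mulRight_apply, Submodule.restrictScalars_mem] at h6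
    have : ψ.toRingHom (g * b) = ψ g * ψ b := map_mul ψ g b
    rw [this, hb]
    exact h6

include hψ in
/-- the two socle elements are linearly independent modulo `a` -/
theorem indep_socle {a b₁ b₂ : T} {x r u : R} {y r' v : S} (ha : ψ a = x ⊗ₜ[k] y)
    (hb₁ : ψ b₁ = r ⊗ₜ[k] v) (hb₂ : ψ b₂ = u ⊗ₜ[k] r')
    (hrx : r ∉ Ideal.span {x}) (hv : v ≠ 0) (hry : r' ∉ Ideal.span {y}) (hu : u ≠ 0)
    (c₁ c₂ : k) (hmem : c₁ • b₁ + c₂ • b₂ ∈ Ideal.span {a}) (hxu : u ∈ Ideal.span {x})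
    (hyv : v ∈ Ideal.span {y}) : c₁ = 0 ∧ c₂ = 0 := by
  obtain ⟨c, hc⟩ := Ideal.mem_span_singleton'.1 hmem
  have h1 : ψ c * (x ⊗ₜ[k] y) = c₁ • (r ⊗ₜ[k] v) + c₂ • (u ⊗ₜ[k] r') := by
    rw [← ha, ← map_mul, hc, map_add, map_smul, map_smul, hb₁, hb₂]
  have hxy : x ⊗ₜ[k] y = (x ⊗ₜ[k] (1 : S)) * ((1 : R) ⊗ₜ[k] y) := by
    rw [Algebra.TensorProduct.tmul_mul_tmul, mul_one, one_mul]
  constructor
  · have h2 := congrArg (Algebra.TensorProduct.map (Ideal.Quotient.mkₐ k (Ideal.span {x}))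
      (AlgHom.id k S)) h1
    have hx0 : (Ideal.Quotient.mkₐ k (Ideal.span {x})) x = 0 := by
      rw [Ideal.Quotient.mkₐ_eq_mk, Ideal.Quotient.eq_zero_iff_mem]
      exact Ideal.subset_span rfl
    have hu0 : (Ideal.Quotient.mkₐ k (Ideal.span {x})) u = 0 := by
      rw [Ideal.Quotient.mkₐ_eq_mk, Ideal.Quotient.eq_zero_iff_mem]
      exact hxu
    rw [map_mul, map_add, map_smul, map_smul, Algebra.TensorProduct.map_tmul,
      Algebra.TensorProduct.map_tmul, Algebra.TensorProduct.map_tmul, hx0, hu0,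
      TensorProduct.zero_tmul, TensorProduct.zero_tmul, mul_zero, smul_zero, add_zero] at h2
    have h3 : (Ideal.Quotient.mkₐ k (Ideal.span {x})) r ≠ 0 := by
      rw [Ideal.Quotient.mkₐ_eq_mk, Ne, Ideal.Quotient.eq_zero_iff_mem]
      exact hrx
    have h4 := tmul_ne_zero (k := k) h3 (by simpa using hv : (AlgHom.id k S) v ≠ 0)
    by_contra hc₁
    exact h4 ((smul_eq_zero.1 h2.symm).resolve_left hc₁)
  · have h2 := congrArg (Algebra.TensorProduct.map (AlgHom.id k R)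
      (Ideal.Quotient.mkₐ k (Ideal.span {y}))) h1
    have hy0 : (Ideal.Quotient.mkₐ k (Ideal.span {y})) y = 0 := by
      rw [Ideal.Quotient.mkₐ_eq_mk, Ideal.Quotient.eq_zero_iff_mem]
      exact Ideal.subset_span rfl
    have hv0 : (Ideal.Quotient.mkₐ k (Ideal.span {y})) v = 0 := by
      rw [Ideal.Quotient.mkₐ_eq_mk, Ideal.Quotient.eq_zero_iff_mem]
      exact hyv
    rw [map_mul, map_add, map_smul, map_smul, Algebra.TensorProduct.map_tmul,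
      Algebra.TensorProduct.map_tmul, Algebra.TensorProduct.map_tmul, hy0, hv0,
      TensorProduct.tmul_zero, TensorProduct.tmul_zero, mul_zero, smul_zero, zero_add] at h2
    have h3 : (Ideal.Quotient.mkₐ k (Ideal.span {y})) r' ≠ 0 := by
      rw [Ideal.Quotient.mkₐ_eq_mk, Ne, Ideal.Quotient.eq_zero_iff_mem]
      exact hry
    have h4 := tmul_ne_zero (k := k) (by simpa using hu : (AlgHom.id k R) u ≠ 0) h3
    by_contra hc₂
    exact h4 ((smul_eq_zero.1 h2.symm).resolve_left hc₂)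

section main

variable [Algebra.FiniteType k R] [Algebra.FiniteType k S]
  (hposR : ∀ n : ℤ, n < 0 → 𝒜 n = ⊥) (h0R : 𝒜 0 = Submodule.span k {(1 : R)})
  (hposS : ∀ n : ℤ, n < 0 → ℬ n = ⊥) (h0S : ℬ 0 = Submodule.span k {(1 : S)})

include hposR h0R in
/-- socle data in all degrees `D * (q + 1)` -/
theorem exists_socle_pow [LocCoh.IsCohenMacaulayRing R]
    (hstdR : irr 𝒜 = Ideal.span ((𝒜 1 : Submodule k R) : Set R)) (hr : ringKrullDim R = 1)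
    (hnp : IsEmpty (R ≃ₐ[k] Polynomial k)) :
    ∃ (D : ℕ) (_ : 0 < D), ∀ q : ℕ, ∃ x ∈ 𝒜 ((D * (q + 1) : ℕ) : ℤ), IsSMulRegular R x ∧
      ∃ e : ℤ, ((D * (q + 1) : ℕ) : ℤ) ≤ e ∧ ∃ r ∈ 𝒜 e, r ∉ Ideal.span {x} ∧
        ∀ a ∈ irr 𝒜, a * r ∈ Ideal.span {x} := by
  have hNR : Nontrivial R := by
    by_contra hne
    rw [not_nontrivial_iff_subsingleton] at hne
    rw [ringKrullDim_eq_bot_of_subsingleton] at hr
    exact absurd hr (by simp)
  have hNoethR : IsNoetherianRing R := Algebra.FiniteType.isNoetherianRing k R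
  have hdepthR : LocCoh.idealDepth (irr 𝒜) R = 1 := by
    have h1 := ((Groth.Agent.Lib.helper26.Depth.isCohenMacaulayRing_iff_idealDepth_eq_height R).1
      (inferInstance : LocCoh.IsCohenMacaulayRing R)) (irr 𝒜) (irr_ne_top 𝒜 hposR)
    rw [h1, height_irr 𝒜 hposR h0R 1 (by rw [hr]; rfl)]
    rfl
  obtain ⟨d₀, hd₀, x₀, hx₀, hx₀reg⟩ := exists_homogeneous_regular 𝒜 hposR (by rw [hdepthR])
  obtain ⟨D, hD, x', hx', hx'reg, e, hDe, r, hr', hrx', hsoc⟩ :=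
    exists_socle 𝒜 hposR h0R hstdR hr hnp hd₀ hx₀ hx₀reg
  refine ⟨D, hD, fun q => ?_⟩
  obtain ⟨h1, h2, h3, h4, h5⟩ := socle_pow 𝒜 hx' hx'reg hr' hrx' hsoc q
  exact ⟨x' ^ (q + 1), h1, h2, e + ((D * q : ℕ) : ℤ), by push_cast; linarith, x' ^ q * r, h3, h4, h5⟩

include hdegT hψ hposR h0R hposS h0S in
/-- **Gorenstein ⟹ the other factor is polynomial.** -/
theorem nonempty_algEquiv_of_isGorensteinRing
    [LocCoh.IsCohenMacaulayRing R] [LocCoh.IsCohenMacaulayRing S]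
    (hstdR : irr 𝒜 = Ideal.span ((𝒜 1 : Submodule k R) : Set R))
    (hstdS : irr ℬ = Ideal.span ((ℬ 1 : Submodule k S) : Set S))
    (hr : ringKrullDim R = 1) (hs : ringKrullDim S = 1)
    (hR : IsEmpty (R ≃ₐ[k] Polynomial k)) (hG : LocCoh.IsGorensteinRing T) :
    Nonempty (S ≃ₐ[k] Polynomial k) := by
  by_contra hnp
  rw [not_nonempty_iff] at hnp
  have hNR : Nontrivial R := by
    by_contra hne
    rw [not_nontrivial_iff_subsingleton] at hne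
    rw [ringKrullDim_eq_bot_of_subsingleton] at hr
    exact absurd hr (by simp)
  have hNS : Nontrivial S := by
    by_contra hne
    rw [not_nontrivial_iff_subsingleton] at hne
    rw [ringKrullDim_eq_bot_of_subsingleton] at hs
    exact absurd hs (by simp)
  -- dimension of `T`
  have hdimT : ringKrullDim T = ((1 + 1 - 1 : ℕ) : WithBot ℕ∞) :=
    Groth.Agent.S18647.result k R 𝒜 hposR h0R S ℬ hposS h0S T 𝒯 ψ hψ hdegT 1 1
      (by rw [hr]; rfl) (by rw [hs]; rfl) le_rfl le_rfl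
  have h11 : 1 + 1 - 1 = 1 := rfl
  rw [h11] at hdimT
  have hFT : Algebra.FiniteType k T := finiteType_segre 𝒜 ℬ 𝒯 ψ hdegT hψ hposR h0R hposS h0S
  have hposT := pieceT_eq_bot 𝒜 ℬ 𝒯 ψ hdegT hψ hposR
  have h0T := pieceT_zero 𝒜 ℬ 𝒯 ψ hdegT hψ h0R h0S
  have hNT : Nontrivial T := by
    by_contra hne
    rw [not_nontrivial_iff_subsingleton] at hne
    rw [ringKrullDim_eq_bot_of_subsingleton] at hdimT
    exact absurd hdimT (by simp)
  have hhtT := height_irr 𝒯 hposT h0T 1 hdimT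
  have hNoethT : IsNoetherianRing T := Algebra.FiniteType.isNoetherianRing k T
  have hmax : (irr 𝒯).IsMaximal := irr_isMaximal 𝒯 hposT h0T
  have hprime : (irr 𝒯).IsPrime := hmax.isPrime
  -- socle data
  obtain ⟨D₁, hD₁, H₁⟩ := exists_socle_pow 𝒜 hposR h0R hstdR hr hR
  obtain ⟨D₂, hD₂, H₂⟩ := exists_socle_pow ℬ hposS h0S hstdS hs hnp
  obtain ⟨q₁, hq₁⟩ : ∃ q, D₂ = q + 1 := ⟨D₂ - 1, by omega⟩
  obtain ⟨q₂, hq₂⟩ : ∃ q, D₁ = q + 1 := ⟨D₁ - 1, by omega⟩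
  obtain ⟨x, hx, hxreg, e₁, he₁, r, hr', hrx, hsoc₁⟩ := H₁ q₁
  obtain ⟨y, hy, hyreg, e₂, he₂, r', hr'', hry, hsoc₂⟩ := H₂ q₂
  rw [← hq₁] at hx he₁
  rw [← hq₂, mul_comm] at hy he₂
  obtain ⟨a₁, ha₁, hnil₁⟩ := exists_not_isNilpotent 𝒜 hposR h0R hstdR hr.ge
  obtain ⟨a₂, ha₂, hnil₂⟩ := exists_not_isNilpotent ℬ hposS h0S hstdS hs.ge
  obtain ⟨m₁, hm₁⟩ := Int.eq_ofNat_of_zero_le (sub_nonneg.2 he₁)
  obtain ⟨m₂, hm₂⟩ := Int.eq_ofNat_of_zero_le (sub_nonneg.2 he₂)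
  have hs₀ : a₂ ^ m₁ ∈ ℬ (e₁ - ((D₁ * D₂ : ℕ) : ℤ)) := by
    have h6 : a₂ ^ m₁ ∈ ℬ (m₁ • (1 : ℤ)) := SetLike.pow_mem_graded m₁ ha₂
    have h7 : m₁ • (1 : ℤ) = e₁ - ((D₁ * D₂ : ℕ) : ℤ) := by
      rw [nsmul_eq_mul, mul_one, ← hm₁]
    rwa [h7] at h6
  have hr₀ : a₁ ^ m₂ ∈ 𝒜 (e₂ - ((D₁ * D₂ : ℕ) : ℤ)) := by
    have h6 : a₁ ^ m₂ ∈ 𝒜 (m₂ • (1 : ℤ)) := SetLike.pow_mem_graded m₂ ha₁
    have h7 : m₂ • (1 : ℤ) = e₂ - ((D₁ * D₂ : ℕ) : ℤ) := by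
      rw [nsmul_eq_mul, mul_one, ← hm₂]
    rwa [h7] at h6
  have hys : y * a₂ ^ m₁ ∈ ℬ e₁ := by
    have := SetLike.mul_mem_graded hy hs₀
    rwa [show ((D₁ * D₂ : ℕ) : ℤ) + (e₁ - ((D₁ * D₂ : ℕ) : ℤ)) = e₁ by ring] at this
  have hxr : x * a₁ ^ m₂ ∈ 𝒜 e₂ := by
    have := SetLike.mul_mem_graded hx hr₀
    rwa [show ((D₁ * D₂ : ℕ) : ℤ) + (e₂ - ((D₁ * D₂ : ℕ) : ℤ)) = e₂ by ring] at this
  have hys0 : y * a₂ ^ m₁ ≠ 0 := by
    intro h
    apply hnil₂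
    refine ⟨m₁, hyreg ?_⟩
    show y • a₂ ^ m₁ = y • 0
    rw [smul_eq_mul, smul_eq_mul, h, mul_zero]
  have hxr0 : x * a₁ ^ m₂ ≠ 0 := by
    intro h
    apply hnil₁
    refine ⟨m₂, hxreg ?_⟩
    show x • a₁ ^ m₂ = x • 0
    rw [smul_eq_mul, smul_eq_mul, h, mul_zero]
  -- the elements of `T`
  have ha' : x ⊗ₜ[k] y ∈ (𝒯 ((D₁ * D₂ : ℕ) : ℤ)).map ψ.toLinearMap := by
    rw [hdegT]; exact Submodule.subset_span ⟨x, hx, y, hy, rfl⟩
  obtain ⟨a, haT, ha⟩ := ha'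
  have hb₁' : r ⊗ₜ[k] (y * a₂ ^ m₁) ∈ (𝒯 e₁).map ψ.toLinearMap := by
    rw [hdegT]; exact Submodule.subset_span ⟨r, hr', _, hys, rfl⟩
  obtain ⟨b₁, hb₁T, hb₁⟩ := hb₁'
  have hb₂' : (x * a₁ ^ m₂) ⊗ₜ[k] r' ∈ (𝒯 e₂).map ψ.toLinearMap := by
    rw [hdegT]; exact Submodule.subset_span ⟨_, hxr, r', hr'', rfl⟩
  obtain ⟨b₂, hb₂T, hb₂⟩ := hb₂'
  replace ha : ψ a = x ⊗ₜ[k] y := ha
  replace hb₁ : ψ b₁ = r ⊗ₜ[k] (y * a₂ ^ m₁) := hb₁
  replace hb₂ : ψ b₂ = (x * a₁ ^ m₂) ⊗ₜ[k] r' := hb₂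
  have hareg := isSMulRegular_of_map_eq_tmul ψ hψ ha hxreg hyreg
  have haI : a ∈ irr 𝒯 :=
    mem_irr_of_mem 𝒯 (by exact_mod_cast Nat.mul_pos hD₁ hD₂) haT
  have h₁ := mul_mem_span_of_socle 𝒜 ℬ 𝒯 ψ hdegT hψ ha hb₁ hsoc₁
  have h₂ := mul_mem_span_of_socle ℬ 𝒜 𝒯 (swap ψ) (swap_hdegT 𝒜 ℬ 𝒯 ψ hdegT)
    (swap_injective ψ hψ) (swap_eq_tmul ψ ha) (swap_eq_tmul ψ hb₂) hsoc₂
  obtain ⟨c₁, c₂, hne, hmem⟩ := exists_smul_add_smul_mem_span k T (irr 𝒯)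
    (exists_sub_mem_irr 𝒯 hposT h0T) (hG.isGorensteinLocalRing_localization (irr 𝒯))
    (by rw [hhtT]; rfl) a haI hareg b₁ b₂ h₁ h₂
  obtain ⟨hc₁, hc₂⟩ := indep_socle ψ hψ ha hb₁ hb₂ hrx hys0 hry hxr0 c₁ c₂ hmem
    (Ideal.mul_mem_right _ _ (Ideal.subset_span rfl))
    (Ideal.mul_mem_right _ _ (Ideal.subset_span rfl))
  rcases hne with h | h
  · exact h hc₁
  · exact h hc₂

include hposR h0R in
/-- a standard graded ring of dimension one isomorphic to `k[X]` is `k[a]` with `a` of degree one -/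
theorem exists_degree_one_generator
    (hstdR : irr 𝒜 = Ideal.span ((𝒜 1 : Submodule k R) : Set R))
    (hr : ringKrullDim R = 1) (e : R ≃ₐ[k] Polynomial k) :
    ∃ a ∈ 𝒜 1, Function.Bijective (Polynomial.aeval (R := k) a) ∧
      ∀ n : ℤ, 1 ≤ n → ∀ r ∈ 𝒜 n, r ∈ Ideal.span {a} := by
  have hdom : IsDomain R := e.toRingEquiv.toMulEquiv.isDomain (Polynomial k)
  have hic : IsIntegrallyClosed R := IsIntegrallyClosed.of_equiv e.symm.toRingEquiv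
  have hNoeth : IsNoetherianRing R := Algebra.FiniteType.isNoetherianRing k R
  obtain ⟨a, ha, hnil⟩ := exists_not_isNilpotent 𝒜 hposR h0R hstdR hr.ge
  have ha0 : a ≠ 0 := fun h => hnil (h ▸ IsNilpotent.zero)
  have hareg : IsSMulRegular R a := by
    intro z w hzw
    exact mul_left_cancel₀ ha0 hzw
  rcases dichotomy 𝒜 hposR h0R hr.le one_pos (by simpa using ha) hareg with
    ⟨e', he', r, hr', hrx, hsoc⟩ | hall
  · exact absurd (mem_span_of_socle_of_isIntegrallyClosed 𝒜 ha ha0 (by exact_mod_cast he') hr'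
      hsoc) hrx
  · have hall' : ∀ n : ℤ, 1 ≤ n → ∀ r ∈ 𝒜 n, r ∈ Ideal.span {a} := by simpa using hall
    exact ⟨a, ha, bijective_aeval_of_forall_mem_span 𝒜 hposR h0R ha hnil hall', hall'⟩

include hdegT hψ hposR hposS h0S in
/-- if `S` is a polynomial ring then `R # S ≅ R` -/
theorem nonempty_ringEquiv_of_right_polynomial
    (hstdS : irr ℬ = Ideal.span ((ℬ 1 : Submodule k S) : Set S))
    (hs : ringKrullDim S = 1) (e : S ≃ₐ[k] Polynomial k) : Nonempty (T ≃+* R) := by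
  obtain ⟨a, ha, hbij, hall⟩ := exists_degree_one_generator ℬ hposS h0S hstdS hs e
  exact nonempty_ringEquiv_of_polynomial ℬ 𝒜 𝒯 (swap ψ) (swap_hdegT 𝒜 ℬ 𝒯 ψ hdegT)
    (swap_injective ψ hψ) hposS h0S hposR ha hbij hall

end main

end Groth.Agent.Lib.helper26.Seg
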