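import Mathlib
import Groth.Agent.Lib.Helper26.Seg3
import Groth.Agent.Lib.Helper11.QuasiReg
import Groth.Agent.Lib.Helper26.CMPoly2
import Groth.Agent.Lib.Helper17.FieldCM

/-!
# A graded Cohen–Macaulay criterion (helper26)

`T` a ℤ-graded `k`-algebra with `𝒯 n = 0` for `n < 0`; `u₁, …, u_s` homogeneous of positive degrees,
forming a (weakly) regular sequence with `T/(u)` finite over `k`.  Then `T` is a free module of
finite rank over the polynomial ring `k[X₁, …, X_s]` (acting through `X_i ↦ u_i`), hence a
Cohen–Macaulay ring.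
-/

set_option autoImplicit false
set_option linter.unusedSectionVars false
universe u

namespace Groth.Agent.Lib.helper26.Seg

variable {k : Type u} [Field k] {T : Type u} [CommRing T] [Algebra k T]
  (𝒯 : ℤ → Submodule k T) [GradedAlgebra 𝒯]
  {ι : Type} [Finite ι] (u : ι → T) (d : ι → ℕ)

/-- **Graded Nakayama**, with prescribed generators. -/
theorem span_range_aeval_eq_top (hpos : ∀ n : ℤ, n < 0 → 𝒯 n = ⊥) (hd : ∀ i, 0 < d i)
    (hu : ∀ i, u i ∈ 𝒯 (d i : ℤ)) (W : Set T) (hWhom : ∀ w ∈ W, ∃ n : ℤ, w ∈ 𝒯 n)
    (hW : ∀ t : T, ∃ v ∈ Submodule.span k W, t - v ∈ Ideal.span (Set.range u)) :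
    Submodule.span (MvPolynomial.aeval (R := k) u).range W = ⊤ := by
  classical
  have : Fintype ι := Fintype.ofFinite ι
  set A : Subalgebra k T := (MvPolynomial.aeval (R := k) u).range with hA
  set N : Submodule A T := Submodule.span A W with hN
  have huA : ∀ i, u i ∈ A := fun i => ⟨MvPolynomial.X i, by simp⟩
  have hmulN : ∀ i, ∀ x ∈ N, x * u i ∈ N := by
    intro i x hx
    have : x * u i = (⟨u i, huA i⟩ : A) • x := by
      rw [Subalgebra.smul_def, smul_eq_mul, mul_comm]
    rw [this]
    exact N.smul_mem _ hx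
  have hkN : ∀ (c : k) (x : T), x ∈ N → c • x ∈ N := by
    intro c x hx
    have : c • x = (algebraMap k A c) • x := by
      show c • x = ((algebraMap k A c : A) : T) * x
      rw [Algebra.smul_def]
      rfl
    rw [this]
    exact N.smul_mem _ hx
  have hspanN : ∀ v ∈ Submodule.span k W, v ∈ N := by
    intro v hv
    induction hv using Submodule.span_induction with
    | mem x hx => exact Submodule.subset_span hx
    | zero => exact zero_mem _
    | add x y _ _ hx hy => exact add_mem hx hy
    | smul c x _ hx => exact hkN c x hx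
  -- components of elements of the span lie in `N`
  have hcomp : ∀ (n : ℤ), ∀ v ∈ Submodule.span k W,
      ((DirectSum.decompose 𝒯 v n : 𝒯 n) : T) ∈ N := by
    intro n v hv
    induction hv using Submodule.span_induction with
    | mem x hx =>
      obtain ⟨e, he⟩ := hWhom x hx
      by_cases hen : e = n
      · subst hen
        rw [DirectSum.decompose_of_mem_same _ he]
        exact Submodule.subset_span hx
      · rw [DirectSum.decompose_of_mem_ne _ he hen]
        exact zero_mem _
    | zero => simp
    | add x y _ _ hx hy =>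
      rw [DirectSum.decompose_add, DirectSum.add_apply, Submodule.coe_add]
      exact add_mem hx hy
    | smul c x _ hx =>
      rw [DirectSum.decompose_smul, DirectSum.smul_apply, Submodule.coe_smul]
      exact hkN c _ hx
  have key : ∀ m : ℕ, ∀ n : ℤ, n < m → ∀ t ∈ 𝒯 n, t ∈ N := by
    intro m
    induction m with
    | zero =>
      intro n hn t ht
      have hle : 𝒯 n ≤ ⊥ := (hpos n (by simpa using hn)).le
      have := hle ht
      rw [Submodule.mem_bot] at this
      rw [this]; exact zero_mem _
    | succ m ih =>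
      intro n hn t ht
      by_cases hnm : n < m
      · exact ih n hnm t ht
      have hnm' : n = m := by push_cast at hn; omega
      obtain ⟨v, hv, hvt⟩ := hW t
      obtain ⟨c, hc⟩ := (Ideal.mem_span_range_iff_exists_fun).1 hvt
      have ht' : t = v + ∑ i, c i * u i := by rw [hc]; ring
      have h1 : ((DirectSum.decompose 𝒯 t n : 𝒯 n) : T) = t := DirectSum.decompose_of_mem_same _ ht
      rw [← h1, ht', DirectSum.decompose_add, DirectSum.add_apply, Submodule.coe_add,
        DirectSum.decompose_sum, DFinsupp.finsetSum_apply, AddSubmonoidClass.coe_finsetSum]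
      refine add_mem (hcomp n v hv) (Submodule.sum_mem _ fun i _ => ?_)
      have hn' : n = (n - d i) + d i := by ring
      have h2 : ((DirectSum.decompose 𝒯 (c i * u i) n : 𝒯 n) : T) =
          ((DirectSum.decompose 𝒯 (c i) (n - d i) : 𝒯 (n - d i)) : T) * u i := by
        have h3 := DirectSum.coe_decompose_mul_add_of_right_mem 𝒯 (a := c i) (i := n - d i)
          (hu i)
        have h4 : ∀ (y : T) (n₁ n₂ : ℤ), n₁ = n₂ →
            ((DirectSum.decompose 𝒯 y n₁ : 𝒯 n₁) : T) = ((DirectSum.decompose 𝒯 y n₂ : 𝒯 n₂) : T) := by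
          rintro y _ _ rfl; rfl
        rw [h4 _ _ _ hn', h3]
      rw [h2]
      apply hmulN
      apply ih (n - d i) _ _ (DirectSum.decompose 𝒯 (c i) (n - d i)).2
      have := hd i
      omega
  rw [eq_top_iff]
  intro t _
  rw [← DirectSum.sum_support_decompose 𝒯 t]
  refine Submodule.sum_mem _ fun n _ => ?_
  exact key (n.toNat + 1) n (by push_cast; omega) _ (DirectSum.decompose 𝒯 t n).2

omit [GradedAlgebra 𝒯] in
/-- a polynomial without monomials of degree `< n` takes a value in `(u)ⁿ` -/
theorem aeval_mem_pow [Fintype ι] (p : MvPolynomial ι k) (n : ℕ)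
    (h : ∀ α : ι →₀ ℕ, α.degree < n → p.coeff α = 0) :
    MvPolynomial.aeval (R := k) u p ∈ Ideal.span (Set.range u) ^ n := by
  rw [MvPolynomial.aeval_def, MvPolynomial.eval₂_eq']
  refine Ideal.sum_mem _ fun α hα => ?_
  apply Ideal.mul_mem_left
  have hdeg : n ≤ α.degree := by
    by_contra hlt
    push Not at hlt
    exact (MvPolynomial.mem_support_iff.1 hα) (h α hlt)
  have h1 : ∏ i, u i ^ α i ∈ ∏ i : ι, Ideal.span (Set.range u) ^ α i :=
    Ideal.prod_mem_prod fun i _ => Ideal.pow_mem_pow (Ideal.subset_span (Set.mem_range_self i)) _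
  rw [Finset.prod_pow_eq_pow_sum, ← Finsupp.degree_eq_sum] at h1
  exact Ideal.pow_le_pow_right hdeg h1

omit [GradedAlgebra 𝒯] in
/-- linear independence over the polynomial ring of lifts of a basis of `T/(u)`, for a
quasi-regular sequence `u` -/
theorem eq_zero_of_sum_aeval_mul_eq_zero [Fintype ι] {κ : Type*} [Fintype κ] (w : κ → T)
    (hQR : Groth.Agent.Lib.helper11.QuasiReg.QR u)
    (hli : ∀ a : κ → k, (∑ j, a j • w j) ∈ Ideal.span (Set.range u) → a = 0)
    (c : κ → MvPolynomial ι k)
    (hc : ∑ j, MvPolynomial.aeval (R := k) u (c j) * w j = 0) : c = 0 := by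
  classical
  have key : ∀ n : ℕ, ∀ j, MvPolynomial.homogeneousComponent n (c j) = 0 := by
    intro n
    induction n using Nat.strong_induction_on with
    | _ n ih =>
      -- the remainders
      have hr : ∀ j, MvPolynomial.aeval (R := k) u
          (c j - MvPolynomial.homogeneousComponent n (c j)) ∈
          Ideal.span (Set.range u) ^ (n + 1) := by
        intro j
        apply aeval_mem_pow
        intro α hα
        rw [MvPolynomial.coeff_sub, MvPolynomial.coeff_homogeneousComponent]
        by_cases hαn : α.degree = n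
        · rw [if_pos hαn, sub_self]
        · rw [if_neg hαn, sub_zero]
          have hlt : α.degree < n := by omega
          have h1 := ih α.degree hlt j
          have h2 := congrArg (MvPolynomial.coeff α) h1
          rw [MvPolynomial.coeff_homogeneousComponent, if_pos rfl, MvPolynomial.coeff_zero] at h2
          exact h2
      -- the form
      set P : MvPolynomial ι T := ∑ j, MvPolynomial.C (w j) *
        MvPolynomial.map (algebraMap k T) (MvPolynomial.homogeneousComponent n (c j)) with hP
      have hPhom : P.IsHomogeneous n := by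
        apply MvPolynomial.IsHomogeneous.sum
        intro j _
        apply MvPolynomial.IsHomogeneous.C_mul
        exact (MvPolynomial.homogeneousComponent_isHomogeneous n (c j)).map _
      have hPeval : MvPolynomial.eval u P = ∑ j,
          MvPolynomial.aeval (R := k) u (MvPolynomial.homogeneousComponent n (c j)) * w j := by
        rw [hP, map_sum]
        refine Finset.sum_congr rfl fun j _ => ?_
        rw [map_mul, MvPolynomial.eval_C, MvPolynomial.eval_map, MvPolynomial.aeval_def, mul_comm]
      have hPmem : MvPolynomial.eval u P ∈ Ideal.span (Set.range u) ^ (n + 1) := by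
        have h1 : MvPolynomial.eval u P = -∑ j, MvPolynomial.aeval (R := k) u
            (c j - MvPolynomial.homogeneousComponent n (c j)) * w j := by
          rw [hPeval, eq_neg_iff_add_eq_zero, ← Finset.sum_add_distrib, ← hc]
          refine Finset.sum_congr rfl fun j _ => ?_
          rw [map_sub]
          ring
        rw [h1]
        exact neg_mem (Ideal.sum_mem _ fun j _ => Ideal.mul_mem_right _ _ (hr j))
      have hcoef := hQR n P hPhom hPmem
      intro j
      ext α
      rw [MvPolynomial.coeff_zero]
      have h2 := hcoef α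
      have h3 : P.coeff α = ∑ j, (MvPolynomial.coeff α
          (MvPolynomial.homogeneousComponent n (c j))) • w j := by
        rw [hP, MvPolynomial.coeff_sum]
        refine Finset.sum_congr rfl fun j _ => ?_
        rw [MvPolynomial.coeff_C_mul, MvPolynomial.coeff_map, Algebra.smul_def, mul_comm]
      rw [h3] at h2
      exact congrFun (hli _ h2) j
  funext j
  rw [← MvPolynomial.sum_homogeneousComponent (c j)]
  exact Finset.sum_eq_zero fun n _ => key n j

/-- existence of homogeneous lifts of a `k`-basis of `T/(u)` -/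
theorem exists_homogeneous_basis_lift (I : Ideal T) [Module.Finite k (T ⧸ I)] :
    ∃ (κ : Type u) (_ : Fintype κ) (w : κ → T), (∀ j, ∃ n : ℤ, w j ∈ 𝒯 n) ∧
      (∀ a : κ → k, (∑ j, a j • w j) ∈ I → a = 0) ∧
      ∀ t : T, ∃ v ∈ Submodule.span k (Set.range w), t - v ∈ I := by
  classical
  obtain ⟨W, hWhom, hW⟩ := exists_finset_homogeneous 𝒯 I
  let π : T →ₗ[k] T ⧸ I := (Ideal.Quotient.mkₐ k I).toLinearMap
  have hπ : ∀ t, π t = Ideal.Quotient.mk I t := fun _ => rfl
  obtain ⟨b, hbS, hbspan, hbli⟩ := exists_linearIndependent k (π '' (W : Set T))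
  have hbfin : b.Finite := (W.finite_toSet.image π).subset hbS
  have hbft : Fintype b := hbfin.fintype
  have hpre : ∀ y : b, ∃ x ∈ W, π x = y := fun y => hbS y.2
  choose w hwW hwπ using hpre
  refine ⟨b, hbft, w, fun j => hWhom _ (hwW j), ?_, ?_⟩
  · intro a ha
    have h1 : π (∑ j, a j • w j) = 0 := by
      rw [hπ, Ideal.Quotient.eq_zero_iff_mem]; exact ha
    rw [map_sum] at h1
    have h2 : ∑ j : b, a j • (j : T ⧸ I) = 0 := by
      rw [← h1]
      refine Finset.sum_congr rfl fun j _ => ?_
      rw [map_smul, hwπ]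
    funext j
    exact (Fintype.linearIndependent_iff.1 hbli a h2) j
  · intro t
    obtain ⟨v₀, hv₀, hv₀t⟩ := hW t
    have h1 : π v₀ ∈ Submodule.span k b := by
      rw [hbspan, ← Submodule.map_span]
      exact ⟨v₀, hv₀, rfl⟩
    have h2 : Submodule.span k b ≤ Submodule.map π (Submodule.span k (Set.range w)) := by
      rw [Submodule.span_le]
      intro y hy
      exact ⟨w ⟨y, hy⟩, Submodule.subset_span ⟨⟨y, hy⟩, rfl⟩, hwπ ⟨y, hy⟩⟩
    obtain ⟨v, hv, hvπ⟩ := h2 h1
    refine ⟨v, hv, ?_⟩
    have h3 : v₀ - v ∈ I := by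
      rw [← Ideal.Quotient.eq, ← hπ, ← hπ, hvπ]
    have : t - v = (t - v₀) + (v₀ - v) := by ring
    rw [this]
    exact add_mem hv₀t h3

/-- **Graded Cohen–Macaulay criterion.** A graded `k`-algebra with a homogeneous regular sequence
of positive degrees and finite-dimensional quotient is a Cohen–Macaulay ring. -/
theorem isCohenMacaulayRing_of_isWeaklyRegular {s : ℕ} (u : Fin s → T) (d : Fin s → ℕ)
    (hpos : ∀ n : ℤ, n < 0 → 𝒯 n = ⊥) (hd : ∀ i, 0 < d i)
    (hu : ∀ i, u i ∈ 𝒯 (d i : ℤ)) [Module.Finite k (T ⧸ Ideal.span (Set.range u))]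
    (hreg : RingTheory.Sequence.IsWeaklyRegular T (List.ofFn u)) :
    LocCoh.IsCohenMacaulayRing T := by
  classical
  obtain ⟨κ, hκ, w, hwhom, hli, hsp⟩ :=
    exists_homogeneous_basis_lift 𝒯 (Ideal.span (Set.range u))
  have hQR := Groth.Agent.Lib.helper11.QuasiReg.QR_of_isWeaklyRegular s u hreg
  have htop := span_range_aeval_eq_top 𝒯 u d hpos hd hu (Set.range w)
    (by rintro _ ⟨j, rfl⟩; exact hwhom j) hsp
  let alg : Algebra (MvPolynomial (Fin s) k) T := (MvPolynomial.aeval (R := k) u).toRingHom.toAlgebra
  have hsmul : ∀ (p : MvPolynomial (Fin s) k) (t : T), p • t = MvPolynomial.aeval (R := k) u p * t :=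
    fun p t => rfl
  let Φ : (κ → MvPolynomial (Fin s) k) →ₗ[MvPolynomial (Fin s) k] T :=
    Fintype.linearCombination (MvPolynomial (Fin s) k) w
  have hΦ : ∀ c, Φ c = ∑ j, MvPolynomial.aeval (R := k) u (c j) * w j := by
    intro c
    rw [Fintype.linearCombination_apply]
    rfl
  have hinj : Function.Injective Φ := by
    rw [← LinearMap.ker_eq_bot, LinearMap.ker_eq_bot']
    intro c hc
    rw [hΦ] at hc
    exact eq_zero_of_sum_aeval_mul_eq_zero u w hQR hli c hc
  have hsurj : Function.Surjective Φ := by
    intro t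
    have ht : t ∈ Submodule.span (MvPolynomial.aeval (R := k) u).range (Set.range w) := by
      rw [htop]; trivial
    rw [← LinearMap.mem_range]
    induction ht using Submodule.span_induction with
    | mem x hx =>
      obtain ⟨j, rfl⟩ := hx
      refine ⟨Pi.single j 1, ?_⟩
      rw [hΦ, Finset.sum_eq_single j]
      · rw [Pi.single_eq_same, map_one, one_mul]
      · intro i _ hij
        rw [Pi.single_eq_of_ne hij, map_zero, zero_mul]
      · intro h; exact absurd (Finset.mem_univ j) h
    | zero => exact zero_mem _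
    | add x y _ _ hx hy => exact add_mem hx hy
    | smul a x _ hx =>
      obtain ⟨p, hp⟩ := a.2
      have h1 : a • x = p • x := by
        rw [hsmul, Subalgebra.smul_def, smul_eq_mul]
        congr 1
        exact hp.symm
      rw [h1]
      exact Submodule.smul_mem _ _ hx
  let e : (κ → MvPolynomial (Fin s) k) ≃ₗ[MvPolynomial (Fin s) k] T :=
    LinearEquiv.ofBijective Φ ⟨hinj, hsurj⟩
  have hfree : Module.Free (MvPolynomial (Fin s) k) T := Module.Free.of_equiv e
  have hfin : Module.Finite (MvPolynomial (Fin s) k) T := Module.Finite.equiv e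
  have hflat : Module.Flat (MvPolynomial (Fin s) k) T := inferInstance
  have hk : LocCoh.IsCohenMacaulayRing k :=
    Groth.Agent.Lib.helper17.FieldCM.isCohenMacaulayRing_of_isArtinianRing k
  have hA : LocCoh.IsCohenMacaulayRing (MvPolynomial (Fin s) k) :=
    Groth.Agent.Lib.helper26.CMPoly.isCohenMacaulayRing_mvPolynomial k s
  exact Groth.Agent.Lib.helper17.FieldCM.isCohenMacaulayRing_of_finite_flat
    (MvPolynomial (Fin s) k) T

end Groth.Agent.Lib.helper26.Seg
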