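import Mathlib
import Groth.Agent.Lib.Helper26.Seg16
import Groth.Agent.Lib.Helper26.Seg18
import Groth.Agent.Lib.Helper26.Seg19
import Groth.Agent.Lib.Helper26.Seg20
import Groth.Agent.Lib.Helper26.Seg22

/-!
# Segre products with a one-dimensional Cohen–Macaulay factor (helper26)
-/

set_option autoImplicit false
set_option linter.unusedSectionVars false
universe u
open scoped TensorProduct

namespace Groth.Agent.Lib.helper26.Seg

section dimOne

variable {k : Type u} [Field k] {R : Type u} [CommRing R] [Algebra k R]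
  (𝒜 : ℤ → Submodule k R) [GradedAlgebra 𝒜] [Algebra.FiniteType k R]
  (hposR : ∀ n : ℤ, n < 0 → 𝒜 n = ⊥) (h0R : 𝒜 0 = Submodule.span k {(1 : R)})

include hposR h0R in
/-- in a one-dimensional graded algebra, the quotient by a homogeneous non-zero-divisor is
finite-dimensional -/
theorem finite_quotient_of_regular (hr : ringKrullDim R = 1) {x : R}
    (hxreg : IsSMulRegular R x) : Module.Finite k (R ⧸ Ideal.span {x}) := by
  apply finite_quotient_of_dim_le_zero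
  have h1 : x ∈ nonZeroDivisors R := by
    rw [mem_nonZeroDivisors_iff_right]
    intro z hz
    apply hxreg
    show x * z = x * 0
    rw [mul_zero, mul_comm]
    exact hz
  have h2 := ringKrullDim_quotient_succ_le_of_nonZeroDivisor h1
  rw [hr] at h2
  have h3 := le_pred_of_add_one_le (e := 1) (by exact_mod_cast h2)
  simpa using h3

include hposR h0R in
theorem exists_pow_irr_le_span (hr : ringKrullDim R = 1) {x : R} {D : ℤ} (hx : x ∈ 𝒜 D)
    (hxreg : IsSMulRegular R x) : ∃ N' : ℕ, irr 𝒜 ^ N' ≤ Ideal.span {x} := by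
  have hNoeth : IsNoetherianRing R := Algebra.FiniteType.isNoetherianRing k R
  have hfin := finite_quotient_of_regular 𝒜 hposR h0R hr hxreg
  have hhom : (Ideal.span {x}).IsHomogeneous 𝒜 := by
    apply Ideal.homogeneous_span
    rintro _ rfl
    exact ⟨_, hx⟩
  have h1 := irr_le_radical_of_finite_quotient 𝒜 (Ideal.span {x}) hhom
  exact Ideal.exists_pow_le_of_le_radical_of_fg h1 (IsNoetherian.noetherian _)

end dimOne

section segre

variable {k : Type u} [Field k] {R : Type u} [CommRing R] [Algebra k R]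
  (𝒜 : ℤ → Submodule k R) [GradedAlgebra 𝒜]
  {S : Type u} [CommRing S] [Algebra k S] (ℬ : ℤ → Submodule k S) [GradedAlgebra ℬ]
  {T : Type u} [CommRing T] [Algebra k T] (𝒯 : ℤ → Submodule k T) [GradedAlgebra 𝒯]
  (ψ : T →ₐ[k] R ⊗[k] S)
  (hdegT : ∀ n : ℤ, (𝒯 n).map ψ.toLinearMap =
    Submodule.span k {x : R ⊗[k] S | ∃ a ∈ 𝒜 n, ∃ b ∈ ℬ n, x = a ⊗ₜ[k] b})
  (hψ : Function.Injective ψ)
  [Algebra.FiniteType k R] [Algebra.FiniteType k S]
  (hposR : ∀ n : ℤ, n < 0 → 𝒜 n = ⊥) (h0R : 𝒜 0 = Submodule.span k {(1 : R)})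
  (hposS : ∀ n : ℤ, n < 0 → ℬ n = ⊥) (h0S : ℬ 0 = Submodule.span k {(1 : S)})

include hdegT hψ hposR h0R hposS h0S in
/-- **(iii), necessity.** -/
theorem forall_Hcomp_eq_bot_or_of_isCohenMacaulayRing
    [LocCoh.IsCohenMacaulayRing R] [LocCoh.IsCohenMacaulayRing S]
    (mR : HomogeneousIdeal 𝒜) (hmR : mR.toIdeal = irr 𝒜) (I : GrLC.StarInjRes 𝒜 𝒜)
    (hr : ringKrullDim R = 1) (s : ℕ) (hs : ringKrullDim S = s) (h2s : 2 ≤ s)
    (hCM : LocCoh.IsCohenMacaulayRing T) (n : ℤ) : I.Hcomp mR 1 n = ⊥ ∨ ℬ n = ⊥ := by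
  by_contra hcon
  push Not at hcon
  obtain ⟨hH, hB⟩ := hcon
  have hNR : Nontrivial R := by
    by_contra hne
    rw [not_nontrivial_iff_subsingleton] at hne
    rw [ringKrullDim_eq_bot_of_subsingleton] at hr
    exact absurd hr (by simp)
  have hNS : Nontrivial S := by
    by_contra hne
    rw [not_nontrivial_iff_subsingleton] at hne
    rw [ringKrullDim_eq_bot_of_subsingleton] at hs
    exact absurd hs (by simp)
  have hNoethR : IsNoetherianRing R := Algebra.FiniteType.isNoetherianRing k R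
  have hNoethS : IsNoetherianRing S := Algebra.FiniteType.isNoetherianRing k S
  have hdimT : ringKrullDim T = ((1 + s - 1 : ℕ) : WithBot ℕ∞) :=
    Groth.Agent.S18647.result k R 𝒜 hposR h0R S ℬ hposS h0S T 𝒯 ψ hψ hdegT 1 s
      (by rw [hr]; rfl) hs le_rfl (by omega)
  have hs' : 1 + s - 1 = s := by omega
  rw [hs'] at hdimT
  have hFT : Algebra.FiniteType k T := finiteType_segre 𝒜 ℬ 𝒯 ψ hdegT hψ hposR h0R hposS h0S
  have hposT := pieceT_eq_bot 𝒜 ℬ 𝒯 ψ hdegT hψ hposR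
  have h0T := pieceT_zero 𝒜 ℬ 𝒯 ψ hdegT hψ h0R h0S
  have hNT : Nontrivial T := by
    by_contra hne
    rw [not_nontrivial_iff_subsingleton] at hne
    rw [ringKrullDim_eq_bot_of_subsingleton] at hdimT
    exact absurd hdimT (by simp)
  have hhtT := height_irr 𝒯 hposT h0T s hdimT
  have hNoethT : IsNoetherianRing T := Algebra.FiniteType.isNoetherianRing k T
  have hdepthT : LocCoh.idealDepth (irr 𝒯) T = s := by
    rw [← hhtT]
    exact ((Groth.Agent.Lib.helper26.Depth.isCohenMacaulayRing_iff_idealDepth_eq_height T).1 hCM)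
      (irr 𝒯) (irr_ne_top 𝒯 hposT)
  have hdepthR : LocCoh.idealDepth (irr 𝒜) R = 1 := by
    have h1 := ((Groth.Agent.Lib.helper26.Depth.isCohenMacaulayRing_iff_idealDepth_eq_height R).1
      (inferInstance : LocCoh.IsCohenMacaulayRing R)) (irr 𝒜) (irr_ne_top 𝒜 hposR)
    rw [h1, height_irr 𝒜 hposR h0R 1 (by rw [hr]; rfl)]
    rfl
  have hdepthS : LocCoh.idealDepth (irr ℬ) S = s := by
    have h1 := ((Groth.Agent.Lib.helper26.Depth.isCohenMacaulayRing_iff_idealDepth_eq_height S).1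
      (inferInstance : LocCoh.IsCohenMacaulayRing S)) (irr ℬ) (irr_ne_top ℬ hposS)
    rw [h1, height_irr ℬ hposS h0S s hs]
  obtain ⟨D, hD, x, hx, hxreg⟩ := exists_homogeneous_regular 𝒜 hposR (by rw [hdepthR])
  obtain ⟨D', hD', y₀, hy₀, hy₀reg⟩ := exists_homogeneous_regular ℬ hposS (by
    rw [hdepthS]; exact_mod_cast (by omega : 1 ≤ s))
  have hxm : x ∈ mR.toIdeal := by
    rw [hmR]; exact mem_irr_of_mem 𝒜 (by exact_mod_cast hD) hx
  have hrad : ∀ N : ℕ, ∃ N' : ℕ, mR.toIdeal ^ N' ≤ Ideal.span {x ^ N} := by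
    intro N
    rw [hmR]
    exact exists_pow_irr_le_span 𝒜 hposR h0R hr (SetLike.pow_mem_graded N hx) (hxreg.pow N)
  obtain ⟨N, r, hrmem, hrx⟩ := exists_notMem_of_Hcomp_ne_bot 𝒜 mR I hx hxm hrad n hH
  obtain ⟨s₀, hs₀, hs₀ne⟩ := Submodule.exists_mem_ne_zero_of_ne_bot hB
  -- equalize the degrees
  have hNpos : 0 < N := by
    rcases Nat.eq_zero_or_pos N with h | h
    · exfalso
      apply hrx
      rw [h, pow_zero, Ideal.span_singleton_one]
      trivial
    · exact h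
  obtain ⟨q, rfl⟩ : ∃ q, D' = q + 1 := ⟨D' - 1, by omega⟩
  have hx₂ : x ^ (N * (q + 1)) ∈ 𝒜 ((N * D * (q + 1) : ℕ) : ℤ) := by
    have h1 : x ^ (N * (q + 1)) ∈ 𝒜 ((N * (q + 1)) • (D : ℤ)) := SetLike.pow_mem_graded _ hx
    have h2 : (N * (q + 1)) • (D : ℤ) = ((N * D * (q + 1) : ℕ) : ℤ) := by
      rw [nsmul_eq_mul]; push_cast; ring
    rwa [h2] at h1
  have hy₂ : y₀ ^ (N * D) ∈ ℬ ((N * D * (q + 1) : ℕ) : ℤ) := by
    have h1 : y₀ ^ (N * D) ∈ ℬ ((N * D) • ((q + 1 : ℕ) : ℤ)) := SetLike.pow_mem_graded _ hy₀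
    have h2 : (N * D) • ((q + 1 : ℕ) : ℤ) = ((N * D * (q + 1) : ℕ) : ℤ) := by
      rw [nsmul_eq_mul]; push_cast; ring
    rwa [h2] at h1
  have hr₂ : x ^ (N * q) * r ∈ 𝒜 (n + ((N * D * (q + 1) : ℕ) : ℤ)) := by
    have h1 : x ^ (N * q) ∈ 𝒜 ((N * q) • (D : ℤ)) := SetLike.pow_mem_graded _ hx
    have h2 := SetLike.mul_mem_graded h1 hrmem
    have h3 : (N * q) • (D : ℤ) + (n + (N : ℤ) * (D : ℤ)) = n + ((N * D * (q + 1) : ℕ) : ℤ) := by
      rw [nsmul_eq_mul]; push_cast; ring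
    rwa [h3] at h2
  have hr₂x : x ^ (N * q) * r ∉ Ideal.span {x ^ (N * (q + 1))} := by
    intro hmem
    obtain ⟨c, hc⟩ := Ideal.mem_span_singleton'.1 hmem
    apply hrx
    rw [Ideal.mem_span_singleton']
    refine ⟨c, ?_⟩
    apply (hxreg.pow (N * q))
    show x ^ (N * q) * (c * x ^ N) = x ^ (N * q) * r
    rw [← hc, mul_add, mul_one, pow_add]
    ring
  obtain ⟨N'', hN''⟩ := exists_pow_irr_le_span 𝒜 hposR h0R hr hx₂ (hxreg.pow (N * (q + 1)))
  have hone := idealDepth_irr_segre_eq_one' 𝒜 ℬ 𝒯 ψ hdegT hψ hposR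
    (Nat.mul_pos (Nat.mul_pos hNpos hD) (Nat.succ_pos q)) hx₂ (hxreg.pow _) hy₂ (hy₀reg.pow _)
    hr₂ hr₂x N'' hN'' hs₀ hs₀ne
  rw [hdepthT] at hone
  have : s = 1 := by exact_mod_cast hone
  omega

include hdegT hψ hposR h0R hposS h0S in
/-- **(iii), sufficiency.** -/
theorem isCohenMacaulayRing_of_forall_Hcomp_eq_bot_or
    [LocCoh.IsCohenMacaulayRing R] [LocCoh.IsCohenMacaulayRing S]
    (mR : HomogeneousIdeal 𝒜) (hmR : mR.toIdeal = irr 𝒜) (I : GrLC.StarInjRes 𝒜 𝒜)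
    (hr : ringKrullDim R = 1) (s : ℕ) (hs : ringKrullDim S = s)
    (hvan : ∀ n : ℤ, I.Hcomp mR 1 n = ⊥ ∨ ℬ n = ⊥) : LocCoh.IsCohenMacaulayRing T := by
  classical
  have hNR : Nontrivial R := by
    by_contra hne
    rw [not_nontrivial_iff_subsingleton] at hne
    rw [ringKrullDim_eq_bot_of_subsingleton] at hr
    exact absurd hr (by simp)
  have hNS : Nontrivial S := by
    by_contra hne
    rw [not_nontrivial_iff_subsingleton] at hne
    rw [ringKrullDim_eq_bot_of_subsingleton] at hs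
    exact absurd hs (by simp)
  have hNoethR : IsNoetherianRing R := Algebra.FiniteType.isNoetherianRing k R
  have hNoethS : IsNoetherianRing S := Algebra.FiniteType.isNoetherianRing k S
  have hFT : Algebra.FiniteType k T := finiteType_segre 𝒜 ℬ 𝒯 ψ hdegT hψ hposR h0R hposS h0S
  have hposT := pieceT_eq_bot 𝒜 ℬ 𝒯 ψ hdegT hψ hposR
  have hdepthR : LocCoh.idealDepth (irr 𝒜) R = 1 := by
    have h1 := ((Groth.Agent.Lib.helper26.Depth.isCohenMacaulayRing_iff_idealDepth_eq_height R).1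
      (inferInstance : LocCoh.IsCohenMacaulayRing R)) (irr 𝒜) (irr_ne_top 𝒜 hposR)
    rw [h1, height_irr 𝒜 hposR h0R 1 (by rw [hr]; rfl)]
    rfl
  obtain ⟨D, hD, x, hx, hxreg⟩ := exists_homogeneous_regular 𝒜 hposR (by rw [hdepthR])
  have hxm : x ∈ mR.toIdeal := by
    rw [hmR]; exact mem_irr_of_mem 𝒜 (by exact_mod_cast hD) hx
  have hrad : ∀ N : ℕ, ∃ N' : ℕ, mR.toIdeal ^ N' ≤ Ideal.span {x ^ N} := by
    intro N
    rw [hmR]
    exact exists_pow_irr_le_span 𝒜 hposR h0R hr (SetLike.pow_mem_graded N hx) (hxreg.pow N)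
  -- a homogeneous system of parameters of `S`
  obtain ⟨d, hd, y₀, hy₀, hfinS⟩ := exists_homogeneous_sop ℬ hposS h0S s hs.le
  have hfinS' := finite_quotient_pow ℬ hposS h0S y₀ hy₀ D
  have hy : ∀ j, (fun j => y₀ j ^ D) j ∈ ℬ ((d * D : ℕ) : ℤ) := pow_mem_piece ℬ y₀ hy₀ D
  set y : Fin s → S := fun j => y₀ j ^ D with hydef
  have hx' : x ^ d ∈ 𝒜 ((d * D : ℕ) : ℤ) := by
    have h1 : x ^ d ∈ 𝒜 (d • (D : ℤ)) := SetLike.pow_mem_graded d hx
    have h2 : d • (D : ℤ) = ((d * D : ℕ) : ℤ) := by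
      rw [nsmul_eq_mul]; push_cast; ring
    rwa [h2] at h1
  have he : 0 < d * D := Nat.mul_pos hd hD
  have hyhom : (Ideal.span (Set.range y)).IsHomogeneous ℬ := by
    apply Ideal.homogeneous_span
    rintro _ ⟨j, rfl⟩
    exact ⟨_, hy j⟩
  obtain ⟨N, hN⟩ := Ideal.exists_pow_le_of_le_radical_of_fg
    (irr_le_radical_of_finite_quotient ℬ (Ideal.span (Set.range y)) hyhom)
    (IsNoetherian.noetherian _)
  have hS := regular_of_sop ℬ hposS h0S s hs y (fun _ => d * D) (fun _ => he) hy N hN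
  -- the elements `t j`
  obtain ⟨t, ht1, ht⟩ := exists_t 𝒜 ℬ 𝒯 ψ hdegT (fun _ : Unit => x ^ d) y (fun _ => hx') hy
  have hfinR : Module.Finite k (R ⧸ Ideal.span (Set.range (fun _ : Unit => x ^ d))) := by
    rw [Set.range_const]
    exact finite_quotient_of_regular 𝒜 hposR h0R hr (hxreg.pow d)
  have hfinT := finite_quotient_span_t 𝒜 ℬ 𝒯 ψ hdegT hψ hposR h0R hposS h0S
    (fun _ : Unit => x ^ d) y (fun _ => hx') hy t ht
  set u : Fin s → T := fun j => t ((), j) with hudef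
  have hrange : Set.range u = Set.range t := by
    ext z
    constructor
    · rintro ⟨j, rfl⟩; exact ⟨((), j), rfl⟩
    · rintro ⟨⟨⟨⟩, j⟩, rfl⟩; exact ⟨j, rfl⟩
  have hfinU : Module.Finite k (T ⧸ Ideal.span (Set.range u)) := by
    rw [hrange]; exact hfinT
  -- the vanishing hypothesis
  have hH : ∀ n : ℤ, ℬ (n - ((d * D : ℕ) : ℤ)) ≠ ⊥ → ∀ a ∈ 𝒜 n, a ∈ Ideal.span {x ^ d} := by
    intro n hB a ha
    by_contra hna
    rcases hvan (n - ((d * D : ℕ) : ℤ)) with h | h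
    · refine Hcomp_ne_bot_of_notMem 𝒜 mR I hx hxm hxreg hrad (n - ((d * D : ℕ) : ℤ)) d a ?_ hna h
      have h3 : n - ((d * D : ℕ) : ℤ) + (d : ℤ) * (D : ℤ) = n := by push_cast; ring
      rw [h3]
      exact ha
    · exact hB h
  have hreg := segre_regular 𝒜 ℬ 𝒯 ψ hdegT hψ (hxreg.pow d) y hy hS u (fun j => ht1 ((), j))
    (fun j => ht ((), j)) hH
  exact isCohenMacaulayRing_of_isWeaklyRegular 𝒯 u (fun _ => d * D) hposT (fun _ => he)
    (fun j => ht1 ((), j)) ((isWeaklyRegular_ofFn_iff u).2 hreg)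

include hdegT hψ hposR h0R hposS h0S in
/-- **(iv)**: the Segre product of two one-dimensional graded Cohen–Macaulay algebras is
Cohen–Macaulay. -/
theorem isCohenMacaulayRing_segre_of_dim_one
    [LocCoh.IsCohenMacaulayRing R] [LocCoh.IsCohenMacaulayRing S]
    (hr : ringKrullDim R = 1) (hs : ringKrullDim S = 1) : LocCoh.IsCohenMacaulayRing T := by
  classical
  have hNR : Nontrivial R := by
    by_contra hne
    rw [not_nontrivial_iff_subsingleton] at hne
    rw [ringKrullDim_eq_bot_of_subsingleton] at hr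
    exact absurd hr (by simp)
  have hNS : Nontrivial S := by
    by_contra hne
    rw [not_nontrivial_iff_subsingleton] at hne
    rw [ringKrullDim_eq_bot_of_subsingleton] at hs
    exact absurd hs (by simp)
  have hNoethR : IsNoetherianRing R := Algebra.FiniteType.isNoetherianRing k R
  have hNoethS : IsNoetherianRing S := Algebra.FiniteType.isNoetherianRing k S
  have hdimT : ringKrullDim T = ((1 + 1 - 1 : ℕ) : WithBot ℕ∞) :=
    Groth.Agent.S18647.result k R 𝒜 hposR h0R S ℬ hposS h0S T 𝒯 ψ hψ hdegT 1 1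
      (by rw [hr]; rfl) (by rw [hs]; rfl) le_rfl le_rfl
  have hFT : Algebra.FiniteType k T := finiteType_segre 𝒜 ℬ 𝒯 ψ hdegT hψ hposR h0R hposS h0S
  have hposT := pieceT_eq_bot 𝒜 ℬ 𝒯 ψ hdegT hψ hposR
  have h0T := pieceT_zero 𝒜 ℬ 𝒯 ψ hdegT hψ h0R h0S
  have hdepthR : LocCoh.idealDepth (irr 𝒜) R = 1 := by
    have h1 := ((Groth.Agent.Lib.helper26.Depth.isCohenMacaulayRing_iff_idealDepth_eq_height R).1
      (inferInstance : LocCoh.IsCohenMacaulayRing R)) (irr 𝒜) (irr_ne_top 𝒜 hposR)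
    rw [h1, height_irr 𝒜 hposR h0R 1 (by rw [hr]; rfl)]
    rfl
  have hdepthS : LocCoh.idealDepth (irr ℬ) S = 1 := by
    have h1 := ((Groth.Agent.Lib.helper26.Depth.isCohenMacaulayRing_iff_idealDepth_eq_height S).1
      (inferInstance : LocCoh.IsCohenMacaulayRing S)) (irr ℬ) (irr_ne_top ℬ hposS)
    rw [h1, height_irr ℬ hposS h0S 1 (by rw [hs]; rfl)]
    rfl
  obtain ⟨D, hD, x, hx, hxreg⟩ := exists_homogeneous_regular 𝒜 hposR (by rw [hdepthR])
  obtain ⟨D', hD', y, hy, hyreg⟩ := exists_homogeneous_regular ℬ hposS (by rw [hdepthS])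
  have hx' : x ^ D' ∈ 𝒜 ((D * D' : ℕ) : ℤ) := by
    have h1 : x ^ D' ∈ 𝒜 (D' • (D : ℤ)) := SetLike.pow_mem_graded D' hx
    have h2 : D' • (D : ℤ) = ((D * D' : ℕ) : ℤ) := by
      rw [nsmul_eq_mul]; push_cast; ring
    rwa [h2] at h1
  have hy' : y ^ D ∈ ℬ ((D * D' : ℕ) : ℤ) := by
    have h1 : y ^ D ∈ ℬ (D • (D' : ℤ)) := SetLike.pow_mem_graded D hy
    have h2 : D • (D' : ℤ) = ((D * D' : ℕ) : ℤ) := by
      rw [nsmul_eq_mul]; push_cast; rfl
    rwa [h2] at h1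
  have he : 0 < D * D' := Nat.mul_pos hD hD'
  have ht' : (x ^ D') ⊗ₜ[k] (y ^ D) ∈ (𝒯 ((D * D' : ℕ) : ℤ)).map ψ.toLinearMap := by
    rw [hdegT]; exact Submodule.subset_span ⟨_, hx', _, hy', rfl⟩
  obtain ⟨t, htT, ht⟩ := ht'
  replace ht : ψ t = (x ^ D') ⊗ₜ[k] (y ^ D) := ht
  have htreg : IsSMulRegular T t :=
    isSMulRegular_of_map_eq_tmul ψ hψ ht (hxreg.pow D') (hyreg.pow D)
  have hfin : Module.Finite k (T ⧸ Ideal.span (Set.range (fun _ : Fin 1 => t))) := by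
    rw [Set.range_const]
    exact finite_quotient_of_regular 𝒯 hposT h0T (by rw [hdimT]; rfl) htreg
  refine isCohenMacaulayRing_of_isWeaklyRegular 𝒯 (fun _ : Fin 1 => t) (fun _ => D * D') hposT
    (fun _ => he) (fun _ => htT) ((isWeaklyRegular_ofFn_iff _).2 ?_)
  intro j z hz
  have hempty : (fun _ : Fin 1 => t) '' {i | i < j} = ∅ := by
    rw [Set.image_eq_empty]
    ext i
    simp only [Set.mem_ofPred_eq, Set.mem_empty_iff_false, iff_false, not_lt]
    exact Fin.le_of_eq (Subsingleton.elim _ _)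
  rw [hempty, Ideal.span_empty, Ideal.mem_bot] at hz ⊢
  apply htreg
  show t * z = t * 0
  rw [mul_zero]; exact hz

end segre

end Groth.Agent.Lib.helper26.Seg
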