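import Mathlib
import Groth.Agent.Lib.Helper26.GrCM7
import Groth.Agent.Lib.Helper26.GrCM8
import Groth.Agent.Lib.Helper26.Seg23

/-!
# Homogeneous parameters of graded Cohen–Macaulay modules (helper26)

* `finite_sup_of_regular`: `R/(Ann M + (x))` is finite-dimensional for `dim M = 1`, `x` regular;
* `exists_sop_mod`: homogeneous systems of parameters of a graded module, in one degree;
* `regular_of_sop_mod`: homogeneous systems of parameters of a graded Cohen–Macaulay module are
  regular sequences.
-/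

set_option autoImplicit false
set_option linter.unusedSectionVars false
universe u

namespace Groth.Agent.Lib.helper26.GrCM

open Groth.Agent.Lib.helper26.Seg RingTheory.Sequence

variable {k : Type u} [Field k] {R : Type u} [CommRing R] [Algebra k R]
  (𝒜 : ℤ → Submodule k R) [GradedAlgebra 𝒜]
  (hpos : ∀ n : ℤ, n < 0 → 𝒜 n = ⊥) (h0 : 𝒜 0 = Submodule.span k {(1 : R)})
  {M : Type u} [AddCommGroup M] [Module R M] [Module k M] [IsScalarTower k R M]
  (ℳ : ℤ → AddSubgroup M) [DirectSum.Decomposition ℳ] [SetLike.GradedSMul 𝒜 ℳ]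

section Quot

variable [Algebra.FiniteType k R] [Module.Finite R M]

include hpos h0 ℳ in
/-- `R/(Ann M + (x))` is finite-dimensional for `dim M = 1` and `x` regular on `M` -/
theorem finite_sup_of_regular (hd : Module.supportDim R M = 1) {x : R}
    (hxreg : IsSMulRegular M x) :
    Module.Finite k (R ⧸ (Module.annihilator R M ⊔ Ideal.span {x})) := by
  set I : HomogeneousIdeal 𝒜 := annH 𝒜 ℳ with hI
  have hItoIdeal : I.toIdeal = Module.annihilator R M := rfl
  have hposq : ∀ n : ℤ, n < 0 → qGr 𝒜 I n = ⊥ := fun n hn => qGr_eq_bot 𝒜 _ (hpos n hn)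
  have h0q := qGr_eq_span_one 𝒜 I h0
  have hdim : ringKrullDim (R ⧸ I.toIdeal) = 1 := by
    rw [← hd, Module.supportDim_eq_ringKrullDim_quotient_annihilator]
    rfl
  have hreg' : IsSMulRegular (R ⧸ I.toIdeal) (Ideal.Quotient.mk I.toIdeal x) := by
    rw [isSMulRegular_iff_right_eq_zero_of_smul]
    intro z hz
    obtain ⟨r, rfl⟩ := Ideal.Quotient.mk_surjective z
    rw [smul_eq_mul, ← map_mul, Ideal.Quotient.eq_zero_iff_mem, hItoIdeal,
      Module.mem_annihilator] at hz
    rw [Ideal.Quotient.eq_zero_iff_mem, hItoIdeal, Module.mem_annihilator]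
    intro m
    apply hxreg
    show x • (r • m) = x • 0
    rw [smul_zero, ← mul_smul]
    exact hz m
  have hfin := finite_quotient_of_regular (qGr 𝒜 I) hposq h0q hdim hreg'
  have e : Ideal.span {Ideal.Quotient.mk I.toIdeal x} =
      (Ideal.span {x}).map (Ideal.Quotient.mkₐ k I.toIdeal) := by
    rw [Ideal.map_span, Set.image_singleton]
    rfl
  rw [e] at hfin
  exact finite_quotient_sup_of_finite I.toIdeal (Ideal.span {x})

include hpos h0 ℳ in
/-- **Homogeneous systems of parameters of a graded module, in one degree.** -/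
theorem exists_sop_mod (s : ℕ) (hs : Module.supportDim R M = s) :
    ∃ (d : ℕ) (_ : 0 < d) (y : Fin s → R), (∀ i, y i ∈ 𝒜 (d : ℤ)) ∧
      ∀ D : ℕ, Module.Finite k
        (R ⧸ (Module.annihilator R M ⊔ Ideal.span (Set.range fun i => y i ^ D))) := by
  set I : HomogeneousIdeal 𝒜 := annH 𝒜 ℳ with hI
  have hItoIdeal : I.toIdeal = Module.annihilator R M := rfl
  have hposq : ∀ n : ℤ, n < 0 → qGr 𝒜 I n = ⊥ := fun n hn => qGr_eq_bot 𝒜 _ (hpos n hn)
  have h0q := qGr_eq_span_one 𝒜 I h0
  have hdim : ringKrullDim (R ⧸ I.toIdeal) = s := by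
    rw [← hs, Module.supportDim_eq_ringKrullDim_quotient_annihilator]
    rfl
  obtain ⟨d, hd, y', hy', hfin⟩ := exists_homogeneous_sop (qGr 𝒜 I) hposq h0q s hdim.le
  have hlift : ∀ i, ∃ a ∈ 𝒜 (d : ℤ), Ideal.Quotient.mk I.toIdeal a = y' i := fun i =>
    exists_of_mem_qGr 𝒜 I (hy' i)
  choose y hy hyy' using hlift
  refine ⟨d, hd, y, hy, fun D => ?_⟩
  have hfinD := finite_quotient_pow (qGr 𝒜 I) hposq h0q y' hy' D
  have e : Ideal.span (Set.range fun i => y' i ^ D) =
      (Ideal.span (Set.range fun i => y i ^ D)).map (Ideal.Quotient.mkₐ k I.toIdeal) := by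
    rw [Ideal.map_span, ← Set.range_comp]
    congr 2
    funext i
    rw [Function.comp_apply, map_pow, ← hyy' i]
    rfl
  rw [e] at hfinD
  exact finite_quotient_sup_of_finite I.toIdeal _

end Quot

section Sop

variable [Algebra.FiniteType k R] [Module.Finite R M] [Nontrivial M]

include hpos h0 ℳ in
/-- a homogeneous system of parameters of a graded Cohen–Macaulay module is a regular sequence in
the localization at the irrelevant ideal -/
theorem isWeaklyRegular_localization_mod [hp : (irr 𝒜).IsPrime]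
    (hCM : Subsingleton (LocalizedModule (irr 𝒜).primeCompl M) ∨
      LocCoh.IsCohenMacaulayModule (Localization.AtPrime (irr 𝒜))
        (LocalizedModule (irr 𝒜).primeCompl M))
    (s : ℕ) (hs : Module.supportDim R M = s) (y : Fin s → R) (hy : ∀ i, y i ∈ irr 𝒜)
    (K : ℕ) (hK : irr 𝒜 ^ K ≤ Module.annihilator R M ⊔ Ideal.span (Set.range y)) :
    IsWeaklyRegular (LocalizedModule (irr 𝒜).primeCompl M)
      ((List.ofFn y).map (algebraMap R (Localization.AtPrime (irr 𝒜)))) := by
  have hNoeth : IsNoetherianRing R := Algebra.FiniteType.isNoetherianRing k R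
  have h3 := le_supportDim_localization_irr 𝒜 hpos h0 ℳ s hs
  have hcm : LocCoh.IsCohenMacaulayModule (Localization.AtPrime (irr 𝒜))
      (LocalizedModule (irr 𝒜).primeCompl M) := by
    rcases hCM with hss | hcm
    · exfalso
      rw [Module.supportDim_eq_bot_of_subsingleton] at h3
      exact absurd h3 (by simp)
    · exact hcm
  have hnt : Nontrivial (LocalizedModule (irr 𝒜).primeCompl M) := by
    rw [← Module.supportDim_ne_bot_iff_nontrivial (Localization.AtPrime (irr 𝒜))]
    intro hbot
    rw [hbot] at h3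
    exact absurd h3 (by simp)
  set xs := (List.ofFn y).map (algebraMap R (Localization.AtPrime (irr 𝒜))) with hxs
  have hmem : ∀ x ∈ xs, x ∈ IsLocalRing.maximalIdeal (Localization.AtPrime (irr 𝒜)) := by
    intro x hx
    rw [hxs, List.mem_map] at hx
    obtain ⟨a, ha, rfl⟩ := hx
    rw [List.mem_ofFn] at ha
    obtain ⟨i, rfl⟩ := ha
    exact (IsLocalization.AtPrime.to_map_mem_maximal_iff _ (irr 𝒜) _).2 (hy i)
  have hlen : xs.length = s := by rw [hxs, List.length_map, List.length_ofFn]
  apply Groth.Agent.Lib.helper26.Depth.isWeaklyRegular_of_supportDim_quot_ofList xs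
    (LocalizedModule (irr 𝒜).primeCompl M) hcm hmem
  have e2 : Ideal.ofList xs =
      (Ideal.span (Set.range y)).map (algebraMap R (Localization.AtPrime (irr 𝒜))) := by
    rw [Ideal.map_span]
    unfold Ideal.ofList
    congr 1
    ext x
    simp [hxs, List.mem_ofFn]
  -- the quotient has dimension zero
  have hntQ := Groth.Agent.Lib.helper26.Depth.nontrivial_quot_ofList xs
    (LocalizedModule (irr 𝒜).primeCompl M) hmem
  have hzero : Module.supportDim (Localization.AtPrime (irr 𝒜))
      (LocalizedModule (irr 𝒜).primeCompl M ⧸ (Ideal.ofList xs • ⊤ :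
        Submodule (Localization.AtPrime (irr 𝒜)) (LocalizedModule (irr 𝒜).primeCompl M))) = 0 := by
    rw [Module.supportDim_eq_ringKrullDim_quotient_annihilator]
    apply ringKrullDim_quotient_eq_zero_of_pow_le _ _ K
    · rw [← Localization.AtPrime.map_eq_maximalIdeal, ← Ideal.map_pow]
      refine (Ideal.map_mono hK).trans ?_
      rw [Ideal.map_le_iff_le_comap]
      intro a ha
      rw [Ideal.mem_comap, Module.mem_annihilator]
      intro q
      obtain ⟨n', rfl⟩ := Submodule.Quotient.mk_surjective _ q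
      rw [← Submodule.Quotient.mk_smul, Submodule.Quotient.mk_eq_zero]
      obtain ⟨b, hb, c, hc, rfl⟩ := Submodule.mem_sup.1 ha
      rw [map_add, add_smul]
      refine add_mem ?_ ?_
      · have hz : algebraMap R (Localization.AtPrime (irr 𝒜)) b • n' = 0 := by
          induction n' using LocalizedModule.induction_on with
          | h m σ =>
            rw [algebraMap_smul, LocalizedModule.smul'_mk, Module.mem_annihilator.1 hb m,
              LocalizedModule.zero_mk]
        rw [hz]
        exact zero_mem _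
      · refine Submodule.smul_mem_smul ?_ Submodule.mem_top
        rw [e2]
        exact Ideal.mem_map_of_mem _ hc
    · intro htop
      have h1 : (1 : Localization.AtPrime (irr 𝒜)) ∈ Module.annihilator _
          (LocalizedModule (irr 𝒜).primeCompl M ⧸ (Ideal.ofList xs • ⊤ :
            Submodule (Localization.AtPrime (irr 𝒜)) (LocalizedModule (irr 𝒜).primeCompl M))) := by
        rw [htop]; trivial
      rw [Module.mem_annihilator] at h1
      obtain ⟨q, hq⟩ := exists_ne (0 : LocalizedModule (irr 𝒜).primeCompl M ⧸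
        (Ideal.ofList xs • ⊤ : Submodule (Localization.AtPrime (irr 𝒜))
          (LocalizedModule (irr 𝒜).primeCompl M)))
      exact hq (by simpa using h1 q)
  have hle := Groth.Agent.Lib.helper26.Depth.supportDim_le_supportDim_quot_ofList_add_length xs
    (LocalizedModule (irr 𝒜).primeCompl M) hmem
  rw [hzero, zero_add, hlen] at hle
  rw [hzero, zero_add, hlen]
  exact le_antisymm h3 hle

include hpos h0 ℳ in
/-- **Homogeneous systems of parameters of a graded Cohen–Macaulay module are regular
sequences.** -/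
theorem regular_of_sop_mod
    (hCM : ∀ [(irr 𝒜).IsPrime], Subsingleton (LocalizedModule (irr 𝒜).primeCompl M) ∨
      LocCoh.IsCohenMacaulayModule (Localization.AtPrime (irr 𝒜))
        (LocalizedModule (irr 𝒜).primeCompl M))
    (s : ℕ) (hs : Module.supportDim R M = s) (y : Fin s → R) (d : Fin s → ℕ) (hd : ∀ i, 0 < d i)
    (hy : ∀ i, y i ∈ 𝒜 (d i : ℤ))
    (K : ℕ) (hK : irr 𝒜 ^ K ≤ Module.annihilator R M ⊔ Ideal.span (Set.range y))
    (j : Fin s) (z : M)
    (h : y j • z ∈ Ideal.span (y '' ((Finset.Iio j : Finset (Fin s)) : Set (Fin s))) •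
      (⊤ : Submodule R M)) :
    z ∈ Ideal.span (y '' ((Finset.Iio j : Finset (Fin s)) : Set (Fin s))) •
      (⊤ : Submodule R M) := by
  classical
  have hntR : Nontrivial R := Module.nontrivial R M
  have hmax := irr_isMaximal 𝒜 hpos h0
  have hp : (irr 𝒜).IsPrime := hmax.isPrime
  set F : Finset (Fin s) := Finset.Iio j with hF
  set L : Submodule R M := Ideal.span (y '' (F : Set (Fin s))) • (⊤ : Submodule R M) with hL
  have hLhom : ∀ m ∈ L, ∀ n, cmp ℳ m n ∈ L := fun m hm n =>
    cmp_mem_span_image_smul_top 𝒜 ℳ y (fun i => (d i : ℤ)) hy F hm n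
  have hreg := isWeaklyRegular_localization_mod 𝒜 hpos h0 ℳ hCM s hs y
    (fun i => mem_irr_of_mem 𝒜 (by exact_mod_cast hd i) (hy i)) K hK
  rw [List.map_ofFn, isWeaklyRegular_ofFn_iff_mod] at hreg
  set f := LocalizedModule.mkLinearMap (irr 𝒜).primeCompl M with hf
  have hloc : Ideal.span ((algebraMap R (Localization.AtPrime (irr 𝒜)) ∘ y) '' (F : Set (Fin s))) •
      (⊤ : Submodule (Localization.AtPrime (irr 𝒜)) (LocalizedModule (irr 𝒜).primeCompl M)) =
      L.localized' (Localization.AtPrime (irr 𝒜)) (irr 𝒜).primeCompl f := by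
    rw [hL, Submodule.localized'_smul, Ideal.localized'_eq_map, Submodule.localized'_top,
      Ideal.map_span, Set.image_comp]
  -- homogeneous case
  have hhom : ∀ (i : ℤ) (w : M), w ∈ ℳ i → y j • w ∈ L → w ∈ L := by
    intro i w hw hyw
    have h1 := hreg j (f w) (by
      rw [hloc, Function.comp_apply, algebraMap_smul, ← map_smul]
      exact ⟨y j • w, hyw, 1, by rw [IsLocalizedModule.mk'_one]⟩)
    rw [hloc] at h1
    obtain ⟨m, hm, σ, hmσ⟩ := h1
    rw [IsLocalizedModule.mk'_eq_iff, Submonoid.smul_def, ← map_smul] at hmσ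
    obtain ⟨c, hc⟩ := IsLocalizedModule.exists_of_eq (S := (irr 𝒜).primeCompl) hmσ
    apply mem_of_smul_mem_of_notMem_irr 𝒜 hpos h0 ℳ L hLhom hw (σ := (c : R) * (σ : R))
    · exact (irr 𝒜).primeCompl.mul_mem c.2 σ.2
    · have : ((c : R) * (σ : R)) • w = c • m := by
        rw [hc, mul_smul]
        rfl
      rw [this]
      exact L.smul_mem _ hm
  -- general case
  rw [← sum_cmp ℳ z]
  refine Submodule.sum_mem _ fun n _ => ?_
  apply hhom n _ (cmp_mem ℳ z n)
  have h1 := hLhom _ h ((d j : ℤ) + n)
  rwa [cmp_smul' 𝒜 ℳ (hy j)] at h1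

end Sop

end Groth.Agent.Lib.helper26.GrCM
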