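import Mathlib
import Groth.Agent.Lib.Helper26.GrCM5
import Groth.Agent.Lib.Helper26.GrCM9
import Groth.Agent.Lib.Helper26.GrCM10
import Groth.Agent.Lib.Helper26.GrCM11

/-!
# Segre products of graded Cohen–Macaulay modules with a one-dimensional factor (helper26)
-/

set_option autoImplicit false
set_option linter.unusedSectionVars false
universe u
open scoped TensorProduct

namespace Groth.Agent.Lib.helper26.GrCM

open Groth.Agent.Lib.helper26.Seg RingTheory.Sequence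

section Aux

variable {k : Type u} [Field k] {R : Type u} [CommRing R] [Algebra k R]
  (𝒜 : ℤ → Submodule k R) [GradedAlgebra 𝒜]
  (hpos : ∀ n : ℤ, n < 0 → 𝒜 n = ⊥) (h0 : 𝒜 0 = Submodule.span k {(1 : R)})
  {M : Type u} [AddCommGroup M] [Module R M] [Module k M] [IsScalarTower k R M]
  (ℳ : ℤ → AddSubgroup M) [DirectSum.Decomposition ℳ] [SetLike.GradedSMul 𝒜 ℳ]

include ℳ in
/-- `R₊^K ⊆ Ann M + J` when `R/(Ann M + J)` is finite-dimensional, `J` homogeneous -/
theorem exists_pow_irr_le_sup [IsNoetherianRing R] (J : Ideal R) (hJ : J.IsHomogeneous 𝒜)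
    [Module.Finite k (R ⧸ (Module.annihilator R M ⊔ J))] :
    ∃ K : ℕ, irr 𝒜 ^ K ≤ Module.annihilator R M ⊔ J := by
  have hhom : (Module.annihilator R M ⊔ J).IsHomogeneous 𝒜 :=
    (annH 𝒜 ℳ).isHomogeneous.sup hJ
  have h1 := irr_le_radical_of_finite_quotient 𝒜 (Module.annihilator R M ⊔ J) hhom
  exact Ideal.exists_pow_le_of_le_radical_of_fg h1 (IsNoetherian.noetherian _)

theorem isHomogeneous_span_range {s : ℕ} (y : Fin s → R) (d : Fin s → ℤ)
    (hy : ∀ i, y i ∈ 𝒜 (d i)) : (Ideal.span (Set.range y)).IsHomogeneous 𝒜 := by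
  apply Ideal.homogeneous_span
  rintro _ ⟨i, rfl⟩
  exact ⟨_, hy i⟩

/-- pieces of large degree lie in `(y)M` -/
theorem exists_forall_mem_span_range_smul_top {s : ℕ} (y : Fin s → R) (d : Fin s → ℤ)
    (hy : ∀ i, y i ∈ 𝒜 (d i)) [Module.Finite R M]
    [Module.Finite k (R ⧸ (Module.annihilator R M ⊔ Ideal.span (Set.range y)))] :
    ∃ n₁ : ℤ, ∀ n : ℤ, n₁ < n → ∀ m ∈ ℳ n,
      m ∈ Ideal.span (Set.range y) • (⊤ : Submodule R M) := by
  have hfin : Module.Finite k (M ⧸ Ideal.span (Set.range y) • (⊤ : Submodule R M)) :=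
    finite_quotient_smul_top (Ideal.span (Set.range y))
  have hrt : Set.range y = y '' ((Finset.univ : Finset (Fin s)) : Set (Fin s)) := by
    rw [Finset.coe_univ, Set.image_univ]
  have hLhom : ∀ m ∈ Ideal.span (Set.range y) • (⊤ : Submodule R M), ∀ n,
      cmp ℳ m n ∈ Ideal.span (Set.range y) • (⊤ : Submodule R M) := by
    intro m hm n
    rw [hrt] at hm ⊢
    exact cmp_mem_span_image_smul_top 𝒜 ℳ y d hy Finset.univ hm n
  exact exists_forall_le_of_finite_quotient 𝒜 ℳ _ hLhom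

theorem mem_span_singleton_smul_top_iff (x : R) (m : M) :
    m ∈ Ideal.span {x} • (⊤ : Submodule R M) ↔ ∃ m' : M, x • m' = m := by
  rw [Submodule.ideal_span_singleton_smul, Submodule.mem_smul_pointwise_iff_exists]
  constructor
  · rintro ⟨m', -, h⟩; exact ⟨m', h⟩
  · rintro ⟨m', h⟩; exact ⟨m', trivial, h⟩

include hpos h0 ℳ in
/-- `R₊^K M ⊆ xM` for `dim M = 1` and `x` homogeneous regular on `M` -/
theorem exists_pow_irr_smul [Algebra.FiniteType k R] [Module.Finite R M]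
    (hd : Module.supportDim R M = 1) {x : R} {D : ℤ} (hx : x ∈ 𝒜 D) (hxreg : IsSMulRegular M x) :
    ∃ K : ℕ, ∀ a ∈ irr 𝒜 ^ K, ∀ m : M, ∃ m' : M, a • m = x • m' := by
  have hNoeth : IsNoetherianRing R := Algebra.FiniteType.isNoetherianRing k R
  have hfin := finite_sup_of_regular 𝒜 hpos h0 ℳ hd hxreg
  have hJ : (Ideal.span {x}).IsHomogeneous 𝒜 := by
    apply Ideal.homogeneous_span
    rintro _ rfl
    exact ⟨_, hx⟩
  obtain ⟨K, hK⟩ := exists_pow_irr_le_sup 𝒜 ℳ (Ideal.span {x}) hJ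
  refine ⟨K, fun a ha m => ?_⟩
  have h1 := smul_mem_of_mem_sup (Ideal.span {x}) (hK ha) m
  rw [mem_span_singleton_smul_top_iff] at h1
  obtain ⟨m', hm'⟩ := h1
  exact ⟨m', hm'.symm⟩

include hpos h0 ℳ in
/-- pieces of large degree lie in `xM`, for `dim M = 1` and `x` homogeneous regular on `M` -/
theorem exists_forall_exists_smul_eq [Algebra.FiniteType k R] [Module.Finite R M]
    (hd : Module.supportDim R M = 1) {x : R} {D : ℤ} (hx : x ∈ 𝒜 D) (hxreg : IsSMulRegular M x) :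
    ∃ n₁ : ℤ, ∀ n : ℤ, n₁ < n → ∀ m ∈ ℳ n, ∃ m' : M, x • m' = m := by
  have hfin := finite_sup_of_regular 𝒜 hpos h0 ℳ hd hxreg
  have hr : Set.range (fun _ : Fin 1 => x) = {x} := Set.range_const
  rw [← hr] at hfin
  obtain ⟨n₁, hn₁⟩ := exists_forall_mem_span_range_smul_top 𝒜 ℳ (fun _ : Fin 1 => x)
    (fun _ => D) (fun _ => hx)
  refine ⟨n₁, fun n hn m hm => ?_⟩
  have h1 := hn₁ n hn m hm
  rw [hr, mem_span_singleton_smul_top_iff] at h1
  exact h1

end Aux

end Groth.Agent.Lib.helper26.GrCM
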