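import Mathlib
import Groth.Agent.Lib.Helper26.GrCM12

/-!
# Segre products of graded Cohen–Macaulay modules with a one-dimensional factor: main theorems
(helper26)

`M` a finitely generated graded Cohen–Macaulay `R`-module of dimension `1`, `N` a finitely generated
graded Cohen–Macaulay `S`-module of dimension `s ≥ 1`, `P = M # N ≠ 0`.

* `isCohenMacaulayModule_segre_mod`: if `s = 1`, or `*H¹_𝔪(M)_d = 0 ∨ N_d = 0` for all `d`, then `P`
  is Cohen–Macaulay;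
* `forall_Hcomp_eq_bot_or_of_isCohenMacaulayModule`: if `s ≥ 2` and `P` is Cohen–Macaulay then
  `*H¹_𝔪(M)_d = 0 ∨ N_d = 0` for all `d`.
-/

set_option autoImplicit false
set_option linter.unusedSectionVars false
universe u
open scoped TensorProduct

namespace Groth.Agent.Lib.helper26.GrCM

open Groth.Agent.Lib.helper26.Seg RingTheory.Sequence

variable {k : Type u} [Field k] {R : Type u} [CommRing R] [Algebra k R]
  (𝒜 : ℤ → Submodule k R) [GradedAlgebra 𝒜] [Algebra.FiniteType k R]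
  (hposR : ∀ n : ℤ, n < 0 → 𝒜 n = ⊥) (h0R : 𝒜 0 = Submodule.span k {(1 : R)})
  {S : Type u} [CommRing S] [Algebra k S] (ℬ : ℤ → Submodule k S) [GradedAlgebra ℬ]
  [Algebra.FiniteType k S]
  (hposS : ∀ n : ℤ, n < 0 → ℬ n = ⊥) (h0S : ℬ 0 = Submodule.span k {(1 : S)})
  {T : Type u} [CommRing T] [Algebra k T] (𝒯 : ℤ → Submodule k T) [GradedAlgebra 𝒯]
  (ψ : T →ₐ[k] R ⊗[k] S)
  (hdegT : ∀ n : ℤ, (𝒯 n).map ψ.toLinearMap =
    Submodule.span k {x : R ⊗[k] S | ∃ a ∈ 𝒜 n, ∃ b ∈ ℬ n, x = a ⊗ₜ[k] b})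
  (hψ : Function.Injective ψ)
  {M : Type u} [AddCommGroup M] [Module R M] [Module k M] [IsScalarTower k R M]
  (ℳ : ℤ → AddSubgroup M) [DirectSum.Decomposition ℳ] [SetLike.GradedSMul 𝒜 ℳ]
  [Module.Finite R M]
  {N : Type u} [AddCommGroup N] [Module S N] [Module k N] [IsScalarTower k S N]
  (𝒩 : ℤ → AddSubgroup N) [DirectSum.Decomposition 𝒩] [SetLike.GradedSMul ℬ 𝒩]
  [Module.Finite S N]
  {P : Type u} [AddCommGroup P] [Module T P] [Module k P] [IsScalarTower k T P]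
  (𝒬 : ℤ → AddSubgroup P) [DirectSum.Decomposition 𝒬] [Module.Finite T P]
  (φ : P →ₗ[k] M ⊗[k] N) (hP : GrSeg.IsSegreMod ψ ℳ 𝒩 𝒬 φ)

include hP in
theorem nontrivial_left [Nontrivial P] : Nontrivial M := by
  by_contra hne
  rw [not_nontrivial_iff_subsingleton] at hne
  have hz : ∀ z : M ⊗[k] N, z = 0 := by
    intro z
    induction z using TensorProduct.induction_on with
    | zero => rfl
    | tmul m n => rw [Subsingleton.elim m 0, TensorProduct.zero_tmul]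
    | add a b ha hb => rw [ha, hb, add_zero]
  obtain ⟨p, hp⟩ := exists_ne (0 : P)
  exact hp (hP.injective (by rw [hz (φ p), map_zero]))

include hP in
theorem nontrivial_right [Nontrivial P] : Nontrivial N := by
  by_contra hne
  rw [not_nontrivial_iff_subsingleton] at hne
  have hz : ∀ z : M ⊗[k] N, z = 0 := by
    intro z
    induction z using TensorProduct.induction_on with
    | zero => rfl
    | tmul m n => rw [Subsingleton.elim n 0, TensorProduct.tmul_zero]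
    | add a b ha hb => rw [ha, hb, add_zero]
  obtain ⟨p, hp⟩ := exists_ne (0 : P)
  exact hp (hP.injective (by rw [hz (φ p), map_zero]))

include hposR h0R hposS h0S hdegT hψ hP in
/-- **Sufficiency.** -/
theorem isCohenMacaulayModule_segre_mod [Nontrivial P]
    (mR : HomogeneousIdeal 𝒜) (hmR : mR.toIdeal = irr 𝒜) (EM : GrLC.StarInjRes 𝒜 ℳ)
    (s : ℕ) (h1s : 1 ≤ s) (hdM : Module.supportDim R M = 1) (hdN : Module.supportDim S N = s)
    (hMcm : ∀ [(irr 𝒜).IsPrime], Subsingleton (LocalizedModule (irr 𝒜).primeCompl M) ∨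
      LocCoh.IsCohenMacaulayModule (Localization.AtPrime (irr 𝒜))
        (LocalizedModule (irr 𝒜).primeCompl M))
    (hNcm : ∀ [(irr ℬ).IsPrime], Subsingleton (LocalizedModule (irr ℬ).primeCompl N) ∨
      LocCoh.IsCohenMacaulayModule (Localization.AtPrime (irr ℬ))
        (LocalizedModule (irr ℬ).primeCompl N))
    (hvan : 2 ≤ s → ∀ d : ℤ, EM.Hcomp mR 1 d = ⊥ ∨ 𝒩 d = ⊥)
    (q : Ideal T) [q.IsPrime] :
    Subsingleton (LocalizedModule q.primeCompl P) ∨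
      LocCoh.IsCohenMacaulayModule (Localization.AtPrime q) (LocalizedModule q.primeCompl P) := by
  classical
  have hntM : Nontrivial M := nontrivial_left ψ ℳ 𝒩 𝒬 φ hP
  have hntN : Nontrivial N := nontrivial_right ψ ℳ 𝒩 𝒬 φ hP
  have hntR : Nontrivial R := Module.nontrivial R M
  have hntS : Nontrivial S := Module.nontrivial S N
  have hNoethR : IsNoetherianRing R := Algebra.FiniteType.isNoetherianRing k R
  have hNoethS : IsNoetherianRing S := Algebra.FiniteType.isNoetherianRing k S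
  have hFT : Algebra.FiniteType k T := finiteType_segre 𝒜 ℬ 𝒯 ψ hdegT hψ hposR h0R hposS h0S
  have hNoethT : IsNoetherianRing T := Algebra.FiniteType.isNoetherianRing k T
  have hposT := pieceT_eq_bot 𝒜 ℬ 𝒯 ψ hdegT hψ hposR
  have h0T := pieceT_zero 𝒜 ℬ 𝒯 ψ hdegT hψ h0R h0S
  have hpR : (irr 𝒜).IsPrime := (irr_isMaximal 𝒜 hposR h0R).isPrime
  have hpS : (irr ℬ).IsPrime := (irr_isMaximal ℬ hposS h0S).isPrime
  have hgs : SetLike.GradedSMul 𝒯 𝒬 := gradedSMul 𝒜 ℬ 𝒯 ψ ℳ 𝒩 𝒬 φ hP hdegT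
  have hbddM := exists_forall_lt_eq_bot 𝒜 hposR ℳ
  have hbddP := exists_forall_lt_eq_bot 𝒯 hposT 𝒬
  -- a homogeneous `M`-regular element
  have hdepthM := le_idealDepth_irr 𝒜 hposR h0R ℳ hMcm 1 hdM
  obtain ⟨D, hD, x, hx, hxreg⟩ := exists_homogeneous_regular_mod 𝒜 hposR ℳ hbddM
    (by exact_mod_cast hdepthM)
  have hxm : x ∈ mR.toIdeal := by
    rw [hmR]; exact mem_irr_of_mem 𝒜 (by exact_mod_cast hD) hx
  -- a homogeneous system of parameters of `N`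
  obtain ⟨d, hd, y₀, hy₀, hfinN⟩ := exists_sop_mod ℬ hposS h0S 𝒩 s hdN
  have hfinN' := hfinN D
  have hy : ∀ j, (fun j => y₀ j ^ D) j ∈ ℬ ((d * D : ℕ) : ℤ) := pow_mem_piece ℬ y₀ hy₀ D
  set y : Fin s → S := fun j => y₀ j ^ D with hydef
  have hx' : x ^ d ∈ 𝒜 ((d * D : ℕ) : ℤ) := by
    have h1 : x ^ d ∈ 𝒜 (d • (D : ℤ)) := SetLike.pow_mem_graded d hx
    have h2 : d • (D : ℤ) = ((d * D : ℕ) : ℤ) := by
      rw [nsmul_eq_mul]; push_cast; ring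
    rwa [h2] at h1
  have he : 0 < d * D := Nat.mul_pos hd hD
  obtain ⟨K, hK⟩ := exists_pow_irr_le_sup ℬ 𝒩 (Ideal.span (Set.range y))
    (isHomogeneous_span_range ℬ y (fun _ => ((d * D : ℕ) : ℤ)) hy)
  have hS := regular_of_sop_mod ℬ hposS h0S 𝒩 hNcm s hdN y (fun _ => d * D) (fun _ => he) hy K hK
  -- the elements `t j`
  obtain ⟨t, ht1, ht⟩ := exists_t 𝒜 ℬ 𝒯 ψ hdegT (fun _ : Unit => x ^ d) y (fun _ => hx') hy
  set u : Fin s → T := fun j => t ((), j) with hudef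
  have hu1 : ∀ j, u j ∈ 𝒯 ((d * D : ℕ) : ℤ) := fun j => ht1 ((), j)
  have hu2 : ∀ j, ψ (u j) = (x ^ d) ⊗ₜ[k] y j := fun j => ht ((), j)
  -- the vanishing hypothesis
  have hH : ∀ j : Fin s, (Finset.Iio j).Nonempty → ∀ n : ℤ, 𝒩 (n - ((d * D : ℕ) : ℤ)) ≠ ⊥ →
      ∀ a ∈ ℳ n, ∃ a' : M, x ^ d • a' = a := by
    intro j hj n hB a ha
    have h2s : 2 ≤ s := by
      obtain ⟨i, hi⟩ := hj
      rw [Finset.mem_Iio] at hi
      have h1 : (i : ℕ) < (j : ℕ) := hi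
      have h2 := j.2
      omega
    by_contra hna
    push Not at hna
    rcases hvan h2s (n - ((d * D : ℕ) : ℤ)) with h | h
    · obtain ⟨K', hK'⟩ := exists_pow_irr_smul 𝒜 hposR h0R ℳ hdM hx' (hxreg.pow d)
      refine Hcomp_ne_bot_of_notMem_mod 𝒜 mR ℳ EM hx hxm hxreg (n - ((d * D : ℕ) : ℤ)) d
        ⟨K', by rw [hmR]; exact hK'⟩ a ?_ hna h
      have h3 : n - ((d * D : ℕ) : ℤ) + (d : ℤ) * (D : ℤ) = n := by push_cast; ring
      rw [h3]
      exact ha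
    · exact hB h
  have hreg : IsWeaklyRegular P (List.ofFn u) := by
    rw [isWeaklyRegular_ofFn_iff_mod]
    intro j τ h
    exact segre_regular_mod 𝒜 ℬ 𝒯 ψ ℳ 𝒩 𝒬 φ hP hdegT hx' (hxreg.pow d) y hy hS u hu1 hu2 j
      (hH j) τ h
  -- finiteness of `P/(u)P`
  obtain ⟨n₁, hn₁⟩ := exists_forall_exists_smul_eq 𝒜 hposR h0R ℳ hdM hx' (hxreg.pow d)
  obtain ⟨n₂, hn₂⟩ := exists_forall_mem_span_range_smul_top ℬ 𝒩 y
    (fun _ => ((d * D : ℕ) : ℤ)) hy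
  have hfinP : Module.Finite k (P ⧸ Ideal.span (Set.range u) • (⊤ : Submodule T P)) := by
    apply finite_quotient_of_forall_le 𝒯 hposT h0T 𝒬 _ (max n₁ n₂)
    intro n hn p hp
    exact forall_mem_span_smul_top 𝒜 ℬ ψ ℳ 𝒩 𝒬 φ hP hx' y hy u hu2 n
      (hn₁ n (lt_of_le_of_lt (le_max_left _ _) hn)) (hn₂ n (lt_of_le_of_lt (le_max_right _ _) hn))
      p hp
  exact isCohenMacaulayModule_of_isWeaklyRegular 𝒯 𝒬 u (fun _ => d * D) hbddP (fun _ => he) hu1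
    hreg q

include hposR h0R hposS h0S hdegT hψ hP in
/-- **Necessity.** -/
theorem forall_Hcomp_eq_bot_or_of_isCohenMacaulayModule [Nontrivial P]
    (mR : HomogeneousIdeal 𝒜) (hmR : mR.toIdeal = irr 𝒜) (EM : GrLC.StarInjRes 𝒜 ℳ)
    (s : ℕ) (h2s : 2 ≤ s) (hdM : Module.supportDim R M = 1) (hdN : Module.supportDim S N = s)
    (hdP : Module.supportDim T P = s)
    (hMcm : ∀ [(irr 𝒜).IsPrime], Subsingleton (LocalizedModule (irr 𝒜).primeCompl M) ∨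
      LocCoh.IsCohenMacaulayModule (Localization.AtPrime (irr 𝒜))
        (LocalizedModule (irr 𝒜).primeCompl M))
    (hNcm : ∀ [(irr ℬ).IsPrime], Subsingleton (LocalizedModule (irr ℬ).primeCompl N) ∨
      LocCoh.IsCohenMacaulayModule (Localization.AtPrime (irr ℬ))
        (LocalizedModule (irr ℬ).primeCompl N))
    (hPcm : ∀ [(irr 𝒯).IsPrime], Subsingleton (LocalizedModule (irr 𝒯).primeCompl P) ∨
      LocCoh.IsCohenMacaulayModule (Localization.AtPrime (irr 𝒯))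
        (LocalizedModule (irr 𝒯).primeCompl P))
    (n : ℤ) : EM.Hcomp mR 1 n = ⊥ ∨ 𝒩 n = ⊥ := by
  classical
  by_contra hcon
  push Not at hcon
  obtain ⟨hH, hB⟩ := hcon
  have hntM : Nontrivial M := nontrivial_left ψ ℳ 𝒩 𝒬 φ hP
  have hntN : Nontrivial N := nontrivial_right ψ ℳ 𝒩 𝒬 φ hP
  have hntR : Nontrivial R := Module.nontrivial R M
  have hntS : Nontrivial S := Module.nontrivial S N
  have hNoethR : IsNoetherianRing R := Algebra.FiniteType.isNoetherianRing k R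
  have hNoethS : IsNoetherianRing S := Algebra.FiniteType.isNoetherianRing k S
  have hFT : Algebra.FiniteType k T := finiteType_segre 𝒜 ℬ 𝒯 ψ hdegT hψ hposR h0R hposS h0S
  have hNoethT : IsNoetherianRing T := Algebra.FiniteType.isNoetherianRing k T
  have hposT := pieceT_eq_bot 𝒜 ℬ 𝒯 ψ hdegT hψ hposR
  have h0T := pieceT_zero 𝒜 ℬ 𝒯 ψ hdegT hψ h0R h0S
  have hntT : Nontrivial T := Module.nontrivial T P
  have hpR : (irr 𝒜).IsPrime := (irr_isMaximal 𝒜 hposR h0R).isPrime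
  have hpS : (irr ℬ).IsPrime := (irr_isMaximal ℬ hposS h0S).isPrime
  have hpT : (irr 𝒯).IsPrime := (irr_isMaximal 𝒯 hposT h0T).isPrime
  have hgs : SetLike.GradedSMul 𝒯 𝒬 := gradedSMul 𝒜 ℬ 𝒯 ψ ℳ 𝒩 𝒬 φ hP hdegT
  have hbddM := exists_forall_lt_eq_bot 𝒜 hposR ℳ
  have hbddN := exists_forall_lt_eq_bot ℬ hposS 𝒩
  have hbddP := exists_forall_lt_eq_bot 𝒯 hposT 𝒬
  -- homogeneous regular elements
  have hdepthM := le_idealDepth_irr 𝒜 hposR h0R ℳ hMcm 1 hdM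
  obtain ⟨D, hD, x, hx, hxreg⟩ := exists_homogeneous_regular_mod 𝒜 hposR ℳ hbddM
    (by exact_mod_cast hdepthM)
  have hdepthN := le_idealDepth_irr ℬ hposS h0S 𝒩 hNcm s hdN
  obtain ⟨D', hD', y₀, hy₀, hy₀reg⟩ := exists_homogeneous_regular_mod ℬ hposS 𝒩 hbddN
    (le_trans (by exact_mod_cast (by omega : 1 ≤ s)) hdepthN)
  have hxm : x ∈ mR.toIdeal := by
    rw [hmR]; exact mem_irr_of_mem 𝒜 (by exact_mod_cast hD) hx
  obtain ⟨N₀, μ, hμ, hμx⟩ := exists_notMem_of_Hcomp_ne_bot_mod 𝒜 mR ℳ EM hx hxm hxreg n hH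
  obtain ⟨ν, hν, hν0⟩ : ∃ ν ∈ 𝒩 n, ν ≠ 0 := by
    by_contra hcon
    push Not at hcon
    apply hB
    rw [eq_bot_iff]
    intro ν hν
    rw [AddSubgroup.mem_bot]
    exact hcon ν hν
  -- equalize the degrees
  have hNpos : 0 < N₀ := by
    rcases Nat.eq_zero_or_pos N₀ with h | h
    · exfalso
      apply hμx μ
      rw [h, pow_zero, one_smul]
    · exact h
  obtain ⟨q, rfl⟩ : ∃ q, D' = q + 1 := ⟨D' - 1, by omega⟩
  have hx₂ : x ^ (N₀ * (q + 1)) ∈ 𝒜 ((N₀ * D * (q + 1) : ℕ) : ℤ) := by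
    have h1 : x ^ (N₀ * (q + 1)) ∈ 𝒜 ((N₀ * (q + 1)) • (D : ℤ)) := SetLike.pow_mem_graded _ hx
    have h2 : (N₀ * (q + 1)) • (D : ℤ) = ((N₀ * D * (q + 1) : ℕ) : ℤ) := by
      rw [nsmul_eq_mul]; push_cast; ring
    rwa [h2] at h1
  have hy₂ : y₀ ^ (N₀ * D) ∈ ℬ ((N₀ * D * (q + 1) : ℕ) : ℤ) := by
    have h1 : y₀ ^ (N₀ * D) ∈ ℬ ((N₀ * D) • ((q + 1 : ℕ) : ℤ)) := SetLike.pow_mem_graded _ hy₀
    have h2 : (N₀ * D) • ((q + 1 : ℕ) : ℤ) = ((N₀ * D * (q + 1) : ℕ) : ℤ) := by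
      rw [nsmul_eq_mul]; push_cast; ring
    rwa [h2] at h1
  have hμ₂ : x ^ (N₀ * q) • μ ∈ ℳ (n + ((N₀ * D * (q + 1) : ℕ) : ℤ)) := by
    have h1 : x ^ (N₀ * q) ∈ 𝒜 ((N₀ * q) • (D : ℤ)) := SetLike.pow_mem_graded _ hx
    have h2 := smul_mem 𝒜 ℳ h1 hμ
    have h3 : (N₀ * q) • (D : ℤ) + (n + (N₀ : ℤ) * (D : ℤ)) =
        n + ((N₀ * D * (q + 1) : ℕ) : ℤ) := by
      rw [nsmul_eq_mul]; push_cast; ring
    rwa [h3] at h2
  have hμ₂x : ∀ ρ : M, x ^ (N₀ * (q + 1)) • ρ ≠ x ^ (N₀ * q) • μ := by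
    intro ρ hρ
    apply hμx ρ
    apply (hxreg.pow (N₀ * q))
    show x ^ (N₀ * q) • (x ^ N₀ • ρ) = x ^ (N₀ * q) • μ
    rw [← hρ, ← mul_smul, ← pow_add]
    congr 2
  obtain ⟨K, hK⟩ := exists_pow_irr_smul 𝒜 hposR h0R ℳ hdM hx₂ (hxreg.pow (N₀ * (q + 1)))
  have hJP := irr_smul_top_ne_top 𝒯 hposT 𝒬 hbddP
  have hone := idealDepth_irr_segre_mod_eq_one 𝒜 ℬ 𝒯 ψ ℳ 𝒩 𝒬 φ hP hdegT hJP
    (Nat.mul_pos (Nat.mul_pos hNpos hD) (Nat.succ_pos q)) hx₂ (hxreg.pow _) hy₂ (hy₀reg.pow _)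
    hμ₂ hμ₂x K hK hν hν0
  have hge := le_idealDepth_irr 𝒯 hposT h0T 𝒬 hPcm s hdP
  rw [hone] at hge
  have : s ≤ 1 := by exact_mod_cast hge
  omega

end Groth.Agent.Lib.helper26.GrCM
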