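import Mathlib
import Groth.Agent.Lib.Helper26.GrCM13
import Groth.Agent.Lib.Helper26.Depth5
import Groth.Agent.Lib.Helper26.DepthLoc
import Groth.Agent.Lib.Helper26.FinRestr2

/-!
# Graded Cohen–Macaulay criterion via the depth of the irrelevant ideal (helper26)

`isCohenMacaulayModule_of_le_idealDepth` : a finitely generated graded module `P` over a graded
ring `T` defined over a field with `dim P ≤ depth_{T₊} P` is Cohen–Macaulay (at every prime).
-/

set_option autoImplicit false
set_option linter.unusedSectionVars false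
universe u
open scoped TensorProduct

namespace Groth.Agent.Lib.helper26.GrCM

open Groth.Agent.Lib.helper26.Seg RingTheory.Sequence

variable {k : Type u} [Field k] {T : Type u} [CommRing T] [Algebra k T]
  (𝒯 : ℤ → Submodule k T) [GradedAlgebra 𝒯] [Algebra.FiniteType k T]
  (hpos : ∀ n : ℤ, n < 0 → 𝒯 n = ⊥) (h0 : 𝒯 0 = Submodule.span k {(1 : T)})
  {P : Type u} [AddCommGroup P] [Module T P] [Module k P] [IsScalarTower k T P]
  (𝒬 : ℤ → AddSubgroup P) [DirectSum.Decomposition 𝒬] [SetLike.GradedSMul 𝒯 𝒬]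
  [Module.Finite T P] [Nontrivial P]

include hpos h0 𝒬 in
/-- `P_{T₊}` is Cohen–Macaulay when `dim P ≤ depth_{T₊} P` -/
theorem isCohenMacaulayModule_localization_irr_of_le_idealDepth [hp : (irr 𝒯).IsPrime]
    (n : ℕ) (hn : Module.supportDim T P = n)
    (hdepth : (n : ℕ∞) ≤ LocCoh.idealDepth (irr 𝒯) P) :
    LocCoh.IsCohenMacaulayModule (Localization.AtPrime (irr 𝒯))
      (LocalizedModule (irr 𝒯).primeCompl P) := by
  have hNoeth : IsNoetherianRing T := Algebra.FiniteType.isNoetherianRing k T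
  have h3 := le_supportDim_localization_irr 𝒯 hpos h0 𝒬 n hn
  have hnt : Nontrivial (LocalizedModule (irr 𝒯).primeCompl P) := by
    rw [← Module.supportDim_ne_bot_iff_nontrivial (Localization.AtPrime (irr 𝒯))]
    intro hbot
    rw [hbot] at h3
    exact absurd h3 (by simp)
  have hsupp : (⟨irr 𝒯, hp⟩ : PrimeSpectrum T) ∈ Module.support T P :=
    Module.mem_support_iff.2 hnt
  have hle : Module.supportDim (Localization.AtPrime (irr 𝒯))
      (LocalizedModule (irr 𝒯).primeCompl P) ≤ (n : WithBot ℕ∞) := by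
    rw [Groth.Agent.Lib.helper26.FinRestr.supportDim_localization_eq_height P (irr 𝒯) hsupp, ← hn]
    unfold Module.supportDim
    exact Order.height_le_krullDim _
  have h4 := Groth.Agent.Lib.helper26.Depth.idealDepth_le_depth_localization (irr 𝒯) P (irr 𝒯)
    le_rfl
  have h5 := Groth.Agent.Lib.helper26.Depth.depth_le_supportDim
    (A := Localization.AtPrime (irr 𝒯)) (LocalizedModule (irr 𝒯).primeCompl P)
  unfold LocCoh.IsCohenMacaulayModule
  apply le_antisymm
  · refine hle.trans ?_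
    exact_mod_cast hdepth.trans h4
  · exact h5

include hpos h0 𝒬 in
/-- **Graded Cohen–Macaulay criterion via depth.** -/
theorem isCohenMacaulayModule_of_le_idealDepth
    (n : ℕ) (hn : Module.supportDim T P = n)
    (hdepth : (n : ℕ∞) ≤ LocCoh.idealDepth (irr 𝒯) P) (q : Ideal T) [q.IsPrime] :
    Subsingleton (LocalizedModule q.primeCompl P) ∨
      LocCoh.IsCohenMacaulayModule (Localization.AtPrime q) (LocalizedModule q.primeCompl P) := by
  classical
  have hNoeth : IsNoetherianRing T := Algebra.FiniteType.isNoetherianRing k T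
  have hntT : Nontrivial T := Module.nontrivial T P
  have hp : (irr 𝒯).IsPrime := (irr_isMaximal 𝒯 hpos h0).isPrime
  have hCM : ∀ [(irr 𝒯).IsPrime], Subsingleton (LocalizedModule (irr 𝒯).primeCompl P) ∨
      LocCoh.IsCohenMacaulayModule (Localization.AtPrime (irr 𝒯))
        (LocalizedModule (irr 𝒯).primeCompl P) := fun {_} =>
    Or.inr (isCohenMacaulayModule_localization_irr_of_le_idealDepth 𝒯 hpos h0 𝒬 n hn hdepth)
  have hbdd := exists_forall_lt_eq_bot 𝒯 hpos 𝒬
  obtain ⟨d, hd, y₀, hy₀, hfin⟩ := exists_sop_mod 𝒯 hpos h0 𝒬 n hn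
  have hfin1 := hfin 1
  have hy : ∀ j, (fun j => y₀ j ^ 1) j ∈ 𝒯 ((d * 1 : ℕ) : ℤ) := pow_mem_piece 𝒯 y₀ hy₀ 1
  set y : Fin n → T := fun j => y₀ j ^ 1 with hydef
  have he : 0 < d * 1 := Nat.mul_pos hd Nat.one_pos
  obtain ⟨K, hK⟩ := exists_pow_irr_le_sup 𝒯 𝒬 (Ideal.span (Set.range y))
    (isHomogeneous_span_range 𝒯 y (fun _ => ((d * 1 : ℕ) : ℤ)) hy)
  have hS := regular_of_sop_mod 𝒯 hpos h0 𝒬 hCM n hn y (fun _ => d * 1) (fun _ => he) hy K hK
  have hreg : IsWeaklyRegular P (List.ofFn y) := by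
    rw [isWeaklyRegular_ofFn_iff_mod]
    exact hS
  have hfinP : Module.Finite k (P ⧸ Ideal.span (Set.range y) • (⊤ : Submodule T P)) :=
    finite_quotient_smul_top (Ideal.span (Set.range y))
  exact isCohenMacaulayModule_of_isWeaklyRegular 𝒯 𝒬 y (fun _ => d * 1) hbdd (fun _ => he) hy
    hreg q

end Groth.Agent.Lib.helper26.GrCM
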