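import Mathlib

/-!
# Subquotients (helper26)

`Hq Z B = Z / (B ∩ Z)` for submodules `Z`, `B` of a module, with criteria for linear equivalences
between such subquotients (used for the cohomology of complexes given by explicit cocycle and
coboundary submodules).
-/

set_option autoImplicit false
set_option linter.unusedSectionVars false
universe u

namespace Groth.Agent.Lib.helper26.Kun

section Hq

variable {k : Type*} [Ring k] {V : Type*} [AddCommGroup V] [Module k V]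

/-- the subquotient `Z / (B ∩ Z)` -/
abbrev Hq (Z B : Submodule k V) : Type _ := ↥Z ⧸ B.comap Z.subtype

variable (Z B : Submodule k V)

/-- the class map -/
def Hq.mk : ↥Z →ₗ[k] Hq Z B := (B.comap Z.subtype).mkQ

theorem Hq.mk_surjective : Function.Surjective (Hq.mk Z B) := Submodule.mkQ_surjective _

variable {Z B}

theorem Hq.mk_eq_zero_iff (z : ↥Z) : Hq.mk Z B z = 0 ↔ (z : V) ∈ B := by
  unfold Hq.mk
  rw [Submodule.mkQ_apply, Submodule.Quotient.mk_eq_zero]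
  rfl

theorem Hq.mk_eq_iff (z w : ↥Z) : Hq.mk Z B z = Hq.mk Z B w ↔ (z : V) - w ∈ B := by
  rw [← sub_eq_zero, ← map_sub, Hq.mk_eq_zero_iff]
  rfl

theorem Hq.subsingleton_of_le (h : Z ≤ B) : Subsingleton (Hq Z B) := by
  refine ⟨fun x y => ?_⟩
  obtain ⟨z, rfl⟩ := Hq.mk_surjective Z B x
  obtain ⟨w, rfl⟩ := Hq.mk_surjective Z B y
  rw [Hq.mk_eq_iff]
  exact h (Z.sub_mem z.2 w.2)

theorem Hq.le_of_subsingleton (h : Subsingleton (Hq Z B)) : Z ≤ B := by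
  intro z hz
  have h1 : Hq.mk Z B ⟨z, hz⟩ = 0 := Subsingleton.elim _ _
  exact (Hq.mk_eq_zero_iff _).1 h1

/-- a surjective linear map out of `Z` with kernel `B ∩ Z` identifies the subquotient -/
noncomputable def Hq.equivOfSurjective {W : Type*} [AddCommGroup W] [Module k W]
    (f : ↥Z →ₗ[k] W) (hf : Function.Surjective f) (hker : ∀ z : ↥Z, f z = 0 ↔ (z : V) ∈ B) :
    Hq Z B ≃ₗ[k] W :=
  (Submodule.quotEquivOfEq _ _ (by
    ext z
    rw [LinearMap.mem_ker, hker]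
    rfl)).trans (LinearMap.quotKerEquivOfSurjective f hf)

theorem Hq.equivOfSurjective_mk {W : Type*} [AddCommGroup W] [Module k W]
    (f : ↥Z →ₗ[k] W) (hf : Function.Surjective f) (hker : ∀ z : ↥Z, f z = 0 ↔ (z : V) ∈ B)
    (z : ↥Z) : Hq.equivOfSurjective f hf hker (Hq.mk Z B z) = f z := rfl

/-- two subquotients related by a correspondence are isomorphic -/
theorem Hq.nonempty_equiv_of_corr {V' : Type*} [AddCommGroup V'] [Module k V']
    {Z' B' : Submodule k V'} {P : Type*} [AddCommGroup P] [Module k P]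
    (a : P →ₗ[k] V) (b : P →ₗ[k] V') (ha : ∀ t, a t ∈ Z) (hb : ∀ t, b t ∈ Z')
    (hsa : ∀ z ∈ Z, ∃ t, a t - z ∈ B) (hsb : ∀ z' ∈ Z', ∃ t, b t - z' ∈ B')
    (hker : ∀ t, a t ∈ B ↔ b t ∈ B') : Nonempty (Hq Z B ≃ₗ[k] Hq Z' B') := by
  let pa : P →ₗ[k] Hq Z B := Hq.mk Z B ∘ₗ a.codRestrict Z ha
  let pb : P →ₗ[k] Hq Z' B' := Hq.mk Z' B' ∘ₗ b.codRestrict Z' hb
  have hpa : Function.Surjective pa := by
    intro x
    obtain ⟨z, rfl⟩ := Hq.mk_surjective Z B x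
    obtain ⟨t, ht⟩ := hsa z.1 z.2
    refine ⟨t, ?_⟩
    show Hq.mk Z B (a.codRestrict Z ha t) = Hq.mk Z B z
    rw [Hq.mk_eq_iff]
    exact ht
  have hpb : Function.Surjective pb := by
    intro x
    obtain ⟨z, rfl⟩ := Hq.mk_surjective Z' B' x
    obtain ⟨t, ht⟩ := hsb z.1 z.2
    refine ⟨t, ?_⟩
    show Hq.mk Z' B' (b.codRestrict Z' hb t) = Hq.mk Z' B' z
    rw [Hq.mk_eq_iff]
    exact ht
  have hk : LinearMap.ker pa = LinearMap.ker pb := by
    ext t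
    rw [LinearMap.mem_ker, LinearMap.mem_ker]
    show Hq.mk Z B (a.codRestrict Z ha t) = 0 ↔ Hq.mk Z' B' (b.codRestrict Z' hb t) = 0
    rw [Hq.mk_eq_zero_iff, Hq.mk_eq_zero_iff]
    exact hker t
  exact ⟨(LinearMap.quotKerEquivOfSurjective pa hpa).symm ≪≫ₗ
    (Submodule.quotEquivOfEq _ _ hk) ≪≫ₗ (LinearMap.quotKerEquivOfSurjective pb hpb)⟩

/-- a linear map inducing an isomorphism of subquotients -/
theorem Hq.nonempty_equiv_of_map {V' : Type*} [AddCommGroup V'] [Module k V']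
    {Z' B' : Submodule k V'} (f : V →ₗ[k] V') (hZ : ∀ z ∈ Z, f z ∈ Z')
    (hs : ∀ z' ∈ Z', ∃ z ∈ Z, f z - z' ∈ B')
    (hker : ∀ z ∈ Z, (z ∈ B ↔ f z ∈ B')) : Nonempty (Hq Z B ≃ₗ[k] Hq Z' B') := by
  refine Hq.nonempty_equiv_of_corr (P := ↥Z) Z.subtype (f ∘ₗ Z.subtype) (fun t => t.2)
    (fun t => hZ t.1 t.2) (fun z hz => ⟨⟨z, hz⟩, ?_⟩) (fun z' hz' => ?_) (fun t => hker t.1 t.2)
  · show z - z ∈ B
    rw [sub_self]
    exact zero_mem _
  · obtain ⟨z, hz, h⟩ := hs z' hz'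
    exact ⟨⟨z, hz⟩, h⟩

end Hq

end Groth.Agent.Lib.helper26.Kun
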