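import Mathlib
import Groth.Agent.Lib.Helper26.KunA

/-!
# Complexes of vector spaces contract onto their cohomology (helper26)

For a cochain complex `(X n, d n)` of vector spaces (indexed by `ℕ`), `exists_contr` gives maps
`α n : X n → H^n`, `β n : H^n → X n` and a homotopy `S n : X (n+1) → X n` with `d β = 0`, `α d = 0`,
`α β = 1` and `β α = 1 - d S - S d`.
-/

set_option autoImplicit false
set_option linter.unusedSectionVars false
universe u

namespace Groth.Agent.Lib.helper26.Kun

section Ginv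

variable {k : Type*} [Field k] {V W : Type*} [AddCommGroup V] [Module k V] [AddCommGroup W]
  [Module k W]

/-- a reflexive generalized inverse of a linear map of vector spaces -/
theorem exists_ginv (f : V →ₗ[k] W) :
    ∃ g : W →ₗ[k] V, (∀ x, f (g (f x)) = f x) ∧ (∀ y, g (f (g y)) = g y) := by
  obtain ⟨σ, hσ⟩ := LinearMap.exists_rightInverse_of_surjective f.rangeRestrict
    (LinearMap.range_rangeRestrict f)
  obtain ⟨π, hπ⟩ := LinearMap.exists_leftInverse_of_injective (LinearMap.range f).subtype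
    (Submodule.ker_subtype _)
  have hσ' : ∀ y : ↥(LinearMap.range f), f (σ y) = y := by
    intro y
    have := LinearMap.congr_fun hσ y
    exact congrArg Subtype.val this
  have hπ' : ∀ y : ↥(LinearMap.range f), π (y : W) = y := fun y => LinearMap.congr_fun hπ y
  refine ⟨σ ∘ₗ π, fun x => ?_, fun y => ?_⟩
  · rw [LinearMap.comp_apply, hσ']
    have h1 := hπ' ⟨f x, LinearMap.mem_range_self f x⟩
    rw [h1]
  · rw [LinearMap.comp_apply, LinearMap.comp_apply, hσ', hπ']

end Ginv

section Complex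

variable {k : Type u} [Field k] (X : ℕ → Type u) [∀ n, AddCommGroup (X n)] [∀ n, Module k (X n)]
  (d : ∀ n, X n →ₗ[k] X (n + 1))

/-- the coboundaries -/
def bd : (n : ℕ) → Submodule k (X n)
  | 0 => ⊥
  | n + 1 => LinearMap.range (d n)

@[simp] theorem bd_zero : bd X d 0 = ⊥ := rfl
@[simp] theorem bd_succ (n : ℕ) : bd X d (n + 1) = LinearMap.range (d n) := rfl

/-- the cohomology -/
abbrev HC (n : ℕ) : Type u := Hq (LinearMap.ker (d n)) (bd X d n)

/-- contraction data of a complex onto a graded vector space `U` -/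
structure IsContr {U : ℕ → Type u} [∀ n, AddCommGroup (U n)] [∀ n, Module k (U n)]
    (α : ∀ n, X n →ₗ[k] U n) (β : ∀ n, U n →ₗ[k] X n) (S : ∀ n, X (n + 1) →ₗ[k] X n) : Prop where
  d_β : ∀ n u, d n (β n u) = 0
  α_d : ∀ n x, α (n + 1) (d n x) = 0
  α_β : ∀ n u, α n (β n u) = u
  htpy_zero : ∀ x, β 0 (α 0 x) = x - S 0 (d 0 x)
  htpy_succ : ∀ n x, β (n + 1) (α (n + 1) x) = x - d n (S n x) - S (n + 1) (d (n + 1) x)

variable {X d}

/-- contraction data identify the cohomology -/
theorem IsContr.nonempty_equiv {U : ℕ → Type u} [∀ n, AddCommGroup (U n)] [∀ n, Module k (U n)]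
    {α : ∀ n, X n →ₗ[k] U n} {β : ∀ n, U n →ₗ[k] X n} {S : ∀ n, X (n + 1) →ₗ[k] X n}
    (h : IsContr X d α β S) (n : ℕ) : Nonempty (HC X d n ≃ₗ[k] U n) := by
  refine ⟨Hq.equivOfSurjective (α n ∘ₗ (LinearMap.ker (d n)).subtype) (fun u => ?_) (fun z => ?_)⟩
  · exact ⟨⟨β n u, h.d_β n u⟩, h.α_β n u⟩
  · have hz : d n z.1 = 0 := z.2
    show α n z.1 = 0 ↔ _
    constructor
    · intro h0
      cases n with
      | zero =>
        have h1 := h.htpy_zero z.1
        rw [h0, hz, map_zero, map_zero, sub_zero] at h1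
        rw [← h1]
        exact zero_mem _
      | succ n =>
        have h1 := h.htpy_succ n z.1
        rw [h0, hz, map_zero, map_zero, sub_zero] at h1
        have h2 : z.1 = d n (S n z.1) := by
          rw [eq_comm, sub_eq_zero] at h1
          exact h1
        rw [h2]
        exact ⟨_, rfl⟩
    · intro hb
      cases n with
      | zero =>
        have h1 : z.1 = 0 := hb
        rw [h1, map_zero]
      | succ n =>
        obtain ⟨y, hy⟩ := hb
        rw [← hy, h.α_d]

theorem exists_contr (hd : ∀ n x, d (n + 1) (d n x) = 0) :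
    ∃ (α : ∀ n, X n →ₗ[k] HC X d n) (β : ∀ n, HC X d n →ₗ[k] X n)
      (S : ∀ n, X (n + 1) →ₗ[k] X n), IsContr X d α β S := by
  have hg : ∀ n, ∃ g : X (n + 1) →ₗ[k] X n,
      (∀ x, d n (g (d n x)) = d n x) ∧ (∀ y, g (d n (g y)) = g y) := fun n => exists_ginv (d n)
  choose g hg1 hg2 using hg
  let s : ∀ n, X (n + 1) →ₗ[k] X n := fun n => g n ∘ₗ (LinearMap.id - g (n + 1) ∘ₗ d (n + 1))
  have hs : ∀ n x, s n x = g n (x - g (n + 1) (d (n + 1) x)) := fun n x => rfl
  have hdsd : ∀ n x, d n (s n (d n x)) = d n x := by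
    intro n x
    rw [hs, hd, map_zero, sub_zero, hg1]
  have hss : ∀ n x, s n (s (n + 1) x) = 0 := by
    intro n x
    rw [hs n, hs (n + 1), hg2, sub_self, map_zero]
  let h : ∀ n, X n →ₗ[k] X n := fun n =>
    match n with
    | 0 => LinearMap.id - s 0 ∘ₗ d 0
    | n + 1 => LinearMap.id - d n ∘ₗ s n - s (n + 1) ∘ₗ d (n + 1)
  have h0 : ∀ x, h 0 x = x - s 0 (d 0 x) := fun x => rfl
  have hS : ∀ n x, h (n + 1) x = x - d n (s n x) - s (n + 1) (d (n + 1) x) := fun n x => rfl
  have hdh : ∀ n x, d n (h n x) = 0 := by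
    intro n x
    cases n with
    | zero => rw [h0, map_sub, hdsd, sub_self]
    | succ n => rw [hS, map_sub, map_sub, hd, hdsd, sub_zero, sub_self]
  have hhd : ∀ n x, h (n + 1) (d n x) = 0 := by
    intro n x
    rw [hS, hdsd, hd, map_zero, sub_self, sub_zero]
  have hhh : ∀ n x, h n (h n x) = h n x := by
    intro n x
    cases n with
    | zero =>
      rw [h0 (h 0 x), hdh, map_zero, sub_zero]
    | succ n =>
      rw [hS n (h (n + 1) x), hdh, map_zero, sub_zero, hS n x]
      simp only [map_sub, hdsd, hss, map_zero, sub_zero, sub_self]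
  have hhz : ∀ n (z : ↥(LinearMap.ker (d n))), h n z.1 - z.1 ∈ bd X d n := by
    intro n z
    have hz : d n z.1 = 0 := z.2
    cases n with
    | zero =>
      rw [h0, hz, map_zero, sub_zero, sub_self]
      exact zero_mem _
    | succ n =>
      rw [hS, hz, map_zero, sub_zero, sub_sub_cancel_left]
      exact ⟨-(s n z.1), by rw [map_neg]⟩
  let α : ∀ n, X n →ₗ[k] HC X d n := fun n =>
    Hq.mk (LinearMap.ker (d n)) (bd X d n) ∘ₗ (h n).codRestrict (LinearMap.ker (d n)) (hdh n)
  have hβ : ∀ n, (bd X d n).comap (LinearMap.ker (d n)).subtype ≤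
      LinearMap.ker (h n ∘ₗ (LinearMap.ker (d n)).subtype) := by
    intro n z hz
    rw [LinearMap.mem_ker, LinearMap.comp_apply]
    have hz' : z.1 ∈ bd X d n := hz
    cases n with
    | zero =>
      have : z.1 = 0 := hz'
      show h 0 z.1 = 0
      rw [this, map_zero]
    | succ n =>
      obtain ⟨y, hy⟩ := hz'
      show h (n + 1) z.1 = 0
      rw [← hy, hhd]
  let β : ∀ n, HC X d n →ₗ[k] X n := fun n =>
    ((bd X d n).comap (LinearMap.ker (d n)).subtype).liftQ
      (h n ∘ₗ (LinearMap.ker (d n)).subtype) (hβ n)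
  have hβmk : ∀ n (z : ↥(LinearMap.ker (d n))),
      β n (Hq.mk (LinearMap.ker (d n)) (bd X d n) z) = h n z.1 := fun n z => rfl
  have hαx : ∀ n x, α n x = Hq.mk (LinearMap.ker (d n)) (bd X d n) ⟨h n x, hdh n x⟩ :=
    fun n x => rfl
  refine ⟨α, β, s, ⟨?_, ?_, ?_, ?_, ?_⟩⟩
  · intro n u
    obtain ⟨z, rfl⟩ := Hq.mk_surjective _ _ u
    rw [hβmk, hdh]
  · intro n x
    rw [hαx, Hq.mk_eq_zero_iff]
    show h (n + 1) (d n x) ∈ _
    rw [hhd]
    exact zero_mem _
  · intro n u
    obtain ⟨z, rfl⟩ := Hq.mk_surjective _ _ u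
    rw [hβmk, hαx, Hq.mk_eq_iff]
    show h n (h n z.1) - z.1 ∈ _
    rw [hhh]
    exact hhz n z
  · intro x
    rw [hαx, hβmk]
    exact (hhh 0 x).trans (h0 x)
  · intro n x
    rw [hαx, hβmk]
    exact (hhh (n + 1) x).trans (hS n x)

end Complex

end Groth.Agent.Lib.helper26.Kun
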