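import Mathlib

/-!
# Double complexes and their total complexes (helper26)

A first-quadrant double complex `V p q` with commuting differentials `dh`, `dv`.  The total
differential is defined on the "global" space `GT V = ∀ p q, V p q`; the total complex in degree `n`
is the finite product `Tot V n` over the antidiagonal, embedded in `GT V` by extension by zero.
-/

set_option autoImplicit false
set_option linter.unusedSectionVars false
universe u

namespace Groth.Agent.Lib.helper26.Kun

/-- the sign `(-1)^p` acting on an additive group -/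
def sg {M : Type*} [AddCommGroup M] (p : ℕ) (y : M) : M := ((-1 : ℤ) ^ p) • y

section Sg

variable {M N : Type*} [AddCommGroup M] [AddCommGroup N]

@[simp] theorem sg_zero (p : ℕ) : sg p (0 : M) = 0 := smul_zero _

theorem sg_add (p : ℕ) (y y' : M) : sg p (y + y') = sg p y + sg p y' := smul_add _ _ _

theorem sg_neg (p : ℕ) (y : M) : sg p (-y) = -sg p y := smul_neg _ _

theorem sg_sub (p : ℕ) (y y' : M) : sg p (y - y') = sg p y - sg p y' := smul_sub _ _ _

theorem sg_succ (p : ℕ) (y : M) : sg (p + 1) y = -sg p y := by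
  unfold sg
  rw [pow_succ, mul_neg_one, neg_smul]

@[simp] theorem sg_zero' (y : M) : sg 0 y = y := by
  unfold sg
  rw [pow_zero, one_smul]

@[simp] theorem sg_sg (p : ℕ) (y : M) : sg p (sg p y) = y := by
  unfold sg
  rw [smul_smul, ← pow_add, ← two_mul, pow_mul]
  norm_num

theorem map_sg {F : Type*} [FunLike F M N] [AddMonoidHomClass F M N] (f : F) (p : ℕ) (y : M) :
    f (sg p y) = sg p (f y) := map_zsmul f _ _

theorem sg_smul {A : Type*} [Semiring A] [Module A M] (p : ℕ) (a : A) (y : M) :
    sg p (a • y) = a • sg p y := by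
  unfold sg
  rw [smul_comm]

end Sg

section DC

variable {A : Type u} [CommRing A] (V : ℕ → ℕ → Type u) [∀ p q, AddCommGroup (V p q)]
  [∀ p q, Module A (V p q)]
  (dh : ∀ p q, V p q →ₗ[A] V (p + 1) q) (dv : ∀ p q, V p q →ₗ[A] V p (q + 1))

/-- the global space of a bigraded module -/
abbrev GT : Type u := ∀ p q, V p q

variable {V}

/-- horizontal differential on the global space -/
def dhFun (x : GT V) : GT V
  | 0, _ => 0
  | p + 1, q => dh p q (x p q)

/-- vertical differential (with sign) on the global space -/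
def dvFun (x : GT V) : GT V
  | _, 0 => 0
  | p, q + 1 => sg p (dv p q (x p q))

@[simp] theorem dhFun_zero (x : GT V) (q : ℕ) : dhFun dh x 0 q = 0 := rfl
@[simp] theorem dhFun_succ (x : GT V) (p q : ℕ) : dhFun dh x (p + 1) q = dh p q (x p q) := rfl
@[simp] theorem dvFun_zero (x : GT V) (p : ℕ) : dvFun dv x p 0 = 0 := by
  cases p <;> rfl
@[simp] theorem dvFun_succ (x : GT V) (p q : ℕ) :
    dvFun dv x p (q + 1) = sg p (dv p q (x p q)) := by
  cases p <;> rfl

/-- horizontal differential as a linear map -/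
def dhG : GT V →ₗ[A] GT V where
  toFun := dhFun dh
  map_add' x y := by
    funext p q
    cases p with
    | zero => simp
    | succ p => simp
  map_smul' a x := by
    funext p q
    cases p with
    | zero => simp
    | succ p => simp

/-- vertical differential as a linear map -/
def dvG : GT V →ₗ[A] GT V where
  toFun := dvFun dv
  map_add' x y := by
    funext p q
    cases q with
    | zero => simp
    | succ q => simp [sg_add]
  map_smul' a x := by
    funext p q
    cases q with
    | zero => simp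
    | succ q => simp [sg_smul]

@[simp] theorem dhG_zero (x : GT V) (q : ℕ) : dhG dh x 0 q = 0 := rfl
@[simp] theorem dhG_succ (x : GT V) (p q : ℕ) : dhG dh x (p + 1) q = dh p q (x p q) := rfl
@[simp] theorem dvG_zero (x : GT V) (p : ℕ) : dvG dv x p 0 = 0 := dvFun_zero dv x p
@[simp] theorem dvG_succ (x : GT V) (p q : ℕ) :
    dvG dv x p (q + 1) = sg p (dv p q (x p q)) := dvFun_succ dv x p q

/-- the total differential -/
def DG : GT V →ₗ[A] GT V := dhG dh + dvG dv

theorem DG_apply (x : GT V) (p q : ℕ) : DG dh dv x p q = dhG dh x p q + dvG dv x p q := rfl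

variable (hh : ∀ p q x, dh (p + 1) q (dh p q x) = 0) (hv : ∀ p q x, dv p (q + 1) (dv p q x) = 0)
  (hc : ∀ p q x, dv (p + 1) q (dh p q x) = dh p (q + 1) (dv p q x))

include hh in
theorem dhG_dhG (x : GT V) : dhG dh (dhG dh x) = 0 := by
  funext p q
  cases p with
  | zero => rfl
  | succ p =>
    cases p with
    | zero => simp
    | succ p => simp [hh]

include hv in
theorem dvG_dvG (x : GT V) : dvG dv (dvG dv x) = 0 := by
  funext p q
  cases q with
  | zero => simp
  | succ q =>
    cases q with
    | zero => simp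
    | succ q => simp [map_sg, hv]

include hc in
theorem dhG_dvG (x : GT V) : dhG dh (dvG dv x) + dvG dv (dhG dh x) = 0 := by
  funext p q
  cases p with
  | zero =>
    cases q with
    | zero => simp
    | succ q => simp
  | succ p =>
    cases q with
    | zero => simp
    | succ q => simp [map_sg, hc, sg_succ]

include hh hv hc in
theorem DG_DG (x : GT V) : DG dh dv (DG dh dv x) = 0 := by
  have h1 := dhG_dhG dh hh x
  have h2 := dvG_dvG dv hv x
  have h3 := dhG_dvG dh dv hc x
  unfold DG
  simp only [LinearMap.add_apply, map_add]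
  rw [h1, h2, zero_add, add_zero, add_comm]
  exact h3

/-- the elements of total degree `n` -/
def Tn (n : ℕ) : Submodule A (GT V) where
  carrier := {x | ∀ p q, p + q ≠ n → x p q = 0}
  zero_mem' := fun _ _ _ => rfl
  add_mem' := fun {x y} hx hy p q h => by
    show x p q + y p q = 0
    rw [hx p q h, hy p q h, add_zero]
  smul_mem' := fun a x hx p q h => by
    show a • x p q = 0
    rw [hx p q h, smul_zero]

theorem mem_Tn {n : ℕ} {x : GT V} : x ∈ Tn (A := A) n ↔ ∀ p q, p + q ≠ n → x p q = 0 := Iff.rfl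

theorem DG_mem_Tn {n : ℕ} {x : GT V} (hx : x ∈ Tn (A := A) n) :
    DG dh dv x ∈ Tn (A := A) (n + 1) := by
  intro p q hpq
  rw [DG_apply]
  have h1 : dhG dh x p q = 0 := by
    cases p with
    | zero => rfl
    | succ p =>
      rw [dhG_succ, hx p q (by omega), map_zero]
  have h2 : dvG dv x p q = 0 := by
    cases q with
    | zero => simp
    | succ q =>
      rw [dvG_succ, hx p q (by omega), map_zero, sg_zero]
  rw [h1, h2, add_zero]

end DC

/-- the antidiagonal as a type -/
abbrev AD (n : ℕ) : Type := {pq : ℕ × ℕ // pq.1 + pq.2 = n}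

instance (n : ℕ) : Fintype (AD n) :=
  Fintype.subtype (Finset.HasAntidiagonal.antidiagonal n)
    (fun pq => by rw [Finset.HasAntidiagonal.mem_antidiagonal])

section Tot

variable {A : Type u} [CommRing A] (V : ℕ → ℕ → Type u) [∀ p q, AddCommGroup (V p q)]
  [∀ p q, Module A (V p q)]

/-- the total module in degree `n` -/
abbrev Tot (n : ℕ) : Type u := ∀ pq : AD n, V pq.1.1 pq.1.2

variable {V}

/-- extension by zero -/
def iotaFun (n : ℕ) (x : Tot V n) : GT V := fun p q =>
  if h : p + q = n then x ⟨(p, q), h⟩ else 0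

theorem iotaFun_of_eq {n : ℕ} (x : Tot V n) {p q : ℕ} (h : p + q = n) :
    iotaFun n x p q = x ⟨(p, q), h⟩ := dif_pos h

theorem iotaFun_of_ne {n : ℕ} (x : Tot V n) {p q : ℕ} (h : p + q ≠ n) :
    iotaFun n x p q = 0 := dif_neg h

variable (A) in
/-- extension by zero, as a linear map -/
def iota (n : ℕ) : Tot V n →ₗ[A] GT V where
  toFun := iotaFun n
  map_add' x y := by
    funext p q
    by_cases h : p + q = n
    · show iotaFun n (x + y) p q = iotaFun n x p q + iotaFun n y p q
      rw [iotaFun_of_eq _ h, iotaFun_of_eq _ h, iotaFun_of_eq _ h]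
      rfl
    · show iotaFun n (x + y) p q = iotaFun n x p q + iotaFun n y p q
      rw [iotaFun_of_ne _ h, iotaFun_of_ne _ h, iotaFun_of_ne _ h, add_zero]
  map_smul' a x := by
    funext p q
    by_cases h : p + q = n
    · show iotaFun n (a • x) p q = a • iotaFun n x p q
      rw [iotaFun_of_eq _ h, iotaFun_of_eq _ h]
      rfl
    · show iotaFun n (a • x) p q = a • iotaFun n x p q
      rw [iotaFun_of_ne _ h, iotaFun_of_ne _ h, smul_zero]

theorem iota_of_eq {n : ℕ} (x : Tot V n) {p q : ℕ} (h : p + q = n) :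
    iota A n x p q = x ⟨(p, q), h⟩ := dif_pos h

theorem iota_of_ne {n : ℕ} (x : Tot V n) {p q : ℕ} (h : p + q ≠ n) :
    iota A n x p q = 0 := dif_neg h

theorem iota_apply' {n : ℕ} (x : Tot V n) (pq : AD n) : iota A n x pq.1.1 pq.1.2 = x pq :=
  iota_of_eq x pq.2

variable (A) in
/-- restriction to the antidiagonal -/
def rho (n : ℕ) : GT V →ₗ[A] Tot V n where
  toFun y := fun pq => y pq.1.1 pq.1.2
  map_add' _ _ := rfl
  map_smul' _ _ := rfl

@[simp] theorem rho_apply (n : ℕ) (y : GT V) (pq : AD n) : rho A n y pq = y pq.1.1 pq.1.2 := rfl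

@[simp] theorem rho_iota (n : ℕ) (x : Tot V n) : rho A n (iota A n x) = x := by
  funext pq
  rw [rho_apply, iota_apply']

theorem iota_mem_Tn (n : ℕ) (x : Tot V n) : iota A n x ∈ Tn (A := A) n :=
  fun _ _ h => iota_of_ne x h

theorem iota_rho {n : ℕ} {y : GT V} (hy : y ∈ Tn (A := A) n) : iota A n (rho A n y) = y := by
  funext p q
  by_cases h : p + q = n
  · rw [iota_of_eq _ h]
    rfl
  · rw [iota_of_ne _ h, hy p q h]

theorem iota_injective (n : ℕ) : Function.Injective (iota (V := V) A n) := by
  intro x y h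
  rw [← rho_iota (A := A) n x, h, rho_iota]

variable (dh : ∀ p q, V p q →ₗ[A] V (p + 1) q) (dv : ∀ p q, V p q →ₗ[A] V p (q + 1))

/-- the differential of the total complex -/
def totD (n : ℕ) : Tot V n →ₗ[A] Tot V (n + 1) := rho A (n + 1) ∘ₗ DG dh dv ∘ₗ iota A n

theorem iota_totD (n : ℕ) (x : Tot V n) :
    iota A (n + 1) (totD dh dv n x) = DG dh dv (iota A n x) :=
  iota_rho (DG_mem_Tn dh dv (iota_mem_Tn n x))

theorem totD_totD (hh : ∀ p q x, dh (p + 1) q (dh p q x) = 0)
    (hv : ∀ p q x, dv p (q + 1) (dv p q x) = 0)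
    (hc : ∀ p q x, dv (p + 1) q (dh p q x) = dh p (q + 1) (dv p q x)) (n : ℕ) (x : Tot V n) :
    totD dh dv (n + 1) (totD dh dv n x) = 0 := by
  apply iota_injective (A := A)
  rw [iota_totD, iota_totD, DG_DG dh dv hh hv hc, map_zero]

/-- the components of the total differential -/
theorem totD_apply_succ_succ (n : ℕ) (x : Tot V n) (p q : ℕ) (h : (p + 1) + (q + 1) = n + 1) :
    totD dh dv n x ⟨(p + 1, q + 1), h⟩ =
      dh p (q + 1) (x ⟨(p, q + 1), by omega⟩) + sg (p + 1) (dv (p + 1) q (x ⟨(p + 1, q), by omega⟩)) := by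
  show DG dh dv (iota A n x) (p + 1) (q + 1) = _
  rw [DG_apply, dhG_succ, dvG_succ, iota_of_eq x (by omega : p + (q + 1) = n),
    iota_of_eq x (by omega : (p + 1) + q = n)]

theorem totD_apply_zero_succ (n : ℕ) (x : Tot V n) (q : ℕ) (h : 0 + (q + 1) = n + 1) :
    totD dh dv n x ⟨(0, q + 1), h⟩ = dv 0 q (x ⟨(0, q), by omega⟩) := by
  show DG dh dv (iota A n x) 0 (q + 1) = _
  rw [DG_apply, dhG_zero, dvG_succ, iota_of_eq x (by omega : 0 + q = n), zero_add, sg_zero']

theorem totD_apply_succ_zero (n : ℕ) (x : Tot V n) (p : ℕ) (h : (p + 1) + 0 = n + 1) :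
    totD dh dv n x ⟨(p + 1, 0), h⟩ = dh p 0 (x ⟨(p, 0), by omega⟩) := by
  show DG dh dv (iota A n x) (p + 1) 0 = _
  rw [DG_apply, dhG_succ, dvG_zero, iota_of_eq x (by omega : p + 0 = n), add_zero]

end Tot

section Mor

variable {A : Type u} [CommRing A] {V : ℕ → ℕ → Type u} [∀ p q, AddCommGroup (V p q)]
  [∀ p q, Module A (V p q)]
  (dh : ∀ p q, V p q →ₗ[A] V (p + 1) q) (dv : ∀ p q, V p q →ₗ[A] V p (q + 1))
  {A' : Type u} [CommRing A'] {V' : ℕ → ℕ → Type u} [∀ p q, AddCommGroup (V' p q)]
  [∀ p q, Module A' (V' p q)]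
  (dh' : ∀ p q, V' p q →ₗ[A'] V' (p + 1) q) (dv' : ∀ p q, V' p q →ₗ[A'] V' p (q + 1))
  (θ : ∀ p q, V p q →+ V' p q)

/-- the map on global spaces induced by a bigraded additive map -/
def mapG : GT V →+ GT V' where
  toFun x := fun p q => θ p q (x p q)
  map_zero' := by
    funext p q
    exact map_zero _
  map_add' x y := by
    funext p q
    exact map_add _ _ _

@[simp] theorem mapG_apply (x : GT V) (p q : ℕ) : mapG θ x p q = θ p q (x p q) := rfl

theorem mapG_DG (hθh : ∀ p q x, θ (p + 1) q (dh p q x) = dh' p q (θ p q x))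
    (hθv : ∀ p q x, θ p (q + 1) (dv p q x) = dv' p q (θ p q x)) (x : GT V) :
    mapG θ (DG dh dv x) = DG dh' dv' (mapG θ x) := by
  funext p q
  rw [mapG_apply, DG_apply, DG_apply, map_add]
  congr 1
  · cases p with
    | zero => simp
    | succ p => simp [hθh]
  · cases q with
    | zero => simp
    | succ q => simp [hθv, map_sg]

theorem mapG_mem_Tn {n : ℕ} {x : GT V} (hx : x ∈ Tn (A := A) n) : mapG θ x ∈ Tn (A := A') n := by
  intro p q h
  rw [mapG_apply, hx p q h, map_zero]

end Mor

end Groth.Agent.Lib.helper26.Kun
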