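import Mathlib
import Groth.Agent.Lib.Helper26.KunA
import Groth.Agent.Lib.Helper26.KunB
import Groth.Agent.Lib.Helper26.KunC

/-!
# The Künneth formula for complexes of vector spaces (helper26)

For complexes `C`, `D` of `k`-vector spaces with contraction data onto `UC`, `UD`, the total complex
of `C ⊗ D` contracts onto `⊕_{p+q=n} UC p ⊗ UD q`.
-/

set_option autoImplicit false
set_option linter.unusedSectionVars false
universe u
open scoped TensorProduct

namespace Groth.Agent.Lib.helper26.Kun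

section TMapLemmas

variable {k : Type*} [CommRing k] {M N M' N' : Type*} [AddCommGroup M] [AddCommGroup N]
  [AddCommGroup M'] [AddCommGroup N'] [Module k M] [Module k N] [Module k M'] [Module k N']

theorem tmap_sub_right (f : M →ₗ[k] M') (g₁ g₂ : N →ₗ[k] N') (w : M ⊗[k] N) :
    TensorProduct.map f (g₁ - g₂) w = TensorProduct.map f g₁ w - TensorProduct.map f g₂ w := by
  have h : TensorProduct.map f g₁ = TensorProduct.map f (g₁ - g₂) + TensorProduct.map f g₂ := by
    rw [← TensorProduct.map_add_right, sub_add_cancel]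
  rw [h, LinearMap.add_apply, add_sub_cancel_right]

theorem tmap_sub_left (f₁ f₂ : M →ₗ[k] M') (g : N →ₗ[k] N') (w : M ⊗[k] N) :
    TensorProduct.map (f₁ - f₂) g w = TensorProduct.map f₁ g w - TensorProduct.map f₂ g w := by
  have h : TensorProduct.map f₁ g = TensorProduct.map (f₁ - f₂) g + TensorProduct.map f₂ g := by
    rw [← TensorProduct.map_add_left, sub_add_cancel]
  rw [h, LinearMap.add_apply, add_sub_cancel_right]

theorem tmap_id_id (w : M ⊗[k] N) :
    TensorProduct.map (LinearMap.id : M →ₗ[k] M) (LinearMap.id : N →ₗ[k] N) w = w := by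
  rw [TensorProduct.map_id, LinearMap.id_apply]

theorem tmap_zero_left (g : N →ₗ[k] N') (w : M ⊗[k] N) :
    TensorProduct.map (0 : M →ₗ[k] M') g w = 0 := by
  rw [TensorProduct.map_zero_left, LinearMap.zero_apply]

theorem tmap_zero_right (f : M →ₗ[k] M') (w : M ⊗[k] N) :
    TensorProduct.map f (0 : N →ₗ[k] N') w = 0 := by
  rw [TensorProduct.map_zero_right, LinearMap.zero_apply]

end TMapLemmas

section GOps

variable {A : Type u} [CommRing A] {V V' : ℕ → ℕ → Type u} [∀ p q, AddCommGroup (V p q)]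
  [∀ p q, Module A (V p q)] [∀ p q, AddCommGroup (V' p q)] [∀ p q, Module A (V' p q)]

/-- evaluation at `(p, q)` -/
def evG (p q : ℕ) : GT V →ₗ[A] V p q := LinearMap.proj q ∘ₗ LinearMap.proj p

@[simp] theorem evG_apply (p q : ℕ) (x : GT V) : evG (A := A) p q x = x p q := rfl

/-- a linear map into the global space from its components -/
def mkG (f : ∀ p q, GT V →ₗ[A] V' p q) : GT V →ₗ[A] GT V' :=
  LinearMap.pi fun p => LinearMap.pi fun q => f p q

@[simp] theorem mkG_apply (f : ∀ p q, GT V →ₗ[A] V' p q) (x : GT V) (p q : ℕ) :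
    mkG f x p q = f p q x := rfl

/-- the sign as a linear map -/
def sgL {M : Type*} [AddCommGroup M] [Module A M] (p : ℕ) : M →ₗ[A] M :=
  ((-1 : ℤ) ^ p) • LinearMap.id

@[simp] theorem sgL_apply {M : Type*} [AddCommGroup M] [Module A M] (p : ℕ) (y : M) :
    sgL (A := A) p y = sg p y := rfl

/-- cocycles of total degree `n` (global form) -/
def ZtG (Dm : GT V →ₗ[A] GT V) (n : ℕ) : Submodule A (GT V) := LinearMap.ker Dm ⊓ Tn n

/-- coboundaries of total degree `n` (global form) -/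
def BtG (Dm : GT V →ₗ[A] GT V) : (n : ℕ) → Submodule A (GT V)
  | 0 => ⊥
  | n + 1 => (Tn n).map Dm

@[simp] theorem BtG_zero (Dm : GT V →ₗ[A] GT V) : BtG Dm 0 = ⊥ := rfl
@[simp] theorem BtG_succ (Dm : GT V →ₗ[A] GT V) (n : ℕ) : BtG Dm (n + 1) = (Tn n).map Dm := rfl

theorem mem_ZtG {Dm : GT V →ₗ[A] GT V} {n : ℕ} {x : GT V} :
    x ∈ ZtG Dm n ↔ Dm x = 0 ∧ x ∈ Tn (A := A) n := Iff.rfl

end GOps

section Kunneth

variable {k : Type u} [Field k]
  {C : ℕ → Type u} [∀ p, AddCommGroup (C p)] [∀ p, Module k (C p)] (dC : ∀ p, C p →ₗ[k] C (p + 1))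
  {D : ℕ → Type u} [∀ q, AddCommGroup (D q)] [∀ q, Module k (D q)] (dD : ∀ q, D q →ₗ[k] D (q + 1))

variable (k C D) in
/-- the tensor product bigraded module -/
abbrev TV : ℕ → ℕ → Type u := fun p q => C p ⊗[k] D q

/-- horizontal differential of `C ⊗ D` -/
def tdh (p q : ℕ) : TV k C D p q →ₗ[k] TV k C D (p + 1) q :=
  TensorProduct.map (dC p) (LinearMap.id : D q →ₗ[k] D q)

/-- vertical differential of `C ⊗ D` (without sign) -/
def tdv (p q : ℕ) : TV k C D p q →ₗ[k] TV k C D p (q + 1) :=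
  TensorProduct.map (LinearMap.id : C p →ₗ[k] C p) (dD q)

theorem tdh_tdh (hdC : ∀ p x, dC (p + 1) (dC p x) = 0) (p q : ℕ) (x : TV k C D p q) :
    tdh (D := D) dC (p + 1) q (tdh dC p q x) = 0 := by
  unfold tdh
  rw [TensorProduct.map_map]
  have h : dC (p + 1) ∘ₗ dC p = 0 := LinearMap.ext fun x => hdC p x
  rw [h, tmap_zero_left]

theorem tdv_tdv (hdD : ∀ q x, dD (q + 1) (dD q x) = 0) (p q : ℕ) (x : TV k C D p q) :
    tdv (C := C) dD p (q + 1) (tdv dD p q x) = 0 := by
  unfold tdv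
  rw [TensorProduct.map_map]
  have h : dD (q + 1) ∘ₗ dD q = 0 := LinearMap.ext fun x => hdD q x
  rw [h, tmap_zero_right]

theorem tdv_tdh (p q : ℕ) (x : TV k C D p q) :
    tdv dD (p + 1) q (tdh dC p q x) = tdh dC p (q + 1) (tdv dD p q x) := by
  unfold tdv tdh
  rw [TensorProduct.map_map, TensorProduct.map_map]
  rfl

variable {UC : ℕ → Type u} [∀ p, AddCommGroup (UC p)] [∀ p, Module k (UC p)]
  {UD : ℕ → Type u} [∀ q, AddCommGroup (UD q)] [∀ q, Module k (UD q)]
  (αC : ∀ p, C p →ₗ[k] UC p) (βC : ∀ p, UC p →ₗ[k] C p) (SC : ∀ p, C (p + 1) →ₗ[k] C p)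
  (αD : ∀ q, D q →ₗ[k] UD q) (βD : ∀ q, UD q →ₗ[k] D q) (SD : ∀ q, D (q + 1) →ₗ[k] D q)

/-- vertical homotopy -/
def SvG : GT (TV k C D) →ₗ[k] GT (TV k C D) :=
  mkG fun p q => sgL p ∘ₗ TensorProduct.map (LinearMap.id : C p →ₗ[k] C p) (SD q) ∘ₗ evG p (q + 1)

/-- horizontal homotopy -/
def ShG : GT (TV k C D) →ₗ[k] GT (TV k C D) :=
  mkG fun p q => TensorProduct.map (SC p) (LinearMap.id : D q →ₗ[k] D q) ∘ₗ evG (p + 1) q

/-- vertical projector -/
def pvG : GT (TV k C D) →ₗ[k] GT (TV k C D) :=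
  mkG fun p q => TensorProduct.map (LinearMap.id : C p →ₗ[k] C p) (βD q ∘ₗ αD q) ∘ₗ evG p q

/-- horizontal projector -/
def phG : GT (TV k C D) →ₗ[k] GT (TV k C D) :=
  mkG fun p q => TensorProduct.map (βC p ∘ₗ αC p) (LinearMap.id : D q →ₗ[k] D q) ∘ₗ evG p q

/-- the projection onto the tensor product of the cohomologies -/
def aG : GT (TV k C D) →ₗ[k] GT (TV k UC UD) :=
  mkG fun p q => TensorProduct.map (αC p) (αD q) ∘ₗ evG p q

/-- the inclusion of the tensor product of the cohomologies -/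
def bG : GT (TV k UC UD) →ₗ[k] GT (TV k C D) :=
  mkG fun p q => TensorProduct.map (βC p) (βD q) ∘ₗ evG p q

@[simp] theorem SvG_apply (x : GT (TV k C D)) (p q : ℕ) :
    SvG SD x p q = sg p (TensorProduct.map (LinearMap.id : C p →ₗ[k] C p) (SD q) (x p (q + 1))) :=
  rfl

@[simp] theorem ShG_apply (x : GT (TV k C D)) (p q : ℕ) :
    ShG SC x p q = TensorProduct.map (SC p) (LinearMap.id : D q →ₗ[k] D q) (x (p + 1) q) := rfl

@[simp] theorem pvG_apply (x : GT (TV k C D)) (p q : ℕ) :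
    pvG αD βD x p q =
      TensorProduct.map (LinearMap.id : C p →ₗ[k] C p) (βD q ∘ₗ αD q) (x p q) := rfl

@[simp] theorem phG_apply (x : GT (TV k C D)) (p q : ℕ) :
    phG αC βC x p q =
      TensorProduct.map (βC p ∘ₗ αC p) (LinearMap.id : D q →ₗ[k] D q) (x p q) := rfl

@[simp] theorem aG_apply (x : GT (TV k C D)) (p q : ℕ) :
    aG αC αD x p q = TensorProduct.map (αC p) (αD q) (x p q) := rfl

@[simp] theorem bG_apply (u : GT (TV k UC UD)) (p q : ℕ) :
    bG βC βD u p q = TensorProduct.map (βC p) (βD q) (u p q) := rfl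

variable {dC dD αC βC SC αD βD SD}

section Identities

variable (hC : IsContr C dC αC βC SC) (hD : IsContr D dD αD βD SD)

include hD in
theorem dv_Sv (x : GT (TV k C D)) :
    dvG (tdv dD) (SvG SD x) + SvG SD (dvG (tdv dD) x) = x - pvG αD βD x := by
  funext p q
  show dvG (tdv dD) (SvG SD x) p q + SvG SD (dvG (tdv dD) x) p q = x p q - pvG αD βD x p q
  cases q with
  | zero =>
    rw [dvG_zero, SvG_apply, dvG_succ, zero_add, map_sg, sg_sg, pvG_apply]
    unfold tdv
    rw [TensorProduct.map_map, LinearMap.id_comp]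
    have h : βD 0 ∘ₗ αD 0 = LinearMap.id - SD 0 ∘ₗ dD 0 := LinearMap.ext fun y => hD.htpy_zero y
    rw [h, tmap_sub_right, tmap_id_id, sub_sub_cancel]
  | succ q =>
    rw [dvG_succ, SvG_apply, SvG_apply, dvG_succ, map_sg, sg_sg, map_sg, sg_sg, pvG_apply]
    unfold tdv
    rw [TensorProduct.map_map, TensorProduct.map_map, LinearMap.id_comp]
    have h : βD (q + 1) ∘ₗ αD (q + 1) =
        LinearMap.id - dD q ∘ₗ SD q - SD (q + 1) ∘ₗ dD (q + 1) :=
      LinearMap.ext fun y => hD.htpy_succ q y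
    rw [h, tmap_sub_right, tmap_sub_right, tmap_id_id]
    abel

theorem dh_Sv (x : GT (TV k C D)) :
    dhG (tdh dC) (SvG SD x) + SvG SD (dhG (tdh dC) x) = 0 := by
  funext p q
  show dhG (tdh dC) (SvG SD x) p q + SvG SD (dhG (tdh dC) x) p q = 0
  cases p with
  | zero =>
    rw [dhG_zero, SvG_apply, dhG_zero, map_zero, sg_zero, add_zero]
  | succ p =>
    rw [dhG_succ, SvG_apply, SvG_apply, dhG_succ, map_sg, sg_succ]
    unfold tdh
    rw [TensorProduct.map_map, TensorProduct.map_map, LinearMap.id_comp, LinearMap.comp_id,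
      LinearMap.id_comp, LinearMap.comp_id, add_neg_cancel]

include hC in
theorem dh_Sh (x : GT (TV k C D)) :
    dhG (tdh dC) (ShG SC x) + ShG SC (dhG (tdh dC) x) = x - phG αC βC x := by
  funext p q
  show dhG (tdh dC) (ShG SC x) p q + ShG SC (dhG (tdh dC) x) p q = x p q - phG αC βC x p q
  cases p with
  | zero =>
    rw [dhG_zero, ShG_apply, dhG_succ, zero_add, phG_apply]
    unfold tdh
    rw [TensorProduct.map_map, LinearMap.id_comp]
    have h : βC 0 ∘ₗ αC 0 = LinearMap.id - SC 0 ∘ₗ dC 0 := LinearMap.ext fun y => hC.htpy_zero y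
    rw [h, tmap_sub_left, tmap_id_id, sub_sub_cancel]
  | succ p =>
    rw [dhG_succ, ShG_apply, ShG_apply, dhG_succ, phG_apply]
    unfold tdh
    rw [TensorProduct.map_map, TensorProduct.map_map, LinearMap.id_comp]
    have h : βC (p + 1) ∘ₗ αC (p + 1) =
        LinearMap.id - dC p ∘ₗ SC p - SC (p + 1) ∘ₗ dC (p + 1) :=
      LinearMap.ext fun y => hC.htpy_succ p y
    rw [h, tmap_sub_left, tmap_sub_left, tmap_id_id]
    abel

theorem dv_Sh (x : GT (TV k C D)) :
    dvG (tdv dD) (ShG SC x) + ShG SC (dvG (tdv dD) x) = 0 := by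
  funext p q
  show dvG (tdv dD) (ShG SC x) p q + ShG SC (dvG (tdv dD) x) p q = 0
  cases q with
  | zero =>
    rw [dvG_zero, ShG_apply, dvG_zero, map_zero, add_zero]
  | succ q =>
    rw [dvG_succ, ShG_apply, ShG_apply, dvG_succ, map_sg, sg_succ]
    unfold tdv
    rw [TensorProduct.map_map, TensorProduct.map_map, LinearMap.id_comp, LinearMap.comp_id,
      LinearMap.id_comp, LinearMap.comp_id, add_neg_cancel]

include hD in
theorem pv_dv (x : GT (TV k C D)) : pvG αD βD (dvG (tdv dD) x) = 0 := by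
  funext p q
  show pvG αD βD (dvG (tdv dD) x) p q = 0
  cases q with
  | zero => rw [pvG_apply, dvG_zero, map_zero]
  | succ q =>
    rw [pvG_apply, dvG_succ, map_sg]
    unfold tdv
    rw [TensorProduct.map_map]
    have h : (βD (q + 1) ∘ₗ αD (q + 1)) ∘ₗ dD q = 0 := LinearMap.ext fun y => by
      show βD (q + 1) (αD (q + 1) (dD q y)) = 0
      rw [hD.α_d, map_zero]
    rw [h, tmap_zero_right, sg_zero]

include hD in
theorem dv_pv (x : GT (TV k C D)) : dvG (tdv dD) (pvG αD βD x) = 0 := by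
  funext p q
  show dvG (tdv dD) (pvG αD βD x) p q = 0
  cases q with
  | zero => rw [dvG_zero]
  | succ q =>
    rw [dvG_succ, pvG_apply]
    unfold tdv
    rw [TensorProduct.map_map]
    have h : dD q ∘ₗ (βD q ∘ₗ αD q) = 0 := LinearMap.ext fun y => by
      show dD q (βD q (αD q y)) = 0
      rw [hD.d_β]
    rw [h, tmap_zero_right, sg_zero]

theorem pv_dh (x : GT (TV k C D)) :
    pvG αD βD (dhG (tdh dC) x) = dhG (tdh dC) (pvG αD βD x) := by
  funext p q
  show pvG αD βD (dhG (tdh dC) x) p q = dhG (tdh dC) (pvG αD βD x) p q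
  cases p with
  | zero => rw [pvG_apply, dhG_zero, dhG_zero, map_zero]
  | succ p =>
    rw [pvG_apply, dhG_succ, dhG_succ, pvG_apply]
    unfold tdh
    rw [TensorProduct.map_map, TensorProduct.map_map, LinearMap.id_comp, LinearMap.comp_id,
      LinearMap.id_comp, LinearMap.comp_id]

include hC hD in
theorem DG_bG (u : GT (TV k UC UD)) : DG (tdh dC) (tdv dD) (bG βC βD u) = 0 := by
  funext p q
  rw [DG_apply]
  have h1 : dhG (tdh dC) (bG βC βD u) p q = 0 := by
    cases p with
    | zero => rfl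
    | succ p =>
      rw [dhG_succ, bG_apply]
      unfold tdh
      rw [TensorProduct.map_map]
      have h : dC p ∘ₗ βC p = 0 := LinearMap.ext fun y => hC.d_β p y
      rw [h, tmap_zero_left]
  have h2 : dvG (tdv dD) (bG βC βD u) p q = 0 := by
    cases q with
    | zero => rw [dvG_zero]
    | succ q =>
      rw [dvG_succ, bG_apply]
      unfold tdv
      rw [TensorProduct.map_map]
      have h : dD q ∘ₗ βD q = 0 := LinearMap.ext fun y => hD.d_β q y
      rw [h, tmap_zero_right, sg_zero]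
  rw [h1, h2, add_zero]
  rfl

include hC hD in
theorem aG_DG (x : GT (TV k C D)) : aG αC αD (DG (tdh dC) (tdv dD) x) = 0 := by
  funext p q
  rw [aG_apply, DG_apply, map_add]
  have h1 : TensorProduct.map (αC p) (αD q) (dhG (tdh dC) x p q) = 0 := by
    cases p with
    | zero => rw [dhG_zero, map_zero]
    | succ p =>
      rw [dhG_succ]
      unfold tdh
      rw [TensorProduct.map_map]
      have h : αC (p + 1) ∘ₗ dC p = 0 := LinearMap.ext fun y => hC.α_d p y
      rw [h, tmap_zero_left]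
  have h2 : TensorProduct.map (αC p) (αD q) (dvG (tdv dD) x p q) = 0 := by
    cases q with
    | zero => rw [dvG_zero, map_zero]
    | succ q =>
      rw [dvG_succ, map_sg]
      unfold tdv
      rw [TensorProduct.map_map]
      have h : αD (q + 1) ∘ₗ dD q = 0 := LinearMap.ext fun y => hD.α_d q y
      rw [h, tmap_zero_right, sg_zero]
  rw [h1, h2, add_zero]
  rfl

include hC hD in
theorem aG_bG (u : GT (TV k UC UD)) : aG αC αD (bG βC βD u) = u := by
  funext p q
  rw [aG_apply, bG_apply, TensorProduct.map_map]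
  have h1 : αC p ∘ₗ βC p = LinearMap.id := LinearMap.ext fun y => hC.α_β p y
  have h2 : αD q ∘ₗ βD q = LinearMap.id := LinearMap.ext fun y => hD.α_β q y
  rw [h1, h2, tmap_id_id]

theorem bG_aG (x : GT (TV k C D)) : bG βC βD (aG αC αD x) = phG αC βC (pvG αD βD x) := by
  funext p q
  rw [bG_apply, aG_apply, phG_apply, pvG_apply, TensorProduct.map_map, TensorProduct.map_map,
    LinearMap.id_comp, LinearMap.comp_id]

/-- the total homotopy -/
def SG (SC : ∀ p, C (p + 1) →ₗ[k] C p) (αD : ∀ q, D q →ₗ[k] UD q) (βD : ∀ q, UD q →ₗ[k] D q)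
    (SD : ∀ q, D (q + 1) →ₗ[k] D q) : GT (TV k C D) →ₗ[k] GT (TV k C D) :=
  SvG SD + ShG SC ∘ₗ pvG αD βD

include hC hD in
/-- the homotopy identity on the total complex -/
theorem htpy_G (x : GT (TV k C D)) :
    bG βC βD (aG αC αD x) =
      x - DG (tdh dC) (tdv dD) (SG SC αD βD SD x) - SG SC αD βD SD (DG (tdh dC) (tdv dD) x) := by
  have e1 := dv_Sv hD x
  have e2 := dh_Sv (dC := dC) (SD := SD) x
  have e3 := dh_Sh hC (pvG αD βD x)
  have e4 := dv_Sh (dD := dD) (SC := SC) (pvG αD βD x)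
  have e5 := pv_dv hD x
  have e6 := dv_pv hD x
  have e7 := pv_dh (dC := dC) (αD := αD) (βD := βD) x
  rw [bG_aG]
  unfold SG DG
  simp only [LinearMap.add_apply, LinearMap.comp_apply, map_add]
  rw [e5, e7, map_zero, add_zero]
  rw [e6, map_zero, add_zero] at e4
  have e3' : phG αC βC (pvG αD βD x) =
      pvG αD βD x - (dhG (tdh dC) (ShG SC (pvG αD βD x)) +
        ShG SC (dhG (tdh dC) (pvG αD βD x))) := by
    rw [e3, sub_sub_cancel]
  have e1' : pvG αD βD x = x - (dvG (tdv dD) (SvG SD x) + SvG SD (dvG (tdv dD) x)) := by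
    rw [e1, sub_sub_cancel]
  rw [e3']
  nth_rewrite 1 [e1']
  have e2' : SvG SD (dhG (tdh dC) x) = -dhG (tdh dC) (SvG SD x) := by
    rw [eq_neg_iff_add_eq_zero, add_comm]
    exact e2
  rw [e2', e4]
  abel

end Identities

section Degrees

theorem aG_mem_Tn {n : ℕ} {x : GT (TV k C D)} (hx : x ∈ Tn (A := k) n) :
    aG αC αD x ∈ Tn (A := k) n := by
  intro p q h
  rw [aG_apply, hx p q h, map_zero]

theorem bG_mem_Tn {n : ℕ} {u : GT (TV k UC UD)} (hu : u ∈ Tn (A := k) n) :
    bG βC βD u ∈ Tn (A := k) n := by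
  intro p q h
  rw [bG_apply, hu p q h, map_zero]

theorem SG_apply (x : GT (TV k C D)) (p q : ℕ) :
    SG SC αD βD SD x p q =
      sg p (TensorProduct.map (LinearMap.id : C p →ₗ[k] C p) (SD q) (x p (q + 1))) +
      TensorProduct.map (SC p) (LinearMap.id : D q →ₗ[k] D q)
        (TensorProduct.map (LinearMap.id : C (p + 1) →ₗ[k] C (p + 1)) (βD q ∘ₗ αD q)
          (x (p + 1) q)) := rfl

theorem SG_mem_Tn {n : ℕ} {x : GT (TV k C D)} (hx : x ∈ Tn (A := k) (n + 1)) :
    SG SC αD βD SD x ∈ Tn (A := k) n := by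
  intro p q h
  rw [SG_apply, hx p (q + 1) (by omega), hx (p + 1) q (by omega)]
  simp

theorem SG_eq_zero {x : GT (TV k C D)} (hx : x ∈ Tn (A := k) 0) : SG SC αD βD SD x = 0 := by
  funext p q
  rw [SG_apply, hx p (q + 1) (by omega), hx (p + 1) q (by omega)]
  simp

end Degrees

section Main

variable (hC : IsContr C dC αC βC SC) (hD : IsContr D dD αD βD SD)

include hC hD in
/-- **Künneth formula** (contraction form) -/
theorem kunneth (n : ℕ) :
    Nonempty (Hq (ZtG (DG (tdh dC) (tdv dD)) n) (BtG (DG (tdh dC) (tdv dD)) n) ≃ₗ[k]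
      Tot (TV k UC UD) n) := by
  refine ⟨Hq.equivOfSurjective
    (rho k n ∘ₗ aG αC αD ∘ₗ (ZtG (DG (tdh dC) (tdv dD)) n).subtype) (fun u => ?_) (fun z => ?_)⟩
  · refine ⟨⟨bG βC βD (iota k n u), ?_, bG_mem_Tn (iota_mem_Tn n u)⟩, ?_⟩
    · exact LinearMap.mem_ker.2 (DG_bG hC hD _)
    · show rho k n (aG αC αD (bG βC βD (iota k n u))) = u
      rw [aG_bG hC hD, rho_iota]
  · have hz1 : DG (tdh dC) (tdv dD) z.1 = 0 := z.2.1
    have hz2 : z.1 ∈ Tn (A := k) n := z.2.2
    show rho k n (aG αC αD z.1) = 0 ↔ _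
    constructor
    · intro h0
      have h1 : aG αC αD z.1 = 0 := by
        rw [← iota_rho (aG_mem_Tn (αC := αC) (αD := αD) hz2), h0, map_zero]
      have h2 := htpy_G hC hD z.1
      rw [h1, map_zero, hz1, map_zero, sub_zero] at h2
      have h3 : z.1 = DG (tdh dC) (tdv dD) (SG SC αD βD SD z.1) := by
        rw [eq_comm, sub_eq_zero] at h2
        exact h2
      cases n with
      | zero =>
        rw [SG_eq_zero hz2, map_zero] at h3
        rw [h3]
        exact zero_mem _
      | succ n =>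
        rw [h3]
        exact ⟨_, SG_mem_Tn hz2, rfl⟩
    · intro hb
      cases n with
      | zero =>
        have h1 : z.1 = 0 := hb
        rw [h1, map_zero, map_zero]
      | succ n =>
        obtain ⟨y, -, hy⟩ := hb
        rw [← hy, aG_DG hC hD, map_zero]

include hC hD in
/-- degree zero cocycles of the total complex are tensors of cocycles -/
theorem Z0_eq (z : GT (TV k C D)) (hz : z ∈ ZtG (DG (tdh dC) (tdv dD)) 0) :
    z = bG βC βD (aG αC αD z) := by
  have h2 := htpy_G hC hD z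
  rw [hz.1, map_zero, SG_eq_zero hz.2, map_zero, sub_zero, sub_zero] at h2
  exact h2.symm

end Main

end Kunneth

end Groth.Agent.Lib.helper26.Kun
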