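import Mathlib
import Groth.Agent.Lib.Helper26.KunA
import Groth.Agent.Lib.Helper26.KunB
import Groth.Agent.Lib.Helper26.KunC
import Groth.Agent.Lib.Helper26.KunD

/-!
# The kernel of a surjection of double complexes (helper26)

For a surjective morphism `θ : V → W` of double complexes with kernel `G`, when the total complex of
`V` is exact in degrees `m`, `m + 1` (`m ≥ 1`), the connecting homomorphism
`H^m(Tot W) → H^{m+1}(Tot G)` is an isomorphism.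
-/

set_option autoImplicit false
set_option linter.unusedSectionVars false
universe u
open scoped TensorProduct

namespace Groth.Agent.Lib.helper26.Kun

section Trunc

variable {A : Type u} [CommRing A] {V : ℕ → ℕ → Type u} [∀ p q, AddCommGroup (V p q)]
  [∀ p q, Module A (V p q)]

variable (A) in
/-- truncation to total degree `n` -/
def trunc (n : ℕ) : GT V →ₗ[A] GT V := iota A n ∘ₗ rho A n

theorem trunc_mem_Tn (n : ℕ) (x : GT V) : trunc A n x ∈ Tn (A := A) n := iota_mem_Tn n _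

theorem trunc_of_eq {n : ℕ} (x : GT V) {p q : ℕ} (h : p + q = n) : trunc A n x p q = x p q := by
  show iota A n (rho A n x) p q = x p q
  rw [iota_of_eq _ h]
  rfl

theorem trunc_of_ne {n : ℕ} (x : GT V) {p q : ℕ} (h : p + q ≠ n) : trunc A n x p q = 0 :=
  trunc_mem_Tn n x p q h

/-- an element concentrated in bidegree `(0, 0)` -/
def s00 (w : V 0 0) : GT V
  | 0, 0 => w
  | 0, _ + 1 => 0
  | _ + 1, _ => 0

@[simp] theorem s00_zero_zero (w : V 0 0) : s00 w 0 0 = w := rfl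
@[simp] theorem s00_zero_succ (w : V 0 0) (q : ℕ) : s00 w 0 (q + 1) = 0 := rfl
@[simp] theorem s00_succ (w : V 0 0) (p q : ℕ) : s00 w (p + 1) q = 0 := rfl

theorem s00_mem_Tn (w : V 0 0) : s00 w ∈ Tn (A := A) 0 := by
  intro p q h
  cases p with
  | zero =>
    cases q with
    | zero => exact absurd rfl h
    | succ q => rfl
  | succ p => rfl

theorem eq_s00_of_mem_Tn {x : GT V} (hx : x ∈ Tn (A := A) 0) : x = s00 (x 0 0) := by
  funext p q
  cases p with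
  | zero =>
    cases q with
    | zero => rfl
    | succ q => exact hx 0 (q + 1) (by omega)
  | succ p => exact hx (p + 1) q (by omega)

end Trunc

section SES

variable {A : Type u} [CommRing A] {V : ℕ → ℕ → Type u} [∀ p q, AddCommGroup (V p q)]
  [∀ p q, Module A (V p q)] {W : ℕ → ℕ → Type u} [∀ p q, AddCommGroup (W p q)]
  [∀ p q, Module A (W p q)]
  (dhV : ∀ p q, V p q →ₗ[A] V (p + 1) q) (dvV : ∀ p q, V p q →ₗ[A] V p (q + 1))
  (dhW : ∀ p q, W p q →ₗ[A] W (p + 1) q) (dvW : ∀ p q, W p q →ₗ[A] W p (q + 1))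
  (θ : ∀ p q, V p q →ₗ[A] W p q)

/-- the induced map on global spaces -/
def QG : GT V →ₗ[A] GT W := mkG fun p q => θ p q ∘ₗ evG p q

@[simp] theorem QG_apply (x : GT V) (p q : ℕ) : QG θ x p q = θ p q (x p q) := rfl

theorem QG_mem_Tn {n : ℕ} {x : GT V} (hx : x ∈ Tn (A := A) n) : QG θ x ∈ Tn (A := A) n := by
  intro p q h
  rw [QG_apply, hx p q h, map_zero]

theorem QG_trunc (n : ℕ) (x : GT V) : QG θ (trunc A n x) = trunc A n (QG θ x) := by
  funext p q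
  by_cases h : p + q = n
  · rw [QG_apply, trunc_of_eq _ h, trunc_of_eq _ h, QG_apply]
  · rw [QG_apply, trunc_of_ne _ h, trunc_of_ne _ h, map_zero]

variable (hθh : ∀ p q x, θ (p + 1) q (dhV p q x) = dhW p q (θ p q x))
  (hθv : ∀ p q x, θ p (q + 1) (dvV p q x) = dvW p q (θ p q x))
  (hθs : ∀ p q, Function.Surjective (θ p q))

include hθh hθv in
theorem QG_DG (x : GT V) : QG θ (DG dhV dvV x) = DG dhW dvW (QG θ x) :=
  mapG_DG dhV dvV dhW dvW (fun p q => (θ p q).toAddMonoidHom) hθh hθv x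

include hθs in
theorem QG_surjective : Function.Surjective (QG θ) := by
  intro y
  choose x hx using fun p q => hθs p q (y p q)
  exact ⟨x, by funext p q; exact hx p q⟩

include hθs in
theorem exists_mem_Tn_QG {n : ℕ} {y : GT W} (hy : y ∈ Tn (A := A) n) :
    ∃ x ∈ Tn (A := A) n, QG θ x = y := by
  obtain ⟨x, hx⟩ := QG_surjective θ hθs y
  refine ⟨trunc A n x, trunc_mem_Tn n x, ?_⟩
  rw [QG_trunc, hx]
  exact iota_rho hy

/-- cocycles of the kernel subcomplex -/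
def ZGG (n : ℕ) : Submodule A (GT V) := LinearMap.ker (QG θ) ⊓ ZtG (DG dhV dvV) n

/-- coboundaries of the kernel subcomplex -/
def BGG : (n : ℕ) → Submodule A (GT V)
  | 0 => ⊥
  | n + 1 => (LinearMap.ker (QG θ) ⊓ Tn n).map (DG dhV dvV)

@[simp] theorem BGG_zero : BGG dhV dvV θ 0 = ⊥ := rfl
@[simp] theorem BGG_succ (n : ℕ) :
    BGG dhV dvV θ (n + 1) = (LinearMap.ker (QG θ) ⊓ Tn n).map (DG dhV dvV) := rfl

variable (hhV : ∀ p q x, dhV (p + 1) q (dhV p q x) = 0)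
  (hvV : ∀ p q x, dvV p (q + 1) (dvV p q x) = 0)
  (hcV : ∀ p q x, dvV (p + 1) q (dhV p q x) = dhV p (q + 1) (dvV p q x))

include hθh hθv hθs hhV hvV hcV in
/-- **the connecting isomorphism** `H^{m+2}(G) ≅ H^{m+1}(W)` -/
theorem conn_iso (m : ℕ)
    (hex1 : ZtG (DG dhV dvV) (m + 1) ≤ BtG (DG dhV dvV) (m + 1))
    (hex2 : ZtG (DG dhV dvV) (m + 2) ≤ BtG (DG dhV dvV) (m + 2)) :
    Nonempty (Hq (ZGG dhV dvV θ (m + 2)) (BGG dhV dvV θ (m + 2)) ≃ₗ[A]
      Hq (ZtG (DG dhW dvW) (m + 1)) (BtG (DG dhW dvW) (m + 1))) := by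
  let P : Submodule A (GT V) :=
    Tn (m + 1) ⊓ (LinearMap.ker (QG θ)).comap (DG dhV dvV)
  refine Hq.nonempty_equiv_of_corr (P := ↥P) (DG dhV dvV ∘ₗ P.subtype) (QG θ ∘ₗ P.subtype)
    ?_ ?_ ?_ ?_ ?_
  · intro t
    refine ⟨t.2.2, LinearMap.mem_ker.2 (DG_DG dhV dvV hhV hvV hcV _), DG_mem_Tn dhV dvV t.2.1⟩
  · intro t
    refine ⟨LinearMap.mem_ker.2 ?_, QG_mem_Tn θ t.2.1⟩
    show DG dhW dvW (QG θ t.1) = 0
    rw [← QG_DG dhV dvV dhW dvW θ hθh hθv]
    exact t.2.2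
  · intro z hz
    obtain ⟨t, ht, htz⟩ := hex2 hz.2
    have htP : t ∈ P := ⟨ht, by
      show DG dhV dvV t ∈ LinearMap.ker (QG θ)
      rw [htz]
      exact hz.1⟩
    refine ⟨⟨t, htP⟩, ?_⟩
    show DG dhV dvV t - z ∈ _
    rw [htz, sub_self]
    exact zero_mem _
  · intro z' hz'
    obtain ⟨t, ht, htz⟩ := exists_mem_Tn_QG θ hθs hz'.2
    have htP : t ∈ P := ⟨ht, by
      show QG θ (DG dhV dvV t) = 0
      rw [QG_DG dhV dvV dhW dvW θ hθh hθv, htz]
      exact hz'.1⟩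
    refine ⟨⟨t, htP⟩, ?_⟩
    show QG θ t - z' ∈ _
    rw [htz, sub_self]
    exact zero_mem _
  · intro t
    show DG dhV dvV t.1 ∈ BGG dhV dvV θ (m + 2) ↔ QG θ t.1 ∈ BtG (DG dhW dvW) (m + 1)
    constructor
    · rintro ⟨g, ⟨hg1, hg2⟩, hgt⟩
      have h1 : t.1 - g ∈ ZtG (DG dhV dvV) (m + 1) :=
        ⟨LinearMap.mem_ker.2 (by rw [map_sub, hgt, sub_self]), sub_mem t.2.1 hg2⟩
      obtain ⟨u, hu, hut⟩ := hex1 h1
      refine ⟨QG θ u, QG_mem_Tn θ hu, ?_⟩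
      rw [← QG_DG dhV dvV dhW dvW θ hθh hθv, hut, map_sub]
      have hg0 : QG θ g = 0 := hg1
      rw [hg0, sub_zero]
    · rintro ⟨ū, hū, hūt⟩
      obtain ⟨u, hu, rfl⟩ := exists_mem_Tn_QG θ hθs hū
      refine ⟨t.1 - DG dhV dvV u, ⟨?_, sub_mem t.2.1 (DG_mem_Tn dhV dvV hu)⟩, ?_⟩
      · refine LinearMap.mem_ker.2 ?_
        rw [map_sub, QG_DG dhV dvV dhW dvW θ hθh hθv, hūt, sub_self]
      · rw [map_sub, DG_DG dhV dvV hhV hvV hcV, sub_zero]

include hθh hθv in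
/-- `H^1(G) = 0` -/
theorem H1_subsingleton
    (hex : ZtG (DG dhV dvV) 1 ≤ BtG (DG dhV dvV) 1)
    (hsurj : ∀ z' ∈ ZtG (DG dhW dvW) 0, ∃ z ∈ ZtG (DG dhV dvV) 0, QG θ z = z') :
    Subsingleton (Hq (ZGG dhV dvV θ 1) (BGG dhV dvV θ 1)) := by
  apply Hq.subsingleton_of_le
  intro z hz
  obtain ⟨t, ht, htz⟩ := hex hz.2
  have h1 : QG θ t ∈ ZtG (DG dhW dvW) 0 := by
    refine ⟨LinearMap.mem_ker.2 ?_, QG_mem_Tn θ ht⟩
    rw [← QG_DG dhV dvV dhW dvW θ hθh hθv, htz]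
    exact hz.1
  obtain ⟨t', ht', htt⟩ := hsurj _ h1
  refine ⟨t - t', ⟨?_, sub_mem ht ht'.2⟩, ?_⟩
  · refine LinearMap.mem_ker.2 ?_
    rw [map_sub, htt, sub_self]
  · have h2 : DG dhV dvV t' = 0 := ht'.1
    rw [map_sub, h2, sub_zero, htz]

/-- `H^0(G) = 0` -/
theorem H0_subsingleton
    (hinj : ∀ z ∈ ZtG (DG dhV dvV) 0, QG θ z = 0 → z = 0) :
    Subsingleton (Hq (ZGG dhV dvV θ 0) (BGG dhV dvV θ 0)) := by
  apply Hq.subsingleton_of_le
  intro z hz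
  rw [hinj z hz.2 hz.1]
  exact zero_mem _

end SES

end Groth.Agent.Lib.helper26.Kun
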