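import Mathlib
import Groth.Agent.Lib.Helper26.KunA
import Groth.Agent.Lib.Helper26.KunB
import Groth.Agent.Lib.Helper26.KunC
import Groth.Agent.Lib.Helper26.KunD
import Groth.Agent.Lib.Helper26.KunE

/-!
# Subcomplexes, quotient complexes, and the cohomology of `ker (C ⊗ D → C/C' ⊗ D/D')` (helper26)
-/

set_option autoImplicit false
set_option linter.unusedSectionVars false
universe u
open scoped TensorProduct

namespace Groth.Agent.Lib.helper26.Kun

section OneVar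

variable {k : Type u} [Field k]
  {C : ℕ → Type u} [∀ p, AddCommGroup (C p)] [∀ p, Module k (C p)] (dC : ∀ p, C p →ₗ[k] C (p + 1))
  (C' : ∀ p, Submodule k (C p)) (hC' : ∀ p, C' p ≤ (C' (p + 1)).comap (dC p))

/-- the coboundaries of the subcomplex -/
def bdS : (i : ℕ) → Submodule k (C i)
  | 0 => ⊥
  | i + 1 => (C' i).map (dC i)

@[simp] theorem bdS_zero : bdS dC C' 0 = ⊥ := rfl
@[simp] theorem bdS_succ (i : ℕ) : bdS dC C' (i + 1) = (C' i).map (dC i) := rfl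

/-- the cohomology of the subcomplex -/
abbrev HS (i : ℕ) : Type u := Hq (C' i ⊓ LinearMap.ker (dC i)) (bdS dC C' i)

/-- the differential of the quotient complex -/
def dq (p : ℕ) : (C p ⧸ C' p) →ₗ[k] (C (p + 1) ⧸ C' (p + 1)) :=
  (C' p).mapQ (C' (p + 1)) (dC p) (hC' p)

@[simp] theorem dq_mk (p : ℕ) (x : C p) :
    dq dC C' hC' p ((C' p).mkQ x) = (C' (p + 1)).mkQ (dC p x) := rfl

variable (hdC : ∀ p x, dC (p + 1) (dC p x) = 0)

include hdC in
theorem dq_dq (p : ℕ) (y : C p ⧸ C' p) : dq dC C' hC' (p + 1) (dq dC C' hC' p y) = 0 := by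
  obtain ⟨x, rfl⟩ := Submodule.mkQ_surjective _ y
  rw [dq_mk, dq_mk, hdC, map_zero]

variable {dC C'}

/-- degree-zero cocycles of the quotient lift (when `H^1(C') = 0`) -/
theorem lift_Z0 (h1 : ∀ y ∈ C' 1, dC 1 y = 0 → ∃ x ∈ C' 0, dC 0 x = y)
    (hdC : ∀ p x, dC (p + 1) (dC p x) = 0)
    (z' : C 0 ⧸ C' 0) (hz' : dq dC C' hC' 0 z' = 0) : ∃ z, dC 0 z = 0 ∧ (C' 0).mkQ z = z' := by
  obtain ⟨z0, rfl⟩ := Submodule.mkQ_surjective _ z'
  rw [dq_mk, Submodule.mkQ_apply, Submodule.Quotient.mk_eq_zero] at hz'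
  obtain ⟨x, hx, hxz⟩ := h1 _ hz' (hdC 0 z0)
  refine ⟨z0 - x, by rw [map_sub, hxz, sub_self], ?_⟩
  rw [map_sub, sub_eq_self, Submodule.mkQ_apply, Submodule.Quotient.mk_eq_zero]
  exact hx

/-- `H^0(C/C') ≅ H^0(C)` when `H^0(C') = H^1(C') = 0` -/
theorem HC_quot_zero (h0 : C' 0 ⊓ LinearMap.ker (dC 0) = ⊥)
    (h1 : ∀ y ∈ C' 1, dC 1 y = 0 → ∃ x ∈ C' 0, dC 0 x = y)
    (hdC : ∀ p x, dC (p + 1) (dC p x) = 0) :
    Nonempty (HC (fun p => C p ⧸ C' p) (dq dC C' hC') 0 ≃ₗ[k] ↥(LinearMap.ker (dC 0))) := by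
  have e1 : Nonempty (Hq (LinearMap.ker (dC 0)) (⊥ : Submodule k (C 0)) ≃ₗ[k]
      HC (fun p => C p ⧸ C' p) (dq dC C' hC') 0) := by
    refine Hq.nonempty_equiv_of_map (C' 0).mkQ ?_ ?_ ?_
    · intro z hz
      rw [LinearMap.mem_ker] at hz ⊢
      rw [dq_mk, hz, map_zero]
    · intro z' hz'
      obtain ⟨z, hz, hzz⟩ := lift_Z0 hC' h1 hdC z' hz'
      refine ⟨z, hz, ?_⟩
      rw [hzz, sub_self]
      exact zero_mem _
    · intro z hz
      rw [bd_zero, Submodule.mem_bot, Submodule.mem_bot]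
      constructor
      · intro h
        rw [h, map_zero]
      · intro h
        rw [Submodule.mkQ_apply, Submodule.Quotient.mk_eq_zero] at h
        have : z ∈ C' 0 ⊓ LinearMap.ker (dC 0) := ⟨h, hz⟩
        rw [h0] at this
        exact this
  obtain ⟨e1⟩ := e1
  have e2 : Hq (LinearMap.ker (dC 0)) (⊥ : Submodule k (C 0)) ≃ₗ[k] ↥(LinearMap.ker (dC 0)) :=
    Hq.equivOfSurjective LinearMap.id (fun z => ⟨z, rfl⟩) (fun z => by
      rw [LinearMap.id_apply, Submodule.mem_bot]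
      exact ⟨fun h => congrArg Subtype.val h, fun h => Subtype.ext h⟩)
  exact ⟨e1.symm ≪≫ₗ e2⟩

/-- `H^{p+1}(C/C') ≅ H^{p+2}(C')` when `C` is exact in degrees `p+1`, `p+2` -/
theorem HC_quot_succ (hdC : ∀ p x, dC (p + 1) (dC p x) = 0)
    (ex : ∀ i, LinearMap.ker (dC (i + 1)) ≤ LinearMap.range (dC i)) (p : ℕ) :
    Nonempty (HC (fun p => C p ⧸ C' p) (dq dC C' hC') (p + 1) ≃ₗ[k] HS dC C' (p + 2)) := by
  let P : Submodule k (C (p + 1)) := (C' (p + 2)).comap (dC (p + 1))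
  have h := Hq.nonempty_equiv_of_corr (P := ↥P)
    (Z := C' (p + 2) ⊓ LinearMap.ker (dC (p + 2))) (B := bdS dC C' (p + 2))
    (Z' := LinearMap.ker (dq dC C' hC' (p + 1))) (B' := bd (fun p => C p ⧸ C' p) (dq dC C' hC') (p + 1))
    (dC (p + 1) ∘ₗ P.subtype) ((C' (p + 1)).mkQ ∘ₗ P.subtype) ?_ ?_ ?_ ?_ ?_
  · obtain ⟨e⟩ := h
    exact ⟨e.symm⟩
  · intro t
    exact ⟨t.2, LinearMap.mem_ker.2 (hdC _ _)⟩
  · intro t
    refine LinearMap.mem_ker.2 ?_
    show dq dC C' hC' (p + 1) ((C' (p + 1)).mkQ t.1) = 0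
    rw [dq_mk, Submodule.mkQ_apply, Submodule.Quotient.mk_eq_zero]
    exact t.2
  · intro z hz
    obtain ⟨t, rfl⟩ := ex (p + 1) hz.2
    refine ⟨⟨t, hz.1⟩, ?_⟩
    show dC (p + 1) t - dC (p + 1) t ∈ _
    rw [sub_self]
    exact zero_mem _
  · intro z' hz'
    obtain ⟨t, rfl⟩ := Submodule.mkQ_surjective _ z'
    have hz'' : dq dC C' hC' (p + 1) ((C' (p + 1)).mkQ t) = 0 := hz'
    rw [dq_mk, Submodule.mkQ_apply, Submodule.Quotient.mk_eq_zero] at hz''
    refine ⟨⟨t, hz''⟩, ?_⟩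
    show (C' (p + 1)).mkQ t - (C' (p + 1)).mkQ t ∈ _
    rw [sub_self]
    exact zero_mem _
  · intro t
    show dC (p + 1) t.1 ∈ (C' (p + 1)).map (dC (p + 1)) ↔
      (C' (p + 1)).mkQ t.1 ∈ LinearMap.range (dq dC C' hC' p)
    constructor
    · rintro ⟨g, hg, hgt⟩
      have h1 : t.1 - g ∈ LinearMap.ker (dC (p + 1)) :=
        LinearMap.mem_ker.2 (by rw [map_sub, hgt, sub_self])
      obtain ⟨u, hu⟩ := ex p h1
      refine ⟨(C' p).mkQ u, ?_⟩
      rw [dq_mk, hu, map_sub, sub_eq_self, Submodule.mkQ_apply, Submodule.Quotient.mk_eq_zero]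
      exact hg
    · rintro ⟨ū, hū⟩
      obtain ⟨u, rfl⟩ := Submodule.mkQ_surjective _ ū
      rw [dq_mk] at hū
      refine ⟨t.1 - dC p u, ?_, by rw [map_sub, hdC, sub_zero]⟩
      have h2 : (C' (p + 1)).mkQ (t.1 - dC p u) = 0 := by rw [map_sub, hū, sub_self]
      rw [Submodule.mkQ_apply, Submodule.Quotient.mk_eq_zero] at h2
      exact h2

end OneVar

section S00

variable {A : Type u} [CommRing A] {V : ℕ → ℕ → Type u} [∀ p q, AddCommGroup (V p q)]
  [∀ p q, Module A (V p q)]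
  (dh : ∀ p q, V p q →ₗ[A] V (p + 1) q) (dv : ∀ p q, V p q →ₗ[A] V p (q + 1))

theorem DG_s00 (w : V 0 0) (h1 : dh 0 0 w = 0) (h2 : dv 0 0 w = 0) : DG dh dv (s00 w) = 0 := by
  funext p q
  rw [DG_apply]
  have e1 : dhG dh (s00 w) p q = 0 := by
    cases p with
    | zero => rfl
    | succ p =>
      rw [dhG_succ]
      cases p with
      | zero =>
        cases q with
        | zero => exact h1
        | succ q => rw [s00_zero_succ, map_zero]
      | succ p => rw [s00_succ, map_zero]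
  have e2 : dvG dv (s00 w) p q = 0 := by
    cases q with
    | zero => rw [dvG_zero]
    | succ q =>
      rw [dvG_succ]
      cases p with
      | zero =>
        cases q with
        | zero => rw [s00_zero_zero, h2, sg_zero]
        | succ q => rw [s00_zero_succ, map_zero, sg_zero]
      | succ p => rw [s00_succ, map_zero, sg_zero]
  rw [e1, e2, add_zero]
  rfl

theorem s00_zero : s00 (0 : V 0 0) = 0 := by
  funext p q
  cases p with
  | zero =>
    cases q with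
    | zero => rfl
    | succ q => rfl
  | succ p => rfl

end S00

section TwoVar

variable {k : Type u} [Field k]
  {C : ℕ → Type u} [∀ p, AddCommGroup (C p)] [∀ p, Module k (C p)] (dC : ∀ p, C p →ₗ[k] C (p + 1))
  (C' : ∀ p, Submodule k (C p)) (hC' : ∀ p, C' p ≤ (C' (p + 1)).comap (dC p))
  {D : ℕ → Type u} [∀ q, AddCommGroup (D q)] [∀ q, Module k (D q)] (dD : ∀ q, D q →ₗ[k] D (q + 1))
  (D' : ∀ q, Submodule k (D q)) (hD' : ∀ q, D' q ≤ (D' (q + 1)).comap (dD q))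

/-- the quotient map `C ⊗ D → C/C' ⊗ D/D'` -/
def tq (p q : ℕ) : TV k C D p q →ₗ[k] TV k (fun p => C p ⧸ C' p) (fun q => D q ⧸ D' q) p q :=
  TensorProduct.map (C' p).mkQ (D' q).mkQ

theorem tq_tdh (p q : ℕ) (x : TV k C D p q) :
    tq C' D' (p + 1) q (tdh dC p q x) = tdh (dq dC C' hC') p q (tq C' D' p q x) := by
  unfold tq tdh
  rw [TensorProduct.map_map, TensorProduct.map_map]
  rfl

theorem tq_tdv (p q : ℕ) (x : TV k C D p q) :
    tq C' D' p (q + 1) (tdv dD p q x) = tdv (dq dD D' hD') p q (tq C' D' p q x) := by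
  unfold tq tdv
  rw [TensorProduct.map_map, TensorProduct.map_map]
  rfl

theorem tq_surjective (p q : ℕ) : Function.Surjective (tq C' D' p q) :=
  TensorProduct.map_surjective (Submodule.mkQ_surjective _) (Submodule.mkQ_surjective _)

variable (hdC : ∀ p x, dC (p + 1) (dC p x) = 0) (hdD : ∀ q x, dD (q + 1) (dD q x) = 0)

include hdC hdD in
/-- the total complex of `C ⊗ D` is exact in positive degrees when `C` and `D` are -/
theorem tot_exact (exC : ∀ i, LinearMap.ker (dC (i + 1)) ≤ LinearMap.range (dC i))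
    (exD : ∀ i, LinearMap.ker (dD (i + 1)) ≤ LinearMap.range (dD i)) (n : ℕ) :
    ZtG (DG (tdh (D := D) dC) (tdv (C := C) dD)) (n + 1) ≤
      BtG (DG (tdh (D := D) dC) (tdv (C := C) dD)) (n + 1) := by
  obtain ⟨αC, βC, SC, hC⟩ := exists_contr hdC
  obtain ⟨αD, βD, SD, hD⟩ := exists_contr hdD
  obtain ⟨e⟩ := kunneth hC hD (n + 1)
  have hsC : ∀ i, Subsingleton (HC C dC (i + 1)) := fun i => Hq.subsingleton_of_le (exC i)
  have hsD : ∀ i, Subsingleton (HC D dD (i + 1)) := fun i => Hq.subsingleton_of_le (exD i)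
  have hsub : Subsingleton (Tot (TV k (HC C dC) (HC D dD)) (n + 1)) := by
    have : ∀ pq : AD (n + 1), Subsingleton (HC C dC pq.1.1 ⊗[k] HC D dD pq.1.2) := by
      rintro ⟨⟨p, q⟩, h⟩
      cases p with
      | zero =>
        cases q with
        | zero => exact absurd h (by simp)
        | succ q =>
          have := hsD q
          exact Unique.instSubsingleton
      | succ p =>
        have := hsC p
        exact Unique.instSubsingleton
    exact Pi.instSubsingleton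
  have := e.toEquiv.subsingleton
  exact Hq.le_of_subsingleton this

variable (h0C : C' 0 ⊓ LinearMap.ker (dC 0) = ⊥)
  (h1C : ∀ y ∈ C' 1, dC 1 y = 0 → ∃ x ∈ C' 0, dC 0 x = y)
  (h0D : D' 0 ⊓ LinearMap.ker (dD 0) = ⊥)
  (h1D : ∀ y ∈ D' 1, dD 1 y = 0 → ∃ x ∈ D' 0, dD 0 x = y)

include hdC hdD h1C h1D in
theorem Z0_surj (z' : GT (TV k (fun p => C p ⧸ C' p) (fun q => D q ⧸ D' q)))
    (hz' : z' ∈ ZtG (DG (tdh (dq dC C' hC')) (tdv (dq dD D' hD'))) 0) :
    ∃ z ∈ ZtG (DG (tdh (D := D) dC) (tdv (C := C) dD)) 0, QG (tq C' D') z = z' := by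
  obtain ⟨αC, βC, SC, hC⟩ := exists_contr (dq_dq dC C' hC' hdC)
  obtain ⟨αD, βD, SD, hD⟩ := exists_contr (dq_dq dD D' hD' hdD)
  have h1 := Z0_eq hC hD z' hz'
  have key : ∀ u : HC (fun p => C p ⧸ C' p) (dq dC C' hC') 0 ⊗[k]
      HC (fun q => D q ⧸ D' q) (dq dD D' hD') 0,
      ∃ w : C 0 ⊗[k] D 0, tdh (D := D) dC 0 0 w = 0 ∧ tdv (C := C) dD 0 0 w = 0 ∧
        tq C' D' 0 0 w = TensorProduct.map (βC 0) (βD 0) u := by
    intro u
    induction u using TensorProduct.induction_on with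
    | zero => exact ⟨0, map_zero _, map_zero _, by rw [map_zero, map_zero]⟩
    | tmul a b =>
      obtain ⟨z1, hz1, hz1'⟩ := lift_Z0 hC' h1C hdC (βC 0 a) (hC.d_β 0 a)
      obtain ⟨z2, hz2, hz2'⟩ := lift_Z0 hD' h1D hdD (βD 0 b) (hD.d_β 0 b)
      refine ⟨z1 ⊗ₜ[k] z2, ?_, ?_, ?_⟩
      · show (dC 0 z1) ⊗ₜ[k] z2 = 0
        rw [hz1, TensorProduct.zero_tmul]
      · show z1 ⊗ₜ[k] (dD 0 z2) = 0
        rw [hz2, TensorProduct.tmul_zero]
      · show ((C' 0).mkQ z1) ⊗ₜ[k] ((D' 0).mkQ z2) = (βC 0 a) ⊗ₜ[k] (βD 0 b)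
        rw [hz1', hz2']
    | add u u' h h' =>
      obtain ⟨w, hw1, hw2, hw3⟩ := h
      obtain ⟨w', hw1', hw2', hw3'⟩ := h'
      exact ⟨w + w', by rw [map_add, hw1, hw1', add_zero], by rw [map_add, hw2, hw2', add_zero],
        by rw [map_add, map_add, hw3, hw3']⟩
  obtain ⟨w, hw1, hw2, hw3⟩ := key (aG αC αD z' 0 0)
  refine ⟨s00 (V := TV k C D) w, ⟨LinearMap.mem_ker.2 (DG_s00 (V := TV k C D) _ _ w hw1 hw2),
    s00_mem_Tn (A := k) (V := TV k C D) w⟩, ?_⟩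
  rw [eq_s00_of_mem_Tn hz'.2]
  funext p q
  cases p with
  | zero =>
    cases q with
    | zero =>
      show tq C' D' 0 0 w = z' 0 0
      rw [hw3]
      have := congrFun (congrFun h1 0) 0
      rw [bG_apply] at this
      exact this.symm
    | succ q =>
      show tq C' D' 0 (q + 1) 0 = 0
      rw [map_zero]
  | succ p =>
    show tq C' D' (p + 1) q 0 = 0
    rw [map_zero]

include hdC hdD h0C h0D in
theorem Z0_inj (z : GT (TV k C D)) (hz : z ∈ ZtG (DG (tdh (D := D) dC) (tdv (C := C) dD)) 0)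
    (hQ : QG (tq C' D') z = 0) : z = 0 := by
  obtain ⟨αC, βC, SC, hC⟩ := exists_contr hdC
  obtain ⟨αD, βD, SD, hD⟩ := exists_contr hdD
  have h1 := Z0_eq hC hD z hz
  have h2 : z 0 0 = TensorProduct.map (βC 0) (βD 0) (aG αC αD z 0 0) := by
    have := congrFun (congrFun h1 0) 0
    rw [bG_apply] at this
    exact this
  have h3 : tq C' D' 0 0 (z 0 0) = 0 := congrFun (congrFun hQ 0) 0
  rw [h2] at h3
  unfold tq at h3
  rw [TensorProduct.map_map] at h3
  have hinjC : Function.Injective ((C' 0).mkQ ∘ₗ βC 0) := by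
    rw [injective_iff_map_eq_zero]
    intro a ha
    rw [LinearMap.comp_apply, Submodule.mkQ_apply, Submodule.Quotient.mk_eq_zero] at ha
    have : βC 0 a ∈ C' 0 ⊓ LinearMap.ker (dC 0) := ⟨ha, LinearMap.mem_ker.2 (hC.d_β 0 a)⟩
    rw [h0C, Submodule.mem_bot] at this
    rw [← hC.α_β 0 a, this, map_zero]
  have hinjD : Function.Injective ((D' 0).mkQ ∘ₗ βD 0) := by
    rw [injective_iff_map_eq_zero]
    intro a ha
    rw [LinearMap.comp_apply, Submodule.mkQ_apply, Submodule.Quotient.mk_eq_zero] at ha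
    have : βD 0 a ∈ D' 0 ⊓ LinearMap.ker (dD 0) := ⟨ha, LinearMap.mem_ker.2 (hD.d_β 0 a)⟩
    rw [h0D, Submodule.mem_bot] at this
    rw [← hD.α_β 0 a, this, map_zero]
  have h4 : aG αC αD z 0 0 = 0 := by
    apply TensorProduct.map_injective_of_flat_flat _ _ hinjC hinjD
    rw [h3, map_zero]
  rw [h4, map_zero] at h2
  rw [eq_s00_of_mem_Tn hz.2, h2, s00_zero]

end TwoVar

end Groth.Agent.Lib.helper26.Kun
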