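import Mathlib
import Groth.Agent.Lib.Helper26.KunA
import Groth.Agent.Lib.Helper26.KunB
import Groth.Agent.Lib.Helper26.KunC
import Groth.Agent.Lib.Helper26.KunD
import Groth.Agent.Lib.Helper26.KunE
import Groth.Agent.Lib.Helper26.KunF

/-!
# The dimension formula for the cohomology of `ker (C ⊗ D → C/C' ⊗ D/D')` (helper26)

`finrank_main` : for resolutions `C`, `D` (exact in positive degrees) with subcomplexes `C'`, `D'`
whose cohomology vanishes in degrees `0`, `1`:
`dim H^n(G) = dim Z^0(C) · dim H^n(D') + dim H^n(C') · dim Z^0(D) + Σ_{i+j=n+1} dim H^i(C') · dim H^j(D')`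
-/

set_option autoImplicit false
set_option linter.unusedSectionVars false
universe u
open scoped TensorProduct

namespace Groth.Agent.Lib.helper26.Kun

section Arith

/-- the reindexing of the Künneth sum -/
theorem sum_reindex (f g c' d' : ℕ → ℕ) (c0 d0 : ℕ) (hf0 : f 0 = c0) (hg0 : g 0 = d0)
    (hf : ∀ p, f (p + 1) = c' (p + 2)) (hg : ∀ q, g (q + 1) = d' (q + 2))
    (hc0 : c' 0 = 0) (hc1 : c' 1 = 0) (hd0 : d' 0 = 0) (hd1 : d' 1 = 0) (m : ℕ) :
    ∑ i ∈ Finset.range (m + 2), f i * g (m + 1 - i) =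
      c0 * d' (m + 2) + c' (m + 2) * d0 +
        ∑ i ∈ Finset.range (m + 4), c' i * d' (m + 3 - i) := by
  have hR : ∑ i ∈ Finset.range (m + 4), c' i * d' (m + 3 - i) =
      ∑ j ∈ Finset.range m, c' (j + 2) * d' (m + 1 - j) := by
    rw [Finset.sum_range_succ, Finset.sum_range_succ]
    have e1 : m + 3 - (m + 3) = 0 := by omega
    have e2 : m + 3 - (m + 2) = 1 := by omega
    rw [e1, e2, hd0, hd1, mul_zero, mul_zero, add_zero, add_zero]
    rw [Finset.sum_range_succ', Finset.sum_range_succ']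
    rw [hc0, zero_mul, add_zero, hc1, zero_mul, add_zero]
    apply Finset.sum_congr rfl
    intro j hj
    rw [Finset.mem_range] at hj
    have e3 : m + 3 - (j + 1 + 1) = m + 1 - j := by omega
    rw [e3]
  have hL : ∑ i ∈ Finset.range (m + 2), f i * g (m + 1 - i) =
      c0 * d' (m + 2) + c' (m + 2) * d0 + ∑ j ∈ Finset.range m, c' (j + 2) * d' (m + 1 - j) := by
    rw [Finset.sum_range_succ, Finset.sum_range_succ']
    have e1 : m + 1 - (m + 1) = 0 := by omega
    have e2 : m + 1 - 0 = m + 1 := by omega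
    rw [e1, e2, hf0, hg0, hg, hf]
    have e4 : ∑ j ∈ Finset.range m, f (j + 1) * g (m + 1 - (j + 1)) =
        ∑ j ∈ Finset.range m, c' (j + 2) * d' (m + 1 - j) := by
      apply Finset.sum_congr rfl
      intro j hj
      rw [Finset.mem_range] at hj
      obtain ⟨r, hr⟩ : ∃ r, m + 1 - (j + 1) = r + 1 := ⟨m - j - 1, by omega⟩
      have e5 : m + 1 - j = r + 2 := by omega
      rw [hr, hf, hg, e5]
    rw [e4]
    ring
  rw [hL, hR]

end Arith

section Final

variable {k : Type u} [Field k]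
  {C : ℕ → Type u} [∀ p, AddCommGroup (C p)] [∀ p, Module k (C p)] (dC : ∀ p, C p →ₗ[k] C (p + 1))
  (C' : ∀ p, Submodule k (C p)) (hC' : ∀ p, C' p ≤ (C' (p + 1)).comap (dC p))
  {D : ℕ → Type u} [∀ q, AddCommGroup (D q)] [∀ q, Module k (D q)] (dD : ∀ q, D q →ₗ[k] D (q + 1))
  (D' : ∀ q, Submodule k (D q)) (hD' : ∀ q, D' q ≤ (D' (q + 1)).comap (dD q))
  (hdC : ∀ p x, dC (p + 1) (dC p x) = 0) (hdD : ∀ q x, dD (q + 1) (dD q x) = 0)
  (exC : ∀ i, LinearMap.ker (dC (i + 1)) ≤ LinearMap.range (dC i))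
  (exD : ∀ i, LinearMap.ker (dD (i + 1)) ≤ LinearMap.range (dD i))
  (h0C : C' 0 ⊓ LinearMap.ker (dC 0) = ⊥)
  (h1C : ∀ y ∈ C' 1, dC 1 y = 0 → ∃ x ∈ C' 0, dC 0 x = y)
  (h0D : D' 0 ⊓ LinearMap.ker (dD 0) = ⊥)
  (h1D : ∀ y ∈ D' 1, dD 1 y = 0 → ∃ x ∈ D' 0, dD 0 x = y)

/-- cocycles of `G = ker (C ⊗ D → C/C' ⊗ D/D')` in total degree `n` -/
abbrev ZK (n : ℕ) : Submodule k (GT (TV k C D)) :=
  ZGG (tdh (D := D) dC) (tdv (C := C) dD) (tq C' D') n

/-- coboundaries of `G` in total degree `n` -/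
abbrev BK (n : ℕ) : Submodule k (GT (TV k C D)) :=
  BGG (tdh (D := D) dC) (tdv (C := C) dD) (tq C' D') n

include hdC hdD h0C h0D in
theorem main_zero : Subsingleton (Hq (ZK dC C' dD D' 0) (BK dC C' dD D' 0)) :=
  H0_subsingleton _ _ _ (Z0_inj dC C' dD D' hdC hdD h0C h0D)

include hC' hD' hdC hdD exC exD h1C h1D in
theorem main_one : Subsingleton (Hq (ZK dC C' dD D' 1) (BK dC C' dD D' 1)) :=
  H1_subsingleton (tdh dC) (tdv dD) (tdh (dq dC C' hC')) (tdv (dq dD D' hD')) (tq C' D')
    (tq_tdh dC C' hC' D') (tq_tdv C' dD D' hD') (tot_exact dC dD hdC hdD exC exD 0)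
    (Z0_surj dC C' hC' dD D' hD' hdC hdD h1C h1D)

include hC' hD' hdC hdD exC exD in
theorem main_succ (m : ℕ) :
    Nonempty (Hq (ZK dC C' dD D' (m + 2)) (BK dC C' dD D' (m + 2)) ≃ₗ[k]
      Tot (TV k (HC (fun p => C p ⧸ C' p) (dq dC C' hC'))
        (HC (fun q => D q ⧸ D' q) (dq dD D' hD'))) (m + 1)) := by
  obtain ⟨e1⟩ := conn_iso (tdh dC) (tdv dD) (tdh (dq dC C' hC')) (tdv (dq dD D' hD')) (tq C' D')
    (tq_tdh dC C' hC' D') (tq_tdv C' dD D' hD') (tq_surjective C' D')
    (tdh_tdh dC hdC) (tdv_tdv dD hdD) (tdv_tdh dC dD) m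
    (tot_exact dC dD hdC hdD exC exD m) (tot_exact dC dD hdC hdD exC exD (m + 1))
  obtain ⟨αC, βC, SC, hC⟩ := exists_contr (dq_dq dC C' hC' hdC)
  obtain ⟨αD, βD, SD, hD⟩ := exists_contr (dq_dq dD D' hD' hdD)
  obtain ⟨e2⟩ := kunneth hC hD (m + 1)
  exact ⟨e1 ≪≫ₗ e2⟩

include h0C in
theorem HS_zero_subsingleton : Subsingleton (HS dC C' 0) := by
  apply Hq.subsingleton_of_le
  rw [h0C]
  exact bot_le

include h1C in
theorem HS_one_subsingleton : Subsingleton (HS dC C' 1) := by
  apply Hq.subsingleton_of_le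
  intro y hy
  obtain ⟨x, hx, hxy⟩ := h1C y hy.1 hy.2
  exact ⟨x, hx, hxy⟩

include hC' hD' hdC hdD exC exD h0C h1C h0D h1D in
/-- **the dimension formula** -/
theorem finrank_main [Module.Finite k ↥(LinearMap.ker (dC 0))] [∀ i, Module.Finite k (HS dC C' i)]
    [Module.Finite k ↥(LinearMap.ker (dD 0))] [∀ i, Module.Finite k (HS dD D' i)] (n : ℕ) :
    Module.finrank k (Hq (ZK dC C' dD D' n) (BK dC C' dD D' n)) =
      Module.finrank k ↥(LinearMap.ker (dC 0)) * Module.finrank k (HS dD D' n) +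
      Module.finrank k (HS dC C' n) * Module.finrank k ↥(LinearMap.ker (dD 0)) +
      ∑ i ∈ Finset.range (n + 2),
        Module.finrank k (HS dC C' i) * Module.finrank k (HS dD D' (n + 1 - i)) := by
  have hc0 : Module.finrank k (HS dC C' 0) = 0 := by
    have := HS_zero_subsingleton dC C' h0C
    exact Module.finrank_zero_of_subsingleton
  have hc1 : Module.finrank k (HS dC C' 1) = 0 := by
    have := HS_one_subsingleton dC C' h1C
    exact Module.finrank_zero_of_subsingleton
  have hd0 : Module.finrank k (HS dD D' 0) = 0 := by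
    have := HS_zero_subsingleton dD D' h0D
    exact Module.finrank_zero_of_subsingleton
  have hd1 : Module.finrank k (HS dD D' 1) = 0 := by
    have := HS_one_subsingleton dD D' h1D
    exact Module.finrank_zero_of_subsingleton
  cases n with
  | zero =>
    have := main_zero dC C' dD D' hdC hdD h0C h0D
    rw [Module.finrank_zero_of_subsingleton]
    simp [Finset.sum_range_succ, hc0, hc1, hd0, hd1]
  | succ n =>
    cases n with
    | zero =>
      have := main_one dC C' hC' dD D' hD' hdC hdD exC exD h1C h1D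
      rw [Module.finrank_zero_of_subsingleton]
      simp [Finset.sum_range_succ, hc0, hc1, hd0, hd1]
    | succ m =>
      obtain ⟨e⟩ := main_succ dC C' hC' dD D' hD' hdC hdD exC exD m
      obtain ⟨eC0⟩ := HC_quot_zero hC' h0C h1C hdC
      obtain ⟨eD0⟩ := HC_quot_zero hD' h0D h1D hdD
      have eCs : ∀ p, Nonempty (HC (fun p => C p ⧸ C' p) (dq dC C' hC') (p + 1) ≃ₗ[k]
          HS dC C' (p + 2)) := fun p => HC_quot_succ hC' hdC exC p
      have eDs : ∀ q, Nonempty (HC (fun q => D q ⧸ D' q) (dq dD D' hD') (q + 1) ≃ₗ[k]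
          HS dD D' (q + 2)) := fun q => HC_quot_succ hD' hdD exD q
      have hfinC : ∀ p, Module.Finite k (HC (fun p => C p ⧸ C' p) (dq dC C' hC') p) := by
        intro p
        cases p with
        | zero => exact Module.Finite.equiv eC0.symm
        | succ p =>
          obtain ⟨e'⟩ := eCs p
          exact Module.Finite.equiv e'.symm
      have hfinD : ∀ q, Module.Finite k (HC (fun q => D q ⧸ D' q) (dq dD D' hD') q) := by
        intro q
        cases q with
        | zero => exact Module.Finite.equiv eD0.symm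
        | succ q =>
          obtain ⟨e'⟩ := eDs q
          exact Module.Finite.equiv e'.symm
      rw [e.finrank_eq, Module.finrank_pi_fintype]
      simp only [Module.finrank_tensorProduct]
      have hsum : ∑ pq : AD (m + 1),
          Module.finrank k (HC (fun p => C p ⧸ C' p) (dq dC C' hC') pq.1.1) *
            Module.finrank k (HC (fun q => D q ⧸ D' q) (dq dD D' hD') pq.1.2) =
          ∑ i ∈ Finset.range (m + 2),
            Module.finrank k (HC (fun p => C p ⧸ C' p) (dq dC C' hC') i) *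
              Module.finrank k (HC (fun q => D q ⧸ D' q) (dq dD D' hD') (m + 1 - i)) := by
        refine ((Finset.sum_subtype (Finset.HasAntidiagonal.antidiagonal (m + 1))
          (fun pq => Finset.HasAntidiagonal.mem_antidiagonal)
          (fun pq : ℕ × ℕ => Module.finrank k (HC (fun p => C p ⧸ C' p) (dq dC C' hC') pq.1) *
            Module.finrank k (HC (fun q => D q ⧸ D' q) (dq dD D' hD') pq.2))).symm).trans ?_
        exact Finset.Nat.sum_antidiagonal_eq_sum_range_succ_mk
          (fun pq : ℕ × ℕ => Module.finrank k (HC (fun p => C p ⧸ C' p) (dq dC C' hC') pq.1) *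
            Module.finrank k (HC (fun q => D q ⧸ D' q) (dq dD D' hD') pq.2)) (m + 1)
      rw [hsum]
      exact sum_reindex
        (fun p => Module.finrank k (HC (fun p => C p ⧸ C' p) (dq dC C' hC') p))
        (fun q => Module.finrank k (HC (fun q => D q ⧸ D' q) (dq dD D' hD') q))
        (fun i => Module.finrank k (HS dC C' i)) (fun i => Module.finrank k (HS dD D' i))
        _ _ eC0.finrank_eq eD0.finrank_eq
        (fun p => by obtain ⟨e'⟩ := eCs p; exact e'.finrank_eq)
        (fun q => by obtain ⟨e'⟩ := eDs q; exact e'.finrank_eq) hc0 hc1 hd0 hd1 m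

end Final

end Groth.Agent.Lib.helper26.Kun
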