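import Mathlib
import Groth.Prelude.Def_GrLC
import Groth.Prelude.Def_GrSeg
import Groth.Agent.Lib.Helper19.GrMod
import Groth.Agent.Lib.Helper19.GrConv
import Groth.Agent.Lib.Helper26.GrCM6
import Groth.Agent.Lib.Helper26.GrCM11

/-!
# Segre products of graded modules as graded modules over the Segre product ring (helper26)

* `tpModule` : the `R ⊗ S`-module structure on `X ⊗ Y` (as a definition, not an instance);
* `SW ψ X Y` : `X ⊗ Y` as a `T`-module through `ψ : T → R ⊗ S`;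
* `segSub ψ 𝒳 𝒴` : the `T`-submodule `X # Y = ⊕_d X_d ⊗ Y_d` of `X ⊗ Y`;
* `segGMod` : `X # Y` as a graded module over `T` (graded by additive subgroups).
-/

set_option autoImplicit false
set_option linter.unusedSectionVars false
set_option linter.dupNamespace false
universe u
open scoped TensorProduct

namespace Groth.Agent.Lib.helper26.Kun

open GrLC Groth.Agent.Lib.helper26.GrCM Groth.Agent.Lib.helper19.GrConv
  Groth.Agent.Lib.helper19.GrMod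

section TP

variable {k : Type u} [Field k] {R : Type u} [CommRing R] [Algebra k R]
  {S : Type u} [CommRing S] [Algebra k S]
  {X : Type u} [AddCommGroup X] [Module R X] [Module k X] [IsScalarTower k R X]
  {Y : Type u} [AddCommGroup Y] [Module S Y] [Module k Y] [IsScalarTower k S Y]

theorem act_one (w : X ⊗[k] Y) : GrSeg.act k R S X Y 1 w = w := by
  rw [Algebra.TensorProduct.one_def]
  induction w using TensorProduct.induction_on with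
  | zero => rw [map_zero]
  | tmul x y => rw [GrSeg.act_tmul, one_smul, one_smul]
  | add w w' h h' => rw [map_add, h, h']

/-- the `R ⊗ S`-module structure on `X ⊗ Y` -/
@[reducible] noncomputable def tpModule : Module (R ⊗[k] S) (X ⊗[k] Y) where
  smul a w := GrSeg.act k R S X Y a w
  one_smul w := act_one w
  mul_smul a b w := act_mul a b w
  smul_zero a := map_zero _
  smul_add a w w' := map_add _ w w'
  add_smul a b w := by
    show GrSeg.act k R S X Y (a + b) w = _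
    rw [map_add, LinearMap.add_apply]
    rfl
  zero_smul w := by
    show GrSeg.act k R S X Y 0 w = 0
    rw [map_zero, LinearMap.zero_apply]

end TP

section SWdef

variable {k : Type u} [Field k] {R : Type u} [CommRing R] [Algebra k R]
  {S : Type u} [CommRing S] [Algebra k S] {T : Type u} [CommRing T] [Algebra k T]

/-- `X ⊗ Y` as a `T`-module through `ψ : T → R ⊗ S` -/
@[nolint unusedArguments]
def SW (_ψ : T →ₐ[k] R ⊗[k] S) (X Y : Type u) [AddCommGroup X] [Module R X] [Module k X]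
    [IsScalarTower k R X] [AddCommGroup Y] [Module S Y] [Module k Y] [IsScalarTower k S Y] :
    Type u := X ⊗[k] Y

variable (ψ : T →ₐ[k] R ⊗[k] S)
  {X : Type u} [AddCommGroup X] [Module R X] [Module k X] [IsScalarTower k R X]
  {Y : Type u} [AddCommGroup Y] [Module S Y] [Module k Y] [IsScalarTower k S Y]

noncomputable instance : AddCommGroup (SW ψ X Y) := inferInstanceAs (AddCommGroup (X ⊗[k] Y))

noncomputable instance : Module k (SW ψ X Y) := inferInstanceAs (Module k (X ⊗[k] Y))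

noncomputable instance : Module T (SW ψ X Y) :=
  letI : Module (R ⊗[k] S) (X ⊗[k] Y) := tpModule
  Module.compHom (X ⊗[k] Y) ψ.toRingHom

/-- the underlying tensor -/
def SW.val (w : SW ψ X Y) : X ⊗[k] Y := w

/-- a tensor as an element of the `T`-module -/
def SW.of (w : X ⊗[k] Y) : SW ψ X Y := w

@[simp] theorem SW.val_of (w : X ⊗[k] Y) : SW.val ψ (SW.of ψ w) = w := rfl
@[simp] theorem SW.of_val (w : SW ψ X Y) : SW.of ψ (SW.val ψ w) = w := rfl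
@[simp] theorem SW.val_add (w w' : SW ψ X Y) : SW.val ψ (w + w') = SW.val ψ w + SW.val ψ w' := rfl
@[simp] theorem SW.val_zero : SW.val ψ (0 : SW ψ X Y) = 0 := rfl
@[simp] theorem SW.val_neg (w : SW ψ X Y) : SW.val ψ (-w) = -SW.val ψ w := rfl
@[simp] theorem SW.val_sub (w w' : SW ψ X Y) : SW.val ψ (w - w') = SW.val ψ w - SW.val ψ w' := rfl

theorem SW.val_smul (t : T) (w : SW ψ X Y) :
    SW.val ψ (t • w) = GrSeg.act k R S X Y (ψ t) (SW.val ψ w) := rfl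

theorem SW.val_ksmul (c : k) (w : SW ψ X Y) : SW.val ψ (c • w) = c • SW.val ψ w := rfl

theorem SW.ext {w w' : SW ψ X Y} (h : SW.val ψ w = SW.val ψ w') : w = w' := h

instance : IsScalarTower k T (SW ψ X Y) where
  smul_assoc c t w := by
    apply SW.ext ψ
    rw [SW.val_smul, SW.val_ksmul, SW.val_smul, map_smul, map_smul, LinearMap.smul_apply]

end SWdef

section Seg

variable {k : Type u} [Field k] {R : Type u} [CommRing R] [Algebra k R]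
  (𝒜 : ℤ → Submodule k R) [GradedAlgebra 𝒜]
  {S : Type u} [CommRing S] [Algebra k S] (ℬ : ℤ → Submodule k S) [GradedAlgebra ℬ]
  {T : Type u} [CommRing T] [Algebra k T] (𝒯 : ℤ → Submodule k T) [GradedAlgebra 𝒯]
  (ψ : T →ₐ[k] R ⊗[k] S) (hT : GrSeg.IsSegreRing 𝒜 ℬ 𝒯 ψ)
  {X : Type u} [AddCommGroup X] [Module R X] [Module k X] [IsScalarTower k R X]
  (𝒳 : ℤ → AddSubgroup X) [DirectSum.Decomposition 𝒳] [SetLike.GradedSMul 𝒜 𝒳]
  {Y : Type u} [AddCommGroup Y] [Module S Y] [Module k Y] [IsScalarTower k S Y]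
  (𝒴 : ℤ → AddSubgroup Y) [DirectSum.Decomposition 𝒴] [SetLike.GradedSMul ℬ 𝒴]

/-- the `k`-subspace `⊕_d X_d ⊗ Y_d` of `X ⊗ Y` -/
def segK : Submodule k (X ⊗[k] Y) := ⨆ d : ℤ, GrSeg.segrePiece k 𝒳 𝒴 d

theorem segrePiece_le_segK (d : ℤ) : GrSeg.segrePiece k 𝒳 𝒴 d ≤ segK 𝒳 𝒴 :=
  le_iSup (fun d : ℤ => GrSeg.segrePiece k 𝒳 𝒴 d) d

include hT in
theorem psi_mem_segrePiece {n : ℤ} {t : T} (ht : t ∈ 𝒯 n) : ψ t ∈ GrSeg.segrePiece k 𝒜 ℬ n := by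
  rw [← hT.2 n]
  exact ⟨t, ht, rfl⟩

include hT in
theorem act_psi_mem_segK (t : T) {w : X ⊗[k] Y} (hw : w ∈ segK 𝒳 𝒴) :
    GrSeg.act k R S X Y (ψ t) w ∈ segK 𝒳 𝒴 := by
  classical
  rw [← DirectSum.sum_support_decompose 𝒯 t, map_sum, map_sum, LinearMap.sum_apply]
  apply Submodule.sum_mem
  intro n _
  have hn : ψ ((DirectSum.decompose 𝒯 t n : 𝒯 n) : T) ∈ GrSeg.segrePiece k 𝒜 ℬ n :=
    psi_mem_segrePiece 𝒜 ℬ 𝒯 ψ hT (SetLike.coe_mem _)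
  unfold segK at hw
  induction hw using Submodule.iSup_induction' with
  | mem d z hz =>
    exact segrePiece_le_segK 𝒳 𝒴 (n + d) (act_mem_segrePiece 𝒜 ℬ 𝒳 𝒴 hn hz)
  | zero => rw [map_zero]; exact zero_mem _
  | add z z' _ _ h h' => rw [map_add]; exact add_mem h h'

/-- the Segre product `X # Y` as a `T`-submodule of `X ⊗ Y` -/
def segSub : Submodule T (SW ψ X Y) where
  carrier := {w | SW.val ψ w ∈ segK 𝒳 𝒴}
  zero_mem' := (segK 𝒳 𝒴).zero_mem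
  add_mem' := fun {_ _} ha hb => (segK 𝒳 𝒴).add_mem ha hb
  smul_mem' := fun t _ hw => act_psi_mem_segK 𝒜 ℬ 𝒯 ψ hT 𝒳 𝒴 t hw

theorem mem_segSub {w : SW ψ X Y} :
    w ∈ segSub 𝒜 ℬ 𝒯 ψ hT 𝒳 𝒴 ↔ SW.val ψ w ∈ segK 𝒳 𝒴 := Iff.rfl

/-- the pieces of `X # Y` -/
def segGr (d : ℤ) : AddSubgroup ↥(segSub 𝒜 ℬ 𝒯 ψ hT 𝒳 𝒴) where
  carrier := {z | SW.val ψ (z : SW ψ X Y) ∈ GrSeg.segrePiece k 𝒳 𝒴 d}
  zero_mem' := (GrSeg.segrePiece k 𝒳 𝒴 d).zero_mem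
  add_mem' := fun {_ _} ha hb => (GrSeg.segrePiece k 𝒳 𝒴 d).add_mem ha hb
  neg_mem' := fun {_} ha => (GrSeg.segrePiece k 𝒳 𝒴 d).neg_mem ha

theorem mem_segGr {d : ℤ} {z : ↥(segSub 𝒜 ℬ 𝒯 ψ hT 𝒳 𝒴)} :
    z ∈ segGr 𝒜 ℬ 𝒯 ψ hT 𝒳 𝒴 d ↔ SW.val ψ (z : SW ψ X Y) ∈ GrSeg.segrePiece k 𝒳 𝒴 d := Iff.rfl

instance seg_gradedSMul :
    SetLike.GradedSMul (addGr 𝒯) (segGr 𝒜 ℬ 𝒯 ψ hT 𝒳 𝒴) where
  smul_mem := by
    intro i j t z ht hz
    show GrSeg.act k R S X Y (ψ t) (SW.val ψ (z : SW ψ X Y)) ∈ GrSeg.segrePiece k 𝒳 𝒴 (i + j)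
    exact act_mem_segrePiece 𝒜 ℬ 𝒳 𝒴 (psi_mem_segrePiece 𝒜 ℬ 𝒯 ψ hT ht) hz

/-- the underlying tensor of an element of `X # Y` -/
def segVal : ↥(segSub 𝒜 ℬ 𝒯 ψ hT 𝒳 𝒴) →+ X ⊗[k] Y where
  toFun z := SW.val ψ (z : SW ψ X Y)
  map_zero' := rfl
  map_add' _ _ := rfl

theorem segVal_injective : Function.Injective (segVal 𝒜 ℬ 𝒯 ψ hT 𝒳 𝒴) := by
  intro z z' h
  exact Subtype.ext h

theorem segVal_mem (z : ↥(segSub 𝒜 ℬ 𝒯 ψ hT 𝒳 𝒴)) : segVal 𝒜 ℬ 𝒯 ψ hT 𝒳 𝒴 z ∈ segK 𝒳 𝒴 := z.2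

theorem segVal_smul (t : T) (z : ↥(segSub 𝒜 ℬ 𝒯 ψ hT 𝒳 𝒴)) :
    segVal 𝒜 ℬ 𝒯 ψ hT 𝒳 𝒴 (t • z) =
      GrSeg.act k R S X Y (ψ t) (segVal 𝒜 ℬ 𝒯 ψ hT 𝒳 𝒴 z) := rfl

/-- constructor -/
def segMk (w : X ⊗[k] Y) (hw : w ∈ segK 𝒳 𝒴) : ↥(segSub 𝒜 ℬ 𝒯 ψ hT 𝒳 𝒴) := ⟨SW.of ψ w, hw⟩

@[simp] theorem segVal_segMk (w : X ⊗[k] Y) (hw : w ∈ segK 𝒳 𝒴) :
    segVal 𝒜 ℬ 𝒯 ψ hT 𝒳 𝒴 (segMk 𝒜 ℬ 𝒯 ψ hT 𝒳 𝒴 w hw) = w := rfl

theorem seg_isInternal : DirectSum.IsInternal (segGr 𝒜 ℬ 𝒯 ψ hT 𝒳 𝒴) := by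
  classical
  rw [← isInternal_toInt_iff]
  rw [DirectSum.isInternal_submodule_iff_iSupIndep_and_iSup_eq_top]
  constructor
  · intro d
    rw [Submodule.disjoint_def]
    intro z hz1 hz2
    have hz1' : segVal 𝒜 ℬ 𝒯 ψ hT 𝒳 𝒴 z ∈ GrSeg.segrePiece k 𝒳 𝒴 d := hz1
    -- the projection kills the other pieces
    have key : ∀ z' ∈ ⨆ j, ⨆ (_ : j ≠ d), (segGr 𝒜 ℬ 𝒯 ψ hT 𝒳 𝒴 j).toIntSubmodule,
        biP 𝒜 ℬ 𝒳 𝒴 d d (segVal 𝒜 ℬ 𝒯 ψ hT 𝒳 𝒴 z') = 0 := by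
      intro z' hz'
      induction hz' using Submodule.iSup_induction' with
      | mem j y hy =>
        induction hy using Submodule.iSup_induction' with
        | mem hj y hy =>
          exact biP_eq_zero_of_ne 𝒜 ℬ 𝒳 𝒴 hj hy
        | zero => rw [map_zero, map_zero]
        | add y y' _ _ h h' => rw [map_add, map_add, h, h', add_zero]
      | zero => rw [map_zero, map_zero]
      | add y y' _ _ h h' => rw [map_add, map_add, h, h', add_zero]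
    have h1 := key z hz2
    rw [biP_fix 𝒜 ℬ 𝒳 𝒴 hz1'] at h1
    exact segVal_injective 𝒜 ℬ 𝒯 ψ hT 𝒳 𝒴 (h1.trans (map_zero _).symm)
  · rw [eq_top_iff]
    rintro ⟨w, hw⟩ _
    have hw' : SW.val ψ w ∈ segK 𝒳 𝒴 := hw
    -- induction on membership in the supremum
    have key : ∀ v ∈ segK 𝒳 𝒴, ∀ hv : v ∈ segK 𝒳 𝒴,
        segMk 𝒜 ℬ 𝒯 ψ hT 𝒳 𝒴 v hv ∈
          ⨆ j, (segGr 𝒜 ℬ 𝒯 ψ hT 𝒳 𝒴 j).toIntSubmodule := by
      intro v hv
      unfold segK at hv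
      induction hv using Submodule.iSup_induction' with
      | mem j y hy =>
        intro hv
        exact Submodule.mem_iSup_of_mem j hy
      | zero =>
        intro hv
        exact zero_mem _
      | add y y' hy hy' h h' =>
        intro hv
        have e : segMk 𝒜 ℬ 𝒯 ψ hT 𝒳 𝒴 (y + y') hv =
            segMk 𝒜 ℬ 𝒯 ψ hT 𝒳 𝒴 y hy + segMk 𝒜 ℬ 𝒯 ψ hT 𝒳 𝒴 y' hy' := rfl
        rw [e]
        exact add_mem (h hy) (h' hy')
    exact key (SW.val ψ w) hw' hw'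

/-- the grading of `X # Y` -/
@[instance_reducible]
noncomputable def segDecomposition : DirectSum.Decomposition (segGr 𝒜 ℬ 𝒯 ψ hT 𝒳 𝒴) :=
  (seg_isInternal 𝒜 ℬ 𝒯 ψ hT 𝒳 𝒴).chooseDecomposition

/-- `X # Y` as a graded `T`-module -/
noncomputable def segGMod : GMod.{u} (addGr 𝒯) :=
  { carrier := ↥(segSub 𝒜 ℬ 𝒯 ψ hT 𝒳 𝒴)
    gr := segGr 𝒜 ℬ 𝒯 ψ hT 𝒳 𝒴
    dec := segDecomposition 𝒜 ℬ 𝒯 ψ hT 𝒳 𝒴
    gsmul := seg_gradedSMul 𝒜 ℬ 𝒯 ψ hT 𝒳 𝒴 }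

end Seg

end Groth.Agent.Lib.helper26.Kun
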