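import Mathlib
import Groth.Agent.Lib.Helper26.Kun1

/-!
# Segre products of graded modules: functoriality and the diagonal retraction (helper26)

* `tensor_homogeneous_induction`;
* `diag` : the projection of `X ⊗ Y` onto `X # Y = ⊕_d X_d ⊗ Y_d`;
* `segRetract` : the `T`-linear retraction `X ⊗ Y → X # Y`;
* `segMap f g` : the map `X # Y → X' # Y'` induced by graded maps.
-/

set_option autoImplicit false
set_option linter.unusedSectionVars false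
set_option linter.dupNamespace false
universe u
open scoped TensorProduct

namespace Groth.Agent.Lib.helper26.Kun

open GrLC Groth.Agent.Lib.helper26.GrCM Groth.Agent.Lib.helper19.GrConv
  Groth.Agent.Lib.helper19.GrMod

section Diag

variable {k : Type u} [Field k] {R : Type u} [CommRing R] [Algebra k R]
  (𝒜 : ℤ → Submodule k R) [GradedAlgebra 𝒜]
  {S : Type u} [CommRing S] [Algebra k S] (ℬ : ℤ → Submodule k S) [GradedAlgebra ℬ]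
  {X : Type u} [AddCommGroup X] [Module R X] [Module k X] [IsScalarTower k R X]
  (𝒳 : ℤ → AddSubgroup X) [DirectSum.Decomposition 𝒳] [SetLike.GradedSMul 𝒜 𝒳]
  {Y : Type u} [AddCommGroup Y] [Module S Y] [Module k Y] [IsScalarTower k S Y]
  (𝒴 : ℤ → AddSubgroup Y) [DirectSum.Decomposition 𝒴] [SetLike.GradedSMul ℬ 𝒴]

/-- induction on tensors of homogeneous elements -/
theorem tensor_homogeneous_induction {P : X ⊗[k] Y → Prop} (h0 : P 0)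
    (hh : ∀ (a b : ℤ) (x : X) (y : Y), x ∈ 𝒳 a → y ∈ 𝒴 b → P (x ⊗ₜ[k] y))
    (hadd : ∀ w w', P w → P w' → P (w + w')) (w : X ⊗[k] Y) : P w := by
  classical
  induction w using TensorProduct.induction_on with
  | zero => exact h0
  | tmul x y =>
    induction x using DirectSum.Decomposition.inductionOn 𝒳 with
    | zero => rw [TensorProduct.zero_tmul]; exact h0
    | @homogeneous a x =>
      induction y using DirectSum.Decomposition.inductionOn 𝒴 with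
      | zero => rw [TensorProduct.tmul_zero]; exact h0
      | @homogeneous b y => exact hh a b x y x.2 y.2
      | add y y' hy hy' => rw [TensorProduct.tmul_add]; exact hadd _ _ hy hy'
    | add x x' hx hx' => rw [TensorProduct.add_tmul]; exact hadd _ _ hx hx'
  | add w w' hw hw' => exact hadd _ _ hw hw'

variable (k) in
/-- `x_d ↦ (y ↦ x_d ⊗ y_d)` -/
noncomputable def diagPiece (d : ℤ) : 𝒳 d →+ (Y →+ X ⊗[k] Y) where
  toFun x :=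
    { toFun := fun y => (x : X) ⊗ₜ[k] cmp 𝒴 y d
      map_zero' := by rw [cmp_zero, TensorProduct.tmul_zero]
      map_add' := fun y y' => by rw [cmp_add, TensorProduct.tmul_add] }
  map_zero' := by
    ext y
    show ((0 : 𝒳 d) : X) ⊗ₜ[k] cmp 𝒴 y d = 0
    rw [ZeroMemClass.coe_zero, TensorProduct.zero_tmul]
  map_add' x x' := by
    ext y
    show ((x + x' : 𝒳 d) : X) ⊗ₜ[k] cmp 𝒴 y d = _
    rw [AddMemClass.coe_add, TensorProduct.add_tmul]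
    rfl

variable (k) in
/-- the biadditive map `(x, y) ↦ Σ_d x_d ⊗ y_d` -/
noncomputable def diagBi : X →+ (Y →+ X ⊗[k] Y) :=
  (DirectSum.toAddMonoid (diagPiece k 𝒳 𝒴)).comp (DirectSum.decomposeAddEquiv 𝒳).toAddMonoidHom

theorem diagBi_of_mem {a : ℤ} {x : X} (hx : x ∈ 𝒳 a) (y : Y) :
    diagBi k 𝒳 𝒴 x y = x ⊗ₜ[k] cmp 𝒴 y a := by
  classical
  unfold diagBi
  rw [AddMonoidHom.comp_apply]
  show DirectSum.toAddMonoid (diagPiece k 𝒳 𝒴) (DirectSum.decompose 𝒳 x) y = _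
  rw [DirectSum.decompose_of_mem 𝒳 hx, DirectSum.toAddMonoid_of]
  rfl

include 𝒜 ℬ in
theorem diagBi_balanced (c : k) (x : X) (y : Y) :
    diagBi k 𝒳 𝒴 (c • x) y = diagBi k 𝒳 𝒴 x (c • y) := by
  classical
  induction x using DirectSum.Decomposition.inductionOn 𝒳 with
  | zero => simp only [smul_zero, map_zero, AddMonoidHom.zero_apply]
  | @homogeneous a x =>
    rw [diagBi_of_mem 𝒳 𝒴 (ksmul_mem 𝒜 𝒳 c x.2), diagBi_of_mem 𝒳 𝒴 x.2, cmp_ksmul ℬ 𝒴,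
      TensorProduct.smul_tmul]
  | add x x' hx hx' =>
    rw [smul_add, map_add, map_add, AddMonoidHom.add_apply, AddMonoidHom.add_apply, hx, hx']

/-- the projection of `X ⊗ Y` onto `⊕_d X_d ⊗ Y_d` -/
noncomputable def diag : X ⊗[k] Y →+ X ⊗[k] Y :=
  TensorProduct.liftAddHom (diagBi k 𝒳 𝒴) (diagBi_balanced 𝒜 ℬ 𝒳 𝒴)

theorem diag_tmul_of_mem {a b : ℤ} {x : X} (hx : x ∈ 𝒳 a) {y : Y} (hy : y ∈ 𝒴 b) :
    diag 𝒜 ℬ 𝒳 𝒴 (x ⊗ₜ[k] y) = if a = b then x ⊗ₜ[k] y else 0 := by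
  unfold diag
  rw [TensorProduct.liftAddHom_tmul, diagBi_of_mem 𝒳 𝒴 hx]
  split_ifs with h
  · subst h
    rw [cmp_of_mem_same 𝒴 hy]
  · rw [cmp_of_mem_ne 𝒴 hy (Ne.symm h), TensorProduct.tmul_zero]

theorem diag_ksmul (c : k) (w : X ⊗[k] Y) : diag 𝒜 ℬ 𝒳 𝒴 (c • w) = c • diag 𝒜 ℬ 𝒳 𝒴 w := by
  induction w using tensor_homogeneous_induction 𝒳 𝒴 with
  | h0 => rw [smul_zero, map_zero, smul_zero]
  | hh a b x y hx hy =>
    rw [TensorProduct.smul_tmul', diag_tmul_of_mem 𝒜 ℬ 𝒳 𝒴 (ksmul_mem 𝒜 𝒳 c hx) hy,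
      diag_tmul_of_mem 𝒜 ℬ 𝒳 𝒴 hx hy]
    split_ifs
    · rfl
    · rw [smul_zero]
  | hadd v v' h h' => rw [smul_add, map_add, map_add, smul_add, h, h']

/-- the diagonal projection as a `k`-linear map -/
noncomputable def diagL : X ⊗[k] Y →ₗ[k] X ⊗[k] Y where
  toFun := diag 𝒜 ℬ 𝒳 𝒴
  map_add' := map_add _
  map_smul' := diag_ksmul 𝒜 ℬ 𝒳 𝒴

theorem diagL_apply (w : X ⊗[k] Y) : diagL 𝒜 ℬ 𝒳 𝒴 w = diag 𝒜 ℬ 𝒳 𝒴 w := rfl

theorem diag_mem_segK (w : X ⊗[k] Y) : diag 𝒜 ℬ 𝒳 𝒴 w ∈ segK 𝒳 𝒴 := by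
  induction w using tensor_homogeneous_induction 𝒳 𝒴 with
  | h0 => rw [map_zero]; exact zero_mem _
  | hh a b x y hx hy =>
    rw [diag_tmul_of_mem 𝒜 ℬ 𝒳 𝒴 hx hy]
    split_ifs with h
    · subst h
      exact segrePiece_le_segK 𝒳 𝒴 a (Submodule.subset_span ⟨x, hx, y, hy, rfl⟩)
    · exact zero_mem _
  | hadd w w' h h' => rw [map_add]; exact add_mem h h'

theorem diag_of_mem_segK {w : X ⊗[k] Y} (hw : w ∈ segK 𝒳 𝒴) : diag 𝒜 ℬ 𝒳 𝒴 w = w := by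
  unfold segK at hw
  induction hw using Submodule.iSup_induction' with
  | mem d z hz =>
    unfold GrSeg.segrePiece at hz
    induction hz using Submodule.span_induction with
    | mem z hz =>
      obtain ⟨x, hx, y, hy, rfl⟩ := hz
      rw [diag_tmul_of_mem 𝒜 ℬ 𝒳 𝒴 hx hy, if_pos rfl]
    | zero => rw [map_zero]
    | add z z' _ _ h h' => rw [map_add, h, h']
    | smul c z _ h => rw [diag_ksmul, h]
  | zero => rw [map_zero]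
  | add z z' _ _ h h' => rw [map_add, h, h']

theorem diag_act_tmul {n : ℤ} {r : R} (hr : r ∈ 𝒜 n) {s : S} (hs : s ∈ ℬ n) (w : X ⊗[k] Y) :
    diag 𝒜 ℬ 𝒳 𝒴 (GrSeg.act k R S X Y (r ⊗ₜ[k] s) w) =
      GrSeg.act k R S X Y (r ⊗ₜ[k] s) (diag 𝒜 ℬ 𝒳 𝒴 w) := by
  induction w using tensor_homogeneous_induction 𝒳 𝒴 with
  | h0 => rw [map_zero, map_zero, map_zero]
  | hh a b x y hx hy =>
    rw [GrSeg.act_tmul, diag_tmul_of_mem 𝒜 ℬ 𝒳 𝒴 (smul_mem 𝒜 𝒳 hr hx) (smul_mem ℬ 𝒴 hs hy),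
      diag_tmul_of_mem 𝒜 ℬ 𝒳 𝒴 hx hy]
    by_cases h : a = b
    · rw [if_pos h, if_pos (by rw [h]), GrSeg.act_tmul]
    · rw [if_neg h, if_neg (fun h' => h (add_left_cancel h')), map_zero]
  | hadd w w' h h' => rw [map_add, map_add, map_add, map_add, h, h']

theorem diag_act_of_mem_segrePiece {n : ℤ} {a : R ⊗[k] S} (ha : a ∈ GrSeg.segrePiece k 𝒜 ℬ n)
    (w : X ⊗[k] Y) :
    diag 𝒜 ℬ 𝒳 𝒴 (GrSeg.act k R S X Y a w) = GrSeg.act k R S X Y a (diag 𝒜 ℬ 𝒳 𝒴 w) := by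
  unfold GrSeg.segrePiece at ha
  induction ha using Submodule.span_induction with
  | mem a ha =>
    obtain ⟨r, hr, s, hs, rfl⟩ := ha
    exact diag_act_tmul 𝒜 ℬ 𝒳 𝒴 hr hs w
  | zero => rw [map_zero, LinearMap.zero_apply, map_zero, LinearMap.zero_apply]
  | add a a' _ _ h h' =>
    rw [map_add, LinearMap.add_apply, map_add, h, h', LinearMap.add_apply]
  | smul c a _ h =>
    rw [map_smul, LinearMap.smul_apply, LinearMap.smul_apply, diag_ksmul, h]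

end Diag

section Retract

variable {k : Type u} [Field k] {R : Type u} [CommRing R] [Algebra k R]
  (𝒜 : ℤ → Submodule k R) [GradedAlgebra 𝒜]
  {S : Type u} [CommRing S] [Algebra k S] (ℬ : ℤ → Submodule k S) [GradedAlgebra ℬ]
  {T : Type u} [CommRing T] [Algebra k T] (𝒯 : ℤ → Submodule k T) [GradedAlgebra 𝒯]
  (ψ : T →ₐ[k] R ⊗[k] S) (hT : GrSeg.IsSegreRing 𝒜 ℬ 𝒯 ψ)
  {X : Type u} [AddCommGroup X] [Module R X] [Module k X] [IsScalarTower k R X]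
  (𝒳 : ℤ → AddSubgroup X) [DirectSum.Decomposition 𝒳] [SetLike.GradedSMul 𝒜 𝒳]
  {Y : Type u} [AddCommGroup Y] [Module S Y] [Module k Y] [IsScalarTower k S Y]
  (𝒴 : ℤ → AddSubgroup Y) [DirectSum.Decomposition 𝒴] [SetLike.GradedSMul ℬ 𝒴]

include hT in
theorem diag_act_psi (t : T) (w : X ⊗[k] Y) :
    diag 𝒜 ℬ 𝒳 𝒴 (GrSeg.act k R S X Y (ψ t) w) =
      GrSeg.act k R S X Y (ψ t) (diag 𝒜 ℬ 𝒳 𝒴 w) := by
  classical
  rw [← DirectSum.sum_support_decompose 𝒯 t, map_sum, map_sum, LinearMap.sum_apply, map_sum,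
    LinearMap.sum_apply]
  apply Finset.sum_congr rfl
  intro n _
  exact diag_act_of_mem_segrePiece 𝒜 ℬ 𝒳 𝒴
    (psi_mem_segrePiece 𝒜 ℬ 𝒯 ψ hT (SetLike.coe_mem _)) w

/-- the `T`-linear retraction of `X ⊗ Y` onto `X # Y` -/
noncomputable def segRetract : SW ψ X Y →ₗ[T] ↥(segSub 𝒜 ℬ 𝒯 ψ hT 𝒳 𝒴) where
  toFun w := segMk 𝒜 ℬ 𝒯 ψ hT 𝒳 𝒴 (diag 𝒜 ℬ 𝒳 𝒴 (SW.val ψ w)) (diag_mem_segK 𝒜 ℬ 𝒳 𝒴 _)
  map_add' w w' := Subtype.ext (by
    show diag 𝒜 ℬ 𝒳 𝒴 (SW.val ψ w + SW.val ψ w') = _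
    rw [map_add]
    rfl)
  map_smul' t w := Subtype.ext (by
    show diag 𝒜 ℬ 𝒳 𝒴 (GrSeg.act k R S X Y (ψ t) (SW.val ψ w)) = _
    rw [diag_act_psi 𝒜 ℬ 𝒯 ψ hT 𝒳 𝒴]
    rfl)

theorem segRetract_subtype (z : ↥(segSub 𝒜 ℬ 𝒯 ψ hT 𝒳 𝒴)) :
    segRetract 𝒜 ℬ 𝒯 ψ hT 𝒳 𝒴 (z : SW ψ X Y) = z := by
  apply Subtype.ext
  show diag 𝒜 ℬ 𝒳 𝒴 (SW.val ψ (z : SW ψ X Y)) = _
  exact diag_of_mem_segK 𝒜 ℬ 𝒳 𝒴 z.2

end Retract

section Map

variable {k : Type u} [Field k] {R : Type u} [CommRing R] [Algebra k R]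
  (𝒜 : ℤ → Submodule k R) [GradedAlgebra 𝒜]
  {S : Type u} [CommRing S] [Algebra k S] (ℬ : ℤ → Submodule k S) [GradedAlgebra ℬ]
  {T : Type u} [CommRing T] [Algebra k T] (𝒯 : ℤ → Submodule k T) [GradedAlgebra 𝒯]
  (ψ : T →ₐ[k] R ⊗[k] S) (hT : GrSeg.IsSegreRing 𝒜 ℬ 𝒯 ψ)
  {X : Type u} [AddCommGroup X] [Module R X] [Module k X] [IsScalarTower k R X]
  (𝒳 : ℤ → AddSubgroup X) [DirectSum.Decomposition 𝒳] [SetLike.GradedSMul 𝒜 𝒳]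
  {Y : Type u} [AddCommGroup Y] [Module S Y] [Module k Y] [IsScalarTower k S Y]
  (𝒴 : ℤ → AddSubgroup Y) [DirectSum.Decomposition 𝒴] [SetLike.GradedSMul ℬ 𝒴]
  {X' : Type u} [AddCommGroup X'] [Module R X'] [Module k X'] [IsScalarTower k R X']
  (𝒳' : ℤ → AddSubgroup X') [DirectSum.Decomposition 𝒳'] [SetLike.GradedSMul 𝒜 𝒳']
  {Y' : Type u} [AddCommGroup Y'] [Module S Y'] [Module k Y'] [IsScalarTower k S Y']
  (𝒴' : ℤ → AddSubgroup Y') [DirectSum.Decomposition 𝒴'] [SetLike.GradedSMul ℬ 𝒴']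

variable (k) in
/-- the tensor product of an `R`-linear and an `S`-linear map, as a `k`-linear map -/
noncomputable def tmap (f : X →ₗ[R] X') (g : Y →ₗ[S] Y') : X ⊗[k] Y →ₗ[k] X' ⊗[k] Y' :=
  TensorProduct.map (f.restrictScalars k) (g.restrictScalars k)

@[simp] theorem tmap_tmul (f : X →ₗ[R] X') (g : Y →ₗ[S] Y') (x : X) (y : Y) :
    tmap k f g (x ⊗ₜ[k] y) = f x ⊗ₜ[k] g y := rfl

theorem tmap_act (f : X →ₗ[R] X') (g : Y →ₗ[S] Y') (a : R ⊗[k] S) (w : X ⊗[k] Y) :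
    tmap k f g (GrSeg.act k R S X Y a w) = GrSeg.act k R S X' Y' a (tmap k f g w) := by
  induction a using TensorProduct.induction_on with
  | zero => simp
  | tmul r s =>
    induction w using TensorProduct.induction_on with
    | zero => simp
    | tmul x y => rw [GrSeg.act_tmul, tmap_tmul, tmap_tmul, GrSeg.act_tmul, map_smul, map_smul]
    | add w w' h h' => rw [map_add, map_add, map_add, map_add, h, h']
  | add a a' h h' =>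
    rw [map_add, LinearMap.add_apply, map_add, h, h', map_add, LinearMap.add_apply]

theorem tmap_mem_segrePiece (f : X →ₗ[R] X') (hf : IsGrHom 𝒳 𝒳' f) (g : Y →ₗ[S] Y')
    (hg : IsGrHom 𝒴 𝒴' g) {d : ℤ} {w : X ⊗[k] Y} (hw : w ∈ GrSeg.segrePiece k 𝒳 𝒴 d) :
    tmap k f g w ∈ GrSeg.segrePiece k 𝒳' 𝒴' d := by
  unfold GrSeg.segrePiece at hw
  induction hw using Submodule.span_induction with
  | mem w hw =>
    obtain ⟨x, hx, y, hy, rfl⟩ := hw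
    rw [tmap_tmul]
    exact Submodule.subset_span ⟨f x, hf d x hx, g y, hg d y hy, rfl⟩
  | zero => rw [map_zero]; exact zero_mem _
  | add w w' _ _ h h' => rw [map_add]; exact add_mem h h'
  | smul c w _ h => rw [map_smul]; exact Submodule.smul_mem _ _ h

theorem tmap_mem_segK (f : X →ₗ[R] X') (hf : IsGrHom 𝒳 𝒳' f) (g : Y →ₗ[S] Y')
    (hg : IsGrHom 𝒴 𝒴' g) {w : X ⊗[k] Y} (hw : w ∈ segK 𝒳 𝒴) :
    tmap k f g w ∈ segK 𝒳' 𝒴' := by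
  unfold segK at hw
  induction hw using Submodule.iSup_induction' with
  | mem d z hz =>
    exact segrePiece_le_segK 𝒳' 𝒴' d (tmap_mem_segrePiece 𝒳 𝒴 𝒳' 𝒴' f hf g hg hz)
  | zero => rw [map_zero]; exact zero_mem _
  | add z z' _ _ h h' => rw [map_add]; exact add_mem h h'

/-- the map `X # Y → X' # Y'` induced by graded maps -/
noncomputable def segMap (f : X →ₗ[R] X') (hf : IsGrHom 𝒳 𝒳' f) (g : Y →ₗ[S] Y')
    (hg : IsGrHom 𝒴 𝒴' g) :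
    ↥(segSub 𝒜 ℬ 𝒯 ψ hT 𝒳 𝒴) →ₗ[T] ↥(segSub 𝒜 ℬ 𝒯 ψ hT 𝒳' 𝒴') where
  toFun z := segMk 𝒜 ℬ 𝒯 ψ hT 𝒳' 𝒴' (tmap k f g (segVal 𝒜 ℬ 𝒯 ψ hT 𝒳 𝒴 z))
    (tmap_mem_segK 𝒳 𝒴 𝒳' 𝒴' f hf g hg z.2)
  map_add' z z' := Subtype.ext (by
    show tmap k f g (segVal 𝒜 ℬ 𝒯 ψ hT 𝒳 𝒴 (z + z')) = _
    rw [map_add, map_add]
    rfl)
  map_smul' t z := Subtype.ext (by
    show tmap k f g (GrSeg.act k R S X Y (ψ t) (segVal 𝒜 ℬ 𝒯 ψ hT 𝒳 𝒴 z)) = _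
    rw [tmap_act]
    rfl)

@[simp] theorem segVal_segMap (f : X →ₗ[R] X') (hf : IsGrHom 𝒳 𝒳' f) (g : Y →ₗ[S] Y')
    (hg : IsGrHom 𝒴 𝒴' g) (z : ↥(segSub 𝒜 ℬ 𝒯 ψ hT 𝒳 𝒴)) :
    segVal 𝒜 ℬ 𝒯 ψ hT 𝒳' 𝒴' (segMap 𝒜 ℬ 𝒯 ψ hT 𝒳 𝒴 𝒳' 𝒴' f hf g hg z) =
      tmap k f g (segVal 𝒜 ℬ 𝒯 ψ hT 𝒳 𝒴 z) := rfl

theorem segMap_isGrHom (f : X →ₗ[R] X') (hf : IsGrHom 𝒳 𝒳' f) (g : Y →ₗ[S] Y')
    (hg : IsGrHom 𝒴 𝒴' g) :
    IsGrHom (segGr 𝒜 ℬ 𝒯 ψ hT 𝒳 𝒴) (segGr 𝒜 ℬ 𝒯 ψ hT 𝒳' 𝒴')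
      (segMap 𝒜 ℬ 𝒯 ψ hT 𝒳 𝒴 𝒳' 𝒴' f hf g hg) := by
  intro d z hz
  exact tmap_mem_segrePiece 𝒳 𝒴 𝒳' 𝒴' f hf g hg hz

end Map

end Groth.Agent.Lib.helper26.Kun
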