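import Mathlib
import Groth.Prelude.Def_GrLC
import Groth.Agent.Lib.Helper19.GrMod
import Groth.Agent.Lib.Helper19.GrShift

/-!
# Divisibility in *injective modules (helper26)

`div_of_isStarInj` : for a *injective module `E` over a Noetherian graded ring, a homogeneous
element `x` and `u ∈ E`, `k : ℕ` there are `u' ∈ E` and `m` with `x^m (x^k u' - u) = 0`
(i.e. `E → E_x` is surjective).
-/

set_option autoImplicit false
set_option linter.unusedSectionVars false
set_option linter.dupNamespace false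
universe u

namespace Groth.Agent.Lib.helper26.Kun

open GrLC Groth.Agent.Lib.helper19.GrMod Groth.Agent.Lib.helper19.GrShift

section Div

variable {ι : Type} [AddCommGroup ι] [DecidableEq ι]
variable {R : Type u} [CommRing R] [IsNoetherianRing R] (𝒜 : ι → AddSubgroup R) [GradedRing 𝒜]
variable {E : Type u} [AddCommGroup E] [Module R E] (ℰ : ι → AddSubgroup E)
  [DirectSum.Decomposition ℰ] [SetLike.GradedSMul 𝒜 ℰ]

/-- the homogeneous case -/
theorem div_of_isStarInj_homogeneous (hE : IsStarInj 𝒜 ℰ) {e : ι} {x : R} (hx : x ∈ 𝒜 e)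
    {d : ι} {u : E} (hu : u ∈ ℰ d) (k : ℕ) :
    ∃ (u' : E) (m : ℕ), x ^ m • (x ^ k • u' - u) = 0 := by
  classical
  -- the annihilators of `x^j u` stabilize
  let I : ℕ →o Ideal R :=
    { toFun := fun j => (Submodule.span R {x ^ j • u}).annihilator
      monotone' := by
        intro i j hij r hr
        rw [Submodule.mem_annihilator_span_singleton] at hr ⊢
        obtain ⟨l, rfl⟩ := Nat.exists_eq_add_of_le hij
        rw [pow_add, mul_comm, mul_smul, smul_comm, hr, smul_zero] }
  obtain ⟨m, hm⟩ := monotone_stabilizes_iff_noetherian.2 inferInstance I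
  have hI : ∀ j, ∀ r : R, r ∈ I j ↔ r • x ^ j • u = 0 := by
    intro j r
    exact Submodule.mem_annihilator_span_singleton _ _
  -- the graded submodule `K = R x^{m+k} u`
  have hxu : x ^ (m + k) • u ∈ ℰ ((m + k) • e + d) :=
    smul_mem_add 𝒜 ℰ (SetLike.pow_mem_graded (m + k) hx) hu
  let K : Submodule R E := Submodule.span R {x ^ (m + k) • u}
  have hK : K.IsHomogeneous ℰ := span_singleton_isHomogeneous 𝒜 ℰ hxu
  let _ : DirectSum.Decomposition (subPiece ℰ K) := subDecomposition ℰ K hK
  have : SetLike.GradedSMul 𝒜 (subPiece ℰ K) := sub_gradedSMul 𝒜 ℰ K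
  have hfin : Module.Finite R K := Module.Finite.span_singleton R _
  -- the map `r x^{m+k} u ↦ r x^m u`
  let π : R →ₗ[R] K := (LinearMap.toSpanSingleton R E (x ^ (m + k) • u)).codRestrict K
    (fun r => Submodule.mem_span_singleton.2 ⟨r, rfl⟩)
  have hπ : Function.Surjective π := by
    rintro ⟨y, hy⟩
    obtain ⟨r, rfl⟩ := Submodule.mem_span_singleton.1 hy
    exact ⟨r, rfl⟩
  let φ : R →ₗ[R] E := LinearMap.toSpanSingleton R E (x ^ m • u)
  have hker : LinearMap.ker π ≤ LinearMap.ker φ := by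
    intro r hr
    have h1 : r • x ^ (m + k) • u = 0 := congrArg Subtype.val hr
    have h2 : r ∈ I (m + k) := (hI _ r).2 h1
    have h3 : r ∈ I m := by
      have := hm (m + k) (Nat.le_add_right m k)
      rw [this]
      exact h2
    exact (hI _ r).1 h3
  let ψ0 : K →ₗ[R] E :=
    (Submodule.liftQ (LinearMap.ker π) φ hker) ∘ₗ
      (LinearMap.quotKerEquivOfSurjective π hπ).symm.toLinearMap
  have hψ0 : ∀ r : R, ψ0 (π r) = φ r := by
    intro r
    have h1 : (LinearMap.quotKerEquivOfSurjective π hπ).symm (π r) =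
        Submodule.Quotient.mk r := by
      rw [LinearEquiv.symm_apply_eq]
      rfl
    show Submodule.liftQ (LinearMap.ker π) φ hker
      ((LinearMap.quotKerEquivOfSurjective π hπ).symm (π r)) = φ r
    rw [h1]
    rfl
  obtain ⟨χ, hχ⟩ := exists_extension_of_starInj 𝒜 (subPiece ℰ K) ℰ hE ℰ K.subtype
    (subtype_isGrHom ℰ K) Subtype.val_injective ψ0
  refine ⟨χ u, m, ?_⟩
  have h1 : χ (x ^ (m + k) • u) = x ^ m • u := by
    have h2 := LinearMap.congr_fun hχ (π 1)
    rw [LinearMap.comp_apply, hψ0 1] at h2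
    have h3 : K.subtype (π 1) = x ^ (m + k) • u := by
      show (1 : R) • x ^ (m + k) • u = _
      rw [one_smul]
    rw [h3] at h2
    rw [h2]
    show (1 : R) • x ^ m • u = _
    rw [one_smul]
  rw [smul_sub, ← mul_smul, ← pow_add, ← map_smul, h1, sub_self]

/-- **Divisibility up to torsion in *injective modules** -/
theorem div_of_isStarInj (hE : IsStarInj 𝒜 ℰ) {e : ι} {x : R} (hx : x ∈ 𝒜 e) (u : E) (k : ℕ) :
    ∃ (u' : E) (m : ℕ), x ^ m • (x ^ k • u' - u) = 0 := by
  classical
  induction u using DirectSum.Decomposition.inductionOn ℰ with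
  | zero => exact ⟨0, 0, by rw [smul_zero, sub_zero, smul_zero]⟩
  | @homogeneous d u => exact div_of_isStarInj_homogeneous 𝒜 ℰ hE hx u.2 k
  | add u v hu hv =>
    obtain ⟨u', m, hm⟩ := hu
    obtain ⟨v', n, hn⟩ := hv
    refine ⟨u' + v', m + n, ?_⟩
    have e1 : x ^ k • (u' + v') - (u + v) = (x ^ k • u' - u) + (x ^ k • v' - v) := by
      rw [smul_add]; abel
    rw [e1, smul_add]
    nth_rewrite 1 [add_comm m n]
    rw [pow_add, mul_smul, hm, smul_zero, pow_add, mul_smul, hn, smul_zero, add_zero]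

end Div

end Groth.Agent.Lib.helper26.Kun
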