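import Mathlib
import Groth.Prelude.Def_GrSeg
import Groth.Agent.Lib.Helper19.LCGen
import Groth.Agent.Lib.Helper19.LCRes
import Groth.Agent.Lib.Helper26.Kun1

/-!
# Torsion in `X ⊗ Y` over `R ⊗ S` (helper26)

* `mem_torsionSub_span_finset_iff`;
* `torsK t` : the elements killed by powers of all members of the finite set `t`;
* `Lmul r`, `Rmul s` : the action of `r ⊗ 1`, `1 ⊗ s` on `X ⊗ Y`;
* `mem_range_map_of_torsion` : an element of `X ⊗ Y` killed by powers of the `r ⊗ 1` (`r ∈ t₁`) and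
  of the `1 ⊗ s` (`s ∈ t₂`) lies in the image of `Γ_{t₁}(X) ⊗ Γ_{t₂}(Y)`.
-/

set_option autoImplicit false
set_option linter.unusedSectionVars false
set_option linter.dupNamespace false
universe u
open scoped TensorProduct

namespace Groth.Agent.Lib.helper26.Kun

section Finset

variable {A : Type u} [CommRing A] {M : Type u} [AddCommGroup M] [Module A M]

theorem mem_torsionSub_span_finset_iff (t : Finset A) (x : M) :
    x ∈ DRing.torsionSub (Ideal.span (t : Set A)) M ↔ ∀ b ∈ t, ∃ n : ℕ, b ^ n • x = 0 := by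
  classical
  induction t using Finset.induction_on with
  | empty =>
    constructor
    · intro _ b hb
      exact absurd hb (Finset.notMem_empty b)
    · intro _
      refine ⟨1, fun a ha => ?_⟩
      rw [Finset.coe_empty, Ideal.span_empty, pow_one, Ideal.mem_bot] at ha
      rw [ha, zero_smul]
  | insert b t hb ih =>
    rw [Finset.coe_insert, Ideal.span_insert, sup_comm,
      Groth.Agent.Lib.helper19.LCRes.mem_torsionSub_sup_span_iff, ih]
    constructor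
    · rintro ⟨h1, h2⟩ c hc
      rcases Finset.mem_insert.1 hc with rfl | hc
      · exact h2
      · exact h1 c hc
    · intro h
      exact ⟨fun c hc => h c (Finset.mem_insert_of_mem hc), h b (Finset.mem_insert_self b t)⟩

end Finset

section TorsK

variable {k : Type u} [Field k] {A : Type u} [CommRing A] [Algebra k A]
  {M : Type u} [AddCommGroup M] [Module A M] [Module k M] [IsScalarTower k A M]

/-- the elements killed by powers of all members of `t`, as a `k`-subspace -/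
def torsK (t : Finset A) : Submodule k M where
  carrier := {x | ∀ r ∈ t, ∃ n : ℕ, r ^ n • x = 0}
  zero_mem' := fun r _ => ⟨0, smul_zero _⟩
  add_mem' := by
    intro x y hx hy r hr
    obtain ⟨n, hn⟩ := hx r hr
    obtain ⟨m, hm⟩ := hy r hr
    refine ⟨n + m, ?_⟩
    have h1 : r ^ (n + m) • x = 0 := by rw [pow_add, mul_comm, mul_smul, hn, smul_zero]
    have h2 : r ^ (n + m) • y = 0 := by rw [pow_add, mul_smul, hm, smul_zero]
    rw [smul_add, h1, h2, add_zero]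
  smul_mem' := by
    intro c x hx r hr
    obtain ⟨n, hn⟩ := hx r hr
    exact ⟨n, by rw [smul_comm, hn, smul_zero]⟩

theorem mem_torsK {t : Finset A} {x : M} :
    x ∈ torsK (k := k) t ↔ ∀ r ∈ t, ∃ n : ℕ, r ^ n • x = 0 := Iff.rfl

theorem mem_torsK_iff_mem_torsionSub {t : Finset A} {x : M} :
    x ∈ torsK (k := k) t ↔ x ∈ DRing.torsionSub (Ideal.span (t : Set A)) M :=
  (mem_torsionSub_span_finset_iff t x).symm

end TorsK

section LR

variable {k : Type u} [Field k] {R : Type u} [CommRing R] [Algebra k R]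
  {S : Type u} [CommRing S] [Algebra k S]
  {X : Type u} [AddCommGroup X] [Module R X] [Module k X] [IsScalarTower k R X]
  {Y : Type u} [AddCommGroup Y] [Module S Y] [Module k Y] [IsScalarTower k S Y]

variable (k Y) in
/-- multiplication by `r` on the left factor -/
noncomputable def Lmul (r : R) : X ⊗[k] Y →ₗ[k] X ⊗[k] Y :=
  TensorProduct.map ((LinearMap.lsmul R X r).restrictScalars k) LinearMap.id

variable (k X) in
/-- multiplication by `s` on the right factor -/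
noncomputable def Rmul (s : S) : X ⊗[k] Y →ₗ[k] X ⊗[k] Y :=
  TensorProduct.map LinearMap.id ((LinearMap.lsmul S Y s).restrictScalars k)

@[simp] theorem Lmul_tmul (r : R) (x : X) (y : Y) : Lmul k Y r (x ⊗ₜ[k] y) = (r • x) ⊗ₜ[k] y := rfl

@[simp] theorem Rmul_tmul (s : S) (x : X) (y : Y) : Rmul k X s (x ⊗ₜ[k] y) = x ⊗ₜ[k] (s • y) := rfl

theorem Lmul_mul (r r' : R) (w : X ⊗[k] Y) : Lmul k Y (r * r') w = Lmul k Y r (Lmul k Y r' w) := by
  induction w using TensorProduct.induction_on with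
  | zero => rw [map_zero, map_zero, map_zero]
  | tmul x y => rw [Lmul_tmul, Lmul_tmul, Lmul_tmul, mul_smul]
  | add w w' h h' => rw [map_add, map_add, map_add, h, h']

theorem Rmul_mul (s s' : S) (w : X ⊗[k] Y) : Rmul k X (s * s') w = Rmul k X s (Rmul k X s' w) := by
  induction w using TensorProduct.induction_on with
  | zero => rw [map_zero, map_zero, map_zero]
  | tmul x y => rw [Rmul_tmul, Rmul_tmul, Rmul_tmul, mul_smul]
  | add w w' h h' => rw [map_add, map_add, map_add, h, h']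

theorem act_tmul_one (r : R) (w : X ⊗[k] Y) :
    GrSeg.act k R S X Y (r ⊗ₜ[k] (1 : S)) w = Lmul k Y r w := by
  induction w using TensorProduct.induction_on with
  | zero => rw [map_zero, map_zero]
  | tmul x y => rw [GrSeg.act_tmul, one_smul, Lmul_tmul]
  | add w w' h h' => rw [map_add, map_add, h, h']

theorem act_one_tmul (s : S) (w : X ⊗[k] Y) :
    GrSeg.act k R S X Y ((1 : R) ⊗ₜ[k] s) w = Rmul k X s w := by
  induction w using TensorProduct.induction_on with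
  | zero => rw [map_zero, map_zero]
  | tmul x y => rw [GrSeg.act_tmul, one_smul, Rmul_tmul]
  | add w w' h h' => rw [map_add, map_add, h, h']

/-- the image of `V₁ ⊗ V₂` in `X ⊗ Y` -/
def tRange (V₁ : Submodule k X) (V₂ : Submodule k Y) : Submodule k (X ⊗[k] Y) :=
  LinearMap.range (TensorProduct.map V₁.subtype V₂.subtype)

theorem tmul_mem_tRange {V₁ : Submodule k X} {V₂ : Submodule k Y} {x : X} (hx : x ∈ V₁) {y : Y}
    (hy : y ∈ V₂) : x ⊗ₜ[k] y ∈ tRange V₁ V₂ :=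
  ⟨(⟨x, hx⟩ : V₁) ⊗ₜ[k] (⟨y, hy⟩ : V₂), rfl⟩

/-- induction on the image of `V₁ ⊗ V₂` -/
theorem tRange_induction {V₁ : Submodule k X} {V₂ : Submodule k Y} {P : X ⊗[k] Y → Prop}
    (h0 : P 0) (ht : ∀ x ∈ V₁, ∀ y ∈ V₂, P (x ⊗ₜ[k] y)) (hadd : ∀ w w', P w → P w' → P (w + w'))
    {w : X ⊗[k] Y} (hw : w ∈ tRange V₁ V₂) : P w := by
  obtain ⟨w₀, rfl⟩ := hw
  induction w₀ using TensorProduct.induction_on with
  | zero => rw [map_zero]; exact h0
  | tmul x y => exact ht x.1 x.2 y.1 y.2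
  | add w w' h h' => rw [map_add]; exact hadd _ _ h h'

/-- an element of `X ⊗ Y` killed by powers of the `r ⊗ 1`, `r ∈ t₁`, and of the `1 ⊗ s`, `s ∈ t₂`,
lies in the image of `Γ_{t₁}(X) ⊗ Γ_{t₂}(Y)` -/
theorem mem_tRange_of_torsion (t₁ : Finset R) (t₂ : Finset S) (w : X ⊗[k] Y)
    (h1 : ∀ r ∈ t₁, ∃ n : ℕ, Lmul k Y (r ^ n) w = 0)
    (h2 : ∀ s ∈ t₂, ∃ n : ℕ, Rmul k X (s ^ n) w = 0) :
    w ∈ tRange (torsK (k := k) (M := X) t₁) (torsK (k := k) (M := Y) t₂) := by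
  classical
  -- step 1: `w` comes from `Γ_{t₁}(X) ⊗ Y`
  let 𝒞 := Module.Basis.ofVectorSpace k Y
  obtain ⟨b, hb⟩ := TensorProduct.eq_repr_basis_right 𝒞 w
  have hb1 : ∀ i, b i ∈ torsK (k := k) (M := X) t₁ := by
    intro i r hr
    obtain ⟨n, hn⟩ := h1 r hr
    refine ⟨n, ?_⟩
    rw [← hb] at hn
    have h3 : Lmul k Y (r ^ n) (b.sum fun i m => m ⊗ₜ[k] 𝒞 i) =
        (b.mapRange (fun m => r ^ n • m) (smul_zero _)).sum fun i m => m ⊗ₜ[k] 𝒞 i := by
      have e := Finsupp.sum_mapRange_index (g := b) (f := fun m : X => r ^ n • m)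
        (hf := smul_zero _) (h := fun i (m : X) => m ⊗ₜ[k] 𝒞 i)
        (fun i => TensorProduct.zero_tmul _ _)
      rw [e, Finsupp.sum, map_sum]
      rfl
    rw [h3] at hn
    have h4 := TensorProduct.sum_tmul_basis_right_eq_zero 𝒞 _ hn
    have h5 := DFunLike.congr_fun h4 i
    rw [Finsupp.mapRange_apply] at h5
    exact h5
  let V₁ := torsK (k := k) (M := X) t₁
  let w₁ : V₁ ⊗[k] Y := b.sum fun i _ => (⟨b i, hb1 i⟩ : V₁) ⊗ₜ[k] 𝒞 i
  have hw₁ : TensorProduct.map V₁.subtype LinearMap.id w₁ = w := by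
    rw [← hb]
    show TensorProduct.map V₁.subtype LinearMap.id (b.sum fun i _ => (⟨b i, hb1 i⟩ : V₁) ⊗ₜ[k] 𝒞 i)
      = _
    rw [Finsupp.sum, map_sum, Finsupp.sum]
    rfl
  have hinj : Function.Injective (TensorProduct.map V₁.subtype (LinearMap.id : Y →ₗ[k] Y)) :=
    Module.Flat.rTensor_preserves_injective_linearMap V₁.subtype Subtype.val_injective
  -- step 2: `w₁` comes from `Γ_{t₁}(X) ⊗ Γ_{t₂}(Y)`
  let ℬ := Module.Basis.ofVectorSpace k V₁
  obtain ⟨c, hc⟩ := TensorProduct.eq_repr_basis_left ℬ w₁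
  have hc2 : ∀ j, c j ∈ torsK (k := k) (M := Y) t₂ := by
    intro j s hs
    obtain ⟨n, hn⟩ := h2 s hs
    refine ⟨n, ?_⟩
    have h3 : TensorProduct.map (LinearMap.id : V₁ →ₗ[k] V₁)
        ((LinearMap.lsmul S Y (s ^ n)).restrictScalars k) w₁ = 0 := by
      apply hinj
      rw [map_zero, ← hn, ← hw₁]
      rw [← LinearMap.comp_apply, ← LinearMap.comp_apply]
      congr 1
      apply TensorProduct.ext'
      intro x y
      rfl
    rw [← hc] at h3
    have h4 : TensorProduct.map (LinearMap.id : V₁ →ₗ[k] V₁)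
        ((LinearMap.lsmul S Y (s ^ n)).restrictScalars k) (c.sum fun i n => ℬ i ⊗ₜ[k] n) =
        (c.mapRange (fun m => s ^ n • m) (smul_zero _)).sum fun i n => ℬ i ⊗ₜ[k] n := by
      have e := Finsupp.sum_mapRange_index (g := c) (f := fun m : Y => s ^ n • m)
        (hf := smul_zero _) (h := fun i (m : Y) => ℬ i ⊗ₜ[k] m)
        (fun i => TensorProduct.tmul_zero _ _)
      rw [e, Finsupp.sum, map_sum]
      rfl
    rw [h4] at h3
    have h5 := TensorProduct.sum_tmul_basis_left_eq_zero ℬ _ h3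
    have h6 := DFunLike.congr_fun h5 j
    rw [Finsupp.mapRange_apply] at h6
    exact h6
  let V₂ := torsK (k := k) (M := Y) t₂
  refine ⟨c.sum fun j _ => ℬ j ⊗ₜ[k] (⟨c j, hc2 j⟩ : V₂), ?_⟩
  rw [← hw₁, ← hc]
  rw [Finsupp.sum, map_sum, Finsupp.sum, map_sum]
  rfl

end LR

section Div

variable {k : Type u} [Field k] {R : Type u} [CommRing R] [Algebra k R]
  {S : Type u} [CommRing S] [Algebra k S]
  {X : Type u} [AddCommGroup X] [Module R X] [Module k X] [IsScalarTower k R X]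
  {Y : Type u} [AddCommGroup Y] [Module S Y] [Module k Y] [IsScalarTower k S Y]

/-- `x` is divisible on `V` up to `x`-torsion -/
def DivOn {A : Type u} [CommRing A] [Algebra k A] {M : Type u} [AddCommGroup M] [Module A M]
    [Module k M] [IsScalarTower k A M] (x : A) (V : Submodule k M) : Prop :=
  ∀ u ∈ V, ∀ n : ℕ, ∃ u' ∈ V, ∃ m : ℕ, x ^ m • (x ^ n • u' - u) = 0

theorem div_tRange_left {x : R} {V₁ : Submodule k X} (V₂ : Submodule k Y) (hx : DivOn x V₁)
    {w : X ⊗[k] Y} (hw : w ∈ tRange V₁ V₂) (n : ℕ) :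
    ∃ w' ∈ tRange V₁ V₂, ∃ m : ℕ, Lmul k Y (x ^ m) (Lmul k Y (x ^ n) w' - w) = 0 := by
  refine tRange_induction (P := fun w => ∃ w' ∈ tRange V₁ V₂, ∃ m : ℕ,
    Lmul k Y (x ^ m) (Lmul k Y (x ^ n) w' - w) = 0) ?_ ?_ ?_ hw
  · exact ⟨0, zero_mem _, 0, by rw [map_zero, sub_zero, map_zero]⟩
  · intro u hu v hv
    obtain ⟨u', hu', m, hm⟩ := hx u hu n
    refine ⟨u' ⊗ₜ[k] v, tmul_mem_tRange hu' hv, m, ?_⟩
    rw [Lmul_tmul, ← TensorProduct.sub_tmul, Lmul_tmul, hm, TensorProduct.zero_tmul]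
  · intro w₁ w₂ h₁ h₂
    obtain ⟨w₁', hw₁', m₁, hm₁⟩ := h₁
    obtain ⟨w₂', hw₂', m₂, hm₂⟩ := h₂
    refine ⟨w₁' + w₂', add_mem hw₁' hw₂', m₁ + m₂, ?_⟩
    have e : Lmul k Y (x ^ n) (w₁' + w₂') - (w₁ + w₂) =
        (Lmul k Y (x ^ n) w₁' - w₁) + (Lmul k Y (x ^ n) w₂' - w₂) := by
      rw [map_add]; abel
    rw [e, map_add]
    nth_rewrite 1 [add_comm m₁ m₂]
    rw [pow_add, Lmul_mul, hm₁, map_zero, pow_add, Lmul_mul, hm₂, map_zero, add_zero]

theorem div_tRange_right {y : S} (V₁ : Submodule k X) {V₂ : Submodule k Y} (hy : DivOn y V₂)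
    {w : X ⊗[k] Y} (hw : w ∈ tRange V₁ V₂) (n : ℕ) :
    ∃ w' ∈ tRange V₁ V₂, ∃ m : ℕ, Rmul k X (y ^ m) (Rmul k X (y ^ n) w' - w) = 0 := by
  refine tRange_induction (P := fun w => ∃ w' ∈ tRange V₁ V₂, ∃ m : ℕ,
    Rmul k X (y ^ m) (Rmul k X (y ^ n) w' - w) = 0) ?_ ?_ ?_ hw
  · exact ⟨0, zero_mem _, 0, by rw [map_zero, sub_zero, map_zero]⟩
  · intro u hu v hv
    obtain ⟨v', hv', m, hm⟩ := hy v hv n
    refine ⟨u ⊗ₜ[k] v', tmul_mem_tRange hu hv', m, ?_⟩
    rw [Rmul_tmul, ← TensorProduct.tmul_sub, Rmul_tmul, hm, TensorProduct.tmul_zero]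
  · intro w₁ w₂ h₁ h₂
    obtain ⟨w₁', hw₁', m₁, hm₁⟩ := h₁
    obtain ⟨w₂', hw₂', m₂, hm₂⟩ := h₂
    refine ⟨w₁' + w₂', add_mem hw₁' hw₂', m₁ + m₂, ?_⟩
    have e : Rmul k X (y ^ n) (w₁' + w₂') - (w₁ + w₂) =
        (Rmul k X (y ^ n) w₁' - w₁) + (Rmul k X (y ^ n) w₂' - w₂) := by
      rw [map_add]; abel
    rw [e, map_add]
    nth_rewrite 1 [add_comm m₁ m₂]
    rw [pow_add, Rmul_mul, hm₁, map_zero, pow_add, Rmul_mul, hm₂, map_zero, add_zero]

theorem tors_tRange_left (t₁ : Finset R) (V₂ : Submodule k Y) {w : X ⊗[k] Y}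
    (hw : w ∈ tRange (torsK (k := k) (M := X) t₁) V₂) {r : R} (hr : r ∈ t₁) :
    ∃ n : ℕ, Lmul k Y (r ^ n) w = 0 := by
  refine tRange_induction (P := fun w => ∃ n : ℕ, Lmul k Y (r ^ n) w = 0) ?_ ?_ ?_ hw
  · exact ⟨0, map_zero _⟩
  · intro u hu v hv
    obtain ⟨n, hn⟩ := hu r hr
    exact ⟨n, by rw [Lmul_tmul, hn, TensorProduct.zero_tmul]⟩
  · intro w₁ w₂ h₁ h₂
    obtain ⟨n₁, hn₁⟩ := h₁
    obtain ⟨n₂, hn₂⟩ := h₂
    refine ⟨n₁ + n₂, ?_⟩
    rw [map_add]
    nth_rewrite 1 [add_comm n₁ n₂]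
    rw [pow_add, Lmul_mul, hn₁, map_zero, pow_add, Lmul_mul, hn₂, map_zero, add_zero]

theorem tors_tRange_right (V₁ : Submodule k X) (t₂ : Finset S) {w : X ⊗[k] Y}
    (hw : w ∈ tRange V₁ (torsK (k := k) (M := Y) t₂)) {s : S} (hs : s ∈ t₂) :
    ∃ n : ℕ, Rmul k X (s ^ n) w = 0 := by
  refine tRange_induction (P := fun w => ∃ n : ℕ, Rmul k X (s ^ n) w = 0) ?_ ?_ ?_ hw
  · exact ⟨0, map_zero _⟩
  · intro u hu v hv
    obtain ⟨n, hn⟩ := hv s hs
    exact ⟨n, by rw [Rmul_tmul, hn, TensorProduct.tmul_zero]⟩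
  · intro w₁ w₂ h₁ h₂
    obtain ⟨n₁, hn₁⟩ := h₁
    obtain ⟨n₂, hn₂⟩ := h₂
    refine ⟨n₁ + n₂, ?_⟩
    rw [map_add]
    nth_rewrite 1 [add_comm n₁ n₂]
    rw [pow_add, Rmul_mul, hn₁, map_zero, pow_add, Rmul_mul, hn₂, map_zero, add_zero]

end Div

section Acyc

variable {k : Type u} [Field k] {R : Type u} [CommRing R] [Algebra k R]
  {S : Type u} [CommRing S] [Algebra k S] [IsNoetherianRing (R ⊗[k] S)]
  {X : Type u} [AddCommGroup X] [Module R X] [Module k X] [IsScalarTower k R X]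
  {Y : Type u} [AddCommGroup Y] [Module S Y] [Module k Y] [IsScalarTower k S Y]

variable (k S) in
/-- `r ↦ r ⊗ 1` -/
def incL (r : R) : R ⊗[k] S := r ⊗ₜ[k] (1 : S)

variable (k R) in
/-- `s ↦ 1 ⊗ s` -/
def incR (s : S) : R ⊗[k] S := (1 : R) ⊗ₜ[k] s

theorem incL_pow (r : R) (n : ℕ) : incL k S r ^ n = incL k S (r ^ n) := by
  unfold incL
  rw [Algebra.TensorProduct.tmul_pow, one_pow]

theorem incR_pow (s : S) (n : ℕ) : incR k R s ^ n = incR k R (s ^ n) := by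
  unfold incR
  rw [Algebra.TensorProduct.tmul_pow, one_pow]

attribute [local instance] tpModule

theorem incL_smul (r : R) (w : X ⊗[k] Y) : incL k S r • w = Lmul k Y r w := act_tmul_one r w

theorem incR_smul (s : S) (w : X ⊗[k] Y) : incR k R s • w = Rmul k X s w := act_one_tmul s w

/-- **Acyclicity of `X ⊗ Y`** for the ideals generated by subsets of `s₁ ⊗ 1 ∪ 1 ⊗ s₂`, under
divisibility hypotheses on the torsion submodules of `X` and `Y`. -/
theorem acyclic_of_div [DecidableEq (R ⊗[k] S)] (s₁ : Finset R) (s₂ : Finset S)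
    (hD1 : ∀ t : Finset R, t ⊆ s₁ → ∀ x ∈ s₁, DivOn x (torsK (k := k) (M := X) t))
    (hD2 : ∀ t : Finset S, t ⊆ s₂ → ∀ y ∈ s₂, DivOn y (torsK (k := k) (M := Y) t))
    (t : Finset (R ⊗[k] S)) (ht : t ⊆ s₁.image (incL k S) ∪ s₂.image (incR k R))
    (i : ℕ) (hi : 0 < i) :
    Subsingleton (LocCoh.H (Ideal.span (t : Set (R ⊗[k] S))) i (X ⊗[k] Y)) := by
  classical
  refine Groth.Agent.Lib.helper19.LCGen.vanish_of_div (X ⊗[k] Y)
    (s₁.image (incL k S) ∪ s₂.image (incR k R)) ?_ t ht i hi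
  intro t ht b hb w hw n
  let t₁ : Finset R := s₁.filter (fun r => incL k S r ∈ t)
  let t₂ : Finset S := s₂.filter (fun s => incR k R s ∈ t)
  have ht₁ : t₁ ⊆ s₁ := Finset.filter_subset _ _
  have ht₂ : t₂ ⊆ s₂ := Finset.filter_subset _ _
  -- the torsion submodule is the image of `Γ_{t₁}(X) ⊗ Γ_{t₂}(Y)`
  have hmem : ∀ w : X ⊗[k] Y, w ∈ DRing.torsionSub (Ideal.span (t : Set (R ⊗[k] S))) (X ⊗[k] Y) ↔
      w ∈ tRange (torsK (k := k) (M := X) t₁) (torsK (k := k) (M := Y) t₂) := by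
    intro w
    rw [mem_torsionSub_span_finset_iff]
    constructor
    · intro h
      apply mem_tRange_of_torsion
      · intro r hr
        obtain ⟨n, hn⟩ := h (incL k S r) (Finset.mem_filter.1 hr).2
        exact ⟨n, by rw [← incL_smul (S := S), ← incL_pow, hn]⟩
      · intro s hs
        obtain ⟨n, hn⟩ := h (incR k R s) (Finset.mem_filter.1 hs).2
        exact ⟨n, by rw [← incR_smul (R := R), ← incR_pow, hn]⟩
    · intro h b' hb'
      rcases Finset.mem_union.1 (ht hb') with h1 | h1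
      · obtain ⟨r, hr, rfl⟩ := Finset.mem_image.1 h1
        have hr' : r ∈ t₁ := Finset.mem_filter.2 ⟨hr, hb'⟩
        obtain ⟨n, hn⟩ := tors_tRange_left t₁ _ h hr'
        exact ⟨n, by rw [incL_pow, incL_smul, hn]⟩
      · obtain ⟨s, hs, rfl⟩ := Finset.mem_image.1 h1
        have hs' : s ∈ t₂ := Finset.mem_filter.2 ⟨hs, hb'⟩
        obtain ⟨n, hn⟩ := tors_tRange_right _ t₂ h hs'
        exact ⟨n, by rw [incR_pow, incR_smul, hn]⟩
  have hw' := (hmem w).1 hw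
  rcases Finset.mem_union.1 hb with h1 | h1
  · obtain ⟨x, hx, rfl⟩ := Finset.mem_image.1 h1
    obtain ⟨w', hw'mem, m, hm⟩ := div_tRange_left _ (hD1 t₁ ht₁ x hx) hw' n
    refine ⟨w', (hmem w').2 hw'mem, m, ?_⟩
    rw [incL_pow, incL_pow, incL_smul, incL_smul]
    exact hm
  · obtain ⟨y, hy, rfl⟩ := Finset.mem_image.1 h1
    obtain ⟨w', hw'mem, m, hm⟩ := div_tRange_right _ (hD2 t₂ ht₂ y hy) hw' n
    refine ⟨w', (hmem w').2 hw'mem, m, ?_⟩
    rw [incR_pow, incR_pow, incR_smul, incR_smul]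
    exact hm

end Acyc

end Groth.Agent.Lib.helper26.Kun
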