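import Mathlib
import Groth.Prelude.Def_GrLC
import Groth.Prelude.Def_GrSeg
import Groth.Agent.Lib.Helper19.GrConv
import Groth.Agent.Lib.Helper19.Kz2
import Groth.Agent.Lib.Helper26.Kun3
import Groth.Agent.Lib.Helper26.Kun4

/-!
# Divisibility of torsion submodules of *injective modules over graded `k`-algebras (helper26)
-/

set_option autoImplicit false
set_option linter.unusedSectionVars false
set_option linter.dupNamespace false
universe u
open scoped TensorProduct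

namespace Groth.Agent.Lib.helper26.Kun

open GrLC Groth.Agent.Lib.helper19.GrConv Groth.Agent.Lib.helper19.GrMod

section DivStar

variable {k : Type u} [Field k] {R : Type u} [CommRing R] [Algebra k R] [IsNoetherianRing R]
  (𝒜 : ℤ → Submodule k R) [GradedAlgebra 𝒜]
  {X : Type u} [AddCommGroup X] [Module R X] [Module k X] [IsScalarTower k R X]
  (𝒳 : ℤ → AddSubgroup X) [DirectSum.Decomposition 𝒳] [SetLike.GradedSMul 𝒜 𝒳]

/-- a module graded over `𝒜` is graded over the underlying additive subgroups -/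
theorem gradedSMul_addGr : SetLike.GradedSMul (addGr 𝒜) 𝒳 where
  smul_mem := fun {_ _ _ _} hi hj => SetLike.GradedSMul.smul_mem (A := 𝒜) (B := 𝒳) hi hj

theorem isStarInj_addGr (hX : IsStarInj 𝒜 𝒳) :
    letI := gradedSMul_addGr 𝒜 𝒳
    IsStarInj (addGr 𝒜) 𝒳 := by
  intro C D f hf hinj g hg
  exact hX (toS 𝒜 C) (toS 𝒜 D) f hf hinj g hg

theorem divOn_of_isStarInj (hX : IsStarInj 𝒜 𝒳) (t : Finset R)
    (ht : ∀ r ∈ t, ∃ e : ℤ, r ∈ 𝒜 e) {x : R} {e : ℤ} (hx : x ∈ 𝒜 e) :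
    DivOn x (torsK (k := k) (M := X) t) := by
  classical
  have hgs : SetLike.GradedSMul (addGr 𝒜) 𝒳 := gradedSMul_addGr 𝒜 𝒳
  have hX' : IsStarInj (addGr 𝒜) 𝒳 := isStarInj_addGr 𝒜 𝒳 hX
  have hhom : (Ideal.span (t : Set R)).IsHomogeneous (addGr 𝒜) := by
    apply Ideal.homogeneous_span
    intro r hr
    obtain ⟨e, he⟩ := ht r hr
    exact ⟨e, he⟩
  let a : HomogeneousIdeal (addGr 𝒜) := ⟨Ideal.span (t : Set R), hhom⟩
  let G : Submodule R X := gam a.toIdeal X
  let _ : DirectSum.Decomposition (subPiece 𝒳 G) :=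
    subDecomposition 𝒳 G (gam_isHomogeneous (addGr 𝒜) a 𝒳)
  have : SetLike.GradedSMul (addGr 𝒜) (subPiece 𝒳 G) := sub_gradedSMul (addGr 𝒜) 𝒳 G
  have hG : IsStarInj (addGr 𝒜) (subPiece 𝒳 G) :=
    Groth.Agent.Lib.helper19.Kz.gam_isStarInj hX' a
  have hmem : ∀ u : X, u ∈ torsK (k := k) (M := X) t ↔ u ∈ G := fun u =>
    mem_torsK_iff_mem_torsionSub
  intro u hu n
  obtain ⟨u', m, hm⟩ := div_of_isStarInj (addGr 𝒜) (subPiece 𝒳 G) hG
    (show x ∈ addGr 𝒜 e from hx) (⟨u, (hmem u).1 hu⟩ : G) n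
  refine ⟨(u' : X), (hmem _).2 u'.2, m, ?_⟩
  exact congrArg Subtype.val hm

end DivStar

end Groth.Agent.Lib.helper26.Kun
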