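import Mathlib
import Groth.Prelude.Def_GrLC
import Groth.Agent.Lib.Helper19.GrMod
import Groth.Agent.Lib.Helper19.GrLes5
import Groth.Agent.Lib.Helper19.GrLes6

/-!
# Graded resolutions and graded isomorphisms (helper26)

* `GRes 𝒜 ℳ` : a resolution of the graded module `M` by graded modules with graded differentials
  (a `GrLC.StarInjRes` without the *injectivity requirement), with the cohomology `A.H a i` of
  `Γ_a(A^•)` and its pieces `A.Hcomp a i g`, `A.Hgr a i`, defined exactly as for `StarInjRes`.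
* `StarInjRes.toGRes`
* `GrIso R ℋ ℋ'` : a linear isomorphism respecting the families of pieces in both directions.
* `grIso_of_bijective`, `grIso_of_surjective_of_ker_eq`.
* `GRes.grIso_H0` : `Γ_a(M) ≅ H^0(Γ_a(A^•))` as graded modules.
-/

set_option autoImplicit false
set_option linter.unusedSectionVars false
universe u

namespace Groth.Agent.Lib.helper26.Acyc

open GrLC Groth.Agent.Lib.helper19.GrMod Groth.Agent.Lib.helper19.GrLes

section Defs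

variable {ι : Type} [AddCommGroup ι] [DecidableEq ι]
variable {R : Type u} [CommRing R] (𝒜 : ι → AddSubgroup R) [GradedRing 𝒜]
variable {M : Type u} [AddCommGroup M] [Module R M] (ℳ : ι → AddSubgroup M)

/-- a resolution of the graded module `M` by graded modules, with graded maps -/
structure GRes [DirectSum.Decomposition ℳ] [SetLike.GradedSMul 𝒜 ℳ] : Type (u + 1) where
  X : ℕ → GMod.{u} 𝒜
  d : ∀ n : ℕ, (X n).carrier →ₗ[R] (X (n + 1)).carrier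
  ε : M →ₗ[R] (X 0).carrier
  d_grHom : ∀ n : ℕ, IsGrHom (X n).gr (X (n + 1)).gr (d n)
  ε_grHom : IsGrHom ℳ (X 0).gr ε
  ε_injective : Function.Injective ε
  exact_zero : LinearMap.ker (d 0) = LinearMap.range ε
  exact_succ : ∀ n : ℕ, LinearMap.ker (d (n + 1)) = LinearMap.range (d n)

namespace GRes

variable {𝒜 ℳ} [DirectSum.Decomposition ℳ] [SetLike.GradedSMul 𝒜 ℳ] (A : GRes 𝒜 ℳ)
  (a : HomogeneousIdeal 𝒜)

def cocyc (i : ℕ) : Submodule R (A.X i).carrier :=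
  gam a.toIdeal (A.X i).carrier ⊓ LinearMap.ker (A.d i)

def cobdy : (i : ℕ) → Submodule R (A.X i).carrier
  | 0 => ⊥
  | n + 1 => (gam a.toIdeal (A.X n).carrier).map (A.d n)

abbrev H (i : ℕ) : Type u :=
  ↥(A.cocyc a i) ⧸ (A.cobdy a i).comap (A.cocyc a i).subtype

abbrev toH (i : ℕ) : ↥(A.cocyc a i) →ₗ[R] A.H a i :=
  ((A.cobdy a i).comap (A.cocyc a i).subtype).mkQ

def Hcomp (i : ℕ) (g : ι) : Submodule (deg0 𝒜) (A.H a i) where
  carrier := {x | ∃ z : ↥(A.cocyc a i), (z : (A.X i).carrier) ∈ (A.X i).gr g ∧ A.toH a i z = x}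
  zero_mem' := ⟨0, zero_mem _, map_zero _⟩
  add_mem' := by
    rintro x y ⟨z, hz, rfl⟩ ⟨w, hw, rfl⟩
    exact ⟨z + w, add_mem hz hw, map_add _ _ _⟩
  smul_mem' := by
    rintro r x ⟨z, hz, rfl⟩
    refine ⟨r • z, ?_, LinearMap.map_smul_of_tower _ _ _⟩
    have h := SetLike.GradedSMul.smul_mem (A := 𝒜) (B := (A.X i).gr) (show (r : R) ∈ 𝒜 0 from r.2) hz
    rw [vadd_eq_add, zero_add] at h
    rw [Submodule.coe_smul_of_tower]
    exact h

def Hgr (i : ℕ) : ι → AddSubgroup (A.H a i) := fun g => (A.Hcomp a i g).toAddSubgroup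

theorem mem_Hgr (i : ℕ) (g : ι) (x : A.H a i) :
    x ∈ A.Hgr a i g ↔
      ∃ z : ↥(A.cocyc a i), (z : (A.X i).carrier) ∈ (A.X i).gr g ∧ A.toH a i z = x := Iff.rfl

theorem toH_eq_zero_iff (n : ℕ) (z : ↥(A.cocyc a n)) :
    A.toH a n z = 0 ↔ (z : (A.X n).carrier) ∈ A.cobdy a n := by
  rw [Submodule.mkQ_apply, Submodule.Quotient.mk_eq_zero]
  rfl

theorem toH_eq_iff (n : ℕ) (z w : ↥(A.cocyc a n)) :
    A.toH a n z = A.toH a n w ↔ (z : (A.X n).carrier) - w ∈ A.cobdy a n := by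
  rw [Submodule.mkQ_apply, Submodule.mkQ_apply, Submodule.Quotient.eq]
  rfl

theorem d_ε (y : M) : A.d 0 (A.ε y) = 0 := by
  have h : A.ε y ∈ LinearMap.ker (A.d 0) := by
    rw [A.exact_zero]; exact ⟨y, rfl⟩
  exact h

theorem d_d (n : ℕ) (y : (A.X n).carrier) : A.d (n + 1) (A.d n y) = 0 := by
  have h : A.d n y ∈ LinearMap.ker (A.d (n + 1)) := by
    rw [A.exact_succ]; exact ⟨y, rfl⟩
  exact h

end GRes

end Defs

section ToGRes

variable {ι : Type} [AddCommGroup ι] [DecidableEq ι]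
variable {R : Type u} [CommRing R] {𝒜 : ι → AddSubgroup R} [GradedRing 𝒜]
variable {M : Type u} [AddCommGroup M] [Module R M] {ℳ : ι → AddSubgroup M}
  [DirectSum.Decomposition ℳ] [SetLike.GradedSMul 𝒜 ℳ]

/-- forget *injectivity -/
def toGRes (E : StarInjRes 𝒜 ℳ) : GRes 𝒜 ℳ where
  X := E.X
  d := E.d
  ε := E.ε
  d_grHom := E.d_grHom
  ε_grHom := E.ε_grHom
  ε_injective := E.ε_injective
  exact_zero := E.exact_zero
  exact_succ := E.exact_succ

theorem toGRes_cocyc (E : StarInjRes 𝒜 ℳ) (a : HomogeneousIdeal 𝒜) (i : ℕ) :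
    (toGRes E).cocyc a i = E.cocyc a i := rfl

theorem toGRes_cobdy (E : StarInjRes 𝒜 ℳ) (a : HomogeneousIdeal 𝒜) (i : ℕ) :
    (toGRes E).cobdy a i = E.cobdy a i := by
  cases i <;> rfl

end ToGRes

section GrIso

variable {ι : Type} [AddCommGroup ι] [DecidableEq ι]
variable (R : Type u) [CommRing R]
variable {H : Type u} [AddCommGroup H] [Module R H] (ℋ : ι → AddSubgroup H)
variable {H₁ : Type u} [AddCommGroup H₁] [Module R H₁] (ℋ₁ : ι → AddSubgroup H₁)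
variable {H₂ : Type u} [AddCommGroup H₂] [Module R H₂] (ℋ₂ : ι → AddSubgroup H₂)

/-- a linear isomorphism respecting the pieces in both directions -/
def GrIso : Prop := ∃ e : H ≃ₗ[R] H₁, ∀ (g : ι) (x : H), x ∈ ℋ g ↔ e x ∈ ℋ₁ g

variable {R ℋ ℋ₁ ℋ₂}

theorem GrIso.refl : GrIso R ℋ ℋ := ⟨LinearEquiv.refl R H, fun _ _ => Iff.rfl⟩

theorem GrIso.symm (h : GrIso R ℋ ℋ₁) : GrIso R ℋ₁ ℋ := by
  obtain ⟨e, he⟩ := h
  refine ⟨e.symm, fun g x => ?_⟩
  rw [he g (e.symm x), e.apply_symm_apply]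

theorem GrIso.trans (h : GrIso R ℋ ℋ₁) (h' : GrIso R ℋ₁ ℋ₂) : GrIso R ℋ ℋ₂ := by
  obtain ⟨e, he⟩ := h
  obtain ⟨e', he'⟩ := h'
  refine ⟨e.trans e', fun g x => ?_⟩
  rw [he g x, he' g (e x)]
  rfl

/-- a bijective graded map between internally graded modules is a graded isomorphism -/
theorem grIso_of_bijective (hA : DirectSum.IsInternal ℋ) (hB : DirectSum.IsInternal ℋ₁)
    (f : H →ₗ[R] H₁) (hf : IsGrHom ℋ ℋ₁ f) (hbij : Function.Bijective f) : GrIso R ℋ ℋ₁ := by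
  refine ⟨LinearEquiv.ofBijective f hbij, fun g x => ⟨fun hx => hf g x hx, fun hx => ?_⟩⟩
  obtain ⟨x', hx', hxx⟩ := exists_mem_of_isGrHom ℋ ℋ₁ hA hB f hf
    (show f x ∈ ℋ₁ g from hx) x rfl
  rw [← hbij.1 hxx]
  exact hx'

/-- two strict graded surjections with the same kernel have graded-isomorphic targets -/
theorem grIso_of_surjective_of_ker_eq (p₁ : H →ₗ[R] H₁) (p₂ : H →ₗ[R] H₂)
    (hs₁ : Function.Surjective p₁) (hs₂ : Function.Surjective p₂)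
    (hker : LinearMap.ker p₁ = LinearMap.ker p₂)
    (hg₁ : IsGrHom ℋ ℋ₁ p₁) (hg₂ : IsGrHom ℋ ℋ₂ p₂)
    (hst₁ : ∀ (g : ι) (y : H₁), y ∈ ℋ₁ g → ∃ x ∈ ℋ g, p₁ x = y)
    (hst₂ : ∀ (g : ι) (y : H₂), y ∈ ℋ₂ g → ∃ x ∈ ℋ g, p₂ x = y) : GrIso R ℋ₁ ℋ₂ := by
  let e : H₁ ≃ₗ[R] H₂ :=
    (LinearMap.quotKerEquivOfSurjective p₁ hs₁).symm ≪≫ₗ
      (Submodule.quotEquivOfEq _ _ hker) ≪≫ₗ (LinearMap.quotKerEquivOfSurjective p₂ hs₂)
  have he : ∀ x : H, e (p₁ x) = p₂ x := by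
    intro x
    have h1 : (LinearMap.quotKerEquivOfSurjective p₁ hs₁).symm (p₁ x) =
        Submodule.Quotient.mk x := by
      rw [LinearEquiv.symm_apply_eq]
      rfl
    show (LinearMap.quotKerEquivOfSurjective p₂ hs₂)
      ((Submodule.quotEquivOfEq _ _ hker)
        ((LinearMap.quotKerEquivOfSurjective p₁ hs₁).symm (p₁ x))) = p₂ x
    rw [h1]
    rfl
  refine ⟨e, fun g y => ⟨fun hy => ?_, fun hy => ?_⟩⟩
  · obtain ⟨x, hx, rfl⟩ := hst₁ g y hy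
    rw [he]
    exact hg₂ g x hx
  · obtain ⟨x, hx, hxy⟩ := hst₂ g (e y) hy
    have h1 : e (p₁ x) = e y := by rw [he, hxy]
    rw [← e.injective h1]
    exact hg₁ g x hx

end GrIso

section H0

variable {ι : Type} [AddCommGroup ι] [DecidableEq ι]
variable {R : Type u} [CommRing R] {𝒜 : ι → AddSubgroup R} [GradedRing 𝒜]
variable {M : Type u} [AddCommGroup M] [Module R M] {ℳ : ι → AddSubgroup M}
  [DirectSum.Decomposition ℳ] [SetLike.GradedSMul 𝒜 ℳ]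

namespace GRes

variable (A : GRes 𝒜 ℳ) (a : HomogeneousIdeal 𝒜)

/-- `Γ_a(M) → H^0(Γ_a(A^•))` -/
noncomputable def h0 : ↥(gam a.toIdeal M) →ₗ[R] A.H a 0 :=
  A.toH a 0 ∘ₗ
    (A.ε ∘ₗ (gam a.toIdeal M).subtype).codRestrict (A.cocyc a 0)
      (fun m => ⟨gam_map a.toIdeal A.ε m.2, A.d_ε m.1⟩)

theorem h0_apply (m : ↥(gam a.toIdeal M)) :
    A.h0 a m = A.toH a 0 ⟨A.ε m.1, ⟨gam_map a.toIdeal A.ε m.2, A.d_ε m.1⟩⟩ := rfl

theorem h0_injective : Function.Injective (A.h0 a) := by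
  rw [injective_iff_map_eq_zero]
  intro m hm
  rw [h0_apply, toH_eq_zero_iff] at hm
  have h1 : A.ε m.1 = 0 := hm
  have h2 : m.1 = 0 := A.ε_injective (h1.trans (map_zero _).symm)
  exact Subtype.ext h2

theorem h0_surjective : Function.Surjective (A.h0 a) := by
  intro y
  obtain ⟨z, rfl⟩ := Submodule.mkQ_surjective _ y
  have hz : (z : (A.X 0).carrier) ∈ LinearMap.range A.ε := by
    rw [← A.exact_zero]; exact z.2.2
  obtain ⟨m, hm⟩ := hz
  have hmg : m ∈ gam a.toIdeal M := by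
    obtain ⟨n, hn⟩ := z.2.1
    refine ⟨n, fun r hr => ?_⟩
    apply A.ε_injective
    rw [map_smul, hm, hn r hr, map_zero]
  refine ⟨⟨m, hmg⟩, ?_⟩
  rw [h0_apply]
  congr 1
  exact Subtype.ext hm

theorem h0_mem_iff (g : ι) (m : ↥(gam a.toIdeal M)) :
    m ∈ subPiece ℳ (gam a.toIdeal M) g ↔ A.h0 a m ∈ A.Hgr a 0 g := by
  constructor
  · intro hm
    exact ⟨⟨A.ε m.1, ⟨gam_map a.toIdeal A.ε m.2, A.d_ε m.1⟩⟩, A.ε_grHom g m.1 hm, rfl⟩
  · intro hm
    obtain ⟨z, hz, hzm⟩ := hm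
    have h1 : A.toH a 0 z = A.toH a 0 ⟨A.ε m.1, ⟨gam_map a.toIdeal A.ε m.2, A.d_ε m.1⟩⟩ := hzm
    rw [toH_eq_iff] at h1
    have h2 : (z : (A.X 0).carrier) - A.ε m.1 = 0 := h1
    have h3 : A.ε m.1 = z := (sub_eq_zero.1 h2).symm
    show m.1 ∈ ℳ g
    apply mem_of_map_mem ℳ (A.X 0).gr A.ε A.ε_grHom A.ε_injective
    rw [h3]
    exact hz

theorem grIso_H0 : GrIso R (subPiece ℳ (gam a.toIdeal M)) (A.Hgr a 0) :=
  ⟨LinearEquiv.ofBijective (A.h0 a) ⟨A.h0_injective a, A.h0_surjective a⟩,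
    fun g m => A.h0_mem_iff a g m⟩

end GRes

end H0

end Groth.Agent.Lib.helper26.Acyc
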