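import Mathlib
import Groth.Agent.Lib.Helper26.Acyc1
import Groth.Agent.S13215
import Groth.Agent.S13224
import Groth.Agent.S13225

/-!
# The acyclic resolution lemma for graded local cohomology (helper26)

`acyc_grIso` : if `A` is a resolution of the graded module `M` by graded modules which are acyclic
for (ungraded) local cohomology with support in the homogeneous ideal `a`, then for every
*injective resolution `E` of `M` the graded local cohomology `E.H a i` is isomorphic to the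
cohomology `A.H a i` of `Γ_a(A^•)`, compatibly with the pieces.
-/

set_option autoImplicit false
set_option linter.unusedSectionVars false
universe u

namespace Groth.Agent.Lib.helper26.Acyc

open GrLC Groth.Agent.Lib.helper19.GrMod Groth.Agent.Lib.helper19.GrLes

section Shift

variable {ι : Type} [AddCommGroup ι] [DecidableEq ι]
variable {R : Type u} [CommRing R] {𝒜 : ι → AddSubgroup R} [GradedRing 𝒜]
variable {M : Type u} [AddCommGroup M] [Module R M] {ℳ : ι → AddSubgroup M}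
  [DirectSum.Decomposition ℳ] [SetLike.GradedSMul 𝒜 ℳ]

namespace GRes

variable (A : GRes 𝒜 ℳ)

theorem ker_d1_isHomogeneous : (LinearMap.ker (A.d 1)).IsHomogeneous (A.X 1).gr :=
  ker_isHomogeneous (A.X 1).gr (A.X 2).gr (A.d 1) (A.d_grHom 1)

/-- the kernel of `d 1` as a graded module -/
noncomputable def Z : GMod.{u} 𝒜 :=
  { carrier := ↥(LinearMap.ker (A.d 1))
    gr := subPiece (A.X 1).gr (LinearMap.ker (A.d 1))
    dec := subDecomposition (A.X 1).gr (LinearMap.ker (A.d 1)) A.ker_d1_isHomogeneous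
    gsmul := sub_gradedSMul 𝒜 (A.X 1).gr (LinearMap.ker (A.d 1)) }

/-- the shifted resolution, a resolution of `Z` -/
noncomputable def shift : GRes 𝒜 A.Z.gr where
  X n := A.X (n + 1)
  d n := A.d (n + 1)
  ε := (LinearMap.ker (A.d 1)).subtype
  d_grHom n := A.d_grHom (n + 1)
  ε_grHom := subtype_isGrHom (A.X 1).gr (LinearMap.ker (A.d 1))
  ε_injective := Subtype.val_injective
  exact_zero := (Submodule.range_subtype (LinearMap.ker (A.d 1))).symm
  exact_succ n := A.exact_succ (n + 1)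

/-- `A^0 → Z` -/
noncomputable def p : (A.X 0).carrier →ₗ[R] A.Z.carrier :=
  (A.d 0).codRestrict (LinearMap.ker (A.d 1)) (fun x => A.d_d 0 x)

theorem p_coe (x : (A.X 0).carrier) :
    (LinearMap.ker (A.d 1)).subtype (A.p x) = A.d 0 x :=
  rfl

theorem p_isGrHom : IsGrHom (A.X 0).gr A.Z.gr A.p := fun g x hx => A.d_grHom 0 g x hx

theorem p_surjective : Function.Surjective A.p := by
  rintro ⟨z, hz⟩
  rw [A.exact_succ 0] at hz
  obtain ⟨x, rfl⟩ := hz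
  exact ⟨x, rfl⟩

theorem ker_p : LinearMap.ker A.p = LinearMap.range A.ε := by
  rw [← A.exact_zero]
  ext x
  rw [LinearMap.mem_ker, LinearMap.mem_ker]
  constructor
  · intro h
    have := congrArg Subtype.val h
    exact this
  · intro h
    exact Subtype.ext h

end GRes

end Shift

section Main

variable {ι : Type} [AddCommGroup ι] [DecidableEq ι] [Module.Free ℤ ι] [Module.Finite ℤ ι]
variable {R : Type u} [CommRing R] [IsNoetherianRing R] {𝒜 : ι → AddSubgroup R} [GradedRing 𝒜]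

/-- acyclicity for local cohomology with support in `a` -/
def IsAcyc (a : HomogeneousIdeal 𝒜) (X : GMod.{u} 𝒜) : Prop :=
  ∀ i : ℕ, 1 ≤ i → Subsingleton (LocCoh.H a.toIdeal i X.carrier)

theorem H_subsingleton_of_acyc (a : HomogeneousIdeal 𝒜) {X : GMod.{u} 𝒜} (hX : IsAcyc a X)
    (F : StarInjRes 𝒜 X.gr) (i : ℕ) (hi : 1 ≤ i) : Subsingleton (F.H a i) := by
  obtain ⟨e⟩ := Groth.Agent.S13224.result R 𝒜 a X.carrier X.gr F i
  have := hX i hi
  exact e.toEquiv.subsingleton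

variable {M : Type u} [AddCommGroup M] [Module R M] {ℳ : ι → AddSubgroup M}
  [DirectSum.Decomposition ℳ] [SetLike.GradedSMul 𝒜 ℳ]

theorem isInternal_Hgr (E : StarInjRes 𝒜 ℳ) (a : HomogeneousIdeal 𝒜) (i : ℕ) :
    DirectSum.IsInternal (E.Hgr a i) :=
  Groth.Agent.S13225.result R 𝒜 a M ℳ E i

/-- the dimension shift for `i ≥ 1` -/
theorem step_succ (A : GRes 𝒜 ℳ) (a : HomogeneousIdeal 𝒜) (hA0 : IsAcyc a (A.X 0))
    (E : StarInjRes 𝒜 ℳ) (G : StarInjRes 𝒜 A.Z.gr) (i : ℕ) :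
    GrIso R (G.Hgr a (i + 1)) (E.Hgr a (i + 2)) := by
  obtain ⟨F⟩ := Groth.Agent.S13215.result R 𝒜 (A.X 0).carrier (A.X 0).gr
  obtain ⟨φ⟩ := exists_cmap E F A.ε A.ε_grHom
  obtain ⟨ψ⟩ := exists_cmap F G A.p A.p_isGrHom
  obtain ⟨δ, hδgr, -, -, hkerδ, hkerφ⟩ := les A.ε A.p A.ε_grHom A.p_isGrHom A.ε_injective
    A.p_surjective A.ker_p E F G φ ψ a
  have hF1 := H_subsingleton_of_acyc a hA0 F (i + 1) (by omega)
  have hF2 := H_subsingleton_of_acyc a hA0 F (i + 2) (by omega)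
  refine grIso_of_bijective (isInternal_Hgr G a (i + 1)) (isInternal_Hgr E a (i + 2)) (δ (i + 1))
    (hδgr (i + 1)) ⟨?_, ?_⟩
  · rw [← LinearMap.ker_eq_bot, hkerδ (i + 1), LinearMap.range_eq_bot]
    apply LinearMap.ext
    intro y
    rw [Subsingleton.elim y 0, map_zero, LinearMap.zero_apply]
  · rw [← LinearMap.range_eq_top, ← hkerφ (i + 1), LinearMap.ker_eq_top]
    apply LinearMap.ext
    intro y
    exact Subsingleton.elim _ _

section SH0

variable {N : Type u} [AddCommGroup N] [Module R N] {𝒩 : ι → AddSubgroup N}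
  [DirectSum.Decomposition 𝒩] [SetLike.GradedSMul 𝒜 𝒩]

/-- `Γ_a(M) → H^0_a(M)` for a *injective resolution -/
noncomputable def sh0 (E : StarInjRes 𝒜 ℳ) (a : HomogeneousIdeal 𝒜) :
    ↥(gam a.toIdeal M) →ₗ[R] E.H a 0 :=
  (toGRes E).h0 a

theorem sh0_apply (E : StarInjRes 𝒜 ℳ) (a : HomogeneousIdeal 𝒜) (m : ↥(gam a.toIdeal M)) :
    sh0 E a m = E.toH a 0 ⟨E.ε m.1, ⟨gam_map a.toIdeal E.ε m.2, d_ε E m.1⟩⟩ := rfl

theorem sh0_bijective (E : StarInjRes 𝒜 ℳ) (a : HomogeneousIdeal 𝒜) :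
    Function.Bijective (sh0 E a) :=
  ⟨(toGRes E).h0_injective a, (toGRes E).h0_surjective a⟩

theorem sh0_mem_iff (E : StarInjRes 𝒜 ℳ) (a : HomogeneousIdeal 𝒜) (g : ι)
    (m : ↥(gam a.toIdeal M)) :
    m ∈ subPiece ℳ (gam a.toIdeal M) g ↔ sh0 E a m ∈ E.Hgr a 0 g :=
  (toGRes E).h0_mem_iff a g m

theorem Hmap_sh0 (E : StarInjRes 𝒜 ℳ) (F : StarInjRes 𝒜 𝒩) (f : M →ₗ[R] N) (c : CMap E F f)
    (a : HomogeneousIdeal 𝒜) (m : ↥(gam a.toIdeal M)) :
    c.Hmap a 0 (sh0 E a m) = sh0 F a ⟨f m.1, gam_map a.toIdeal f m.2⟩ := by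
  rw [sh0_apply, sh0_apply, CMap.Hmap_toH]
  congr 1
  apply Subtype.ext
  rw [CMap.coe_cocycMap]
  exact c.aug_apply m.1

end SH0

section StepOne

/-- `Γ_a(Z) → H^1(Γ_a(A^•))` -/
noncomputable def theta (A : GRes 𝒜 ℳ) (a : HomogeneousIdeal 𝒜) :
    ↥(gam a.toIdeal A.Z.carrier) →ₗ[R] A.H a 1 :=
  A.toH a 1 ∘ₗ
    ((LinearMap.ker (A.d 1)).subtype ∘ₗ (gam a.toIdeal A.Z.carrier).subtype).codRestrict
      (A.cocyc a 1)
      (fun z => ⟨gam_map a.toIdeal (LinearMap.ker (A.d 1)).subtype z.2, z.1.2⟩)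

theorem theta_apply (A : GRes 𝒜 ℳ) (a : HomogeneousIdeal 𝒜) (z : ↥(gam a.toIdeal A.Z.carrier)) :
    theta A a z = A.toH a 1 ⟨(LinearMap.ker (A.d 1)).subtype z.1,
      ⟨gam_map a.toIdeal (LinearMap.ker (A.d 1)).subtype z.2, z.1.2⟩⟩ := rfl

/-- a cocycle of `Γ_a(A^1)` as an element of `Γ_a(Z)` -/
theorem exists_gam_Z (A : GRes 𝒜 ℳ) (a : HomogeneousIdeal 𝒜) (c : ↥(A.cocyc a 1)) :
    ∃ z : ↥(gam a.toIdeal A.Z.carrier),
      (LinearMap.ker (A.d 1)).subtype z.1 = (c : (A.X 1).carrier) := by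
  obtain ⟨n, hn⟩ := c.2.1
  refine ⟨⟨⟨c.1, c.2.2⟩, ⟨n, fun r hr => ?_⟩⟩, rfl⟩
  apply Subtype.ext
  exact hn r hr

theorem theta_surjective (A : GRes 𝒜 ℳ) (a : HomogeneousIdeal 𝒜) :
    Function.Surjective (theta A a) := by
  intro y
  obtain ⟨c, rfl⟩ := Submodule.mkQ_surjective _ y
  obtain ⟨z, hz⟩ := exists_gam_Z A a c
  refine ⟨z, ?_⟩
  rw [theta_apply]
  congr 1
  exact Subtype.ext hz

theorem theta_isGrHom (A : GRes 𝒜 ℳ) (a : HomogeneousIdeal 𝒜) :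
    IsGrHom (subPiece A.Z.gr (gam a.toIdeal A.Z.carrier)) (A.Hgr a 1) (theta A a) := by
  intro g z hz
  rw [theta_apply]
  exact ⟨_, (show (LinearMap.ker (A.d 1)).subtype z.1 ∈ (A.X 1).gr g from hz), rfl⟩

theorem theta_strict (A : GRes 𝒜 ℳ) (a : HomogeneousIdeal 𝒜) (g : ι) (y : A.H a 1)
    (hy : y ∈ A.Hgr a 1 g) :
    ∃ z ∈ subPiece A.Z.gr (gam a.toIdeal A.Z.carrier) g, theta A a z = y := by
  obtain ⟨c, hc, rfl⟩ := hy
  obtain ⟨z, hz⟩ := exists_gam_Z A a c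
  refine ⟨z, ?_, ?_⟩
  · show (LinearMap.ker (A.d 1)).subtype z.1 ∈ (A.X 1).gr g
    rw [hz]
    exact hc
  · rw [theta_apply]
    congr 1
    exact Subtype.ext hz

theorem theta_eq_zero_iff (A : GRes 𝒜 ℳ) (a : HomogeneousIdeal 𝒜)
    (z : ↥(gam a.toIdeal A.Z.carrier)) :
    theta A a z = 0 ↔ ∃ w ∈ gam a.toIdeal (A.X 0).carrier, A.p w = z.1 := by
  rw [theta_apply, GRes.toH_eq_zero_iff]
  constructor
  · rintro ⟨w, hw, hwz⟩
    exact ⟨w, hw, Subtype.ext hwz⟩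
  · rintro ⟨w, hw, hwz⟩
    exact ⟨w, hw, congrArg Subtype.val hwz⟩

/-- the dimension shift for `i = 0` -/
theorem step_one (A : GRes 𝒜 ℳ) (a : HomogeneousIdeal 𝒜) (hA0 : IsAcyc a (A.X 0))
    (E : StarInjRes 𝒜 ℳ) : GrIso R (E.Hgr a 1) (A.Hgr a 1) := by
  obtain ⟨F⟩ := Groth.Agent.S13215.result R 𝒜 (A.X 0).carrier (A.X 0).gr
  obtain ⟨G⟩ := Groth.Agent.S13215.result R 𝒜 A.Z.carrier A.Z.gr
  obtain ⟨φ⟩ := exists_cmap E F A.ε A.ε_grHom
  obtain ⟨ψ⟩ := exists_cmap F G A.p A.p_isGrHom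
  obtain ⟨δ, hδgr, -, -, hkerδ, hkerφ⟩ := les A.ε A.p A.ε_grHom A.p_isGrHom A.ε_injective
    A.p_surjective A.ker_p E F G φ ψ a
  have hF1 := H_subsingleton_of_acyc a hA0 F 1 le_rfl
  have hδsurj : Function.Surjective (δ 0) := by
    rw [← LinearMap.range_eq_top, ← hkerφ 0, LinearMap.ker_eq_top]
    apply LinearMap.ext
    intro y
    exact Subsingleton.elim _ _
  refine grIso_of_surjective_of_ker_eq (ℋ := subPiece A.Z.gr (gam a.toIdeal A.Z.carrier))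
    (δ 0 ∘ₗ sh0 G a) (theta A a) (hδsurj.comp (sh0_bijective G a).2) (theta_surjective A a) ?_ ?_
    (theta_isGrHom A a) ?_ (theta_strict A a)
  · ext z
    rw [LinearMap.mem_ker, LinearMap.mem_ker, theta_eq_zero_iff, LinearMap.comp_apply]
    have h1 : δ 0 (sh0 G a z) = 0 ↔ sh0 G a z ∈ LinearMap.ker (δ 0) := Iff.rfl
    rw [h1, hkerδ 0]
    constructor
    · rintro ⟨y, hy⟩
      obtain ⟨w, rfl⟩ := (sh0_bijective F a).2 y
      rw [Hmap_sh0 F G A.p ψ a w] at hy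
      have h2 := (sh0_bijective G a).1 hy
      exact ⟨w.1, w.2, congrArg Subtype.val h2⟩
    · rintro ⟨w, hw, hwz⟩
      refine ⟨sh0 F a ⟨w, hw⟩, ?_⟩
      rw [Hmap_sh0 F G A.p ψ a ⟨w, hw⟩]
      congr 1
      exact Subtype.ext hwz
  · intro g z hz
    exact hδgr 0 g _ ((sh0_mem_iff G a g z).1 hz)
  · intro g y hy
    obtain ⟨y0, hy0⟩ := hδsurj y
    obtain ⟨y1, hy1, hy1y⟩ := exists_mem_of_isGrHom (G.Hgr a 0) (E.Hgr a 1)
      (isInternal_Hgr G a 0) (isInternal_Hgr E a 1) (δ 0) (hδgr 0) hy y0 hy0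
    obtain ⟨z, rfl⟩ := (sh0_bijective G a).2 y1
    exact ⟨z, (sh0_mem_iff G a g z).2 hy1, hy1y⟩

end StepOne

section Induction

omit [DirectSum.Decomposition ℳ] [SetLike.GradedSMul 𝒜 ℳ] in
/-- **The acyclic resolution lemma** for graded local cohomology -/
theorem acyc_grIso_aux (a : HomogeneousIdeal 𝒜) (i : ℕ) :
    ∀ (M : Type u) [AddCommGroup M] [Module R M] (ℳ : ι → AddSubgroup M)
      [DirectSum.Decomposition ℳ] [SetLike.GradedSMul 𝒜 ℳ] (A : GRes 𝒜 ℳ)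
      (_ : ∀ n, IsAcyc a (A.X n)) (E : StarInjRes 𝒜 ℳ), GrIso R (E.Hgr a i) (A.Hgr a i) := by
  induction i with
  | zero =>
    intro M _ _ ℳ _ _ A _ E
    exact ((toGRes E).grIso_H0 a).symm.trans (A.grIso_H0 a)
  | succ i ih =>
    intro M _ _ ℳ _ _ A hA E
    cases i with
    | zero => exact step_one A a (hA 0) E
    | succ j =>
      obtain ⟨G⟩ := Groth.Agent.S13215.result R 𝒜 A.Z.carrier A.Z.gr
      have h1 := step_succ A a (hA 0) E G j
      have h2 := ih A.Z.carrier A.Z.gr A.shift (fun n => hA (n + 1)) G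
      exact h1.symm.trans h2

theorem acyc_grIso (a : HomogeneousIdeal 𝒜) (A : GRes 𝒜 ℳ) (hA : ∀ n, IsAcyc a (A.X n))
    (E : StarInjRes 𝒜 ℳ) (i : ℕ) : GrIso R (E.Hgr a i) (A.Hgr a i) :=
  acyc_grIso_aux a i M ℳ A hA E

/-- the pieces are isomorphic over the degree-zero subring -/
theorem acyc_Hcomp_equiv (a : HomogeneousIdeal 𝒜) (A : GRes 𝒜 ℳ) (hA : ∀ n, IsAcyc a (A.X n))
    (E : StarInjRes 𝒜 ℳ) (i : ℕ) (g : ι) :
    Nonempty (E.Hcomp a i g ≃ₗ[deg0 𝒜] A.Hcomp a i g) := by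
  obtain ⟨e, he⟩ := acyc_grIso a A hA E i
  refine ⟨{
    toFun := fun x => ⟨e x.1, (he g x.1).1 x.2⟩
    map_add' := fun x y => Subtype.ext (map_add e x.1 y.1)
    map_smul' := fun r x => Subtype.ext (by
      show e ((r : R) • x.1) = (r : R) • e x.1
      exact map_smul e (r : R) x.1)
    invFun := fun y => ⟨e.symm y.1, (he g (e.symm y.1)).2 (by rw [e.apply_symm_apply]; exact y.2)⟩
    left_inv := fun x => Subtype.ext (e.symm_apply_apply x.1)
    right_inv := fun y => Subtype.ext (e.apply_symm_apply y.1) }⟩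

end Induction

end Main

end Groth.Agent.Lib.helper26.Acyc
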