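import Mathlib
import Groth.Agent.Lib.Helper19.GrMod

/-!
# The Veronese part of a `ℤ`-graded abelian group (helper26)

For a `ℤ`-graded abelian group `X = ⊕ X_n` and `q > 0`:

* `verSub 𝒳 q` : the subgroup `⊕_j X_{jq}`;
* `verProj 𝒳 q : X →+ X` : the projection onto it;
* `verPiece 𝒳 q j` : the piece `X_{jq}` inside `verSub`, and `verPiece_isInternal`.
-/

set_option autoImplicit false
set_option linter.unusedSectionVars false
universe u

namespace Groth.Agent.Lib.helper26.Ver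

open DirectSum

section Add

variable {X : Type u} [AddCommGroup X] (𝒳 : ℤ → AddSubgroup X) [DirectSum.Decomposition 𝒳] (q : ℕ)

/-- the projection onto the components of degree divisible by `q` -/
noncomputable def verProj : X →+ X :=
  (DirectSum.coeAddMonoidHom 𝒳).comp
    ((DFinsupp.filterAddMonoidHom (fun n => 𝒳 n) (fun n : ℤ => (q : ℤ) ∣ n)).comp
      (DirectSum.decomposeAddEquiv 𝒳).toAddMonoidHom)

theorem verProj_apply (x : X) :
    verProj 𝒳 q x = DirectSum.coeAddMonoidHom 𝒳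
      (DFinsupp.filter (fun n : ℤ => (q : ℤ) ∣ n) (DirectSum.decompose 𝒳 x)) := rfl

theorem verProj_of_mem_dvd {n : ℤ} {x : X} (hx : x ∈ 𝒳 n) (hn : (q : ℤ) ∣ n) :
    verProj 𝒳 q x = x := by
  classical
  rw [verProj_apply, DirectSum.decompose_of_mem 𝒳 hx]
  have h1 : DFinsupp.filter (fun n : ℤ => (q : ℤ) ∣ n) (DirectSum.of (fun n => 𝒳 n) n ⟨x, hx⟩) =
      DirectSum.of (fun n => 𝒳 n) n ⟨x, hx⟩ := by
    show DFinsupp.filter _ (DFinsupp.single n _) = DFinsupp.single n _
    rw [DFinsupp.filter_single, if_pos hn]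
  rw [h1, DirectSum.coeAddMonoidHom_of]

theorem verProj_of_mem_not_dvd {n : ℤ} {x : X} (hx : x ∈ 𝒳 n) (hn : ¬ (q : ℤ) ∣ n) :
    verProj 𝒳 q x = 0 := by
  classical
  rw [verProj_apply, DirectSum.decompose_of_mem 𝒳 hx]
  have h1 : DFinsupp.filter (fun n : ℤ => (q : ℤ) ∣ n) (DirectSum.of (fun n => 𝒳 n) n ⟨x, hx⟩) =
      0 := by
    show DFinsupp.filter _ (DFinsupp.single n _) = 0
    rw [DFinsupp.filter_single, if_neg hn]
  rw [h1, map_zero]

theorem decompose_verProj (x : X) (n : ℤ) :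
    ((DirectSum.decompose 𝒳 (verProj 𝒳 q x) n : 𝒳 n) : X) =
      if (q : ℤ) ∣ n then ((DirectSum.decompose 𝒳 x n : 𝒳 n) : X) else 0 := by
  classical
  rw [verProj_apply]
  have h1 : DirectSum.decompose 𝒳 (DirectSum.coeAddMonoidHom 𝒳
      (DFinsupp.filter (fun n : ℤ => (q : ℤ) ∣ n) (DirectSum.decompose 𝒳 x))) =
      DFinsupp.filter (fun n : ℤ => (q : ℤ) ∣ n) (DirectSum.decompose 𝒳 x) :=
    DirectSum.Decomposition.right_inv _
  rw [h1, DFinsupp.filter_apply]
  split_ifs <;> rfl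

/-- the Veronese subgroup `⊕_j X_{jq}` -/
def verSub : AddSubgroup X where
  carrier := {x | ∀ n : ℤ, ¬ (q : ℤ) ∣ n → ((DirectSum.decompose 𝒳 x n : 𝒳 n) : X) = 0}
  zero_mem' := fun n _ => by rw [DirectSum.decompose_zero]; rfl
  add_mem' := by
    intro x y hx hy n hn
    rw [DirectSum.decompose_add, DirectSum.add_apply, AddSubgroup.coe_add, hx n hn, hy n hn,
      add_zero]
  neg_mem' := by
    intro x hx n hn
    rw [DirectSum.decompose_neg]
    show ((-(DirectSum.decompose 𝒳 x n) : 𝒳 n) : X) = 0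
    rw [AddSubgroup.coe_neg, hx n hn, neg_zero]

theorem mem_verSub (x : X) :
    x ∈ verSub 𝒳 q ↔ ∀ n : ℤ, ¬ (q : ℤ) ∣ n → ((DirectSum.decompose 𝒳 x n : 𝒳 n) : X) = 0 :=
  Iff.rfl

theorem mem_verSub_of_mem {n : ℤ} {x : X} (hx : x ∈ 𝒳 n) (hn : (q : ℤ) ∣ n) : x ∈ verSub 𝒳 q := by
  intro m hm
  have hne : n ≠ m := by
    rintro rfl
    exact hm hn
  exact DirectSum.decompose_of_mem_ne 𝒳 hx hne

theorem verProj_mem (x : X) : verProj 𝒳 q x ∈ verSub 𝒳 q := by
  intro n hn
  rw [decompose_verProj, if_neg hn]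

theorem verProj_eq_self {x : X} (hx : x ∈ verSub 𝒳 q) : verProj 𝒳 q x = x := by
  classical
  have h : DirectSum.decompose 𝒳 (verProj 𝒳 q x) = DirectSum.decompose 𝒳 x := by
    apply DFinsupp.ext
    intro n
    apply Subtype.ext
    rw [decompose_verProj]
    split_ifs with hn
    · rfl
    · exact (hx n hn).symm
  exact (DirectSum.decompose 𝒳).injective h

theorem decompose_mem_verSub {x : X} (hx : x ∈ verSub 𝒳 q) (n : ℤ) :
    ((DirectSum.decompose 𝒳 x n : 𝒳 n) : X) ∈ verSub 𝒳 q := by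
  by_cases hn : (q : ℤ) ∣ n
  · exact mem_verSub_of_mem 𝒳 q (SetLike.coe_mem _) hn
  · rw [hx n hn]
    exact zero_mem _

/-- the piece of degree `j` of the Veronese subgroup: `X_{jq}` -/
def verPiece (j : ℤ) : AddSubgroup ↥(verSub 𝒳 q) :=
  (𝒳 (j * q)).comap (verSub 𝒳 q).subtype

theorem mem_verPiece {j : ℤ} {x : ↥(verSub 𝒳 q)} : x ∈ verPiece 𝒳 q j ↔ (x : X) ∈ 𝒳 (j * q) :=
  Iff.rfl

end Add

section Indep

theorem iSupIndep_of_map {R : Type*} [Ring R] {M N : Type*} [AddCommGroup M] [Module R M]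
    [AddCommGroup N] [Module R N] {κ : Type*} (f : M →ₗ[R] N) (hf : Function.Injective f)
    (m : κ → Submodule R M) (h : iSupIndep (fun i => (m i).map f)) : iSupIndep m := by
  intro i
  rw [Submodule.disjoint_def]
  intro x hx1 hx2
  have h1 := h i
  rw [Submodule.disjoint_def] at h1
  have h2 : f x ∈ ⨆ j, ⨆ (_ : j ≠ i), (m j).map f := by
    have h3 : f x ∈ (⨆ j, ⨆ (_ : j ≠ i), m j).map f := Submodule.mem_map_of_mem hx2
    rw [Submodule.map_iSup] at h3
    simp only [Submodule.map_iSup] at h3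
    exact h3
  have h4 := h1 (f x) (Submodule.mem_map_of_mem hx1) h2
  exact hf (h4.trans (map_zero f).symm)

end Indep

section Internal

variable {X : Type u} [AddCommGroup X] (𝒳 : ℤ → AddSubgroup X) [DirectSum.Decomposition 𝒳] (q : ℕ)

theorem verPiece_isInternal (hq : 0 < q) : DirectSum.IsInternal (verPiece 𝒳 q) := by
  classical
  rw [← Groth.Agent.Lib.helper19.GrMod.isInternal_toInt_iff]
  rw [DirectSum.isInternal_submodule_iff_iSupIndep_and_iSup_eq_top]
  have hqz : (q : ℤ) ≠ 0 := by exact_mod_cast hq.ne'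
  have hinj : Function.Injective (fun j : ℤ => j * (q : ℤ)) := fun a b h =>
    mul_right_cancel₀ hqz h
  constructor
  · have h0 : iSupIndep (fun n => (𝒳 n).toIntSubmodule) :=
      ((Groth.Agent.Lib.helper19.GrMod.isInternal_toInt_iff 𝒳).2
        (DirectSum.Decomposition.isInternal 𝒳)).submodule_iSupIndep
    have h1 : iSupIndep (fun j : ℤ => (𝒳 (j * q)).toIntSubmodule) := h0.comp hinj
    apply iSupIndep_of_map (verSub 𝒳 q).subtype.toIntLinearMap Subtype.val_injective
    refine h1.mono ?_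
    intro j
    rintro _ ⟨x, hx, rfl⟩
    exact hx
  · rw [eq_top_iff]
    intro x _
    have hx : x = ∑ n ∈ (DirectSum.decompose 𝒳 (x : X)).support,
        (⟨((DirectSum.decompose 𝒳 (x : X) n : 𝒳 n) : X), decompose_mem_verSub 𝒳 q x.2 n⟩ :
          ↥(verSub 𝒳 q)) := by
      apply Subtype.ext
      rw [AddSubgroup.val_finsetSum]
      exact (DirectSum.sum_support_decompose 𝒳 (x : X)).symm
    rw [hx]
    apply Submodule.sum_mem
    intro n _
    by_cases hn : (q : ℤ) ∣ n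
    · obtain ⟨j, rfl⟩ := hn
      apply Submodule.mem_iSup_of_mem j
      show _ ∈ verPiece 𝒳 q j
      rw [mem_verPiece]
      show ((DirectSum.decompose 𝒳 (x : X) (q * j) : 𝒳 (q * j)) : X) ∈ 𝒳 (j * q)
      rw [mul_comm j]
      exact SetLike.coe_mem _
    · have h0 : (⟨((DirectSum.decompose 𝒳 (x : X) n : 𝒳 n) : X),
          decompose_mem_verSub 𝒳 q x.2 n⟩ : ↥(verSub 𝒳 q)) = 0 := Subtype.ext (x.2 n hn)
      rw [h0]
      exact zero_mem _

/-- the grading of the Veronese subgroup -/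
@[instance_reducible]
noncomputable def verDecomposition (hq : 0 < q) : DirectSum.Decomposition (verPiece 𝒳 q) :=
  (verPiece_isInternal 𝒳 q hq).chooseDecomposition

end Internal

end Groth.Agent.Lib.helper26.Ver
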