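import Mathlib
import Groth.Prelude.Def_GrLC
import Groth.Agent.Lib.Helper19.GrMod
import Groth.Agent.Lib.Helper26.Ver1

/-!
# The Veronese functor on graded modules (helper26)

`VerData 𝒜 𝒜'` : a ring `R'` graded by `𝒜'` presented as the `q`-th Veronese subring of the
`ℤ`-graded ring `(R, 𝒜)` through `φ : R' →+* R`, `φ (𝒜' j) = 𝒜 (j q)`.

For a graded `R`-module `X` the Veronese module `Ver D X = ⊕_j X_{jq}` is a graded `R'`-module
(`verGMod`); graded maps induce graded maps (`verMap`).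
-/

set_option autoImplicit false
set_option linter.unusedSectionVars false
set_option linter.dupNamespace false
universe u

namespace Groth.Agent.Lib.helper26.Ver

open GrLC DirectSum Groth.Agent.Lib.helper19.GrMod

section Data

variable {R : Type u} [CommRing R] {R' : Type u} [CommRing R']

/-- `(R', 𝒜')` is the `q`-th Veronese subring of `(R, 𝒜)` via `φ` -/
structure VerData (𝒜 : ℤ → AddSubgroup R) (𝒜' : ℤ → AddSubgroup R') where
  q : ℕ
  hq : 0 < q
  φ : R' →+* R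
  hdeg : ∀ j : ℤ, (𝒜' j).map (φ : R' →+ R) = 𝒜 (j * q)

variable {𝒜 : ℤ → AddSubgroup R} [GradedRing 𝒜] {𝒜' : ℤ → AddSubgroup R'} [GradedRing 𝒜']
  (D : VerData 𝒜 𝒜')

theorem VerData.φ_mem {j : ℤ} {r : R'} (hr : r ∈ 𝒜' j) : D.φ r ∈ 𝒜 (j * D.q) := by
  rw [← D.hdeg j]
  exact ⟨r, hr, rfl⟩

theorem VerData.φ_mem_verSub (r : R') : D.φ r ∈ verSub 𝒜 D.q := by
  classical
  rw [← DirectSum.sum_support_decompose 𝒜' r, map_sum]
  apply AddSubgroup.sum_mem
  intro j _
  exact mem_verSub_of_mem 𝒜 D.q (D.φ_mem (SetLike.coe_mem _)) (Dvd.intro_left j rfl)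

end Data

section SMul

variable {R : Type u} [CommRing R] (𝒜 : ℤ → AddSubgroup R) [GradedRing 𝒜]
variable {X : Type u} [AddCommGroup X] [Module R X] (𝒳 : ℤ → AddSubgroup X)
  [DirectSum.Decomposition 𝒳] [SetLike.GradedSMul 𝒜 𝒳] (q : ℕ)

theorem smul_mem_verSub {r : R} (hr : r ∈ verSub 𝒜 q) {x : X} (hx : x ∈ verSub 𝒳 q) :
    r • x ∈ verSub 𝒳 q := by
  classical
  rw [← DirectSum.sum_support_decompose 𝒜 r, Finset.sum_smul]
  apply AddSubgroup.sum_mem
  intro a _
  rw [← DirectSum.sum_support_decompose 𝒳 x, Finset.smul_sum]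
  apply AddSubgroup.sum_mem
  intro b _
  by_cases ha : (q : ℤ) ∣ a
  · by_cases hb : (q : ℤ) ∣ b
    · exact mem_verSub_of_mem 𝒳 q (smul_mem_add 𝒜 𝒳 (SetLike.coe_mem _) (SetLike.coe_mem _))
        (dvd_add ha hb)
    · rw [hx b hb, smul_zero]
      exact zero_mem _
  · rw [hr a ha, zero_smul]
    exact zero_mem _

end SMul

section Mod

variable {R : Type u} [CommRing R] {R' : Type u} [CommRing R']
variable {𝒜 : ℤ → AddSubgroup R} [GradedRing 𝒜] {𝒜' : ℤ → AddSubgroup R'} [GradedRing 𝒜']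
  (D : VerData 𝒜 𝒜')

/-- the Veronese module of a graded `R`-module, as a type -/
def Ver (X : GMod.{u} 𝒜) : Type u := ↥(verSub X.gr D.q)

noncomputable instance (X : GMod.{u} 𝒜) : AddCommGroup (Ver D X) :=
  inferInstanceAs (AddCommGroup ↥(verSub X.gr D.q))

/-- the underlying element -/
def Ver.val {X : GMod.{u} 𝒜} (x : Ver D X) : X.carrier := Subtype.val x

theorem Ver.val_mem {X : GMod.{u} 𝒜} (x : Ver D X) : Ver.val D x ∈ verSub X.gr D.q := Subtype.property x

theorem Ver.ext {X : GMod.{u} 𝒜} {x y : Ver D X} (h : Ver.val D x = Ver.val D y) : x = y :=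
  Subtype.ext h

/-- constructor -/
def Ver.mk {X : GMod.{u} 𝒜} (x : X.carrier) (hx : x ∈ verSub X.gr D.q) : Ver D X := ⟨x, hx⟩

@[simp] theorem Ver.val_mk {X : GMod.{u} 𝒜} (x : X.carrier) (hx : x ∈ verSub X.gr D.q) :
    Ver.val D (Ver.mk D x hx) = x := rfl

@[simp] theorem Ver.val_add {X : GMod.{u} 𝒜} (x y : Ver D X) :
    Ver.val D (x + y) = Ver.val D x + Ver.val D y := rfl

@[simp] theorem Ver.val_zero {X : GMod.{u} 𝒜} : Ver.val D (0 : Ver D X) = 0 := rfl

noncomputable instance (X : GMod.{u} 𝒜) : SMul R' (Ver D X) where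
  smul r x := ⟨D.φ r • Ver.val D x,
    smul_mem_verSub 𝒜 X.gr D.q (D.φ_mem_verSub r) (Ver.val_mem D x)⟩

@[simp] theorem Ver.val_smul {X : GMod.{u} 𝒜} (r : R') (x : Ver D X) :
    Ver.val D (r • x) = D.φ r • Ver.val D x := rfl

noncomputable instance (X : GMod.{u} 𝒜) : Module R' (Ver D X) where
  one_smul x := Ver.ext D (by rw [Ver.val_smul, map_one, one_smul])
  mul_smul r s x := Ver.ext D (by rw [Ver.val_smul, Ver.val_smul, Ver.val_smul, map_mul, mul_smul])
  smul_zero r := Ver.ext D (by rw [Ver.val_smul, Ver.val_zero, smul_zero])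
  smul_add r x y := Ver.ext D (by
    rw [Ver.val_smul, Ver.val_add, Ver.val_add, Ver.val_smul, Ver.val_smul, smul_add])
  add_smul r s x := Ver.ext D (by
    rw [Ver.val_smul, Ver.val_add, Ver.val_smul, Ver.val_smul, map_add, add_smul])
  zero_smul x := Ver.ext D (by rw [Ver.val_smul, Ver.val_zero, map_zero, zero_smul])

/-- the Veronese module as a graded `R'`-module -/
noncomputable def verGMod (X : GMod.{u} 𝒜) : GMod.{u} 𝒜' :=
  { carrier := Ver D X
    gr := verPiece X.gr D.q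
    dec := verDecomposition X.gr D.q D.hq
    gsmul := ⟨by
      intro i j r x hr hx
      show D.φ r • Ver.val D x ∈ X.gr ((i + j) * D.q)
      have h1 := smul_mem_add 𝒜 X.gr (D.φ_mem hr) (show Ver.val D x ∈ X.gr (j * D.q) from hx)
      rw [← add_mul] at h1
      exact h1⟩ }

theorem mem_verGMod_gr {X : GMod.{u} 𝒜} (j : ℤ) (x : Ver D X) :
    x ∈ (verGMod D X).gr j ↔ Ver.val D x ∈ X.gr (j * D.q) := Iff.rfl

end Mod

section Map

variable {R : Type u} [CommRing R] {R' : Type u} [CommRing R']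
variable {𝒜 : ℤ → AddSubgroup R} [GradedRing 𝒜] {𝒜' : ℤ → AddSubgroup R'} [GradedRing 𝒜']
  (D : VerData 𝒜 𝒜')

theorem map_mem_verSub {X : Type u} [AddCommGroup X] [Module R X] (𝒳 : ℤ → AddSubgroup X)
    [DirectSum.Decomposition 𝒳] {Y : Type u} [AddCommGroup Y] [Module R Y] (𝒴 : ℤ → AddSubgroup Y)
    [DirectSum.Decomposition 𝒴] (q : ℕ) (f : X →ₗ[R] Y) (hf : IsGrHom 𝒳 𝒴 f) {x : X}
    (hx : x ∈ verSub 𝒳 q) : f x ∈ verSub 𝒴 q := by
  intro n hn
  rw [grHom_decompose 𝒳 𝒴 f hf x n, hx n hn, map_zero]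

theorem map_verProj {X : Type u} [AddCommGroup X] [Module R X] (𝒳 : ℤ → AddSubgroup X)
    [DirectSum.Decomposition 𝒳] {Y : Type u} [AddCommGroup Y] [Module R Y] (𝒴 : ℤ → AddSubgroup Y)
    [DirectSum.Decomposition 𝒴] (q : ℕ) (f : X →ₗ[R] Y) (hf : IsGrHom 𝒳 𝒴 f) (x : X) :
    f (verProj 𝒳 q x) = verProj 𝒴 q (f x) := by
  classical
  induction x using DirectSum.Decomposition.inductionOn 𝒳 with
  | zero => rw [map_zero, map_zero, map_zero]
  | @homogeneous n x =>
    by_cases hn : (q : ℤ) ∣ n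
    · rw [verProj_of_mem_dvd 𝒳 q x.2 hn, verProj_of_mem_dvd 𝒴 q (hf n x x.2) hn]
    · rw [verProj_of_mem_not_dvd 𝒳 q x.2 hn, verProj_of_mem_not_dvd 𝒴 q (hf n x x.2) hn, map_zero]
  | add x y hx hy => rw [map_add, map_add, map_add, map_add, hx, hy]

/-- the map induced by a graded map on Veronese modules -/
noncomputable def verMap {X Y : GMod.{u} 𝒜} (f : X.carrier →ₗ[R] Y.carrier)
    (hf : IsGrHom X.gr Y.gr f) : Ver D X →ₗ[R'] Ver D Y where
  toFun x := Ver.mk D (f (Ver.val D x)) (map_mem_verSub X.gr Y.gr D.q f hf (Ver.val_mem D x))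
  map_add' x y := Ver.ext D (by simp)
  map_smul' r x := Ver.ext D (by simp)

@[simp] theorem val_verMap {X Y : GMod.{u} 𝒜} (f : X.carrier →ₗ[R] Y.carrier)
    (hf : IsGrHom X.gr Y.gr f) (x : Ver D X) : Ver.val D (verMap D f hf x) = f (Ver.val D x) := rfl

theorem verMap_isGrHom {X Y : GMod.{u} 𝒜} (f : X.carrier →ₗ[R] Y.carrier)
    (hf : IsGrHom X.gr Y.gr f) : IsGrHom (verGMod D X).gr (verGMod D Y).gr (verMap D f hf) := by
  intro j x hx
  exact hf (j * D.q) (Ver.val D x) hx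

end Map

end Groth.Agent.Lib.helper26.Ver
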