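import Mathlib
import Groth.Prelude.Def_GrLC
import Groth.Agent.Lib.Helper19.GrMod
import Groth.Agent.Lib.Helper26.Ver2

/-!
# Veronese subrings: Noetherianity and the irrelevant ideals (helper26)
-/

set_option autoImplicit false
set_option linter.unusedSectionVars false
set_option linter.dupNamespace false
universe u

namespace Groth.Agent.Lib.helper26.Ver

open GrLC DirectSum Groth.Agent.Lib.helper19.GrMod

section ProjSMul

variable {R : Type u} [CommRing R] (𝒜 : ℤ → AddSubgroup R) [GradedRing 𝒜]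
variable {X : Type u} [AddCommGroup X] [Module R X] (𝒳 : ℤ → AddSubgroup X)
  [DirectSum.Decomposition 𝒳] [SetLike.GradedSMul 𝒜 𝒳] (q : ℕ)

theorem verProj_smul_of_mem {a : ℤ} {r : R} (hr : r ∈ 𝒜 a) (ha : (q : ℤ) ∣ a) (x : X) :
    verProj 𝒳 q (r • x) = r • verProj 𝒳 q x := by
  classical
  induction x using DirectSum.Decomposition.inductionOn 𝒳 with
  | zero => rw [smul_zero, map_zero, smul_zero]
  | @homogeneous b x =>
    have h1 : r • (x : X) ∈ 𝒳 (a + b) := smul_mem_add 𝒜 𝒳 hr x.2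
    by_cases hb : (q : ℤ) ∣ b
    · rw [verProj_of_mem_dvd 𝒳 q h1 (dvd_add ha hb), verProj_of_mem_dvd 𝒳 q x.2 hb]
    · have hab : ¬ (q : ℤ) ∣ a + b := fun h => hb ((dvd_add_right ha).1 h)
      rw [verProj_of_mem_not_dvd 𝒳 q h1 hab, verProj_of_mem_not_dvd 𝒳 q x.2 hb, smul_zero]
  | add x y hx hy => rw [smul_add, map_add, map_add, smul_add, hx, hy]

theorem verProj_smul {r : R} (hr : r ∈ verSub 𝒜 q) (x : X) :
    verProj 𝒳 q (r • x) = r • verProj 𝒳 q x := by
  classical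
  rw [← DirectSum.sum_support_decompose 𝒜 r, Finset.sum_smul, map_sum, Finset.sum_smul]
  apply Finset.sum_congr rfl
  intro a _
  by_cases ha : (q : ℤ) ∣ a
  · exact verProj_smul_of_mem 𝒜 𝒳 q (SetLike.coe_mem _) ha x
  · rw [hr a ha, zero_smul, zero_smul, map_zero]

end ProjSMul

section Noeth

variable {R : Type u} [CommRing R] {R' : Type u} [CommRing R']
variable {𝒜 : ℤ → AddSubgroup R} [GradedRing 𝒜] {𝒜' : ℤ → AddSubgroup R'} [GradedRing 𝒜']
  (D : VerData 𝒜 𝒜')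

theorem VerData.exists_φ_eq {r : R} (hr : r ∈ verSub 𝒜 D.q) : ∃ r' : R', D.φ r' = r := by
  classical
  have h : ∀ n : ℤ, ∃ r' : R', D.φ r' = ((DirectSum.decompose 𝒜 r n : 𝒜 n) : R) := by
    intro n
    by_cases hn : (D.q : ℤ) ∣ n
    · obtain ⟨j, rfl⟩ := hn
      have h1 : ((DirectSum.decompose 𝒜 r (D.q * j) : 𝒜 (D.q * j)) : R) ∈ 𝒜 (j * D.q) := by
        rw [mul_comm j]
        exact SetLike.coe_mem _
      rw [← D.hdeg j] at h1
      obtain ⟨r', -, hr'⟩ := h1
      exact ⟨r', hr'⟩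
    · exact ⟨0, by rw [map_zero, hr n hn]⟩
  choose r' hr' using h
  refine ⟨∑ n ∈ (DirectSum.decompose 𝒜 r).support, r' n, ?_⟩
  rw [map_sum, Finset.sum_congr rfl (fun n _ => hr' n)]
  exact DirectSum.sum_support_decompose 𝒜 r

theorem VerData.comap_map (hφ : Function.Injective D.φ) (I : Ideal R') :
    (I.map D.φ).comap D.φ = I := by
  classical
  apply le_antisymm
  · intro r hr
    rw [Ideal.mem_comap] at hr
    -- every element of `I.map φ` has its Veronese projection in `φ(I)`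
    have key : ∀ y ∈ I.map D.φ, ∀ a : R, ∃ x ∈ I, D.φ x = verProj 𝒜 D.q (a * y) := by
      intro y hy
      refine Submodule.span_induction ?_ ?_ ?_ ?_ hy
      · rintro _ ⟨x, hx, rfl⟩ a
        obtain ⟨b, hb⟩ := D.exists_φ_eq (verProj_mem 𝒜 D.q a)
        refine ⟨b * x, I.mul_mem_left b hx, ?_⟩
        rw [map_mul, hb, mul_comm a, ← smul_eq_mul (D.φ x) a,
          verProj_smul 𝒜 𝒜 D.q (D.φ_mem_verSub x) a, smul_eq_mul, mul_comm]
      · intro a
        exact ⟨0, zero_mem _, by rw [map_zero, mul_zero, map_zero]⟩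
      · rintro y z _ _ hy hz a
        obtain ⟨x, hx, hxy⟩ := hy a
        obtain ⟨x', hx', hxz⟩ := hz a
        exact ⟨x + x', add_mem hx hx', by rw [map_add, mul_add, map_add, hxy, hxz]⟩
      · rintro c y _ hy a
        obtain ⟨x, hx, hxy⟩ := hy (a * c)
        exact ⟨x, hx, by rw [hxy, smul_eq_mul, mul_assoc]⟩
    obtain ⟨x, hx, hxr⟩ := key (D.φ r) hr 1
    rw [one_mul] at hxr
    rw [verProj_eq_self 𝒜 D.q (D.φ_mem_verSub r)] at hxr
    rw [← hφ hxr]
    exact hx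
  · exact Ideal.le_comap_map

theorem VerData.isNoetherianRing [IsNoetherianRing R] (hφ : Function.Injective D.φ) :
    IsNoetherianRing R' := by
  rw [isNoetherianRing_iff, isNoetherian_iff']
  have hinj : Function.Injective (fun I : Ideal R' => I.map D.φ) := by
    intro I J h
    have h' : I.map D.φ = J.map D.φ := h
    rw [← D.comap_map hφ I, ← D.comap_map hφ J, h']
  have hmono : StrictMono (fun I : Ideal R' => I.map D.φ) :=
    Monotone.strictMono_of_injective (fun _ _ h => Ideal.map_mono h) hinj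
  exact hmono.wellFoundedGT

/-- the irrelevant ideal -/
def irr {A : Type u} [CommRing A] (𝒜 : ℤ → AddSubgroup A) : Ideal A :=
  Ideal.span (⋃ n ∈ Set.Ioi (0 : ℤ), (𝒜 n : Set A))

theorem mem_irr_of_mem {A : Type u} [CommRing A] (𝒜 : ℤ → AddSubgroup A) {n : ℤ} (hn : 0 < n)
    {x : A} (hx : x ∈ 𝒜 n) : x ∈ irr 𝒜 :=
  Ideal.subset_span (Set.mem_biUnion (show n ∈ Set.Ioi (0 : ℤ) from hn) hx)

theorem VerData.map_irr_le : (irr 𝒜').map D.φ ≤ irr 𝒜 := by
  rw [Ideal.map_le_iff_le_comap]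
  apply Ideal.span_le.2
  intro x hx
  obtain ⟨n, hn, hxn⟩ := Set.mem_iUnion₂.1 hx
  rw [SetLike.mem_coe, Ideal.mem_comap]
  have hq : (0 : ℤ) < D.q := by exact_mod_cast D.hq
  exact mem_irr_of_mem 𝒜 (mul_pos hn hq) (D.φ_mem hxn)

theorem VerData.irr_le_radical : irr 𝒜 ≤ ((irr 𝒜').map D.φ).radical := by
  apply Ideal.span_le.2
  intro x hx
  obtain ⟨n, hn, hxn⟩ := Set.mem_iUnion₂.1 hx
  refine ⟨D.q, ?_⟩
  have h1 : x ^ D.q ∈ 𝒜 (D.q • n) := SetLike.pow_mem_graded D.q hxn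
  have h2 : D.q • n = n * D.q := by rw [nsmul_eq_mul, mul_comm]
  rw [h2, ← D.hdeg n] at h1
  obtain ⟨r', hr', hr'x⟩ := h1
  have h3 : D.φ r' = x ^ D.q := hr'x
  rw [← h3]
  exact Ideal.mem_map_of_mem D.φ (mem_irr_of_mem 𝒜' hn hr')

theorem VerData.radical_eq : ((irr 𝒜').map D.φ).radical = (irr 𝒜).radical := by
  apply le_antisymm
  · exact Ideal.radical_mono D.map_irr_le
  · rw [← Ideal.radical_idem ((irr 𝒜').map D.φ)]
    exact Ideal.radical_mono D.irr_le_radical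

end Noeth

end Groth.Agent.Lib.helper26.Ver
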