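import Mathlib
import Groth.Prelude.Def_GrLC
import Groth.Agent.Lib.Helper19.GrMod
import Groth.Agent.Lib.Helper26.Ver4
import Groth.Agent.Lib.Helper26.Acyc2
import Groth.Agent.S13217
import Groth.Agent.S11614

/-!
# Acyclicity of the Veronese of a *injective module (helper26)
-/

set_option autoImplicit false
set_option linter.unusedSectionVars false
set_option linter.dupNamespace false
universe u

namespace Groth.Agent.Lib.helper26.Ver

open GrLC DirectSum Groth.Agent.Lib.helper19.GrMod CategoryTheory

section Retract

/-- local cohomology vanishes on retracts -/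
theorem H_subsingleton_of_retract {A : Type u} [CommRing A] (I : Ideal A) (i : ℕ) {M N : Type u}
    [AddCommGroup M] [Module A M] [AddCommGroup N] [Module A N] (ι : M →ₗ[A] N) (π : N →ₗ[A] M)
    (h : π ∘ₗ ι = LinearMap.id) (hN : Subsingleton (LocCoh.H I i N)) :
    Subsingleton (LocCoh.H I i M) := by
  have hz : ∀ x : LocCoh.H I i M, x = 0 := by
    intro x
    have h1 : ((localCohomology I i).map (𝟙 (ModuleCat.of A M))).hom x = x := by
      rw [CategoryTheory.Functor.map_id]; rfl
    have h2 : 𝟙 (ModuleCat.of A M) = ModuleCat.ofHom ι ≫ ModuleCat.ofHom π := by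
      rw [← ModuleCat.ofHom_comp, h]
      rfl
    rw [← h1, h2, Functor.map_comp, ModuleCat.hom_comp, LinearMap.comp_apply,
      hN.elim (((localCohomology I i).map (ModuleCat.ofHom ι)).hom x) 0, map_zero]
  exact ⟨fun x y => by rw [hz x, hz y]⟩

/-- vanishing of local cohomology descends along a ring map, up to radical -/
theorem H_subsingleton_of_restrict {R' R : Type u} [CommRing R'] [CommRing R]
    [IsNoetherianRing R'] [IsNoetherianRing R] [Algebra R' R] (I : Ideal R') (M : Type u)
    [AddCommGroup M] [Module R M] [Module R' M] [IsScalarTower R' R M] (i : ℕ) (J : Ideal R)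
    (hrad : (I.map (algebraMap R' R)).radical = J.radical)
    (h : Subsingleton (LocCoh.H J i M)) : Subsingleton (LocCoh.H I i M) := by
  obtain ⟨e, -⟩ := Groth.Agent.S11614.result R' R I M i
  have e2 := ((localCohomology.isoOfSameRadical hrad i).app (ModuleCat.of R M)).toLinearEquiv
  have h2 : Subsingleton (LocCoh.H (I.map (algebraMap R' R)) i M) :=
    e2.toEquiv.subsingleton
  exact e.symm.toEquiv.subsingleton

end Retract

section Acyc

variable {R : Type u} [CommRing R] {R' : Type u} [CommRing R']
variable {𝒜 : ℤ → AddSubgroup R} [GradedRing 𝒜] {𝒜' : ℤ → AddSubgroup R'} [GradedRing 𝒜']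
  (D : VerData 𝒜 𝒜')

/-- the Veronese of a *injective module is acyclic for `Γ_{m'}` -/
theorem ver_isAcyc [IsNoetherianRing R] (hφ : Function.Injective D.φ)
    (m : HomogeneousIdeal 𝒜) (hm : m.toIdeal = irr 𝒜)
    (m' : HomogeneousIdeal 𝒜') (hm' : m'.toIdeal = irr 𝒜')
    (X : GMod.{u} 𝒜) (hX : IsStarInj 𝒜 X.gr) :
    Acyc.IsAcyc m' (verGMod D X) := by
  classical
  intro i hi
  have hR' : IsNoetherianRing R' := D.isNoetherianRing hφ
  have h1 : Subsingleton (LocCoh.H m.toIdeal i X.carrier) :=
    Groth.Agent.S13217.result R 𝒜 m X.carrier X.gr hX i hi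
  let _ : Algebra R' R := D.φ.toAlgebra
  let _ : Module R' X.carrier := Module.compHom X.carrier D.φ
  have : IsScalarTower R' R X.carrier := IsScalarTower.of_algebraMap_smul fun _ _ => rfl
  have hrad : ((m'.toIdeal).map (algebraMap R' R)).radical = (m.toIdeal).radical := by
    rw [hm, hm']
    exact D.radical_eq
  have h2 : Subsingleton (LocCoh.H m'.toIdeal i X.carrier) :=
    H_subsingleton_of_restrict m'.toIdeal X.carrier i m.toIdeal hrad h1
  -- the retraction
  let ι : Ver D X →ₗ[R'] X.carrier :=
    { toFun := fun x => Ver.val D x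
      map_add' := fun x y => rfl
      map_smul' := fun r x => rfl }
  let π : X.carrier →ₗ[R'] Ver D X :=
    { toFun := fun x => Ver.mk D (verProj X.gr D.q x) (verProj_mem X.gr D.q x)
      map_add' := fun x y => Ver.ext D (by
        show verProj X.gr D.q (x + y) = verProj X.gr D.q x + verProj X.gr D.q y
        exact map_add _ x y)
      map_smul' := fun r x => Ver.ext D (by
        show verProj X.gr D.q (D.φ r • x) = D.φ r • verProj X.gr D.q x
        exact verProj_smul 𝒜 X.gr D.q (D.φ_mem_verSub r) x) }
  have hπι : π ∘ₗ ι = LinearMap.id := by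
    apply LinearMap.ext
    intro x
    apply Ver.ext D
    show verProj X.gr D.q (Ver.val D x) = Ver.val D x
    exact verProj_eq_self X.gr D.q (Ver.val_mem D x)
  exact H_subsingleton_of_retract m'.toIdeal i ι π hπι h2

end Acyc

end Groth.Agent.Lib.helper26.Ver
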