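import Mathlib
import Groth.Prelude.Def_GrLC
import Groth.Prelude.Def_GrSeg
import Groth.Agent.Lib.Helper2.LCNat9
import Groth.Agent.Lib.Helper26.Seg4
import Groth.Agent.Lib.Helper26.Ver5
import Groth.Agent.Lib.Helper26.Kun2
import Groth.Agent.Lib.Helper26.Kun5

/-!
# The Segre product of *injective modules is acyclic for `Γ_{T₊}` (helper26)
-/

set_option autoImplicit false
set_option linter.unusedSectionVars false
set_option linter.dupNamespace false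
universe u
open scoped TensorProduct

namespace Groth.Agent.Lib.helper26.Kun

open GrLC Groth.Agent.Lib.helper19.GrConv Groth.Agent.Lib.helper19.GrMod
  Groth.Agent.Lib.helper26.Seg

section MV

variable {A : Type u} [CommRing A] [IsNoetherianRing A] (M : Type u) [AddCommGroup M] [Module A M]

/-- consequence of the Mayer–Vietoris sequence -/
theorem H_inf_subsingleton (I J : Ideal A) (i : ℕ) (hI : Subsingleton (LocCoh.H I i M))
    (hJ : Subsingleton (LocCoh.H J i M)) (hIJ : Subsingleton (LocCoh.H (I ⊔ J) (i + 1) M)) :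
    Subsingleton (LocCoh.H (I ⊓ J) i M) := by
  obtain ⟨δ, -, -, -, h4⟩ := Groth.Agent.Lib.helper2.LCNat.mayer_vietoris A M I J
  have hz : ∀ x : LocCoh.H (I ⊓ J) i M, x = 0 := by
    intro x
    have h1 : x ∈ LinearMap.ker (δ i) := by
      rw [LinearMap.mem_ker]
      exact hIJ.elim _ _
    rw [h4 i] at h1
    obtain ⟨y, rfl⟩ := h1
    have hy : y = 0 := by
      apply Prod.ext
      · exact hI.elim _ _
      · exact hJ.elim _ _
    rw [hy, map_zero]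
  exact ⟨fun x y => by rw [hz x, hz y]⟩

end MV

section Rad

variable {k : Type u} [Field k] {R : Type u} [CommRing R] [Algebra k R]
  (𝒜 : ℤ → Submodule k R) [GradedAlgebra 𝒜]
  {S : Type u} [CommRing S] [Algebra k S] (ℬ : ℤ → Submodule k S) [GradedAlgebra ℬ]
  {T : Type u} [CommRing T] [Algebra k T] (𝒯 : ℤ → Submodule k T) [GradedAlgebra 𝒯]
  (ψ : T →ₐ[k] R ⊗[k] S) (hT : GrSeg.IsSegreRing 𝒜 ℬ 𝒯 ψ)

theorem incL_mem_span_image [DecidableEq (R ⊗[k] S)] (s₁ : Finset R) {a : R}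
    (ha : a ∈ Ideal.span (s₁ : Set R)) :
    incL k S a ∈ Ideal.span ((s₁.image (incL k S) : Finset (R ⊗[k] S)) : Set (R ⊗[k] S)) := by
  have h1 : (Algebra.TensorProduct.includeLeftRingHom : R →+* R ⊗[k] S) a ∈
      Ideal.map (Algebra.TensorProduct.includeLeftRingHom : R →+* R ⊗[k] S)
        (Ideal.span (s₁ : Set R)) := Ideal.mem_map_of_mem _ ha
  rw [Ideal.map_span] at h1
  rw [Finset.coe_image]
  exact h1

theorem incR_mem_span_image [DecidableEq (R ⊗[k] S)] (s₂ : Finset S) {b : S}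
    (hb : b ∈ Ideal.span (s₂ : Set S)) :
    incR k R b ∈ Ideal.span ((s₂.image (incR k R) : Finset (R ⊗[k] S)) : Set (R ⊗[k] S)) := by
  have h1 : (Algebra.TensorProduct.includeRight : S →ₐ[k] R ⊗[k] S).toRingHom b ∈
      Ideal.map (Algebra.TensorProduct.includeRight : S →ₐ[k] R ⊗[k] S).toRingHom
        (Ideal.span (s₂ : Set S)) := Ideal.mem_map_of_mem _ hb
  rw [Ideal.map_span] at h1
  rw [Finset.coe_image]
  exact h1

theorem tmul_eq_incL_mul_incR (a : R) (b : S) : a ⊗ₜ[k] b = incL k S a * incR k R b := by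
  unfold incL incR
  rw [Algebra.TensorProduct.tmul_mul_tmul, mul_one, one_mul]

include hT in
theorem radical_map_irr_eq [DecidableEq (R ⊗[k] S)] (s₁ : Finset R)
    (hs₁ : ∀ x ∈ s₁, ∃ e : ℤ, 0 < e ∧ x ∈ 𝒜 e) (hs₁span : irr 𝒜 = Ideal.span (s₁ : Set R))
    (s₂ : Finset S) (hs₂ : ∀ y ∈ s₂, ∃ e : ℤ, 0 < e ∧ y ∈ ℬ e)
    (hs₂span : irr ℬ = Ideal.span (s₂ : Set S)) :
    ((irr 𝒯).map ψ.toRingHom).radical =
      (Ideal.span ((s₁.image (incL k S) : Finset (R ⊗[k] S)) : Set (R ⊗[k] S)) ⊓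
        Ideal.span ((s₂.image (incR k R) : Finset (R ⊗[k] S)) : Set (R ⊗[k] S))).radical := by
  classical
  set I := Ideal.span ((s₁.image (incL k S) : Finset (R ⊗[k] S)) : Set (R ⊗[k] S)) with hI
  set J := Ideal.span ((s₂.image (incR k R) : Finset (R ⊗[k] S)) : Set (R ⊗[k] S)) with hJ
  apply le_antisymm
  · apply Ideal.radical_mono
    rw [Ideal.map_le_iff_le_comap]
    unfold irr
    rw [Ideal.span_le]
    intro g hg
    simp only [Set.mem_iUnion, SetLike.mem_coe] at hg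
    obtain ⟨n, hn, hg⟩ := hg
    rw [Set.mem_Ioi] at hn
    rw [SetLike.mem_coe, Ideal.mem_comap]
    have h3 : ψ g ∈ GrSeg.segrePiece k 𝒜 ℬ n := psi_mem_segrePiece 𝒜 ℬ 𝒯 ψ hT hg
    have h4 : GrSeg.segrePiece k 𝒜 ℬ n ≤ (I ⊓ J).restrictScalars k := by
      unfold GrSeg.segrePiece
      rw [Submodule.span_le]
      rintro z ⟨a, ha, b, hb, rfl⟩
      rw [SetLike.mem_coe, Submodule.restrictScalars_mem, tmul_eq_incL_mul_incR]
      constructor
      · apply Ideal.mul_mem_right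
        apply incL_mem_span_image
        rw [← hs₁span]
        exact mem_irr_of_mem 𝒜 hn ha
      · apply Ideal.mul_mem_left
        apply incR_mem_span_image
        rw [← hs₂span]
        exact mem_irr_of_mem ℬ hn hb
    exact h4 h3
  · rw [← Ideal.radical_idem ((irr 𝒯).map ψ.toRingHom)]
    apply Ideal.radical_mono
    intro z hz
    -- `z² ∈ I * J`
    have hz2 : z * z ∈ I * J := Ideal.mul_mem_mul hz.1 hz.2
    have hIJ : I * J ≤ ((irr 𝒯).map ψ.toRingHom).radical := by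
      rw [hI, hJ, Ideal.span_mul_span, Ideal.span_le]
      intro w hw
      obtain ⟨u, hu, v, hv, rfl⟩ := Set.mem_mul.1 hw
      obtain ⟨a, ha, rfl⟩ := Finset.mem_image.1 (Finset.mem_coe.1 hu)
      obtain ⟨b, hb, rfl⟩ := Finset.mem_image.1 (Finset.mem_coe.1 hv)
      obtain ⟨e, he, hae⟩ := hs₁ a ha
      obtain ⟨f, hf, hbf⟩ := hs₂ b hb
      -- a power of `a ⊗ b` is a multiple of `a^f ⊗ b^e`
      obtain ⟨e', rfl⟩ : ∃ e' : ℕ, e = (e' : ℤ) := ⟨e.toNat, (Int.toNat_of_nonneg he.le).symm⟩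
      obtain ⟨f', rfl⟩ : ∃ f' : ℕ, f = (f' : ℤ) := ⟨f.toNat, (Int.toNat_of_nonneg hf.le).symm⟩
      have he' : 0 < e' := by exact_mod_cast he
      have hf' : 0 < f' := by exact_mod_cast hf
      refine ⟨e' + f', ?_⟩
      rw [← tmul_eq_incL_mul_incR, Algebra.TensorProduct.tmul_pow]
      have h1 : (a ^ (e' + f')) ⊗ₜ[k] (b ^ (e' + f')) =
          ((a ^ f') ⊗ₜ[k] (b ^ e')) * ((a ^ e') ⊗ₜ[k] (b ^ f')) := by
        rw [Algebra.TensorProduct.tmul_mul_tmul, ← pow_add, ← pow_add, add_comm f' e']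
      rw [h1]
      apply Ideal.mul_mem_right
      have h2 : a ^ f' ∈ 𝒜 ((f' * e' : ℕ) : ℤ) := by
        have := SetLike.pow_mem_graded f' hae
        rw [nsmul_eq_mul] at this
        rw [Nat.cast_mul]
        exact this
      have h3 : b ^ e' ∈ ℬ ((f' * e' : ℕ) : ℤ) := by
        have := SetLike.pow_mem_graded e' hbf
        rw [nsmul_eq_mul, mul_comm] at this
        rw [Nat.cast_mul]
        exact this
      have h4 : (a ^ f') ⊗ₜ[k] (b ^ e') ∈ GrSeg.segrePiece k 𝒜 ℬ ((f' * e' : ℕ) : ℤ) :=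
        Submodule.subset_span ⟨_, h2, _, h3, rfl⟩
      rw [← hT.2] at h4
      obtain ⟨g, hg, hgψ⟩ := h4
      have h5 : ψ.toRingHom g = (a ^ f') ⊗ₜ[k] (b ^ e') := hgψ
      rw [← h5]
      apply Ideal.mem_map_of_mem
      apply mem_irr_of_mem 𝒯 _ hg
      exact_mod_cast Nat.mul_pos hf' he'
    have h6 := hIJ hz2
    rw [← pow_two] at h6
    exact (Ideal.radical_isRadical _) ⟨2, h6⟩

end Rad

section Final

variable {k : Type u} [Field k] {R : Type u} [CommRing R] [Algebra k R] [IsNoetherianRing R]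
  (𝒜 : ℤ → Submodule k R) [GradedAlgebra 𝒜]
  {S : Type u} [CommRing S] [Algebra k S] [IsNoetherianRing S]
  (ℬ : ℤ → Submodule k S) [GradedAlgebra ℬ]
  {T : Type u} [CommRing T] [Algebra k T] [IsNoetherianRing T]
  (𝒯 : ℤ → Submodule k T) [GradedAlgebra 𝒯]
  [IsNoetherianRing (R ⊗[k] S)]
  (ψ : T →ₐ[k] R ⊗[k] S) (hT : GrSeg.IsSegreRing 𝒜 ℬ 𝒯 ψ)
  {X : Type u} [AddCommGroup X] [Module R X] [Module k X] [IsScalarTower k R X]
  (𝒳 : ℤ → AddSubgroup X) [DirectSum.Decomposition 𝒳] [SetLike.GradedSMul 𝒜 𝒳]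
  {Y : Type u} [AddCommGroup Y] [Module S Y] [Module k Y] [IsScalarTower k S Y]
  (𝒴 : ℤ → AddSubgroup Y) [DirectSum.Decomposition 𝒴] [SetLike.GradedSMul ℬ 𝒴]

include hT in
/-- `X ⊗ Y`, as a `T`-module, is acyclic for `Γ_{T₊}` when `X`, `Y` are *injective -/
theorem SW_acyclic (hX : IsStarInj 𝒜 𝒳) (hY : IsStarInj ℬ 𝒴) (i : ℕ) (hi : 1 ≤ i) :
    Subsingleton (LocCoh.H (irr 𝒯) i (SW ψ X Y)) := by
  classical
  obtain ⟨s₁, hs₁, hs₁span⟩ := exists_finset_homogeneous_span 𝒜 (fun m => 0 < m) (irr 𝒜) rfl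
    (IsNoetherian.noetherian _)
  obtain ⟨s₂, hs₂, hs₂span⟩ := exists_finset_homogeneous_span ℬ (fun m => 0 < m) (irr ℬ) rfl
    (IsNoetherian.noetherian _)
  have hD1 : ∀ t : Finset R, t ⊆ s₁ → ∀ x ∈ s₁, DivOn x (torsK (k := k) (M := X) t) := by
    intro t ht x hx
    obtain ⟨e, -, hxe⟩ := hs₁ x hx
    refine divOn_of_isStarInj 𝒜 𝒳 hX t (fun r hr => ?_) hxe
    obtain ⟨e', -, hre⟩ := hs₁ r (ht hr)
    exact ⟨e', hre⟩
  have hD2 : ∀ t : Finset S, t ⊆ s₂ → ∀ y ∈ s₂, DivOn y (torsK (k := k) (M := Y) t) := by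
    intro t ht y hy
    obtain ⟨e, -, hye⟩ := hs₂ y hy
    refine divOn_of_isStarInj ℬ 𝒴 hY t (fun r hr => ?_) hye
    obtain ⟨e', -, hre⟩ := hs₂ r (ht hr)
    exact ⟨e', hre⟩
  let _ : Module (R ⊗[k] S) (X ⊗[k] Y) := tpModule
  set I := Ideal.span ((s₁.image (incL k S) : Finset (R ⊗[k] S)) : Set (R ⊗[k] S)) with hI
  set J := Ideal.span ((s₂.image (incR k R) : Finset (R ⊗[k] S)) : Set (R ⊗[k] S)) with hJ
  have hIJ : I ⊔ J = Ideal.span
      ((s₁.image (incL k S) ∪ s₂.image (incR k R) : Finset (R ⊗[k] S)) : Set (R ⊗[k] S)) := by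
    rw [Finset.coe_union, Ideal.span_union]
  have h1 : Subsingleton (LocCoh.H I i (X ⊗[k] Y)) :=
    acyclic_of_div s₁ s₂ hD1 hD2 _ Finset.subset_union_left i hi
  have h2 : Subsingleton (LocCoh.H J i (X ⊗[k] Y)) :=
    acyclic_of_div s₁ s₂ hD1 hD2 _ Finset.subset_union_right i hi
  have h3 : Subsingleton (LocCoh.H (I ⊔ J) (i + 1) (X ⊗[k] Y)) := by
    rw [hIJ]
    exact acyclic_of_div s₁ s₂ hD1 hD2 _ subset_rfl (i + 1) (Nat.succ_pos i)
  have h4 : Subsingleton (LocCoh.H (I ⊓ J) i (X ⊗[k] Y)) :=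
    H_inf_subsingleton (X ⊗[k] Y) I J i h1 h2 h3
  have hrad := radical_map_irr_eq 𝒜 ℬ 𝒯 ψ hT s₁ hs₁ hs₁span s₂ hs₂ hs₂span
  let _ : Algebra T (R ⊗[k] S) := ψ.toRingHom.toAlgebra
  let _ : Module T (X ⊗[k] Y) := Module.compHom (X ⊗[k] Y) ψ.toRingHom
  have : IsScalarTower T (R ⊗[k] S) (X ⊗[k] Y) := IsScalarTower.of_algebraMap_smul fun _ _ => rfl
  have h5 : Subsingleton (LocCoh.H (irr 𝒯) i (X ⊗[k] Y)) :=
    Groth.Agent.Lib.helper26.Ver.H_subsingleton_of_restrict (irr 𝒯) (X ⊗[k] Y) i (I ⊓ J) hrad h4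
  exact h5

include hT in
/-- **The Segre product of *injective modules is acyclic for `Γ_{T₊}`.** -/
theorem seg_acyclic (hX : IsStarInj 𝒜 𝒳) (hY : IsStarInj ℬ 𝒴) (i : ℕ) (hi : 1 ≤ i) :
    Subsingleton (LocCoh.H (irr 𝒯) i ↥(segSub 𝒜 ℬ 𝒯 ψ hT 𝒳 𝒴)) := by
  have h := SW_acyclic 𝒜 ℬ 𝒯 ψ hT 𝒳 𝒴 hX hY i hi
  refine Groth.Agent.Lib.helper26.Ver.H_subsingleton_of_retract (irr 𝒯) i
    (segSub 𝒜 ℬ 𝒯 ψ hT 𝒳 𝒴).subtype (segRetract 𝒜 ℬ 𝒯 ψ hT 𝒳 𝒴) ?_ h
  apply LinearMap.ext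
  intro z
  exact segRetract_subtype 𝒜 ℬ 𝒯 ψ hT 𝒳 𝒴 z

end Final

end Groth.Agent.Lib.helper26.Kun
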