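import Mathlib
import Groth.Prelude.Def_GrLC
import Groth.Prelude.Def_GrSeg
import Groth.Agent.Lib.Helper19.GrFin2
import Groth.Agent.Lib.Helper19.GrFin3
import Groth.Agent.Lib.Helper26.Kun2
import Groth.Agent.Lib.Helper26.Kun6

/-!
# The `T₊`-torsion of `X ⊗ Y` (helper26)

`torsion_iff` : an element `w` of `X ⊗ Y` is killed by a power of `T₊` (acting through `ψ`) if and
only if its image in `(X/Γ_{R₊}X) ⊗ (Y/Γ_{S₊}Y)` vanishes.
-/

set_option autoImplicit false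
set_option linter.unusedSectionVars false
set_option linter.dupNamespace false
universe u
open scoped TensorProduct

namespace Groth.Agent.Lib.helper26.Kun

open GrLC Groth.Agent.Lib.helper19.GrConv Groth.Agent.Lib.helper19.GrMod
  Groth.Agent.Lib.helper26.Seg Groth.Agent.Lib.helper26.GrCM

section FG

variable {k : Type u} [Field k] {R : Type u} [CommRing R] [Algebra k R]
  {S : Type u} [CommRing S] [Algebra k S]
  {X : Type u} [AddCommGroup X] [Module R X] [Module k X] [IsScalarTower k R X]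
  {Y : Type u} [AddCommGroup Y] [Module S Y] [Module k Y] [IsScalarTower k S Y]

/-- every tensor comes from finitely generated submodules -/
theorem exists_fg_tmap (w : X ⊗[k] Y) :
    ∃ (X₁ : Submodule R X) (Y₁ : Submodule S Y), X₁.FG ∧ Y₁.FG ∧
      ∃ w₁ : X₁ ⊗[k] Y₁, tmap k X₁.subtype Y₁.subtype w₁ = w := by
  induction w using TensorProduct.induction_on with
  | zero => exact ⟨⊥, ⊥, Submodule.fg_bot, Submodule.fg_bot, 0, map_zero _⟩
  | tmul x y =>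
    refine ⟨Submodule.span R {x}, Submodule.span S {y}, Submodule.fg_span_singleton x,
      Submodule.fg_span_singleton y,
      (⟨x, Submodule.mem_span_singleton_self x⟩ : Submodule.span R {x}) ⊗ₜ[k]
        (⟨y, Submodule.mem_span_singleton_self y⟩ : Submodule.span S {y}), rfl⟩
  | add w w' h h' =>
    obtain ⟨X₁, Y₁, hX₁, hY₁, w₁, hw₁⟩ := h
    obtain ⟨X₂, Y₂, hX₂, hY₂, w₂, hw₂⟩ := h'
    refine ⟨X₁ ⊔ X₂, Y₁ ⊔ Y₂, hX₁.sup hX₂, hY₁.sup hY₂,
      tmap k (Submodule.inclusion (le_sup_left : X₁ ≤ X₁ ⊔ X₂))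
        (Submodule.inclusion (le_sup_left : Y₁ ≤ Y₁ ⊔ Y₂)) w₁ +
      tmap k (Submodule.inclusion (le_sup_right : X₂ ≤ X₁ ⊔ X₂))
        (Submodule.inclusion (le_sup_right : Y₂ ≤ Y₁ ⊔ Y₂)) w₂, ?_⟩
    rw [map_add, ← hw₁, ← hw₂]
    congr 1
    · rw [← LinearMap.comp_apply]
      congr 1
      apply TensorProduct.ext'
      intro x y
      rfl
    · rw [← LinearMap.comp_apply]
      congr 1
      apply TensorProduct.ext'
      intro x y
      rfl

theorem tmap_injective {X' : Type u} [AddCommGroup X'] [Module R X'] [Module k X']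
    [IsScalarTower k R X'] {Y' : Type u} [AddCommGroup Y'] [Module S Y'] [Module k Y']
    [IsScalarTower k S Y'] (f : X →ₗ[R] X') (hf : Function.Injective f) (g : Y →ₗ[S] Y')
    (hg : Function.Injective g) : Function.Injective (tmap k f g) :=
  TensorProduct.map_injective_of_flat_flat _ _ hf hg

end FG

section TorsionFree

variable {k : Type u} [Field k] {R : Type u} [CommRing R] [Algebra k R] [IsNoetherianRing R]
  (𝒜 : ℤ → Submodule k R) [GradedAlgebra 𝒜]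
  {S : Type u} [CommRing S] [Algebra k S] [IsNoetherianRing S]
  (ℬ : ℤ → Submodule k S) [GradedAlgebra ℬ]
  {T : Type u} [CommRing T] [Algebra k T] (𝒯 : ℤ → Submodule k T) [GradedAlgebra 𝒯]
  (ψ : T →ₐ[k] R ⊗[k] S) (hT : GrSeg.IsSegreRing 𝒜 ℬ 𝒯 ψ)
  {X : Type u} [AddCommGroup X] [Module R X] [Module k X] [IsScalarTower k R X]
  {Y : Type u} [AddCommGroup Y] [Module S Y] [Module k Y] [IsScalarTower k S Y]

theorem exists_regular_of_torsionFree (hX : gam (irr 𝒜) X = ⊥) (X₁ : Submodule R X)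
    (hX₁ : X₁.FG) : ∃ (e : ℕ) (_ : 0 < e) (a : R), a ∈ 𝒜 (e : ℤ) ∧ IsSMulRegular X₁ a := by
  have hfin : Module.Finite R X₁ := Module.Finite.iff_fg.2 hX₁
  have htors : gam (Groth.Agent.Lib.helper19.GrFin.irr (addGr 𝒜)) X₁ = ⊥ := by
    rw [eq_bot_iff]
    rintro u ⟨n, hn⟩
    have h1 : (u : X) ∈ gam (irr 𝒜) X :=
      ⟨n, fun r hr => by
        have := hn r hr
        exact congrArg Subtype.val this⟩
    rw [hX, Submodule.mem_bot] at h1
    rw [Submodule.mem_bot]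
    exact Subtype.ext h1
  obtain ⟨d, hd, x, hx, hreg⟩ :=
    Groth.Agent.Lib.helper19.GrFin.exists_homogeneous_regular (addGr 𝒜) X₁ htors
  exact ⟨d, hd, x, hx, hreg⟩

include hT in
/-- a `T₊`-torsion element of `X ⊗ Y` vanishes when `X`, `Y` have no `R₊`-, `S₊`-torsion -/
theorem eq_zero_of_torsion_of_torsionFree (hX : gam (irr 𝒜) X = ⊥) (hY : gam (irr ℬ) Y = ⊥)
    (w : X ⊗[k] Y) (N : ℕ) (hw : ∀ t ∈ (irr 𝒯) ^ N, GrSeg.act k R S X Y (ψ t) w = 0) : w = 0 := by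
  obtain ⟨X₁, Y₁, hX₁, hY₁, w₁, rfl⟩ := exists_fg_tmap (k := k) (R := R) (S := S) w
  obtain ⟨e, he, a, ha, hareg⟩ := exists_regular_of_torsionFree 𝒜 hX X₁ hX₁
  obtain ⟨f, hf, b, hb, hbreg⟩ := exists_regular_of_torsionFree ℬ hY Y₁ hY₁
  have h2 : a ^ f ∈ 𝒜 ((f * e : ℕ) : ℤ) := by
    have := SetLike.pow_mem_graded f ha
    rw [nsmul_eq_mul] at this
    rw [Nat.cast_mul]
    exact this
  have h3 : b ^ e ∈ ℬ ((f * e : ℕ) : ℤ) := by
    have := SetLike.pow_mem_graded e hb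
    rw [nsmul_eq_mul, mul_comm] at this
    rw [Nat.cast_mul]
    exact this
  have h4 : (a ^ f) ⊗ₜ[k] (b ^ e) ∈ GrSeg.segrePiece k 𝒜 ℬ ((f * e : ℕ) : ℤ) :=
    Submodule.subset_span ⟨_, h2, _, h3, rfl⟩
  rw [← hT.2] at h4
  obtain ⟨t, ht, htψ⟩ := h4
  have htψ' : ψ t = (a ^ f) ⊗ₜ[k] (b ^ e) := htψ
  have htirr : t ∈ irr 𝒯 := by
    apply mem_irr_of_mem 𝒯 _ ht
    exact_mod_cast Nat.mul_pos hf he
  have h5 := hw (t ^ N) (Ideal.pow_mem_pow htirr N)
  rw [map_pow, htψ', Algebra.TensorProduct.tmul_pow, ← tmap_act] at h5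
  have h6 : GrSeg.act k R S X₁ Y₁ (((a ^ f) ^ N) ⊗ₜ[k] ((b ^ e) ^ N)) w₁ = 0 := by
    apply tmap_injective X₁.subtype Subtype.val_injective Y₁.subtype Subtype.val_injective
    rw [h5, map_zero]
  have h7 : w₁ = 0 := by
    apply act_tmul_injective ((hareg.pow f).pow N) ((hbreg.pow e).pow N)
    rw [h6, map_zero]
  rw [h7, map_zero]

include hT in
theorem psi_mem_map_incL {t : T} (ht : t ∈ irr 𝒯) :
    ψ t ∈ Ideal.map (Algebra.TensorProduct.includeLeft : R →ₐ[k] R ⊗[k] S).toRingHom (irr 𝒜) :=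
  Groth.Agent.Lib.helper26.Seg.map_irr_le 𝒜 ℬ 𝒯 ψ hT.2 (Ideal.mem_map_of_mem ψ.toRingHom ht)

include hT in
theorem psi_mem_map_incR {t : T} (ht : t ∈ irr 𝒯) :
    ψ t ∈ Ideal.map (Algebra.TensorProduct.includeRight : S →ₐ[k] R ⊗[k] S).toRingHom (irr ℬ) := by
  have hle : Ideal.map ψ.toRingHom (irr 𝒯) ≤
      Ideal.map (Algebra.TensorProduct.includeRight : S →ₐ[k] R ⊗[k] S).toRingHom (irr ℬ) := by
    rw [Ideal.map_le_iff_le_comap]
    unfold irr
    rw [Ideal.span_le]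
    intro g hg
    simp only [Set.mem_iUnion, SetLike.mem_coe] at hg
    obtain ⟨j, hj, hg⟩ := hg
    rw [Set.mem_Ioi] at hj
    rw [SetLike.mem_coe, Ideal.mem_comap]
    have h3 : ψ g ∈ (𝒯 j).map ψ.toLinearMap := ⟨g, hg, rfl⟩
    rw [hT.2] at h3
    have h4 : GrSeg.segrePiece k 𝒜 ℬ j ≤
        ((Ideal.map (Algebra.TensorProduct.includeRight : S →ₐ[k] R ⊗[k] S).toRingHom
          (Ideal.span (⋃ i ∈ Set.Ioi (0 : ℤ), (ℬ i : Set S)))).restrictScalars k) := by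
      unfold GrSeg.segrePiece
      rw [Submodule.span_le]
      rintro z ⟨a', ha', b', hb', rfl⟩
      rw [SetLike.mem_coe, Submodule.restrictScalars_mem]
      have h5 : a' ⊗ₜ[k] b' = (a' ⊗ₜ[k] (1 : S)) *
          (Algebra.TensorProduct.includeRight : S →ₐ[k] R ⊗[k] S).toRingHom b' := by
        show _ = _ * ((1 : R) ⊗ₜ[k] b')
        rw [Algebra.TensorProduct.tmul_mul_tmul, one_mul, mul_one]
      rw [h5]
      exact Ideal.mul_mem_left _ _ (Ideal.mem_map_of_mem _ (mem_irr_of_mem ℬ hj hb'))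
    exact h4 h3
  exact hle (Ideal.mem_map_of_mem ψ.toRingHom ht)

theorem act_eq_zero_of_mem_map_incL (𝔞 : Ideal R) (u : X) (hu : ∀ r ∈ 𝔞, r • u = 0) (y : Y)
    {c : R ⊗[k] S}
    (hc : c ∈ Ideal.map (Algebra.TensorProduct.includeLeft : R →ₐ[k] R ⊗[k] S).toRingHom 𝔞) :
    GrSeg.act k R S X Y c (u ⊗ₜ[k] y) = 0 := by
  unfold Ideal.map at hc
  induction hc using Submodule.span_induction with
  | mem c hc =>
    obtain ⟨r, hr, rfl⟩ := hc
    show GrSeg.act k R S X Y (r ⊗ₜ[k] (1 : S)) (u ⊗ₜ[k] y) = 0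
    rw [GrSeg.act_tmul, hu r hr, TensorProduct.zero_tmul]
  | zero => rw [map_zero, LinearMap.zero_apply]
  | add c c' _ _ h h' => rw [map_add, LinearMap.add_apply, h, h', add_zero]
  | smul a c _ h =>
    rw [smul_eq_mul, act_mul, h, map_zero]

theorem act_eq_zero_of_mem_map_incR (𝔟 : Ideal S) (x : X) (v : Y) (hv : ∀ s ∈ 𝔟, s • v = 0)
    {c : R ⊗[k] S}
    (hc : c ∈ Ideal.map (Algebra.TensorProduct.includeRight : S →ₐ[k] R ⊗[k] S).toRingHom 𝔟) :
    GrSeg.act k R S X Y c (x ⊗ₜ[k] v) = 0 := by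
  unfold Ideal.map at hc
  induction hc using Submodule.span_induction with
  | mem c hc =>
    obtain ⟨s, hs, rfl⟩ := hc
    show GrSeg.act k R S X Y ((1 : R) ⊗ₜ[k] s) (x ⊗ₜ[k] v) = 0
    rw [GrSeg.act_tmul, hv s hs, TensorProduct.tmul_zero]
  | zero => rw [map_zero, LinearMap.zero_apply]
  | add c c' _ _ h h' => rw [map_add, LinearMap.add_apply, h, h', add_zero]
  | smul a c _ h =>
    rw [smul_eq_mul, act_mul, h, map_zero]

/-- the `T₊`-torsion tensors -/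
def IsTors (w : X ⊗[k] Y) : Prop :=
  ∃ N : ℕ, ∀ t ∈ (irr 𝒯) ^ N, GrSeg.act k R S X Y (ψ t) w = 0

theorem isTors_zero : IsTors 𝒯 ψ (0 : X ⊗[k] Y) := ⟨0, fun t _ => map_zero _⟩

theorem isTors_add {w w' : X ⊗[k] Y} (h : IsTors 𝒯 ψ w) (h' : IsTors 𝒯 ψ w') :
    IsTors 𝒯 ψ (w + w') := by
  obtain ⟨N, hN⟩ := h
  obtain ⟨N', hN'⟩ := h'
  refine ⟨N + N', fun t ht => ?_⟩
  rw [map_add, hN t (Ideal.pow_le_pow_right (Nat.le_add_right N N') ht),
    hN' t (Ideal.pow_le_pow_right (Nat.le_add_left N' N) ht), add_zero]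

include hT in
theorem isTors_tmul_left {u : X} (hu : u ∈ gam (irr 𝒜) X) (y : Y) :
    IsTors 𝒯 ψ (u ⊗ₜ[k] y) := by
  obtain ⟨N, hN⟩ := hu
  refine ⟨N, fun t ht => ?_⟩
  apply act_eq_zero_of_mem_map_incL (irr 𝒜 ^ N) u hN y
  rw [Ideal.map_pow]
  have h1 : ψ.toRingHom t ∈ Ideal.map ψ.toRingHom (irr 𝒯 ^ N) := Ideal.mem_map_of_mem _ ht
  rw [Ideal.map_pow] at h1
  exact Ideal.pow_right_mono (Groth.Agent.Lib.helper26.Seg.map_irr_le 𝒜 ℬ 𝒯 ψ hT.2) N h1

include hT in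
theorem isTors_tmul_right (x : X) {v : Y} (hv : v ∈ gam (irr ℬ) Y) :
    IsTors 𝒯 ψ (x ⊗ₜ[k] v) := by
  obtain ⟨N, hN⟩ := hv
  refine ⟨N, fun t ht => ?_⟩
  apply act_eq_zero_of_mem_map_incR (irr ℬ ^ N) x v hN
  rw [Ideal.map_pow]
  have h1 : ψ.toRingHom t ∈ Ideal.map ψ.toRingHom (irr 𝒯 ^ N) := Ideal.mem_map_of_mem _ ht
  rw [Ideal.map_pow] at h1
  have hle : Ideal.map ψ.toRingHom (irr 𝒯) ≤
      Ideal.map (Algebra.TensorProduct.includeRight : S →ₐ[k] R ⊗[k] S).toRingHom (irr ℬ) := by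
    rw [Ideal.map_le_iff_le_comap]
    intro g hg
    exact psi_mem_map_incR 𝒜 ℬ 𝒯 ψ hT hg
  exact Ideal.pow_right_mono hle N h1

omit [IsNoetherianRing R] [IsNoetherianRing S] in
/-- induction principle for the kernel of `X ⊗ Y → (X/P) ⊗ (Y/P')` -/
theorem ker_tmap_mkQ_induction (P : Submodule R X) (P' : Submodule S Y)
    (Q : X ⊗[k] Y → Prop) (h0 : Q 0) (hadd : ∀ w w', Q w → Q w' → Q (w + w'))
    (hl : ∀ u ∈ P, ∀ y : Y, Q (u ⊗ₜ[k] y)) (hr : ∀ (x : X), ∀ v ∈ P', Q (x ⊗ₜ[k] v))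
    (w : X ⊗[k] Y) (hw : tmap k P.mkQ P'.mkQ w = 0) : Q w := by
  have hker : w ∈ LinearMap.ker (TensorProduct.map
      (P.mkQ.restrictScalars k) (P'.mkQ.restrictScalars k)) := hw
  rw [TensorProduct.map_ker
    (f := (P.subtype.restrictScalars k)) (g := (P.mkQ.restrictScalars k))
    (f' := (P'.subtype.restrictScalars k)) (g' := (P'.mkQ.restrictScalars k))
    (LinearMap.exact_subtype_mkQ _) (Submodule.mkQ_surjective _)
    (LinearMap.exact_subtype_mkQ _) (Submodule.mkQ_surjective _)] at hker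
  have key1 : ∀ z : X ⊗[k] P', Q (LinearMap.lTensor X (P'.subtype.restrictScalars k) z) := by
    intro z
    induction z using TensorProduct.induction_on with
    | zero => rw [map_zero]; exact h0
    | tmul x v => exact hr x v.1 v.2
    | add z z' h h' => rw [map_add]; exact hadd _ _ h h'
  have key2 : ∀ z : P ⊗[k] Y, Q (LinearMap.rTensor Y (P.subtype.restrictScalars k) z) := by
    intro z
    induction z using TensorProduct.induction_on with
    | zero => rw [map_zero]; exact h0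
    | tmul u y => exact hl u.1 u.2 y
    | add z z' h h' => rw [map_add]; exact hadd _ _ h h'
  obtain ⟨w₁, hw₁, w₂, hw₂, rfl⟩ := Submodule.mem_sup.1 hker
  obtain ⟨z₁, rfl⟩ := hw₁
  obtain ⟨z₂, rfl⟩ := hw₂
  exact hadd _ _ (key1 z₁) (key2 z₂)

include hT in
/-- **the `T₊`-torsion of `X ⊗ Y`** is the kernel of `X ⊗ Y → (X/Γ_{R₊}X) ⊗ (Y/Γ_{S₊}Y)` -/
theorem torsion_iff (w : X ⊗[k] Y) :
    IsTors 𝒯 ψ w ↔ tmap k (gam (irr 𝒜) X).mkQ (gam (irr ℬ) Y).mkQ w = 0 := by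
  constructor
  · rintro ⟨N, hN⟩
    apply eq_zero_of_torsion_of_torsionFree 𝒜 ℬ 𝒯 ψ hT
      (Groth.Agent.Lib.helper19.GrFin.gam_quot_gam (irr 𝒜) X)
      (Groth.Agent.Lib.helper19.GrFin.gam_quot_gam (irr ℬ) Y) _ N
    intro t ht
    rw [← tmap_act, hN t ht, map_zero]
  · intro hw
    exact ker_tmap_mkQ_induction (gam (irr 𝒜) X) (gam (irr ℬ) Y) (IsTors 𝒯 ψ) (isTors_zero 𝒯 ψ)
      (fun _ _ h h' => isTors_add 𝒯 ψ h h')
      (fun u hu y => isTors_tmul_left 𝒜 ℬ 𝒯 ψ hT hu y)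
      (fun x v hv => isTors_tmul_right 𝒜 ℬ 𝒯 ψ hT x hv) w hw

end TorsionFree

end Groth.Agent.Lib.helper26.Kun
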