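import Mathlib
import Groth.Prelude.Def_GrLC
import Groth.Agent.Lib.Helper19.GrMod
import Groth.Agent.Lib.Helper19.LCFactor
import Groth.Agent.Lib.Helper26.Acyc2

/-!
# Finite products of graded modules (helper26)

* `piGMod X` : the product of a finite family of graded modules, graded componentwise;
* `H_subsingleton_of_sum` / `pi_isAcyc` : local cohomology vanishes on finite products of acyclic
  modules;
* `mem_gam_pi_iff` : torsion in a finite product is componentwise.
-/

set_option autoImplicit false
set_option linter.unusedSectionVars false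
universe u

namespace Groth.Agent.Lib.helper26.Kun

open GrLC DirectSum CategoryTheory

section PiGMod

variable {ι : Type} [AddCommGroup ι] [DecidableEq ι] {R : Type u} [CommRing R]
  {𝒜 : ι → AddSubgroup R} [GradedRing 𝒜] {J : Type} [Fintype J] [DecidableEq J]
  (X : J → GMod.{u} 𝒜)

/-- the pieces of a product of graded modules -/
def piGr (g : ι) : AddSubgroup (∀ j, (X j).carrier) where
  carrier := {x | ∀ j, x j ∈ (X j).gr g}
  zero_mem' := fun j => zero_mem _
  add_mem' := fun {x y} hx hy j => add_mem (hx j) (hy j)
  neg_mem' := fun {x} hx j => neg_mem (hx j)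

theorem mem_piGr {g : ι} {x : ∀ j, (X j).carrier} : x ∈ piGr X g ↔ ∀ j, x j ∈ (X j).gr g :=
  Iff.rfl

instance pi_gradedSMul : SetLike.GradedSMul 𝒜 (piGr X) where
  smul_mem := by
    intro i g r x hr hx j
    exact SetLike.GradedSMul.smul_mem hr (hx j)

/-- evaluation on pieces -/
def evPiece (j : J) (g : ι) : piGr X g →+ (X j).gr g where
  toFun x := ⟨x.1 j, x.2 j⟩
  map_zero' := rfl
  map_add' _ _ := rfl

theorem coe_map_evPiece (j : J) (s : ⨁ g, piGr X g) :
    DirectSum.coeAddMonoidHom (X j).gr (DirectSum.map (evPiece X j) s) =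
      (DirectSum.coeAddMonoidHom (piGr X) s) j := by
  induction s using DirectSum.induction_on with
  | zero => simp
  | of g y =>
    rw [DirectSum.map_of, DirectSum.coeAddMonoidHom_of, DirectSum.coeAddMonoidHom_of]
    rfl
  | add s s' h h' =>
    rw [map_add, map_add, map_add, h, h']
    rfl

theorem single_mem_piGr {j : J} {g : ι} {y : (X j).carrier} (hy : y ∈ (X j).gr g) :
    (Pi.single j y : ∀ j, (X j).carrier) ∈ piGr X g := by
  intro j'
  by_cases h : j' = j
  · subst h
    rw [Pi.single_eq_same]
    exact hy
  · rw [Pi.single_eq_of_ne h]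
    exact zero_mem _

theorem pi_isInternal : DirectSum.IsInternal (piGr X) := by
  constructor
  · rw [injective_iff_map_eq_zero]
    intro s hs
    apply DFinsupp.ext
    intro g
    apply Subtype.ext
    funext j
    have h1 := coe_map_evPiece X j s
    rw [hs] at h1
    have h2 : DirectSum.map (evPiece X j) s = 0 := by
      apply (DirectSum.Decomposition.isInternal (X j).gr).injective
      rw [h1, map_zero]
      rfl
    have h3 : (DirectSum.map (evPiece X j) s) g = 0 := by rw [h2]; rfl
    rw [DirectSum.map_apply] at h3
    exact congrArg Subtype.val h3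
  · intro x
    have hx : x = ∑ j, Pi.single j (x j) := (Finset.univ_sum_single x).symm
    rw [hx]
    have hr : ∀ j (y : (X j).carrier), (Pi.single j y : ∀ j, (X j).carrier) ∈
        (DirectSum.coeAddMonoidHom (piGr X)).range := by
      intro j y
      induction y using DirectSum.Decomposition.inductionOn (X j).gr with
      | zero =>
        rw [Pi.single_zero]
        exact zero_mem _
      | homogeneous m =>
        rename_i g
        exact ⟨DirectSum.of (fun g => piGr X g) g ⟨Pi.single j m.1, single_mem_piGr X m.2⟩,
          DirectSum.coeAddMonoidHom_of _ _ _⟩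
      | add m m' h h' =>
        rw [Pi.single_add]
        exact add_mem h h'
    exact AddSubgroup.sum_mem _ (fun j _ => hr j (x j))

@[instance_reducible]
noncomputable def piDecomposition : DirectSum.Decomposition (piGr X) :=
  (pi_isInternal X).chooseDecomposition

/-- the product of a finite family of graded modules -/
noncomputable def piGMod : GMod.{u} 𝒜 :=
  letI := piDecomposition X
  { carrier := ∀ j, (X j).carrier, gr := piGr X }

end PiGMod

section Sum

variable {A : Type u} [CommRing A] (I : Ideal A) (i : ℕ)

/-- local cohomology vanishes on a module whose identity is a finite sum of maps factoring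
through modules with vanishing local cohomology -/
theorem H_subsingleton_of_sum {J : Type} [Fintype J] {M : Type u} [AddCommGroup M] [Module A M]
    (N : J → Type u) [∀ j, AddCommGroup (N j)] [∀ j, Module A (N j)]
    (ψ : ∀ j, M →ₗ[A] N j) (φ : ∀ j, N j →ₗ[A] M)
    (h : ∑ j, φ j ∘ₗ ψ j = LinearMap.id) (hN : ∀ j, Subsingleton (LocCoh.H I i (N j))) :
    Subsingleton (LocCoh.H I i M) := by
  have hid : 𝟙 (ModuleCat.of A M) = ∑ j : J,
      (ModuleCat.ofHom (ψ j) ≫ ModuleCat.ofHom (φ j)) := by
    apply ModuleCat.hom_ext
    rw [ModuleCat.hom_sum]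
    simp only [ModuleCat.hom_comp, ModuleCat.hom_ofHom, ModuleCat.hom_id]
    exact h.symm
  have hz : ∀ x : LocCoh.H I i M, x = 0 := by
    intro x
    have h1 : ((localCohomology I i).map (𝟙 (ModuleCat.of A M))).hom x = x := by
      rw [CategoryTheory.Functor.map_id]; rfl
    rw [← h1, hid, Groth.Agent.Lib.helper19.LCFactor.H_map_sum]
    apply Finset.sum_eq_zero
    intro j _
    rw [Functor.map_comp, ModuleCat.hom_comp, LinearMap.comp_apply,
      (hN j).elim (((localCohomology I i).map (ModuleCat.ofHom (ψ j))).hom x) 0, map_zero]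
  exact ⟨fun x y => by rw [hz x, hz y]⟩

/-- local cohomology vanishes on finite products of acyclic modules -/
theorem H_pi_subsingleton' {J : Type} [Fintype J] [DecidableEq J]
    (N : J → Type u) [∀ j, AddCommGroup (N j)] [∀ j, Module A (N j)]
    (hN : ∀ j, Subsingleton (LocCoh.H I i (N j))) :
    Subsingleton (LocCoh.H I i (∀ j, N j)) := by
  refine H_subsingleton_of_sum I i N (fun j => LinearMap.proj j) (fun j => LinearMap.single A N j)
    ?_ hN
  apply LinearMap.ext
  intro x
  rw [LinearMap.sum_apply]
  simp only [LinearMap.comp_apply, LinearMap.proj_apply, LinearMap.single_apply,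
    LinearMap.id_apply]
  exact Finset.univ_sum_single x

end Sum

section Gam

variable {A : Type u} [CommRing A] (I : Ideal A) {J : Type} [Fintype J]
  (N : J → Type u) [∀ j, AddCommGroup (N j)] [∀ j, Module A (N j)]

/-- torsion in a finite product is componentwise -/
theorem mem_gam_pi_iff (x : ∀ j, N j) : x ∈ gam I (∀ j, N j) ↔ ∀ j, x j ∈ gam I (N j) := by
  constructor
  · rintro ⟨n, hn⟩ j
    exact ⟨n, fun r hr => congrFun (hn r hr) j⟩
  · intro h
    choose n hn using h
    refine ⟨Finset.univ.sup n, fun r hr => ?_⟩
    funext j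
    exact hn j r (Ideal.pow_le_pow_right (Finset.le_sup (Finset.mem_univ j)) hr)

end Gam

section Acyc

variable {ι : Type} [AddCommGroup ι] [DecidableEq ι] [Module.Free ℤ ι] [Module.Finite ℤ ι]
  {R : Type u} [CommRing R] [IsNoetherianRing R]
  {𝒜 : ι → AddSubgroup R} [GradedRing 𝒜] {J : Type} [Fintype J] [DecidableEq J]
  (X : J → GMod.{u} 𝒜)

theorem pi_isAcyc (a : HomogeneousIdeal 𝒜) (hX : ∀ j, Acyc.IsAcyc a (X j)) :
    Acyc.IsAcyc a (piGMod X) := by
  intro i hi
  exact H_pi_subsingleton' a.toIdeal i (fun j => (X j).carrier) (fun j => hX j i hi)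

end Acyc

end Groth.Agent.Lib.helper26.Kun
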