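import Mathlib
import Groth.Prelude.Def_GrLC
import Groth.Prelude.Def_GrSeg
import Groth.Agent.Lib.Helper26.GrCM3
import Groth.Agent.Lib.Helper26.Kun1
import Groth.Agent.Lib.Helper26.Kun2
import Groth.Agent.Lib.Helper26.Kun7
import Groth.Agent.Lib.Helper26.KunC
import Groth.Agent.Lib.Helper26.KunD
import Groth.Agent.Lib.Helper26.KunE
import Groth.Agent.Lib.Helper26.KunF
import Groth.Agent.Lib.Helper26.KunG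
import Groth.Agent.Lib.Helper26.KunH

/-!
# The total complex of the Segre products of two complexes of graded modules (helper26)
-/

set_option autoImplicit false
set_option linter.unusedSectionVars false
set_option linter.dupNamespace false
universe u
open scoped TensorProduct

namespace Groth.Agent.Lib.helper26.Kun

open GrLC Groth.Agent.Lib.helper19.GrConv Groth.Agent.Lib.helper19.GrMod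
  Groth.Agent.Lib.helper26.Seg Groth.Agent.Lib.helper26.GrCM

section TotDef

variable {k : Type u} [Field k] {R : Type u} [CommRing R] [Algebra k R]
  (𝒜 : ℤ → Submodule k R) [GradedAlgebra 𝒜]
  {S : Type u} [CommRing S] [Algebra k S] (ℬ : ℤ → Submodule k S) [GradedAlgebra ℬ]
  {T : Type u} [CommRing T] [Algebra k T] (𝒯 : ℤ → Submodule k T) [GradedAlgebra 𝒯]
  (ψ : T →ₐ[k] R ⊗[k] S) (hT : GrSeg.IsSegreRing 𝒜 ℬ 𝒯 ψ)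
  {I : ℕ → Type u} [∀ p, AddCommGroup (I p)] [∀ p, Module R (I p)] [∀ p, Module k (I p)]
  [∀ p, IsScalarTower k R (I p)]
  (ℐ : ∀ p, ℤ → AddSubgroup (I p)) [∀ p, DirectSum.Decomposition (ℐ p)]
  [∀ p, SetLike.GradedSMul 𝒜 (ℐ p)]
  (dI : ∀ p, I p →ₗ[R] I (p + 1)) (hdI : ∀ p, IsGrHom (ℐ p) (ℐ (p + 1)) (dI p))
  {J : ℕ → Type u} [∀ q, AddCommGroup (J q)] [∀ q, Module S (J q)] [∀ q, Module k (J q)]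
  [∀ q, IsScalarTower k S (J q)]
  (𝒥 : ∀ q, ℤ → AddSubgroup (J q)) [∀ q, DirectSum.Decomposition (𝒥 q)]
  [∀ q, SetLike.GradedSMul ℬ (𝒥 q)]
  (dJ : ∀ q, J q →ₗ[S] J (q + 1)) (hdJ : ∀ q, IsGrHom (𝒥 q) (𝒥 (q + 1)) (dJ q))

/-- the bigraded family of Segre products -/
abbrev segV (p q : ℕ) : Type u := ↥(segSub 𝒜 ℬ 𝒯 ψ hT (ℐ p) (𝒥 q))

/-- horizontal differential -/
noncomputable def sdh (p q : ℕ) :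
    segV 𝒜 ℬ 𝒯 ψ hT ℐ 𝒥 p q →ₗ[T] segV 𝒜 ℬ 𝒯 ψ hT ℐ 𝒥 (p + 1) q :=
  segMap 𝒜 ℬ 𝒯 ψ hT (ℐ p) (𝒥 q) (ℐ (p + 1)) (𝒥 q) (dI p) (hdI p) LinearMap.id (fun _ _ h => h)

/-- vertical differential -/
noncomputable def sdv (p q : ℕ) :
    segV 𝒜 ℬ 𝒯 ψ hT ℐ 𝒥 p q →ₗ[T] segV 𝒜 ℬ 𝒯 ψ hT ℐ 𝒥 p (q + 1) :=
  segMap 𝒜 ℬ 𝒯 ψ hT (ℐ p) (𝒥 q) (ℐ p) (𝒥 (q + 1)) LinearMap.id (fun _ _ h => h) (dJ q) (hdJ q)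

theorem segVal_sdh (p q : ℕ) (z : segV 𝒜 ℬ 𝒯 ψ hT ℐ 𝒥 p q) :
    segVal 𝒜 ℬ 𝒯 ψ hT (ℐ (p + 1)) (𝒥 q) (sdh 𝒜 ℬ 𝒯 ψ hT ℐ dI hdI 𝒥 p q z) =
      tmap k (dI p) (LinearMap.id : J q →ₗ[S] J q) (segVal 𝒜 ℬ 𝒯 ψ hT (ℐ p) (𝒥 q) z) := rfl

theorem segVal_sdv (p q : ℕ) (z : segV 𝒜 ℬ 𝒯 ψ hT ℐ 𝒥 p q) :
    segVal 𝒜 ℬ 𝒯 ψ hT (ℐ p) (𝒥 (q + 1)) (sdv 𝒜 ℬ 𝒯 ψ hT ℐ 𝒥 dJ hdJ p q z) =
      tmap k (LinearMap.id : I p →ₗ[R] I p) (dJ q) (segVal 𝒜 ℬ 𝒯 ψ hT (ℐ p) (𝒥 q) z) := rfl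

theorem sdh_sdh (hI2 : ∀ p x, dI (p + 1) (dI p x) = 0) (p q : ℕ)
    (z : segV 𝒜 ℬ 𝒯 ψ hT ℐ 𝒥 p q) :
    sdh 𝒜 ℬ 𝒯 ψ hT ℐ dI hdI 𝒥 (p + 1) q (sdh 𝒜 ℬ 𝒯 ψ hT ℐ dI hdI 𝒥 p q z) = 0 := by
  apply segVal_injective
  rw [segVal_sdh, segVal_sdh, map_zero]
  unfold tmap
  rw [TensorProduct.map_map]
  have h : (dI (p + 1)).restrictScalars k ∘ₗ (dI p).restrictScalars k = 0 :=
    LinearMap.ext fun x => hI2 p x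
  rw [h, tmap_zero_left]

theorem sdv_sdv (hJ2 : ∀ q x, dJ (q + 1) (dJ q x) = 0) (p q : ℕ)
    (z : segV 𝒜 ℬ 𝒯 ψ hT ℐ 𝒥 p q) :
    sdv 𝒜 ℬ 𝒯 ψ hT ℐ 𝒥 dJ hdJ p (q + 1) (sdv 𝒜 ℬ 𝒯 ψ hT ℐ 𝒥 dJ hdJ p q z) = 0 := by
  apply segVal_injective
  rw [segVal_sdv, segVal_sdv, map_zero]
  unfold tmap
  rw [TensorProduct.map_map]
  have h : (dJ (q + 1)).restrictScalars k ∘ₗ (dJ q).restrictScalars k = 0 :=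
    LinearMap.ext fun x => hJ2 q x
  rw [h, tmap_zero_right]

theorem sdv_sdh (p q : ℕ) (z : segV 𝒜 ℬ 𝒯 ψ hT ℐ 𝒥 p q) :
    sdv 𝒜 ℬ 𝒯 ψ hT ℐ 𝒥 dJ hdJ (p + 1) q (sdh 𝒜 ℬ 𝒯 ψ hT ℐ dI hdI 𝒥 p q z) =
      sdh 𝒜 ℬ 𝒯 ψ hT ℐ dI hdI 𝒥 p (q + 1) (sdv 𝒜 ℬ 𝒯 ψ hT ℐ 𝒥 dJ hdJ p q z) := by
  apply segVal_injective
  rw [segVal_sdv, segVal_sdh, segVal_sdh, segVal_sdv]
  unfold tmap
  rw [TensorProduct.map_map, TensorProduct.map_map]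
  rfl

/-- the terms of the total complex, as graded modules -/
noncomputable def totX (n : ℕ) : GMod.{u} (addGr 𝒯) :=
  piGMod (fun pq : AD n => segGMod 𝒜 ℬ 𝒯 ψ hT (ℐ pq.1.1) (𝒥 pq.1.2))

/-- the differential of the total complex -/
noncomputable def totd (n : ℕ) :
    (totX 𝒜 ℬ 𝒯 ψ hT ℐ 𝒥 n).carrier →ₗ[T] (totX 𝒜 ℬ 𝒯 ψ hT ℐ 𝒥 (n + 1)).carrier :=
  totD (sdh 𝒜 ℬ 𝒯 ψ hT ℐ dI hdI 𝒥) (sdv 𝒜 ℬ 𝒯 ψ hT ℐ 𝒥 dJ hdJ) n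

theorem sg_mem {M : Type*} [AddCommGroup M] (P : AddSubgroup M) (p : ℕ) {y : M} (hy : y ∈ P) :
    sg p y ∈ P := P.zsmul_mem hy _

theorem mem_totX_gr {n : ℕ} {d : ℤ} {x : (totX 𝒜 ℬ 𝒯 ψ hT ℐ 𝒥 n).carrier} :
    x ∈ (totX 𝒜 ℬ 𝒯 ψ hT ℐ 𝒥 n).gr d ↔
      ∀ pq : AD n, x pq ∈ segGr 𝒜 ℬ 𝒯 ψ hT (ℐ pq.1.1) (𝒥 pq.1.2) d := Iff.rfl

theorem totD_mem_segGr (n : ℕ) (d : ℤ) (x : Tot (segV 𝒜 ℬ 𝒯 ψ hT ℐ 𝒥) n)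
    (hx : ∀ pq : AD n, x pq ∈ segGr 𝒜 ℬ 𝒯 ψ hT (ℐ pq.1.1) (𝒥 pq.1.2) d) (pq : AD (n + 1)) :
    totD (sdh 𝒜 ℬ 𝒯 ψ hT ℐ dI hdI 𝒥) (sdv 𝒜 ℬ 𝒯 ψ hT ℐ 𝒥 dJ hdJ) n x pq ∈
      segGr 𝒜 ℬ 𝒯 ψ hT (ℐ pq.1.1) (𝒥 pq.1.2) d := by
  obtain ⟨⟨p, q⟩, h⟩ := pq
  cases p with
  | zero =>
    cases q with
    | zero => exact absurd h (by simp)
    | succ q =>
      rw [totD_apply_zero_succ]
      exact segMap_isGrHom 𝒜 ℬ 𝒯 ψ hT _ _ _ _ _ _ _ _ d _ (hx ⟨(0, q), by simp at h; omega⟩)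
  | succ p =>
    cases q with
    | zero =>
      rw [totD_apply_succ_zero]
      exact segMap_isGrHom 𝒜 ℬ 𝒯 ψ hT _ _ _ _ _ _ _ _ d _ (hx ⟨(p, 0), by simp at h; omega⟩)
    | succ q =>
      rw [totD_apply_succ_succ]
      refine add_mem ?_ (sg_mem _ _ ?_)
      · exact segMap_isGrHom 𝒜 ℬ 𝒯 ψ hT _ _ _ _ _ _ _ _ d _
          (hx ⟨(p, q + 1), by simp at h; omega⟩)
      · exact segMap_isGrHom 𝒜 ℬ 𝒯 ψ hT _ _ _ _ _ _ _ _ d _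
          (hx ⟨(p + 1, q), by simp at h; omega⟩)

theorem totd_isGrHom (n : ℕ) :
    IsGrHom (totX 𝒜 ℬ 𝒯 ψ hT ℐ 𝒥 n).gr (totX 𝒜 ℬ 𝒯 ψ hT ℐ 𝒥 (n + 1)).gr
      (totd 𝒜 ℬ 𝒯 ψ hT ℐ dI hdI 𝒥 dJ hdJ n) :=
  fun d x hx => totD_mem_segGr 𝒜 ℬ 𝒯 ψ hT ℐ dI hdI 𝒥 dJ hdJ n d x hx

end TotDef

section Bridge

variable {k : Type u} [Field k] {R : Type u} [CommRing R] [Algebra k R]
  (𝒜 : ℤ → Submodule k R) [GradedAlgebra 𝒜]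
  {S : Type u} [CommRing S] [Algebra k S] (ℬ : ℤ → Submodule k S) [GradedAlgebra ℬ]
  {T : Type u} [CommRing T] [Algebra k T] (𝒯 : ℤ → Submodule k T) [GradedAlgebra 𝒯]
  (ψ : T →ₐ[k] R ⊗[k] S) (hT : GrSeg.IsSegreRing 𝒜 ℬ 𝒯 ψ)
  {I : ℕ → Type u} [∀ p, AddCommGroup (I p)] [∀ p, Module R (I p)] [∀ p, Module k (I p)]
  [∀ p, IsScalarTower k R (I p)]
  (ℐ : ∀ p, ℤ → AddSubgroup (I p)) [∀ p, DirectSum.Decomposition (ℐ p)]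
  [∀ p, SetLike.GradedSMul 𝒜 (ℐ p)]
  (dI : ∀ p, I p →ₗ[R] I (p + 1)) (hdI : ∀ p, IsGrHom (ℐ p) (ℐ (p + 1)) (dI p))
  {J : ℕ → Type u} [∀ q, AddCommGroup (J q)] [∀ q, Module S (J q)] [∀ q, Module k (J q)]
  [∀ q, IsScalarTower k S (J q)]
  (𝒥 : ∀ q, ℤ → AddSubgroup (J q)) [∀ q, DirectSum.Decomposition (𝒥 q)]
  [∀ q, SetLike.GradedSMul ℬ (𝒥 q)]
  (dJ : ∀ q, J q →ₗ[S] J (q + 1)) (hdJ : ∀ q, IsGrHom (𝒥 q) (𝒥 (q + 1)) (dJ q))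
  (d : ℤ)

/-- the degree `d` piece of the `p`-th term, as a `k`-vector space -/
abbrev pcI (p : ℕ) : Type u := ↥(pieceK 𝒜 (ℐ p) d)

/-- the degree `d` part of the differential -/
noncomputable def dpI (p : ℕ) : pcI 𝒜 ℐ d p →ₗ[k] pcI 𝒜 ℐ d (p + 1) :=
  ((dI p).restrictScalars k).restrict (fun x hx => hdI p d x hx)

@[simp] theorem coe_dpI (p : ℕ) (c : pcI 𝒜 ℐ d p) :
    ((dpI 𝒜 ℐ dI hdI d p c : pcI 𝒜 ℐ d (p + 1)) : I (p + 1)) = dI p (c : I p) := rfl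

theorem dpI_dpI (hI2 : ∀ p x, dI (p + 1) (dI p x) = 0) (p : ℕ) (c : pcI 𝒜 ℐ d p) :
    dpI 𝒜 ℐ dI hdI d (p + 1) (dpI 𝒜 ℐ dI hdI d p c) = 0 :=
  Subtype.ext (hI2 p c.1)

/-- the torsion part of the degree `d` piece -/
def tsI (p : ℕ) : Submodule k (pcI 𝒜 ℐ d p) :=
  ((gam (irr 𝒜) (I p)).restrictScalars k).comap (pieceK 𝒜 (ℐ p) d).subtype

theorem mem_tsI {p : ℕ} {c : pcI 𝒜 ℐ d p} :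
    c ∈ tsI 𝒜 ℐ d p ↔ (c : I p) ∈ gam (irr 𝒜) (I p) := Iff.rfl

theorem tsI_le (p : ℕ) :
    tsI 𝒜 ℐ d p ≤ (tsI 𝒜 ℐ d (p + 1)).comap (dpI 𝒜 ℐ dI hdI d p) := by
  intro c hc
  exact Groth.Agent.Lib.helper19.GrLes.gam_map (irr 𝒜) (dI p) hc

/-- the inclusion of `(I^p)_d ⊗ (J^q)_d` in `I^p ⊗ J^q` -/
noncomputable def thv (p q : ℕ) : pcI 𝒜 ℐ d p ⊗[k] pcI ℬ 𝒥 d q →ₗ[k] I p ⊗[k] J q :=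
  TensorProduct.map (pieceK 𝒜 (ℐ p) d).subtype (pieceK ℬ (𝒥 q) d).subtype

theorem thv_injective (p q : ℕ) : Function.Injective (thv 𝒜 ℬ ℐ 𝒥 d p q) :=
  TensorProduct.map_injective_of_flat_flat _ _ (Submodule.subtype_injective _)
    (Submodule.subtype_injective _)

theorem thv_mem (p q : ℕ) (w : pcI 𝒜 ℐ d p ⊗[k] pcI ℬ 𝒥 d q) :
    thv 𝒜 ℬ ℐ 𝒥 d p q w ∈ GrSeg.segrePiece k (ℐ p) (𝒥 q) d := by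
  induction w using TensorProduct.induction_on with
  | zero => rw [map_zero]; exact zero_mem _
  | tmul x y => exact Submodule.subset_span ⟨x.1, x.2, y.1, y.2, rfl⟩
  | add w w' h h' => rw [map_add]; exact add_mem h h'

theorem exists_thv (p q : ℕ) {z : I p ⊗[k] J q} (hz : z ∈ GrSeg.segrePiece k (ℐ p) (𝒥 q) d) :
    ∃ w, thv 𝒜 ℬ ℐ 𝒥 d p q w = z := by
  unfold GrSeg.segrePiece at hz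
  induction hz using Submodule.span_induction with
  | mem z hz =>
    obtain ⟨x, hx, y, hy, rfl⟩ := hz
    exact ⟨(⟨x, hx⟩ : pcI 𝒜 ℐ d p) ⊗ₜ[k] (⟨y, hy⟩ : pcI ℬ 𝒥 d q), rfl⟩
  | zero => exact ⟨0, map_zero _⟩
  | add z z' _ _ h h' =>
    obtain ⟨w, rfl⟩ := h
    obtain ⟨w', rfl⟩ := h'
    exact ⟨w + w', map_add _ _ _⟩
  | smul c z _ h =>
    obtain ⟨w, rfl⟩ := h
    exact ⟨c • w, map_smul _ _ _⟩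

/-- the bridge `(I^p)_d ⊗ (J^q)_d → I^p # J^q` -/
noncomputable def th (p q : ℕ) :
    pcI 𝒜 ℐ d p ⊗[k] pcI ℬ 𝒥 d q →+ segV 𝒜 ℬ 𝒯 ψ hT ℐ 𝒥 p q where
  toFun w := segMk 𝒜 ℬ 𝒯 ψ hT (ℐ p) (𝒥 q) (thv 𝒜 ℬ ℐ 𝒥 d p q w)
    (segrePiece_le_segK _ _ d (thv_mem 𝒜 ℬ ℐ 𝒥 d p q w))
  map_zero' := by
    apply segVal_injective
    rw [segVal_segMk, map_zero, map_zero]
  map_add' w w' := by
    apply segVal_injective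
    rw [segVal_segMk, map_add, map_add, segVal_segMk, segVal_segMk]

@[simp] theorem segVal_th (p q : ℕ) (w : pcI 𝒜 ℐ d p ⊗[k] pcI ℬ 𝒥 d q) :
    segVal 𝒜 ℬ 𝒯 ψ hT (ℐ p) (𝒥 q) (th 𝒜 ℬ 𝒯 ψ hT ℐ 𝒥 d p q w) = thv 𝒜 ℬ ℐ 𝒥 d p q w := rfl

theorem th_injective (p q : ℕ) : Function.Injective (th 𝒜 ℬ 𝒯 ψ hT ℐ 𝒥 d p q) := by
  intro w w' h
  apply thv_injective 𝒜 ℬ ℐ 𝒥 d p q
  rw [← segVal_th 𝒜 ℬ 𝒯 ψ hT, ← segVal_th 𝒜 ℬ 𝒯 ψ hT, h]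

theorem th_mem_segGr (p q : ℕ) (w : pcI 𝒜 ℐ d p ⊗[k] pcI ℬ 𝒥 d q) :
    th 𝒜 ℬ 𝒯 ψ hT ℐ 𝒥 d p q w ∈ segGr 𝒜 ℬ 𝒯 ψ hT (ℐ p) (𝒥 q) d :=
  thv_mem 𝒜 ℬ ℐ 𝒥 d p q w

theorem exists_th (p q : ℕ) {z : segV 𝒜 ℬ 𝒯 ψ hT ℐ 𝒥 p q}
    (hz : z ∈ segGr 𝒜 ℬ 𝒯 ψ hT (ℐ p) (𝒥 q) d) : ∃ w, th 𝒜 ℬ 𝒯 ψ hT ℐ 𝒥 d p q w = z := by
  obtain ⟨w, hw⟩ := exists_thv 𝒜 ℬ ℐ 𝒥 d p q hz
  refine ⟨w, ?_⟩
  apply segVal_injective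
  rw [segVal_th, hw]
  rfl

theorem sdh_th (p q : ℕ) (w : pcI 𝒜 ℐ d p ⊗[k] pcI ℬ 𝒥 d q) :
    sdh 𝒜 ℬ 𝒯 ψ hT ℐ dI hdI 𝒥 p q (th 𝒜 ℬ 𝒯 ψ hT ℐ 𝒥 d p q w) =
      th 𝒜 ℬ 𝒯 ψ hT ℐ 𝒥 d (p + 1) q (tdh (dpI 𝒜 ℐ dI hdI d) p q w) := by
  apply segVal_injective
  rw [segVal_sdh, segVal_th, segVal_th]
  unfold tmap thv tdh
  rw [TensorProduct.map_map, TensorProduct.map_map]
  rfl

theorem sdv_th (p q : ℕ) (w : pcI 𝒜 ℐ d p ⊗[k] pcI ℬ 𝒥 d q) :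
    sdv 𝒜 ℬ 𝒯 ψ hT ℐ 𝒥 dJ hdJ p q (th 𝒜 ℬ 𝒯 ψ hT ℐ 𝒥 d p q w) =
      th 𝒜 ℬ 𝒯 ψ hT ℐ 𝒥 d p (q + 1) (tdv (dpI ℬ 𝒥 dJ hdJ d) p q w) := by
  apply segVal_injective
  rw [segVal_sdv, segVal_th, segVal_th]
  unfold tmap thv tdv
  rw [TensorProduct.map_map, TensorProduct.map_map]
  rfl

theorem th_ksmul (p q : ℕ) (c : k) (w : pcI 𝒜 ℐ d p ⊗[k] pcI ℬ 𝒥 d q) :
    th 𝒜 ℬ 𝒯 ψ hT ℐ 𝒥 d p q (c • w) = algebraMap k T c • th 𝒜 ℬ 𝒯 ψ hT ℐ 𝒥 d p q w := by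
  apply segVal_injective
  rw [segVal_smul, segVal_th, segVal_th, map_smul, AlgHom.commutes,
    Algebra.algebraMap_eq_smul_one, map_smul, LinearMap.smul_apply, act_one]

/-- the inclusion `(I^p)_d / torsion → I^p / Γ(I^p)` -/
noncomputable def qI (p : ℕ) :
    (pcI 𝒜 ℐ d p ⧸ tsI 𝒜 ℐ d p) →ₗ[k] (I p ⧸ gam (irr 𝒜) (I p)) :=
  (tsI 𝒜 ℐ d p).liftQ
    (((gam (irr 𝒜) (I p)).mkQ.restrictScalars k) ∘ₗ (pieceK 𝒜 (ℐ p) d).subtype) (by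
      intro c hc
      rw [LinearMap.mem_ker]
      show (gam (irr 𝒜) (I p)).mkQ (c : I p) = 0
      rw [Submodule.mkQ_apply, Submodule.Quotient.mk_eq_zero]
      exact hc)

theorem qI_mk (p : ℕ) (c : pcI 𝒜 ℐ d p) :
    qI 𝒜 ℐ d p ((tsI 𝒜 ℐ d p).mkQ c) = (gam (irr 𝒜) (I p)).mkQ (c : I p) := rfl

theorem qI_injective (p : ℕ) : Function.Injective (qI 𝒜 ℐ d p) := by
  rw [injective_iff_map_eq_zero]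
  intro y hy
  obtain ⟨c, rfl⟩ := Submodule.mkQ_surjective _ y
  rw [qI_mk, Submodule.mkQ_apply, Submodule.Quotient.mk_eq_zero] at hy
  rw [Submodule.mkQ_apply, Submodule.Quotient.mk_eq_zero]
  exact hy

theorem mem_gam_seg_iff (p q : ℕ) (z : segV 𝒜 ℬ 𝒯 ψ hT ℐ 𝒥 p q) :
    z ∈ gam (irr 𝒯) (segV 𝒜 ℬ 𝒯 ψ hT ℐ 𝒥 p q) ↔
      IsTors 𝒯 ψ (segVal 𝒜 ℬ 𝒯 ψ hT (ℐ p) (𝒥 q) z) := by
  constructor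
  · rintro ⟨N, hN⟩
    refine ⟨N, fun t ht => ?_⟩
    rw [← segVal_smul, hN t ht, map_zero]
  · rintro ⟨N, hN⟩
    refine ⟨N, fun t ht => ?_⟩
    apply segVal_injective
    rw [segVal_smul, hN t ht, map_zero]

theorem tmap_mkQ_thv (p q : ℕ) (w : pcI 𝒜 ℐ d p ⊗[k] pcI ℬ 𝒥 d q) :
    tmap k (gam (irr 𝒜) (I p)).mkQ (gam (irr ℬ) (J q)).mkQ (thv 𝒜 ℬ ℐ 𝒥 d p q w) =
      TensorProduct.map (qI 𝒜 ℐ d p) (qI ℬ 𝒥 d q) (tq (tsI 𝒜 ℐ d) (tsI ℬ 𝒥 d) p q w) := by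
  unfold tmap thv tq
  rw [TensorProduct.map_map, TensorProduct.map_map]
  rfl

variable [IsNoetherianRing R] [IsNoetherianRing S]

/-- torsion in the degree `d` part of `I^p # J^q` -/
theorem th_mem_gam_iff (p q : ℕ) (w : pcI 𝒜 ℐ d p ⊗[k] pcI ℬ 𝒥 d q) :
    th 𝒜 ℬ 𝒯 ψ hT ℐ 𝒥 d p q w ∈ gam (irr 𝒯) (segV 𝒜 ℬ 𝒯 ψ hT ℐ 𝒥 p q) ↔
      tq (tsI 𝒜 ℐ d) (tsI ℬ 𝒥 d) p q w = 0 := by
  rw [mem_gam_seg_iff, segVal_th, torsion_iff 𝒜 ℬ 𝒯 ψ hT, tmap_mkQ_thv]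
  constructor
  · intro h
    apply TensorProduct.map_injective_of_flat_flat _ _ (qI_injective 𝒜 ℐ d p)
      (qI_injective ℬ 𝒥 d q)
    rw [h, map_zero]
  · intro h
    rw [h, map_zero]

end Bridge

end Groth.Agent.Lib.helper26.Kun
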