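import Mathlib
import Groth.Prelude.Def_GrLC
import Groth.Agent.Lib.Helper19.GrMod
import Groth.Agent.Lib.Helper19.GrConv
import Groth.Agent.Lib.Helper26.Acyc1
import Groth.Agent.Lib.Helper26.Acyc2
import Groth.Agent.Lib.Helper26.KunA

/-!
# Homogeneous pieces of the cohomology of `Γ_a` of a graded resolution (helper26)

`mkH` : the class in `A.Hcomp a n g` of a homogeneous torsion cocycle, with surjectivity and the
description of the kernel by homogeneous torsion cochains.  `finrank_of_semilinear` transfers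
dimensions along a semilinear surjection from a subquotient.
-/

set_option autoImplicit false
set_option linter.unusedSectionVars false
universe u

namespace Groth.Agent.Lib.helper26.Kun

open GrLC Groth.Agent.Lib.helper19.GrMod Groth.Agent.Lib.helper26.Acyc

section GenericHcomp

variable {ι : Type} [AddCommGroup ι] [DecidableEq ι] {R : Type u} [CommRing R]
  {𝒜 : ι → AddSubgroup R} [GradedRing 𝒜]
  {M : Type u} [AddCommGroup M] [Module R M] {ℳ : ι → AddSubgroup M}
  [DirectSum.Decomposition ℳ] [SetLike.GradedSMul 𝒜 ℳ]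
  (A : GRes 𝒜 ℳ) (a : HomogeneousIdeal 𝒜)

/-- the class of a homogeneous torsion cocycle -/
def mkH (n : ℕ) (g : ι) (x : (A.X n).carrier) (hx : x ∈ (A.X n).gr g)
    (hg : x ∈ gam a.toIdeal (A.X n).carrier) (hd : A.d n x = 0) : ↥(A.Hcomp a n g) :=
  ⟨A.toH a n ⟨x, hg, hd⟩, ⟨⟨x, hg, hd⟩, hx, rfl⟩⟩

theorem mkH_surjective (n : ℕ) (g : ι) (y : ↥(A.Hcomp a n g)) :
    ∃ (x : (A.X n).carrier) (hx : x ∈ (A.X n).gr g)
      (hg : x ∈ gam a.toIdeal (A.X n).carrier) (hd : A.d n x = 0), mkH A a n g x hx hg hd = y := by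
  obtain ⟨y, z, hz, rfl⟩ := y
  exact ⟨z.1, hz, z.2.1, z.2.2, rfl⟩

theorem mkH_add (n : ℕ) (g : ι) (x x' : (A.X n).carrier) (hx hx' hg hg' hd hd') :
    mkH A a n g (x + x') (add_mem hx hx') (add_mem hg hg') (by rw [map_add, hd, hd', add_zero]) =
      mkH A a n g x hx hg hd + mkH A a n g x' hx' hg' hd' := by
  apply Subtype.ext
  exact map_add (A.toH a n) ⟨x, hg, hd⟩ ⟨x', hg', hd'⟩

theorem mkH_smul (n : ℕ) (g : ι) (r : deg0 𝒜) (x : (A.X n).carrier) (hx hg hd) :
    mkH A a n g ((r : R) • x)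
      (by
        have h := SetLike.GradedSMul.smul_mem (A := 𝒜) (B := (A.X n).gr)
          (show (r : R) ∈ 𝒜 0 from r.2) hx
        rw [vadd_eq_add, zero_add] at h
        exact h)
      (Submodule.smul_mem _ _ hg) (by rw [map_smul, hd, smul_zero]) =
      r • mkH A a n g x hx hg hd := by
  apply Subtype.ext
  exact map_smul (A.toH a n) (r : R) ⟨x, hg, hd⟩

theorem mkH_eq_zero_zero (g : ι) (x : (A.X 0).carrier) (hx hg hd) :
    mkH A a 0 g x hx hg hd = 0 ↔ x = 0 := by
  constructor
  · intro h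
    have h1 : A.toH a 0 ⟨x, hg, hd⟩ = 0 := congrArg Subtype.val h
    rw [GRes.toH_eq_zero_iff] at h1
    exact h1
  · intro h
    apply Subtype.ext
    show A.toH a 0 ⟨x, hg, hd⟩ = 0
    rw [GRes.toH_eq_zero_iff]
    exact h

theorem mkH_eq_zero_succ (n : ℕ) (g : ι) (x : (A.X (n + 1)).carrier) (hx hg hd) :
    mkH A a (n + 1) g x hx hg hd = 0 ↔
      ∃ u : (A.X n).carrier, u ∈ (A.X n).gr g ∧ u ∈ gam a.toIdeal (A.X n).carrier ∧
        A.d n u = x := by
  constructor
  · intro h
    have h1 : A.toH a (n + 1) ⟨x, hg, hd⟩ = 0 := congrArg Subtype.val h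
    rw [GRes.toH_eq_zero_iff] at h1
    obtain ⟨u, hu, hux⟩ := h1
    refine ⟨((DirectSum.decompose (A.X n).gr u g : (A.X n).gr g) : (A.X n).carrier),
      SetLike.coe_mem _, gam_isHomogeneous 𝒜 a (A.X n).gr g hu, ?_⟩
    rw [← grHom_decompose (A.X n).gr (A.X (n + 1)).gr (A.d n) (A.d_grHom n) u g]
    have hux' : A.d n u = x := hux
    rw [hux', DirectSum.decompose_of_mem_same _ hx]
  · rintro ⟨u, -, hu, hux⟩
    apply Subtype.ext
    show A.toH a (n + 1) ⟨x, hg, hd⟩ = 0
    rw [GRes.toH_eq_zero_iff]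
    exact ⟨u, hu, hux⟩

end GenericHcomp

section Semilinear

/-- dimensions transfer along a semilinear surjection from a subquotient -/
theorem finrank_of_semilinear {K : Type u} [Field K] {L : Type u} [Ring L] (i : K →+* L)
    (hi : Function.Bijective i) {V : Type u} [AddCommGroup V] [Module K V] (Z B : Submodule K V)
    {H : Type u} [AddCommGroup H] [Module L H] (f : ↥Z →+ H)
    (hf : ∀ (c : K) (z : ↥Z), f (c • z) = i c • f z) (hs : Function.Surjective f)
    (hk : ∀ z : ↥Z, f z = 0 ↔ (z : V) ∈ B) :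
    Module.finrank K (Hq Z B) = Module.finrank L H := by
  let _ : Module K H := Module.compHom H i
  let f' : ↥Z →ₗ[K] H :=
    { toFun := f
      map_add' := map_add f
      map_smul' := fun c z => hf c z }
  have e : Hq Z B ≃ₗ[K] H := Hq.equivOfSurjective f' hs hk
  rw [e.finrank_eq]
  have hrank := rank_eq_of_equiv_equiv i (AddEquiv.refl H) hi (fun c v => rfl)
  unfold Module.finrank
  rw [hrank]

/-- the existence of a semilinear surjection with subsingleton target kills the subquotient -/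
theorem le_of_semilinear_of_eq_bot {K : Type u} [Field K] {V : Type u} [AddCommGroup V]
    [Module K V] (Z B : Submodule K V) {H : Type u} [AddCommGroup H] (f : ↥Z →+ H)
    (hk : ∀ z : ↥Z, f z = 0 ↔ (z : V) ∈ B) (hH : ∀ y : H, y = 0) : Z ≤ B := by
  intro z hz
  exact (hk ⟨z, hz⟩).1 (hH _)

end Semilinear

end Groth.Agent.Lib.helper26.Kun
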