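import Mathlib
import Groth.Prelude.Def_GrLC
import Groth.Prelude.Def_GrSeg
import Groth.Agent.Lib.Helper19.GrMod
import Groth.Agent.Lib.Helper19.GrConv
import Groth.Agent.Lib.Helper26.Acyc1
import Groth.Agent.Lib.Helper26.Acyc2
import Groth.Agent.Lib.Helper26.KunI
import Groth.Agent.Lib.Helper26.KunJ

/-!
# The pieces of graded local cohomology as cohomology of complexes of vector spaces (helper26)

For a *injective resolution `E` of a graded module over a graded `k`-algebra `R` with `R_0 = k`, the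
piece `H^i_{R₊}(M)_d` is the `i`-th cohomology of the subcomplex `Γ_{R₊}(E^•)_d` of the complex of
`k`-vector spaces `(E^•)_d`.
-/

set_option autoImplicit false
set_option linter.unusedSectionVars false
set_option linter.dupNamespace false
universe u
open scoped TensorProduct

namespace Groth.Agent.Lib.helper26.Kun

open GrLC Groth.Agent.Lib.helper19.GrConv Groth.Agent.Lib.helper19.GrMod
  Groth.Agent.Lib.helper26.Seg Groth.Agent.Lib.helper26.GrCM Groth.Agent.Lib.helper26.Acyc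

section Conv

variable {k : Type u} [Field k] {R : Type u} [CommRing R] [Algebra k R]
  (𝒜 : ℤ → Submodule k R) [GradedAlgebra 𝒜]
  {M : Type u} [AddCommGroup M] [Module R M] (ℳ : ℤ → AddSubgroup M)
  [DirectSum.Decomposition ℳ] [SetLike.GradedSMul 𝒜 ℳ]

/-- a module graded over `𝒜` is graded over the underlying additive subgroups -/
theorem gsmulAdd : SetLike.GradedSMul (addGr 𝒜) ℳ :=
  ⟨fun {_ _ _ _} hi hj => SetLike.GradedSMul.smul_mem (A := 𝒜) (B := ℳ) hi hj⟩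

attribute [local instance] gsmulAdd

/-- a *injective resolution over `𝒜` as a graded resolution over `addGr 𝒜` -/
noncomputable def toGResA (E : StarInjRes 𝒜 ℳ) : GRes (addGr 𝒜) ℳ where
  X n := toA 𝒜 (E.X n)
  d := E.d
  ε := E.ε
  d_grHom := E.d_grHom
  ε_grHom := E.ε_grHom
  ε_injective := E.ε_injective
  exact_zero := E.exact_zero
  exact_succ := E.exact_succ

/-- a *injective resolution over `𝒜` as a *injective resolution over `addGr 𝒜` -/
noncomputable def resAddG (E : StarInjRes 𝒜 ℳ) : StarInjRes (addGr 𝒜) ℳ where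
  X n := toA 𝒜 (E.X n)
  d := E.d
  ε := E.ε
  d_grHom := E.d_grHom
  ε_grHom := E.ε_grHom
  ε_injective := E.ε_injective
  exact_zero := E.exact_zero
  exact_succ := E.exact_succ
  starInj n := isStarInj_toA 𝒜 (E.X n) (E.starInj n)

/-- the field `k` maps to the degree zero part -/
noncomputable def kToDeg0 : k →+* deg0 𝒜 :=
  (algebraMap k R).codRestrict (deg0 𝒜) (fun c => SetLike.algebraMap_mem_graded 𝒜 c)

@[simp] theorem coe_kToDeg0 (c : k) : ((kToDeg0 𝒜 c : deg0 𝒜) : R) = algebraMap k R c := rfl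

theorem kToDeg0_bijective [Nontrivial R] (h0R : 𝒜 0 = Submodule.span k {(1 : R)}) :
    Function.Bijective (kToDeg0 𝒜) := by
  constructor
  · intro c c' h
    apply (algebraMap k R).injective
    exact congrArg Subtype.val h
  · intro r
    have hr : (r : R) ∈ 𝒜 0 := r.2
    rw [h0R, Submodule.mem_span_singleton] at hr
    obtain ⟨c, hc⟩ := hr
    refine ⟨c, Subtype.ext ?_⟩
    rw [coe_kToDeg0, Algebra.algebraMap_eq_smul_one, hc]

end Conv

section RSide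

variable {k : Type u} [Field k] {R : Type u} [CommRing R] [Algebra k R]
  (𝒜 : ℤ → Submodule k R) [GradedAlgebra 𝒜]
  {M : Type u} [AddCommGroup M] [Module R M] (ℳ : ℤ → AddSubgroup M)
  [DirectSum.Decomposition ℳ] [SetLike.GradedSMul 𝒜 ℳ]
  (E : StarInjRes 𝒜 ℳ) [∀ p, Module k (E.X p).carrier] [∀ p, IsScalarTower k R (E.X p).carrier]
  (mR : HomogeneousIdeal 𝒜) (hmR : mR.toIdeal = irr 𝒜) (d : ℤ)

attribute [local instance] gsmulAdd

/-- the degree `d` part of the complex `E^•` -/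
abbrev CE (p : ℕ) : Type u := pcI 𝒜 (fun p => (E.X p).gr) d p

/-- its differential -/
noncomputable abbrev dCE (p : ℕ) : CE 𝒜 ℳ E d p →ₗ[k] CE 𝒜 ℳ E d (p + 1) :=
  dpI 𝒜 (fun p => (E.X p).gr) E.d E.d_grHom d p

/-- its torsion subcomplex -/
abbrev tCE (p : ℕ) : Submodule k (CE 𝒜 ℳ E d p) := tsI 𝒜 (fun p => (E.X p).gr) d p

include hmR in
/-- the class map from the degree `d` torsion cocycles to `H^i_{R₊}(M)_d` -/
noncomputable def clsR (i : ℕ) :
    ↥(tCE 𝒜 ℳ E d i ⊓ LinearMap.ker (dCE 𝒜 ℳ E d i)) →+ ↥(E.Hcomp mR i d) where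
  toFun z := mkH (toGResA 𝒜 ℳ E) (idealAdd 𝒜 mR) i d (z.1.1 : (E.X i).carrier) z.1.2
    (by rw [idealAdd_toIdeal, hmR]; exact z.2.1) (congrArg Subtype.val z.2.2)
  map_zero' := by
    apply Subtype.ext
    show (toGResA 𝒜 ℳ E).toH (idealAdd 𝒜 mR) i ⟨0, _⟩ = 0
    exact map_zero ((toGResA 𝒜 ℳ E).toH (idealAdd 𝒜 mR) i)
  map_add' z z' := by
    apply Subtype.ext
    exact map_add ((toGResA 𝒜 ℳ E).toH (idealAdd 𝒜 mR) i)
      ⟨z.1.1, by rw [idealAdd_toIdeal, hmR]; exact z.2.1, congrArg Subtype.val z.2.2⟩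
      ⟨z'.1.1, by rw [idealAdd_toIdeal, hmR]; exact z'.2.1, congrArg Subtype.val z'.2.2⟩

theorem clsR_apply (i : ℕ) (z : ↥(tCE 𝒜 ℳ E d i ⊓ LinearMap.ker (dCE 𝒜 ℳ E d i))) :
    clsR 𝒜 ℳ E mR hmR d i z =
      mkH (toGResA 𝒜 ℳ E) (idealAdd 𝒜 mR) i d (z.1.1 : (E.X i).carrier) z.1.2
        (by rw [idealAdd_toIdeal, hmR]; exact z.2.1) (congrArg Subtype.val z.2.2) := rfl

theorem clsR_smul (i : ℕ) (c : k)
    (z : ↥(tCE 𝒜 ℳ E d i ⊓ LinearMap.ker (dCE 𝒜 ℳ E d i))) :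
    clsR 𝒜 ℳ E mR hmR d i (c • z) = kToDeg0 𝒜 c • clsR 𝒜 ℳ E mR hmR d i z := by
  apply Subtype.ext
  show (toGResA 𝒜 ℳ E).toH (idealAdd 𝒜 mR) i ⟨c • z.1.1, _⟩ =
    (algebraMap k R c) • (toGResA 𝒜 ℳ E).toH (idealAdd 𝒜 mR) i ⟨z.1.1, _⟩
  rw [← map_smul]
  congr 1
  apply Subtype.ext
  exact (algebraMap_smul R c (z.1.1 : (E.X i).carrier)).symm

theorem clsR_surjective (i : ℕ) : Function.Surjective (clsR 𝒜 ℳ E mR hmR d i) := by
  intro y
  obtain ⟨x, hx, hg, hd, rfl⟩ := mkH_surjective (toGResA 𝒜 ℳ E) (idealAdd 𝒜 mR) i d y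
  rw [idealAdd_toIdeal, hmR] at hg
  exact ⟨⟨⟨x, hx⟩, hg, Subtype.ext hd⟩, rfl⟩

theorem clsR_eq_zero_iff (i : ℕ) (z : ↥(tCE 𝒜 ℳ E d i ⊓ LinearMap.ker (dCE 𝒜 ℳ E d i))) :
    clsR 𝒜 ℳ E mR hmR d i z = 0 ↔
      (z : CE 𝒜 ℳ E d i) ∈ bdS (dCE 𝒜 ℳ E d) (tCE 𝒜 ℳ E d) i := by
  cases i with
  | zero =>
    rw [bdS_zero, Submodule.mem_bot]
    refine (mkH_eq_zero_zero (toGResA 𝒜 ℳ E) (idealAdd 𝒜 mR) d (z.1.1 : (E.X 0).carrier) z.1.2
      (by rw [idealAdd_toIdeal, hmR]; exact z.2.1) (congrArg Subtype.val z.2.2)).trans ?_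
    exact ⟨fun h => Subtype.ext h, fun h => congrArg Subtype.val h⟩
  | succ n =>
    rw [bdS_succ]
    refine (mkH_eq_zero_succ (toGResA 𝒜 ℳ E) (idealAdd 𝒜 mR) n d
      (z.1.1 : (E.X (n + 1)).carrier) z.1.2
      (by rw [idealAdd_toIdeal, hmR]; exact z.2.1) (congrArg Subtype.val z.2.2)).trans ?_
    constructor
    · rintro ⟨u, hu, hg, hux⟩
      rw [idealAdd_toIdeal, hmR] at hg
      exact ⟨⟨u, hu⟩, hg, Subtype.ext hux⟩
    · rintro ⟨c, hc, hcz⟩
      refine ⟨c.1, c.2, ?_, congrArg Subtype.val hcz⟩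
      rw [idealAdd_toIdeal, hmR]
      exact hc

variable [Nontrivial R] (h0R : 𝒜 0 = Submodule.span k {(1 : R)})

include h0R hmR in
/-- **the pieces of local cohomology are the cohomology of the degree `d` torsion subcomplex** -/
theorem finrank_Hcomp_eq (i : ℕ) :
    Module.finrank (deg0 𝒜) (E.Hcomp mR i d) =
      Module.finrank k (HS (dCE 𝒜 ℳ E d) (tCE 𝒜 ℳ E d) i) :=
  (finrank_of_semilinear (kToDeg0 𝒜) (kToDeg0_bijective 𝒜 h0R) _ _
    (clsR 𝒜 ℳ E mR hmR d i) (clsR_smul 𝒜 ℳ E mR hmR d i) (clsR_surjective 𝒜 ℳ E mR hmR d i)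
    (clsR_eq_zero_iff 𝒜 ℳ E mR hmR d i)).symm

include hmR in
/-- vanishing of a piece of local cohomology gives exactness of the torsion subcomplex -/
theorem le_bdS_of_Hcomp_eq_bot (i : ℕ) (h : E.Hcomp mR i d = ⊥) :
    tCE 𝒜 ℳ E d i ⊓ LinearMap.ker (dCE 𝒜 ℳ E d i) ≤ bdS (dCE 𝒜 ℳ E d) (tCE 𝒜 ℳ E d) i := by
  refine le_of_semilinear_of_eq_bot _ _ (clsR 𝒜 ℳ E mR hmR d i)
    (clsR_eq_zero_iff 𝒜 ℳ E mR hmR d i) (fun y => ?_)
  have hy : (y : E.H mR i) ∈ (⊥ : Submodule (deg0 𝒜) (E.H mR i)) := h ▸ y.2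
  exact Subtype.ext ((Submodule.mem_bot _).1 hy)

end RSide

end Groth.Agent.Lib.helper26.Kun
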