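import Mathlib
import Groth.Prelude.Def_GrLC
import Groth.Prelude.Def_GrSeg
import Groth.Agent.Lib.Helper26.KunI
import Groth.Agent.Lib.Helper26.KunJ

/-!
# The bridge from the abstract total complex of degree `d` pieces to the total complex of Segre
products (helper26)
-/

set_option autoImplicit false
set_option linter.unusedSectionVars false
set_option linter.dupNamespace false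
universe u
open scoped TensorProduct

namespace Groth.Agent.Lib.helper26.Kun

open GrLC Groth.Agent.Lib.helper19.GrConv Groth.Agent.Lib.helper19.GrMod
  Groth.Agent.Lib.helper26.Seg Groth.Agent.Lib.helper26.GrCM Groth.Agent.Lib.helper26.Acyc

section Brg

variable {k : Type u} [Field k] {R : Type u} [CommRing R] [Algebra k R]
  (𝒜 : ℤ → Submodule k R) [GradedAlgebra 𝒜]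
  {S : Type u} [CommRing S] [Algebra k S] (ℬ : ℤ → Submodule k S) [GradedAlgebra ℬ]
  {T : Type u} [CommRing T] [Algebra k T] (𝒯 : ℤ → Submodule k T) [GradedAlgebra 𝒯]
  (ψ : T →ₐ[k] R ⊗[k] S) (hT : GrSeg.IsSegreRing 𝒜 ℬ 𝒯 ψ)
  {I : ℕ → Type u} [∀ p, AddCommGroup (I p)] [∀ p, Module R (I p)] [∀ p, Module k (I p)]
  [∀ p, IsScalarTower k R (I p)]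
  (ℐ : ∀ p, ℤ → AddSubgroup (I p)) [∀ p, DirectSum.Decomposition (ℐ p)]
  [∀ p, SetLike.GradedSMul 𝒜 (ℐ p)]
  (dI : ∀ p, I p →ₗ[R] I (p + 1)) (hdI : ∀ p, IsGrHom (ℐ p) (ℐ (p + 1)) (dI p))
  {J : ℕ → Type u} [∀ q, AddCommGroup (J q)] [∀ q, Module S (J q)] [∀ q, Module k (J q)]
  [∀ q, IsScalarTower k S (J q)]
  (𝒥 : ∀ q, ℤ → AddSubgroup (J q)) [∀ q, DirectSum.Decomposition (𝒥 q)]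
  [∀ q, SetLike.GradedSMul ℬ (𝒥 q)]
  (dJ : ∀ q, J q →ₗ[S] J (q + 1)) (hdJ : ∀ q, IsGrHom (𝒥 q) (𝒥 (q + 1)) (dJ q))
  (d : ℤ)

/-- the abstract global space in degree `d` -/
abbrev GTd : Type u := GT (TV k (pcI 𝒜 ℐ d) (pcI ℬ 𝒥 d))

/-- the abstract total differential in degree `d` -/
noncomputable abbrev DGa : GTd 𝒜 ℬ ℐ 𝒥 d →ₗ[k] GTd 𝒜 ℬ ℐ 𝒥 d :=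
  DG (tdh (dpI 𝒜 ℐ dI hdI d)) (tdv (dpI ℬ 𝒥 dJ hdJ d))

/-- the bridge on global spaces -/
noncomputable def ThG : GTd 𝒜 ℬ ℐ 𝒥 d →+ GT (segV 𝒜 ℬ 𝒯 ψ hT ℐ 𝒥) :=
  mapG (th 𝒜 ℬ 𝒯 ψ hT ℐ 𝒥 d)

theorem ThG_apply (w : GTd 𝒜 ℬ ℐ 𝒥 d) (p q : ℕ) :
    ThG 𝒜 ℬ 𝒯 ψ hT ℐ 𝒥 d w p q = th 𝒜 ℬ 𝒯 ψ hT ℐ 𝒥 d p q (w p q) := rfl

theorem ThG_DG (w : GTd 𝒜 ℬ ℐ 𝒥 d) :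
    ThG 𝒜 ℬ 𝒯 ψ hT ℐ 𝒥 d (DGa 𝒜 ℬ ℐ dI hdI 𝒥 dJ hdJ d w) =
      DG (sdh 𝒜 ℬ 𝒯 ψ hT ℐ dI hdI 𝒥) (sdv 𝒜 ℬ 𝒯 ψ hT ℐ 𝒥 dJ hdJ)
        (ThG 𝒜 ℬ 𝒯 ψ hT ℐ 𝒥 d w) :=
  mapG_DG _ _ _ _ (th 𝒜 ℬ 𝒯 ψ hT ℐ 𝒥 d)
    (fun p q x => (sdh_th 𝒜 ℬ 𝒯 ψ hT ℐ dI hdI 𝒥 d p q x).symm)
    (fun p q x => (sdv_th 𝒜 ℬ 𝒯 ψ hT ℐ 𝒥 dJ hdJ d p q x).symm) w

theorem ThG_injective : Function.Injective (ThG 𝒜 ℬ 𝒯 ψ hT ℐ 𝒥 d) := by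
  intro w w' h
  funext p q
  apply th_injective 𝒜 ℬ 𝒯 ψ hT ℐ 𝒥 d p q
  exact congrFun (congrFun h p) q

theorem ThG_mem_Tn {n : ℕ} {w : GTd 𝒜 ℬ ℐ 𝒥 d} (hw : w ∈ Tn (A := k) n) :
    ThG 𝒜 ℬ 𝒯 ψ hT ℐ 𝒥 d w ∈ Tn (A := T) n :=
  mapG_mem_Tn _ hw

/-- the bridge into the total module of degree `n` -/
noncomputable def brg (n : ℕ) : GTd 𝒜 ℬ ℐ 𝒥 d →+ Tot (segV 𝒜 ℬ 𝒯 ψ hT ℐ 𝒥) n :=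
  (rho T n : GT (segV 𝒜 ℬ 𝒯 ψ hT ℐ 𝒥) →ₗ[T] Tot (segV 𝒜 ℬ 𝒯 ψ hT ℐ 𝒥) n).toAddMonoidHom.comp
    (ThG 𝒜 ℬ 𝒯 ψ hT ℐ 𝒥 d)

theorem brg_apply (n : ℕ) (w : GTd 𝒜 ℬ ℐ 𝒥 d) (pq : AD n) :
    brg 𝒜 ℬ 𝒯 ψ hT ℐ 𝒥 d n w pq = th 𝒜 ℬ 𝒯 ψ hT ℐ 𝒥 d pq.1.1 pq.1.2 (w pq.1.1 pq.1.2) := rfl

theorem brg_mem_segGr (n : ℕ) (w : GTd 𝒜 ℬ ℐ 𝒥 d) (pq : AD n) :
    brg 𝒜 ℬ 𝒯 ψ hT ℐ 𝒥 d n w pq ∈ segGr 𝒜 ℬ 𝒯 ψ hT (ℐ pq.1.1) (𝒥 pq.1.2) d :=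
  th_mem_segGr 𝒜 ℬ 𝒯 ψ hT ℐ 𝒥 d _ _ _

theorem iota_brg {n : ℕ} {w : GTd 𝒜 ℬ ℐ 𝒥 d} (hw : w ∈ Tn (A := k) n) :
    iota T n (brg 𝒜 ℬ 𝒯 ψ hT ℐ 𝒥 d n w) = ThG 𝒜 ℬ 𝒯 ψ hT ℐ 𝒥 d w :=
  iota_rho (ThG_mem_Tn 𝒜 ℬ 𝒯 ψ hT ℐ 𝒥 d hw)

theorem totD_brg {n : ℕ} {w : GTd 𝒜 ℬ ℐ 𝒥 d} (hw : w ∈ Tn (A := k) n) :
    totD (sdh 𝒜 ℬ 𝒯 ψ hT ℐ dI hdI 𝒥) (sdv 𝒜 ℬ 𝒯 ψ hT ℐ 𝒥 dJ hdJ) n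
        (brg 𝒜 ℬ 𝒯 ψ hT ℐ 𝒥 d n w) =
      brg 𝒜 ℬ 𝒯 ψ hT ℐ 𝒥 d (n + 1) (DGa 𝒜 ℬ ℐ dI hdI 𝒥 dJ hdJ d w) := by
  show rho T (n + 1) (DG _ _ (iota T n (brg 𝒜 ℬ 𝒯 ψ hT ℐ 𝒥 d n w))) = _
  rw [iota_brg 𝒜 ℬ 𝒯 ψ hT ℐ 𝒥 d hw, ← ThG_DG]
  rfl

theorem brg_eq_zero {n : ℕ} {w : GTd 𝒜 ℬ ℐ 𝒥 d} (hw : w ∈ Tn (A := k) n)
    (h : brg 𝒜 ℬ 𝒯 ψ hT ℐ 𝒥 d n w = 0) : w = 0 := by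
  apply ThG_injective 𝒜 ℬ 𝒯 ψ hT ℐ 𝒥 d
  rw [← iota_brg 𝒜 ℬ 𝒯 ψ hT ℐ 𝒥 d hw, h, map_zero, map_zero]

theorem brg_injOn {n : ℕ} {w w' : GTd 𝒜 ℬ ℐ 𝒥 d} (hw : w ∈ Tn (A := k) n)
    (hw' : w' ∈ Tn (A := k) n)
    (h : brg 𝒜 ℬ 𝒯 ψ hT ℐ 𝒥 d n w = brg 𝒜 ℬ 𝒯 ψ hT ℐ 𝒥 d n w') : w = w' := by
  rw [← sub_eq_zero]
  apply brg_eq_zero 𝒜 ℬ 𝒯 ψ hT ℐ 𝒥 d (sub_mem hw hw')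
  rw [map_sub, h, sub_self]

theorem exists_brg (n : ℕ) (x : Tot (segV 𝒜 ℬ 𝒯 ψ hT ℐ 𝒥) n)
    (hx : ∀ pq : AD n, x pq ∈ segGr 𝒜 ℬ 𝒯 ψ hT (ℐ pq.1.1) (𝒥 pq.1.2) d) :
    ∃ w ∈ Tn (A := k) n, brg 𝒜 ℬ 𝒯 ψ hT ℐ 𝒥 d n w = x := by
  choose v hv using fun pq : AD n => exists_th 𝒜 ℬ 𝒯 ψ hT ℐ 𝒥 d pq.1.1 pq.1.2 (hx pq)
  refine ⟨iota k n v, iota_mem_Tn (A := k) (V := TV k (pcI 𝒜 ℐ d) (pcI ℬ 𝒥 d)) n v, ?_⟩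
  funext pq
  rw [brg_apply, iota_apply' (A := k) (V := TV k (pcI 𝒜 ℐ d) (pcI ℬ 𝒥 d)), hv]

theorem brg_ksmul (n : ℕ) (c : k) (w : GTd 𝒜 ℬ ℐ 𝒥 d) :
    brg 𝒜 ℬ 𝒯 ψ hT ℐ 𝒥 d n (c • w) = algebraMap k T c • brg 𝒜 ℬ 𝒯 ψ hT ℐ 𝒥 d n w := by
  funext pq
  rw [brg_apply]
  exact th_ksmul 𝒜 ℬ 𝒯 ψ hT ℐ 𝒥 d _ _ c _

variable [IsNoetherianRing R] [IsNoetherianRing S]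

theorem brg_mem_gam_iff {n : ℕ} {w : GTd 𝒜 ℬ ℐ 𝒥 d} (hw : w ∈ Tn (A := k) n) :
    brg 𝒜 ℬ 𝒯 ψ hT ℐ 𝒥 d n w ∈ gam (irr 𝒯) (Tot (segV 𝒜 ℬ 𝒯 ψ hT ℐ 𝒥) n) ↔
      QG (tq (tsI 𝒜 ℐ d) (tsI ℬ 𝒥 d)) w = 0 := by
  rw [mem_gam_pi_iff]
  constructor
  · intro h
    funext p q
    by_cases hpq : p + q = n
    · have h1 := h ⟨(p, q), hpq⟩
      rw [brg_apply, th_mem_gam_iff] at h1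
      exact h1
    · rw [QG_apply, hw p q hpq, map_zero]
      rfl
  · intro h pq
    rw [brg_apply, th_mem_gam_iff]
    exact congrFun (congrFun h pq.1.1) pq.1.2

end Brg

end Groth.Agent.Lib.helper26.Kun
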