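import Mathlib
import Groth.Prelude.Def_GrLC
import Groth.Prelude.Def_GrSeg
import Groth.Agent.Lib.Helper26.KunK
import Groth.Agent.Lib.Helper26.KunL

/-!
# The total complex of `I^• # J^•` is a graded resolution of `M # N` (helper26)
-/

set_option autoImplicit false
set_option linter.unusedSectionVars false
set_option linter.dupNamespace false
universe u
open scoped TensorProduct

namespace Groth.Agent.Lib.helper26.Kun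

open GrLC Groth.Agent.Lib.helper19.GrConv Groth.Agent.Lib.helper19.GrMod
  Groth.Agent.Lib.helper26.Seg Groth.Agent.Lib.helper26.GrCM Groth.Agent.Lib.helper26.Acyc

section Generic

variable {ι : Type} [AddCommGroup ι] [DecidableEq ι] {R : Type u} [CommRing R]
  {M : Type u} [AddCommGroup M] [Module R M] (ℳ : ι → AddSubgroup M)
  [DirectSum.Decomposition ℳ]

/-- a homogeneous submodule is contained in another submodule as soon as its homogeneous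
elements are -/
theorem le_of_forall_homogeneous (P Q : Submodule R M) (hP : P.IsHomogeneous ℳ)
    (h : ∀ d x, x ∈ ℳ d → x ∈ P → x ∈ Q) : P ≤ Q := by
  classical
  intro x hx
  rw [← DirectSum.sum_support_decompose ℳ x]
  apply Submodule.sum_mem
  intro d _
  exact h d _ (SetLike.coe_mem _) (hP d hx)

variable {A : Type u} [CommRing A] {V : ℕ → ℕ → Type u} [∀ p q, AddCommGroup (V p q)]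
  [∀ p q, Module A (V p q)]

variable (A) in
/-- `s00` as a linear map -/
def s00L : V 0 0 →ₗ[A] GT V where
  toFun := s00
  map_add' w w' := by
    funext p q
    cases p with
    | zero =>
      cases q with
      | zero => rfl
      | succ q => exact (add_zero _).symm
    | succ p => exact (add_zero _).symm
  map_smul' a w := by
    funext p q
    cases p with
    | zero =>
      cases q with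
      | zero => rfl
      | succ q => exact (smul_zero a).symm
    | succ p => exact (smul_zero a).symm

@[simp] theorem s00L_apply (w : V 0 0) : s00L A w = s00 w := rfl

end Generic

section PieceExact

variable {k : Type u} [Field k] {R : Type u} [CommRing R] [Algebra k R]
  (𝒜 : ℤ → Submodule k R) [GradedAlgebra 𝒜]
  {I : ℕ → Type u} [∀ p, AddCommGroup (I p)] [∀ p, Module R (I p)] [∀ p, Module k (I p)]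
  [∀ p, IsScalarTower k R (I p)]
  (ℐ : ∀ p, ℤ → AddSubgroup (I p)) [∀ p, DirectSum.Decomposition (ℐ p)]
  [∀ p, SetLike.GradedSMul 𝒜 (ℐ p)]
  (dI : ∀ p, I p →ₗ[R] I (p + 1)) (hdI : ∀ p, IsGrHom (ℐ p) (ℐ (p + 1)) (dI p))
  (d : ℤ)

/-- exactness passes to the degree `d` pieces -/
theorem dpI_exact (exI : ∀ p, LinearMap.ker (dI (p + 1)) ≤ LinearMap.range (dI p)) (i : ℕ) :
    LinearMap.ker (dpI 𝒜 ℐ dI hdI d (i + 1)) ≤ LinearMap.range (dpI 𝒜 ℐ dI hdI d i) := by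
  intro c hc
  have hc' : dI (i + 1) (c : I (i + 1)) = 0 := congrArg Subtype.val (LinearMap.mem_ker.1 hc)
  obtain ⟨y, hy⟩ := exI i (LinearMap.mem_ker.2 hc')
  refine ⟨⟨((DirectSum.decompose (ℐ i) y d : ℐ i d) : I i), SetLike.coe_mem _⟩, ?_⟩
  apply Subtype.ext
  show dI i ((DirectSum.decompose (ℐ i) y d : ℐ i d) : I i) = c
  rw [← grHom_decompose (ℐ i) (ℐ (i + 1)) (dI i) (hdI i) y d, hy]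
  exact DirectSum.decompose_of_mem_same (ℐ (i + 1)) c.2

variable {M : Type u} [AddCommGroup M] [Module R M] [Module k M] [IsScalarTower k R M]
  (ℳ : ℤ → AddSubgroup M) [DirectSum.Decomposition ℳ] [SetLike.GradedSMul 𝒜 ℳ]
  (εM : M →ₗ[R] I 0) (hεM : IsGrHom ℳ (ℐ 0) εM) (hεMi : Function.Injective εM)
  (hεMe : LinearMap.ker (dI 0) = LinearMap.range εM)

include hεM hεMi hεMe in
/-- degree `d` cocycles in degree zero come from `M_d` -/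
theorem exists_eps_of_mem_ker (c : pcI 𝒜 ℐ d 0) (hc : dpI 𝒜 ℐ dI hdI d 0 c = 0) :
    ∃ m ∈ ℳ d, εM m = (c : I 0) := by
  have hc' : dI 0 (c : I 0) = 0 := congrArg Subtype.val hc
  have h1 : (c : I 0) ∈ LinearMap.range εM := by
    rw [← hεMe]
    exact LinearMap.mem_ker.2 hc'
  obtain ⟨m, hm⟩ := h1
  refine ⟨m, ?_, hm⟩
  apply mem_of_map_mem ℳ (ℐ 0) εM hεM hεMi
  rw [hm]
  exact c.2

end PieceExact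

section TotRes

variable {k : Type u} [Field k] {R : Type u} [CommRing R] [Algebra k R]
  (𝒜 : ℤ → Submodule k R) [GradedAlgebra 𝒜]
  {S : Type u} [CommRing S] [Algebra k S] (ℬ : ℤ → Submodule k S) [GradedAlgebra ℬ]
  {T : Type u} [CommRing T] [Algebra k T] (𝒯 : ℤ → Submodule k T) [GradedAlgebra 𝒯]
  (ψ : T →ₐ[k] R ⊗[k] S) (hT : GrSeg.IsSegreRing 𝒜 ℬ 𝒯 ψ)
  {I : ℕ → Type u} [∀ p, AddCommGroup (I p)] [∀ p, Module R (I p)] [∀ p, Module k (I p)]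
  [∀ p, IsScalarTower k R (I p)]
  (ℐ : ∀ p, ℤ → AddSubgroup (I p)) [∀ p, DirectSum.Decomposition (ℐ p)]
  [∀ p, SetLike.GradedSMul 𝒜 (ℐ p)]
  (dI : ∀ p, I p →ₗ[R] I (p + 1)) (hdI : ∀ p, IsGrHom (ℐ p) (ℐ (p + 1)) (dI p))
  {J : ℕ → Type u} [∀ q, AddCommGroup (J q)] [∀ q, Module S (J q)] [∀ q, Module k (J q)]
  [∀ q, IsScalarTower k S (J q)]
  (𝒥 : ∀ q, ℤ → AddSubgroup (J q)) [∀ q, DirectSum.Decomposition (𝒥 q)]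
  [∀ q, SetLike.GradedSMul ℬ (𝒥 q)]
  (dJ : ∀ q, J q →ₗ[S] J (q + 1)) (hdJ : ∀ q, IsGrHom (𝒥 q) (𝒥 (q + 1)) (dJ q))
  (hI2 : ∀ p x, dI (p + 1) (dI p x) = 0)
  (exI : ∀ p, LinearMap.ker (dI (p + 1)) ≤ LinearMap.range (dI p))
  (hJ2 : ∀ q x, dJ (q + 1) (dJ q x) = 0)
  (exJ : ∀ q, LinearMap.ker (dJ (q + 1)) ≤ LinearMap.range (dJ q))
  {M : Type u} [AddCommGroup M] [Module R M] [Module k M] [IsScalarTower k R M]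
  (ℳ : ℤ → AddSubgroup M) [DirectSum.Decomposition ℳ] [SetLike.GradedSMul 𝒜 ℳ]
  (εM : M →ₗ[R] I 0) (hεM : IsGrHom ℳ (ℐ 0) εM) (hεMi : Function.Injective εM)
  (hεMe : LinearMap.ker (dI 0) = LinearMap.range εM)
  {N : Type u} [AddCommGroup N] [Module S N] [Module k N] [IsScalarTower k S N]
  (𝒩 : ℤ → AddSubgroup N) [DirectSum.Decomposition 𝒩] [SetLike.GradedSMul ℬ 𝒩]
  (εN : N →ₗ[S] J 0) (hεN : IsGrHom 𝒩 (𝒥 0) εN) (hεNi : Function.Injective εN)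
  (hεNe : LinearMap.ker (dJ 0) = LinearMap.range εN)
  {P : Type u} [AddCommGroup P] [Module T P] [Module k P] [IsScalarTower k T P]
  (𝒬 : ℤ → AddSubgroup P) [DirectSum.Decomposition 𝒬] [SetLike.GradedSMul 𝒯 𝒬]
  (φ : P →ₗ[k] M ⊗[k] N) (hP : GrSeg.IsSegreMod ψ ℳ 𝒩 𝒬 φ)

include hP in
theorem phi_mem_segrePiece {n : ℤ} {p : P} (hp : p ∈ 𝒬 n) : φ p ∈ GrSeg.segrePiece k ℳ 𝒩 n := by
  have h1 : φ p ∈ φ '' (𝒬 n : Set P) := ⟨p, hp, rfl⟩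
  rw [hP.image_piece n] at h1
  exact h1

include hP in
theorem phi_mem_segK (p : P) : φ p ∈ segK ℳ 𝒩 := by
  induction p using DirectSum.Decomposition.inductionOn 𝒬 with
  | zero => rw [map_zero]; exact zero_mem _
  | homogeneous m =>
    exact segrePiece_le_segK ℳ 𝒩 _ (phi_mem_segrePiece ψ ℳ 𝒩 𝒬 φ hP m.2)
  | add m m' h h' => rw [map_add]; exact add_mem h h'

/-- the augmentation in bidegree `(0, 0)` -/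
noncomputable def eps00 : P →ₗ[T] segV 𝒜 ℬ 𝒯 ψ hT ℐ 𝒥 0 0 where
  toFun p := segMk 𝒜 ℬ 𝒯 ψ hT (ℐ 0) (𝒥 0) (tmap k εM εN (φ p))
    (tmap_mem_segK ℳ 𝒩 (ℐ 0) (𝒥 0) εM hεM εN hεN (phi_mem_segK ψ ℳ 𝒩 𝒬 φ hP p))
  map_add' p p' := by
    apply segVal_injective
    rw [segVal_segMk, map_add, map_add, map_add, segVal_segMk, segVal_segMk]
  map_smul' t p := by
    apply segVal_injective
    rw [segVal_segMk, RingHom.id_apply, segVal_smul, segVal_segMk, hP.map_smul, tmap_act]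

theorem segVal_eps00 (p : P) :
    segVal 𝒜 ℬ 𝒯 ψ hT (ℐ 0) (𝒥 0) (eps00 𝒜 ℬ 𝒯 ψ hT ℐ 𝒥 ℳ εM hεM 𝒩 εN hεN 𝒬 φ hP p) =
      tmap k εM εN (φ p) := rfl

/-- the augmentation of the total complex -/
noncomputable def epsT : P →ₗ[T] (totX 𝒜 ℬ 𝒯 ψ hT ℐ 𝒥 0).carrier :=
  (rho T 0 : GT (segV 𝒜 ℬ 𝒯 ψ hT ℐ 𝒥) →ₗ[T] Tot (segV 𝒜 ℬ 𝒯 ψ hT ℐ 𝒥) 0) ∘ₗ
    s00L T ∘ₗ eps00 𝒜 ℬ 𝒯 ψ hT ℐ 𝒥 ℳ εM hεM 𝒩 εN hεN 𝒬 φ hP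

theorem epsT_apply (p : P) :
    epsT 𝒜 ℬ 𝒯 ψ hT ℐ 𝒥 ℳ εM hεM 𝒩 εN hεN 𝒬 φ hP p =
      rho T 0 (s00 (V := segV 𝒜 ℬ 𝒯 ψ hT ℐ 𝒥)
        (eps00 𝒜 ℬ 𝒯 ψ hT ℐ 𝒥 ℳ εM hεM 𝒩 εN hεN 𝒬 φ hP p)) := rfl

include hεMi hεNi in
theorem epsT_injective :
    Function.Injective (epsT 𝒜 ℬ 𝒯 ψ hT ℐ 𝒥 ℳ εM hεM 𝒩 εN hεN 𝒬 φ hP) := by
  rw [injective_iff_map_eq_zero]
  intro p hp
  have h1 := congrFun hp ⟨(0, 0), rfl⟩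
  have h2 : eps00 𝒜 ℬ 𝒯 ψ hT ℐ 𝒥 ℳ εM hεM 𝒩 εN hεN 𝒬 φ hP p = 0 := h1
  have h3 : tmap k εM εN (φ p) = 0 := by
    rw [← segVal_eps00 𝒜 ℬ 𝒯 ψ hT ℐ 𝒥 ℳ εM hεM 𝒩 εN hεN 𝒬 φ hP, h2, map_zero]
  have h4 : φ p = 0 := by
    apply tmap_injective εM hεMi εN hεNi
    rw [h3, map_zero]
  apply hP.injective
  rw [h4, map_zero]

theorem epsT_grHom :
    IsGrHom 𝒬 (totX 𝒜 ℬ 𝒯 ψ hT ℐ 𝒥 0).gr
      (epsT 𝒜 ℬ 𝒯 ψ hT ℐ 𝒥 ℳ εM hεM 𝒩 εN hεN 𝒬 φ hP) := by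
  intro n p hp
  rw [mem_totX_gr]
  rintro ⟨⟨a, b⟩, h⟩
  have ha : a = 0 := by simp at h; omega
  have hb : b = 0 := by simp at h; omega
  subst ha
  subst hb
  show eps00 𝒜 ℬ 𝒯 ψ hT ℐ 𝒥 ℳ εM hεM 𝒩 εN hεN 𝒬 φ hP p ∈ segGr 𝒜 ℬ 𝒯 ψ hT (ℐ 0) (𝒥 0) n
  exact tmap_mem_segrePiece ℳ 𝒩 (ℐ 0) (𝒥 0) εM hεM εN hεN
    (phi_mem_segrePiece ψ ℳ 𝒩 𝒬 φ hP hp)

include hI2 hJ2 in
theorem totd_totd (n : ℕ) (x : (totX 𝒜 ℬ 𝒯 ψ hT ℐ 𝒥 n).carrier) :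
    totd 𝒜 ℬ 𝒯 ψ hT ℐ dI hdI 𝒥 dJ hdJ (n + 1) (totd 𝒜 ℬ 𝒯 ψ hT ℐ dI hdI 𝒥 dJ hdJ n x) = 0 :=
  totD_totD _ _ (sdh_sdh 𝒜 ℬ 𝒯 ψ hT ℐ dI hdI 𝒥 hI2) (sdv_sdv 𝒜 ℬ 𝒯 ψ hT ℐ 𝒥 dJ hdJ hJ2)
    (sdv_sdh 𝒜 ℬ 𝒯 ψ hT ℐ dI hdI 𝒥 dJ hdJ) n x

include hI2 hJ2 exI exJ in
theorem totd_exact (n : ℕ) :
    LinearMap.ker (totd 𝒜 ℬ 𝒯 ψ hT ℐ dI hdI 𝒥 dJ hdJ (n + 1)) ≤
      LinearMap.range (totd 𝒜 ℬ 𝒯 ψ hT ℐ dI hdI 𝒥 dJ hdJ n) := by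
  refine le_of_forall_homogeneous (totX 𝒜 ℬ 𝒯 ψ hT ℐ 𝒥 (n + 1)).gr _ _
    (ker_isHomogeneous _ _ _ (totd_isGrHom 𝒜 ℬ 𝒯 ψ hT ℐ dI hdI 𝒥 dJ hdJ (n + 1)))
    (fun d x hx hxk => ?_)
  obtain ⟨w, hw, rfl⟩ := exists_brg 𝒜 ℬ 𝒯 ψ hT ℐ 𝒥 d (n + 1) x hx
  have h1 : totD (sdh 𝒜 ℬ 𝒯 ψ hT ℐ dI hdI 𝒥) (sdv 𝒜 ℬ 𝒯 ψ hT ℐ 𝒥 dJ hdJ) (n + 1)
      (brg 𝒜 ℬ 𝒯 ψ hT ℐ 𝒥 d (n + 1) w) = 0 := hxk
  rw [totD_brg 𝒜 ℬ 𝒯 ψ hT ℐ dI hdI 𝒥 dJ hdJ d hw] at h1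
  have h2 : DGa 𝒜 ℬ ℐ dI hdI 𝒥 dJ hdJ d w = 0 :=
    brg_eq_zero 𝒜 ℬ 𝒯 ψ hT ℐ 𝒥 d (DG_mem_Tn _ _ hw) h1
  have h3 := tot_exact (dpI 𝒜 ℐ dI hdI d) (dpI ℬ 𝒥 dJ hdJ d) (dpI_dpI 𝒜 ℐ dI hdI d hI2)
    (dpI_dpI ℬ 𝒥 dJ hdJ d hJ2) (dpI_exact 𝒜 ℐ dI hdI d exI) (dpI_exact ℬ 𝒥 dJ hdJ d exJ) n
    ⟨LinearMap.mem_ker.2 h2, hw⟩
  obtain ⟨v, hv, rfl⟩ := h3
  refine ⟨brg 𝒜 ℬ 𝒯 ψ hT ℐ 𝒥 d n v, ?_⟩
  exact totD_brg 𝒜 ℬ 𝒯 ψ hT ℐ dI hdI 𝒥 dJ hdJ d hv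

include hεMe hεNe in
theorem totd_epsT (p : P) :
    totd 𝒜 ℬ 𝒯 ψ hT ℐ dI hdI 𝒥 dJ hdJ 0
      (epsT 𝒜 ℬ 𝒯 ψ hT ℐ 𝒥 ℳ εM hεM 𝒩 εN hεN 𝒬 φ hP p) = 0 := by
  have hM0 : ∀ m, dI 0 (εM m) = 0 := by
    intro m
    have : εM m ∈ LinearMap.ker (dI 0) := by rw [hεMe]; exact ⟨m, rfl⟩
    exact this
  have hN0 : ∀ m, dJ 0 (εN m) = 0 := by
    intro m
    have : εN m ∈ LinearMap.ker (dJ 0) := by rw [hεNe]; exact ⟨m, rfl⟩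
    exact this
  have h1 : sdh 𝒜 ℬ 𝒯 ψ hT ℐ dI hdI 𝒥 0 0
      (eps00 𝒜 ℬ 𝒯 ψ hT ℐ 𝒥 ℳ εM hεM 𝒩 εN hεN 𝒬 φ hP p) = 0 := by
    apply segVal_injective
    rw [segVal_sdh, segVal_eps00, map_zero]
    unfold tmap
    rw [TensorProduct.map_map]
    have h : (dI 0).restrictScalars k ∘ₗ εM.restrictScalars k = 0 :=
      LinearMap.ext fun m => hM0 m
    rw [h, tmap_zero_left]
  have h2 : sdv 𝒜 ℬ 𝒯 ψ hT ℐ 𝒥 dJ hdJ 0 0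
      (eps00 𝒜 ℬ 𝒯 ψ hT ℐ 𝒥 ℳ εM hεM 𝒩 εN hεN 𝒬 φ hP p) = 0 := by
    apply segVal_injective
    rw [segVal_sdv, segVal_eps00, map_zero]
    unfold tmap
    rw [TensorProduct.map_map]
    have h : (dJ 0).restrictScalars k ∘ₗ εN.restrictScalars k = 0 :=
      LinearMap.ext fun m => hN0 m
    rw [h, tmap_zero_right]
  rw [epsT_apply]
  show rho T 1 (DG (sdh 𝒜 ℬ 𝒯 ψ hT ℐ dI hdI 𝒥) (sdv 𝒜 ℬ 𝒯 ψ hT ℐ 𝒥 dJ hdJ)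
    (iota T 0 (rho T 0 (s00 (V := segV 𝒜 ℬ 𝒯 ψ hT ℐ 𝒥)
      (eps00 𝒜 ℬ 𝒯 ψ hT ℐ 𝒥 ℳ εM hεM 𝒩 εN hεN 𝒬 φ hP p))))) =
    (0 : Tot (segV 𝒜 ℬ 𝒯 ψ hT ℐ 𝒥) 1)
  rw [iota_rho (s00_mem_Tn (A := T) (V := segV 𝒜 ℬ 𝒯 ψ hT ℐ 𝒥) _),
    DG_s00 (V := segV 𝒜 ℬ 𝒯 ψ hT ℐ 𝒥) _ _ _ h1 h2, map_zero]

include hI2 hJ2 hεMi hεMe hεNi hεNe in
theorem ker_totd_zero_le :
    LinearMap.ker (totd 𝒜 ℬ 𝒯 ψ hT ℐ dI hdI 𝒥 dJ hdJ 0) ≤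
      LinearMap.range (epsT 𝒜 ℬ 𝒯 ψ hT ℐ 𝒥 ℳ εM hεM 𝒩 εN hεN 𝒬 φ hP) := by
  refine le_of_forall_homogeneous (totX 𝒜 ℬ 𝒯 ψ hT ℐ 𝒥 0).gr _ _
    (ker_isHomogeneous _ _ _ (totd_isGrHom 𝒜 ℬ 𝒯 ψ hT ℐ dI hdI 𝒥 dJ hdJ 0))
    (fun d x hx hxk => ?_)
  obtain ⟨w, hw, rfl⟩ := exists_brg 𝒜 ℬ 𝒯 ψ hT ℐ 𝒥 d 0 x hx
  have h1 : totD (sdh 𝒜 ℬ 𝒯 ψ hT ℐ dI hdI 𝒥) (sdv 𝒜 ℬ 𝒯 ψ hT ℐ 𝒥 dJ hdJ) 0
      (brg 𝒜 ℬ 𝒯 ψ hT ℐ 𝒥 d 0 w) = 0 := hxk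
  rw [totD_brg 𝒜 ℬ 𝒯 ψ hT ℐ dI hdI 𝒥 dJ hdJ d hw] at h1
  have h2 : DGa 𝒜 ℬ ℐ dI hdI 𝒥 dJ hdJ d w = 0 :=
    brg_eq_zero 𝒜 ℬ 𝒯 ψ hT ℐ 𝒥 d (DG_mem_Tn _ _ hw) h1
  obtain ⟨αC, βC, SC, hC⟩ := exists_contr (dpI_dpI 𝒜 ℐ dI hdI d hI2)
  obtain ⟨αD, βD, SD, hD⟩ := exists_contr (dpI_dpI ℬ 𝒥 dJ hdJ d hJ2)
  have h3 := Z0_eq hC hD w ⟨LinearMap.mem_ker.2 h2, hw⟩
  have key : ∀ u : HC (pcI 𝒜 ℐ d) (dpI 𝒜 ℐ dI hdI d) 0 ⊗[k] HC (pcI ℬ 𝒥 d) (dpI ℬ 𝒥 dJ hdJ d) 0,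
      ∃ p : P, eps00 𝒜 ℬ 𝒯 ψ hT ℐ 𝒥 ℳ εM hεM 𝒩 εN hεN 𝒬 φ hP p =
        th 𝒜 ℬ 𝒯 ψ hT ℐ 𝒥 d 0 0 (TensorProduct.map (βC 0) (βD 0) u) := by
    intro u
    induction u using TensorProduct.induction_on with
    | zero => exact ⟨0, by rw [map_zero, map_zero, map_zero]⟩
    | tmul a b =>
      obtain ⟨m, hm, hma⟩ := exists_eps_of_mem_ker 𝒜 ℐ dI hdI d ℳ εM hεM hεMi hεMe
        (βC 0 a) (hC.d_β 0 a)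
      obtain ⟨m', hm', hmb⟩ := exists_eps_of_mem_ker ℬ 𝒥 dJ hdJ d 𝒩 εN hεN hεNi hεNe
        (βD 0 b) (hD.d_β 0 b)
      have h4 : m ⊗ₜ[k] m' ∈ (GrSeg.segrePiece k ℳ 𝒩 d : Set (M ⊗[k] N)) :=
        Submodule.subset_span ⟨m, hm, m', hm', rfl⟩
      rw [← hP.image_piece d] at h4
      obtain ⟨p, -, hp⟩ := h4
      refine ⟨p, ?_⟩
      apply segVal_injective
      rw [segVal_eps00, hp, segVal_th]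
      show εM m ⊗ₜ[k] εN m' = ((βC 0 a : pcI 𝒜 ℐ d 0) : I 0) ⊗ₜ[k] ((βD 0 b : pcI ℬ 𝒥 d 0) : J 0)
      rw [hma, hmb]
    | add u u' h h' =>
      obtain ⟨p, hp⟩ := h
      obtain ⟨p', hp'⟩ := h'
      exact ⟨p + p', by rw [map_add, map_add, map_add, hp, hp']⟩
  obtain ⟨p, hp⟩ := key (aG αC αD w 0 0)
  refine ⟨p, ?_⟩
  funext pq
  obtain ⟨⟨a, b⟩, h⟩ := pq
  have ha : a = 0 := by simp at h; omega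
  have hb : b = 0 := by simp at h; omega
  subst ha
  subst hb
  show eps00 𝒜 ℬ 𝒯 ψ hT ℐ 𝒥 ℳ εM hεM 𝒩 εN hεN 𝒬 φ hP p = th 𝒜 ℬ 𝒯 ψ hT ℐ 𝒥 d 0 0 (w 0 0)
  rw [hp]
  congr 1
  have := congrFun (congrFun h3 0) 0
  rw [bG_apply] at this
  exact this.symm

end TotRes

end Groth.Agent.Lib.helper26.Kun
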