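import Mathlib
import Groth.Prelude.Def_GrLC
import Groth.Prelude.Def_GrSeg
import Groth.Agent.Lib.Helper26.Kun6
import Groth.Agent.Lib.Helper26.KunM

/-!
# The total complex as an acyclic graded resolution; its `Γ_{T₊}`-cohomology in degree `d`
(helper26)
-/

set_option autoImplicit false
set_option linter.unusedSectionVars false
set_option linter.dupNamespace false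
universe u
open scoped TensorProduct

namespace Groth.Agent.Lib.helper26.Kun

open GrLC Groth.Agent.Lib.helper19.GrConv Groth.Agent.Lib.helper19.GrMod
  Groth.Agent.Lib.helper26.Seg Groth.Agent.Lib.helper26.GrCM Groth.Agent.Lib.helper26.Acyc

section MkHExt

variable {ι : Type} [AddCommGroup ι] [DecidableEq ι] {R : Type u} [CommRing R]
  {𝒜 : ι → AddSubgroup R} [GradedRing 𝒜]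
  {M : Type u} [AddCommGroup M] [Module R M] {ℳ : ι → AddSubgroup M}
  [DirectSum.Decomposition ℳ] [SetLike.GradedSMul 𝒜 ℳ]
  (A : GRes 𝒜 ℳ) (a : HomogeneousIdeal 𝒜)

theorem mkH_ext (n : ℕ) (g : ι) {x x' : (A.X n).carrier} (h : x = x') (hx hg hd hx' hg' hd') :
    mkH A a n g x hx hg hd = mkH A a n g x' hx' hg' hd' := by
  subst h
  rfl

end MkHExt

section KToDeg0A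

variable {k : Type u} [Field k] {T : Type u} [CommRing T] [Algebra k T]
  (𝒯 : ℤ → Submodule k T) [GradedAlgebra 𝒯]

/-- `kToDeg0` with values in the degree zero part of the additive grading -/
noncomputable def kToDeg0A : k →+* deg0 (addGr 𝒯) := kToDeg0 𝒯

@[simp] theorem coe_kToDeg0A (c : k) : ((kToDeg0A 𝒯 c : deg0 (addGr 𝒯)) : T) = algebraMap k T c :=
  rfl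

theorem kToDeg0A_bijective [Nontrivial T] (h0T : 𝒯 0 = Submodule.span k {(1 : T)}) :
    Function.Bijective (kToDeg0A 𝒯) := kToDeg0_bijective 𝒯 h0T

end KToDeg0A

section TotGRes

variable {k : Type u} [Field k] {R : Type u} [CommRing R] [Algebra k R]
  (𝒜 : ℤ → Submodule k R) [GradedAlgebra 𝒜]
  {S : Type u} [CommRing S] [Algebra k S] (ℬ : ℤ → Submodule k S) [GradedAlgebra ℬ]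
  {T : Type u} [CommRing T] [Algebra k T] (𝒯 : ℤ → Submodule k T) [GradedAlgebra 𝒯]
  (ψ : T →ₐ[k] R ⊗[k] S) (hT : GrSeg.IsSegreRing 𝒜 ℬ 𝒯 ψ)
  {I : ℕ → Type u} [∀ p, AddCommGroup (I p)] [∀ p, Module R (I p)] [∀ p, Module k (I p)]
  [∀ p, IsScalarTower k R (I p)]
  (ℐ : ∀ p, ℤ → AddSubgroup (I p)) [∀ p, DirectSum.Decomposition (ℐ p)]
  [∀ p, SetLike.GradedSMul 𝒜 (ℐ p)]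
  (dI : ∀ p, I p →ₗ[R] I (p + 1)) (hdI : ∀ p, IsGrHom (ℐ p) (ℐ (p + 1)) (dI p))
  {J : ℕ → Type u} [∀ q, AddCommGroup (J q)] [∀ q, Module S (J q)] [∀ q, Module k (J q)]
  [∀ q, IsScalarTower k S (J q)]
  (𝒥 : ∀ q, ℤ → AddSubgroup (J q)) [∀ q, DirectSum.Decomposition (𝒥 q)]
  [∀ q, SetLike.GradedSMul ℬ (𝒥 q)]
  (dJ : ∀ q, J q →ₗ[S] J (q + 1)) (hdJ : ∀ q, IsGrHom (𝒥 q) (𝒥 (q + 1)) (dJ q))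
  (hI2 : ∀ p x, dI (p + 1) (dI p x) = 0)
  (exI : ∀ p, LinearMap.ker (dI (p + 1)) ≤ LinearMap.range (dI p))
  (hJ2 : ∀ q x, dJ (q + 1) (dJ q x) = 0)
  (exJ : ∀ q, LinearMap.ker (dJ (q + 1)) ≤ LinearMap.range (dJ q))
  {M : Type u} [AddCommGroup M] [Module R M] [Module k M] [IsScalarTower k R M]
  (ℳ : ℤ → AddSubgroup M) [DirectSum.Decomposition ℳ] [SetLike.GradedSMul 𝒜 ℳ]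
  (εM : M →ₗ[R] I 0) (hεM : IsGrHom ℳ (ℐ 0) εM) (hεMi : Function.Injective εM)
  (hεMe : LinearMap.ker (dI 0) = LinearMap.range εM)
  {N : Type u} [AddCommGroup N] [Module S N] [Module k N] [IsScalarTower k S N]
  (𝒩 : ℤ → AddSubgroup N) [DirectSum.Decomposition 𝒩] [SetLike.GradedSMul ℬ 𝒩]
  (εN : N →ₗ[S] J 0) (hεN : IsGrHom 𝒩 (𝒥 0) εN) (hεNi : Function.Injective εN)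
  (hεNe : LinearMap.ker (dJ 0) = LinearMap.range εN)
  {P : Type u} [AddCommGroup P] [Module T P] [Module k P] [IsScalarTower k T P]
  (𝒬 : ℤ → AddSubgroup P) [DirectSum.Decomposition 𝒬] [SetLike.GradedSMul 𝒯 𝒬]
  (φ : P →ₗ[k] M ⊗[k] N) (hP : GrSeg.IsSegreMod ψ ℳ 𝒩 𝒬 φ)

attribute [local instance] gsmulAdd

/-- **the total complex of `I^• # J^•` as a graded resolution of `M # N`** -/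
noncomputable def totRes : GRes (addGr 𝒯) 𝒬 where
  X := totX 𝒜 ℬ 𝒯 ψ hT ℐ 𝒥
  d := totd 𝒜 ℬ 𝒯 ψ hT ℐ dI hdI 𝒥 dJ hdJ
  ε := epsT 𝒜 ℬ 𝒯 ψ hT ℐ 𝒥 ℳ εM hεM 𝒩 εN hεN 𝒬 φ hP
  d_grHom := totd_isGrHom 𝒜 ℬ 𝒯 ψ hT ℐ dI hdI 𝒥 dJ hdJ
  ε_grHom := epsT_grHom 𝒜 ℬ 𝒯 ψ hT ℐ 𝒥 ℳ εM hεM 𝒩 εN hεN 𝒬 φ hP
  ε_injective := epsT_injective 𝒜 ℬ 𝒯 ψ hT ℐ 𝒥 ℳ εM hεM hεMi 𝒩 εN hεN hεNi 𝒬 φ hP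
  exact_zero := le_antisymm
    (ker_totd_zero_le 𝒜 ℬ 𝒯 ψ hT ℐ dI hdI 𝒥 dJ hdJ hI2 hJ2 ℳ εM hεM hεMi hεMe 𝒩 εN hεN hεNi hεNe
      𝒬 φ hP)
    (by
      rintro _ ⟨p, rfl⟩
      exact LinearMap.mem_ker.2
        (totd_epsT 𝒜 ℬ 𝒯 ψ hT ℐ dI hdI 𝒥 dJ hdJ ℳ εM hεM hεMe 𝒩 εN hεN hεNe 𝒬 φ hP p))
  exact_succ n := le_antisymm
    (totd_exact 𝒜 ℬ 𝒯 ψ hT ℐ dI hdI 𝒥 dJ hdJ hI2 exI hJ2 exJ n)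
    (by
      rintro _ ⟨x, rfl⟩
      exact LinearMap.mem_ker.2 (totd_totd 𝒜 ℬ 𝒯 ψ hT ℐ dI hdI 𝒥 dJ hdJ hI2 hJ2 n x))

section Acyclic

variable [IsNoetherianRing R] [IsNoetherianRing S] [IsNoetherianRing T]
  [IsNoetherianRing (R ⊗[k] S)]

theorem totX_isAcyc (hI : ∀ p, IsStarInj 𝒜 (ℐ p)) (hJ : ∀ q, IsStarInj ℬ (𝒥 q))
    (mT : HomogeneousIdeal 𝒯) (hmT : mT.toIdeal = irr 𝒯) (n : ℕ) :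
    IsAcyc (idealAdd 𝒯 mT) (totX 𝒜 ℬ 𝒯 ψ hT ℐ 𝒥 n) := by
  refine pi_isAcyc _ _ (fun pq i hi => ?_)
  rw [idealAdd_toIdeal, hmT]
  exact seg_acyclic 𝒜 ℬ 𝒯 ψ hT (ℐ pq.1.1) (𝒥 pq.1.2) (hI _) (hJ _) i hi

end Acyclic

section ClsT

variable [IsNoetherianRing R] [IsNoetherianRing S]
  (mT : HomogeneousIdeal 𝒯) (hmT : mT.toIdeal = irr 𝒯) (d : ℤ)

/-- the cocycles of the torsion subcomplex of the abstract total complex in degree `d` -/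
noncomputable abbrev ZKd (n : ℕ) : Submodule k (GTd 𝒜 ℬ ℐ 𝒥 d) :=
  ZK (dpI 𝒜 ℐ dI hdI d) (tsI 𝒜 ℐ d) (dpI ℬ 𝒥 dJ hdJ d) (tsI ℬ 𝒥 d) n

/-- the coboundaries of the torsion subcomplex of the abstract total complex in degree `d` -/
noncomputable abbrev BKd (n : ℕ) : Submodule k (GTd 𝒜 ℬ ℐ 𝒥 d) :=
  BK (dpI 𝒜 ℐ dI hdI d) (tsI 𝒜 ℐ d) (dpI ℬ 𝒥 dJ hdJ d) (tsI ℬ 𝒥 d) n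

include hmT in
theorem brg_mem_gam_of_mem_ZKd {n : ℕ} {w : GTd 𝒜 ℬ ℐ 𝒥 d}
    (hw : w ∈ ZKd 𝒜 ℬ ℐ dI hdI 𝒥 dJ hdJ d n) :
    brg 𝒜 ℬ 𝒯 ψ hT ℐ 𝒥 d n w ∈
      gam (idealAdd 𝒯 mT).toIdeal (totX 𝒜 ℬ 𝒯 ψ hT ℐ 𝒥 n).carrier := by
  rw [idealAdd_toIdeal, hmT]
  exact (brg_mem_gam_iff 𝒜 ℬ 𝒯 ψ hT ℐ 𝒥 d hw.2.2).2 hw.1

theorem totd_brg_of_mem_ZKd {n : ℕ} {w : GTd 𝒜 ℬ ℐ 𝒥 d}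
    (hw : w ∈ ZKd 𝒜 ℬ ℐ dI hdI 𝒥 dJ hdJ d n) :
    totd 𝒜 ℬ 𝒯 ψ hT ℐ dI hdI 𝒥 dJ hdJ n (brg 𝒜 ℬ 𝒯 ψ hT ℐ 𝒥 d n w) = 0 := by
  have h1 := totD_brg 𝒜 ℬ 𝒯 ψ hT ℐ dI hdI 𝒥 dJ hdJ d hw.2.2
  have h2 : DGa 𝒜 ℬ ℐ dI hdI 𝒥 dJ hdJ d w = 0 := hw.2.1
  rw [h2, map_zero] at h1
  exact h1

/-- the class map from the abstract torsion cocycles to the degree `d` piece of the cohomology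
of `Γ_{T₊}` of the total complex -/
noncomputable def clsT (n : ℕ) :
    ↥(ZKd 𝒜 ℬ ℐ dI hdI 𝒥 dJ hdJ d n) →+
      ↥((totRes 𝒜 ℬ 𝒯 ψ hT ℐ dI hdI 𝒥 dJ hdJ hI2 exI hJ2 exJ ℳ εM hεM hεMi hεMe 𝒩 εN hεN hεNi hεNe
        𝒬 φ hP).Hcomp (idealAdd 𝒯 mT) n d) where
  toFun z := mkH (totRes 𝒜 ℬ 𝒯 ψ hT ℐ dI hdI 𝒥 dJ hdJ hI2 exI hJ2 exJ ℳ εM hεM hεMi hεMe 𝒩 εN hεN
      hεNi hεNe 𝒬 φ hP) (idealAdd 𝒯 mT) n d (brg 𝒜 ℬ 𝒯 ψ hT ℐ 𝒥 d n z.1)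
    (brg_mem_segGr 𝒜 ℬ 𝒯 ψ hT ℐ 𝒥 d n z.1)
    (brg_mem_gam_of_mem_ZKd 𝒜 ℬ 𝒯 ψ hT ℐ dI hdI 𝒥 dJ hdJ mT hmT d z.2)
    (totd_brg_of_mem_ZKd 𝒜 ℬ 𝒯 ψ hT ℐ dI hdI 𝒥 dJ hdJ d z.2)
  map_zero' := by
    apply Subtype.ext
    refine ((GRes.toH_eq_zero_iff _ _ _ _).2 ?_)
    show brg 𝒜 ℬ 𝒯 ψ hT ℐ 𝒥 d n 0 ∈ _
    rw [map_zero]
    exact zero_mem _
  map_add' z z' := by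
    have hx := brg_mem_segGr 𝒜 ℬ 𝒯 ψ hT ℐ 𝒥 d n z.1
    have hx' := brg_mem_segGr 𝒜 ℬ 𝒯 ψ hT ℐ 𝒥 d n z'.1
    have hg := brg_mem_gam_of_mem_ZKd 𝒜 ℬ 𝒯 ψ hT ℐ dI hdI 𝒥 dJ hdJ mT hmT d z.2
    have hg' := brg_mem_gam_of_mem_ZKd 𝒜 ℬ 𝒯 ψ hT ℐ dI hdI 𝒥 dJ hdJ mT hmT d z'.2
    have hd := totd_brg_of_mem_ZKd 𝒜 ℬ 𝒯 ψ hT ℐ dI hdI 𝒥 dJ hdJ d z.2
    have hd' := totd_brg_of_mem_ZKd 𝒜 ℬ 𝒯 ψ hT ℐ dI hdI 𝒥 dJ hdJ d z'.2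
    have e := mkH_add (totRes 𝒜 ℬ 𝒯 ψ hT ℐ dI hdI 𝒥 dJ hdJ hI2 exI hJ2 exJ ℳ εM hεM hεMi hεMe 𝒩 εN
      hεN hεNi hεNe 𝒬 φ hP) (idealAdd 𝒯 mT) n d _ _ hx hx' hg hg' hd hd'
    exact (mkH_ext _ _ n d (map_add (brg 𝒜 ℬ 𝒯 ψ hT ℐ 𝒥 d n) z.1 z'.1) _ _ _ _ _ _).trans e

theorem clsT_smul (n : ℕ) (c : k) (z : ↥(ZKd 𝒜 ℬ ℐ dI hdI 𝒥 dJ hdJ d n)) :
    clsT 𝒜 ℬ 𝒯 ψ hT ℐ dI hdI 𝒥 dJ hdJ hI2 exI hJ2 exJ ℳ εM hεM hεMi hεMe 𝒩 εN hεN hεNi hεNe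
        𝒬 φ hP mT hmT d n (c • z) =
      kToDeg0A 𝒯 c •
        clsT 𝒜 ℬ 𝒯 ψ hT ℐ dI hdI 𝒥 dJ hdJ hI2 exI hJ2 exJ ℳ εM hεM hεMi hεMe 𝒩 εN hεN hεNi hεNe
          𝒬 φ hP mT hmT d n z := by
  apply Subtype.ext
  show (totRes 𝒜 ℬ 𝒯 ψ hT ℐ dI hdI 𝒥 dJ hdJ hI2 exI hJ2 exJ ℳ εM hεM hεMi hεMe 𝒩 εN hεN hεNi hεNe
      𝒬 φ hP).toH (idealAdd 𝒯 mT) n ⟨brg 𝒜 ℬ 𝒯 ψ hT ℐ 𝒥 d n (c • z.1), _⟩ =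
    (algebraMap k T c) • (totRes 𝒜 ℬ 𝒯 ψ hT ℐ dI hdI 𝒥 dJ hdJ hI2 exI hJ2 exJ ℳ εM hεM hεMi hεMe 𝒩 εN
      hεN hεNi hεNe 𝒬 φ hP).toH (idealAdd 𝒯 mT) n ⟨brg 𝒜 ℬ 𝒯 ψ hT ℐ 𝒥 d n z.1, _⟩
  rw [← map_smul]
  congr 1
  apply Subtype.ext
  exact brg_ksmul 𝒜 ℬ 𝒯 ψ hT ℐ 𝒥 d n c z.1

theorem clsT_surjective (n : ℕ) :
    Function.Surjective (clsT 𝒜 ℬ 𝒯 ψ hT ℐ dI hdI 𝒥 dJ hdJ hI2 exI hJ2 exJ ℳ εM hεM hεMi hεMe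
      𝒩 εN hεN hεNi hεNe 𝒬 φ hP mT hmT d n) := by
  intro y
  obtain ⟨x, hx, hg, hd, rfl⟩ := mkH_surjective _ _ n d y
  obtain ⟨w, hw, rfl⟩ := exists_brg 𝒜 ℬ 𝒯 ψ hT ℐ 𝒥 d n x hx
  rw [idealAdd_toIdeal, hmT] at hg
  have hQ : QG (tq (tsI 𝒜 ℐ d) (tsI ℬ 𝒥 d)) w = 0 :=
    (brg_mem_gam_iff 𝒜 ℬ 𝒯 ψ hT ℐ 𝒥 d hw).1 hg
  have hD : DGa 𝒜 ℬ ℐ dI hdI 𝒥 dJ hdJ d w = 0 := by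
    apply brg_eq_zero 𝒜 ℬ 𝒯 ψ hT ℐ 𝒥 d (DG_mem_Tn _ _ hw)
    rw [← totD_brg 𝒜 ℬ 𝒯 ψ hT ℐ dI hdI 𝒥 dJ hdJ d hw]
    exact hd
  exact ⟨⟨w, LinearMap.mem_ker.2 hQ, LinearMap.mem_ker.2 hD, hw⟩, rfl⟩

theorem clsT_eq_zero_iff (n : ℕ) (z : ↥(ZKd 𝒜 ℬ ℐ dI hdI 𝒥 dJ hdJ d n)) :
    clsT 𝒜 ℬ 𝒯 ψ hT ℐ dI hdI 𝒥 dJ hdJ hI2 exI hJ2 exJ ℳ εM hεM hεMi hεMe 𝒩 εN hεN hεNi hεNe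
        𝒬 φ hP mT hmT d n z = 0 ↔
      (z : GTd 𝒜 ℬ ℐ 𝒥 d) ∈ BKd 𝒜 ℬ ℐ dI hdI 𝒥 dJ hdJ d n := by
  cases n with
  | zero =>
    refine (mkH_eq_zero_zero (totRes 𝒜 ℬ 𝒯 ψ hT ℐ dI hdI 𝒥 dJ hdJ hI2 exI hJ2 exJ ℳ εM hεM hεMi hεMe 𝒩 εN
      hεN hεNi hεNe 𝒬 φ hP) (idealAdd 𝒯 mT) d (brg 𝒜 ℬ 𝒯 ψ hT ℐ 𝒥 d 0 z.1)
      (brg_mem_segGr 𝒜 ℬ 𝒯 ψ hT ℐ 𝒥 d 0 z.1)
      (brg_mem_gam_of_mem_ZKd 𝒜 ℬ 𝒯 ψ hT ℐ dI hdI 𝒥 dJ hdJ mT hmT d z.2)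
      (totd_brg_of_mem_ZKd 𝒜 ℬ 𝒯 ψ hT ℐ dI hdI 𝒥 dJ hdJ d z.2)).trans ?_
    show _ ↔ z.1 ∈ (⊥ : Submodule k (GTd 𝒜 ℬ ℐ 𝒥 d))
    rw [Submodule.mem_bot]
    constructor
    · intro h
      exact brg_eq_zero 𝒜 ℬ 𝒯 ψ hT ℐ 𝒥 d z.2.2.2 h
    · intro h
      rw [h, map_zero]
      rfl
  | succ n =>
    refine (mkH_eq_zero_succ (totRes 𝒜 ℬ 𝒯 ψ hT ℐ dI hdI 𝒥 dJ hdJ hI2 exI hJ2 exJ ℳ εM hεM hεMi hεMe 𝒩 εN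
      hεN hεNi hεNe 𝒬 φ hP) (idealAdd 𝒯 mT) n d (brg 𝒜 ℬ 𝒯 ψ hT ℐ 𝒥 d (n + 1) z.1)
      (brg_mem_segGr 𝒜 ℬ 𝒯 ψ hT ℐ 𝒥 d (n + 1) z.1)
      (brg_mem_gam_of_mem_ZKd 𝒜 ℬ 𝒯 ψ hT ℐ dI hdI 𝒥 dJ hdJ mT hmT d z.2)
      (totd_brg_of_mem_ZKd 𝒜 ℬ 𝒯 ψ hT ℐ dI hdI 𝒥 dJ hdJ d z.2)).trans ?_
    constructor
    · rintro ⟨u, hu, hg, hux⟩
      obtain ⟨v, hv, rfl⟩ := exists_brg 𝒜 ℬ 𝒯 ψ hT ℐ 𝒥 d n u hu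
      rw [idealAdd_toIdeal, hmT] at hg
      have hQ := (brg_mem_gam_iff 𝒜 ℬ 𝒯 ψ hT ℐ 𝒥 d hv).1 hg
      refine ⟨v, ⟨LinearMap.mem_ker.2 hQ, hv⟩, ?_⟩
      apply brg_injOn 𝒜 ℬ 𝒯 ψ hT ℐ 𝒥 d (DG_mem_Tn _ _ hv) z.2.2.2
      rw [← totD_brg 𝒜 ℬ 𝒯 ψ hT ℐ dI hdI 𝒥 dJ hdJ d hv]
      exact hux
    · rintro ⟨v, ⟨hQ, hv⟩, hvz⟩
      refine ⟨brg 𝒜 ℬ 𝒯 ψ hT ℐ 𝒥 d n v, brg_mem_segGr 𝒜 ℬ 𝒯 ψ hT ℐ 𝒥 d n v, ?_, ?_⟩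
      · rw [idealAdd_toIdeal, hmT]
        exact (brg_mem_gam_iff 𝒜 ℬ 𝒯 ψ hT ℐ 𝒥 d hv).2 hQ
      · have h1 := totD_brg 𝒜 ℬ 𝒯 ψ hT ℐ dI hdI 𝒥 dJ hdJ d hv
        have hvz' : DGa 𝒜 ℬ ℐ dI hdI 𝒥 dJ hdJ d v = z.1 := hvz
        rw [hvz'] at h1
        exact h1

variable [Nontrivial T] (h0T : 𝒯 0 = Submodule.span k {(1 : T)})

include h0T hmT in
/-- **the `Γ_{T₊}`-cohomology of the total complex in degree `d`** -/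
theorem finrank_totRes (n : ℕ) :
    Module.finrank (deg0 (addGr 𝒯))
        ((totRes 𝒜 ℬ 𝒯 ψ hT ℐ dI hdI 𝒥 dJ hdJ hI2 exI hJ2 exJ ℳ εM hεM hεMi hεMe 𝒩 εN hεN hεNi hεNe
          𝒬 φ hP).Hcomp (idealAdd 𝒯 mT) n d) =
      Module.finrank k (Hq (ZKd 𝒜 ℬ ℐ dI hdI 𝒥 dJ hdJ d n) (BKd 𝒜 ℬ ℐ dI hdI 𝒥 dJ hdJ d n)) :=
  (finrank_of_semilinear (kToDeg0A 𝒯) (kToDeg0A_bijective 𝒯 h0T) _ _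
    (clsT 𝒜 ℬ 𝒯 ψ hT ℐ dI hdI 𝒥 dJ hdJ hI2 exI hJ2 exJ ℳ εM hεM hεMi hεMe 𝒩 εN hεN hεNi hεNe
      𝒬 φ hP mT hmT d n)
    (clsT_smul 𝒜 ℬ 𝒯 ψ hT ℐ dI hdI 𝒥 dJ hdJ hI2 exI hJ2 exJ ℳ εM hεM hεMi hεMe 𝒩 εN hεN hεNi hεNe
      𝒬 φ hP mT hmT d n)
    (clsT_surjective 𝒜 ℬ 𝒯 ψ hT ℐ dI hdI 𝒥 dJ hdJ hI2 exI hJ2 exJ ℳ εM hεM hεMi hεMe 𝒩 εN hεN hεNi
      hεNe 𝒬 φ hP mT hmT d n)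
    (clsT_eq_zero_iff 𝒜 ℬ 𝒯 ψ hT ℐ dI hdI 𝒥 dJ hdJ hI2 exI hJ2 exJ ℳ εM hεM hεMi hεMe 𝒩 εN hεN hεNi
      hεNe 𝒬 φ hP mT hmT d n)).symm

end ClsT

end TotGRes

end Groth.Agent.Lib.helper26.Kun
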