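import Mathlib
import Groth.Prelude.Def_GrLC
import Groth.Agent.Lib.Helper19.GrFin4
import Groth.Agent.Lib.Helper26.KunK
import Groth.Agent.Lib.Helper26.KunM

/-!
# The degree `d` part of a *injective resolution: cocycles in degree zero and finiteness (helper26)

`finrank_comp_eq` : `dim_{R_0} M_d = dim_k Z^0(E_d)`; `finite_ker_dCE_zero`, `finite_HS` :
finiteness over `k` of the cocycles in degree zero and of the cohomology of the torsion subcomplex
(from the finiteness of the pieces of local cohomology).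
-/

set_option autoImplicit false
set_option linter.unusedSectionVars false
set_option linter.dupNamespace false
universe u
open scoped TensorProduct

namespace Groth.Agent.Lib.helper26.Kun

open GrLC Groth.Agent.Lib.helper19.GrConv Groth.Agent.Lib.helper19.GrMod
  Groth.Agent.Lib.helper26.Seg Groth.Agent.Lib.helper26.GrCM Groth.Agent.Lib.helper26.Acyc

section Semilinear2

/-- finiteness transfers along a semilinear additive equivalence -/
theorem finite_of_addEquiv_semilinear {K L : Type u} [Semiring K] [Semiring L] (i : K → L)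
    (hi : Function.Surjective i) {V H : Type u} [AddCommMonoid V] [Module K V] [AddCommMonoid H]
    [Module L H] (j : V ≃+ H) (hj : ∀ (c : K) (v : V), j (c • v) = i c • j v)
    [Module.Finite L H] : Module.Finite K V := by
  classical
  obtain ⟨s, hs⟩ := (Module.Finite.fg_top : (⊤ : Submodule L H).FG)
  refine ⟨⟨s.image j.symm, ?_⟩⟩
  rw [eq_top_iff]
  intro v _
  have key : ∀ x ∈ Submodule.span L (s : Set H),
      j.symm x ∈ Submodule.span K ((s.image j.symm : Finset V) : Set V) := by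
    intro x hx
    induction hx using Submodule.span_induction with
    | mem x hx =>
      apply Submodule.subset_span
      rw [Finset.coe_image]
      exact ⟨x, hx, rfl⟩
    | zero => rw [map_zero]; exact zero_mem _
    | add x y _ _ hx hy => rw [map_add]; exact add_mem hx hy
    | smul r x _ hx =>
      obtain ⟨c, rfl⟩ := hi r
      have e : j.symm (i c • x) = c • j.symm x := by
        apply j.injective
        rw [hj, AddEquiv.apply_symm_apply, AddEquiv.apply_symm_apply]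
      rw [e]
      exact Submodule.smul_mem _ _ hx
  have h := key (j v) (hs ▸ Submodule.mem_top)
  rwa [AddEquiv.symm_apply_apply] at h

/-- finiteness of a subquotient from a semilinear surjection onto a finite module -/
theorem finite_of_semilinear {K : Type u} [Field K] {L : Type u} [Ring L] (i : K →+* L)
    (hi : Function.Surjective i) {V : Type u} [AddCommGroup V] [Module K V] (Z B : Submodule K V)
    {H : Type u} [AddCommGroup H] [Module L H] [Module.Finite L H] (f : ↥Z →+ H)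
    (hf : ∀ (c : K) (z : ↥Z), f (c • z) = i c • f z) (hs : Function.Surjective f)
    (hk : ∀ z : ↥Z, f z = 0 ↔ (z : V) ∈ B) : Module.Finite K (Hq Z B) := by
  let mK : Module K H := Module.compHom H i
  let f' : ↥Z →ₗ[K] H :=
    { toFun := f
      map_add' := map_add f
      map_smul' := fun c z => hf c z }
  have e : Hq Z B ≃ₗ[K] H := Hq.equivOfSurjective f' hs hk
  exact finite_of_addEquiv_semilinear i hi e.toAddEquiv (fun c v => e.map_smul c v)

end Semilinear2

section RSide2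

variable {k : Type u} [Field k] {R : Type u} [CommRing R] [Algebra k R]
  (𝒜 : ℤ → Submodule k R) [GradedAlgebra 𝒜]
  {M : Type u} [AddCommGroup M] [Module R M] (ℳ : ℤ → AddSubgroup M)
  [DirectSum.Decomposition ℳ] [SetLike.GradedSMul 𝒜 ℳ]
  (E : StarInjRes 𝒜 ℳ) [∀ p, Module k (E.X p).carrier] [∀ p, IsScalarTower k R (E.X p).carrier]
  (mR : HomogeneousIdeal 𝒜) (hmR : mR.toIdeal = irr 𝒜) (d : ℤ)

attribute [local instance] gsmulAdd

omit [∀ p, Module k (E.X p).carrier] [∀ p, IsScalarTower k R (E.X p).carrier] in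
theorem E_d_d (p : ℕ) (x : (E.X p).carrier) : E.d (p + 1) (E.d p x) = 0 :=
  LinearMap.mem_ker.1 ((E.exact_succ p).symm ▸ LinearMap.mem_range_self _ x)

omit [∀ p, Module k (E.X p).carrier] [∀ p, IsScalarTower k R (E.X p).carrier] in
theorem E_exact (p : ℕ) : LinearMap.ker (E.d (p + 1)) ≤ LinearMap.range (E.d p) :=
  (E.exact_succ p).le

/-- the augmentation on the degree `d` piece, onto the cocycles of degree zero -/
noncomputable def epsC : ↥(comp 𝒜 ℳ d) →+ ↥(LinearMap.ker (dCE 𝒜 ℳ E d 0)) where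
  toFun m := ⟨⟨E.ε m.1, E.ε_grHom d m.1 m.2⟩, LinearMap.mem_ker.2 (Subtype.ext (by
    show E.d 0 (E.ε m.1) = 0
    exact LinearMap.mem_ker.1 (E.exact_zero.symm ▸ LinearMap.mem_range_self _ m.1)))⟩
  map_zero' := by
    apply Subtype.ext
    apply Subtype.ext
    show E.ε ((0 : ↥(comp 𝒜 ℳ d)) : M) = 0
    rw [ZeroMemClass.coe_zero, map_zero]
  map_add' m m' := by
    apply Subtype.ext
    apply Subtype.ext
    show E.ε ((m + m' : ↥(comp 𝒜 ℳ d)) : M) = E.ε m.1 + E.ε m'.1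
    rw [AddMemClass.coe_add, map_add]

theorem epsC_injective : Function.Injective (epsC 𝒜 ℳ E d) := by
  intro m m' h
  apply Subtype.ext
  apply E.ε_injective
  exact congrArg (fun z : ↥(LinearMap.ker (dCE 𝒜 ℳ E d 0)) => ((z : CE 𝒜 ℳ E d 0) : (E.X 0).carrier)) h

theorem epsC_surjective : Function.Surjective (epsC 𝒜 ℳ E d) := by
  intro z
  have hz : E.d 0 ((z : CE 𝒜 ℳ E d 0) : (E.X 0).carrier) = 0 :=
    congrArg Subtype.val (LinearMap.mem_ker.1 z.2)
  have hz' : ((z : CE 𝒜 ℳ E d 0) : (E.X 0).carrier) ∈ LinearMap.range E.ε :=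
    E.exact_zero ▸ LinearMap.mem_ker.2 hz
  obtain ⟨m, hm⟩ := hz'
  have hmd : m ∈ ℳ d := by
    apply mem_of_map_mem ℳ (E.X 0).gr E.ε E.ε_grHom E.ε_injective
    rw [hm]
    exact z.1.2
  refine ⟨⟨m, hmd⟩, ?_⟩
  apply Subtype.ext
  apply Subtype.ext
  exact hm

theorem epsC_smul (c : k) (m : ↥(comp 𝒜 ℳ d)) :
    epsC 𝒜 ℳ E d (kToDeg0 𝒜 c • m) = c • epsC 𝒜 ℳ E d m := by
  apply Subtype.ext
  apply Subtype.ext
  show E.ε ((algebraMap k R c) • (m : M)) = c • E.ε (m : M)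
  rw [map_smul, algebraMap_smul]

/-- the inverse additive equivalence -/
noncomputable def epsCEquiv : ↥(LinearMap.ker (dCE 𝒜 ℳ E d 0)) ≃+ ↥(comp 𝒜 ℳ d) :=
  (AddEquiv.ofBijective (epsC 𝒜 ℳ E d) ⟨epsC_injective 𝒜 ℳ E d, epsC_surjective 𝒜 ℳ E d⟩).symm

theorem epsCEquiv_smul (c : k) (z : ↥(LinearMap.ker (dCE 𝒜 ℳ E d 0))) :
    epsCEquiv 𝒜 ℳ E d (c • z) = kToDeg0 𝒜 c • epsCEquiv 𝒜 ℳ E d z := by
  apply (epsCEquiv 𝒜 ℳ E d).symm.injective
  rw [AddEquiv.symm_apply_apply]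
  show c • z = epsC 𝒜 ℳ E d (kToDeg0 𝒜 c • epsCEquiv 𝒜 ℳ E d z)
  rw [epsC_smul]
  congr 1
  exact ((epsCEquiv 𝒜 ℳ E d).symm_apply_apply z).symm

variable [Nontrivial R] (h0R : 𝒜 0 = Submodule.span k {(1 : R)})

include h0R in
/-- **`dim_{R_0} M_d = dim_k Z^0(E_d)`** -/
theorem finrank_comp_eq :
    Module.finrank (deg0 𝒜) (comp 𝒜 ℳ d) =
      Module.finrank k ↥(LinearMap.ker (dCE 𝒜 ℳ E d 0)) := by
  have hrank := rank_eq_of_equiv_equiv (kToDeg0 𝒜) (epsCEquiv 𝒜 ℳ E d)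
    (kToDeg0_bijective 𝒜 h0R) (epsCEquiv_smul 𝒜 ℳ E d)
  unfold Module.finrank
  rw [hrank]

variable [IsNoetherianRing R] [Module.Finite R M] (hposR : ∀ n : ℤ, n < 0 → 𝒜 n = ⊥)

include h0R hposR in
theorem finite_ker_dCE_zero : Module.Finite k ↥(LinearMap.ker (dCE 𝒜 ℳ E d 0)) := by
  have hpos' : ∀ n : ℤ, n < 0 → addGr 𝒜 n = ⊥ := by
    intro n hn
    show (𝒜 n).toAddSubgroup = ⊥
    rw [hposR n hn]
    rfl
  have hfin : Module.Finite (deg0 𝒜) (comp 𝒜 ℳ d) :=
    Groth.Agent.Lib.helper19.GrFin.finite_comp (addGr 𝒜) hpos' ℳ d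
  exact finite_of_addEquiv_semilinear (kToDeg0 𝒜) (kToDeg0_bijective 𝒜 h0R).2
    (epsCEquiv 𝒜 ℳ E d) (epsCEquiv_smul 𝒜 ℳ E d)

include h0R hposR hmR in
theorem finite_Hcomp (i : ℕ) : Module.Finite (deg0 𝒜) (E.Hcomp mR i d) := by
  have hpos' : ∀ n : ℤ, n < 0 → addGr 𝒜 n = ⊥ := by
    intro n hn
    show (𝒜 n).toAddSubgroup = ⊥
    rw [hposR n hn]
    rfl
  have ha : (idealAdd 𝒜 mR).toIdeal = Groth.Agent.Lib.helper19.GrFin.irr (addGr 𝒜) := by
    rw [idealAdd_toIdeal, hmR]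
    rfl
  exact Module.Finite.iff_fg.2
    ((Groth.Agent.Lib.helper19.GrFin.main (addGr 𝒜) hpos' (idealAdd 𝒜 mR) ha i M ℳ
      (resAddG 𝒜 ℳ E)).1 d)

include h0R hposR hmR in
theorem finite_HS (i : ℕ) : Module.Finite k (HS (dCE 𝒜 ℳ E d) (tCE 𝒜 ℳ E d) i) := by
  have := finite_Hcomp 𝒜 ℳ E mR hmR d h0R hposR i
  exact finite_of_semilinear (kToDeg0 𝒜) (kToDeg0_bijective 𝒜 h0R).2 _ _
    (clsR 𝒜 ℳ E mR hmR d i) (clsR_smul 𝒜 ℳ E mR hmR d i) (clsR_surjective 𝒜 ℳ E mR hmR d i)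
    (clsR_eq_zero_iff 𝒜 ℳ E mR hmR d i)

end RSide2

end Groth.Agent.Lib.helper26.Kun
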