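import Mathlib
import Groth.Prelude.Def_GrLC
import Groth.Prelude.Def_GrSeg
import Groth.Agent.Lib.Helper26.Seg7
import Groth.Agent.Lib.Helper26.Seg13
import Groth.Agent.Lib.Helper26.KunG
import Groth.Agent.Lib.Helper26.KunN
import Groth.Agent.Lib.Helper26.KunO

/-!
# The Künneth formula for the local cohomology of Segre products of modules (helper26)
-/

set_option autoImplicit false
set_option linter.unusedSectionVars false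
set_option linter.dupNamespace false
universe u
open scoped TensorProduct

namespace Groth.Agent.Lib.helper26.Kun

open GrLC Groth.Agent.Lib.helper19.GrConv Groth.Agent.Lib.helper19.GrMod
  Groth.Agent.Lib.helper26.Seg Groth.Agent.Lib.helper26.GrCM Groth.Agent.Lib.helper26.Acyc

attribute [local instance] gsmulAdd

/-- **Künneth formula for Segre products of modules**, degree by degree -/
theorem kunneth_segre {k : Type u} [Field k] {R : Type u} [CommRing R] [Nontrivial R] [Algebra k R]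
    (𝒜 : ℤ → Submodule k R) [GradedAlgebra 𝒜] (hposR : ∀ n : ℤ, n < 0 → 𝒜 n = ⊥)
    (h0R : 𝒜 0 = Submodule.span k {(1 : R)}) [Algebra.FiniteType k R]
    {S : Type u} [CommRing S] [Nontrivial S] [Algebra k S] (ℬ : ℤ → Submodule k S)
    [GradedAlgebra ℬ] (hposS : ∀ n : ℤ, n < 0 → ℬ n = ⊥)
    (h0S : ℬ 0 = Submodule.span k {(1 : S)}) [Algebra.FiniteType k S]
    {T : Type u} [CommRing T] [Algebra k T] (𝒯 : ℤ → Submodule k T) [GradedAlgebra 𝒯]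
    (ψ : T →ₐ[k] R ⊗[k] S) (hT : GrSeg.IsSegreRing 𝒜 ℬ 𝒯 ψ)
    (mR : HomogeneousIdeal 𝒜) (hmR : mR.toIdeal = irr 𝒜)
    (mS : HomogeneousIdeal ℬ) (hmS : mS.toIdeal = irr ℬ)
    (mT : HomogeneousIdeal 𝒯) (hmT : mT.toIdeal = irr 𝒯)
    {M : Type u} [AddCommGroup M] [Module R M] [Module k M] [IsScalarTower k R M]
    (ℳ : ℤ → AddSubgroup M) [DirectSum.Decomposition ℳ] [SetLike.GradedSMul 𝒜 ℳ]
    [Module.Finite R M] (EM : StarInjRes 𝒜 ℳ)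
    {N : Type u} [AddCommGroup N] [Module S N] [Module k N] [IsScalarTower k S N]
    (𝒩 : ℤ → AddSubgroup N) [DirectSum.Decomposition 𝒩] [SetLike.GradedSMul ℬ 𝒩]
    [Module.Finite S N] (EN : StarInjRes ℬ 𝒩)
    {P : Type u} [AddCommGroup P] [Module T P] [Module k P] [IsScalarTower k T P]
    (𝒬 : ℤ → AddSubgroup P) [DirectSum.Decomposition 𝒬] [SetLike.GradedSMul 𝒯 𝒬]
    (φ : P →ₗ[k] M ⊗[k] N) (hP : GrSeg.IsSegreMod ψ ℳ 𝒩 𝒬 φ) (EP : StarInjRes 𝒯 𝒬)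
    (hM : ∀ (q : ℕ) (d : ℤ), q ≤ 1 → EM.Hcomp mR q d = ⊥)
    (hN : ∀ (q : ℕ) (d : ℤ), q ≤ 1 → EN.Hcomp mS q d = ⊥) (q : ℕ) (d : ℤ) :
    Module.finrank (deg0 𝒯) (EP.Hcomp mT q d) =
      Module.finrank (deg0 𝒜) (comp 𝒜 ℳ d) * Module.finrank (deg0 ℬ) (EN.Hcomp mS q d) +
      Module.finrank (deg0 𝒜) (EM.Hcomp mR q d) * Module.finrank (deg0 ℬ) (comp ℬ 𝒩 d) +
      (Finset.range (q + 2)).sum (fun i =>
        Module.finrank (deg0 𝒜) (EM.Hcomp mR i d) *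
          Module.finrank (deg0 ℬ) (EN.Hcomp mS (q + 1 - i) d)) := by
  classical
  have hnoeR : IsNoetherianRing R := Algebra.FiniteType.isNoetherianRing k R
  have hnoeS : IsNoetherianRing S := Algebra.FiniteType.isNoetherianRing k S
  have hnoeRS : IsNoetherianRing (R ⊗[k] S) := Algebra.FiniteType.isNoetherianRing R (R ⊗[k] S)
  have hdegT : ∀ n : ℤ, (𝒯 n).map ψ.toLinearMap =
      Submodule.span k {x : R ⊗[k] S | ∃ a ∈ 𝒜 n, ∃ b ∈ ℬ n, x = a ⊗ₜ[k] b} := hT.2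
  have hFT : Algebra.FiniteType k T := finiteType_segre 𝒜 ℬ 𝒯 ψ hdegT hT.1 hposR h0R hposS h0S
  have hnoeT : IsNoetherianRing T := Algebra.FiniteType.isNoetherianRing k T
  have hNT : Nontrivial T := ψ.toRingHom.domain_nontrivial
  have h0T : 𝒯 0 = Submodule.span k {(1 : T)} := pieceT_zero 𝒜 ℬ 𝒯 ψ hdegT hT.1 h0R h0S
  let mkM : ∀ p, Module k (EM.X p).carrier := fun p => Module.compHom _ (algebraMap k R)
  have stM : ∀ p, IsScalarTower k R (EM.X p).carrier := fun p =>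
    IsScalarTower.of_algebraMap_smul fun _ _ => rfl
  let mkN : ∀ p, Module k (EN.X p).carrier := fun p => Module.compHom _ (algebraMap k S)
  have stN : ∀ p, IsScalarTower k S (EN.X p).carrier := fun p =>
    IsScalarTower.of_algebraMap_smul fun _ _ => rfl
  -- the total resolution
  have hA := totX_isAcyc 𝒜 ℬ 𝒯 ψ hT (fun p => (EM.X p).gr) (fun q => (EN.X q).gr)
    (fun p => EM.starInj p) (fun q => EN.starInj q) mT hmT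
  obtain ⟨e⟩ := acyc_Hcomp_equiv (idealAdd 𝒯 mT)
    (totRes 𝒜 ℬ 𝒯 ψ hT (fun p => (EM.X p).gr) EM.d EM.d_grHom (fun q => (EN.X q).gr) EN.d
      EN.d_grHom (E_d_d 𝒜 ℳ EM) (E_exact 𝒜 ℳ EM) (E_d_d ℬ 𝒩 EN) (E_exact ℬ 𝒩 EN)
      ℳ EM.ε EM.ε_grHom EM.ε_injective EM.exact_zero 𝒩 EN.ε EN.ε_grHom EN.ε_injective EN.exact_zero
      𝒬 φ hP) hA (resAddG 𝒯 𝒬 EP) q d
  have h1 : Module.finrank (deg0 𝒯) (EP.Hcomp mT q d) =
      Module.finrank (deg0 (addGr 𝒯))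
        ((totRes 𝒜 ℬ 𝒯 ψ hT (fun p => (EM.X p).gr) EM.d EM.d_grHom (fun q => (EN.X q).gr) EN.d
          EN.d_grHom (E_d_d 𝒜 ℳ EM) (E_exact 𝒜 ℳ EM) (E_d_d ℬ 𝒩 EN) (E_exact ℬ 𝒩 EN)
          ℳ EM.ε EM.ε_grHom EM.ε_injective EM.exact_zero 𝒩 EN.ε EN.ε_grHom EN.ε_injective
          EN.exact_zero 𝒬 φ hP).Hcomp (idealAdd 𝒯 mT) q d) := e.finrank_eq
  rw [h1]
  rw [finrank_totRes 𝒜 ℬ 𝒯 ψ hT (fun p => (EM.X p).gr) EM.d EM.d_grHom (fun q => (EN.X q).gr) EN.d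
      EN.d_grHom (E_d_d 𝒜 ℳ EM) (E_exact 𝒜 ℳ EM) (E_d_d ℬ 𝒩 EN) (E_exact ℬ 𝒩 EN)
      ℳ EM.ε EM.ε_grHom EM.ε_injective EM.exact_zero 𝒩 EN.ε EN.ε_grHom EN.ε_injective EN.exact_zero
      𝒬 φ hP mT hmT d h0T q]
  -- finiteness
  have fM0 : Module.Finite k ↥(LinearMap.ker (dCE 𝒜 ℳ EM d 0)) :=
    finite_ker_dCE_zero 𝒜 ℳ EM d h0R hposR
  have fN0 : Module.Finite k ↥(LinearMap.ker (dCE ℬ 𝒩 EN d 0)) :=
    finite_ker_dCE_zero ℬ 𝒩 EN d h0S hposS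
  have fM : ∀ i, Module.Finite k (HS (dCE 𝒜 ℳ EM d) (tCE 𝒜 ℳ EM d) i) :=
    finite_HS 𝒜 ℳ EM mR hmR d h0R hposR
  have fN : ∀ i, Module.Finite k (HS (dCE ℬ 𝒩 EN d) (tCE ℬ 𝒩 EN d) i) :=
    finite_HS ℬ 𝒩 EN mS hmS d h0S hposS
  have main := finrank_main (dCE 𝒜 ℳ EM d) (tCE 𝒜 ℳ EM d)
    (tsI_le 𝒜 (fun p => (EM.X p).gr) EM.d EM.d_grHom d)
    (dCE ℬ 𝒩 EN d) (tCE ℬ 𝒩 EN d)
    (tsI_le ℬ (fun p => (EN.X p).gr) EN.d EN.d_grHom d)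
    (dpI_dpI 𝒜 (fun p => (EM.X p).gr) EM.d EM.d_grHom d (E_d_d 𝒜 ℳ EM))
    (dpI_dpI ℬ (fun p => (EN.X p).gr) EN.d EN.d_grHom d (E_d_d ℬ 𝒩 EN))
    (dpI_exact 𝒜 (fun p => (EM.X p).gr) EM.d EM.d_grHom d (E_exact 𝒜 ℳ EM))
    (dpI_exact ℬ (fun p => (EN.X p).gr) EN.d EN.d_grHom d (E_exact ℬ 𝒩 EN))
    (le_bot_iff.1 (le_bdS_of_Hcomp_eq_bot 𝒜 ℳ EM mR hmR d 0 (hM 0 d (by omega))))
    (fun y hy hd => le_bdS_of_Hcomp_eq_bot 𝒜 ℳ EM mR hmR d 1 (hM 1 d le_rfl)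
      ⟨hy, LinearMap.mem_ker.2 hd⟩)
    (le_bot_iff.1 (le_bdS_of_Hcomp_eq_bot ℬ 𝒩 EN mS hmS d 0 (hN 0 d (by omega))))
    (fun y hy hd => le_bdS_of_Hcomp_eq_bot ℬ 𝒩 EN mS hmS d 1 (hN 1 d le_rfl)
      ⟨hy, LinearMap.mem_ker.2 hd⟩) q
  rw [finrank_comp_eq 𝒜 ℳ EM d h0R, finrank_comp_eq ℬ 𝒩 EN d h0S,
    finrank_Hcomp_eq 𝒜 ℳ EM mR hmR d h0R q, finrank_Hcomp_eq ℬ 𝒩 EN mS hmS d h0S q]
  rw [Finset.sum_congr rfl (fun i _ => by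
    rw [finrank_Hcomp_eq 𝒜 ℳ EM mR hmR d h0R i, finrank_Hcomp_eq ℬ 𝒩 EN mS hmS d h0S (q + 1 - i)])]
  exact main

end Groth.Agent.Lib.helper26.Kun
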