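import Mathlib
import Groth.Prelude.Def_GrLC
import Groth.Prelude.Def_GrSeg
import Groth.Agent.Lib.Helper26.KunP

/-!
# The Künneth formula for the local cohomology of the Segre product of rings (helper26)

The case `M = R`, `N = S`, `P = T` of `kunneth_segre`.
-/

set_option autoImplicit false
set_option linter.unusedSectionVars false
set_option linter.dupNamespace false
universe u
open scoped TensorProduct

namespace Groth.Agent.Lib.helper26.Kun

open GrLC Groth.Agent.Lib.helper19.GrConv Groth.Agent.Lib.helper19.GrMod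
  Groth.Agent.Lib.helper26.Seg Groth.Agent.Lib.helper26.GrCM Groth.Agent.Lib.helper26.Acyc

section Self

variable {k : Type u} [Field k] {R : Type u} [CommRing R] [Algebra k R]
  (𝒜 : ℤ → Submodule k R) [GradedAlgebra 𝒜]

/-- the ring as a graded module over itself, with additive subgroups as pieces -/
theorem gsmulSelf : SetLike.GradedSMul 𝒜 (addGr 𝒜) :=
  ⟨fun {_ _ _ _} hi hj => SetLike.GradedMul.mul_mem (A := 𝒜) hi hj⟩

attribute [local instance] gsmulSelf

/-- a *injective resolution of the ring, with additive subgroups as pieces of the ring -/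
noncomputable def resSelf (E : StarInjRes 𝒜 𝒜) : StarInjRes 𝒜 (addGr 𝒜) where
  X := E.X
  d := E.d
  ε := E.ε
  d_grHom := E.d_grHom
  ε_grHom := fun g m hm => E.ε_grHom g m hm
  ε_injective := E.ε_injective
  exact_zero := E.exact_zero
  exact_succ := E.exact_succ
  starInj := E.starInj

theorem resSelf_Hcomp (E : StarInjRes 𝒜 𝒜) (a : HomogeneousIdeal 𝒜) (i : ℕ) (g : ℤ) :
    (resSelf 𝒜 E).Hcomp a i g = E.Hcomp a i g := rfl

/-- the identity from `R_d` as a `k`-space to `R_d` as an `R_0`-module -/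
def compSelfEquiv (d : ℤ) : ↥(𝒜 d) ≃+ ↥(comp 𝒜 (addGr 𝒜) d) where
  toFun x := ⟨x.1, x.2⟩
  invFun x := ⟨x.1, x.2⟩
  left_inv _ := rfl
  right_inv _ := rfl
  map_add' _ _ := rfl

theorem finrank_comp_self [Nontrivial R] (h0R : 𝒜 0 = Submodule.span k {(1 : R)}) (d : ℤ) :
    Module.finrank (deg0 𝒜) (comp 𝒜 (addGr 𝒜) d) = Module.finrank k (𝒜 d) := by
  have hrank := rank_eq_of_equiv_equiv (kToDeg0 𝒜) (compSelfEquiv 𝒜 d)
    (kToDeg0_bijective 𝒜 h0R) (fun c x => by
      apply Subtype.ext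
      show c • (x : R) = algebraMap k R c * (x : R)
      rw [Algebra.smul_def])
  unfold Module.finrank
  rw [hrank]

end Self

section ActMul

variable {k : Type u} [Field k] {R : Type u} [CommRing R] [Algebra k R]
  {S : Type u} [CommRing S] [Algebra k S]

theorem act_self (a b : R ⊗[k] S) : GrSeg.act k R S R S a b = a * b := by
  induction a using TensorProduct.induction_on with
  | zero => rw [map_zero, LinearMap.zero_apply, zero_mul]
  | add a a' ha ha' => rw [map_add, LinearMap.add_apply, ha, ha', add_mul]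
  | tmul r s =>
    induction b using TensorProduct.induction_on with
    | zero => rw [map_zero, mul_zero]
    | add b b' hb hb' => rw [map_add, hb, hb', mul_add]
    | tmul r' s' =>
      rw [GrSeg.act_tmul, Algebra.TensorProduct.tmul_mul_tmul, smul_eq_mul, smul_eq_mul]

end ActMul

section Main

attribute [local instance] gsmulSelf

theorem isSegreMod_self {k : Type u} [Field k] {R : Type u} [CommRing R] [Algebra k R]
    (𝒜 : ℤ → Submodule k R) [GradedAlgebra 𝒜]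
    {S : Type u} [CommRing S] [Algebra k S] (ℬ : ℤ → Submodule k S) [GradedAlgebra ℬ]
    {T : Type u} [CommRing T] [Algebra k T] (𝒯 : ℤ → Submodule k T) [GradedAlgebra 𝒯]
    (ψ : T →ₐ[k] R ⊗[k] S) (hψ : Function.Injective ψ)
    (hdegT : ∀ n : ℤ, (𝒯 n).map ψ.toLinearMap =
      Submodule.span k {x : R ⊗[k] S | ∃ a ∈ 𝒜 n, ∃ b ∈ ℬ n, x = a ⊗ₜ[k] b}) :
    GrSeg.IsSegreMod ψ (addGr 𝒜) (addGr ℬ) (addGr 𝒯) ψ.toLinearMap where
  injective := hψ
  image_piece n := by
    have h := congrArg (fun s : Submodule k (R ⊗[k] S) => (s : Set (R ⊗[k] S))) (hdegT n)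
    exact h
  map_smul t p := by
    show ψ (t * p) = GrSeg.act k R S R S (ψ t) (ψ p)
    rw [map_mul, act_self]

/-- **Künneth formula for the Segre product of rings**, degree by degree -/
theorem kunneth_segre_ring {k : Type u} [Field k] {R : Type u} [CommRing R] [Nontrivial R]
    [Algebra k R]
    (𝒜 : ℤ → Submodule k R) [GradedAlgebra 𝒜] (hposR : ∀ n : ℤ, n < 0 → 𝒜 n = ⊥)
    (h0R : 𝒜 0 = Submodule.span k {(1 : R)}) [Algebra.FiniteType k R]
    {S : Type u} [CommRing S] [Nontrivial S] [Algebra k S] (ℬ : ℤ → Submodule k S)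
    [GradedAlgebra ℬ] (hposS : ∀ n : ℤ, n < 0 → ℬ n = ⊥)
    (h0S : ℬ 0 = Submodule.span k {(1 : S)}) [Algebra.FiniteType k S]
    {T : Type u} [CommRing T] [Algebra k T] (𝒯 : ℤ → Submodule k T) [GradedAlgebra 𝒯]
    (ψ : T →ₐ[k] R ⊗[k] S) (hψ : Function.Injective ψ)
    (hdegT : ∀ n : ℤ, (𝒯 n).map ψ.toLinearMap =
      Submodule.span k {x : R ⊗[k] S | ∃ a ∈ 𝒜 n, ∃ b ∈ ℬ n, x = a ⊗ₜ[k] b})
    (mR : HomogeneousIdeal 𝒜) (hmR : mR.toIdeal = irr 𝒜) (I : StarInjRes 𝒜 𝒜)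
    (mS : HomogeneousIdeal ℬ) (hmS : mS.toIdeal = irr ℬ) (J : StarInjRes ℬ ℬ)
    (mT : HomogeneousIdeal 𝒯) (hmT : mT.toIdeal = irr 𝒯) (IT : StarInjRes 𝒯 𝒯)
    (hR : ∀ (q : ℕ) (d : ℤ), q ≤ 1 → I.Hcomp mR q d = ⊥)
    (hS : ∀ (q : ℕ) (d : ℤ), q ≤ 1 → J.Hcomp mS q d = ⊥) (q : ℕ) (d : ℤ) :
    Module.finrank (deg0 𝒯) (IT.Hcomp mT q d) =
      Module.finrank k (𝒜 d) * Module.finrank (deg0 ℬ) (J.Hcomp mS q d) +
      Module.finrank (deg0 𝒜) (I.Hcomp mR q d) * Module.finrank k (ℬ d) +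
      (Finset.range (q + 2)).sum (fun i =>
        Module.finrank (deg0 𝒜) (I.Hcomp mR i d) *
          Module.finrank (deg0 ℬ) (J.Hcomp mS (q + 1 - i) d)) := by
  have h := kunneth_segre 𝒜 hposR h0R ℬ hposS h0S 𝒯 ψ ⟨hψ, hdegT⟩ mR hmR mS hmS mT hmT
    (addGr 𝒜) (resSelf 𝒜 I) (addGr ℬ) (resSelf ℬ J) (addGr 𝒯) ψ.toLinearMap
    (isSegreMod_self 𝒜 ℬ 𝒯 ψ hψ hdegT) (resSelf 𝒯 IT) hR hS q d
  rw [finrank_comp_self 𝒜 h0R d, finrank_comp_self ℬ h0S d] at h
  exact h

end Main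

end Groth.Agent.Lib.helper26.Kun
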