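import Mathlib
import Groth.Prelude.Def_GrLC
import Groth.Agent.S13215
import Groth.Agent.S13224
import Groth.Agent.S13225
import Groth.Agent.S11625
import Groth.Agent.Lib.Helper2.DepthLC
import Groth.Agent.Lib.Helper26.KunO

/-!
# Vanishing of the pieces of graded local cohomology, depth and dimension (helper26)

* `forall_Hcomp_eq_bot_iff` : `H^i_{R₊}(M)_d = 0` for all `i < n` and all `d` iff `n ≤ depth_{R₊} M`;
* `Hcomp_eq_bot_of_supportDim_lt` : `H^i_{R₊}(M)_d = 0` for `i > dim M`;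
* `exists_starInjRes` : *injective resolutions exist (over gradings by subspaces);
* `finrank_eq_zero_iff_of_bijective`, `Hcomp_eq_bot_iff_finrank`, `piece_eq_bot_iff_finrank`.
-/

set_option autoImplicit false
set_option linter.unusedSectionVars false
set_option linter.dupNamespace false
universe u
open scoped TensorProduct

namespace Groth.Agent.Lib.helper26.Kun

open GrLC Groth.Agent.Lib.helper19.GrConv Groth.Agent.Lib.helper19.GrMod
  Groth.Agent.Lib.helper26.Seg Groth.Agent.Lib.helper26.GrCM Groth.Agent.Lib.helper26.Acyc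

section DepthVanish

variable {k : Type u} [Field k] {R : Type u} [CommRing R] [Algebra k R]
  (𝒜 : ℤ → Submodule k R) [GradedAlgebra 𝒜] [IsNoetherianRing R]
  {M : Type u} [AddCommGroup M] [Module R M] (ℳ : ℤ → AddSubgroup M)
  [DirectSum.Decomposition ℳ] [SetLike.GradedSMul 𝒜 ℳ]
  (E : StarInjRes 𝒜 ℳ) (mR : HomogeneousIdeal 𝒜)

attribute [local instance] gsmulAdd

/-- `*H^i_a(M) = 0` iff all its pieces vanish -/
theorem H_subsingleton_iff (i : ℕ) : Subsingleton (E.H mR i) ↔ ∀ d, E.Hcomp mR i d = ⊥ := by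
  constructor
  · intro h d
    rw [eq_bot_iff]
    intro x _
    rw [Submodule.mem_bot]
    exact Subsingleton.elim _ _
  · intro h
    have hint : DirectSum.IsInternal ((resAddG 𝒜 ℳ E).Hgr (idealAdd 𝒜 mR) i) :=
      Groth.Agent.S13225.result R (addGr 𝒜) (idealAdd 𝒜 mR) M ℳ (resAddG 𝒜 ℳ E) i
    have hbot : ∀ g, (resAddG 𝒜 ℳ E).Hgr (idealAdd 𝒜 mR) i g = ⊥ := by
      intro g
      rw [eq_bot_iff]
      intro x hx
      have hx' : x ∈ E.Hcomp mR i g := hx
      rw [h g] at hx'
      exact (AddSubgroup.mem_bot).2 ((Submodule.mem_bot _).1 hx')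
    have h0 : ∀ x : E.H mR i, x = 0 := by
      intro x
      obtain ⟨z, rfl⟩ := hint.2 x
      induction z using DirectSum.induction_on with
      | zero => exact map_zero _
      | of g y =>
        rw [DirectSum.coeAddMonoidHom_of]
        have hy : (y : (resAddG 𝒜 ℳ E).H (idealAdd 𝒜 mR) i) ∈
            (⊥ : AddSubgroup ((resAddG 𝒜 ℳ E).H (idealAdd 𝒜 mR) i)) := (hbot g) ▸ y.2
        exact (AddSubgroup.mem_bot).1 hy
      | add a b ha hb =>
        rw [map_add, ha, hb]
        exact add_zero _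
    exact ⟨fun a b => (h0 a).trans (h0 b).symm⟩

/-- the comparison with the ungraded local cohomology -/
theorem H_equiv_locCoh (i : ℕ) : Nonempty (E.H mR i ≃ₗ[R] LocCoh.H mR.toIdeal i M) :=
  Groth.Agent.S13224.result R (addGr 𝒜) (idealAdd 𝒜 mR) M ℳ (resAddG 𝒜 ℳ E) i

theorem H_subsingleton_iff_locCoh (i : ℕ) :
    Subsingleton (E.H mR i) ↔ Subsingleton (LocCoh.H mR.toIdeal i M) := by
  obtain ⟨e⟩ := H_equiv_locCoh 𝒜 ℳ E mR i
  exact e.toEquiv.subsingleton_congr

/-- **depth and vanishing of the pieces of graded local cohomology** -/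
theorem forall_Hcomp_eq_bot_iff [Module.Finite R M] (n : ℕ) :
    (∀ i : ℕ, i < n → ∀ d, E.Hcomp mR i d = ⊥) ↔ (n : ℕ∞) ≤ LocCoh.idealDepth mR.toIdeal M := by
  rw [← Groth.Agent.Lib.helper2.DepthLC.vanish_iff_le_idealDepth]
  refine forall₂_congr fun i _ => ?_
  rw [← H_subsingleton_iff, H_subsingleton_iff_locCoh]

/-- **Grothendieck vanishing for the pieces of graded local cohomology** -/
theorem Hcomp_eq_bot_of_supportDim_lt (i : ℕ) (hi : Module.supportDim R M < (i : WithBot ℕ∞))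
    (d : ℤ) : E.Hcomp mR i d = ⊥ := by
  have h1 : Subsingleton (LocCoh.H mR.toIdeal i M) :=
    Groth.Agent.S11625.result R mR.toIdeal M i hi
  rw [← H_subsingleton_iff_locCoh 𝒜 ℳ E mR i] at h1
  exact (H_subsingleton_iff 𝒜 ℳ E mR i).1 h1 d

theorem isStarInj_toS (A : GMod.{u} (addGr 𝒜)) (hA : IsStarInj (addGr 𝒜) A.gr) :
    IsStarInj 𝒜 (toS 𝒜 A).gr := by
  intro C D f hf hinj g hg
  exact hA (toA 𝒜 C) (toA 𝒜 D) f hf hinj g hg

/-- a *injective resolution over `addGr 𝒜` as a *injective resolution over `𝒜` -/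
noncomputable def resSub (E : StarInjRes (addGr 𝒜) ℳ) : StarInjRes 𝒜 ℳ where
  X n := toS 𝒜 (E.X n)
  d := E.d
  ε := E.ε
  d_grHom := E.d_grHom
  ε_grHom := E.ε_grHom
  ε_injective := E.ε_injective
  exact_zero := E.exact_zero
  exact_succ := E.exact_succ
  starInj n := isStarInj_toS 𝒜 (E.X n) (E.starInj n)

/-- *injective resolutions exist -/
theorem exists_starInjRes : Nonempty (StarInjRes 𝒜 ℳ) := by
  obtain ⟨E⟩ := Groth.Agent.S13215.result R (addGr 𝒜) M ℳ
  exact ⟨resSub 𝒜 ℳ E⟩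

end DepthVanish

section FinrankZero

/-- over a ring in bijection with a field, a finite module of rank zero is trivial -/
theorem finrank_eq_zero_iff_of_bijective {K : Type u} [Field K] {L : Type u} [Ring L] (i : K →+* L)
    (hi : Function.Bijective i) {H : Type u} [AddCommGroup H] [Module L H] [Module.Finite L H] :
    Module.finrank L H = 0 ↔ Subsingleton H := by
  let mK : Module K H := Module.compHom H i
  have hfin : Module.Finite K H :=
    finite_of_addEquiv_semilinear i hi.2 (AddEquiv.refl H) (fun c v => rfl)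
  have hrank := rank_eq_of_equiv_equiv i (AddEquiv.refl H) hi (fun c v => rfl)
  have hfr : Module.finrank L H = Module.finrank K H := by
    unfold Module.finrank
    rw [hrank]
  rw [hfr]
  exact Module.finrank_zero_iff

variable {k : Type u} [Field k] {R : Type u} [CommRing R] [Nontrivial R] [Algebra k R]
  (𝒜 : ℤ → Submodule k R) [GradedAlgebra 𝒜] [IsNoetherianRing R]
  (h0R : 𝒜 0 = Submodule.span k {(1 : R)}) (hposR : ∀ n : ℤ, n < 0 → 𝒜 n = ⊥)
  {M : Type u} [AddCommGroup M] [Module R M] [Module.Finite R M] (ℳ : ℤ → AddSubgroup M)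
  [DirectSum.Decomposition ℳ] [SetLike.GradedSMul 𝒜 ℳ]
  (E : StarInjRes 𝒜 ℳ) (mR : HomogeneousIdeal 𝒜) (hmR : mR.toIdeal = irr 𝒜)

attribute [local instance] gsmulAdd

include h0R hposR hmR in
theorem Hcomp_eq_bot_iff_finrank (i : ℕ) (d : ℤ) :
    E.Hcomp mR i d = ⊥ ↔ Module.finrank (deg0 𝒜) (E.Hcomp mR i d) = 0 := by
  let mk : ∀ p, Module k (E.X p).carrier := fun p => Module.compHom _ (algebraMap k R)
  have st : ∀ p, IsScalarTower k R (E.X p).carrier := fun p =>
    IsScalarTower.of_algebraMap_smul fun _ _ => rfl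
  have hfin := finite_Hcomp 𝒜 ℳ E mR hmR d h0R hposR i
  rw [finrank_eq_zero_iff_of_bijective (kToDeg0 𝒜) (kToDeg0_bijective 𝒜 h0R),
    Submodule.subsingleton_iff_eq_bot]

include h0R hposR in
theorem piece_eq_bot_iff_finrank (d : ℤ) :
    ℳ d = ⊥ ↔ Module.finrank (deg0 𝒜) (comp 𝒜 ℳ d) = 0 := by
  have hpos' : ∀ n : ℤ, n < 0 → addGr 𝒜 n = ⊥ := by
    intro n hn
    show (𝒜 n).toAddSubgroup = ⊥
    rw [hposR n hn]
    rfl
  have hfin : Module.Finite (deg0 𝒜) (comp 𝒜 ℳ d) :=
    Groth.Agent.Lib.helper19.GrFin.finite_comp (addGr 𝒜) hpos' ℳ d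
  rw [finrank_eq_zero_iff_of_bijective (kToDeg0 𝒜) (kToDeg0_bijective 𝒜 h0R),
    Submodule.subsingleton_iff_eq_bot]
  constructor
  · intro h
    rw [eq_bot_iff]
    intro x hx
    have hx' : x ∈ ℳ d := hx
    rw [h] at hx'
    exact (Submodule.mem_bot _).2 ((AddSubgroup.mem_bot).1 hx')
  · intro h
    rw [eq_bot_iff]
    intro x hx
    have hx' : x ∈ comp 𝒜 ℳ d := hx
    rw [h] at hx'
    exact (AddSubgroup.mem_bot).2 ((Submodule.mem_bot _).1 hx')

end FinrankZero

end Groth.Agent.Lib.helper26.Kun
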