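import Mathlib
import Groth.Prelude.Def_GrLC
import Groth.Prelude.Def_GrSeg
import Groth.Agent.S19747
import Groth.Agent.S19754
import Groth.Agent.Lib.Helper26.GrCM15
import Groth.Agent.Lib.Helper26.KunP
import Groth.Agent.Lib.Helper26.KunR

/-!
# Cohen–Macaulayness of Segre products of Cohen–Macaulay modules of dimension `≥ 2` (helper26)
-/

set_option autoImplicit false
set_option linter.unusedSectionVars false
set_option linter.dupNamespace false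
universe u
open scoped TensorProduct

namespace Groth.Agent.Lib.helper26.Kun

open GrLC Groth.Agent.Lib.helper19.GrConv Groth.Agent.Lib.helper19.GrMod
  Groth.Agent.Lib.helper26.Seg Groth.Agent.Lib.helper26.GrCM Groth.Agent.Lib.helper26.Acyc

section IrrH

variable {k : Type u} [Field k] {R : Type u} [CommRing R] [Algebra k R]
  (𝒜 : ℤ → Submodule k R) [GradedAlgebra 𝒜]

/-- the irrelevant ideal as a homogeneous ideal -/
def irrH : HomogeneousIdeal 𝒜 := ⟨irr 𝒜, by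
  apply Ideal.homogeneous_span
  intro x hx
  obtain ⟨n, -, hxn⟩ := Set.mem_iUnion₂.1 hx
  exact ⟨n, hxn⟩⟩

theorem irrH_toIdeal : (irrH 𝒜).toIdeal = irr 𝒜 := rfl

end IrrH

/-- **Cohen–Macaulayness of `M # N`** for Cohen–Macaulay `M`, `N` of dimensions `r, s ≥ 2` -/
theorem cm_segre_mod_iff {k : Type u} [Field k] {R : Type u} [CommRing R] [Algebra k R]
    (𝒜 : ℤ → Submodule k R) [GradedAlgebra 𝒜] (hposR : ∀ n : ℤ, n < 0 → 𝒜 n = ⊥)
    (h0R : 𝒜 0 = Submodule.span k {(1 : R)}) [Algebra.FiniteType k R]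
    {S : Type u} [CommRing S] [Algebra k S] (ℬ : ℤ → Submodule k S)
    [GradedAlgebra ℬ] (hposS : ∀ n : ℤ, n < 0 → ℬ n = ⊥)
    (h0S : ℬ 0 = Submodule.span k {(1 : S)}) [Algebra.FiniteType k S]
    {T : Type u} [CommRing T] [Algebra k T] (𝒯 : ℤ → Submodule k T) [GradedAlgebra 𝒯]
    (ψ : T →ₐ[k] R ⊗[k] S) (hT : GrSeg.IsSegreRing 𝒜 ℬ 𝒯 ψ)
    (mR : HomogeneousIdeal 𝒜) (hmR : mR.toIdeal = irr 𝒜)
    (mS : HomogeneousIdeal ℬ) (hmS : mS.toIdeal = irr ℬ)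
    {M : Type u} [AddCommGroup M] [Module R M] [Module k M] [IsScalarTower k R M]
    (ℳ : ℤ → AddSubgroup M) [DirectSum.Decomposition ℳ] [SetLike.GradedSMul 𝒜 ℳ]
    [Module.Finite R M] (EM : StarInjRes 𝒜 ℳ)
    {N : Type u} [AddCommGroup N] [Module S N] [Module k N] [IsScalarTower k S N]
    (𝒩 : ℤ → AddSubgroup N) [DirectSum.Decomposition 𝒩] [SetLike.GradedSMul ℬ 𝒩]
    [Module.Finite S N] (EN : StarInjRes ℬ 𝒩)
    {P : Type u} [AddCommGroup P] [Module T P] [Module k P] [IsScalarTower k T P]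
    (𝒬 : ℤ → AddSubgroup P) [DirectSum.Decomposition 𝒬]
    (φ : P →ₗ[k] M ⊗[k] N) (hP : GrSeg.IsSegreMod ψ ℳ 𝒩 𝒬 φ) [Nontrivial P]
    (r s : ℕ) (h2r : 2 ≤ r) (h2s : 2 ≤ s)
    (hdM : Module.supportDim R M = r) (hdN : Module.supportDim S N = s)
    (hMcm : ∀ (q : Ideal R) [q.IsPrime], Subsingleton (LocalizedModule q.primeCompl M) ∨
      LocCoh.IsCohenMacaulayModule (Localization.AtPrime q) (LocalizedModule q.primeCompl M))
    (hNcm : ∀ (q : Ideal S) [q.IsPrime], Subsingleton (LocalizedModule q.primeCompl N) ∨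
      LocCoh.IsCohenMacaulayModule (Localization.AtPrime q) (LocalizedModule q.primeCompl N)) :
    (∀ (q : Ideal T) [q.IsPrime], Subsingleton (LocalizedModule q.primeCompl P) ∨
      LocCoh.IsCohenMacaulayModule (Localization.AtPrime q) (LocalizedModule q.primeCompl P)) ↔
    (∀ d : ℤ, ℳ d = ⊥ ∨ EN.Hcomp mS s d = ⊥) ∧ (∀ d : ℤ, EM.Hcomp mR r d = ⊥ ∨ 𝒩 d = ⊥) := by
  classical
  have hψ := hT.1
  have hdegT : ∀ n : ℤ, (𝒯 n).map ψ.toLinearMap =
      Submodule.span k {x : R ⊗[k] S | ∃ a ∈ 𝒜 n, ∃ b ∈ ℬ n, x = a ⊗ₜ[k] b} := hT.2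
  have hfinP : Module.Finite T P := Groth.Agent.S19747.result k R 𝒜 hposR h0R S ℬ hposS h0S T 𝒯 ψ
    hT M ℳ N 𝒩 P 𝒬 φ hP
  have hntM : Nontrivial M := nontrivial_left ψ ℳ 𝒩 𝒬 φ hP
  have hntN : Nontrivial N := nontrivial_right ψ ℳ 𝒩 𝒬 φ hP
  have hntR : Nontrivial R := Module.nontrivial R M
  have hntS : Nontrivial S := Module.nontrivial S N
  have hNoethR : IsNoetherianRing R := Algebra.FiniteType.isNoetherianRing k R
  have hNoethS : IsNoetherianRing S := Algebra.FiniteType.isNoetherianRing k S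
  have hFT : Algebra.FiniteType k T := finiteType_segre 𝒜 ℬ 𝒯 ψ hdegT hψ hposR h0R hposS h0S
  have hNoethT : IsNoetherianRing T := Algebra.FiniteType.isNoetherianRing k T
  have hposT := pieceT_eq_bot 𝒜 ℬ 𝒯 ψ hdegT hψ hposR
  have h0T := pieceT_zero 𝒜 ℬ 𝒯 ψ hdegT hψ h0R h0S
  have hntT : Nontrivial T := Module.nontrivial T P
  have hpR : (irr 𝒜).IsPrime := (irr_isMaximal 𝒜 hposR h0R).isPrime
  have hpS : (irr ℬ).IsPrime := (irr_isMaximal ℬ hposS h0S).isPrime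
  have hpT : (irr 𝒯).IsPrime := (irr_isMaximal 𝒯 hposT h0T).isPrime
  have hgs : SetLike.GradedSMul 𝒯 𝒬 := gradedSMul 𝒜 ℬ 𝒯 ψ ℳ 𝒩 𝒬 φ hP hdegT
  have hdP : Module.supportDim T P = ((r + s - 1 : ℕ) : WithBot ℕ∞) := by
    rcases Groth.Agent.S19754.result k R 𝒜 hposR h0R S ℬ hposS h0S T 𝒯 ψ hT M ℳ N 𝒩 P 𝒬
      φ hP r s (by omega) (by omega) hdM hdN hMcm hNcm with h | h
    · exact h
    · exact absurd h (not_subsingleton P)
  obtain ⟨EP⟩ := exists_starInjRes 𝒯 𝒬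
  -- depths of `M` and `N`
  have hdepthM : (r : ℕ∞) ≤ LocCoh.idealDepth mR.toIdeal M := by
    rw [hmR]
    exact le_idealDepth_irr 𝒜 hposR h0R ℳ (hMcm (irr 𝒜)) r hdM
  have hdepthN : (s : ℕ∞) ≤ LocCoh.idealDepth mS.toIdeal N := by
    rw [hmS]
    exact le_idealDepth_irr ℬ hposS h0S 𝒩 (hNcm (irr ℬ)) s hdN
  have hvM : ∀ i : ℕ, i ≠ r → ∀ d, EM.Hcomp mR i d = ⊥ := by
    intro i hi d
    rcases Nat.lt_or_gt_of_ne hi with h | h
    · exact (forall_Hcomp_eq_bot_iff 𝒜 ℳ EM mR r).2 hdepthM i h d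
    · apply Hcomp_eq_bot_of_supportDim_lt 𝒜 ℳ EM mR i _ d
      rw [hdM]
      exact_mod_cast h
  have hvN : ∀ i : ℕ, i ≠ s → ∀ d, EN.Hcomp mS i d = ⊥ := by
    intro i hi d
    rcases Nat.lt_or_gt_of_ne hi with h | h
    · exact (forall_Hcomp_eq_bot_iff ℬ 𝒩 EN mS s).2 hdepthN i h d
    · apply Hcomp_eq_bot_of_supportDim_lt ℬ 𝒩 EN mS i _ d
      rw [hdN]
      exact_mod_cast h
  have hfM : ∀ i : ℕ, i ≠ r → ∀ d, Module.finrank (deg0 𝒜) (EM.Hcomp mR i d) = 0 := by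
    intro i hi d
    rw [hvM i hi d]
    exact finrank_bot _ _
  have hfN : ∀ i : ℕ, i ≠ s → ∀ d, Module.finrank (deg0 ℬ) (EN.Hcomp mS i d) = 0 := by
    intro i hi d
    rw [hvN i hi d]
    exact finrank_bot _ _
  -- the Künneth formula
  have hK := kunneth_segre 𝒜 hposR h0R ℬ hposS h0S 𝒯 ψ hT mR hmR mS hmS (irrH 𝒯) (irrH_toIdeal 𝒯)
    ℳ EM 𝒩 EN 𝒬 φ hP EP
    (fun q d hq => hvM q (by omega) d) (fun q d hq => hvN q (by omega) d)
  have hsum : ∀ (q : ℕ) (d : ℤ), q + 1 < r + s →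
      (Finset.range (q + 2)).sum (fun i =>
        Module.finrank (deg0 𝒜) (EM.Hcomp mR i d) *
          Module.finrank (deg0 ℬ) (EN.Hcomp mS (q + 1 - i) d)) = 0 := by
    intro q d hq
    apply Finset.sum_eq_zero
    intro i hi
    by_cases hir : i = r
    · have : q + 1 - i ≠ s := by omega
      rw [hfN _ this d, mul_zero]
    · rw [hfM i hir d, zero_mul]
  have hdepth_iff : (∀ i : ℕ, i < r + s - 1 → ∀ d, EP.Hcomp (irrH 𝒯) i d = ⊥) ↔
      ((r + s - 1 : ℕ) : ℕ∞) ≤ LocCoh.idealDepth (irr 𝒯) P :=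
    forall_Hcomp_eq_bot_iff 𝒯 𝒬 EP (irrH 𝒯) (r + s - 1)
  constructor
  · intro hPcm
    have hdepthP := le_idealDepth_irr 𝒯 hposT h0T 𝒬 (hPcm (irr 𝒯)) (r + s - 1) hdP
    have hvP := hdepth_iff.2 hdepthP
    constructor
    · intro d
      have h1 := hvP s (by omega) d
      rw [Hcomp_eq_bot_iff_finrank 𝒯 h0T hposT 𝒬 EP (irrH 𝒯) (irrH_toIdeal 𝒯) s d, hK s d,
        hsum s d (by omega), add_zero, Nat.add_eq_zero_iff, Nat.mul_eq_zero] at h1
      rcases h1.1 with h1 | h1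
      · exact Or.inl ((piece_eq_bot_iff_finrank 𝒜 h0R hposR ℳ d).2 h1)
      · exact Or.inr ((Hcomp_eq_bot_iff_finrank ℬ h0S hposS 𝒩 EN mS hmS s d).2 h1)
    · intro d
      have h1 := hvP r (by omega) d
      rw [Hcomp_eq_bot_iff_finrank 𝒯 h0T hposT 𝒬 EP (irrH 𝒯) (irrH_toIdeal 𝒯) r d, hK r d,
        hsum r d (by omega), add_zero, Nat.add_eq_zero_iff, Nat.mul_eq_zero, Nat.mul_eq_zero] at h1
      rcases h1.2 with h1 | h1
      · exact Or.inl ((Hcomp_eq_bot_iff_finrank 𝒜 h0R hposR ℳ EM mR hmR r d).2 h1)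
      · exact Or.inr ((piece_eq_bot_iff_finrank ℬ h0S hposS 𝒩 d).2 h1)
  · rintro ⟨hc1, hc2⟩ q hq
    apply isCohenMacaulayModule_of_le_idealDepth 𝒯 hposT h0T 𝒬 (r + s - 1) hdP
    apply hdepth_iff.1
    intro i hi d
    rw [Hcomp_eq_bot_iff_finrank 𝒯 h0T hposT 𝒬 EP (irrH 𝒯) (irrH_toIdeal 𝒯) i d, hK i d,
      hsum i d (by omega), add_zero]
    have t1 : Module.finrank (deg0 𝒜) (comp 𝒜 ℳ d) *
        Module.finrank (deg0 ℬ) (EN.Hcomp mS i d) = 0 := by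
      by_cases his : i = s
      · subst his
        rcases hc1 d with h | h
        · rw [(piece_eq_bot_iff_finrank 𝒜 h0R hposR ℳ d).1 h, zero_mul]
        · rw [(Hcomp_eq_bot_iff_finrank ℬ h0S hposS 𝒩 EN mS hmS i d).1 h, mul_zero]
      · rw [hfN i his d, mul_zero]
    have t2 : Module.finrank (deg0 𝒜) (EM.Hcomp mR i d) *
        Module.finrank (deg0 ℬ) (comp ℬ 𝒩 d) = 0 := by
      by_cases hir : i = r
      · subst hir
        rcases hc2 d with h | h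
        · rw [(Hcomp_eq_bot_iff_finrank 𝒜 h0R hposR ℳ EM mR hmR i d).1 h, zero_mul]
        · rw [(piece_eq_bot_iff_finrank ℬ h0S hposS 𝒩 d).1 h, mul_zero]
      · rw [hfM i hir d, zero_mul]
    rw [t1, t2]

end Groth.Agent.Lib.helper26.Kun
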