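import Mathlib
import Groth.Prelude.Def_GrLC
import Groth.Prelude.Def_GrSeg
import Groth.Agent.Lib.Helper26.CM7
import Groth.Agent.Lib.Helper26.KunQ
import Groth.Agent.Lib.Helper26.KunS

/-!
# Cohen–Macaulayness of Segre products of Cohen–Macaulay rings of dimension `≥ 2` (helper26)
-/

set_option autoImplicit false
set_option linter.unusedSectionVars false
set_option linter.dupNamespace false
universe u
open scoped TensorProduct

namespace Groth.Agent.Lib.helper26.Kun

open GrLC Groth.Agent.Lib.helper19.GrConv Groth.Agent.Lib.helper19.GrMod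
  Groth.Agent.Lib.helper26.Seg Groth.Agent.Lib.helper26.GrCM Groth.Agent.Lib.helper26.Acyc

section SelfCM

variable (R : Type u) [CommRing R] [IsNoetherianRing R]

/-- `R_p` is a Cohen–Macaulay local ring iff the localized module of `R` is a Cohen–Macaulay
module -/
theorem isCohenMacaulayModule_localizedModule_self_iff (p : Ideal R) [p.IsPrime] :
    LocCoh.IsCohenMacaulayModule (Localization.AtPrime p) (LocalizedModule p.primeCompl R) ↔
      LocCoh.IsCohenMacaulayLocalRing (Localization.AtPrime p) := by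
  unfold LocCoh.IsCohenMacaulayModule
  rw [← Module.supportDim_eq_of_equiv (Groth.Agent.Lib.helper26.Depth.selfEquiv R p),
    Groth.Agent.Lib.helper26.Depth.depth_localizedModule_self]
  constructor
  · intro h
    exact @LocCoh.IsCohenMacaulayLocalRing.mk (Localization.AtPrime p) _ inferInstance
      inferInstance h
  · intro h
    exact h.supportDim_eq_depth

theorem isCohenMacaulayRing_iff_forall_localizedModule :
    LocCoh.IsCohenMacaulayRing R ↔
      ∀ (q : Ideal R) [q.IsPrime], Subsingleton (LocalizedModule q.primeCompl R) ∨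
        LocCoh.IsCohenMacaulayModule (Localization.AtPrime q)
          (LocalizedModule q.primeCompl R) := by
  constructor
  · intro h q _
    exact Or.inr ((isCohenMacaulayModule_localizedModule_self_iff R q).2
      (h.isCohenMacaulayLocalRing_localization q))
  · intro h
    refine @LocCoh.IsCohenMacaulayRing.mk R _ inferInstance (fun q _ => ?_)
    rcases h q with h1 | h1
    · exfalso
      have h2 : Subsingleton (Localization.AtPrime q) :=
        (Groth.Agent.Lib.helper26.Depth.selfEquiv R q).toEquiv.subsingleton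
      exact not_subsingleton (Localization.AtPrime q) h2
    · exact (isCohenMacaulayModule_localizedModule_self_iff R q).1 h1

end SelfCM

section Main

attribute [local instance] gsmulSelf

theorem addGr_eq_bot_iff {k : Type u} [Field k] {R : Type u} [CommRing R] [Algebra k R]
    (𝒜 : ℤ → Submodule k R) (n : ℤ) : addGr 𝒜 n = ⊥ ↔ 𝒜 n = ⊥ := by
  constructor
  · intro h
    rw [eq_bot_iff]
    intro x hx
    have hx' : x ∈ addGr 𝒜 n := hx
    rw [h] at hx'
    exact (Submodule.mem_bot _).2 ((AddSubgroup.mem_bot).1 hx')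
  · intro h
    rw [eq_bot_iff]
    intro x hx
    have hx' : x ∈ 𝒜 n := hx
    rw [h] at hx'
    exact (AddSubgroup.mem_bot).2 ((Submodule.mem_bot _).1 hx')

/-- **Cohen–Macaulayness of `R # S`** for Cohen–Macaulay `R`, `S` of dimensions `r, s ≥ 2` -/
theorem cm_segre_ring_iff {k : Type u} [Field k] {R : Type u} [CommRing R] [Algebra k R]
    (𝒜 : ℤ → Submodule k R) [GradedAlgebra 𝒜] (hposR : ∀ n : ℤ, n < 0 → 𝒜 n = ⊥)
    (h0R : 𝒜 0 = Submodule.span k {(1 : R)}) [Algebra.FiniteType k R]
    {S : Type u} [CommRing S] [Algebra k S] (ℬ : ℤ → Submodule k S)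
    [GradedAlgebra ℬ] (hposS : ∀ n : ℤ, n < 0 → ℬ n = ⊥)
    (h0S : ℬ 0 = Submodule.span k {(1 : S)}) [Algebra.FiniteType k S]
    {T : Type u} [CommRing T] [Algebra k T] (𝒯 : ℤ → Submodule k T) [GradedAlgebra 𝒯]
    (ψ : T →ₐ[k] R ⊗[k] S) (hψ : Function.Injective ψ)
    (hdegT : ∀ n : ℤ, (𝒯 n).map ψ.toLinearMap =
      Submodule.span k {x : R ⊗[k] S | ∃ a ∈ 𝒜 n, ∃ b ∈ ℬ n, x = a ⊗ₜ[k] b})
    [LocCoh.IsCohenMacaulayRing R] [LocCoh.IsCohenMacaulayRing S]
    (mR : HomogeneousIdeal 𝒜) (hmR : mR.toIdeal = irr 𝒜) (I : StarInjRes 𝒜 𝒜)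
    (mS : HomogeneousIdeal ℬ) (hmS : mS.toIdeal = irr ℬ) (J : StarInjRes ℬ ℬ)
    (r s : ℕ) (hr : ringKrullDim R = r) (hs : ringKrullDim S = s) (h2r : 2 ≤ r) (h2s : 2 ≤ s) :
    LocCoh.IsCohenMacaulayRing T ↔
      (∀ n : ℤ, 𝒜 n = ⊥ ∨ J.Hcomp mS s n = ⊥) ∧ (∀ n : ℤ, I.Hcomp mR r n = ⊥ ∨ ℬ n = ⊥) := by
  have hntR : Nontrivial R := by
    by_contra hne
    rw [not_nontrivial_iff_subsingleton] at hne
    rw [ringKrullDim_eq_bot_of_subsingleton] at hr
    exact absurd hr (by simp)
  have hntS : Nontrivial S := by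
    by_contra hne
    rw [not_nontrivial_iff_subsingleton] at hne
    rw [ringKrullDim_eq_bot_of_subsingleton] at hs
    exact absurd hs (by simp)
  have hntT : Nontrivial T := ψ.toRingHom.domain_nontrivial
  have hNoethR : IsNoetherianRing R := Algebra.FiniteType.isNoetherianRing k R
  have hNoethS : IsNoetherianRing S := Algebra.FiniteType.isNoetherianRing k S
  have hFT : Algebra.FiniteType k T := finiteType_segre 𝒜 ℬ 𝒯 ψ hdegT hψ hposR h0R hposS h0S
  have hNoethT : IsNoetherianRing T := Algebra.FiniteType.isNoetherianRing k T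
  have key := cm_segre_mod_iff 𝒜 hposR h0R ℬ hposS h0S 𝒯 ψ ⟨hψ, hdegT⟩ mR hmR mS hmS
    (addGr 𝒜) (resSelf 𝒜 I) (addGr ℬ) (resSelf ℬ J) (addGr 𝒯) ψ.toLinearMap
    (isSegreMod_self 𝒜 ℬ 𝒯 ψ hψ hdegT) r s h2r h2s
    (by rw [Module.supportDim_self_eq_ringKrullDim, hr])
    (by rw [Module.supportDim_self_eq_ringKrullDim, hs])
    ((isCohenMacaulayRing_iff_forall_localizedModule R).1 inferInstance)
    ((isCohenMacaulayRing_iff_forall_localizedModule S).1 inferInstance)
  rw [isCohenMacaulayRing_iff_forall_localizedModule T, key]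
  constructor
  · rintro ⟨h1, h2⟩
    refine ⟨fun n => ?_, fun n => ?_⟩
    · rcases h1 n with h | h
      · exact Or.inl ((addGr_eq_bot_iff 𝒜 n).1 h)
      · exact Or.inr h
    · rcases h2 n with h | h
      · exact Or.inl h
      · exact Or.inr ((addGr_eq_bot_iff ℬ n).1 h)
  · rintro ⟨h1, h2⟩
    refine ⟨fun n => ?_, fun n => ?_⟩
    · rcases h1 n with h | h
      · exact Or.inl ((addGr_eq_bot_iff 𝒜 n).2 h)
      · exact Or.inr h
    · rcases h2 n with h | h
      · exact Or.inl h
      · exact Or.inr ((addGr_eq_bot_iff ℬ n).2 h)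

end Main

end Groth.Agent.Lib.helper26.Kun
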