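import Mathlib
import Groth.Agent.Lib.Helper26.HenselPair
import Groth.Agent.Lib.Helper22.SmoothLiftCore

/-!
# Smooth lifting for Henselian pairs (helper26)

Stacks 07M7: if `(T, J)` is a Henselian pair, `S` a smooth `T`-algebra and `σ : S → T/J` a
`T`-algebra map, then `σ` lifts to a `T`-algebra map `S → T`.

The proof slices `S` by the image `K` of a linear map `φ : Ω[S/T] → ker σ` lifting the identity of
`Ω ⊗ S/ker σ`; a localisation of `S/K` is étale over `T` and `σ` factors through it.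
-/

universe u

namespace Groth.Agent.Lib.helper26.SmoothHensLift

open KaehlerDifferential TensorProduct
open Groth.Agent.Lib.helper26.HenselPair
open Groth.Agent.Lib.helper22.SmoothLiftCore

variable {T : Type u} [CommRing T]

section slice

variable {S : Type u} [CommRing S] [Algebra T S]

/-- Every differential is congruent modulo `𝔮 Ω` to `d k` with `k ∈ 𝔮`, when `T → S/𝔮` is
surjective. -/
theorem exists_mem_D_sub_mem (𝔮 : Ideal S) (h𝔮 : ∀ s : S, ∃ t : T, s - algebraMap T S t ∈ 𝔮)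
    (p : Ω[S⁄T]) : ∃ k ∈ 𝔮, D T S k - p ∈ 𝔮 • (⊤ : Submodule S Ω[S⁄T]) := by
  have hp : p ∈ Submodule.span S (Set.range (D T S)) := by
    rw [KaehlerDifferential.span_range_derivation]; trivial
  induction hp using Submodule.span_induction with
  | mem x hx =>
    obtain ⟨s, rfl⟩ := hx
    obtain ⟨t, ht⟩ := h𝔮 s
    refine ⟨s - algebraMap T S t, ht, ?_⟩
    rw [map_sub, Derivation.map_algebraMap, sub_zero, sub_self]
    exact zero_mem _
  | zero => exact ⟨0, zero_mem _, by simp⟩
  | add x y _ _ hx hy =>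
    obtain ⟨k₁, hk₁, h₁⟩ := hx
    obtain ⟨k₂, hk₂, h₂⟩ := hy
    refine ⟨k₁ + k₂, add_mem hk₁ hk₂, ?_⟩
    have : D T S (k₁ + k₂) - (x + y) = (D T S k₁ - x) + (D T S k₂ - y) := by
      rw [map_add]; abel
    rw [this]
    exact add_mem h₁ h₂
  | smul a x _ hx =>
    obtain ⟨k, hk, h₁⟩ := hx
    obtain ⟨t, ht⟩ := h𝔮 a
    refine ⟨algebraMap T S t * k, Ideal.mul_mem_left _ _ hk, ?_⟩
    have e : D T S (algebraMap T S t * k) - a • x =
        algebraMap T S t • (D T S k - x) - (a - algebraMap T S t) • x := by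
      rw [Derivation.leibniz, Derivation.map_algebraMap, smul_zero, add_zero, smul_sub, sub_smul]
      abel
    rw [e]
    exact sub_mem (Submodule.smul_mem _ _ h₁) (Submodule.smul_mem_smul ht Submodule.mem_top)

/-- A linear map `φ : Ω[S/T] → S` with values in `𝔮` such that `d (φ p) ≡ p` modulo `𝔮 Ω`. -/
theorem exists_slice_map [Module.Projective S Ω[S⁄T]] (𝔮 : Ideal S)
    (h𝔮 : ∀ s : S, ∃ t : T, s - algebraMap T S t ∈ 𝔮) :
    ∃ φ : Ω[S⁄T] →ₗ[S] S, (∀ p, φ p ∈ 𝔮) ∧
      ∀ p, D T S (φ p) - p ∈ 𝔮 • (⊤ : Submodule S Ω[S⁄T]) := by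
  set V : Submodule S Ω[S⁄T] := 𝔮 • ⊤ with hV
  let c : 𝔮 →ₗ[S] Ω[S⁄T] ⧸ V :=
    { toFun := fun k => V.mkQ (D T S (k : S))
      map_add' := fun x y => by simp
      map_smul' := fun b k => by
        simp only [Submodule.coe_smul_of_tower, smul_eq_mul, Derivation.leibniz, map_add, map_smul,
          RingHom.id_apply]
        rw [add_eq_left]
        have : (k : S) • D T S b ∈ V := Submodule.smul_mem_smul k.2 Submodule.mem_top
        rw [← map_smul]
        exact (Submodule.Quotient.mk_eq_zero V).mpr this }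
  have hc : ∀ k : 𝔮, c k = V.mkQ (D T S (k : S)) := fun k => rfl
  have csurj : Function.Surjective c := by
    intro n
    obtain ⟨p, rfl⟩ := V.mkQ_surjective n
    obtain ⟨k, hk, hkp⟩ := exists_mem_D_sub_mem 𝔮 h𝔮 p
    refine ⟨⟨k, hk⟩, ?_⟩
    rw [hc, ← sub_eq_zero, ← map_sub]
    exact (Submodule.Quotient.mk_eq_zero V).mpr hkp
  obtain ⟨φ₀, hφ₀⟩ := Module.projective_lifting_property c V.mkQ csurj
  refine ⟨(Submodule.subtype 𝔮) ∘ₗ φ₀, fun p => (φ₀ p).2, fun p => ?_⟩
  have := LinearMap.congr_fun hφ₀ p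
  simp only [LinearMap.coe_comp, Function.comp_apply, hc] at this
  rw [← sub_eq_zero, ← map_sub] at this
  exact (Submodule.Quotient.mk_eq_zero V).mp this

end slice

section main

variable {S : Type u} [CommRing S] [Algebra T S]

/-- Localisations of `S/K` at an element are étale over `T` as soon as the slicing data exist. -/
theorem etale_localization_quotient [Algebra.Smooth T S] (𝔮 : Ideal S)
    (φ : Ω[S⁄T] →ₗ[S] S)
    (hφD : ∀ p, D T S (φ p) - p ∈ 𝔮 • (⊤ : Submodule S Ω[S⁄T])) :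
    ∃ h : S, h - 1 ∈ 𝔮 ∧
      Algebra.Etale T (Localization.Away (Ideal.Quotient.mk (LinearMap.range φ : Ideal S) h)) := by
  set K : Ideal S := LinearMap.range φ with hK
  have hφK : ∀ p, φ p ∈ K := fun p => LinearMap.mem_range_self φ p
  have hKfg : K.FG := by
    have h1 : (⊤ : Submodule S Ω[S⁄T]).FG := Module.Finite.fg_top
    have h2 := h1.map φ
    rwa [Submodule.map_top] at h2
  -- correction
  obtain ⟨h₂, hh₂, W, hW⟩ := exists_correction (R := T) K 𝔮 φ hφK LinearMap.id hφD
  -- Nakayama element for unramifiedness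
  set V : Submodule S Ω[S⁄T] :=
    Submodule.span S (Set.range fun p => D T S (φ p)) ⊔ K • ⊤ with hV
  have htop : (⊤ : Submodule S Ω[S⁄T]) ≤ V ⊔ 𝔮 • (⊤ : Submodule S Ω[S⁄T]) := by
    intro p _
    have e : p = D T S (φ p) - (D T S (φ p) - p) := by abel
    rw [e]
    refine sub_mem (Submodule.mem_sup_left (Submodule.mem_sup_left ?_))
      (Submodule.mem_sup_right (hφD p))
    exact Submodule.subset_span ⟨p, rfl⟩
  obtain ⟨c, hc1, hc2⟩ := Submodule.exists_sub_one_mem_and_smul_le_of_fg_of_le_sup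
    (I := 𝔮) (N := V) (N' := ⊤) (P := ⊤) Module.Finite.fg_top le_rfl htop
  have hcV : ∀ p : Ω[S⁄T], c • p ∈ V := fun p =>
    hc2 (Submodule.smul_mem_pointwise_smul p c ⊤ Submodule.mem_top)
  set h : S := h₂ * c with hh
  have hh1 : h - 1 ∈ 𝔮 := by
    have e : h - 1 = h₂ * (c - 1) + (h₂ - 1) := by rw [hh]; ring
    rw [e]
    exact add_mem (Ideal.mul_mem_left _ _ hc1) hh₂
  refine ⟨h, hh1, ?_⟩
  have hunit : IsUnit (algebraMap (S ⧸ K) (Localization.Away (Ideal.Quotient.mk K h))
      (Ideal.Quotient.mk K h)) := IsLocalization.Away.algebraMap_isUnit _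
  have hmul : algebraMap (S ⧸ K) (Localization.Away (Ideal.Quotient.mk K h))
      (Ideal.Quotient.mk K h) = algebraMap (S ⧸ K) _ (Ideal.Quotient.mk K h₂) *
        algebraMap (S ⧸ K) _ (Ideal.Quotient.mk K c) := by
    rw [← map_mul, ← map_mul]
  have hu₂ : IsUnit (algebraMap (S ⧸ K) (Localization.Away (Ideal.Quotient.mk K h))
      (Ideal.Quotient.mk K h₂)) := by
    rw [hmul] at hunit
    exact isUnit_of_mul_isUnit_left hunit
  have huc : IsUnit (algebraMap (S ⧸ K) (Localization.Away (Ideal.Quotient.mk K h))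
      (Ideal.Quotient.mk K c)) := by
    rw [hmul] at hunit
    exact isUnit_of_mul_isUnit_right hunit
  have hsm : Algebra.FormallySmooth T (Localization.Away (Ideal.Quotient.mk K h)) :=
    formallySmooth_localization_quotient K φ hφK
      (fun k hk => by obtain ⟨p, hp⟩ := hk; exact ⟨p, hp⟩) W h h₂ hu₂ hW
  have hfp1 : Algebra.FinitePresentation T (S ⧸ K) := Algebra.FinitePresentation.quotient hKfg
  have hfp2 : Algebra.FinitePresentation (S ⧸ K) (Localization.Away (Ideal.Quotient.mk K h)) :=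
    IsLocalization.Away.finitePresentation (Ideal.Quotient.mk K h)
  have hfp : Algebra.FinitePresentation T (Localization.Away (Ideal.Quotient.mk K h)) :=
    Algebra.FinitePresentation.trans T (S ⧸ K) _
  -- unramified
  have hunr : Algebra.FormallyUnramified T (Localization.Away (Ideal.Quotient.mk K h)) := by
    constructor
    set C' := Localization.Away (Ideal.Quotient.mk K h) with hC'
    let ℓ : Ω[S⁄T] →ₗ[S] Ω[C'⁄T] := KaehlerDifferential.map T T S C'
    have hℓD : ∀ s, ℓ (D T S s) = D T C' (algebraMap S C' s) := fun s =>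
      KaehlerDifferential.map_D T T S C' s
    have halg : ∀ s : S, algebraMap S C' s = algebraMap (S ⧸ K) C' (Ideal.Quotient.mk K s) :=
      fun s => rfl
    have hK0 : ∀ k ∈ K, algebraMap S C' k = 0 := by
      intro k hk
      rw [halg, Ideal.Quotient.eq_zero_iff_mem.mpr hk, map_zero]
    have hspan0 : ∀ a ∈ Submodule.span S (Set.range fun p => D T S (φ p)), ℓ a = 0 := by
      intro a ha
      induction ha using Submodule.span_induction with
      | mem x hx =>
        obtain ⟨p, rfl⟩ := hx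
        rw [hℓD, hK0 _ (hφK p), map_zero]
      | zero => exact map_zero _
      | add x y _ _ hx hy => rw [map_add, hx, hy, add_zero]
      | smul r x _ hx => rw [map_smul, hx, smul_zero]
    have hsmul0 : ∀ b ∈ K • (⊤ : Submodule S Ω[S⁄T]), ℓ b = 0 := by
      intro b hb
      refine Submodule.smul_induction_on hb ?_ ?_
      · intro k hk p _
        rw [map_smul, algebra_compatible_smul C' k, hK0 k hk, zero_smul]
      · intro x y hx hy
        rw [map_add, hx, hy, add_zero]
    have hℓV : ∀ v ∈ V, ℓ v = 0 := by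
      intro v hv
      rw [hV] at hv
      obtain ⟨a, ha, b, hb, rfl⟩ := Submodule.mem_sup.mp hv
      rw [map_add, hspan0 a ha, hsmul0 b hb, add_zero]
    have hℓ0 : ∀ p, ℓ p = 0 := by
      intro p
      have h1 := hℓV _ (hcV p)
      rw [map_smul, algebra_compatible_smul C' c, halg] at h1
      exact (huc.smul_eq_zero).mp h1
    have hD0 : ∀ s : S, D T C' (algebraMap S C' s) = 0 := fun s => by rw [← hℓD, hℓ0]
    have hDall : ∀ x : C', D T C' x = 0 := by
      intro x
      obtain ⟨n, y, hy⟩ := IsLocalization.Away.surj (Ideal.Quotient.mk K h) x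
      obtain ⟨s, rfl⟩ := Ideal.Quotient.mk_surjective y
      have h1 : D T C' (x * algebraMap (S ⧸ K) C' (Ideal.Quotient.mk K h) ^ n) = 0 := by
        rw [hy, ← halg, hD0]
      have h2 : algebraMap (S ⧸ K) C' (Ideal.Quotient.mk K h) ^ n =
          algebraMap S C' (h ^ n) := by
        rw [halg, map_pow, map_pow]
      rw [Derivation.leibniz, h2, hD0, smul_zero, zero_add, ← h2] at h1
      exact ((hunit.pow n).smul_eq_zero).mp h1
    have hall : ∀ a : Ω[C'⁄T], a = 0 := by
      intro a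
      have ha : a ∈ Submodule.span C' (Set.range (D T C')) := by
        rw [KaehlerDifferential.span_range_derivation]; trivial
      induction ha using Submodule.span_induction with
      | mem x hx =>
        obtain ⟨y, rfl⟩ := hx
        exact hDall y
      | zero => rfl
      | add x y _ _ hx hy => rw [hx, hy, add_zero]
      | smul r x _ hx => rw [hx, smul_zero]
    exact ⟨fun a b => by rw [hall a, hall b]⟩
  exact Algebra.Etale.iff_formallyUnramified_and_smooth.mpr ⟨hunr, ⟨hsm, hfp⟩⟩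

/-- **Smooth lifting for Henselian pairs** (Stacks 07M7). -/
theorem exists_lift_of_henselianRing_of_smooth {J : Ideal T} (hT : HenselianRing T J)
    [Algebra.Smooth T S] (σ : S →ₐ[T] T ⧸ J) :
    ∃ τ : S →ₐ[T] T, (Ideal.Quotient.mkₐ T J).comp τ = σ := by
  set 𝔮 : Ideal S := RingHom.ker σ with h𝔮def
  have h𝔮 : ∀ s : S, ∃ t : T, s - algebraMap T S t ∈ 𝔮 := by
    intro s
    obtain ⟨t, ht⟩ := Ideal.Quotient.mk_surjective (σ s)
    refine ⟨t, ?_⟩
    rw [h𝔮def, RingHom.mem_ker, map_sub, AlgHom.commutes, ← ht]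
    exact sub_self _
  obtain ⟨φ, hφ𝔮, hφD⟩ := exists_slice_map (T := T) 𝔮 h𝔮
  obtain ⟨h, hh1, het⟩ := etale_localization_quotient 𝔮 φ hφD
  set K : Ideal S := LinearMap.range φ with hK
  have hK𝔮 : K ≤ 𝔮 := by
    rintro _ ⟨p, rfl⟩
    exact hφ𝔮 p
  -- the induced map on the slice
  let σ₁ : (S ⧸ K) →ₐ[T] T ⧸ J := Ideal.Quotient.liftₐ K σ (fun k hk => hK𝔮 hk)
  have hσ₁ : ∀ s, σ₁ (Ideal.Quotient.mk K s) = σ s := fun s => rfl
  have hσh : σ h = 1 := by
    have : σ (h - 1) = 0 := hh1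
    rwa [map_sub, map_one, sub_eq_zero] at this
  let σ' : Localization.Away (Ideal.Quotient.mk K h) →ₐ[T] T ⧸ J :=
    IsLocalization.liftAlgHom (M := Submonoid.powers (Ideal.Quotient.mk K h)) (f := σ₁) (by
      rintro ⟨_, n, rfl⟩
      simp only [map_pow]
      rw [hσ₁, hσh, one_pow]
      exact isUnit_one)
  have hσ' : ∀ x, σ' (algebraMap (S ⧸ K) _ x) = σ₁ x := fun x => by
    show IsLocalization.liftAlgHom _ (algebraMap (S ⧸ K) _ x) = _
    rw [IsLocalization.liftAlgHom_apply, IsLocalization.lift_eq]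
    rfl
  obtain ⟨τ', hτ'⟩ := exists_lift_of_henselianRing hT
    (Localization.Away (Ideal.Quotient.mk K h)) σ'
  let toA : S →ₐ[T] Localization.Away (Ideal.Quotient.mk K h) :=
    (IsScalarTower.toAlgHom T (S ⧸ K) _).comp (Ideal.Quotient.mkₐ T K)
  have htoA : ∀ b, toA b = algebraMap (S ⧸ K) _ (Ideal.Quotient.mk K b) := fun b => rfl
  refine ⟨τ'.comp toA, ?_⟩
  ext s
  have := AlgHom.congr_fun hτ' (toA s)
  simp only [AlgHom.comp_apply] at this ⊢
  rw [this, htoA, hσ', hσ₁]

end main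

section base

variable {A : Type u} [CommRing A]

/-- Maps from a smooth algebra to `T/J` lift to `T` for a henselian pair `(T, J)`. -/
theorem exists_algHom_lift_of_smooth (T : Type u) [CommRing T] [Algebra A T] (J : Ideal T)
    (hT : HenselianRing T J) (R : Type u) [CommRing R] [Algebra A R] [Algebra.Smooth A R]
    (ψ : R →ₐ[A] T ⧸ J) : ∃ ρ : R →ₐ[A] T, ∀ r, Ideal.Quotient.mk J (ρ r) = ψ r := by
  let σ : T ⊗[A] R →ₐ[T] T ⧸ J :=
    Algebra.TensorProduct.lift (Algebra.ofId T (T ⧸ J)) ψ (fun _ _ => Commute.all _ _)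
  obtain ⟨τ, hτ⟩ := exists_lift_of_henselianRing_of_smooth hT σ
  refine ⟨(τ.restrictScalars A).comp Algebra.TensorProduct.includeRight, fun r => ?_⟩
  have h1 := AlgHom.congr_fun hτ (1 ⊗ₜ r)
  simp only [AlgHom.comp_apply, Ideal.Quotient.mkₐ_eq_mk] at h1
  show Ideal.Quotient.mk J (τ (1 ⊗ₜ r)) = ψ r
  rw [h1]
  show Algebra.TensorProduct.lift (Algebra.ofId T (T ⧸ J)) ψ _ (1 ⊗ₜ r) = ψ r
  rw [Algebra.TensorProduct.lift_tmul, map_one, one_mul]

end base

end Groth.Agent.Lib.helper26.SmoothHensLift
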