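import Mathlib

/-!
# The Euler characteristic `ℓ(M/tM) - ℓ(ker t)`: additivity (helper26)

* `length_eq_range_add_range`
* `length_six_term`: lengths in a six term exact sequence.
* `chi_additive`: for `0 → N₁ → N₂ → N₃ → 0` exact,
  `ℓ(ker t|N₁) + ℓ(ker t|N₃) + ℓ(N₂/tN₂) = ℓ(ker t|N₂) + ℓ(N₁/tN₁) + ℓ(N₃/tN₃)`.
-/

set_option autoImplicit false
universe u

open Function

namespace Groth.Agent.Lib.helper26.Chi

variable {A : Type u} [CommRing A]

theorem length_eq_range_add_range {N M P : Type*} [AddCommGroup N] [Module A N]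
    [AddCommGroup M] [Module A M] [AddCommGroup P] [Module A P]
    (f : N →ₗ[A] M) (g : M →ₗ[A] P) (H : Exact f g) :
    Module.length A M = Module.length A (LinearMap.range f) + Module.length A (LinearMap.range g) := by
  refine Module.length_eq_add_of_exact (LinearMap.range f).subtype g.rangeRestrict
    (Submodule.injective_subtype _) (LinearMap.surjective_rangeRestrict g) ?_
  intro m
  constructor
  · intro hm
    have h1 : g m = 0 := by
      have := congrArg Subtype.val hm
      simpa using this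
    obtain ⟨n, rfl⟩ := (H m).1 h1
    exact ⟨⟨f n, ⟨n, rfl⟩⟩, rfl⟩
  · rintro ⟨⟨_, ⟨n, rfl⟩⟩, rfl⟩
    apply Subtype.ext
    simpa using (H (f n)).2 ⟨n, rfl⟩

theorem length_six_term {K₁ K₂ K₃ C₁ C₂ C₃ : Type*}
    [AddCommGroup K₁] [Module A K₁] [AddCommGroup K₂] [Module A K₂] [AddCommGroup K₃] [Module A K₃]
    [AddCommGroup C₁] [Module A C₁] [AddCommGroup C₂] [Module A C₂] [AddCommGroup C₃] [Module A C₃]
    (a : K₁ →ₗ[A] K₂) (b : K₂ →ₗ[A] K₃) (δ : K₃ →ₗ[A] C₁) (c : C₁ →ₗ[A] C₂) (e : C₂ →ₗ[A] C₃)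
    (ha : Injective a) (he : Surjective e)
    (hab : Exact a b) (hbδ : Exact b δ) (hδc : Exact δ c) (hce : Exact c e) :
    Module.length A K₁ + Module.length A K₃ + Module.length A C₂ =
      Module.length A K₂ + Module.length A C₁ + Module.length A C₃ := by
  have h1 : Module.length A (LinearMap.range a) = Module.length A K₁ :=
    (LinearEquiv.ofInjective a ha).length_eq.symm
  have h2 : Module.length A (LinearMap.range e) = Module.length A C₃ := by
    rw [LinearMap.range_eq_top.2 he]
    exact (Submodule.topEquiv).length_eq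
  rw [length_eq_range_add_range a b hab, length_eq_range_add_range b δ hbδ,
    length_eq_range_add_range δ c hδc, length_eq_range_add_range c e hce, h1, h2]
  ring

section chi

variable (t : A)

/-- The kernel of multiplication by `t`. -/
abbrev K (N : Type u) [AddCommGroup N] [Module A N] : Submodule A N :=
  LinearMap.ker (LinearMap.lsmul A N t)

/-- The cokernel of multiplication by `t`. -/
abbrev C (N : Type u) [AddCommGroup N] [Module A N] : Type u :=
  N ⧸ LinearMap.range (LinearMap.lsmul A N t)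

variable {N₁ N₂ N₃ : Type u} [AddCommGroup N₁] [Module A N₁] [AddCommGroup N₂] [Module A N₂]
  [AddCommGroup N₃] [Module A N₃]

/-- The induced map on kernels. -/
def mapK (f : N₁ →ₗ[A] N₂) : K t N₁ →ₗ[A] K t N₂ :=
  f.restrict (fun x hx => by
    rw [LinearMap.mem_ker, LinearMap.lsmul_apply] at hx ⊢
    rw [← map_smul, hx, map_zero])

/-- The induced map on cokernels. -/
def mapC (f : N₁ →ₗ[A] N₂) : C t N₁ →ₗ[A] C t N₂ :=
  Submodule.mapQ _ _ f (by
    rintro _ ⟨x, rfl⟩
    exact ⟨f x, by simp⟩)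

theorem chi_additive (f : N₁ →ₗ[A] N₂) (g : N₂ →ₗ[A] N₃) (hf : Injective f) (hg : Surjective g)
    (H : Exact f g) :
    Module.length A (K t N₁) + Module.length A (K t N₃) + Module.length A (C t N₂) =
      Module.length A (K t N₂) + Module.length A (C t N₁) + Module.length A (C t N₃) := by
  have h₁ : f.comp (LinearMap.lsmul A N₁ t) = (LinearMap.lsmul A N₂ t).comp f := by
    ext x; simp
  have h₂ : g.comp (LinearMap.lsmul A N₂ t) = (LinearMap.lsmul A N₃ t).comp g := by
    ext x; simp
  let δ := SnakeLemma.δ' (LinearMap.lsmul A N₁ t) (LinearMap.lsmul A N₂ t) (LinearMap.lsmul A N₃ t)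
    f g H f g H h₁ h₂ (K t N₃).subtype (LinearMap.exact_subtype_ker_map _)
    (LinearMap.range (LinearMap.lsmul A N₁ t)).mkQ (LinearMap.exact_map_mkQ_range _) hg hf
  have hbδ : Exact (mapK t g) δ :=
    SnakeLemma.exact_δ'_right (LinearMap.lsmul A N₁ t) (LinearMap.lsmul A N₂ t)
      (LinearMap.lsmul A N₃ t) f g H f g H h₁ h₂ (K t N₂).subtype
      (LinearMap.exact_subtype_ker_map _) (K t N₃).subtype (LinearMap.exact_subtype_ker_map _)
      (LinearMap.range (LinearMap.lsmul A N₁ t)).mkQ (LinearMap.exact_map_mkQ_range _) hg hf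
      (mapK t g) (by ext x; rfl) (Submodule.injective_subtype _)
  have hδc : Exact δ (mapC t f) :=
    SnakeLemma.exact_δ'_left (LinearMap.lsmul A N₁ t) (LinearMap.lsmul A N₂ t)
      (LinearMap.lsmul A N₃ t) f g H f g H h₁ h₂ (K t N₃).subtype
      (LinearMap.exact_subtype_ker_map _)
      (LinearMap.range (LinearMap.lsmul A N₁ t)).mkQ (LinearMap.exact_map_mkQ_range _)
      (LinearMap.range (LinearMap.lsmul A N₂ t)).mkQ (LinearMap.exact_map_mkQ_range _) hg hf
      (mapC t f) (by ext x; rfl) (Submodule.mkQ_surjective _)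
  refine length_six_term (mapK t f) (mapK t g) δ (mapC t f) (mapC t g) ?_ ?_ ?_ hbδ hδc ?_
  · intro x y hxy
    apply Subtype.ext
    apply hf
    exact congrArg Subtype.val hxy
  · intro z
    obtain ⟨z, rfl⟩ := Submodule.mkQ_surjective _ z
    obtain ⟨y, rfl⟩ := hg z
    exact ⟨Submodule.Quotient.mk y, rfl⟩
  · intro x
    constructor
    · intro hx
      have h1 : g x.1 = 0 := congrArg Subtype.val hx
      obtain ⟨y, hy⟩ := (H x.1).1 h1
      have hy' : y ∈ K t N₁ := by
        rw [LinearMap.mem_ker, LinearMap.lsmul_apply]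
        apply hf
        rw [map_smul, hy, map_zero]
        exact x.2
      exact ⟨⟨y, hy'⟩, Subtype.ext hy⟩
    · rintro ⟨y, rfl⟩
      apply Subtype.ext
      exact (H (f y.1)).2 ⟨y.1, rfl⟩
  · intro x
    obtain ⟨x, rfl⟩ := Submodule.mkQ_surjective _ x
    constructor
    · intro hx
      have h1 : g x ∈ LinearMap.range (LinearMap.lsmul A N₃ t) := by
        have : (LinearMap.range (LinearMap.lsmul A N₃ t)).mkQ (g x) = 0 := hx
        rwa [Submodule.mkQ_apply, Submodule.Quotient.mk_eq_zero] at this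
      obtain ⟨z, hz⟩ := h1
      obtain ⟨w, rfl⟩ := hg z
      have h2 : g (x - t • w) = 0 := by
        rw [map_sub, map_smul]
        rw [LinearMap.lsmul_apply] at hz
        rw [hz, sub_self]
      obtain ⟨y, hy⟩ := (H _).1 h2
      refine ⟨Submodule.Quotient.mk y, ?_⟩
      show (LinearMap.range (LinearMap.lsmul A N₂ t)).mkQ (f y) = _
      rw [hy, map_sub, sub_eq_self, Submodule.mkQ_apply, Submodule.Quotient.mk_eq_zero]
      exact ⟨w, rfl⟩
    · rintro ⟨y, hy⟩
      obtain ⟨y, rfl⟩ := Submodule.mkQ_surjective _ y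
      rw [← hy]
      show (LinearMap.range (LinearMap.lsmul A N₃ t)).mkQ (g (f y)) = 0
      rw [(H (f y)).2 ⟨y, rfl⟩, map_zero]

end chi

end Groth.Agent.Lib.helper26.Chi
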