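import Mathlib

/-!
# Hilbert–Samuel functions, part 1: relative lengths (helper26)

`col P = ℓ(M/P)`, `rl P Q = ℓ(P/(P ∩ Q))` for submodules `P, Q` of `M`, with
* `rl_add_col`: `Q ≤ P → rl P Q + col P = col Q`;
* `rl_comap_eq_rl_map`: for `φ : M →ₗ N`, `rl F (G.comap φ) = rl (F.map φ) G`;
* `rl_sup_left`: `rl (P ⊔ Q) Q = rl P Q`.
-/

set_option autoImplicit false
universe u v

namespace Groth.Agent.Lib.helper26.HS

variable {A : Type u} [CommRing A] {M : Type v} [AddCommGroup M] [Module A M]
  {N : Type v} [AddCommGroup N] [Module A N]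

/-- The colength of a submodule. -/
noncomputable def col (P : Submodule A M) : ℕ∞ := Module.length A (M ⧸ P)

/-- The relative length `ℓ(P/(P ∩ Q))`. -/
noncomputable def rl (P Q : Submodule A M) : ℕ∞ :=
  Module.length A (↥P ⧸ Q.comap P.subtype)

theorem rl_inf_right (P Q : Submodule A M) : rl P (P ⊓ Q) = rl P Q := by
  unfold rl
  rw [Submodule.comap_inf, Submodule.comap_subtype_self, top_inf_eq]

theorem rl_eq_length_map (P Q : Submodule A M) : rl P Q = Module.length A ↥(P.map Q.mkQ) := by
  unfold rl
  let θ : ↥P →ₗ[A] M ⧸ Q := Q.mkQ.comp P.subtype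
  have hker : LinearMap.ker θ = Q.comap P.subtype := by
    rw [LinearMap.ker_comp, Submodule.ker_mkQ]
  have hrange : LinearMap.range θ = P.map Q.mkQ := by
    rw [LinearMap.range_comp, Submodule.range_subtype]
  rw [← hker, ← hrange]
  exact (LinearMap.quotKerEquivRange θ).length_eq

theorem rl_add_col {P Q : Submodule A M} (h : Q ≤ P) : rl P Q + col P = col Q := by
  rw [rl_eq_length_map]
  unfold col
  rw [← (Submodule.quotientQuotientEquivQuotient Q P h).length_eq]
  exact (Module.length_eq_add_of_exact (P.map Q.mkQ).subtype (P.map Q.mkQ).mkQ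
    (Submodule.subtype_injective _) (Submodule.mkQ_surjective _)
    (LinearMap.exact_subtype_mkQ _)).symm

theorem col_le_col {P Q : Submodule A M} (h : Q ≤ P) : col P ≤ col Q := by
  rw [← rl_add_col h]
  exact le_add_self

theorem rl_le_col (P Q : Submodule A M) : rl P Q ≤ col Q := by
  rw [rl_eq_length_map]
  exact Module.length_le_of_injective (P.map Q.mkQ).subtype (Submodule.subtype_injective _)

theorem rl_eq_zero_of_le {P Q : Submodule A M} (h : P ≤ Q) : rl P Q = 0 := by
  unfold rl
  rw [Module.length_eq_zero_iff, Submodule.Quotient.subsingleton_iff, eq_top_iff]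
  intro x _
  exact h x.2

/-- The isomorphism induced by a linear map. -/
theorem rl_comap_eq_rl_map (φ : M →ₗ[A] N) (F : Submodule A M) (G : Submodule A N) :
    rl F (G.comap φ) = rl (F.map φ) G := by
  rw [rl_eq_length_map (F.map φ) G]
  unfold rl
  let θ : ↥F →ₗ[A] N ⧸ G := (G.mkQ.comp φ).comp F.subtype
  have hker : LinearMap.ker θ = (G.comap φ).comap F.subtype := by
    rw [LinearMap.ker_comp, LinearMap.ker_comp, Submodule.ker_mkQ]
  have hrange : LinearMap.range θ = (F.map φ).map G.mkQ := by
    rw [LinearMap.range_comp, Submodule.range_subtype, Submodule.map_comp]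
  rw [← hker, ← hrange]
  exact (LinearMap.quotKerEquivRange θ).length_eq

theorem rl_sup_left (P Q : Submodule A M) : rl (P ⊔ Q) Q = rl P Q := by
  rw [rl_eq_length_map, rl_eq_length_map, Submodule.map_sup, Submodule.mkQ_map_self, sup_bot_eq]

end Groth.Agent.Lib.helper26.HS
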