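import Mathlib

/-!
# Hilbert–Samuel functions, part 2: eventually polynomial functions (helper26)
-/

set_option autoImplicit false

open Polynomial

namespace Groth.Agent.Lib.helper26.HS

/-- `h : ℕ → ℕ` agrees with a rational polynomial for large arguments. -/
def EvPoly (h : ℕ → ℕ) : Prop :=
  ∃ (P : ℚ[X]) (N : ℕ), ∀ n, N ≤ n → (h n : ℚ) = P.eval (n : ℚ)

/-- Discrete integration of polynomials. -/
theorem exists_sum_poly (p : ℚ[X]) :
    ∃ S : ℚ[X], ∀ n : ℕ, S.eval (n : ℚ) = ∑ i ∈ Finset.range n, p.eval (i : ℚ) := by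
  induction p using Polynomial.induction_on' with
  | add p q hp hq =>
    obtain ⟨S, hS⟩ := hp
    obtain ⟨T, hT⟩ := hq
    refine ⟨S + T, fun n => ?_⟩
    rw [eval_add, hS, hT, ← Finset.sum_add_distrib]
    exact Finset.sum_congr rfl (fun i _ => (eval_add).symm)
  | monomial k a =>
    refine ⟨C (a / (k + 1 : ℚ)) * (Polynomial.bernoulli (k + 1) - C (_root_.bernoulli (k + 1))),
      fun n => ?_⟩
    have h1 := Polynomial.sum_range_pow_eq_bernoulli_sub n k
    have hk : (k + 1 : ℚ) ≠ 0 := by positivity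
    rw [eval_mul, eval_C, eval_sub, eval_C, ← h1]
    simp only [eval_monomial]
    rw [← Finset.mul_sum]
    field_simp

theorem evPoly_of_diff (h : ℕ → ℕ) (p : ℚ[X]) (N : ℕ)
    (H : ∀ n, N ≤ n → (h (n + 1) : ℚ) - h n = p.eval (n : ℚ)) : EvPoly h := by
  obtain ⟨S, hS⟩ := exists_sum_poly p
  refine ⟨S + C ((h N : ℚ) - S.eval (N : ℚ)), N, fun n hn => ?_⟩
  rw [eval_add, eval_C]
  induction n, hn using Nat.le_induction with
  | base => ring
  | succ n hn ih =>
    have h1 := H n hn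
    have h2 : S.eval ((n + 1 : ℕ) : ℚ) = S.eval (n : ℚ) + p.eval (n : ℚ) := by
      rw [hS, hS, Finset.sum_range_succ]
    rw [h2]
    linarith

theorem EvPoly.of_eventually_eq {h h' : ℕ → ℕ} (hh : EvPoly h) (N : ℕ)
    (H : ∀ n, N ≤ n → h' n = h n) : EvPoly h' := by
  obtain ⟨P, N', hP⟩ := hh
  refine ⟨P, max N N', fun n hn => ?_⟩
  rw [H n (le_trans (le_max_left _ _) hn), hP n (le_trans (le_max_right _ _) hn)]

theorem evPoly_zero : EvPoly (fun _ => 0) := ⟨0, 0, fun n _ => by simp⟩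

/-- If `h(n+1) + k(n) = h(n) + c(n+1)` for large `n` and `k`, `c` are eventually polynomial then
so is `h`. -/
theorem evPoly_of_diff_eq (h k c : ℕ → ℕ) (hk : EvPoly k) (hc : EvPoly c) (N : ℕ)
    (H : ∀ n, N ≤ n → h (n + 1) + k n = h n + c (n + 1)) : EvPoly h := by
  obtain ⟨Pk, Nk, hPk⟩ := hk
  obtain ⟨Pc, Nc, hPc⟩ := hc
  refine evPoly_of_diff h (Pc.comp (X + C 1) - Pk) (max N (max Nk Nc)) (fun n hn => ?_)
  have h1 := H n (le_trans (le_max_left _ _) hn)
  have h2 := hPk n (le_trans (le_trans (le_max_left _ _) (le_max_right _ _)) hn)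
  have h3 := hPc (n + 1) (le_trans (le_trans (le_trans (le_max_right _ _) (le_max_right _ _)) hn)
    (Nat.le_succ n))
  have h4 : ((h (n + 1) : ℚ) + k n) = h n + c (n + 1) := by exact_mod_cast h1
  rw [eval_sub, eval_comp, eval_add, eval_X, eval_C, ← h2]
  have h5 : ((n + 1 : ℕ) : ℚ) = (n : ℚ) + 1 := by push_cast; ring
  rw [h5] at h3
  rw [← h3]
  linarith

/-- If `f(n+1) = f(n) + h(n)` and `h` is eventually polynomial then so is `f`. -/
theorem evPoly_of_succ (f h : ℕ → ℕ) (hh : EvPoly h) (H : ∀ n, f (n + 1) = f n + h n) :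
    EvPoly f := by
  obtain ⟨P, N, hP⟩ := hh
  refine evPoly_of_diff f P N (fun n hn => ?_)
  rw [← hP n hn, H n]
  push_cast
  ring

theorem eq_of_eventually_eq (P Q : ℚ[X]) (N : ℕ)
    (H : ∀ n : ℕ, N ≤ n → P.eval (n : ℚ) = Q.eval (n : ℚ)) : P = Q := by
  apply eq_of_infinite_eval_eq P Q
  apply ((Set.Ioi_infinite N).image Nat.cast_injective.injOn).mono
  rintro x ⟨n, hn, rfl⟩
  exact H n (le_of_lt hn)

/-- Degree comparison from eventual inequality of (nonnegative) values. -/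
theorem degree_le_of_eventually_le (P Q : ℚ[X]) (N : ℕ)
    (H : ∀ n : ℕ, N ≤ n → 0 ≤ P.eval (n : ℚ) ∧ P.eval (n : ℚ) ≤ Q.eval (n : ℚ)) :
    P.degree ≤ Q.degree := by
  by_contra hlt
  rw [not_le] at hlt
  by_cases hQ : Q = 0
  · have hP : P = 0 := by
      apply eq_of_eventually_eq P 0 N
      intro n hn
      have := H n hn
      rw [hQ, eval_zero] at this
      rw [eval_zero]
      exact le_antisymm this.2 this.1
    rw [hP, hQ] at hlt
    exact lt_irrefl _ hlt
  · have h1 := Polynomial.abs_div_tendsto_atTop_atTop_of_degree_gt P Q hlt hQ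
    have h2 : Filter.Tendsto (fun n : ℕ => |P.eval (n : ℚ) / Q.eval (n : ℚ)|) Filter.atTop
        Filter.atTop := h1.comp tendsto_natCast_atTop_atTop
    have h3 := (h2.eventually (Filter.eventually_gt_atTop (1 : ℚ))).and
      (Filter.eventually_ge_atTop N)
    obtain ⟨n, hn1, hn2⟩ := h3.exists
    have := H n hn2
    have h4 : |P.eval (n : ℚ) / Q.eval (n : ℚ)| ≤ 1 := by
      have hQ0 : 0 ≤ Q.eval (n : ℚ) := le_trans this.1 this.2
      rw [abs_of_nonneg (div_nonneg this.1 hQ0)]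
      exact div_le_one_of_le₀ this.2 hQ0
    exact absurd hn1 (not_lt.2 h4)

theorem natDegree_le_of_eventually_le (P Q : ℚ[X]) (N : ℕ)
    (H : ∀ n : ℕ, N ≤ n → 0 ≤ P.eval (n : ℚ) ∧ P.eval (n : ℚ) ≤ Q.eval (n : ℚ)) :
    P.natDegree ≤ Q.natDegree :=
  natDegree_le_natDegree (degree_le_of_eventually_le P Q N H)

theorem natDegree_comp_X_add_C (P : ℚ[X]) (c : ℚ) : (P.comp (X + C c)).natDegree = P.natDegree := by
  rw [natDegree_comp, natDegree_X_add_C, mul_one]

/-- The difference `P(X) - P(X - c)` has smaller degree. -/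
theorem natDegree_sub_comp_lt (P : ℚ[X]) (c : ℚ) (hP : 0 < P.natDegree) :
    (P - P.comp (X + C c)).natDegree < P.natDegree := by
  have hP0 : P ≠ 0 := by
    rintro rfl
    simp at hP
  have hd : P.degree = (P.comp (X + C c)).degree := by
    rw [degree_eq_natDegree hP0, degree_eq_natDegree, natDegree_comp_X_add_C]
    intro h0
    have := natDegree_comp_X_add_C P c
    rw [h0, natDegree_zero] at this
    omega
  have hl : P.leadingCoeff = (P.comp (X + C c)).leadingCoeff := by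
    rw [leadingCoeff_comp (by rw [natDegree_X_add_C]; exact one_ne_zero), leadingCoeff_X_add_C,
      one_pow, mul_one]
  have h1 := degree_sub_lt_left hd hP0 hl
  by_cases h0 : P - P.comp (X + C c) = 0
  · rw [h0, natDegree_zero]
    exact hP
  · exact (natDegree_lt_natDegree_iff h0).2 h1

end Groth.Agent.Lib.helper26.HS
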