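import Mathlib
import Groth.Agent.Lib.Helper26.HS1
import Groth.Agent.Lib.Helper26.HS2

/-!
# Hilbert–Samuel functions, part 3: polynomiality (helper26)

`hsf`: a Hilbert–Serre theorem for pairs of filtrations `G ≤ F` (with `F` stable) of a finite module
over a Noetherian ring: `n ↦ ℓ(F_n / G_n)` is eventually polynomial.
`evPoly_length_quotient_pow`: `n ↦ ℓ(M / q^n M)` is eventually polynomial if `ℓ(M / qM) < ∞`.
-/

set_option autoImplicit false
universe u

open Polynomial

namespace Groth.Agent.Lib.helper26.HS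

variable {A : Type u} [CommRing A] {M : Type u} [AddCommGroup M] [Module A M]

theorem rl_chain {Q P' P : Submodule A M} (h1 : Q ≤ P') (h2 : P' ≤ P) (hQ : col Q ≠ ⊤) :
    rl P Q = rl P' Q + rl P P' := by
  have e1 := rl_add_col (h1.trans h2)
  have e2 := rl_add_col h1
  have e3 := rl_add_col h2
  have hP : col P ≠ ⊤ := ne_top_of_le_ne_top hQ (col_le_col (h1.trans h2))
  have e4 : rl P Q + col P = (rl P' Q + rl P P') + col P := by
    rw [e1, add_assoc, e3, e2]
  exact (ENat.add_left_injective_of_ne_top hP) e4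

theorem span_smul_le {s : ℕ} (x : Fin s → A) (P Q : Submodule A M)
    (h : ∀ j, P.map (LinearMap.lsmul A M (x j)) ≤ Q) :
    Ideal.span (Set.range x) • P ≤ Q := by
  rw [Submodule.smul_le]
  intro r hr m hm
  induction hr using Submodule.span_induction with
  | mem r hr =>
    obtain ⟨j, rfl⟩ := hr
    exact h j ⟨m, hm, rfl⟩
  | zero => rw [zero_smul]; exact Q.zero_mem
  | add a b _ _ ha hb => rw [add_smul]; exact Q.add_mem ha hb
  | smul a b _ hb => rw [smul_eq_mul, mul_smul]; exact Q.smul_mem a hb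

variable [IsNoetherianRing A] [Module.Finite A M]

theorem hsf {s : ℕ} (x : Fin s → A) (q : Ideal A) (hq : q = Ideal.span (Set.range x)) :
    ∀ (s' : ℕ), s' ≤ s → ∀ (F G : q.Filtration M), F.Stable → G ≤ F → (∀ n, col (G.N n) ≠ ⊤) →
      (∀ j : Fin s, s' ≤ j.val → ∀ n, (F.N n).map (LinearMap.lsmul A M (x j)) ≤ G.N (n + 1)) →
      EvPoly (fun n => (rl (F.N n) (G.N n)).toNat) := by
  subst hq
  intro s'
  induction s' with
  | zero =>
    intro _ F G hF hGF hcol hkill
    obtain ⟨n₀, hn₀⟩ := hF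
    refine evPoly_zero.of_eventually_eq (n₀ + 1) (fun n hn => ?_)
    obtain ⟨m, rfl⟩ : ∃ m, n = m + 1 := ⟨n - 1, by omega⟩
    have hm : n₀ ≤ m := by omega
    have h1 : F.N (m + 1) ≤ G.N (m + 1) := by
      rw [← hn₀ m hm]
      exact span_smul_le x _ _ (fun j => hkill j (Nat.zero_le _) m)
    show (rl (F.N (m + 1)) (G.N (m + 1))).toNat = 0
    rw [rl_eq_zero_of_le h1]
    rfl
  | succ s' ih =>
    intro hs F G hF hGF hcol hkill
    have hs' : s' < s := hs
    set μ : M →ₗ[A] M := LinearMap.lsmul A M (x ⟨s', hs'⟩) with hμ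
    have hμq : ∀ (P : Submodule A M), P.map μ ≤ Ideal.span (Set.range x) • P := by
      rintro P _ ⟨m, hm, rfl⟩
      exact Submodule.smul_mem_smul (Ideal.subset_span ⟨⟨s', hs'⟩, rfl⟩) hm
    -- the kernel filtration
    let F' : (Ideal.span (Set.range x)).Filtration M :=
      { N := fun n => F.N n ⊓ (G.N (n + 1)).comap μ
        mono := fun n => inf_le_inf (F.mono n) (Submodule.comap_mono (G.mono (n + 1)))
        smul_le := fun n => by
          refine le_inf ((Submodule.smul_mono le_rfl inf_le_left).trans (F.smul_le n)) ?_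
          rw [Submodule.smul_le]
          intro r hr m hm
          show μ (r • m) ∈ G.N (n + 1 + 1)
          rw [map_smul]
          exact G.smul_le (n + 1) (Submodule.smul_mem_smul hr hm.2) }
    -- the cokernel filtration
    let G'' : (Ideal.span (Set.range x)).Filtration M :=
      { N := fun n => G.N n ⊔ (F.N (n - 1)).map μ
        mono := fun n => sup_le_sup (G.mono n)
          (Submodule.map_mono (F.antitone (by omega)))
        smul_le := fun n => by
          rw [Submodule.smul_sup]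
          refine sup_le_sup (G.smul_le n) ?_
          rw [Submodule.smul_le]
          rintro r hr _ ⟨m, hm, rfl⟩
          refine ⟨r • m, ?_, by rw [map_smul]⟩
          have h1 : r • m ∈ F.N (n - 1 + 1) := F.smul_le (n - 1) (Submodule.smul_mem_smul hr hm)
          exact F.antitone (by omega : n + 1 - 1 ≤ n - 1 + 1) h1 }
    have hF'F : F' ≤ F := fun n => inf_le_left
    have hGF' : G ≤ F' := fun n => le_inf (hGF n) (by
      intro m hm
      show μ m ∈ G.N (n + 1)
      exact G.smul_le n (hμq _ ⟨m, hm, rfl⟩))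
    have hG''F : G'' ≤ F := fun n => sup_le (hGF n) ((hμq _).trans
      ((F.smul_le (n - 1)).trans (F.antitone (by omega))))
    have hGG'' : G ≤ G'' := fun n => le_sup_left
    have hk := ih (le_of_lt hs') F' G (hF.of_le hF'F) hGF' hcol (by
      intro j hj n
      rcases Nat.eq_or_lt_of_le hj with h | h
      · have hjeq : j = ⟨s', hs'⟩ := Fin.ext h.symm
        rw [hjeq]
        rintro _ ⟨m, hm, rfl⟩
        exact hm.2
      · exact (Submodule.map_mono inf_le_left).trans (hkill j h n))
    have hc := ih (le_of_lt hs') F G'' hF hG''F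
      (fun n => ne_top_of_le_ne_top (hcol n) (col_le_col (hGG'' n))) (by
      intro j hj n
      rcases Nat.eq_or_lt_of_le hj with h | h
      · have hjeq : j = ⟨s', hs'⟩ := Fin.ext h.symm
        rw [hjeq]
        show (F.N n).map μ ≤ G.N (n + 1) ⊔ (F.N (n + 1 - 1)).map μ
        rw [Nat.add_sub_cancel]
        exact le_sup_right
      · exact (hkill j h n).trans le_sup_left)
    refine evPoly_of_diff_eq _ _ _ hk hc 0 (fun n _ => ?_)
    -- the key identity
    have i1 : rl (F.N n) (G.N n) = rl (F'.N n) (G.N n) + rl (F.N n) (F'.N n) :=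
      rl_chain (hGF' n) (hF'F n) (hcol n)
    have i2 : rl (F.N (n + 1)) (G.N (n + 1)) =
        rl (G''.N (n + 1)) (G.N (n + 1)) + rl (F.N (n + 1)) (G''.N (n + 1)) :=
      rl_chain (hGG'' (n + 1)) (hG''F (n + 1)) (hcol (n + 1))
    have i3 : rl (F.N n) (F'.N n) = rl (G''.N (n + 1)) (G.N (n + 1)) := by
      show rl (F.N n) (F.N n ⊓ (G.N (n + 1)).comap μ) =
        rl (G.N (n + 1) ⊔ (F.N (n + 1 - 1)).map μ) (G.N (n + 1))
      rw [Nat.add_sub_cancel, rl_inf_right, rl_comap_eq_rl_map, sup_comm, rl_sup_left]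
    have f1 : rl (F'.N n) (G.N n) ≠ ⊤ := ne_top_of_le_ne_top (hcol n) (rl_le_col _ _)
    have f2 : rl (F.N n) (F'.N n) ≠ ⊤ :=
      ne_top_of_le_ne_top (ne_top_of_le_ne_top (hcol n) (col_le_col (hGF' n))) (rl_le_col _ _)
    have f3 : rl (F.N (n + 1)) (G''.N (n + 1)) ≠ ⊤ :=
      ne_top_of_le_ne_top (ne_top_of_le_ne_top (hcol (n + 1)) (col_le_col (hGG'' (n + 1))))
        (rl_le_col _ _)
    show (rl (F.N (n + 1)) (G.N (n + 1))).toNat + (rl (F'.N n) (G.N n)).toNat =
      (rl (F.N n) (G.N n)).toNat + (rl (F.N (n + 1)) (G''.N (n + 1))).toNat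
    rw [i1, i2, ← i3, ENat.toNat_add f2 f3, ENat.toNat_add f1 f2]
    ring

end Groth.Agent.Lib.helper26.HS
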