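import Mathlib
import Groth.Agent.Lib.Helper26.HS3
import Groth.Agent.Lib.Helper8.StalkLenAlg

/-!
# Hilbert–Samuel functions, part 4: the Hilbert–Samuel function `n ↦ ℓ(M / q^n M)` (helper26)
-/

set_option autoImplicit false
universe u

open Polynomial

namespace Groth.Agent.Lib.helper26.HS

variable {A : Type u} [CommRing A] [IsNoetherianRing A]

/-- The Hilbert–Samuel function (with values in `ℕ∞`). -/
noncomputable def hs (q : Ideal A) (M : Type u) [AddCommGroup M] [Module A M] (n : ℕ) : ℕ∞ :=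
  col (q ^ n • (⊤ : Submodule A M))

variable (q : Ideal A) (M : Type u) [AddCommGroup M] [Module A M] [Module.Finite A M]

theorem hs_zero : hs q M 0 = 0 := by
  unfold hs col
  rw [pow_zero, Ideal.one_eq_top, Submodule.top_smul, Module.length_eq_zero_iff]
  infer_instance

theorem hs_ne_top (h : hs q M 1 ≠ ⊤) (n : ℕ) : hs q M n ≠ ⊤ := by
  rcases Nat.eq_zero_or_pos n with rfl | hn
  · rw [hs_zero]
    exact ENat.zero_ne_top
  unfold hs col at h ⊢
  rw [Module.length_ne_top_iff,
    Groth.Agent.Lib.helper8.StalkLen.isFiniteLength_iff_support_isMaximal] at h ⊢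
  intro Q hQ
  apply h Q
  rw [Module.support_quotient] at hQ ⊢
  rw [PrimeSpectrum.zeroLocus_pow q (Nat.pos_iff_ne_zero.1 hn)] at hQ
  rw [pow_one]
  exact hQ

theorem hs_mono {m n : ℕ} (h : m ≤ n) : hs q M m ≤ hs q M n := by
  unfold hs
  apply col_le_col
  exact Submodule.smul_mono (Ideal.pow_le_pow_right h) le_rfl

theorem evPoly_hs (h : hs q M 1 ≠ ⊤) : EvPoly (fun n => (hs q M n).toNat) := by
  obtain ⟨t, ht⟩ := (isNoetherianRing_iff_ideal_fg A).1 inferInstance q
  -- generators indexed by `Fin s`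
  let s := t.card
  let x : Fin s → A := fun j => (t.equivFin.symm j : A)
  have hq : q = Ideal.span (Set.range x) := by
    rw [← ht]
    congr 1
    ext a
    constructor
    · intro ha
      exact ⟨t.equivFin ⟨a, ha⟩, by simp [x]⟩
    · rintro ⟨j, rfl⟩
      exact (t.equivFin.symm j).2
  let F : q.Filtration M := q.stableFiltration ⊤
  let G : q.Filtration M :=
    { N := fun n => q ^ (n + 1) • ⊤
      mono := fun n => Submodule.smul_mono (Ideal.pow_le_pow_right (Nat.le_succ _)) le_rfl
      smul_le := fun n => by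
        rw [← mul_smul, ← pow_succ'] }
  have hGF : G ≤ F := fun n => Submodule.smul_mono (Ideal.pow_le_pow_right (Nat.le_succ _)) le_rfl
  have hcol : ∀ n, col (G.N n) ≠ ⊤ := fun n => hs_ne_top q M h (n + 1)
  have hkill : ∀ j : Fin s, s ≤ j.val → ∀ n,
      (F.N n).map (LinearMap.lsmul A M (x j)) ≤ G.N (n + 1) := fun j hj => absurd j.2 (not_lt.2 hj)
  have key := hsf x q hq s le_rfl F G (q.stableFiltration_stable ⊤) hGF hcol hkill
  refine evPoly_of_succ (fun n => (hs q M n).toNat) _ key (fun n => ?_)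
  have h1 : rl (F.N n) (G.N n) + col (F.N n) = col (G.N n) := rl_add_col (hGF n)
  have f1 : col (F.N n) ≠ ⊤ := hs_ne_top q M h n
  have f2 : rl (F.N n) (G.N n) ≠ ⊤ := ne_top_of_le_ne_top (hcol n) (rl_le_col _ _)
  show (col (q ^ (n + 1) • (⊤ : Submodule A M))).toNat = (col (q ^ n • (⊤ : Submodule A M))).toNat +
    (rl (F.N n) (G.N n)).toNat
  have h2 : col (G.N n) = col (q ^ (n + 1) • (⊤ : Submodule A M)) := rfl
  have h3 : col (F.N n) = col (q ^ n • (⊤ : Submodule A M)) := rfl
  rw [← h2, ← h3, ← h1, ENat.toNat_add f2 f1, add_comm]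

end Groth.Agent.Lib.helper26.HS
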