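import Mathlib
import Groth.Agent.Lib.Helper26.HS4

/-!
# Hilbert–Samuel functions, part 5: exact sequences and Artin–Rees (helper26)

* `hs_exact`: for `M' → M → M'' → 0` exact, `hs q M n = hs q M'' n + ℓ(M' / φ⁻¹(q^n M))`.
* `col_comap_le_hs`: `ℓ(M' / φ⁻¹(q^n M)) ≤ hs q M' n`.
* `exists_hs_le_col_comap`: Artin–Rees: for injective `φ`, `hs q M' (n - k) ≤ ℓ(M' / φ⁻¹(q^n M))`.
-/

set_option autoImplicit false
set_option linter.unusedSectionVars false
universe u

open Polynomial

namespace Groth.Agent.Lib.helper26.HS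

variable {A : Type u} [CommRing A]

section general

variable {M : Type u} [AddCommGroup M] [Module A M]

theorem rl_top (Q : Submodule A M) : rl (⊤ : Submodule A M) Q = col Q := by
  rw [rl_eq_length_map, Submodule.map_top, Submodule.range_mkQ]
  exact (Submodule.topEquiv).length_eq

theorem col_comap_of_surjective {M'' : Type u} [AddCommGroup M''] [Module A M'']
    (ψ : M →ₗ[A] M'') (hψ : Function.Surjective ψ) (Q : Submodule A M'') :
    col (Q.comap ψ) = col Q := by
  rw [← rl_top, rl_comap_eq_rl_map, Submodule.map_top, LinearMap.range_eq_top.2 hψ, rl_top]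

end general

variable (q : Ideal A)
  {M' M M'' : Type u} [AddCommGroup M'] [Module A M'] [AddCommGroup M] [Module A M]
  [AddCommGroup M''] [Module A M'']

theorem hs_exact (φ : M' →ₗ[A] M) (ψ : M →ₗ[A] M'') (hψ : Function.Surjective ψ)
    (hex : LinearMap.range φ = LinearMap.ker ψ) (n : ℕ) :
    hs q M n = hs q M'' n + col ((q ^ n • (⊤ : Submodule A M)).comap φ) := by
  have hP : (q ^ n • (⊤ : Submodule A M'')).comap ψ = LinearMap.range φ ⊔ q ^ n • ⊤ := by
    have h1 : (q ^ n • (⊤ : Submodule A M'')) = (q ^ n • (⊤ : Submodule A M)).map ψ := by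
      rw [Submodule.map_smul'', Submodule.map_top, LinearMap.range_eq_top.2 hψ]
    rw [h1, Submodule.comap_map_eq, hex, sup_comm]
  have h2 : q ^ n • (⊤ : Submodule A M) ≤ LinearMap.range φ ⊔ q ^ n • ⊤ := le_sup_right
  have h3 : col (LinearMap.range φ ⊔ q ^ n • (⊤ : Submodule A M)) =
      col (q ^ n • (⊤ : Submodule A M'')) := by
    rw [← hP, col_comap_of_surjective ψ hψ]
  have h4 : rl (LinearMap.range φ ⊔ q ^ n • (⊤ : Submodule A M)) (q ^ n • (⊤ : Submodule A M)) =
      col ((q ^ n • (⊤ : Submodule A M)).comap φ) := by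
    rw [rl_sup_left, ← Submodule.map_top, ← rl_comap_eq_rl_map, rl_top]
  unfold hs
  rw [← rl_add_col h2, h3, h4, add_comm]

theorem col_comap_le_hs (φ : M' →ₗ[A] M) (n : ℕ) :
    col ((q ^ n • (⊤ : Submodule A M)).comap φ) ≤ hs q M' n := by
  unfold hs
  apply col_le_col
  rw [← Submodule.map_le_iff_le_comap, Submodule.map_smul'']
  exact Submodule.smul_mono le_rfl le_top

theorem hs_le_of_surjective (ψ : M →ₗ[A] M'') (hψ : Function.Surjective ψ) (n : ℕ) :
    hs q M'' n ≤ hs q M n := by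
  rw [hs_exact q (LinearMap.ker ψ).subtype ψ hψ (Submodule.range_subtype _) n]
  exact le_self_add

theorem exists_hs_le_col_comap [IsNoetherianRing A] [Module.Finite A M] (φ : M' →ₗ[A] M)
    (hφ : Function.Injective φ) :
    ∃ k : ℕ, ∀ n, k ≤ n → hs q M' (n - k) ≤ col ((q ^ n • (⊤ : Submodule A M)).comap φ) := by
  obtain ⟨k, hk⟩ := Ideal.exists_pow_inf_eq_pow_smul q (LinearMap.range φ)
  refine ⟨k, fun n hn => ?_⟩
  unfold hs
  apply col_le_col
  intro m' hm'
  have h1 : φ m' ∈ q ^ n • (⊤ : Submodule A M) ⊓ LinearMap.range φ := ⟨hm', ⟨m', rfl⟩⟩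
  rw [hk n hn] at h1
  have h2 : q ^ (n - k) • (q ^ k • (⊤ : Submodule A M) ⊓ LinearMap.range φ) ≤
      (q ^ (n - k) • (⊤ : Submodule A M')).map φ := by
    rw [Submodule.map_smul'', Submodule.map_top]
    exact Submodule.smul_mono le_rfl inf_le_right
  obtain ⟨m'', hm'', he⟩ := h2 h1
  rw [← hφ he]
  exact hm''

/-- Sub-modules: `hs q M' (n - k) ≤ hs q M n`. -/
theorem exists_hs_le_of_injective [IsNoetherianRing A] [Module.Finite A M] (φ : M' →ₗ[A] M)
    (hφ : Function.Injective φ) : ∃ k : ℕ, ∀ n, k ≤ n → hs q M' (n - k) ≤ hs q M n := by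
  obtain ⟨k, hk⟩ := exists_hs_le_col_comap q φ hφ
  refine ⟨k, fun n hn => (hk n hn).trans ?_⟩
  rw [hs_exact q φ (LinearMap.range φ).mkQ (Submodule.mkQ_surjective _)
    (Submodule.ker_mkQ _).symm n]
  exact le_add_self

end Groth.Agent.Lib.helper26.HS
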