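import Mathlib
import Groth.Agent.Lib.Helper26.HS5

/-!
# Hilbert–Samuel functions, part 6: Hilbert–Samuel polynomials and degree comparisons (helper26)
-/

set_option autoImplicit false
set_option linter.unusedSectionVars false
universe u

open Polynomial Pointwise

namespace Groth.Agent.Lib.helper26.HS

variable {A : Type u} [CommRing A] [IsNoetherianRing A] (q : Ideal A)

/-- `P` is the Hilbert–Samuel polynomial of `M` with respect to `q`. -/
def IsHSPoly (M : Type u) [AddCommGroup M] [Module A M] (P : ℚ[X]) : Prop :=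
  ∃ N : ℕ, ∀ n, N ≤ n → ((hs q M n).toNat : ℚ) = P.eval (n : ℚ)

variable {M' M M'' : Type u} [AddCommGroup M'] [Module A M'] [AddCommGroup M] [Module A M]
  [AddCommGroup M''] [Module A M''] [Module.Finite A M'] [Module.Finite A M] [Module.Finite A M'']

theorem exists_isHSPoly (h : hs q M 1 ≠ ⊤) : ∃ P, IsHSPoly q M P := by
  obtain ⟨P, N, hP⟩ := evPoly_hs q M h
  exact ⟨P, N, hP⟩

theorem hs_one_ne_top_of_support_subset (h : hs q M 1 ≠ ⊤)
    (hsupp : Module.support A M' ⊆ Module.support A M) : hs q M' 1 ≠ ⊤ := by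
  unfold hs col at h ⊢
  rw [Module.length_ne_top_iff,
    Groth.Agent.Lib.helper8.StalkLen.isFiniteLength_iff_support_isMaximal] at h ⊢
  intro Q hQ
  apply h Q
  rw [Module.support_quotient] at hQ ⊢
  exact ⟨hsupp hQ.1, hQ.2⟩

theorem IsHSPoly.unique {P Q : ℚ[X]} (hP : IsHSPoly q M P) (hQ : IsHSPoly q M Q) : P = Q := by
  obtain ⟨N, hN⟩ := hP
  obtain ⟨N', hN'⟩ := hQ
  apply eq_of_eventually_eq P Q (max N N')
  intro n hn
  rw [← hN n (le_trans (le_max_left _ _) hn), ← hN' n (le_trans (le_max_right _ _) hn)]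

/-- Sub-modules have Hilbert–Samuel polynomials of at most the same degree. -/
theorem natDegree_le_of_injective (φ : M' →ₗ[A] M) (hφ : Function.Injective φ)
    (hM : hs q M 1 ≠ ⊤) (hM' : hs q M' 1 ≠ ⊤) {P' P : ℚ[X]}
    (hP' : IsHSPoly q M' P') (hP : IsHSPoly q M P) : P'.natDegree ≤ P.natDegree := by
  obtain ⟨k, hk⟩ := exists_hs_le_of_injective q φ hφ
  obtain ⟨N', hN'⟩ := hP'
  obtain ⟨N, hN⟩ := hP
  rw [← natDegree_comp_X_add_C P' (-(k : ℚ))]
  apply natDegree_le_of_eventually_le _ _ (max N (N' + k))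
  intro n hn
  have hn1 : N ≤ n := le_trans (le_max_left _ _) hn
  have hn2 : N' + k ≤ n := le_trans (le_max_right _ _) hn
  have h1 : (P'.comp (X + C (-(k : ℚ)))).eval (n : ℚ) = ((hs q M' (n - k)).toNat : ℚ) := by
    rw [eval_comp, eval_add, eval_X, eval_C, hN' (n - k) (by omega)]
    congr 1
    rw [Nat.cast_sub (by omega : k ≤ n)]
    ring
  rw [h1, ← hN n hn1]
  refine ⟨Nat.cast_nonneg _, ?_⟩
  have h2 : (hs q M' (n - k)).toNat ≤ (hs q M n).toNat :=
    ENat.toNat_le_toNat (hk n (by omega)) (hs_ne_top q M hM n)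
  exact_mod_cast h2

/-- Quotient modules have Hilbert–Samuel polynomials of at most the same degree. -/
theorem natDegree_le_of_surjective (ψ : M →ₗ[A] M'') (hψ : Function.Surjective ψ)
    (hM : hs q M 1 ≠ ⊤) {P'' P : ℚ[X]}
    (hP'' : IsHSPoly q M'' P'') (hP : IsHSPoly q M P) : P''.natDegree ≤ P.natDegree := by
  obtain ⟨N'', hN''⟩ := hP''
  obtain ⟨N, hN⟩ := hP
  apply natDegree_le_of_eventually_le _ _ (max N N'')
  intro n hn
  rw [← hN n (le_trans (le_max_left _ _) hn), ← hN'' n (le_trans (le_max_right _ _) hn)]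
  refine ⟨Nat.cast_nonneg _, ?_⟩
  have h2 : (hs q M'' n).toNat ≤ (hs q M n).toNat :=
    ENat.toNat_le_toNat (hs_le_of_surjective q ψ hψ n) (hs_ne_top q M hM n)
  exact_mod_cast h2

end Groth.Agent.Lib.helper26.HS
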