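import Mathlib
import Groth.Agent.Lib.Helper26.HS6

/-!
# Hilbert–Samuel functions, part 7: quotients by one element (helper26)

* `exists_hs_quotSMulTop_add_le`: `x ∈ q` `M`-regular: `hs (M/xM) n + hs M (n-k) ≤ hs M n`.
* `natDegree_quotSMulTop_lt`, `quotSMulTop_poly_eq_zero`: the Hilbert–Samuel polynomial of `M/xM`
  has smaller degree.
* `hs_le_mul_hs_quotSMulTop`: `x ∈ q`: `hs M n ≤ n * hs (M/xM) n`.
* `natDegree_le_quotSMulTop_succ`: `deg P_M ≤ deg P_{M/xM} + 1`.
* `subsingleton_of_isHSPoly_zero`: Nakayama.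
-/

set_option autoImplicit false
set_option linter.unusedSectionVars false
universe u

open Polynomial Pointwise

namespace Groth.Agent.Lib.helper26.HS

variable {A : Type u} [CommRing A] [IsNoetherianRing A] (q : Ideal A)
  {M : Type u} [AddCommGroup M] [Module A M] [Module.Finite A M]

theorem range_lsmul (x : A) :
    LinearMap.range (LinearMap.lsmul A M x) = LinearMap.ker (x • (⊤ : Submodule A M)).mkQ := by
  rw [Submodule.ker_mkQ]
  ext m
  constructor
  · rintro ⟨m', rfl⟩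
    exact Submodule.smul_mem_pointwise_smul m' x ⊤ Submodule.mem_top
  · intro hm
    obtain ⟨m', -, rfl⟩ := (Submodule.mem_smul_pointwise_iff_exists m x ⊤).1 hm
    exact ⟨m', rfl⟩

theorem exists_hs_quotSMulTop_add_le {x : A} (hx : IsSMulRegular M x) :
    ∃ k : ℕ, ∀ n, k ≤ n → hs q (QuotSMulTop x M) n + hs q M (n - k) ≤ hs q M n := by
  obtain ⟨k, hk⟩ := exists_hs_le_col_comap q (LinearMap.lsmul A M x) hx
  refine ⟨k, fun n hn => ?_⟩
  rw [hs_exact q (LinearMap.lsmul A M x) (x • (⊤ : Submodule A M)).mkQ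
    (Submodule.mkQ_surjective _) (range_lsmul x) n]
  exact add_le_add le_rfl (hk n hn)

theorem hs_succ_le_add_hs_quotSMulTop {x : A} (hx : x ∈ q) (n : ℕ) :
    hs q M (n + 1) ≤ hs q M n + hs q (QuotSMulTop x M) (n + 1) := by
  rw [hs_exact q (LinearMap.lsmul A M x) (x • (⊤ : Submodule A M)).mkQ
    (Submodule.mkQ_surjective _) (range_lsmul x) (n + 1), add_comm]
  refine add_le_add ?_ le_rfl
  unfold hs
  apply col_le_col
  intro m hm
  change x • m ∈ q ^ (n + 1) • (⊤ : Submodule A M)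
  rw [pow_succ', mul_smul]
  exact Submodule.smul_mem_smul hx hm

theorem hs_le_mul_hs_quotSMulTop {x : A} (hx : x ∈ q) (n : ℕ) :
    hs q M n ≤ n * hs q (QuotSMulTop x M) n := by
  induction n with
  | zero => simp [hs_zero]
  | succ n ih =>
    calc hs q M (n + 1) ≤ hs q M n + hs q (QuotSMulTop x M) (n + 1) :=
          hs_succ_le_add_hs_quotSMulTop q hx n
      _ ≤ n * hs q (QuotSMulTop x M) n + hs q (QuotSMulTop x M) (n + 1) := add_le_add ih le_rfl
      _ ≤ n * hs q (QuotSMulTop x M) (n + 1) + hs q (QuotSMulTop x M) (n + 1) :=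
          add_le_add (mul_le_mul_right (hs_mono q (QuotSMulTop x M) (Nat.le_succ n)) _) le_rfl
      _ = ((n + 1 : ℕ) : ℕ∞) * hs q (QuotSMulTop x M) (n + 1) := by
          push_cast
          ring

theorem hs_quotSMulTop_ne_top (hM : hs q M 1 ≠ ⊤) (x : A) (n : ℕ) :
    hs q (QuotSMulTop x M) n ≠ ⊤ :=
  ne_top_of_le_ne_top (hs_ne_top q M hM n)
    (hs_le_of_surjective q (x • (⊤ : Submodule A M)).mkQ (Submodule.mkQ_surjective _) n)

theorem isHSPoly_zero_of_subsingleton [Subsingleton M] : IsHSPoly q M 0 := by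
  refine ⟨0, fun n _ => ?_⟩
  have h : hs q M n = 0 := by
    unfold hs col
    exact Module.length_eq_zero
  simp [h]

/-- Core estimate for the Hilbert–Samuel polynomial of `M/xM`, `x` regular. -/
theorem exists_quotSMulTop_poly_le {x : A} (hx : IsSMulRegular M x) (hM : hs q M 1 ≠ ⊤)
    {P P' : ℚ[X]} (hP : IsHSPoly q M P) (hP' : IsHSPoly q (QuotSMulTop x M) P') :
    ∃ (k N : ℕ), ∀ n, N ≤ n → 0 ≤ P'.eval (n : ℚ) ∧
      P'.eval (n : ℚ) ≤ (P - P.comp (X + C (-(k : ℚ)))).eval (n : ℚ) := by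
  obtain ⟨k, hk⟩ := exists_hs_quotSMulTop_add_le q hx
  obtain ⟨N, hN⟩ := hP
  obtain ⟨N', hN'⟩ := hP'
  refine ⟨k, max (N + k) N', fun n hn => ?_⟩
  have hn1 : N + k ≤ n := le_trans (le_max_left _ _) hn
  have hn2 : N' ≤ n := le_trans (le_max_right _ _) hn
  have h1 : (P.comp (X + C (-(k : ℚ)))).eval (n : ℚ) = ((hs q M (n - k)).toNat : ℚ) := by
    rw [eval_comp, eval_add, eval_X, eval_C, hN (n - k) (by omega)]
    congr 1
    rw [Nat.cast_sub (by omega : k ≤ n)]
    ring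
  rw [eval_sub, h1, ← hN n (by omega), ← hN' n hn2]
  refine ⟨Nat.cast_nonneg _, ?_⟩
  have h2 := hk n (by omega)
  have h3 : (hs q (QuotSMulTop x M) n + hs q M (n - k)).toNat ≤ (hs q M n).toNat :=
    ENat.toNat_le_toNat h2 (hs_ne_top q M hM n)
  rw [ENat.toNat_add (hs_quotSMulTop_ne_top q hM x n) (hs_ne_top q M hM (n - k))] at h3
  have h4 : ((hs q (QuotSMulTop x M) n).toNat : ℚ) + ((hs q M (n - k)).toNat : ℚ) ≤
      ((hs q M n).toNat : ℚ) := by exact_mod_cast h3
  linarith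

theorem natDegree_quotSMulTop_lt {x : A} (hx : IsSMulRegular M x) (hM : hs q M 1 ≠ ⊤)
    {P P' : ℚ[X]} (hP : IsHSPoly q M P) (hP' : IsHSPoly q (QuotSMulTop x M) P')
    (hd : 0 < P.natDegree) : P'.natDegree < P.natDegree := by
  obtain ⟨k, N, h⟩ := exists_quotSMulTop_poly_le q hx hM hP hP'
  exact lt_of_le_of_lt (natDegree_le_of_eventually_le _ _ N h) (natDegree_sub_comp_lt P _ hd)

theorem quotSMulTop_poly_eq_zero {x : A} (hx : IsSMulRegular M x) (hM : hs q M 1 ≠ ⊤)
    {P P' : ℚ[X]} (hP : IsHSPoly q M P) (hP' : IsHSPoly q (QuotSMulTop x M) P')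
    (hd : P.natDegree = 0) : P' = 0 := by
  obtain ⟨k, N, h⟩ := exists_quotSMulTop_poly_le q hx hM hP hP'
  have hc : P - P.comp (X + C (-(k : ℚ))) = 0 := by
    rw [eq_C_of_natDegree_eq_zero hd]
    simp
  apply eq_of_eventually_eq P' 0 N
  intro n hn
  have := h n hn
  rw [hc] at this
  simp only [eval_zero] at this ⊢
  exact le_antisymm this.2 this.1

theorem natDegree_le_quotSMulTop_succ {x : A} (hx : x ∈ q) (hM : hs q M 1 ≠ ⊤)
    {P P' : ℚ[X]} (hP : IsHSPoly q M P) (hP' : IsHSPoly q (QuotSMulTop x M) P') :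
    P.natDegree ≤ (X * P').natDegree := by
  obtain ⟨N, hN⟩ := hP
  obtain ⟨N', hN'⟩ := hP'
  apply natDegree_le_of_eventually_le _ _ (max N N')
  intro n hn
  have hn1 : N ≤ n := le_trans (le_max_left _ _) hn
  have hn2 : N' ≤ n := le_trans (le_max_right _ _) hn
  rw [eval_mul, eval_X, ← hN n hn1, ← hN' n hn2]
  refine ⟨Nat.cast_nonneg _, ?_⟩
  have h1 : (hs q M n).toNat ≤ ((n : ℕ∞) * hs q (QuotSMulTop x M) n).toNat :=
    ENat.toNat_le_toNat (hs_le_mul_hs_quotSMulTop q hx n)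
      (WithTop.mul_ne_top (ENat.natCast_ne_top n) (hs_quotSMulTop_ne_top q hM x n))
  rw [ENat.toNat_mul, ENat.toNat_natCast] at h1
  exact_mod_cast h1

/-- Nakayama: if the Hilbert–Samuel polynomial of `N` is zero and `q` is in the Jacobson radical,
then `N = 0`. -/
theorem subsingleton_of_isHSPoly_zero (hq : q ≤ Ring.jacobson A) (hM : hs q M 1 ≠ ⊤)
    (hP : IsHSPoly q M 0) : Subsingleton M := by
  obtain ⟨N, hN⟩ := hP
  have h1 := hN (N + 1) (Nat.le_succ N)
  simp only [eval_zero, Nat.cast_eq_zero] at h1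
  have h2 : hs q M (N + 1) = 0 := by
    rcases (ENat.toNat_eq_zero).1 h1 with h | h
    · exact h
    · exact absurd h (hs_ne_top q M hM _)
  unfold hs col at h2
  rw [Module.length_eq_zero_iff, Submodule.Quotient.subsingleton_iff] at h2
  have h3 : (⊤ : Submodule A M) ≤ q • (⊤ : Submodule A M) := by
    calc (⊤ : Submodule A M) = q ^ (N + 1) • (⊤ : Submodule A M) := h2.symm
      _ = q • (q ^ N • (⊤ : Submodule A M)) := by rw [pow_succ', mul_smul]
      _ ≤ q • (⊤ : Submodule A M) := Submodule.smul_mono le_rfl le_top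
  have h4 : (⊤ : Submodule A M) = ⊥ :=
    Submodule.eq_bot_of_le_smul_of_le_jacobson_bot q ⊤ Module.Finite.fg_top h3
      (by rwa [Ideal.jacobson_bot])
  exact (Submodule.subsingleton_iff A).1 (subsingleton_of_bot_eq_top h4.symm)

end Groth.Agent.Lib.helper26.HS
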