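import Mathlib
import Groth.Agent.Lib.Helper26.HS7

/-!
# Hilbert–Samuel functions, part 8: degree of the Hilbert–Samuel polynomial = dimension (helper26)
-/

set_option autoImplicit false
set_option linter.unusedSectionVars false
universe u

open Polynomial Pointwise

namespace Groth.Agent.Lib.helper26.HS

variable {A : Type u} [CommRing A] [IsNoetherianRing A] (q : Ideal A)
  {M : Type u} [AddCommGroup M] [Module A M] [Module.Finite A M]

theorem hs_one_ne_top_iff :
    hs q M 1 ≠ ⊤ ↔ ∀ Q ∈ Module.support A M, q ≤ Q.asIdeal → Q.asIdeal.IsMaximal := by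
  unfold hs col
  rw [Module.length_ne_top_iff,
    Groth.Agent.Lib.helper8.StalkLen.isFiniteLength_iff_support_isMaximal]
  simp only [pow_one, Module.support_quotient, Set.mem_inter_iff, PrimeSpectrum.mem_zeroLocus,
    SetLike.coe_subset_coe]
  exact ⟨fun h Q hQ hq => h Q ⟨hQ, hq⟩, fun h Q hQ => h Q hQ.1 hQ.2⟩

theorem isFiniteLength_of_supportDim_le_zero (h : Module.supportDim A M ≤ 0) :
    IsFiniteLength A M := by
  rw [Groth.Agent.Lib.helper8.StalkLen.isFiniteLength_iff_support_isMaximal]
  intro Q hQ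
  by_contra hmax
  obtain ⟨m, hm, hQm⟩ := Ideal.exists_le_maximal Q.asIdeal Q.2.ne_top
  have hlt : Q < ⟨m, hm.isPrime⟩ :=
    lt_of_le_of_ne hQm (fun h => hmax (by rw [h]; exact hm))
  have : 0 < Module.supportDim A M := by
    simp only [Module.supportDim, Order.krullDim_pos_iff, Subtype.exists, Subtype.mk_lt_mk,
      exists_prop]
    exact ⟨Q, hQ, ⟨m, hm.isPrime⟩, Module.mem_support_mono hQm hQ, hlt⟩
  exact absurd h (not_le.2 this)

theorem natDegree_eq_zero_of_isFiniteLength (hfl : IsFiniteLength A M) {P : ℚ[X]}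
    (hP : IsHSPoly q M P) : P.natDegree = 0 := by
  have hlen : Module.length A M ≠ ⊤ := Module.length_ne_top_iff.2 hfl
  obtain ⟨N, hN⟩ := hP
  have key := natDegree_le_of_eventually_le P (C ((Module.length A M).toNat : ℚ)) N ?_
  · simpa using key
  intro n hn
  rw [← hN n hn, eval_C]
  refine ⟨Nat.cast_nonneg _, ?_⟩
  have h1 : hs q M n ≤ Module.length A M :=
    Module.length_le_of_surjective (q ^ n • (⊤ : Submodule A M)).mkQ (Submodule.mkQ_surjective _)
  exact_mod_cast ENat.toNat_le_toNat h1 hlen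

omit [IsNoetherianRing A] in
/-- Variant of `Module.supportDim_quotSMulTop_succ_le_of_notMem_minimalPrimes`: it suffices that
`x` avoids the non-maximal minimal primes of the support, if `dim M ≥ 1`. -/
theorem supportDim_quotSMulTop_succ_le' {x : A}
    (hn : ∀ p ∈ (Module.annihilator A M).minimalPrimes, ¬ p.IsMaximal → x ∉ p)
    (h1 : 1 ≤ Module.supportDim A M) :
    Module.supportDim A (QuotSMulTop x M) + 1 ≤ Module.supportDim A M := by
  rcases subsingleton_or_nontrivial (QuotSMulTop x M) with hss | hnt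
  · rw [Module.supportDim_eq_bot_of_subsingleton]
    simp
  have hM : Nontrivial M := by
    rw [← Module.supportDim_ne_bot_iff_nontrivial A]
    intro h
    rw [h] at h1
    simp at h1
  have : Nonempty (Module.support A M) := Module.nonempty_support_of_nontrivial.to_subtype
  have : Nonempty (Module.support A (QuotSMulTop x M)) :=
    Module.nonempty_support_of_nontrivial.to_subtype
  simp only [Module.supportDim, Order.krullDim_eq_iSup_length] at h1 ⊢
  apply WithBot.coe_le_coe.mpr
  simp only [ENat.iSup_add, iSup_le_iff]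
  intro p
  by_cases hp0 : p.length = 0
  · rw [hp0]
    simpa using WithBot.coe_le_coe.1 h1
  have hp := p.head.2
  simp only [Module.support_quotSMulTop, Set.mem_inter_iff, PrimeSpectrum.mem_zeroLocus,
    Set.singleton_subset_iff] at hp
  have le : Module.support A (QuotSMulTop x M) ⊆ Module.support A M := by simp
  let q : LTSeries (Module.support A M) :=
    p.map (Set.MapsTo.restrict id (Module.support A (QuotSMulTop x M)) (Module.support A M) le)
      (fun _ _ h ↦ h)
  obtain ⟨r, hrm, hr⟩ := Ideal.exists_minimalPrimes_le (Module.mem_support_iff_of_finite.mp q.head.2)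
  have hlt : p.head < p.last := p.strictMono (by
    rw [Fin.lt_def]
    simp only [Fin.val_zero, Fin.val_last]
    omega)
  have hnm : ¬ r.IsMaximal := by
    intro hmax
    have e1 : r = q.head.1.asIdeal := hmax.eq_of_le q.head.1.2.ne_top hr
    have e2 : q.head.1.asIdeal = p.last.1.asIdeal :=
      (e1 ▸ hmax).eq_of_le p.last.1.2.ne_top (le_of_lt hlt)
    exact absurd (PrimeSpectrum.ext e2) (ne_of_lt hlt)
  let r' : Module.support A M :=
    ⟨⟨r, hrm.1.1⟩, Module.mem_support_iff_of_finite.mpr hrm.1.2⟩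
  have hr' : r' < q.head := lt_of_le_of_ne hr (fun h ↦ hn q.head.1.1 (by rwa [← h]) (by
    rw [← h]; exact hnm) hp.2)
  exact le_of_eq_of_le (by simp [q]) (le_iSup _ (q.cons r' hr'))

/-- Prime avoidance: there is `x ∈ q` outside all non-maximal minimal primes of the support. -/
theorem exists_mem_notMem_minimalPrimes (hM : hs q M 1 ≠ ⊤) :
    ∃ x ∈ q, ∀ p ∈ (Module.annihilator A M).minimalPrimes, ¬ p.IsMaximal → x ∉ p := by
  classical
  have hfin : (Module.annihilator A M).minimalPrimes.Finite :=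
    Ideal.finite_minimalPrimes_of_isNoetherianRing A _
  let S : Finset (Ideal A) := hfin.toFinset.filter (fun p => ¬ p.IsMaximal)
  have hS : ∀ p, p ∈ S ↔ p ∈ (Module.annihilator A M).minimalPrimes ∧ ¬ p.IsMaximal := by
    intro p
    simp [S]
  have key : ¬ ((q : Set A) ⊆ ⋃ i ∈ (↑S : Set (Ideal A)), (i : Set A)) := by
    rw [Ideal.subset_union_prime (f := fun i : Ideal A => i) ⊤ ⊤
      (fun i hi _ _ => ((hS i).1 hi).1.1.1)]
    rintro ⟨p, hp, hqp⟩
    obtain ⟨hpm, hnm⟩ := (hS p).1 hp
    have hp' : p.IsPrime := hpm.1.1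
    exact hnm ((hs_one_ne_top_iff q).1 hM ⟨p, hp'⟩
      (Module.mem_support_iff_of_finite.mpr hpm.1.2) hqp)
  rw [Set.not_subset] at key
  obtain ⟨x, hxq, hx⟩ := key
  refine ⟨x, hxq, fun p hp hnm hxp => hx ?_⟩
  simp only [Set.mem_iUnion]
  exact ⟨p, (hS p).2 ⟨hp, hnm⟩, hxp⟩

theorem one_le_of_pos {x : WithBot ℕ∞} (h : 0 < x) : 1 ≤ x := by
  induction x using WithBot.recBotCoe with
  | bot => simp at h
  | coe a =>
    have h1 : (0 : ℕ∞) < a := by exact_mod_cast h
    have h2 : (1 : ℕ∞) ≤ a := Order.one_le_iff_pos.2 h1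
    exact_mod_cast h2

theorem le_of_add_one_le {x : WithBot ℕ∞} {d : ℕ}
    (h : x + 1 ≤ ((d + 1 : ℕ) : WithBot ℕ∞)) : x ≤ d := by
  induction x using WithBot.recBotCoe with
  | bot => exact bot_le
  | coe a =>
    have h5 : a + 1 ≤ ((d : ℕ∞) + 1) := by exact_mod_cast h
    have h6 : a ≤ (d : ℕ∞) := (ENat.add_le_add_iff_right ENat.one_ne_top).1 h5
    exact_mod_cast h6

/-- Upper bound: `deg P_M ≤ dim M`. -/
theorem natDegree_le_of_supportDim_le (d : ℕ) :
    ∀ (M : Type u) [AddCommGroup M] [Module A M] [Module.Finite A M] (_ : hs q M 1 ≠ ⊤)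
      (P : ℚ[X]) (_ : IsHSPoly q M P) (_ : Module.supportDim A M ≤ d), P.natDegree ≤ d := by
  induction d with
  | zero =>
    intro M _ _ _ hM P hP hd
    exact le_of_eq (natDegree_eq_zero_of_isFiniteLength q
      (isFiniteLength_of_supportDim_le_zero (by simpa using hd)) hP)
  | succ d ih =>
    intro M _ _ _ hM P hP hd
    by_cases h0 : Module.supportDim A M ≤ 0
    · rw [natDegree_eq_zero_of_isFiniteLength q (isFiniteLength_of_supportDim_le_zero h0) hP]
      exact Nat.zero_le _
    have h1 : 1 ≤ Module.supportDim A M := one_le_of_pos (not_le.1 h0)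
    obtain ⟨x, hxq, hx⟩ := exists_mem_notMem_minimalPrimes q hM
    have h2 := supportDim_quotSMulTop_succ_le' hx h1
    have h3 : Module.supportDim A (QuotSMulTop x M) ≤ d := le_of_add_one_le (h2.trans hd)
    have hM' : hs q (QuotSMulTop x M) 1 ≠ ⊤ := hs_quotSMulTop_ne_top q hM x 1
    obtain ⟨P', hP'⟩ := exists_isHSPoly q hM'
    have h7 := ih (QuotSMulTop x M) hM' P' hP' h3
    have h8 := natDegree_le_quotSMulTop_succ q hxq hM hP hP'
    have h9 : (X * P').natDegree ≤ P'.natDegree + 1 := by
      refine (natDegree_mul_le).trans ?_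
      have := natDegree_X_le (R := ℚ)
      omega
    omega

/-- A minimal prime of the support of a finite module `M` gives an embedding `A ⧸ r ↪ M`. -/
theorem exists_injective_of_mem_minimalPrimes {r : Ideal A}
    (hr : r ∈ (Module.annihilator A M).minimalPrimes) :
    ∃ φ : (A ⧸ r) →ₗ[A] M, Function.Injective φ := by
  have hass : r ∈ associatedPrimes A M :=
    Module.associatedPrimes.minimalPrimes_annihilator_subset_associatedPrimes A M hr
  obtain ⟨-, m, hm⟩ := (isAssociatedPrime_iff).1 hass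
  have hker : LinearMap.ker (LinearMap.toSpanSingleton A M m) = r := by
    ext a
    rw [hm, Submodule.mem_colon_singleton, LinearMap.mem_ker, LinearMap.toSpanSingleton_apply,
      Submodule.mem_bot]
  refine ⟨Submodule.liftQ r (LinearMap.toSpanSingleton A M m) (le_of_eq hker.symm), ?_⟩
  rw [← LinearMap.ker_eq_bot]
  exact Submodule.ker_liftQ_eq_bot _ _ _ (le_of_eq hker)

theorem isSMulRegular_quotient_of_notMem {r : Ideal A} [r.IsPrime] {x : A} (hx : x ∉ r) :
    IsSMulRegular (A ⧸ r) x := by
  intro b₁ b₂ h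
  have h' : (Ideal.Quotient.mk r x) * b₁ = (Ideal.Quotient.mk r x) * b₂ := by
    simpa [Algebra.smul_def] using h
  have hne : (Ideal.Quotient.mk r x) ≠ 0 := by
    rwa [Ne, Ideal.Quotient.eq_zero_iff_mem]
  exact mul_left_cancel₀ hne h'

/-- Lower bound: `dim M ≤ deg P_M` when `q` lies in the Jacobson radical. -/
theorem supportDim_le_of_natDegree_le (hq : q ≤ Ring.jacobson A) (D : ℕ) :
    ∀ (M : Type u) [AddCommGroup M] [Module A M] [Module.Finite A M] (_ : hs q M 1 ≠ ⊤)
      (P : ℚ[X]) (_ : IsHSPoly q M P) (_ : P.natDegree ≤ D), Module.supportDim A M ≤ D := by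
  induction D using Nat.strong_induction_on with
  | _ D ih =>
  intro M _ _ _ hM P hP hD
  refine iSup_le_iff.mpr (fun l ↦ ?_)
  obtain ⟨r, hrm, hr⟩ :=
    Ideal.exists_minimalPrimes_le (Module.mem_support_iff_of_finite.mp l.head.2)
  have hrp : r.IsPrime := hrm.1.1
  obtain ⟨φ, hφ⟩ := exists_injective_of_mem_minimalPrimes hrm
  have hB : hs q (A ⧸ r) 1 ≠ ⊤ :=
    hs_one_ne_top_of_support_subset q hM (Module.support_subset_of_injective φ hφ)
  obtain ⟨PB, hPB⟩ := exists_isHSPoly q hB
  have hdeg : PB.natDegree ≤ P.natDegree := natDegree_le_of_injective q φ hφ hM hB hPB hP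
  -- the chain lives in the support of `A ⧸ r`
  have hmem : ∀ i, (l i).1 ∈ Module.support A (A ⧸ r) := by
    intro i
    rw [Module.mem_support_iff_of_finite, Ideal.annihilator_quotient]
    exact hr.trans (l.head_le i)
  let l' : LTSeries (Module.support A (A ⧸ r)) :=
    { length := l.length
      toFun := fun i => ⟨(l i).1, hmem i⟩
      step := fun i => l.step i }
  have hl' : (l.length : WithBot ℕ∞) ≤ Module.supportDim A (A ⧸ r) :=
    le_iSup (fun p : LTSeries (Module.support A (A ⧸ r)) => (p.length : WithBot ℕ∞)) l'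
  refine hl'.trans ?_
  by_cases hqr : q ≤ r
  · -- `r` is maximal, `A ⧸ r` is a field
    have hmax : r.IsMaximal := (hs_one_ne_top_iff q).1 hM ⟨r, hrp⟩
      (Module.mem_support_iff_of_finite.mpr hrm.1.2) hqr
    let _ : Field (A ⧸ r) := Ideal.Quotient.field r
    rw [Module.supportDim_quotient_eq_ringKrullDim, ringKrullDim_eq_zero_of_field]
    exact_mod_cast Nat.zero_le D
  · obtain ⟨x, hxq, hxr⟩ := Set.not_subset.1 hqr
    have hreg : IsSMulRegular (A ⧸ r) x := isSMulRegular_quotient_of_notMem hxr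
    have hB' : hs q (QuotSMulTop x (A ⧸ r)) 1 ≠ ⊤ := hs_quotSMulTop_ne_top q hB x 1
    obtain ⟨P', hP'⟩ := exists_isHSPoly q hB'
    have hjac : x ∈ (Module.annihilator A (A ⧸ r)).jacobson :=
      Ideal.ringJacobson_le_jacobson (hq hxq)
    have hstep := Module.supportDim_le_supportDim_quotSMulTop_succ_of_mem_jacobson hjac
    refine hstep.trans ?_
    rcases Nat.eq_zero_or_pos PB.natDegree with h0 | hpos
    · have hz : P' = 0 := quotSMulTop_poly_eq_zero q hreg hB hPB hP' h0
      have hsub : Subsingleton (QuotSMulTop x (A ⧸ r)) :=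
        subsingleton_of_isHSPoly_zero q hq hB' (hz ▸ hP')
      rw [Module.supportDim_eq_bot_of_subsingleton]
      simp
    · have hlt : P'.natDegree < PB.natDegree := natDegree_quotSMulTop_lt q hreg hB hPB hP' hpos
      have hlt' : PB.natDegree - 1 < D := by omega
      have h2 := ih (PB.natDegree - 1) hlt' (QuotSMulTop x (A ⧸ r)) hB' P' hP' (by omega)
      calc Module.supportDim A (QuotSMulTop x (A ⧸ r)) + 1
          ≤ ((PB.natDegree - 1 : ℕ) : WithBot ℕ∞) + 1 := add_le_add h2 le_rfl
        _ = ((PB.natDegree - 1 + 1 : ℕ) : WithBot ℕ∞) := by push_cast; rfl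
        _ ≤ (D : WithBot ℕ∞) := by
          have : PB.natDegree - 1 + 1 ≤ D := by omega
          exact_mod_cast this

end Groth.Agent.Lib.helper26.HS
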