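import Mathlib
import Groth.Agent.Lib.Helper26.HS5

/-!
# Koszul Euler characteristics, part 1: Euler characteristic via an acyclic filtration (helper26)

For a cochain complex `C` of `A`-modules and a family of submodules `F n ≤ C.X n` which is
"acyclic" (`ker d ⊓ F n ≤ d (F (n-1))`, `d (F (n-1)) ≤ F n`), the length of `C.X n ⧸ F n` is
`bb n (n+1) + ℓ(H^n C) + bb (n-1) n`, where `bb i j = ℓ(d C^i / d F^i)`.  Summing with signs, the
Euler characteristic of the homology of `C` equals that of the quotients `C.X n ⧸ F n`.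
-/

set_option autoImplicit false
universe u

open CategoryTheory

namespace Groth.Agent.Lib.helper26.Kos

open Groth.Agent.Lib.helper26.HS

variable {A : Type u} [CommRing A]

section linear

variable {X Y Z : Type u} [AddCommGroup X] [Module A X] [AddCommGroup Y] [Module A Y]
  [AddCommGroup Z] [Module A Z]

/-- Unconditional additivity of relative lengths along a chain `Q ≤ P' ≤ P`. -/
theorem rl_chain' {Q P' P : Submodule A Y} (h1 : Q ≤ P') (h2 : P' ≤ P) :
    rl P Q = rl P' Q + rl P P' := by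
  have hle : Q.comap P.subtype ≤ P'.comap P.subtype := Submodule.comap_mono h1
  have e := rl_add_col hle
  have e1 : col (Q.comap P.subtype) = rl P Q := rfl
  have e2 : col (P'.comap P.subtype) = rl P P' := rfl
  have e3 : rl (P'.comap P.subtype) (Q.comap P.subtype) = rl P' Q := by
    rw [rl_comap_eq_rl_map, Submodule.map_comap_subtype, inf_eq_right.2 h2]
  rw [e1, e2, e3] at e
  exact e.symm

/-- The local form of the Euler characteristic computation. -/
theorem col_eq_of_acyclic (f : X →ₗ[A] Y) (g : Y →ₗ[A] Z) (hgf : LinearMap.range f ≤ LinearMap.ker g)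
    (X' : Submodule A X) (Y' : Submodule A Y)
    (hacyc : LinearMap.ker g ⊓ Y' = X'.map f) :
    col Y' = rl (LinearMap.range g) (Y'.map g) + rl (LinearMap.ker g) (LinearMap.range f) +
      rl (LinearMap.range f) (X'.map f) := by
  have h1 : Y' ≤ LinearMap.ker g ⊔ Y' := le_sup_right
  have e1 := rl_add_col h1
  rw [rl_sup_left, ← rl_inf_right, hacyc] at e1
  have e2 : col (LinearMap.ker g ⊔ Y') = rl (LinearMap.range g) (Y'.map g) := by
    rw [← Submodule.map_top, ← rl_comap_eq_rl_map, Submodule.comap_map_eq, rl_top, sup_comm]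
  have e3 : rl (LinearMap.ker g) (X'.map f) =
      rl (LinearMap.range f) (X'.map f) + rl (LinearMap.ker g) (LinearMap.range f) :=
    rl_chain' (LinearMap.map_le_range) hgf
  rw [← e1, e2, e3]
  ac_rfl

theorem rl_eq_zero_of_subsingleton [Subsingleton Y] (P Q : Submodule A Y) : rl P Q = 0 := by
  apply rl_eq_zero_of_le
  intro x _
  rw [Subsingleton.elim x 0]
  exact Q.zero_mem

theorem rl_ne_top_of_col_ne_top {P Q : Submodule A Y} (h : col Q ≠ ⊤) : rl P Q ≠ ⊤ :=
  ne_top_of_le_ne_top h (rl_le_col P Q)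

end linear

section complex

variable (C : CochainComplex (ModuleCat.{u} A) ℤ)

/-- The length of the `n`-th cohomology module. -/
noncomputable def hl (n : ℤ) : ℕ∞ := Module.length A (C.homology n)

theorem hl_eq (i j k : ℤ) (hij : i + 1 = j) (hjk : j + 1 = k) :
    hl C j = rl (LinearMap.ker (C.d j k).hom) (LinearMap.range (C.d i j).hom) := by
  unfold hl
  have e1 := (C.homologyIsoSc' i j k (by simp [← hij]) (by simp [← hjk])).toLinearEquiv.length_eq
  have e2 := ((C.sc' i j k).moduleCatHomologyIso).toLinearEquiv.length_eq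
  rw [e1, e2]
  unfold rl
  have : LinearMap.range (C.sc' i j k).moduleCatToCycles =
      (LinearMap.range (C.d i j).hom).comap (LinearMap.ker (C.d j k).hom).subtype := by
    ext z
    constructor
    · rintro ⟨x, rfl⟩
      exact ⟨x, rfl⟩
    · rintro ⟨x, hx⟩
      exact ⟨x, Subtype.ext hx⟩
  rw [← this]
  rfl

theorem hl_eq_zero_of_subsingleton (j : ℤ) [Subsingleton (C.X j)] : hl C j = 0 := by
  rw [hl_eq C (j - 1) j (j + 1) (by ring) rfl]
  exact rl_eq_zero_of_subsingleton _ _

variable (F : ∀ n : ℤ, Submodule A (C.X n))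

/-- `ℓ(d C^i / d F^i)`. -/
noncomputable def bb (i j : ℤ) : ℕ∞ :=
  rl (LinearMap.range (C.d i j).hom) ((F i).map (C.d i j).hom)

theorem bb_eq_zero_of_subsingleton_left (i j : ℤ) [Subsingleton (C.X i)] : bb C F i j = 0 := by
  unfold bb
  apply rl_eq_zero_of_le
  rintro _ ⟨x, rfl⟩
  rw [Subsingleton.elim x 0, map_zero]
  exact Submodule.zero_mem _

theorem bb_eq_zero_of_subsingleton_right (i j : ℤ) [Subsingleton (C.X j)] : bb C F i j = 0 :=
  rl_eq_zero_of_subsingleton _ _

theorem col_eq (i j k : ℤ) (hij : i + 1 = j) (hjk : j + 1 = k)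
    (hacyc : LinearMap.ker (C.d j k).hom ⊓ F j = (F i).map (C.d i j).hom) :
    col (F j) = bb C F j k + hl C j + bb C F i j := by
  rw [hl_eq C i j k hij hjk]
  apply col_eq_of_acyclic _ _ _ _ _ hacyc
  rintro _ ⟨x, rfl⟩
  rw [LinearMap.mem_ker]
  have := C.d_comp_d i j k
  exact LinearMap.congr_fun (congrArg ModuleCat.Hom.hom this) x

end complex

section sums

/-- Telescoping. -/
theorem sum_telescope (g : ℕ → ℤ) (r : ℕ) :
    ∑ p ∈ Finset.range (r + 1), (-1 : ℤ) ^ p * (g p + g (p + 1)) = g 0 + (-1) ^ r * g (r + 1) := by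
  induction r with
  | zero => simp
  | succ r ih =>
    rw [Finset.sum_range_succ, ih, pow_succ]
    ring

variable (C : CochainComplex (ModuleCat.{u} A) ℤ) (F : ∀ n : ℤ, Submodule A (C.X n))

/-- Euler characteristic via an acyclic filtration, indexed by `p = -n ∈ [0, r]`. -/
theorem euler_eq (r : ℕ)
    (hzero : ∀ n : ℤ, (n < -(r : ℤ) ∨ 0 < n) → Subsingleton (C.X n))
    (hfin : ∀ p : ℕ, col (F (-(p : ℤ))) ≠ ⊤)
    (hacyc : ∀ i j k : ℤ, i + 1 = j → j + 1 = k →
      LinearMap.ker (C.d j k).hom ⊓ F j = (F i).map (C.d i j).hom) :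
    ∑ p ∈ Finset.range (r + 1), (-1 : ℤ) ^ p * ((hl C (-(p : ℤ))).toNat : ℤ) =
      ∑ p ∈ Finset.range (r + 1), (-1 : ℤ) ^ p * ((col (F (-(p : ℤ)))).toNat : ℤ) := by
  set g : ℕ → ℤ := fun p => ((bb C F (-(p : ℤ)) (-(p : ℤ) + 1)).toNat : ℤ) with hg
  have key : ∀ p : ℕ, ((col (F (-(p : ℤ)))).toNat : ℤ) =
      g p + ((hl C (-(p : ℤ))).toNat : ℤ) + g (p + 1) := by
    intro p
    have e := col_eq C F (-((p + 1 : ℕ) : ℤ)) (-(p : ℤ)) (-(p : ℤ) + 1) (by push_cast; ring) rfl
      (hacyc _ _ _ (by push_cast; ring) rfl)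
    have hne := hfin p
    rw [e] at hne
    have h1 : bb C F (-(p : ℤ)) (-(p : ℤ) + 1) ≠ ⊤ := by
      intro h; rw [h] at hne; simp at hne
    have h2 : hl C (-(p : ℤ)) ≠ ⊤ := by
      intro h; rw [h] at hne; simp at hne
    have h3 : bb C F (-((p + 1 : ℕ) : ℤ)) (-(p : ℤ)) ≠ ⊤ := by
      intro h; rw [h] at hne; simp at hne
    have h4 : bb C F (-((p + 1 : ℕ) : ℤ)) (-(p : ℤ)) =
        bb C F (-((p + 1 : ℕ) : ℤ)) (-((p + 1 : ℕ) : ℤ) + 1) := by
      congr 1
      push_cast; ring
    rw [e, ENat.toNat_add (by simp [h1, h2]) h3, ENat.toNat_add h1 h2, hg]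
    simp only
    rw [← h4]
    push_cast
    ring
  have h0 : g 0 = 0 := by
    have : Subsingleton (C.X (-((0 : ℕ) : ℤ) + 1)) := hzero _ (Or.inr (by simp))
    simp only [hg]
    rw [bb_eq_zero_of_subsingleton_right]
    simp
  have hr : g (r + 1) = 0 := by
    have : Subsingleton (C.X (-((r + 1 : ℕ) : ℤ))) := hzero _ (Or.inl (by push_cast; omega))
    simp only [hg]
    rw [bb_eq_zero_of_subsingleton_left]
    simp
  have : ∑ p ∈ Finset.range (r + 1), (-1 : ℤ) ^ p * ((col (F (-(p : ℤ)))).toNat : ℤ) =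
      ∑ p ∈ Finset.range (r + 1), (-1 : ℤ) ^ p * ((hl C (-(p : ℤ))).toNat : ℤ) +
        ∑ p ∈ Finset.range (r + 1), (-1 : ℤ) ^ p * (g p + g (p + 1)) := by
    rw [← Finset.sum_add_distrib]
    apply Finset.sum_congr rfl
    intro p _
    rw [key p]
    ring
  rw [this, sum_telescope, h0, hr]
  simp

/-- The `finsum` over `ℤ` of the signed homology lengths as a finite sum over `p = -n`. -/
theorem finsum_eq_sum (r : ℕ)
    (hzero : ∀ n : ℤ, (n < -(r : ℤ) ∨ 0 < n) → Subsingleton (C.X n)) :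
    (∑ᶠ i : ℤ, ((i.negOnePow : ℤˣ) : ℤ) * ((Module.length A (C.homology i)).toNat : ℤ)) =
      ∑ p ∈ Finset.range (r + 1), (-1 : ℤ) ^ p * ((hl C (-(p : ℤ))).toNat : ℤ) := by
  have hsupp : (Function.support fun i : ℤ =>
      ((i.negOnePow : ℤˣ) : ℤ) * ((Module.length A (C.homology i)).toNat : ℤ)) ⊆
      ((Finset.range (r + 1)).image (fun p : ℕ => -(p : ℤ)) : Finset ℤ) := by
    intro i hi
    rw [Function.mem_support] at hi
    by_contra hni
    apply hi
    have hout : i < -(r : ℤ) ∨ 0 < i := by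
      by_contra hcon
      push Not at hcon
      apply hni
      rw [Finset.coe_image, Set.mem_image]
      refine ⟨(-i).toNat, ?_, ?_⟩
      · rw [Finset.coe_range, Set.mem_Iio]; omega
      · omega
    have : Subsingleton (C.X i) := hzero i hout
    have h0 : hl C i = 0 := hl_eq_zero_of_subsingleton C i
    unfold hl at h0
    rw [h0]
    simp
  rw [finsum_eq_sum_of_support_subset _ hsupp, Finset.sum_image]
  · apply Finset.sum_congr rfl
    intro p _
    congr 1
    rw [Int.negOnePow_neg, Int.negOnePow_def]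
    simp
  · intro a _ b _ hab
    simpa using hab

end sums

end Groth.Agent.Lib.helper26.Kos
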