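import Mathlib
import Groth.Agent.Lib.Helper26.HS8
import Groth.Agent.Lib.Helper22.LocLength

/-!
# Multiplicities, part 1: dimension and localized-length lemmas (helper26)
-/

set_option autoImplicit false
set_option linter.unusedSectionVars false
universe u

open Polynomial Pointwise

namespace Groth.Agent.Lib.helper26.HS

variable {A : Type u} [CommRing A]

theorem zeroLocus_eq_Ici (p : PrimeSpectrum A) :
    PrimeSpectrum.zeroLocus (p.asIdeal : Set A) = Set.Ici p := by
  ext q
  rw [PrimeSpectrum.mem_zeroLocus, Set.mem_Ici, SetLike.coe_subset_coe]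
  rfl

theorem ringKrullDim_quotient_eq_coheight (p : PrimeSpectrum A) :
    ringKrullDim (A ⧸ p.asIdeal) = Order.coheight p := by
  rw [ringKrullDim_quotient, zeroLocus_eq_Ici, Order.coheight_eq_krullDim_Ici]

variable {N : Type u} [AddCommGroup N] [Module A N]

theorem coheight_le_supportDim {r : PrimeSpectrum A} (hr : r ∈ Module.support A N) :
    (Order.coheight r : WithBot ℕ∞) ≤ Module.supportDim A N := by
  rw [Order.coheight_eq_krullDim_Ici]
  exact Order.krullDim_le_of_strictMono
    (fun a : Set.Ici r => (⟨a.1, Module.mem_support_mono a.2 hr⟩ : Module.support A N))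
    (fun _ _ h => h)

theorem eq_of_le_of_coheight_eq {d : ℕ} (hd : Module.supportDim A N ≤ d)
    {p : PrimeSpectrum A} (hc : ringKrullDim (A ⧸ p.asIdeal) = d)
    {q : PrimeSpectrum A} (hq : q ∈ Module.support A N) (hqp : q ≤ p) : q = p := by
  by_contra hne
  have hlt : q < p := lt_of_le_of_ne hqp hne
  have h1 := Order.coheight_add_one_le hlt
  rw [ringKrullDim_quotient_eq_coheight] at hc
  have h2 : (Order.coheight q : WithBot ℕ∞) ≤ d := (coheight_le_supportDim hq).trans hd
  have h3 : Order.coheight p = (d : ℕ∞) := by exact_mod_cast hc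
  have h4 : Order.coheight q ≤ (d : ℕ∞) := by exact_mod_cast h2
  rw [h3] at h1
  have h5 : ((d + 1 : ℕ) : ℕ∞) ≤ (d : ℕ∞) := by
    push_cast
    exact h1.trans h4
  have h6 : d + 1 ≤ d := by exact_mod_cast h5
  omega

/-- The length of `N_p` over `A_p`. -/
noncomputable def locLen (N : Type u) [AddCommGroup N] [Module A N] (p : PrimeSpectrum A) : ℕ∞ :=
  Module.length (Localization.AtPrime p.asIdeal) (LocalizedModule p.asIdeal.primeCompl N)

theorem locLen_eq_zero_iff {p : PrimeSpectrum A} : locLen N p = 0 ↔ p ∉ Module.support A N := by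
  unfold locLen
  rw [Module.length_eq_zero_iff, Module.notMem_support_iff]

theorem locLen_ne_top [IsNoetherianRing A] [Module.Finite A N] {d : ℕ}
    (hd : Module.supportDim A N ≤ d)
    {p : PrimeSpectrum A} (hc : ringKrullDim (A ⧸ p.asIdeal) = d) : locLen N p ≠ ⊤ := by
  by_cases hp : p ∈ Module.support A N
  · have h := (Groth.Agent.Lib.helper8.StalkLen.nontrivial_and_isFiniteLength_iff p.asIdeal
      (R := Localization.AtPrime p.asIdeal)
      (LocalizedModule.mkLinearMap p.asIdeal.primeCompl N)).2
      ⟨hp, fun q hq hqp => eq_of_le_of_coheight_eq hd hc hq hqp⟩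
    unfold locLen
    exact Module.length_ne_top_iff.2 h.2
  · rw [locLen_eq_zero_iff.2 hp]
    exact ENat.zero_ne_top

theorem locLen_of_equiv {N' : Type u} [AddCommGroup N'] [Module A N'] (e : N ≃ₗ[A] N')
    (p : PrimeSpectrum A) : locLen N p = locLen N' p :=
  Groth.Agent.Lib.helper22.length_localized_of_equiv _ e

theorem locLen_add_of_exact {N₁ N₂ N₃ : Type u} [AddCommGroup N₁] [Module A N₁]
    [AddCommGroup N₂] [Module A N₂] [AddCommGroup N₃] [Module A N₃]
    (f : N₁ →ₗ[A] N₂) (g : N₂ →ₗ[A] N₃)
    (hf : Function.Injective f) (hg : Function.Surjective g) (H : Function.Exact f g)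
    (p : PrimeSpectrum A) : locLen N₂ p = locLen N₁ p + locLen N₃ p :=
  Groth.Agent.Lib.helper22.length_localized_add_of_exact _ f g hf hg H

theorem mem_support_quotient_iff {p' p : PrimeSpectrum A} :
    p ∈ Module.support A (A ⧸ p'.asIdeal) ↔ p' ≤ p := by
  rw [Module.mem_support_iff_of_finite, Ideal.annihilator_quotient]
  rfl

theorem locLen_quotient_self (p : PrimeSpectrum A) : locLen (A ⧸ p.asIdeal) p = 1 := by
  unfold locLen
  rw [Module.length_eq_one_iff, isSimpleModule_iff_toSpanSingleton_surjective]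
  refine ⟨(mem_support_quotient_iff (p' := p) (p := p)).2 le_rfl, ?_⟩
  intro x hx z
  induction x using LocalizedModule.induction_on with
  | h b s =>
  induction z using LocalizedModule.induction_on with
  | h c t =>
  obtain ⟨a, rfl⟩ := Ideal.Quotient.mk_surjective b
  obtain ⟨c, rfl⟩ := Ideal.Quotient.mk_surjective c
  have ha : a ∈ p.asIdeal.primeCompl := by
    intro hap
    apply hx
    have : (Ideal.Quotient.mk p.asIdeal a) = 0 := Ideal.Quotient.eq_zero_iff_mem.2 hap
    rw [this, LocalizedModule.zero_mk]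
  refine ⟨Localization.mk (c * s) (⟨a, ha⟩ * t), ?_⟩
  rw [LinearMap.toSpanSingleton_apply, LocalizedModule.mk_smul_mk, LocalizedModule.mk_eq]
  refine ⟨1, ?_⟩
  simp only [one_smul, Submonoid.smul_def, Submonoid.coe_mul, Algebra.smul_def,
    Ideal.Quotient.algebraMap_eq, ← map_mul]
  congr 1
  ring

end Groth.Agent.Lib.helper26.HS
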