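import Mathlib
import Groth.Agent.Lib.Helper26.Mult1

/-!
# Multiplicities, part 2: the weighted sum over primes of coheight `d` (helper26)
-/

set_option autoImplicit false
set_option linter.unusedSectionVars false
universe u

open Polynomial Pointwise

namespace Groth.Agent.Lib.helper26.HS

variable {A : Type u} [CommRing A] [IsNoetherianRing A] (d : ℕ) (e : PrimeSpectrum A → ℝ)

/-- `∑_{dim A/p = d} ℓ(N_p) e(p)`. -/
noncomputable def rhs (N : Type u) [AddCommGroup N] [Module A N] : ℝ :=
  ∑ᶠ (p : PrimeSpectrum A) (_ : ringKrullDim (A ⧸ p.asIdeal) = d),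
    ((locLen N p).toNat : ℝ) * e p

open Classical in
theorem rhs_eq (N : Type u) [AddCommGroup N] [Module A N] :
    rhs d e N = ∑ᶠ p : PrimeSpectrum A,
      if ringKrullDim (A ⧸ p.asIdeal) = d then ((locLen N p).toNat : ℝ) * e p else 0 := by
  unfold rhs
  simp only [finsum_eq_if]

variable {N : Type u} [AddCommGroup N] [Module A N] [Module.Finite A N]

open Classical in
theorem support_finite (hd : Module.supportDim A N ≤ d) :
    (Function.support fun p : PrimeSpectrum A =>
      if ringKrullDim (A ⧸ p.asIdeal) = d then ((locLen N p).toNat : ℝ) * e p else 0).Finite := by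
  have hfin : (Module.annihilator A N).minimalPrimes.Finite :=
    Ideal.finite_minimalPrimes_of_isNoetherianRing A _
  have hinj : Set.InjOn (fun p : PrimeSpectrum A => p.asIdeal)
      ((fun p : PrimeSpectrum A => p.asIdeal) ⁻¹' (Module.annihilator A N).minimalPrimes) :=
    fun p _ q _ h => PrimeSpectrum.ext h
  refine (hfin.preimage hinj).subset ?_
  intro p hp
  rw [Function.mem_support] at hp
  by_cases hc : ringKrullDim (A ⧸ p.asIdeal) = d
  · rw [if_pos hc] at hp
    have h1 : locLen N p ≠ 0 := by
      intro h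
      apply hp
      rw [h]
      simp
    have hps : p ∈ Module.support A N := by
      by_contra hps
      exact h1 (locLen_eq_zero_iff.2 hps)
    show p.asIdeal ∈ (Module.annihilator A N).minimalPrimes
    obtain ⟨r, hrm, hr⟩ := Ideal.exists_minimalPrimes_le (Module.mem_support_iff_of_finite.mp hps)
    have hrs : (⟨r, hrm.1.1⟩ : PrimeSpectrum A) ∈ Module.support A N :=
      Module.mem_support_iff_of_finite.mpr hrm.1.2
    have := eq_of_le_of_coheight_eq hd hc hrs hr
    rw [← this]
    exact hrm
  · rw [if_neg hc] at hp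
    exact absurd rfl hp

theorem rhs_of_equiv {N' : Type u} [AddCommGroup N'] [Module A N'] (φ : N ≃ₗ[A] N') :
    rhs d e N = rhs d e N' := by
  unfold rhs
  simp only [locLen_of_equiv φ]

theorem rhs_of_subsingleton [Subsingleton N] : rhs d e N = 0 := by
  unfold rhs
  have : ∀ p : PrimeSpectrum A, locLen N p = 0 := fun p =>
    Groth.Agent.Lib.helper22.length_localized_of_subsingleton _
  simp [this]

theorem rhs_add_of_exact {N₁ N₂ N₃ : Type u} [AddCommGroup N₁] [Module A N₁]
    [AddCommGroup N₂] [Module A N₂] [AddCommGroup N₃] [Module A N₃]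
    [Module.Finite A N₁] [Module.Finite A N₂] [Module.Finite A N₃]
    (f : N₁ →ₗ[A] N₂) (g : N₂ →ₗ[A] N₃)
    (hf : Function.Injective f) (hg : Function.Surjective g) (H : Function.Exact f g)
    (hd : Module.supportDim A N₂ ≤ d) : rhs d e N₂ = rhs d e N₁ + rhs d e N₃ := by
  classical
  have hd1 : Module.supportDim A N₁ ≤ d := (Module.supportDim_le_of_injective f hf).trans hd
  have hd3 : Module.supportDim A N₃ ≤ d := (Module.supportDim_le_of_surjective g hg).trans hd
  rw [rhs_eq, rhs_eq, rhs_eq, ← finsum_add_distrib (support_finite d e hd1) (support_finite d e hd3)]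
  refine finsum_congr (fun p => ?_)
  by_cases hc : ringKrullDim (A ⧸ p.asIdeal) = d
  · rw [if_pos hc, if_pos hc, if_pos hc, locLen_add_of_exact f g hf hg H p,
      ENat.toNat_add (locLen_ne_top hd1 hc) (locLen_ne_top hd3 hc)]
    push_cast
    ring
  · rw [if_neg hc, if_neg hc, if_neg hc, add_zero]

theorem rhs_quotient_eq (p' : PrimeSpectrum A) (hc : ringKrullDim (A ⧸ p'.asIdeal) = d) :
    rhs d e (A ⧸ p'.asIdeal) = e p' := by
  classical
  rw [rhs_eq, finsum_eq_single _ p', if_pos hc, locLen_quotient_self]
  · simp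
  · intro p hp
    by_cases hcp : ringKrullDim (A ⧸ p.asIdeal) = d
    · rw [if_pos hcp]
      have : locLen (A ⧸ p'.asIdeal) p = 0 := by
        rw [locLen_eq_zero_iff, mem_support_quotient_iff]
        intro hle
        have hd : Module.supportDim A (A ⧸ p'.asIdeal) ≤ d := by
          rw [Module.supportDim_quotient_eq_ringKrullDim, hc]
        have hmem : p' ∈ Module.support A (A ⧸ p'.asIdeal) := mem_support_quotient_iff.2 le_rfl
        exact hp (eq_of_le_of_coheight_eq hd hcp hmem hle).symm
      rw [this]
      simp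
    · rw [if_neg hcp]

theorem rhs_quotient_ne (p' : PrimeSpectrum A) (hd : ringKrullDim (A ⧸ p'.asIdeal) ≤ d)
    (hc : ringKrullDim (A ⧸ p'.asIdeal) ≠ d) :
    rhs d e (A ⧸ p'.asIdeal) = 0 := by
  classical
  rw [rhs_eq]
  refine (finsum_congr (fun p => ?_)).trans finsum_zero
  by_cases hcp : ringKrullDim (A ⧸ p.asIdeal) = d
  · rw [if_pos hcp]
    have : locLen (A ⧸ p'.asIdeal) p = 0 := by
      rw [locLen_eq_zero_iff, mem_support_quotient_iff]
      intro hle
      have hd' : Module.supportDim A (A ⧸ p'.asIdeal) ≤ d := by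
        rwa [Module.supportDim_quotient_eq_ringKrullDim]
      have hmem : p' ∈ Module.support A (A ⧸ p'.asIdeal) := mem_support_quotient_iff.2 le_rfl
      have := eq_of_le_of_coheight_eq hd' hcp hmem hle
      rw [this] at hc
      exact hc hcp
    rw [this]
    simp
  · rw [if_neg hcp]

end Groth.Agent.Lib.helper26.HS
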