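import Mathlib
import Groth.Agent.Lib.Helper26.Mult2

/-!
# Multiplicities, part 3: limits (helper26)
-/

set_option autoImplicit false
set_option linter.unusedSectionVars false
universe u

open Polynomial Pointwise

namespace Groth.Agent.Lib.helper26.HS

theorem tendsto_div_pow_zero (P : ℚ[X]) (d : ℕ) (h : P.natDegree < d) :
    Filter.Tendsto (fun t : ℕ => ((P.eval (t : ℚ) : ℚ) : ℝ) / (t : ℝ) ^ d) Filter.atTop
      (nhds 0) := by
  have hdeg : (P.map (algebraMap ℚ ℝ)).degree < (X ^ d : ℝ[X]).degree := by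
    rw [degree_X_pow, degree_map]
    exact lt_of_le_of_lt degree_le_natDegree (by exact_mod_cast h)
  have h1 := Polynomial.div_tendsto_atTop_zero_of_degree_lt (P.map (algebraMap ℚ ℝ)) (X ^ d : ℝ[X]) hdeg
  have h2 := h1.comp tendsto_natCast_atTop_atTop
  refine h2.congr (fun t => ?_)
  have h3 : (P.map (algebraMap ℚ ℝ)).eval ((t : ℕ) : ℝ) = ((P.eval (t : ℚ) : ℚ) : ℝ) := by
    have := Polynomial.eval_map_apply (p := P) (algebraMap ℚ ℝ) (t : ℚ)
    rw [map_natCast] at this
    rw [this]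
    rfl
  simp only [Function.comp_apply, h3, eval_pow, eval_X]

variable {A : Type u} [CommRing A] [IsNoetherianRing A] (q : Ideal A)
  {N : Type u} [AddCommGroup N] [Module A N] [Module.Finite A N]

theorem hs_of_equiv {N' : Type u} [AddCommGroup N'] [Module A N'] (φ : N ≃ₗ[A] N') (t : ℕ) :
    hs q N t = hs q N' t :=
  le_antisymm (hs_le_of_surjective q φ.symm.toLinearMap φ.symm.surjective t)
    (hs_le_of_surjective q φ.toLinearMap φ.surjective t)

theorem tendsto_zero_of_supportDim_lt (hM : hs q N 1 ≠ ⊤) (d' d : ℕ)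
    (hd' : Module.supportDim A N ≤ d') (hlt : d' < d) :
    Filter.Tendsto (fun t : ℕ => (d.factorial : ℝ) * ((hs q N t).toNat : ℝ) / (t : ℝ) ^ d)
      Filter.atTop (nhds 0) := by
  obtain ⟨P, hP⟩ := exists_isHSPoly q hM
  have hdeg : P.natDegree ≤ d' := natDegree_le_of_supportDim_le q d' N hM P hP hd'
  obtain ⟨N₀, hN₀⟩ := hP
  have h1 := (tendsto_div_pow_zero P d (lt_of_le_of_lt hdeg hlt)).const_mul (d.factorial : ℝ)
  rw [mul_zero] at h1
  refine h1.congr' ?_
  filter_upwards [Filter.eventually_ge_atTop N₀] with t ht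
  rw [← hN₀ t ht, mul_div_assoc]
  push_cast
  rfl

end Groth.Agent.Lib.helper26.HS
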