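import Mathlib
import Groth.Prelude.Def_Koszul
import Groth.Prelude.Def_DRing2
import Groth.Agent.Lib.Helper7.KoszulLow
import Groth.Agent.Lib.Helper26.Kos1
import Groth.Agent.Lib.Helper26.Mult3

/-!
# Koszul Euler characteristics, part 2: structure of the mapping-cone Koszul complex (helper26)

`KS q M r C`: the complex `C` looks like the Koszul complex of `r` elements of `q` on `M`:
finite terms, concentrated in `[-r, 0]`, differentials with image in `q • ⊤`, and Hilbert–Samuel
functions of the terms `binom(r, -n) · hs q M`.  `NH x C`: multiplication by `x` is null-homotopic.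
Both are stable under isomorphisms, and `KS` passes to the mapping cone of `x • 𝟙` for `x ∈ q`.
-/

set_option autoImplicit false
set_option linter.unusedSectionVars false
universe u

open CategoryTheory CochainComplex

namespace Groth.Agent.Lib.helper26.Kos

open Groth.Agent.Lib.helper26.HS Groth.Agent.Lib.helper7.KoszulLow

variable {A : Type u} [CommRing A] [IsNoetherianRing A]

section helpers

variable {X Y : Type u} [AddCommGroup X] [Module A X] [AddCommGroup Y] [Module A Y]

theorem map_mem_smul_top (I : Ideal A) (φ : X →ₗ[A] Y) {x : X}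
    (hx : x ∈ I • (⊤ : Submodule A X)) : φ x ∈ I • (⊤ : Submodule A Y) := by
  have h1 : (I • (⊤ : Submodule A X)).map φ ≤ I • (⊤ : Submodule A Y) := by
    rw [Submodule.map_smul'']
    exact Submodule.smul_mono le_rfl le_top
  exact h1 ⟨x, hx, rfl⟩

/-- Hilbert–Samuel functions are additive on products. -/
theorem hs_prod (q : Ideal A) (n : ℕ) : hs q (X × Y) n = hs q X n + hs q Y n := by
  have h := hs_exact q (LinearMap.inl A X Y) (LinearMap.snd A X Y) LinearMap.snd_surjective
    (LinearMap.range_inl A X Y ▸ (LinearMap.ker_snd A X Y).symm ▸ rfl) n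
  rw [h, add_comm]
  congr 1
  unfold hs
  congr 1
  apply le_antisymm
  · intro x hx
    have := map_mem_smul_top (q ^ n) (LinearMap.fst A X Y) hx
    simpa using this
  · intro x hx
    exact map_mem_smul_top (q ^ n) (LinearMap.inl A X Y) hx

theorem hs_eq_zero_of_subsingleton (q : Ideal A) [Subsingleton X] (n : ℕ) : hs q X n = 0 := by
  unfold hs col
  rw [Module.length_eq_zero_iff]
  infer_instance

end helpers

/-- The binomial coefficient `binom(r, -n)` (zero for `n > 0`). -/
def cf (r : ℕ) (n : ℤ) : ℕ := if n ≤ 0 then r.choose (-n).toNat else 0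

theorem cf_succ (r : ℕ) (n : ℤ) : cf (r + 1) n = cf r (n + 1) + cf r n := by
  unfold cf
  by_cases h1 : n ≤ -1
  · have h2 : n ≤ 0 := by omega
    have h3 : n + 1 ≤ 0 := by omega
    simp only [if_pos h2, if_pos h3]
    obtain ⟨k, hk⟩ : ∃ k : ℕ, (-n).toNat = k + 1 := ⟨(-n).toNat - 1, by omega⟩
    have hk' : (-(n + 1)).toNat = k := by omega
    rw [hk, hk', Nat.choose_succ_succ]
  · by_cases h2 : n = 0
    · subst h2
      simp
    · have h3 : ¬ n ≤ 0 := by omega
      have h4 : ¬ n + 1 ≤ 0 := by omega
      simp only [if_neg h3, if_neg h4]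

theorem cf_neg_natCast (r p : ℕ) : cf r (-(p : ℤ)) = r.choose p := by
  unfold cf
  rw [if_pos (by omega)]
  congr 1
  omega

/-- Multiplication by `x` on `C` is null-homotopic (concretely). -/
def NH (x : A) (C : CochainComplex (ModuleCat.{u} A) ℤ) : Prop :=
  ∃ s : ∀ i j : ℤ, C.X j →ₗ[A] C.X i,
    ∀ i j k : ℤ, i + 1 = j → j + 1 = k → ∀ c : C.X j,
      (C.d i j).hom (s i j c) + s j k ((C.d j k).hom c) = x • c

/-- `C` looks like the Koszul complex of `r` elements of `q` on `M`. -/
structure KS (q : Ideal A) (M : Type u) [AddCommGroup M] [Module A M] (r : ℕ)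
    (C : CochainComplex (ModuleCat.{u} A) ℤ) : Prop where
  fin : ∀ n : ℤ, Module.Finite A (C.X n)
  zero : ∀ n : ℤ, (n < -(r : ℤ) ∨ 0 < n) → Subsingleton (C.X n)
  dmem : ∀ (i j : ℤ) (c : C.X i), (C.d i j).hom c ∈ q • (⊤ : Submodule A (C.X j))
  len : ∀ (n : ℤ) (k : ℕ), hs q (C.X n) k = (cf r n : ℕ∞) * hs q M k

section iso

variable {C C' : CochainComplex (ModuleCat.{u} A) ℤ} (e : C ≅ C')

/-- The component linear equivalences of an isomorphism of complexes. -/
noncomputable def isoX (n : ℤ) : C.X n ≃ₗ[A] C'.X n :=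
  ((HomologicalComplex.eval _ _ n).mapIso e).toLinearEquiv

theorem isoX_apply (n : ℤ) (c : C.X n) : isoX e n c = (e.hom.f n).hom c := rfl

theorem isoX_symm_apply (n : ℤ) (c : C'.X n) : (isoX e n).symm c = (e.inv.f n).hom c := rfl

theorem isoX_d (i j : ℤ) (c : C.X i) :
    isoX e j ((C.d i j).hom c) = (C'.d i j).hom (isoX e i c) := by
  rw [isoX_apply, isoX_apply]
  have := e.hom.comm i j
  exact (LinearMap.congr_fun (congrArg ModuleCat.Hom.hom this) c).symm

theorem isoX_symm_d (i j : ℤ) (c : C'.X i) :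
    (isoX e j).symm ((C'.d i j).hom c) = (C.d i j).hom ((isoX e i).symm c) := by
  rw [isoX_symm_apply, isoX_symm_apply]
  have := e.inv.comm i j
  exact (LinearMap.congr_fun (congrArg ModuleCat.Hom.hom this) c).symm

theorem NH.of_iso (e : C ≅ C') {x : A} (h : NH x C) : NH x C' := by
  obtain ⟨s, hs⟩ := h
  refine ⟨fun i j => (isoX e i).toLinearMap ∘ₗ (s i j) ∘ₗ (isoX e j).symm.toLinearMap, ?_⟩
  intro i j k hij hjk c
  simp only [LinearMap.comp_apply, LinearEquiv.coe_coe]
  rw [← isoX_d, isoX_symm_d, ← map_add, hs i j k hij hjk, map_smul, LinearEquiv.apply_symm_apply]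

theorem KS.of_iso (e : C ≅ C') {q : Ideal A} {M : Type u} [AddCommGroup M] [Module A M] {r : ℕ}
    (h : KS q M r C) : KS q M r C' where
  fin n := by
    have := h.fin n
    exact Module.Finite.equiv (isoX e n)
  zero n hn := by
    have := h.zero n hn
    exact (isoX e n).symm.toEquiv.subsingleton
  dmem i j c := by
    have h1 := h.dmem i j ((isoX e i).symm c)
    have h2 := map_mem_smul_top q (isoX e j).toLinearMap h1
    rw [LinearEquiv.coe_coe, isoX_d, LinearEquiv.apply_symm_apply] at h2
    exact h2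
  len n k := by
    have := h.fin n
    rw [← h.len n k]
    exact (hs_of_equiv q (isoX e n) k).symm

end iso

section cone

variable {C : CochainComplex (ModuleCat.{u} A) ℤ} (x : A)

theorem smul_id_f_apply (j : ℤ) (c : C.X j) : ((x • 𝟙 C : C ⟶ C).f j).hom c = x • c := by
  rw [HomologicalComplex.smul_f_apply, HomologicalComplex.id_f, ModuleCat.hom_smul,
    ModuleCat.hom_id]
  rfl

theorem KS.cone {q : Ideal A} {M : Type u} [AddCommGroup M] [Module A M] {r : ℕ}
    (h : KS q M r C) (hx : x ∈ q) : KS q M (r + 1) (mappingCone (x • 𝟙 C)) where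
  fin n := by
    have := h.fin n
    have := h.fin (n + 1)
    exact Module.Finite.equiv (coneEquiv (x • 𝟙 C) n (n + 1) rfl).symm
  zero n hn := by
    have h1 : Subsingleton (C.X n) := h.zero n (by rcases hn with hn | hn <;> [left; right] <;> push_cast at * <;> omega)
    have h2 : Subsingleton (C.X (n + 1)) := h.zero (n + 1) (by rcases hn with hn | hn <;> [left; right] <;> push_cast at * <;> omega)
    exact (coneEquiv (x • 𝟙 C) n (n + 1) rfl).toEquiv.subsingleton
  dmem i j c := by
    by_cases hij : i + 1 = j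
    · set w := ((mappingCone (x • 𝟙 C)).d i j).hom c with hw
      rw [← inl_fst_add_inr_snd (x • 𝟙 C) j (j + 1) rfl w]
      apply Submodule.add_mem
      · apply map_mem_smul_top
        rw [hw, fst_d (x • 𝟙 C) i j (j + 1) hij rfl]
        exact Submodule.neg_mem _ (h.dmem _ _ _)
      · apply map_mem_smul_top
        rw [hw, snd_d (x • 𝟙 C) i j hij, smul_id_f_apply]
        exact Submodule.add_mem _ (Submodule.smul_mem_smul hx Submodule.mem_top) (h.dmem _ _ _)
    · have : (mappingCone (x • 𝟙 C)).d i j = 0 := (mappingCone (x • 𝟙 C)).shape i j hij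
      rw [this]
      exact Submodule.zero_mem _
  len n k := by
    have := h.fin n
    have := h.fin (n + 1)
    have : Module.Finite A ((mappingCone (x • 𝟙 C)).X n) :=
      Module.Finite.equiv (coneEquiv (x • 𝟙 C) n (n + 1) rfl).symm
    rw [hs_of_equiv q (coneEquiv (x • 𝟙 C) n (n + 1) rfl) k, hs_prod, h.len, h.len, cf_succ]
    push_cast
    ring

/-- The homotopy on the cone induced by a homotopy on `C`. -/
theorem NH.cone {y : A} (h : NH y C) : NH y (mappingCone (x • 𝟙 C)) := by
  obtain ⟨s, hs⟩ := h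
  refine ⟨fun i j => (inlₗ (x • 𝟙 C) (i + 1) i rfl) ∘ₗ (-(s (i + 1) (j + 1))) ∘ₗ
      (fstₗ (x • 𝟙 C) j (j + 1) rfl) + (inrₗ (x • 𝟙 C) i) ∘ₗ (s i j) ∘ₗ (sndₗ (x • 𝟙 C) j), ?_⟩
  intro i j k hij hjk z
  subst hij hjk
  apply cone_ext (x • 𝟙 C) (i + 1) (i + 1 + 1) rfl
  · simp only [LinearMap.add_apply, LinearMap.comp_apply, LinearMap.neg_apply, map_add, map_neg,
      fst_d (x • 𝟙 C) i (i + 1) (i + 1 + 1) rfl rfl, fst_inl, fst_inr, map_smul,
      fst_d (x • 𝟙 C) (i + 1) (i + 1 + 1) (i + 1 + 1 + 1) rfl rfl, add_zero, neg_neg, map_zero,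
      neg_zero]
    exact hs (i + 1) (i + 1 + 1) (i + 1 + 1 + 1) rfl rfl _
  · simp only [LinearMap.add_apply, LinearMap.comp_apply, LinearMap.neg_apply, map_add, map_neg,
      snd_d (x • 𝟙 C) i (i + 1) rfl, snd_d (x • 𝟙 C) (i + 1) (i + 1 + 1) rfl, fst_inl, fst_inr,
      snd_inl, snd_inr, map_smul, smul_id_f_apply, add_zero, zero_add, smul_neg, map_zero,
      smul_zero, neg_zero]
    have := hs i (i + 1) (i + 1 + 1) rfl rfl (sndₗ (x • 𝟙 C) (i + 1) z)
    rw [← this]
    abel

/-- Multiplication by `x` is null-homotopic on the cone of `x • 𝟙`. -/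
theorem NH.cone_self : NH x (mappingCone (x • 𝟙 C)) := by
  classical
  refine ⟨fun i j => if h : i + 1 = j then (inlₗ (x • 𝟙 C) j i h) ∘ₗ (sndₗ (x • 𝟙 C) j) else 0, ?_⟩
  intro i j k hij hjk z
  subst hij hjk
  beta_reduce
  rw [dif_pos rfl, dif_pos rfl]
  apply cone_ext (x • 𝟙 C) (i + 1) (i + 1 + 1) rfl
  · simp only [LinearMap.comp_apply, map_add, map_smul,
      fst_d (x • 𝟙 C) i (i + 1) (i + 1 + 1) rfl rfl, fst_inl,
      snd_d (x • 𝟙 C) (i + 1) (i + 1 + 1) rfl, smul_id_f_apply]
    abel
  · simp only [LinearMap.comp_apply, map_add, map_smul,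
      snd_d (x • 𝟙 C) i (i + 1) rfl, fst_inl, snd_inl, smul_id_f_apply, map_zero, add_zero]

end cone

section koszul

variable (q : Ideal A) (M : Type u) [AddCommGroup M] [Module A M] [Module.Finite A M]

/-- The Koszul complex tensored with `M` (abbreviation). -/
noncomputable abbrev KM (l : List A) : CochainComplex (ModuleCat.{u} A) ℤ :=
  DRing.tensorCx (Koszul.koszul A l) (ModuleCat.of A M)

theorem KM_nil_subsingleton (n : ℤ) (hn : n ≠ 0) : Subsingleton ((KM M ([] : List A)).X n) := by
  have h1 : Limits.IsZero ((Koszul.koszul A []).X n) :=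
    HomologicalComplex.isZero_single_obj_X (ComplexShape.up ℤ) 0 (ModuleCat.of A A) n hn
  have h2 : Limits.IsZero ((KM M ([] : List A)).X n) :=
    (MonoidalCategory.tensorRight (ModuleCat.of A M)).map_isZero h1
  exact ModuleCat.subsingleton_of_isZero h2

/-- The degree-zero term of the Koszul complex of the empty list tensored with `M` is `M`. -/
noncomputable def KM_nil_zero : (KM M ([] : List A)).X 0 ≃ₗ[A] M :=
  (((MonoidalCategory.tensorRight (ModuleCat.of A M)).mapIso
    (HomologicalComplex.singleObjXSelf (ComplexShape.up ℤ) 0 (ModuleCat.of A A))) ≪≫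
    (MonoidalCategory.leftUnitor (ModuleCat.of A M))).toLinearEquiv

theorem KS_nil : KS q M 0 (KM M ([] : List A)) where
  fin n := by
    by_cases hn : n = 0
    · subst hn
      exact Module.Finite.equiv (KM_nil_zero (A := A) M).symm
    · have := KM_nil_subsingleton (A := A) M n hn
      infer_instance
  zero n hn := KM_nil_subsingleton M n (by rcases hn with hn | hn <;> push_cast at hn <;> omega)
  dmem i j c := by
    have h0 : (Koszul.koszul A []).d i j = 0 := by
      exact HomologicalComplex.single_obj_d _ _ _ _ _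
    have h1 : (KM M ([] : List A)).d i j = 0 := by
      have : (KM M ([] : List A)).d i j =
          (MonoidalCategory.tensorRight (ModuleCat.of A M)).map ((Koszul.koszul A []).d i j) := rfl
      rw [this, h0]
      exact Functor.map_zero _ _ _
    rw [h1]
    exact Submodule.zero_mem _
  len n k := by
    by_cases hn : n = 0
    · subst hn
      have : Module.Finite A ((KM M ([] : List A)).X 0) :=
        Module.Finite.equiv (KM_nil_zero (A := A) M).symm
      rw [hs_of_equiv q (KM_nil_zero M) k]
      simp [cf]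
    · have := KM_nil_subsingleton (A := A) M n hn
      rw [hs_eq_zero_of_subsingleton]
      have : cf 0 n = 0 := by
        unfold cf
        split_ifs with h
        · have : 0 < (-n).toNat := by omega
          exact Nat.choose_eq_zero_of_lt this
        · rfl
      rw [this]
      simp

/-- The Koszul complex of `x :: l` tensored with `M` is the cone of `x` on that of `l`. -/
noncomputable def KM_cons_iso (x : A) (l : List A) :
    mappingCone (x • 𝟙 (KM M l)) ≅ KM M (x :: l) := by
  have h : ((MonoidalCategory.tensorRight (ModuleCat.of A M)).mapHomologicalComplex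
      (ComplexShape.up ℤ)).map (x • 𝟙 (Koszul.koszul A l)) = x • 𝟙 (KM M l) := by
    rw [Functor.map_smul, CategoryTheory.Functor.map_id]
    rfl
  exact (eqToIso (by rw [h]; rfl)) ≪≫ (mappingCone.mapHomologicalComplexIso (x • 𝟙 (Koszul.koszul A l))
    (MonoidalCategory.tensorRight (ModuleCat.of A M))).symm

theorem koszul_KS : ∀ l : List A, (∀ x ∈ l, x ∈ q) →
    KS q M l.length (KM M l) ∧ ∀ x ∈ l, NH x (KM M l) := by
  intro l
  induction l with
  | nil =>
    intro _
    exact ⟨KS_nil q M, fun x hx => by simp at hx⟩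
  | cons x l ih =>
    intro hl
    obtain ⟨h1, h2⟩ := ih (fun y hy => hl y (List.mem_cons_of_mem _ hy))
    refine ⟨(h1.cone x (hl x List.mem_cons_self)).of_iso (KM_cons_iso M x l), ?_⟩
    intro y hy
    rcases List.mem_cons.1 hy with rfl | hy'
    · exact (NH.cone_self y).of_iso (KM_cons_iso M y l)
    · exact ((h2 y hy').cone x).of_iso (KM_cons_iso M x l)

end koszul

end Groth.Agent.Lib.helper26.Kos
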