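import Mathlib
import Groth.Agent.Lib.Helper26.Kos2
import Groth.Agent.Lib.Helper26.HS8

/-!
# Koszul Euler characteristics, part 3: Serre's theorem `χ(x; M) = Δ^r P` (helper26)

For a list `l` of `r` elements generating `q` and a finite module `M` with `M/qM` of finite length,
the Euler characteristic of the Koszul homology of `l` on `M` equals
`∑_p (-1)^p binom(r,p) ℓ(M/q^{i-p}M)` for all large `i`, which is `r! ·` the `r`-th coefficient of the
Hilbert–Samuel polynomial.
-/

set_option autoImplicit false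
set_option linter.unusedSectionVars false
universe u

open CategoryTheory CochainComplex Polynomial

namespace Groth.Agent.Lib.helper26.Kos

open Groth.Agent.Lib.helper26.HS

variable {A : Type u} [CommRing A] [IsNoetherianRing A]

section AR

variable {X : Type u} [AddCommGroup X] [Module A X] [Module.Finite A X]

/-- Artin–Rees in the form we use. -/
theorem exists_inf_le_smul (q : Ideal A) (N : Submodule A X) :
    ∃ c : ℕ, ∀ m : ℕ, c < m →
      q ^ m • (⊤ : Submodule A X) ⊓ N ≤ q • (q ^ (m - 1) • (⊤ : Submodule A X) ⊓ N) := by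
  obtain ⟨c, hc⟩ := Ideal.exists_pow_inf_eq_pow_smul q N
  refine ⟨c, fun m hm => ?_⟩
  rw [hc m hm.le]
  obtain ⟨t, rfl⟩ : ∃ t, m = c + 1 + t := ⟨m - c - 1, by omega⟩
  have h1 : c + 1 + t - c = 1 + t := by omega
  rw [h1, pow_add, pow_one, mul_smul]
  apply Submodule.smul_mono le_rfl
  apply le_inf
  · calc q ^ t • (q ^ c • (⊤ : Submodule A X) ⊓ N) ≤ q ^ t • (q ^ c • (⊤ : Submodule A X)) :=
        Submodule.smul_mono le_rfl inf_le_left
      _ = q ^ (c + 1 + t - 1) • (⊤ : Submodule A X) := by
        rw [← mul_smul, ← pow_add]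
        congr 2
        omega
  · exact (Submodule.smul_mono le_rfl inf_le_right).trans Submodule.smul_le_right

end AR

section acyclic

variable (q : Ideal A) (C : CochainComplex (ModuleCat.{u} A) ℤ)

/-- The filtration `F^i C^n = q^{i+n} C^n`. -/
noncomputable def Fil (i : ℕ) (n : ℤ) : Submodule A (C.X n) :=
  q ^ ((i : ℤ) + n).toNat • (⊤ : Submodule A (C.X n))

theorem d_comp_d_apply (i j k : ℤ) (c : C.X i) : (C.d j k).hom ((C.d i j).hom c) = 0 := by
  have := C.d_comp_d i j k
  exact LinearMap.congr_fun (congrArg ModuleCat.Hom.hom this) c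

theorem map_Fil_le (hd : ∀ (i j : ℤ) (c : C.X i), (C.d i j).hom c ∈ q • (⊤ : Submodule A (C.X j)))
    (i0 : ℕ) (i j k : ℤ) (hij : i + 1 = j) :
    (Fil q C i0 i).map (C.d i j).hom ≤ LinearMap.ker (C.d j k).hom ⊓ Fil q C i0 j := by
  apply le_inf
  · rintro _ ⟨c, _, rfl⟩
    rw [LinearMap.mem_ker]
    exact d_comp_d_apply C i j k c
  · unfold Fil
    rw [Submodule.map_smul'']
    have h1 : (⊤ : Submodule A (C.X i)).map (C.d i j).hom ≤ q • (⊤ : Submodule A (C.X j)) := by
      rintro _ ⟨c, _, rfl⟩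
      exact hd i j c
    refine (Submodule.smul_mono le_rfl h1).trans ?_
    rw [← mul_smul (q ^ ((i0 : ℤ) + i).toNat) q (⊤ : Submodule A (C.X j)), ← pow_succ]
    apply Submodule.smul_mono _ le_rfl
    apply Ideal.pow_le_pow_right
    omega

/-- Cycles deep in the filtration are boundaries of elements deep in the filtration. -/
theorem ker_inf_le_map (gens : Set A) (hq : q = Ideal.span gens) (hNH : ∀ x ∈ gens, NH x C)
    (i j k : ℤ) (hij : i + 1 = j) (hjk : j + 1 = k) (m : ℕ)
    (hm : q ^ m • (⊤ : Submodule A (C.X j)) ⊓ LinearMap.ker (C.d j k).hom ≤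
      q • (q ^ (m - 1) • (⊤ : Submodule A (C.X j)) ⊓ LinearMap.ker (C.d j k).hom)) :
    LinearMap.ker (C.d j k).hom ⊓ q ^ m • (⊤ : Submodule A (C.X j)) ≤
      (q ^ (m - 1) • (⊤ : Submodule A (C.X i))).map (C.d i j).hom := by
  intro z hz
  have hz' := hm ⟨hz.2, hz.1⟩
  refine Submodule.smul_induction_on hz' ?_ ?_
  · intro a ha n hn
    rw [hq] at ha
    refine Submodule.span_induction (p := fun a _ => a • n ∈
      (q ^ (m - 1) • (⊤ : Submodule A (C.X i))).map (C.d i j).hom) ?_ ?_ ?_ ?_ ha
    · intro x hx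
      obtain ⟨s, hs⟩ := hNH x hx
      have h1 := hs i j k hij hjk n
      have h2 : (C.d j k).hom n = 0 := hn.2
      rw [h2, map_zero, add_zero] at h1
      rw [← h1]
      exact ⟨s i j n, map_mem_smul_top _ _ hn.1, rfl⟩
    · rw [zero_smul]; exact Submodule.zero_mem _
    · intro a b _ _ ha hb
      rw [add_smul]; exact Submodule.add_mem _ ha hb
    · intro c a _ ha
      rw [smul_eq_mul, mul_smul]; exact Submodule.smul_mem _ c ha
  · intro a b ha hb
    exact Submodule.add_mem _ ha hb

end acyclic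

section main

variable (q : Ideal A) (M : Type u) [AddCommGroup M] [Module A M] [Module.Finite A M]

theorem exists_euler_eq_sum_hs (l : List A) (hq : q = Ideal.span {a | a ∈ l})
    (hM : hs q M 1 ≠ ⊤) :
    ∃ i0 : ℕ, ∀ i : ℕ, i0 ≤ i →
      (∑ᶠ n : ℤ, ((n.negOnePow : ℤˣ) : ℤ) *
        ((Module.length A ((KM M l).homology n)).toNat : ℤ)) =
      ∑ p ∈ Finset.range (l.length + 1), (-1 : ℤ) ^ p *
        ((l.length.choose p : ℤ) * ((hs q M (i - p)).toNat : ℤ)) := by
  classical
  set r := l.length with hr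
  have hlq : ∀ x ∈ l, x ∈ q := fun x hx => by
    rw [hq]; exact Ideal.subset_span hx
  obtain ⟨hKS, hNH⟩ := koszul_KS q M l hlq
  have hfinX := hKS.fin
  choose c hc using fun j : ℤ =>
    exists_inf_le_smul q (LinearMap.ker ((KM M l).d j (j + 1)).hom)
  set cmax := (Finset.range (r + 1)).sup (fun p : ℕ => c (-(p : ℤ))) with hcmax
  refine ⟨cmax + r + 1, fun i hi => ?_⟩
  rw [finsum_eq_sum (KM M l) r hKS.zero]
  have hacyc : ∀ a j k : ℤ, a + 1 = j → j + 1 = k →
      LinearMap.ker ((KM M l).d j k).hom ⊓ Fil q (KM M l) i j =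
        (Fil q (KM M l) i a).map ((KM M l).d a j).hom := by
    intro a j k haj hjk
    apply le_antisymm _ (map_Fil_le q (KM M l) hKS.dmem i a j k haj)
    by_cases hj : j < -(r : ℤ) ∨ 0 < j
    · have := hKS.zero j hj
      intro z _
      rw [Subsingleton.elim z 0]
      exact Submodule.zero_mem _
    · push Not at hj
      subst hjk
      have hp : (-j).toNat ∈ Finset.range (r + 1) := by
        rw [Finset.mem_range]; omega
      have hcj : c j ≤ cmax := by
        have := Finset.le_sup (f := fun p : ℕ => c (-(p : ℤ))) hp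
        have h2 : (-(((-j).toNat : ℕ) : ℤ)) = j := by omega
        simp only [h2] at this
        exact this
      have hm : c j < ((i : ℤ) + j).toNat := by omega
      have key := ker_inf_le_map q (KM M l) {a | a ∈ l} hq hNH a j (j + 1) haj rfl
        ((i : ℤ) + j).toNat (hc j _ hm)
      have h3 : ((i : ℤ) + j).toNat - 1 = ((i : ℤ) + a).toNat := by omega
      rw [h3] at key
      exact key
  have hcol : ∀ p : ℕ, p ∈ Finset.range (r + 1) → col (Fil q (KM M l) i (-(p : ℤ))) =
      (r.choose p : ℕ∞) * hs q M (i - p) := by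
    intro p hp
    rw [Finset.mem_range] at hp
    have h1 : ((i : ℤ) + -(p : ℤ)).toNat = i - p := by omega
    have := hKS.len (-(p : ℤ)) (i - p)
    rw [cf_neg_natCast] at this
    rw [← this]
    unfold Fil hs
    rw [h1]
  have hfin : ∀ p : ℕ, col (Fil q (KM M l) i (-(p : ℤ))) ≠ ⊤ := by
    intro p
    have h1 := hKS.len (-(p : ℤ)) ((i : ℤ) + -(p : ℤ)).toNat
    unfold Fil
    unfold hs at h1
    rw [h1]
    exact WithTop.mul_ne_top (ENat.natCast_ne_top _) (hs_ne_top q M hM _)
  rw [euler_eq (KM M l) (Fil q (KM M l) i) r hKS.zero hfin hacyc]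
  apply Finset.sum_congr rfl
  intro p hp
  rw [hcol p hp, ENat.toNat_mul]
  simp

end main

section diff

/-- The alternating binomial sum of shifted values of a polynomial of degree `≤ r`. -/
theorem sum_choose_eval (P : ℚ[X]) (r : ℕ) (hP : P.natDegree ≤ r) (y : ℚ) :
    ∑ p ∈ Finset.range (r + 1), (-1 : ℚ) ^ p * ((r.choose p : ℚ) * P.eval (y - p)) =
      (r.factorial : ℚ) * P.coeff r := by
  have h1 := fwdDiff_iter_eq_sum_shift (1 : ℚ) P.eval r (y - r)
  have h2 : (fwdDiff (1 : ℚ))^[r] P.eval (y - r) = (r.factorial : ℚ) * P.coeff r := by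
    rcases Nat.lt_or_ge P.natDegree r with hlt | hge
    · rw [Polynomial.fwdDiff_iter_eq_zero_of_degree_lt hlt, coeff_eq_zero_of_natDegree_lt hlt]
      simp
    · have hr : P.natDegree = r := le_antisymm hP hge
      have := Polynomial.fwdDiff_iter_degree_eq_factorial P
      rw [hr] at this
      rw [this]
      simp [leadingCoeff, hr, mul_comm]
  rw [← h2, h1, ← Finset.sum_range_reflect]
  apply Finset.sum_congr rfl
  intro p hp
  rw [Finset.mem_range] at hp
  have e1 : r + 1 - 1 - p = r - p := by omega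
  rw [e1, Nat.choose_symm (by omega)]
  simp only [zsmul_eq_mul, Int.cast_mul, Int.cast_pow, Int.cast_neg, Int.cast_one, Int.cast_natCast,
    nsmul_eq_mul, mul_one]
  rw [mul_assoc]
  congr 3
  rw [Nat.cast_sub (by omega)]
  ring

end diff

section final

variable (q : Ideal A) (M : Type u) [AddCommGroup M] [Module A M] [Module.Finite A M]

/-- **Serre's theorem**: the Euler characteristic of the Koszul homology of `l` on `M` is
`r! ·` the `r`-th coefficient of the Hilbert–Samuel polynomial of `M` with respect to `q = (l)`. -/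
theorem euler_koszul (l : List A) (hq : q = Ideal.span {a | a ∈ l}) (hM : hs q M 1 ≠ ⊤)
    (P : ℚ[X]) (hP : IsHSPoly q M P) (hdeg : P.natDegree ≤ l.length) :
    (((∑ᶠ n : ℤ, ((n.negOnePow : ℤˣ) : ℤ) *
        ((Module.length A ((KM M l).homology n)).toNat : ℤ)) : ℤ) : ℚ) =
      (l.length.factorial : ℚ) * P.coeff l.length := by
  obtain ⟨i0, hi0⟩ := exists_euler_eq_sum_hs q M l hq hM
  obtain ⟨N0, hN0⟩ := hP
  set i := max i0 (N0 + l.length) with hi
  rw [hi0 i (le_max_left _ _), ← sum_choose_eval P l.length hdeg (i : ℚ)]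
  push_cast
  apply Finset.sum_congr rfl
  intro p hp
  rw [Finset.mem_range] at hp
  have h1 : N0 ≤ i - p := by
    have : N0 + l.length ≤ i := le_max_right _ _
    omega
  have h2 := hN0 (i - p) h1
  have h3 : ((i - p : ℕ) : ℚ) = (i : ℚ) - p := by
    have : p ≤ i := by
      have : N0 + l.length ≤ i := le_max_right _ _
      omega
    rw [Nat.cast_sub this]
  rw [h3] at h2
  rw [← h2]

end final

end Groth.Agent.Lib.helper26.Kos
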