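import Mathlib
import Groth.Agent.Lib.Helper26.HS2

/-!
# Difference of a polynomial and its translate (helper26)

`natDegree_sub_comp_eq`: for `P : ℚ[X]` of degree `e ≥ 1` and `c ≠ 0`, `P - P(X + c)` has degree
`e - 1` and leading coefficient `-e * c * lc(P)`.
-/

set_option autoImplicit false

open Polynomial

namespace Groth.Agent.Lib.helper26.HS

theorem coeff_taylor_pred (P : ℚ[X]) (c : ℚ) (n : ℕ) (hn : P.natDegree = n + 1) :
    (taylor c P).coeff n = P.coeff n + (n + 1 : ℚ) * P.coeff (n + 1) * c := by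
  rw [taylor_coeff]
  have h1 : (hasseDeriv n P).natDegree ≤ 1 := by
    refine (natDegree_hasseDeriv_le P n).trans ?_
    omega
  rw [eq_X_add_C_of_natDegree_le_one h1]
  simp only [hasseDeriv_coeff, eval_add, eval_mul, eval_C, eval_X]
  have e1 : (1 + n).choose n = n + 1 := by
    rw [add_comm]
    exact Nat.choose_succ_self_right n
  have e2 : (0 + n).choose n = 1 := by simp
  rw [e1, e2]
  push_cast
  rw [add_comm 1 n, zero_add]
  ring

theorem natDegree_sub_comp_eq (P : ℚ[X]) (c : ℚ) (hc : c ≠ 0) (hP : 1 ≤ P.natDegree) :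
    (P - P.comp (X + C c)).natDegree + 1 = P.natDegree ∧
    (P - P.comp (X + C c)).leadingCoeff = - (P.natDegree : ℚ) * c * P.leadingCoeff := by
  obtain ⟨n, hn⟩ : ∃ n, P.natDegree = n + 1 := ⟨P.natDegree - 1, by omega⟩
  have hlt := natDegree_sub_comp_lt P c (by omega)
  have hle : (P - P.comp (X + C c)).natDegree ≤ n := by omega
  have hcoeff : (P - P.comp (X + C c)).coeff n = - ((n + 1 : ℕ) : ℚ) * c * P.leadingCoeff := by
    rw [coeff_sub, ← taylor_apply, coeff_taylor_pred P c n hn, leadingCoeff, hn]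
    push_cast
    ring
  have hlc : P.leadingCoeff ≠ 0 := by
    rw [Ne, leadingCoeff_eq_zero]
    intro h
    rw [h] at hP
    simp at hP
  have hne : (P - P.comp (X + C c)).coeff n ≠ 0 := by
    rw [hcoeff]
    have : ((n + 1 : ℕ) : ℚ) ≠ 0 := by positivity
    exact mul_ne_zero (mul_ne_zero (neg_ne_zero.2 this) hc) hlc
  have hdeg : (P - P.comp (X + C c)).natDegree = n :=
    le_antisymm hle (le_natDegree_of_ne_zero hne)
  refine ⟨by rw [hdeg, hn], ?_⟩
  rw [leadingCoeff, hdeg, hcoeff, hn]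

end Groth.Agent.Lib.helper26.HS
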