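import Mathlib
import Groth.Agent.Lib.Helper26.Mult3

/-!
# Multiplicities, part 4: `ℓ(M/q^n M) ≤ ℓ(M/qM) · C(n+d, d)` when `q` is generated by `d` elements
(helper26)
-/

set_option autoImplicit false
set_option linter.unusedSectionVars false
universe u

open Polynomial Pointwise

namespace Groth.Agent.Lib.helper26.HS

variable {A : Type u} [CommRing A] (q : Ideal A) {M : Type u} [AddCommGroup M] [Module A M]

/-- Relative Hilbert–Samuel function `ℓ(M/(N + q^n M))`. -/
noncomputable def hsN (N : Submodule A M) (n : ℕ) : ℕ∞ := col (N ⊔ q ^ n • (⊤ : Submodule A M))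

theorem hsN_bot (n : ℕ) : hsN q (⊥ : Submodule A M) n = hs q M n := by
  unfold hsN hs
  rw [bot_sup_eq]

theorem hsN_zero (N : Submodule A M) : hsN q N 0 = 0 := by
  unfold hsN col
  rw [pow_zero, Ideal.one_eq_top, Submodule.top_smul, sup_top_eq]
  exact Module.length_eq_zero

theorem hsN_succ_le {x : A} (hx : x ∈ q) (N : Submodule A M) (n : ℕ) :
    hsN q N (n + 1) ≤ hsN q N n + hsN q (N ⊔ x • (⊤ : Submodule A M)) (n + 1) := by
  have hPP' : N ⊔ q ^ (n + 1) • (⊤ : Submodule A M) ≤
      (N ⊔ x • (⊤ : Submodule A M)) ⊔ q ^ (n + 1) • (⊤ : Submodule A M) :=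
    sup_le_sup_right le_sup_left _
  have h1 := rl_add_col hPP'
  have h2 : rl ((N ⊔ x • (⊤ : Submodule A M)) ⊔ q ^ (n + 1) • (⊤ : Submodule A M))
      (N ⊔ q ^ (n + 1) • (⊤ : Submodule A M)) ≤ col (N ⊔ q ^ n • (⊤ : Submodule A M)) := by
    have e : (N ⊔ x • (⊤ : Submodule A M)) ⊔ q ^ (n + 1) • (⊤ : Submodule A M) =
        x • (⊤ : Submodule A M) ⊔ (N ⊔ q ^ (n + 1) • (⊤ : Submodule A M)) := by
      rw [sup_comm N, sup_assoc]
    have e2 : x • (⊤ : Submodule A M) = (⊤ : Submodule A M).map (LinearMap.lsmul A M x) := by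
      ext m
      rw [Submodule.mem_smul_pointwise_iff_exists, Submodule.mem_map]
      rfl
    rw [e, rl_sup_left, e2, ← rl_comap_eq_rl_map, rl_top]
    apply col_le_col
    refine sup_le ?_ ?_
    · intro m hm
      show x • m ∈ N ⊔ q ^ (n + 1) • (⊤ : Submodule A M)
      exact Submodule.mem_sup_left (N.smul_mem x hm)
    · intro m hm
      show x • m ∈ N ⊔ q ^ (n + 1) • (⊤ : Submodule A M)
      apply Submodule.mem_sup_right
      rw [pow_succ', mul_smul]
      exact Submodule.smul_mem_smul hx hm
  unfold hsN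
  rw [← h1]
  exact add_le_add h2 le_rfl

theorem hsN_le_of_list (xs : List A) (hxs : ∀ x ∈ xs, x ∈ q) (lam : ℕ∞) :
    ∀ (N : Submodule A M),
      (∀ n, hsN q (N ⊔ Ideal.ofList xs • (⊤ : Submodule A M)) n ≤ lam) →
      ∀ n, hsN q N n ≤ lam * ((n + xs.length).choose xs.length : ℕ∞) := by
  induction xs with
  | nil =>
    intro N h n
    have := h n
    rw [Ideal.ofList_nil, Submodule.bot_smul, sup_bot_eq] at this
    simpa using this
  | cons x xs ih =>
    intro N h n
    have hx : x ∈ q := hxs x (List.mem_cons_self)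
    have hxs' : ∀ y ∈ xs, y ∈ q := fun y hy => hxs y (List.mem_cons_of_mem _ hy)
    have h' : ∀ n, hsN q ((N ⊔ x • (⊤ : Submodule A M)) ⊔
        Ideal.ofList xs • (⊤ : Submodule A M)) n ≤ lam := by
      intro n
      have := h n
      rwa [Ideal.ofList_cons, Submodule.sup_smul, Submodule.ideal_span_singleton_smul,
        ← sup_assoc] at this
    have ih' := ih hxs' (N ⊔ x • (⊤ : Submodule A M)) h'
    induction n with
    | zero =>
      rw [hsN_zero]
      exact zero_le
    | succ n ihn =>
      refine (hsN_succ_le q hx N n).trans ?_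
      refine (add_le_add ihn (ih' (n + 1))).trans ?_
      rw [List.length_cons, ← mul_add]
      refine le_of_eq ?_
      congr 1
      have : (n + 1 + (xs.length + 1)).choose (xs.length + 1) =
          (n + 1 + xs.length).choose xs.length + (n + (xs.length + 1)).choose (xs.length + 1) := by
        rw [show n + 1 + (xs.length + 1) = (n + 1 + xs.length) + 1 by ring,
          Nat.choose_succ_succ, show n + 1 + xs.length = n + (xs.length + 1) by ring]
      rw [this]
      push_cast
      ring

end Groth.Agent.Lib.helper26.HS
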