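import Mathlib
import Groth.Agent.Lib.Helper26.Mult4
import Groth.Agent.Lib.Helper26.HilbDiff

/-!
# Multiplicities, part 5: integrality and positivity of the multiplicity (helper26)
-/

set_option autoImplicit false
set_option linter.unusedSectionVars false
universe u

open Polynomial Pointwise

namespace Groth.Agent.Lib.helper26.HS

/-- For an (eventually) integer valued polynomial of degree `d`, `d! * lc` is an integer. -/
theorem exists_int_factorial_mul_leadingCoeff (d : ℕ) :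
    ∀ (P : ℚ[X]) (_ : P.natDegree = d) (N₀ : ℕ)
      (_ : ∀ n : ℕ, N₀ ≤ n → ∃ z : ℤ, P.eval (n : ℚ) = z),
      ∃ z : ℤ, (d.factorial : ℚ) * P.leadingCoeff = z := by
  induction d with
  | zero =>
    intro P hd N₀ hint
    obtain ⟨z, hz⟩ := hint N₀ le_rfl
    refine ⟨z, ?_⟩
    rw [eq_C_of_natDegree_eq_zero hd] at hz ⊢
    simpa using hz
  | succ d ih =>
    intro P hd N₀ hint
    obtain ⟨h1, h2⟩ := natDegree_sub_comp_eq P 1 one_ne_zero (by omega)
    have hdeg : (P - P.comp (X + C 1)).natDegree = d := by omega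
    have hint' : ∀ n : ℕ, N₀ ≤ n → ∃ z : ℤ, (P - P.comp (X + C 1)).eval (n : ℚ) = z := by
      intro n hn
      obtain ⟨z1, hz1⟩ := hint n hn
      obtain ⟨z2, hz2⟩ := hint (n + 1) (by omega)
      refine ⟨z1 - z2, ?_⟩
      rw [eval_sub, eval_comp, eval_add, eval_X, eval_C, hz1]
      have : ((n : ℚ) + 1) = ((n + 1 : ℕ) : ℚ) := by push_cast; ring
      rw [this, hz2]
      push_cast
      ring
    obtain ⟨z, hz⟩ := ih _ hdeg N₀ hint'
    refine ⟨-z, ?_⟩
    rw [h2, hd] at hz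
    rw [Nat.factorial_succ]
    push_cast at hz ⊢
    linarith

theorem tendsto_div_pow_leadingCoeff (P : ℚ[X]) (d : ℕ) (hd : P.natDegree = d) :
    Filter.Tendsto (fun t : ℕ => ((P.eval (t : ℚ) : ℚ) : ℝ) / (t : ℝ) ^ d) Filter.atTop
      (nhds ((P.leadingCoeff : ℚ) : ℝ)) := by
  by_cases hP : P = 0
  · subst hP
    simp
  have hdeg : (P.map (algebraMap ℚ ℝ)).degree = (X ^ d : ℝ[X]).degree := by
    rw [degree_X_pow, degree_map, degree_eq_natDegree hP, hd]
  have h1 := Polynomial.div_tendsto_atTop_leadingCoeff_div_of_degree_eq (P.map (algebraMap ℚ ℝ))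
    (X ^ d : ℝ[X]) hdeg
  have h2 := h1.comp tendsto_natCast_atTop_atTop
  have hlc : (P.map (algebraMap ℚ ℝ)).leadingCoeff / (X ^ d : ℝ[X]).leadingCoeff =
      ((P.leadingCoeff : ℚ) : ℝ) := by
    rw [leadingCoeff_X_pow, div_one, leadingCoeff_map]
    rfl
  rw [hlc] at h2
  refine h2.congr (fun t => ?_)
  have h3 : (P.map (algebraMap ℚ ℝ)).eval ((t : ℕ) : ℝ) = ((P.eval (t : ℚ) : ℚ) : ℝ) := by
    have := Polynomial.eval_map_apply (p := P) (algebraMap ℚ ℝ) (t : ℚ)
    rw [map_natCast] at this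
    rw [this]
    rfl
  simp only [Function.comp_apply, h3, eval_pow, eval_X]

variable {A : Type u} [CommRing A] [IsNoetherianRing A] (q : Ideal A)
  {N : Type u} [AddCommGroup N] [Module A N] [Module.Finite A N]

/-- The multiplicity limit exists for a module with Hilbert–Samuel polynomial of degree `d`. -/
theorem tendsto_of_isHSPoly {P : ℚ[X]} (hP : IsHSPoly q N P) (d : ℕ) (hd : P.natDegree = d) :
    Filter.Tendsto (fun t : ℕ => (d.factorial : ℝ) * ((hs q N t).toNat : ℝ) / (t : ℝ) ^ d)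
      Filter.atTop (nhds ((d.factorial : ℝ) * ((P.leadingCoeff : ℚ) : ℝ))) := by
  obtain ⟨N₀, hN₀⟩ := hP
  have h1 := (tendsto_div_pow_leadingCoeff P d hd).const_mul (d.factorial : ℝ)
  refine h1.congr' ?_
  filter_upwards [Filter.eventually_ge_atTop N₀] with t ht
  rw [← hN₀ t ht, mul_div_assoc]
  push_cast
  rfl

/-- Positivity and integrality: the multiplicity of a nonzero module of dimension `d` is `≥ 1`. -/
theorem one_le_mult [Nontrivial N] (hq : q ≤ Ring.jacobson A) (hM : hs q N 1 ≠ ⊤)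
    {P : ℚ[X]} (hP : IsHSPoly q N P) (d : ℕ) (hd : P.natDegree = d) :
    (1 : ℝ) ≤ (d.factorial : ℝ) * ((P.leadingCoeff : ℚ) : ℝ) := by
  have hP0 : P ≠ 0 := by
    rintro rfl
    have := subsingleton_of_isHSPoly_zero q hq hM hP
    exact not_subsingleton N this
  obtain ⟨N₀, hN₀⟩ := hP
  obtain ⟨z, hz⟩ := exists_int_factorial_mul_leadingCoeff d P hd N₀
    (fun n hn => ⟨((hs q N n).toNat : ℤ), by rw [← hN₀ n hn]; simp⟩)
  have hlim := tendsto_of_isHSPoly q ⟨N₀, hN₀⟩ d hd
  have hnn : (0 : ℝ) ≤ (d.factorial : ℝ) * ((P.leadingCoeff : ℚ) : ℝ) := by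
    refine ge_of_tendsto' hlim (fun t => ?_)
    positivity
  have hne : (d.factorial : ℚ) * P.leadingCoeff ≠ 0 :=
    mul_ne_zero (by exact_mod_cast (Nat.factorial_ne_zero d)) (leadingCoeff_ne_zero.2 hP0)
  have hzr : (d.factorial : ℝ) * ((P.leadingCoeff : ℚ) : ℝ) = (z : ℝ) := by
    have := congrArg (fun x : ℚ => (x : ℝ)) hz
    simpa using this
  rw [hzr] at hnn ⊢
  have hz0 : z ≠ 0 := by
    rintro rfl
    apply hne
    rw [hz]
    simp
  have hz1 : (0 : ℤ) ≤ z := by exact_mod_cast hnn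
  have : (1 : ℤ) ≤ z := by omega
  exact_mod_cast this

end Groth.Agent.Lib.helper26.HS
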