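import Mathlib
import Groth.Agent.Lib.Helper26.Kos3
import Groth.Agent.Lib.Helper26.Mult5

/-!
# Koszul Euler characteristics, part 4: consequences of Serre's theorem (helper26)

* `natDegree_le_length`: the Hilbert–Samuel polynomial w.r.t. an ideal generated by `r` elements has
  degree `≤ r`;
* `euler_koszul'`: `χ(l; M) = r! · coeff_r P`;
* `tendsto_koszul`: `r! · ℓ(M/qⁿM)/n^r → χ(l; M)`;
* `koszul_eq_zero_of_natDegree_lt`, `koszul_pos_of_natDegree_eq`.
-/

set_option autoImplicit false
set_option linter.unusedSectionVars false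
universe u

open CategoryTheory Polynomial Filter Topology

namespace Groth.Agent.Lib.helper26.Kos

open Groth.Agent.Lib.helper26.HS

variable {A : Type u} [CommRing A] [IsNoetherianRing A]
  (q : Ideal A) (M : Type u) [AddCommGroup M] [Module A M] [Module.Finite A M]

theorem tendsto_eval_div_pow_zero (Q : ℚ[X]) (d : ℕ) (hQ : Q = 0 ∨ Q.natDegree < d) :
    Tendsto (fun m : ℕ => ((Q.eval (m : ℚ) : ℚ) : ℝ) / (m : ℝ) ^ d) atTop (𝓝 0) := by
  have hdeg : (Q.map (algebraMap ℚ ℝ)).degree < (X ^ d : ℝ[X]).degree := by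
    rw [degree_X_pow, degree_map]
    rcases hQ with rfl | h
    · rw [degree_zero]; exact WithBot.bot_lt_coe _
    · exact lt_of_le_of_lt degree_le_natDegree (by exact_mod_cast h)
  have h1 := Polynomial.div_tendsto_atTop_zero_of_degree_lt (Q.map (algebraMap ℚ ℝ)) (X ^ d : ℝ[X]) hdeg
  have h2 := h1.comp tendsto_natCast_atTop_atTop
  refine h2.congr (fun t => ?_)
  have h3 : (Q.map (algebraMap ℚ ℝ)).eval ((t : ℕ) : ℝ) = ((Q.eval (t : ℚ) : ℚ) : ℝ) := by
    have := Polynomial.eval_map_apply (p := Q) (algebraMap ℚ ℝ) (t : ℚ)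
    rw [map_natCast] at this
    rw [this]
    rfl
  simp only [Function.comp_apply, h3, eval_pow, eval_X]

/-- The Hilbert–Samuel polynomial with respect to an ideal generated by `r` elements has degree
at most `r`. -/
theorem natDegree_le_length (l : List A) (hq : q = Ideal.span {a | a ∈ l}) (hM : hs q M 1 ≠ ⊤)
    (P : ℚ[X]) (hP : IsHSPoly q M P) : P.natDegree ≤ l.length := by
  have hlq : ∀ x ∈ l, x ∈ q := fun x hx => by rw [hq]; exact Ideal.subset_span hx
  obtain ⟨lam, hlam⟩ := ENat.ne_top_iff_exists.1 hM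
  have hbound : ∀ n, hs q M n ≤ (lam : ℕ∞) * ((n + l.length).choose l.length : ℕ∞) := by
    intro n
    rw [← hsN_bot]
    apply hsN_le_of_list q l hlq
    intro n
    unfold hsN
    rw [bot_sup_eq, hlam]
    have : col (q • (⊤ : Submodule A M)) = hs q M 1 := by unfold hs; rw [pow_one]
    rw [← this]
    apply col_le_col
    refine le_trans (le_of_eq ?_) le_sup_left
    rw [hq]
  obtain ⟨N0, hN0⟩ := hP
  set Q : ℚ[X] := C (lam : ℚ) * (X + C (l.length : ℚ)) ^ l.length with hQ
  have hQdeg : Q.natDegree ≤ l.length := by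
    rw [hQ]
    refine (natDegree_C_mul_le _ _).trans ?_
    refine (natDegree_pow_le).trans ?_
    rw [natDegree_X_add_C, mul_one]
  refine le_trans (natDegree_le_of_eventually_le P Q N0 ?_) hQdeg
  intro n hn
  rw [← hN0 n hn]
  refine ⟨by positivity, ?_⟩
  have h1 := hbound n
  have h2 : hs q M n ≠ ⊤ := hs_ne_top q M hM n
  have h3 : (hs q M n).toNat ≤ lam * (n + l.length).choose l.length := by
    have := ENat.toNat_le_toNat h1 (by exact_mod_cast ENat.natCast_ne_top (lam * (n + l.length).choose l.length))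
    have e : ((lam : ℕ∞) * ((n + l.length).choose l.length : ℕ∞)).toNat =
        lam * (n + l.length).choose l.length := by
      rw [← Nat.cast_mul, ENat.toNat_natCast]
    rwa [e] at this
  have h4 : (n + l.length).choose l.length ≤ (n + l.length) ^ l.length := Nat.choose_le_pow _ _
  have h5 : (hs q M n).toNat ≤ lam * (n + l.length) ^ l.length :=
    h3.trans (Nat.mul_le_mul_left _ h4)
  rw [hQ, eval_mul, eval_C, eval_pow, eval_add, eval_X, eval_C]
  exact_mod_cast h5

/-- **Serre's theorem** without the degree hypothesis. -/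
theorem euler_koszul' (l : List A) (hq : q = Ideal.span {a | a ∈ l}) (hM : hs q M 1 ≠ ⊤)
    (P : ℚ[X]) (hP : IsHSPoly q M P) :
    (((∑ᶠ n : ℤ, ((n.negOnePow : ℤˣ) : ℤ) *
        ((Module.length A ((DRing.tensorCx (Koszul.koszul A l) (ModuleCat.of A M)).homology n)).toNat
          : ℤ)) : ℤ) : ℚ) = (l.length.factorial : ℚ) * P.coeff l.length :=
  euler_koszul q M l hq hM P hP (natDegree_le_length q M l hq hM P hP)

/-- The Samuel limit with respect to `r` generators is the Koszul Euler characteristic. -/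
theorem tendsto_koszul (l : List A) (hq : q = Ideal.span {a | a ∈ l}) (hM : hs q M 1 ≠ ⊤) :
    Tendsto (fun n : ℕ => (l.length.factorial : ℝ) * ((hs q M n).toNat : ℝ) / (n : ℝ) ^ l.length)
      atTop (𝓝 (((∑ᶠ n : ℤ, ((n.negOnePow : ℤˣ) : ℤ) *
        ((Module.length A ((DRing.tensorCx (Koszul.koszul A l) (ModuleCat.of A M)).homology n)).toNat
          : ℤ)) : ℤ) : ℝ)) := by
  obtain ⟨P, hP⟩ := exists_isHSPoly q hM
  have hchi := euler_koszul' q M l hq hM P hP
  have hdeg := natDegree_le_length q M l hq hM P hP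
  have hchiR : (((∑ᶠ n : ℤ, ((n.negOnePow : ℤˣ) : ℤ) *
        ((Module.length A ((DRing.tensorCx (Koszul.koszul A l) (ModuleCat.of A M)).homology n)).toNat
          : ℤ)) : ℤ) : ℝ) = (l.length.factorial : ℝ) * ((P.coeff l.length : ℚ) : ℝ) := by
    have := congrArg (fun x : ℚ => (x : ℝ)) hchi
    simpa using this
  rw [hchiR]
  rcases Nat.lt_or_ge P.natDegree l.length with hlt | hge
  · rw [coeff_eq_zero_of_natDegree_lt hlt]
    obtain ⟨N0, hN0⟩ := hP
    have h1 := (tendsto_eval_div_pow_zero P l.length (Or.inr hlt)).const_mul (l.length.factorial : ℝ)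
    simp only [Rat.cast_zero, mul_zero] at h1 ⊢
    refine h1.congr' ?_
    filter_upwards [eventually_ge_atTop N0] with n hn
    rw [← hN0 n hn, mul_div_assoc]
    push_cast
    rfl
  · have hr : P.natDegree = l.length := le_antisymm hdeg hge
    have := tendsto_of_isHSPoly q hP l.length hr
    rw [leadingCoeff, hr] at this
    exact this

theorem koszul_eq_zero_of_natDegree_lt (l : List A) (hq : q = Ideal.span {a | a ∈ l})
    (hM : hs q M 1 ≠ ⊤) (P : ℚ[X]) (hP : IsHSPoly q M P) (hlt : P.natDegree < l.length) :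
    (∑ᶠ n : ℤ, ((n.negOnePow : ℤˣ) : ℤ) *
        ((Module.length A ((DRing.tensorCx (Koszul.koszul A l) (ModuleCat.of A M)).homology n)).toNat
          : ℤ)) = 0 := by
  have hchi := euler_koszul' q M l hq hM P hP
  rw [coeff_eq_zero_of_natDegree_lt hlt, mul_zero] at hchi
  exact_mod_cast hchi

theorem koszul_pos_of_natDegree_eq [Nontrivial M] (hjac : q ≤ Ring.jacobson A) (l : List A)
    (hq : q = Ideal.span {a | a ∈ l})
    (hM : hs q M 1 ≠ ⊤) (P : ℚ[X]) (hP : IsHSPoly q M P) (heq : P.natDegree = l.length) :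
    0 < (∑ᶠ n : ℤ, ((n.negOnePow : ℤˣ) : ℤ) *
        ((Module.length A ((DRing.tensorCx (Koszul.koszul A l) (ModuleCat.of A M)).homology n)).toNat
          : ℤ)) := by
  have hchi := euler_koszul' q M l hq hM P hP
  have h1 := one_le_mult q hjac hM hP l.length heq
  rw [leadingCoeff, heq] at h1
  have h2 : (0 : ℚ) < (l.length.factorial : ℚ) * P.coeff l.length := by
    have : (0 : ℝ) < (((l.length.factorial : ℚ) * P.coeff l.length : ℚ) : ℝ) := by
      push_cast
      linarith
    exact_mod_cast this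
  rw [← hchi] at h2
  exact_mod_cast h2

/-- The signed homology lengths of the Koszul complex have finite support. -/
theorem koszul_support_finite (l : List A) :
    (Function.support fun n : ℤ => ((n.negOnePow : ℤˣ) : ℤ) *
        ((Module.length A ((DRing.tensorCx (Koszul.koszul A l) (ModuleCat.of A M)).homology n)).toNat
          : ℤ)).Finite := by
  obtain ⟨hKS, -⟩ := koszul_KS (⊤ : Ideal A) M l (fun _ _ => Submodule.mem_top)
  apply (Set.finite_Icc (-(l.length : ℤ)) 0).subset
  intro n hn
  rw [Function.mem_support] at hn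
  by_contra hout
  apply hn
  have hout' : n < -(l.length : ℤ) ∨ 0 < n := by
    rw [Set.mem_Icc] at hout
    omega
  have : Subsingleton ((KM M l).X n) := hKS.zero n hout'
  have h0 : hl (KM M l) n = 0 := hl_eq_zero_of_subsingleton (KM M l) n
  unfold hl at h0
  rw [h0]
  simp

/-- The real-valued `finsum` of the statements is the cast of the integer-valued one. -/
theorem koszul_finsum_cast (l : List A) :
    (∑ᶠ n : ℤ, ((((n.negOnePow : ℤˣ) : ℤ) : ℝ) *
        ((((Module.length A ((DRing.tensorCx (Koszul.koszul A l)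
          (ModuleCat.of A M)).homology n)).toNat : ℤ) : ℝ)))) =
      (((∑ᶠ n : ℤ, ((n.negOnePow : ℤˣ) : ℤ) *
        ((Module.length A ((DRing.tensorCx (Koszul.koszul A l) (ModuleCat.of A M)).homology n)).toNat
          : ℤ)) : ℤ) : ℝ) := by
  have h := (Int.castAddHom ℝ).map_finsum (koszul_support_finite M l)
  simp only [Int.coe_castAddHom] at h
  refine Eq.trans ?_ h.symm
  apply finsum_congr
  intro n
  push_cast
  rfl

end Groth.Agent.Lib.helper26.Kos
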