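import Mathlib
import Groth.Agent.Lib.Helper26.Kos4
import Groth.Agent.Lib.Helper26.Chi1

/-!
# Koszul Euler characteristics, part 5: homology of the cone of `x • 𝟙` (helper26)

For `K' = cone (x • 𝟙 C)`: `ℓ(H^j K') = ℓ(coker (x | H^j C)) + ℓ(ker (x | H^{j+1} C))`, in terms of
sub-quotients: `clS x Z B = ℓ(Z/(xZ + B))`, `klS x Z B = ℓ((Z ∩ (B : x))/B)`.
-/

set_option autoImplicit false
set_option linter.unusedSectionVars false
universe u

open CategoryTheory CochainComplex

namespace Groth.Agent.Lib.helper26.Kos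

open Groth.Agent.Lib.helper26.HS Groth.Agent.Lib.helper7.KoszulLow

variable {A : Type u} [CommRing A]

section subquot

variable {Y : Type u} [AddCommGroup Y] [Module A Y]

/-- `ℓ(Z/(xZ + B))`: the length of the cokernel of `x` on `Z/B`. -/
noncomputable def clS (x : A) (Z B : Submodule A Y) : ℕ∞ :=
  rl Z (Z.map (LinearMap.lsmul A Y x) ⊔ B)

/-- `ℓ((Z ∩ (B : x))/B)`: the length of the kernel of `x` on `Z/B`. -/
noncomputable def klS (x : A) (Z B : Submodule A Y) : ℕ∞ :=
  rl (Z ⊓ B.comap (LinearMap.lsmul A Y x)) B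

/-- The sub-quotient `Z/B` as a module. -/
abbrev SQ (Z B : Submodule A Y) : Type u := ↥Z ⧸ B.comap Z.subtype

theorem clS_eq (x : A) (Z B : Submodule A Y) :
    clS x Z B = Module.length A (Chi.C x (SQ Z B)) := by
  unfold clS rl
  have h := col_comap_of_surjective (B.comap Z.subtype).mkQ (Submodule.mkQ_surjective _)
    (LinearMap.range (LinearMap.lsmul A (SQ Z B) x))
  unfold col at h
  rw [← h]
  have hsub : (Z.map (LinearMap.lsmul A Y x) ⊔ B).comap Z.subtype =
      (LinearMap.range (LinearMap.lsmul A (SQ Z B) x)).comap (B.comap Z.subtype).mkQ := ?_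
  · rw [hsub]
  ext z
  simp only [Submodule.mem_comap, Submodule.subtype_apply, Submodule.mkQ_apply, LinearMap.mem_range,
    LinearMap.lsmul_apply]
  constructor
  · intro hz
    obtain ⟨a, ha, b, hb, hab⟩ := Submodule.mem_sup.1 hz
    obtain ⟨w, hw, rfl⟩ := ha
    refine ⟨Submodule.Quotient.mk ⟨w, hw⟩, ?_⟩
    rw [← Submodule.Quotient.mk_smul, Submodule.Quotient.eq]
    rw [Submodule.mem_comap]
    have : ((x • (⟨w, hw⟩ : ↥Z) - z : ↥Z) : Y) = -b := by
      simp only [Submodule.coe_sub, Submodule.coe_smul]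
      rw [← hab]
      simp
    rw [Submodule.subtype_apply, this]
    exact B.neg_mem hb
  · rintro ⟨w, hw⟩
    obtain ⟨w, rfl⟩ := Submodule.Quotient.mk_surjective _ w
    rw [← Submodule.Quotient.mk_smul, Submodule.Quotient.eq, Submodule.mem_comap] at hw
    have h1 : (z : Y) = x • (w : Y) - ((x • w - z : ↥Z) : Y) := by
      simp
    rw [h1]
    apply Submodule.sub_mem
    · exact Submodule.mem_sup_left ⟨w, w.2, rfl⟩
    · exact Submodule.mem_sup_right hw

theorem klS_eq (x : A) (Z B : Submodule A Y) :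
    klS x Z B = Module.length A (Chi.K x (SQ Z B)) := by
  unfold klS
  set T := Z ⊓ B.comap (LinearMap.lsmul A Y x) with hT
  have h1 : rl (T.comap Z.subtype) (B.comap Z.subtype) = rl T B := by
    rw [rl_comap_eq_rl_map, Submodule.map_comap_subtype, inf_eq_right.2 (inf_le_left : T ≤ Z)]
  rw [← h1, rl_eq_length_map]
  have : (T.comap Z.subtype).map (B.comap Z.subtype).mkQ = Chi.K x (SQ Z B) := by
    ext n
    simp only [Submodule.mem_map, Submodule.mem_comap, Submodule.subtype_apply, LinearMap.mem_ker,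
      LinearMap.lsmul_apply]
    constructor
    · rintro ⟨z, hz, rfl⟩
      rw [Submodule.mkQ_apply, ← Submodule.Quotient.mk_smul, Submodule.Quotient.mk_eq_zero,
        Submodule.mem_comap]
      exact hz.2
    · intro hn
      obtain ⟨z, rfl⟩ := Submodule.Quotient.mk_surjective _ n
      rw [← Submodule.Quotient.mk_smul, Submodule.Quotient.mk_eq_zero, Submodule.mem_comap] at hn
      exact ⟨z, ⟨z.2, hn⟩, rfl⟩
  rw [this]

end subquot

section mul

variable (a b : A) (N : Type u) [AddCommGroup N] [Module A N]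

/-- Additivity of `ℓ(ker) - ℓ(coker)` in the element: the six term exact sequence
`0 → ker a → ker ab → ker b → coker a → coker ab → coker b → 0`. -/
theorem length_mul :
    Module.length A (Chi.K a N) + Module.length A (Chi.K b N) + Module.length A (Chi.C (a * b) N) =
      Module.length A (Chi.K (a * b) N) + Module.length A (Chi.C a N) +
        Module.length A (Chi.C b N) := by
  -- the maps
  let f1 : Chi.K a N →ₗ[A] Chi.K (a * b) N :=
    Submodule.inclusion (by
      intro n hn
      rw [LinearMap.mem_ker, LinearMap.lsmul_apply] at hn ⊢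
      rw [mul_comm, mul_smul, hn, smul_zero])
  let f2 : Chi.K (a * b) N →ₗ[A] Chi.K b N :=
    (LinearMap.lsmul A N a).restrict (by
      intro n hn
      rw [LinearMap.mem_ker, LinearMap.lsmul_apply] at hn ⊢
      rw [LinearMap.lsmul_apply, ← mul_smul, mul_comm]
      exact hn)
  let δ : Chi.K b N →ₗ[A] Chi.C a N :=
    (LinearMap.range (LinearMap.lsmul A N a)).mkQ.comp (Chi.K b N).subtype
  let g1 : Chi.C a N →ₗ[A] Chi.C (a * b) N :=
    Submodule.mapQ _ _ (LinearMap.lsmul A N b) (by
      rintro _ ⟨n, rfl⟩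
      exact ⟨n, by simp [mul_smul, smul_comm a b]⟩)
  let g2 : Chi.C (a * b) N →ₗ[A] Chi.C b N :=
    Submodule.mapQ _ _ LinearMap.id (by
      rintro _ ⟨n, rfl⟩
      exact ⟨a • n, by simp [mul_smul, smul_comm a b]⟩)
  refine Chi.length_six_term f1 f2 δ g1 g2 ?_ ?_ ?_ ?_ ?_ ?_
  · exact Submodule.inclusion_injective _
  · intro n
    obtain ⟨n, rfl⟩ := Submodule.mkQ_surjective _ n
    exact ⟨Submodule.Quotient.mk n, rfl⟩
  · -- exact at `ker ab`
    intro n
    constructor
    · intro hn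
      have h1 : a • (n : N) = 0 := congrArg Subtype.val hn
      exact ⟨⟨n.1, by rw [LinearMap.mem_ker, LinearMap.lsmul_apply]; exact h1⟩, Subtype.ext rfl⟩
    · rintro ⟨m, rfl⟩
      apply Subtype.ext
      have := m.2
      rw [LinearMap.mem_ker, LinearMap.lsmul_apply] at this
      exact this
  · -- exact at `ker b`
    intro n
    constructor
    · intro hn
      have h1 : (n : N) ∈ LinearMap.range (LinearMap.lsmul A N a) := by
        have : (LinearMap.range (LinearMap.lsmul A N a)).mkQ (n : N) = 0 := hn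
        rwa [Submodule.mkQ_apply, Submodule.Quotient.mk_eq_zero] at this
      obtain ⟨m, hm⟩ := h1
      have hm' : m ∈ Chi.K (a * b) N := by
        rw [LinearMap.mem_ker, LinearMap.lsmul_apply, mul_comm, mul_smul]
        rw [LinearMap.lsmul_apply] at hm
        rw [hm]
        have := n.2
        rwa [LinearMap.mem_ker, LinearMap.lsmul_apply] at this
      exact ⟨⟨m, hm'⟩, Subtype.ext hm⟩
    · rintro ⟨m, rfl⟩
      show (LinearMap.range (LinearMap.lsmul A N a)).mkQ (a • (m : N)) = 0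
      rw [Submodule.mkQ_apply, Submodule.Quotient.mk_eq_zero]
      exact ⟨m, rfl⟩
  · -- exact at `coker a`
    intro n
    obtain ⟨n, rfl⟩ := Submodule.mkQ_surjective _ n
    constructor
    · intro hn
      have h1 : b • n ∈ LinearMap.range (LinearMap.lsmul A N (a * b)) := by
        have : (LinearMap.range (LinearMap.lsmul A N (a * b))).mkQ (b • n) = 0 := hn
        rwa [Submodule.mkQ_apply, Submodule.Quotient.mk_eq_zero] at this
      obtain ⟨m, hm⟩ := h1
      rw [LinearMap.lsmul_apply] at hm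
      have h2 : n - a • m ∈ Chi.K b N := by
        rw [LinearMap.mem_ker, LinearMap.lsmul_apply, smul_sub, ← hm, mul_comm, mul_smul, sub_self]
      refine ⟨⟨n - a • m, h2⟩, ?_⟩
      show (LinearMap.range (LinearMap.lsmul A N a)).mkQ (n - a • m) = _
      rw [Submodule.mkQ_apply, Submodule.mkQ_apply, Submodule.Quotient.eq]
      refine ⟨-m, ?_⟩
      rw [LinearMap.lsmul_apply]
      simp
    · rintro ⟨m, hm⟩
      rw [← hm]
      show (LinearMap.range (LinearMap.lsmul A N (a * b))).mkQ (b • (m : N)) = 0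
      have := m.2
      rw [LinearMap.mem_ker, LinearMap.lsmul_apply] at this
      rw [this, map_zero]
  · -- exact at `coker ab`
    intro n
    obtain ⟨n, rfl⟩ := Submodule.mkQ_surjective _ n
    constructor
    · intro hn
      have h1 : n ∈ LinearMap.range (LinearMap.lsmul A N b) := by
        have : (LinearMap.range (LinearMap.lsmul A N b)).mkQ n = 0 := hn
        rwa [Submodule.mkQ_apply, Submodule.Quotient.mk_eq_zero] at this
      obtain ⟨m, rfl⟩ := h1
      exact ⟨Submodule.Quotient.mk m, rfl⟩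
    · rintro ⟨m, hm⟩
      rw [← hm]
      obtain ⟨m, rfl⟩ := Submodule.mkQ_surjective _ m
      show (LinearMap.range (LinearMap.lsmul A N b)).mkQ (b • m) = 0
      rw [Submodule.mkQ_apply, Submodule.Quotient.mk_eq_zero]
      exact ⟨m, rfl⟩

end mul

section conehl

variable [IsNoetherianRing A] (C : CochainComplex (ModuleCat.{u} A) ℤ) (x : A)

theorem mem_ker_cone_iff (j k m : ℤ) (hjk : j + 1 = k) (hkm : k + 1 = m)
    (z : (mappingCone (x • 𝟙 C)).X j) :
    z ∈ LinearMap.ker ((mappingCone (x • 𝟙 C)).d j k).hom ↔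
      (C.d k m).hom (fstₗ (x • 𝟙 C) j k hjk z) = 0 ∧
        x • fstₗ (x • 𝟙 C) j k hjk z + (C.d j k).hom (sndₗ (x • 𝟙 C) j z) = 0 := by
  rw [LinearMap.mem_ker]
  constructor
  · intro h
    have h1 := fst_d (x • 𝟙 C) j k m hjk hkm z
    have h2 := snd_d (x • 𝟙 C) j k hjk z
    rw [h, map_zero] at h1 h2
    rw [smul_id_f_apply] at h2
    exact ⟨by rw [eq_comm, neg_eq_zero] at h1; exact h1, h2.symm⟩
  · rintro ⟨h1, h2⟩
    apply cone_ext (x • 𝟙 C) k m hkm
    · rw [fst_d (x • 𝟙 C) j k m hjk hkm z, h1, neg_zero, map_zero]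
    · rw [snd_d (x • 𝟙 C) j k hjk z, smul_id_f_apply, h2, map_zero]

/-- The length of the homology of the cone of `x • 𝟙 C`. -/
theorem cone_hl (i j k m : ℤ) (hij : i + 1 = j) (hjk : j + 1 = k) (hkm : k + 1 = m) :
    hl (mappingCone (x • 𝟙 C)) j =
      clS x (LinearMap.ker (C.d j k).hom) (LinearMap.range (C.d i j).hom) +
        klS x (LinearMap.ker (C.d k m).hom) (LinearMap.range (C.d j k).hom) := by
  rw [hl_eq _ i j k hij hjk]
  set Z' := LinearMap.ker ((mappingCone (x • 𝟙 C)).d j k).hom with hZ'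
  set B' := LinearMap.range ((mappingCone (x • 𝟙 C)).d i j).hom with hB'
  set Zj := LinearMap.ker (C.d j k).hom with hZj
  set Bj := LinearMap.range (C.d i j).hom with hBj
  set Zk := LinearMap.ker (C.d k m).hom with hZk
  set Bk := LinearMap.range (C.d j k).hom with hBk
  set ι := inrₗ (x • 𝟙 C) j with hι
  set π := fstₗ (x • 𝟙 C) j k hjk with hπ
  have hBZ' : B' ≤ Z' := by
    rintro _ ⟨u, rfl⟩
    rw [hZ', LinearMap.mem_ker]
    exact d_comp_d_apply _ i j k u
  -- (a)
  have hιZ : Zj.map ι ≤ Z' := by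
    rintro _ ⟨b, hb, rfl⟩
    rw [hZ', mem_ker_cone_iff C x j k m hjk hkm]
    have hb' : (C.d j k).hom b = 0 := hb
    rw [hι, fst_inr, snd_inr, hb']
    simp
  -- (b)
  have hcomap : B'.comap ι = Zj.map (LinearMap.lsmul A (C.X j) x) ⊔ Bj := by
    ext b
    rw [Submodule.mem_comap]
    constructor
    · rintro ⟨u, hu⟩
      have h1 := fst_d (x • 𝟙 C) i j k hij hjk u
      have h2 := snd_d (x • 𝟙 C) i j hij u
      rw [hu, hι, fst_inr] at h1
      rw [hu, hι, snd_inr, smul_id_f_apply] at h2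
      rw [h2]
      apply Submodule.add_mem
      · apply Submodule.mem_sup_left
        refine ⟨fstₗ (x • 𝟙 C) i j hij u, ?_, rfl⟩
        rw [eq_comm, neg_eq_zero] at h1
        exact h1
      · exact Submodule.mem_sup_right ⟨_, rfl⟩
    · intro hb
      obtain ⟨a, ⟨z, hz, rfl⟩, c, ⟨c, rfl⟩, rfl⟩ := Submodule.mem_sup.1 hb
      have hz : (C.d j k).hom z = 0 := hz
      refine ⟨inlₗ (x • 𝟙 C) j i hij z + inrₗ (x • 𝟙 C) i c, ?_⟩
      apply cone_ext (x • 𝟙 C) j k hjk
      · rw [fst_d (x • 𝟙 C) i j k hij hjk, map_add, fst_inl, fst_inr, add_zero, hz, neg_zero, hι,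
          fst_inr]
      · rw [snd_d (x • 𝟙 C) i j hij, map_add, fst_inl, fst_inr, add_zero, map_add, snd_inl, snd_inr,
          zero_add, smul_id_f_apply, hι, snd_inr]
        rfl
  -- (c)
  have hinf : Z' ⊓ Bk.comap π = B' ⊔ Zj.map ι := by
    apply le_antisymm
    · rintro z ⟨hz, ⟨a, ha⟩⟩
      set u := inlₗ (x • 𝟙 C) j i hij a with hu
      set z' := z + ((mappingCone (x • 𝟙 C)).d i j).hom u with hz'
      have hz'Z : z' ∈ Z' := Z'.add_mem hz (hBZ' ⟨u, rfl⟩)
      have hfst : fstₗ (x • 𝟙 C) j k hjk z' = 0 := by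
        rw [hz', map_add, fst_d (x • 𝟙 C) i j k hij hjk, hu, fst_inl, ← ha]
        simp
      have hz'eq : z' = ι (sndₗ (x • 𝟙 C) j z') := by
        have := inl_fst_add_inr_snd (x • 𝟙 C) j k hjk z'
        rw [hfst, map_zero, zero_add] at this
        exact this.symm
      have hsnd : sndₗ (x • 𝟙 C) j z' ∈ Zj := by
        rw [hZ', mem_ker_cone_iff C x j k m hjk hkm] at hz'Z
        have := hz'Z.2
        rw [hfst, smul_zero, zero_add] at this
        exact this
      have : z = z' - ((mappingCone (x • 𝟙 C)).d i j).hom u := by rw [hz']; abel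
      rw [this]
      apply Submodule.sub_mem
      · rw [hz'eq]
        exact Submodule.mem_sup_right ⟨_, hsnd, rfl⟩
      · exact Submodule.mem_sup_left ⟨u, rfl⟩
    · apply sup_le
      · apply le_inf hBZ'
        rintro _ ⟨u, rfl⟩
        rw [Submodule.mem_comap, hπ, fst_d (x • 𝟙 C) i j k hij hjk]
        exact Bk.neg_mem ⟨_, rfl⟩
      · apply le_inf hιZ
        rintro _ ⟨b, _, rfl⟩
        rw [Submodule.mem_comap, hπ, hι, fst_inr]
        exact Bk.zero_mem
  -- (d)
  have hmap : Z'.map π = Zk ⊓ Bk.comap (LinearMap.lsmul A (C.X k) x) := by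
    ext a
    constructor
    · rintro ⟨z, hz, rfl⟩
      have hz := (mem_ker_cone_iff C x j k m hjk hkm z).1 hz
      refine ⟨hz.1, ?_⟩
      show x • π z ∈ Bk
      have : x • π z = -((C.d j k).hom (sndₗ (x • 𝟙 C) j z)) := eq_neg_of_add_eq_zero_left hz.2
      rw [this]
      exact Bk.neg_mem ⟨_, rfl⟩
    · rintro ⟨ha1, ha2⟩
      have ha1 : (C.d k m).hom a = 0 := ha1
      have ha2 : x • a ∈ Bk := ha2
      obtain ⟨b, hb⟩ := ha2
      refine ⟨inlₗ (x • 𝟙 C) k j hjk a + inrₗ (x • 𝟙 C) j (-b), ?_, ?_⟩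
      · apply (mem_ker_cone_iff C x j k m hjk hkm _).2
        simp only [map_add, fst_inl, fst_inr, snd_inl, snd_inr, add_zero, zero_add, map_neg, map_zero,
          neg_zero]
        exact ⟨ha1, by rw [hb]; abel⟩
      · rw [hπ, map_add, fst_inl, fst_inr, add_zero]
  have h1 : B' ≤ B' ⊔ Zj.map ι := le_sup_left
  have h2 : B' ⊔ Zj.map ι ≤ Z' := sup_le hBZ' hιZ
  rw [rl_chain' h1 h2]
  congr 1
  · rw [sup_comm, rl_sup_left, ← rl_comap_eq_rl_map, hcomap]
    rfl
  · rw [← hinf, rl_inf_right, rl_comap_eq_rl_map, hmap]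
    rfl

end conehl

end Groth.Agent.Lib.helper26.Kos
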