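import Mathlib
import Groth.Agent.Lib.Helper26.Kos5

/-!
# Koszul Euler characteristics, part 6: finiteness and the Euler characteristic of a cone (helper26)

* `hl_ne_top`: Koszul-like complexes have homology of finite length;
* `cone_euler`: `χ(cone (x • 𝟙 C)) = ∑_p (-1)^p (ℓ(coker x | H^{-p} C) - ℓ(ker x | H^{-p} C))`;
* `koszul_cons_euler`: the same for the Koszul complex of `x :: l`.
-/

set_option autoImplicit false
set_option linter.unusedSectionVars false
universe u

open CategoryTheory CochainComplex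

namespace Groth.Agent.Lib.helper26.Kos

open Groth.Agent.Lib.helper26.HS Groth.Agent.Lib.helper7.KoszulLow

variable {A : Type u} [CommRing A] [IsNoetherianRing A]

section finite

variable {Y : Type u} [AddCommGroup Y] [Module A Y]

theorem rl_anti (P : Submodule A Y) {Q Q' : Submodule A Y} (h : Q ≤ Q') : rl P Q' ≤ rl P Q :=
  col_le_col (Submodule.comap_mono h)

theorem rl_smul_eq_hs (q : Ideal A) (Z : Submodule A Y) : rl Z (q • Z) = hs q ↥Z 1 := by
  unfold rl hs col
  rw [pow_one]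
  have hsub : (q • Z).comap Z.subtype = q • (⊤ : Submodule A ↥Z) := ?_
  · rw [hsub]
  apply le_antisymm
  · intro z hz
    rw [Submodule.mem_comap] at hz
    have h1 : (q • Z) = (q • (⊤ : Submodule A ↥Z)).map Z.subtype := by
      rw [Submodule.map_smul'', Submodule.map_top, Submodule.range_subtype]
    rw [h1] at hz
    obtain ⟨w, hw, hwz⟩ := hz
    have : w = z := Subtype.ext hwz
    rwa [← this]
  · intro z hz
    rw [Submodule.mem_comap]
    have h1 : (q • (⊤ : Submodule A ↥Z)).map Z.subtype ≤ q • Z := by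
      rw [Submodule.map_smul'', Submodule.map_top, Submodule.range_subtype]
    exact h1 ⟨z, hz, rfl⟩

variable (q : Ideal A) (M : Type u) [AddCommGroup M] [Module A M] [Module.Finite A M]

/-- Koszul-like complexes have homology of finite length when `M/qM` has finite length. -/
theorem hl_ne_top {C : CochainComplex (ModuleCat.{u} A) ℤ} {r : ℕ} (hKS : KS q M r C)
    (gens : Set A) (hq : q = Ideal.span gens) (hNH : ∀ x ∈ gens, NH x C) (hM : hs q M 1 ≠ ⊤)
    (j : ℤ) : hl C j ≠ ⊤ := by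
  have := hKS.fin j
  rw [hl_eq C (j - 1) j (j + 1) (by ring) rfl]
  set Z := LinearMap.ker (C.d j (j + 1)).hom with hZ
  set B := LinearMap.range (C.d (j - 1) j).hom with hB
  have hqZ : q • Z ≤ B := by
    rw [Submodule.smul_le]
    intro a ha z hz
    rw [hq] at ha
    have hz' : (C.d j (j + 1)).hom z = 0 := hz
    refine Submodule.span_induction (p := fun a _ => a • z ∈ B) ?_ ?_ ?_ ?_ ha
    · intro x hx
      obtain ⟨s, hs⟩ := hNH x hx
      have h1 := hs (j - 1) j (j + 1) (by ring) rfl z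
      rw [hz', map_zero, add_zero] at h1
      rw [← h1]
      exact ⟨_, rfl⟩
    · rw [zero_smul]; exact B.zero_mem
    · intro a b _ _ ha hb
      rw [add_smul]; exact B.add_mem ha hb
    · intro c a _ ha
      rw [smul_eq_mul, mul_smul]; exact B.smul_mem c ha
  refine ne_top_of_le_ne_top ?_ (rl_anti Z hqZ)
  rw [rl_smul_eq_hs]
  have hX : hs q (C.X j) 1 ≠ ⊤ := by
    rw [hKS.len]
    exact WithTop.mul_ne_top (ENat.natCast_ne_top _) hM
  exact hs_one_ne_top_of_support_subset q hX
    (Module.support_subset_of_injective Z.subtype Z.subtype_injective)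

end finite

section coneEuler

variable (C : CochainComplex (ModuleCat.{u} A) ℤ) (x : A)

/-- `ℓ(coker (x | H^j C))`. -/
noncomputable def clJ (j : ℤ) : ℕ∞ :=
  clS x (LinearMap.ker (C.d j (j + 1)).hom) (LinearMap.range (C.d (j - 1) j).hom)

/-- `ℓ(ker (x | H^j C))`. -/
noncomputable def klJ (j : ℤ) : ℕ∞ :=
  klS x (LinearMap.ker (C.d j (j + 1)).hom) (LinearMap.range (C.d (j - 1) j).hom)

theorem cone_hl' (j : ℤ) : hl (mappingCone (x • 𝟙 C)) j = clJ C x j + klJ C x (j + 1) := by
  rw [cone_hl C x (j - 1) j (j + 1) (j + 1 + 1) (by ring) rfl rfl]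
  unfold clJ klJ
  have : j + 1 - 1 = j := by ring
  rw [this]

theorem clJ_eq_zero_of_subsingleton (j : ℤ) [Subsingleton (C.X j)] : clJ C x j = 0 :=
  rl_eq_zero_of_subsingleton _ _

theorem klJ_eq_zero_of_subsingleton (j : ℤ) [Subsingleton (C.X j)] : klJ C x j = 0 :=
  rl_eq_zero_of_subsingleton _ _

/-- The Euler characteristic of the cone of `x • 𝟙 C`. -/
theorem cone_euler (r : ℕ)
    (hzero : ∀ n : ℤ, (n < -(r : ℤ) ∨ 0 < n) → Subsingleton (C.X n))
    (hfin : ∀ j : ℤ, hl (mappingCone (x • 𝟙 C)) j ≠ ⊤) :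
    ∑ p ∈ Finset.range (r + 1 + 1), (-1 : ℤ) ^ p *
        ((hl (mappingCone (x • 𝟙 C)) (-(p : ℤ))).toNat : ℤ) =
      ∑ p ∈ Finset.range (r + 1), (-1 : ℤ) ^ p *
        (((clJ C x (-(p : ℤ))).toNat : ℤ) - ((klJ C x (-(p : ℤ))).toNat : ℤ)) := by
  have hc : ∀ j : ℤ, clJ C x j ≠ ⊤ := by
    intro j h
    have := hfin j
    rw [cone_hl', h] at this
    simp at this
  have hk : ∀ j : ℤ, klJ C x j ≠ ⊤ := by
    intro j h
    have := hfin (j - 1)
    rw [cone_hl', sub_add_cancel, h] at this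
    simp at this
  have key : ∀ p : ℕ, ((hl (mappingCone (x • 𝟙 C)) (-(p : ℤ))).toNat : ℤ) =
      ((clJ C x (-(p : ℤ))).toNat : ℤ) + ((klJ C x (-(p : ℤ) + 1)).toNat : ℤ) := by
    intro p
    rw [cone_hl', ENat.toNat_add (hc _) (hk _)]
    push_cast
    rfl
  simp only [key, mul_add, Finset.sum_add_distrib]
  have h1 : ∑ p ∈ Finset.range (r + 1 + 1), (-1 : ℤ) ^ p * ((clJ C x (-(p : ℤ))).toNat : ℤ) =
      ∑ p ∈ Finset.range (r + 1), (-1 : ℤ) ^ p * ((clJ C x (-(p : ℤ))).toNat : ℤ) := by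
    rw [Finset.sum_range_succ]
    have : Subsingleton (C.X (-((r + 1 : ℕ) : ℤ))) := hzero _ (Or.inl (by push_cast; omega))
    rw [clJ_eq_zero_of_subsingleton]
    simp
  have h2 : ∑ p ∈ Finset.range (r + 1 + 1), (-1 : ℤ) ^ p * ((klJ C x (-(p : ℤ) + 1)).toNat : ℤ) =
      -∑ p ∈ Finset.range (r + 1), (-1 : ℤ) ^ p * ((klJ C x (-(p : ℤ))).toNat : ℤ) := by
    rw [Finset.sum_range_succ']
    have : Subsingleton (C.X (-((0 : ℕ) : ℤ) + 1)) := hzero _ (Or.inr (by simp))
    rw [klJ_eq_zero_of_subsingleton]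
    simp only [ENat.toNat_zero, Nat.cast_zero, mul_zero, add_zero]
    rw [← Finset.sum_neg_distrib]
    apply Finset.sum_congr rfl
    intro p _
    have : -((p + 1 : ℕ) : ℤ) + 1 = -(p : ℤ) := by push_cast; ring
    rw [this, pow_succ]
    ring
  rw [h1, h2, ← sub_eq_add_neg, ← Finset.sum_sub_distrib]
  apply Finset.sum_congr rfl
  intro p _
  ring

end coneEuler

section iso

variable {C C' : CochainComplex (ModuleCat.{u} A) ℤ}

theorem hl_of_iso (e : C ≅ C') (j : ℤ) : hl C j = hl C' j := by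
  unfold hl
  exact ((HomologicalComplex.homologyFunctor _ _ j).mapIso e).toLinearEquiv.length_eq

end iso

end Groth.Agent.Lib.helper26.Kos
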