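import Mathlib
import Groth.Agent.Lib.Helper26.Kos6

/-!
# Koszul Euler characteristics, part 7: multiplicativity in the head element (helper26)

* `koszul_cons_euler`: `χ(x :: l; M) = ∑_p (-1)^p (ℓ(coker x | H^{-p}(l; M)) - ℓ(ker x | H^{-p}(l; M)))`;
* `koszul_mul_head`: `χ(xy :: l; M) = χ(x :: l; M) + χ(y :: l; M)`.
-/

set_option autoImplicit false
set_option linter.unusedSectionVars false
universe u

open CategoryTheory CochainComplex

namespace Groth.Agent.Lib.helper26.Kos

open Groth.Agent.Lib.helper26.HS Groth.Agent.Lib.helper7.KoszulLow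

variable {A : Type u} [CommRing A] [IsNoetherianRing A]
  (M : Type u) [AddCommGroup M] [Module A M] [Module.Finite A M]

/-- The Koszul Euler characteristic (as in the statements). -/
noncomputable def chi (l : List A) : ℤ :=
  ∑ᶠ n : ℤ, ((n.negOnePow : ℤˣ) : ℤ) *
    ((Module.length A ((DRing.tensorCx (Koszul.koszul A l) (ModuleCat.of A M)).homology n)).toNat : ℤ)

theorem koszul_hl_ne_top (l : List A) (hM : hs (Ideal.span {a | a ∈ l}) M 1 ≠ ⊤) (j : ℤ) :
    hl (KM M l) j ≠ ⊤ := by
  obtain ⟨hKS, hNH⟩ := koszul_KS (Ideal.span {a | a ∈ l}) M l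
    (fun x hx => Ideal.subset_span hx)
  exact hl_ne_top _ M hKS {a | a ∈ l} rfl hNH hM j

theorem koszul_cons_euler (x : A) (l : List A)
    (hM : hs (Ideal.span {a | a ∈ x :: l}) M 1 ≠ ⊤) :
    chi M (x :: l) = ∑ p ∈ Finset.range (l.length + 1), (-1 : ℤ) ^ p *
        (((clJ (KM M l) x (-(p : ℤ))).toNat : ℤ) - ((klJ (KM M l) x (-(p : ℤ))).toNat : ℤ)) ∧
      (∀ j : ℤ, clJ (KM M l) x j ≠ ⊤) ∧ (∀ j : ℤ, klJ (KM M l) x j ≠ ⊤) := by
  obtain ⟨hKS', -⟩ := koszul_KS (Ideal.span {a | a ∈ x :: l}) M (x :: l)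
    (fun y hy => Ideal.subset_span hy)
  obtain ⟨hKS, -⟩ := koszul_KS (⊤ : Ideal A) M l (fun _ _ => Submodule.mem_top)
  have hfin : ∀ j : ℤ, hl (mappingCone (x • 𝟙 (KM M l))) j ≠ ⊤ := by
    intro j
    rw [hl_of_iso (KM_cons_iso M x l)]
    exact koszul_hl_ne_top M (x :: l) hM j
  refine ⟨?_, ?_, ?_⟩
  · unfold chi
    have h1 := finsum_eq_sum (KM M (x :: l)) (l.length + 1) (by
      have := hKS'.zero
      simpa using this)
    rw [h1, ← cone_euler (KM M l) x l.length hKS.zero hfin]
    apply Finset.sum_congr rfl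
    intro p _
    rw [hl_of_iso (KM_cons_iso M x l)]
  · intro j h
    have := hfin j
    rw [cone_hl', h] at this
    simp at this
  · intro j h
    have := hfin (j - 1)
    rw [cone_hl', sub_add_cancel, h] at this
    simp at this

theorem setOf_mem_cons (x : A) (l : List A) : {a | a ∈ x :: l} = insert x {a | a ∈ l} := by
  ext a
  simp [List.mem_cons]

/-- The finite length hypothesis for `xy :: l` follows from those for `x :: l` and `y :: l`. -/
theorem hs_mul_head_ne_top (x y : A) (l : List A)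
    (hx : hs (Ideal.span {a | a ∈ x :: l}) M 1 ≠ ⊤)
    (hy : hs (Ideal.span {a | a ∈ y :: l}) M 1 ≠ ⊤) :
    hs (Ideal.span {a | a ∈ (x * y) :: l}) M 1 ≠ ⊤ := by
  rw [hs_one_ne_top_iff] at hx hy ⊢
  intro Q hQ hle
  have hxy : x * y ∈ Q.asIdeal := hle (Ideal.subset_span (by simp))
  have hl : ∀ a ∈ l, a ∈ Q.asIdeal := fun a ha => hle (Ideal.subset_span (by simp [ha]))
  rcases Q.2.mem_or_mem hxy with h | h
  · apply hx Q hQ
    rw [Ideal.span_le]
    intro a ha
    rcases List.mem_cons.1 ha with rfl | ha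
    · exact h
    · exact hl a ha
  · apply hy Q hQ
    rw [Ideal.span_le]
    intro a ha
    rcases List.mem_cons.1 ha with rfl | ha
    · exact h
    · exact hl a ha

/-- Additivity of the Koszul Euler characteristic in the head element. -/
theorem koszul_mul_head (x y : A) (l : List A)
    (hx : hs (Ideal.span {a | a ∈ x :: l}) M 1 ≠ ⊤)
    (hy : hs (Ideal.span {a | a ∈ y :: l}) M 1 ≠ ⊤) :
    chi M ((x * y) :: l) = chi M (x :: l) + chi M (y :: l) := by
  have hxy := hs_mul_head_ne_top M x y l hx hy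
  obtain ⟨e1, c1, k1⟩ := koszul_cons_euler M x l hx
  obtain ⟨e2, c2, k2⟩ := koszul_cons_euler M y l hy
  obtain ⟨e3, c3, k3⟩ := koszul_cons_euler M (x * y) l hxy
  rw [e1, e2, e3, ← Finset.sum_add_distrib]
  apply Finset.sum_congr rfl
  intro p _
  rw [← mul_add]
  congr 1
  set j := -(p : ℤ) with hj
  have h := length_mul x y (SQ (LinearMap.ker ((KM M l).d j (j + 1)).hom)
    (LinearMap.range ((KM M l).d (j - 1) j).hom))
  rw [← klS_eq, ← klS_eq, ← klS_eq, ← clS_eq, ← clS_eq, ← clS_eq] at h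
  have h' : klJ (KM M l) x j + klJ (KM M l) y j + clJ (KM M l) (x * y) j =
      klJ (KM M l) (x * y) j + clJ (KM M l) x j + clJ (KM M l) y j := h
  have h'' := congrArg ENat.toNat h'
  rw [ENat.toNat_add (by simp [k1 j, k2 j]) (c3 j), ENat.toNat_add (k1 j) (k2 j),
    ENat.toNat_add (by simp [k3 j, c1 j]) (c2 j), ENat.toNat_add (k3 j) (c1 j)] at h''
  have h3 : ((klJ (KM M l) x j).toNat : ℤ) + (klJ (KM M l) y j).toNat +
      (clJ (KM M l) (x * y) j).toNat = (klJ (KM M l) (x * y) j).toNat + (clJ (KM M l) x j).toNat +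
        (clJ (KM M l) y j).toNat := by exact_mod_cast h''
  linarith

/-- Powers in the head element. -/
theorem koszul_pow_head (x : A) (l : List A)
    (hx : hs (Ideal.span {a | a ∈ x :: l}) M 1 ≠ ⊤) (m : ℕ) :
    chi M ((x ^ m) :: l) = m * chi M (x :: l) := by
  have hpow : ∀ m : ℕ, 0 < m → hs (Ideal.span {a | a ∈ (x ^ m) :: l}) M 1 ≠ ⊤ := by
    intro m hm
    rw [hs_one_ne_top_iff] at hx ⊢
    intro Q hQ hle
    apply hx Q hQ
    rw [Ideal.span_le]
    intro a ha
    rcases List.mem_cons.1 ha with rfl | ha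
    · exact Q.2.mem_of_pow_mem m (hle (Ideal.subset_span (by simp)))
    · exact hle (Ideal.subset_span (by simp [ha]))
  induction m with
  | zero =>
    -- `x ^ 0 = 1`: kernel and cokernel of `1` vanish
    rw [pow_zero]
    have h1 : hs (Ideal.span {a | a ∈ (1 : A) :: l}) M 1 ≠ ⊤ := by
      have : Ideal.span {a | a ∈ (1 : A) :: l} = ⊤ := by
        rw [Ideal.eq_top_iff_one]
        exact Ideal.subset_span (by simp)
      rw [this]
      unfold hs col
      rw [pow_one, Submodule.top_smul]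
      have : Subsingleton (M ⧸ (⊤ : Submodule A M)) := Submodule.Quotient.subsingleton_iff.2 rfl
      rw [Module.length_eq_zero]
      exact ENat.zero_ne_top
    have h2 := koszul_mul_head M 1 1 l h1 h1
    rw [mul_one] at h2
    have : chi M ((1 : A) :: l) = 0 := by linarith
    rw [this]
    simp
  | succ m ih =>
    rcases Nat.eq_zero_or_pos m with rfl | hm
    · simp
    · rw [pow_succ, koszul_mul_head M (x ^ m) x l (hpow m hm) hx, ih]
      push_cast
      ring

end Groth.Agent.Lib.helper26.Kos
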