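import Mathlib
import Groth.Agent.Lib.Helper26.Kos7

/-!
# Koszul Euler characteristics, part 8: permutation invariance and powers (helper26)

* `chi_congr`: `χ(l; M)` depends only on the length of `l` and the set of its elements (hence is
  invariant under permutations), when `M/(l)M` has finite length (by Serre's theorem);
* `chi_pow_list`: `χ(x₁^{m₁}, …, x_k^{m_k}; M) = m₁ ⋯ m_k · χ(x₁, …, x_k; M)`.
-/

set_option autoImplicit false
set_option linter.unusedSectionVars false
universe u

open CategoryTheory

namespace Groth.Agent.Lib.helper26.Kos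

open Groth.Agent.Lib.helper26.HS

variable {A : Type u} [CommRing A] [IsNoetherianRing A]
  (M : Type u) [AddCommGroup M] [Module A M] [Module.Finite A M]

theorem chi_congr (l l' : List A) (hlen : l.length = l'.length)
    (hset : {a | a ∈ l} = {a | a ∈ l'}) (hM : hs (Ideal.span {a | a ∈ l}) M 1 ≠ ⊤) :
    chi M l = chi M l' := by
  obtain ⟨P, hP⟩ := exists_isHSPoly (Ideal.span {a | a ∈ l}) hM
  have h1 := euler_koszul' (Ideal.span {a | a ∈ l}) M l rfl hM P hP
  have h2 := euler_koszul' (Ideal.span {a | a ∈ l}) M l' (by rw [hset]) hM P hP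
  rw [← hlen, ← h1] at h2
  unfold chi
  exact_mod_cast h2.symm

/-- Finite length passes to ideals with larger radical. -/
theorem hs_ne_top_of_le_radical {I J : Ideal A} (hI : hs I M 1 ≠ ⊤) (h : I ≤ J.radical) :
    hs J M 1 ≠ ⊤ := by
  rw [hs_one_ne_top_iff] at hI ⊢
  intro Q hQ hJQ
  apply hI Q hQ
  exact h.trans (Q.2.radical_le_iff.2 hJQ)

theorem chi_pow_list : ∀ (L : List (A × ℕ)) (pre : List A),
    hs (Ideal.span {a | a ∈ pre ++ L.map Prod.fst}) M 1 ≠ ⊤ →
    chi M (pre ++ L.map (fun p => p.1 ^ p.2)) =
      (L.map (fun p => (p.2 : ℤ))).prod * chi M (pre ++ L.map Prod.fst) := by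
  intro L
  induction L with
  | nil =>
    intro pre _
    simp
  | cons p L ih =>
    intro pre hM
    obtain ⟨a, m⟩ := p
    simp only [List.map_cons, List.prod_cons]
    -- the four lists
    set Lp := L.map (fun p => p.1 ^ p.2) with hLp
    set Lf := L.map Prod.fst with hLf
    -- finiteness for the mixed lists
    have hrad : ∀ l' : List A, (∀ g ∈ pre, g ∈ l') → (∀ g ∈ Lp, g ∈ l') → (a ^ m ∈ l' ∨ a ∈ l') →
        hs (Ideal.span {b | b ∈ l'}) M 1 ≠ ⊤ := by
      intro l' h1 h2 h3
      apply hs_ne_top_of_le_radical M hM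
      rw [Ideal.span_le]
      intro g hg
      have hg' : g ∈ pre ++ a :: Lf := hg
      rcases List.mem_append.1 hg' with hg1 | hg1
      · exact Ideal.le_radical (Ideal.subset_span (h1 g hg1))
      · rcases List.mem_cons.1 hg1 with rfl | hg2
        · rcases h3 with h3 | h3
          · exact ⟨m, Ideal.subset_span h3⟩
          · exact Ideal.le_radical (Ideal.subset_span h3)
        · rw [hLf, List.mem_map] at hg2
          obtain ⟨⟨b, t⟩, hb, rfl⟩ := hg2
          refine ⟨t, Ideal.subset_span (h2 _ ?_)⟩
          rw [hLp, List.mem_map]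
          exact ⟨(b, t), hb, rfl⟩
    have e1 : chi M (pre ++ a ^ m :: Lp) = chi M (a ^ m :: (pre ++ Lp)) := by
      apply chi_congr
      · simp; omega
      · ext g; simp; tauto
      · exact hrad _ (by simp +contextual) (by simp +contextual) (by simp)
    have e2 : chi M (a ^ m :: (pre ++ Lp)) = m * chi M (a :: (pre ++ Lp)) := by
      apply koszul_pow_head
      exact hrad _ (by simp +contextual) (by simp +contextual) (by simp)
    have e3 : chi M (a :: (pre ++ Lp)) = chi M ((pre ++ [a]) ++ Lp) := by
      apply chi_congr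
      · simp; omega
      · ext g; simp; tauto
      · exact hrad _ (by simp +contextual) (by simp +contextual) (by simp)
    have e4 := ih (pre ++ [a]) (by
      have : pre ++ [a] ++ L.map Prod.fst = pre ++ a :: Lf := by simp [hLf]
      rw [this]
      exact hM)
    have e5 : pre ++ [a] ++ L.map Prod.fst = pre ++ a :: Lf := by simp [hLf]
    rw [e1, e2, e3, e4, e5]
    ring

end Groth.Agent.Lib.helper26.Kos
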