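import Mathlib
import Groth.Agent.Lib.Helper26.Kos8
import Groth.Agent.S2423

/-!
# Koszul homology, part 9: the bridge to the module-coefficient model, cone isomorphisms (helper26)

* `coneIso e x`: an isomorphism of complexes induces an isomorphism of the cones of `x • 𝟙`;
* `bridge M l : KM M l ≅ CohIII.koszulCx (ModuleCat.of A M) l`: the termwise tensor product
  `K(l) ⊗ M` is isomorphic to the mapping-cone Koszul complex with coefficients in `M`;
* `swapIso`: `cone(a, cone(b, K)) ≅ cone(b, cone(a, K))`;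
* `permIso`: permutation invariance of `CohIII.koszulCx M l`.
-/

set_option autoImplicit false
set_option linter.unusedSectionVars false
universe u

open CategoryTheory CochainComplex HomComplex

namespace Groth.Agent.Lib.helper26.Kos

open Groth.Agent.Lib.helper26.HS Groth.Agent.Lib.helper7.KoszulLow

variable {A : Type u} [CommRing A]

theorem smul_id_f_apply' {C : CochainComplex (ModuleCat.{u} A) ℤ} (x : A) (j : ℤ) (c : C.X j) :
    ((x • 𝟙 C : C ⟶ C).f j).hom c = x • c := by
  rw [HomologicalComplex.smul_f_apply, HomologicalComplex.id_f, ModuleCat.hom_smul,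
    ModuleCat.hom_id]
  rfl

section coneIso

variable {K K' : CochainComplex (ModuleCat.{u} A) ℤ}

/-- An isomorphism of complexes induces an isomorphism between the cones of `x • 𝟙`. -/
noncomputable def coneIso (e : K ≅ K') (x : A) :
    mappingCone (x • 𝟙 K) ≅ mappingCone (x • 𝟙 K') where
  hom := mappingCone.map _ _ e.hom e.hom (by simp [Linear.smul_comp, Linear.comp_smul])
  inv := mappingCone.map _ _ e.inv e.inv (by simp [Linear.smul_comp, Linear.comp_smul])
  hom_inv_id := by
    rw [← mappingCone.map_comp]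
    simp only [Iso.hom_inv_id]
    exact mappingCone.map_id _
  inv_hom_id := by
    rw [← mappingCone.map_comp]
    simp only [Iso.inv_hom_id]
    exact mappingCone.map_id _

end coneIso

section bridge

variable (M : Type u) [AddCommGroup M] [Module A M]

/-- `K(l) ⊗ M` is the mapping-cone Koszul complex with coefficients in `M`. -/
noncomputable def bridge : ∀ l : List A, KM M l ≅ CohIII.koszulCx (ModuleCat.of A M) l
  | [] => (HomologicalComplex.singleMapHomologicalComplex
        (MonoidalCategory.tensorRight (ModuleCat.of A M)) (ComplexShape.up ℤ) 0).app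
        (ModuleCat.of A A) ≪≫
      (HomologicalComplex.single (ModuleCat.{u} A) (ComplexShape.up ℤ) 0).mapIso
        (MonoidalCategory.leftUnitor (ModuleCat.of A M))
  | x :: l => (KM_cons_iso M x l).symm ≪≫ coneIso (bridge l) x

end bridge


section swap

variable (K : CochainComplex (ModuleCat.{u} A) ℤ) (a b : A)

/-- the double cone `cone(a, cone(b, K))`. -/
noncomputable abbrev CC : CochainComplex (ModuleCat.{u} A) ℤ :=
  mappingCone (a • 𝟙 (mappingCone (b • 𝟙 K)))

/-- the four components of an element of the double cone -/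
noncomputable def c11 (n m k : ℤ) (h1 : n + 1 = m) (h2 : m + 1 = k) : (CC K a b).X n →ₗ[A] K.X k :=
  fstₗ (b • 𝟙 K) m k h2 ∘ₗ fstₗ (a • 𝟙 (mappingCone (b • 𝟙 K))) n m h1

noncomputable def c12 (n m : ℤ) (h1 : n + 1 = m) : (CC K a b).X n →ₗ[A] K.X m :=
  sndₗ (b • 𝟙 K) m ∘ₗ fstₗ (a • 𝟙 (mappingCone (b • 𝟙 K))) n m h1

noncomputable def c21 (n m : ℤ) (h1 : n + 1 = m) : (CC K a b).X n →ₗ[A] K.X m :=
  fstₗ (b • 𝟙 K) n m h1 ∘ₗ sndₗ (a • 𝟙 (mappingCone (b • 𝟙 K))) n

noncomputable def c22 (n : ℤ) : (CC K a b).X n →ₗ[A] K.X n :=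
  sndₗ (b • 𝟙 K) n ∘ₗ sndₗ (a • 𝟙 (mappingCone (b • 𝟙 K))) n

theorem CC_ext (n m k : ℤ) (h1 : n + 1 = m) (h2 : m + 1 = k) {z z' : (CC K a b).X n}
    (e11 : c11 K a b n m k h1 h2 z = c11 K a b n m k h1 h2 z')
    (e12 : c12 K a b n m h1 z = c12 K a b n m h1 z')
    (e21 : c21 K a b n m h1 z = c21 K a b n m h1 z')
    (e22 : c22 K a b n z = c22 K a b n z') : z = z' := by
  refine cone_ext _ n m h1 ?_ ?_
  · exact cone_ext _ m k h2 e11 e12
  · exact cone_ext _ n m h1 e21 e22

/-- assembling an element of the double cone from its four components -/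
noncomputable def mkCC (n m k : ℤ) (h1 : n + 1 = m) (h2 : m + 1 = k)
    (p : K.X k) (q r : K.X m) (s : K.X n) : (CC K a b).X n :=
  inlₗ (a • 𝟙 (mappingCone (b • 𝟙 K))) m n h1
      (inlₗ (b • 𝟙 K) k m h2 p + inrₗ (b • 𝟙 K) m q) +
    inrₗ (a • 𝟙 (mappingCone (b • 𝟙 K))) n
      (inlₗ (b • 𝟙 K) m n h1 r + inrₗ (b • 𝟙 K) n s)

theorem c11_mkCC (n m k : ℤ) (h1 : n + 1 = m) (h2 : m + 1 = k)
    (p : K.X k) (q r : K.X m) (s : K.X n) :
    c11 K a b n m k h1 h2 (mkCC K a b n m k h1 h2 p q r s) = p := by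
  simp [c11, mkCC, fst_inl, fst_inr]

theorem c12_mkCC (n m k : ℤ) (h1 : n + 1 = m) (h2 : m + 1 = k)
    (p : K.X k) (q r : K.X m) (s : K.X n) :
    c12 K a b n m h1 (mkCC K a b n m k h1 h2 p q r s) = q := by
  simp [c12, mkCC, fst_inl, fst_inr, snd_inl, snd_inr]

theorem c21_mkCC (n m k : ℤ) (h1 : n + 1 = m) (h2 : m + 1 = k)
    (p : K.X k) (q r : K.X m) (s : K.X n) :
    c21 K a b n m h1 (mkCC K a b n m k h1 h2 p q r s) = r := by
  simp [c21, mkCC, fst_inl, fst_inr, snd_inl, snd_inr]

theorem c22_mkCC (n m k : ℤ) (h1 : n + 1 = m) (h2 : m + 1 = k)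
    (p : K.X k) (q r : K.X m) (s : K.X n) :
    c22 K a b n (mkCC K a b n m k h1 h2 p q r s) = s := by
  simp [c22, mkCC, snd_inl, snd_inr]

/-- the differential of the double cone in components -/
theorem c11_d (i j k m : ℤ) (hij : i + 1 = j) (hjk : j + 1 = k) (hkm : k + 1 = m)
    (z : (CC K a b).X i) :
    c11 K a b j k m hjk hkm (((CC K a b).d i j).hom z) =
      (K.d k m).hom (c11 K a b i j k hij hjk z) := by
  simp only [c11, LinearMap.comp_apply]
  rw [fst_d _ i j k hij hjk, map_neg, fst_d _ j k m hjk hkm, neg_neg]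

theorem c12_d (i j k : ℤ) (hij : i + 1 = j) (hjk : j + 1 = k) (z : (CC K a b).X i) :
    c12 K a b j k hjk (((CC K a b).d i j).hom z) =
      -(b • c11 K a b i j k hij hjk z) - (K.d j k).hom (c12 K a b i j hij z) := by
  simp only [c11, c12, LinearMap.comp_apply]
  rw [fst_d _ i j k hij hjk, map_neg, snd_d _ j k hjk, smul_id_f_apply']
  abel

theorem c21_d (i j k : ℤ) (hij : i + 1 = j) (hjk : j + 1 = k) (z : (CC K a b).X i) :
    c21 K a b j k hjk (((CC K a b).d i j).hom z) =
      a • c11 K a b i j k hij hjk z - (K.d j k).hom (c21 K a b i j hij z) := by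
  simp only [c11, c21, LinearMap.comp_apply]
  rw [snd_d _ i j hij, map_add, smul_id_f_apply', map_smul, fst_d _ i j k hij hjk]
  abel

theorem c22_d (i j : ℤ) (hij : i + 1 = j) (z : (CC K a b).X i) :
    c22 K a b j (((CC K a b).d i j).hom z) =
      a • c12 K a b i j hij z + b • c21 K a b i j hij z + (K.d i j).hom (c22 K a b i z) := by
  simp only [c12, c21, c22, LinearMap.comp_apply]
  rw [snd_d _ i j hij, map_add, smul_id_f_apply', map_smul, snd_d _ i j hij, smul_id_f_apply']
  abel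

/-- the swap map `(p, q, r, s) ↦ (-p, r, q, s)` -/
noncomputable def swapMap (n m k : ℤ) (h1 : n + 1 = m) (h2 : m + 1 = k) :
    (CC K a b).X n →ₗ[A] (CC K b a).X n where
  toFun z := mkCC K b a n m k h1 h2 (-(c11 K a b n m k h1 h2 z)) (c21 K a b n m h1 z)
    (c12 K a b n m h1 z) (c22 K a b n z)
  map_add' z z' := by
    simp only [mkCC, map_add, neg_add]
    abel
  map_smul' t z := by
    simp only [mkCC, map_smul, map_add, smul_add, RingHom.id_apply, smul_neg, map_neg]

theorem c11_swapMap (n m k : ℤ) (h1 : n + 1 = m) (h2 : m + 1 = k) (z : (CC K a b).X n) :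
    c11 K b a n m k h1 h2 (swapMap K a b n m k h1 h2 z) = -(c11 K a b n m k h1 h2 z) :=
  c11_mkCC K b a n m k h1 h2 _ _ _ _

theorem c12_swapMap (n m k : ℤ) (h1 : n + 1 = m) (h2 : m + 1 = k) (z : (CC K a b).X n) :
    c12 K b a n m h1 (swapMap K a b n m k h1 h2 z) = c21 K a b n m h1 z :=
  c12_mkCC K b a n m k h1 h2 _ _ _ _

theorem c21_swapMap (n m k : ℤ) (h1 : n + 1 = m) (h2 : m + 1 = k) (z : (CC K a b).X n) :
    c21 K b a n m h1 (swapMap K a b n m k h1 h2 z) = c12 K a b n m h1 z :=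
  c21_mkCC K b a n m k h1 h2 _ _ _ _

theorem c22_swapMap (n m k : ℤ) (h1 : n + 1 = m) (h2 : m + 1 = k) (z : (CC K a b).X n) :
    c22 K b a n (swapMap K a b n m k h1 h2 z) = c22 K a b n z :=
  c22_mkCC K b a n m k h1 h2 _ _ _ _

theorem swapMap_swapMap (n m k : ℤ) (h1 : n + 1 = m) (h2 : m + 1 = k) (z : (CC K a b).X n) :
    swapMap K b a n m k h1 h2 (swapMap K a b n m k h1 h2 z) = z := by
  refine CC_ext K a b n m k h1 h2 ?_ ?_ ?_ ?_
  · rw [c11_swapMap, c11_swapMap, neg_neg]
  · rw [c12_swapMap, c21_swapMap]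
  · rw [c21_swapMap, c12_swapMap]
  · rw [c22_swapMap, c22_swapMap]

theorem swapMap_d (i j k m : ℤ) (hij : i + 1 = j) (hjk : j + 1 = k) (hkm : k + 1 = m)
    (z : (CC K a b).X i) :
    swapMap K a b j k m hjk hkm (((CC K a b).d i j).hom z) =
      ((CC K b a).d i j).hom (swapMap K a b i j k hij hjk z) := by
  refine CC_ext K b a j k m hjk hkm ?_ ?_ ?_ ?_
  · rw [c11_swapMap, c11_d K a b i j k m hij hjk hkm, c11_d K b a i j k m hij hjk hkm,
      c11_swapMap, map_neg]
  · rw [c12_swapMap, c21_d K a b i j k hij hjk, c12_d K b a i j k hij hjk, c11_swapMap,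
      c12_swapMap, smul_neg, neg_neg]
  · rw [c21_swapMap, c12_d K a b i j k hij hjk, c21_d K b a i j k hij hjk, c11_swapMap,
      c21_swapMap, smul_neg]
  · rw [c22_swapMap, c22_d K a b i j hij, c22_d K b a i j hij, c12_swapMap, c21_swapMap,
      c22_swapMap]
    abel

/-- the swap morphism of complexes -/
noncomputable def swapHom : CC K a b ⟶ CC K b a where
  f n := ModuleCat.ofHom (swapMap K a b n (n + 1) (n + 1 + 1) rfl rfl)
  comm' i j hij := by
    have hij' : i + 1 = j := hij
    subst hij'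
    ext z
    exact (swapMap_d K a b i (i + 1) (i + 1 + 1) (i + 1 + 1 + 1) rfl rfl rfl z).symm

/-- `cone(a, cone(b, K)) ≅ cone(b, cone(a, K))`. -/
noncomputable def swapIso : CC K a b ≅ CC K b a where
  hom := swapHom K a b
  inv := swapHom K b a
  hom_inv_id := by
    refine HomologicalComplex.hom_ext _ _ (fun n => ?_)
    ext z
    exact swapMap_swapMap K a b n (n + 1) (n + 1 + 1) rfl rfl z
  inv_hom_id := by
    refine HomologicalComplex.hom_ext _ _ (fun n => ?_)
    ext z
    exact swapMap_swapMap K b a n (n + 1) (n + 1 + 1) rfl rfl z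

end swap


section perm

/-- Permutation invariance of the Koszul complex with coefficients. -/
theorem nonempty_iso_of_perm (M : ModuleCat.{u} A) {l l' : List A} (h : l.Perm l') :
    Nonempty (CohIII.koszulCx M l ≅ CohIII.koszulCx M l') := by
  induction h with
  | nil => exact ⟨Iso.refl _⟩
  | cons x _ ih =>
    obtain ⟨e⟩ := ih
    exact ⟨coneIso e x⟩
  | swap x y l => exact ⟨swapIso (CohIII.koszulCx M l) y x⟩
  | trans _ _ ih1 ih2 =>
    obtain ⟨e1⟩ := ih1
    obtain ⟨e2⟩ := ih2
    exact ⟨e1 ≪≫ e2⟩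

end perm

section functoriality

open Groth.Agent.S2423

theorem koszulMap_id (M : ModuleCat.{u} A) : ∀ fs : List A,
    koszulMap (𝟙 M) fs = 𝟙 (CohIII.koszulCx M fs)
  | [] => CategoryTheory.Functor.map_id _ _
  | f :: fs => by
    change mappingCone.map _ _ (koszulMap (𝟙 M) fs) (koszulMap (𝟙 M) fs) _ = 𝟙 _
    simp only [koszulMap_id M fs]
    exact mappingCone.map_id _

theorem koszulMap_comp {M N P : ModuleCat.{u} A} (φ : M ⟶ N) (ψ : N ⟶ P) : ∀ fs : List A,
    koszulMap (φ ≫ ψ) fs = koszulMap φ fs ≫ koszulMap ψ fs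
  | [] => CategoryTheory.Functor.map_comp _ _ _
  | f :: fs => by
    change mappingCone.map _ _ (koszulMap (φ ≫ ψ) fs) (koszulMap (φ ≫ ψ) fs) _ =
      mappingCone.map _ _ (koszulMap φ fs) (koszulMap φ fs) _ ≫
        mappingCone.map _ _ (koszulMap ψ fs) (koszulMap ψ fs) _
    rw [← mappingCone.map_comp]
    simp only [koszulMap_comp φ ψ fs]

/-- Isomorphic coefficient modules give isomorphic Koszul complexes. -/
noncomputable def koszulIso {M N : ModuleCat.{u} A} (e : M ≅ N) (fs : List A) :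
    CohIII.koszulCx M fs ≅ CohIII.koszulCx N fs where
  hom := koszulMap e.hom fs
  inv := koszulMap e.inv fs
  hom_inv_id := by rw [← koszulMap_comp, e.hom_inv_id, koszulMap_id]
  inv_hom_id := by rw [← koszulMap_comp, e.inv_hom_id, koszulMap_id]

end functoriality

end Groth.Agent.Lib.helper26.Kos
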