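import Mathlib
import Groth.Agent.Lib.Helper26.Kos9

/-!
# Koszul homology, part 10: lengths of Koszul homology with coefficients (helper26)

`kh M l n = ℓ(H^n(K(l; M)))` for the mapping-cone Koszul complex with coefficients
`CohIII.koszulCx (ModuleCat.of A M) l`.

* `hl_KM_eq_kh`: agrees with the lengths for `K(l) ⊗ M`;
* `kh_perm`: permutation invariance;
* `kh_of_equiv`: invariance under isomorphisms of the module;
* `kh_le_add`: subadditivity along short exact sequences of modules;
* `kh_cons_of_regular`: `kh M (x :: l) n = kh (M/xM) l n` for `M`-regular `x`;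
* `kh_cons_le`: `kh M (x :: l) n ≤ kh M l n + kh M l (n+1)`.
-/

set_option autoImplicit false
set_option linter.unusedSectionVars false
universe u

open CategoryTheory CochainComplex HomComplex

namespace Groth.Agent.Lib.helper26.Kos

open Groth.Agent.Lib.helper26.HS Groth.Agent.Lib.helper7.KoszulLow
open Groth.Agent.S2423 (DegSE degSE_cone koszulMap shortExact_of_degSE quotMap degSE_koszul)

variable {A : Type u} [CommRing A]

section general

theorem length_le_add_of_exact {X Y Z : Type u} [AddCommGroup X] [Module A X] [AddCommGroup Y]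
    [Module A Y] [AddCommGroup Z] [Module A Z] (f : X →ₗ[A] Y) (g : Y →ₗ[A] Z)
    (h : Function.Exact f g) :
    Module.length A Y ≤ Module.length A X + Module.length A Z := by
  have h1 := Module.length_eq_add_of_exact (LinearMap.ker g).subtype g.rangeRestrict
    (Submodule.injective_subtype _) (LinearMap.surjective_rangeRestrict g) (by
      intro y
      constructor
      · intro hy
        have hy' : g y = 0 := by
          have := congrArg Subtype.val hy
          simpa using this
        exact ⟨⟨y, hy'⟩, rfl⟩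
      · rintro ⟨⟨y', hy'⟩, rfl⟩
        apply Subtype.ext
        simpa using hy')
  rw [h1]
  have h2 : Module.length A (LinearMap.ker g) ≤ Module.length A X := by
    have hr : LinearMap.ker g = LinearMap.range f := (LinearMap.exact_iff.1 h)
    rw [hr]
    exact Module.length_le_of_surjective f.rangeRestrict (LinearMap.surjective_rangeRestrict f)
  have h3 : Module.length A (LinearMap.range g) ≤ Module.length A Z :=
    Module.length_le_of_injective (LinearMap.range g).subtype (Submodule.injective_subtype _)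
  exact add_le_add h2 h3

end general

section kh

variable (M : Type u) [AddCommGroup M] [Module A M]

/-- The length of the Koszul homology `H^n(K(l; M))`. -/
noncomputable def kh (l : List A) (n : ℤ) : ℕ∞ :=
  Module.length A ((CohIII.koszulCx (ModuleCat.of A M) l).homology n)

theorem kh_eq_hl (l : List A) (n : ℤ) :
    kh M l n = hl (CohIII.koszulCx (ModuleCat.of A M) l) n := rfl

theorem hl_KM_eq_kh (l : List A) (n : ℤ) : hl (KM M l) n = kh M l n :=
  ((HomologicalComplex.homologyFunctor _ _ n).mapIso (bridge M l)).toLinearEquiv.length_eq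

theorem kh_perm {l l' : List A} (h : l.Perm l') (n : ℤ) : kh M l n = kh M l' n := by
  obtain ⟨e⟩ := nonempty_iso_of_perm (ModuleCat.of A M) h
  exact ((HomologicalComplex.homologyFunctor _ _ n).mapIso e).toLinearEquiv.length_eq

variable {M} in
theorem kh_of_equiv {N : Type u} [AddCommGroup N] [Module A N] (e : M ≃ₗ[A] N) (l : List A)
    (n : ℤ) : kh M l n = kh N l n :=
  ((HomologicalComplex.homologyFunctor _ _ n).mapIso
    (koszulIso e.toModuleIso l)).toLinearEquiv.length_eq

end kh


section ses

variable {M₁ M₂ M₃ : ModuleCat.{u} A} (φ : M₁ ⟶ M₂) (ψ : M₂ ⟶ M₃)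

theorem degSE_single' (hφ : Function.Injective φ) (hψ : Function.Surjective ψ)
    (hex : ∀ y : M₂, ψ y = 0 ↔ ∃ x : M₁, φ x = y) :
    DegSE ((HomologicalComplex.single (ModuleCat.{u} A) (ComplexShape.up ℤ) 0).map φ)
      ((HomologicalComplex.single (ModuleCat.{u} A) (ComplexShape.up ℤ) 0).map ψ) := by
  intro n
  by_cases hn : n = 0
  · subst hn
    let e₁ := HomologicalComplex.singleObjXSelf (ComplexShape.up ℤ) 0 M₁
    let e₂ := HomologicalComplex.singleObjXSelf (ComplexShape.up ℤ) 0 M₂
    let e₃ := HomologicalComplex.singleObjXSelf (ComplexShape.up ℤ) 0 M₃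
    have hmapφ : ∀ x, ((HomologicalComplex.single (ModuleCat.{u} A) (ComplexShape.up ℤ) 0).map
        φ).f 0 x = e₂.inv (φ (e₁.hom x)) := by
      intro x
      rw [HomologicalComplex.single_map_f_self]
      rfl
    have hmapψ : ∀ x, ((HomologicalComplex.single (ModuleCat.{u} A) (ComplexShape.up ℤ) 0).map
        ψ).f 0 x = e₃.inv (ψ (e₂.hom x)) := by
      intro x
      rw [HomologicalComplex.single_map_f_self]
      rfl
    have he₁ : ∀ x, e₁.inv (e₁.hom x) = x := fun x => by simp
    have he₁' : ∀ x, e₁.hom (e₁.inv x) = x := fun x => by simp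
    have he₂ : ∀ x, e₂.hom (e₂.inv x) = x := fun x => by simp
    have he₂' : ∀ x, e₂.inv (e₂.hom x) = x := fun x => by simp
    have he₃ : ∀ x, e₃.hom (e₃.inv x) = x := fun x => by simp
    have he₃' : ∀ x, e₃.inv (e₃.hom x) = x := fun x => by simp
    refine ⟨?_, ?_, ?_⟩
    · intro x y hxy
      rw [hmapφ, hmapφ] at hxy
      have h1 : φ (e₁.hom x) = φ (e₁.hom y) := by
        rw [← he₂ (φ (e₁.hom x)), hxy, he₂]
      have h2 := hφ h1
      rw [← he₁ x, h2, he₁]
    · intro z
      obtain ⟨m, hm⟩ := hψ (e₃.hom z)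
      refine ⟨e₂.inv m, ?_⟩
      rw [hmapψ, he₂, hm, he₃']
    · intro x
      rw [hmapψ]
      constructor
      · intro hx
        have h5 : ψ (e₂.hom x) = 0 := by
          rw [← he₃ (ψ (e₂.hom x)), hx, map_zero]
        obtain ⟨y, hy⟩ := (hex _).1 h5
        refine ⟨e₁.inv y, ?_⟩
        rw [hmapφ, he₁', hy, he₂']
      · rintro ⟨y, rfl⟩
        rw [hmapφ, he₂, (hex _).2 ⟨_, rfl⟩, map_zero]
  · have hz : ∀ N : ModuleCat.{u} A, Subsingleton
        (((HomologicalComplex.single (ModuleCat.{u} A) (ComplexShape.up ℤ) 0).obj N).X n) :=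
      fun N => ModuleCat.subsingleton_of_isZero
        (HomologicalComplex.isZero_single_obj_X (ComplexShape.up ℤ) 0 _ n hn)
    have hz₁ := hz M₁
    have hz₂ := hz M₂
    have hz₃ := hz M₃
    refine ⟨fun x y _ => Subsingleton.elim _ _, fun z => ⟨0, Subsingleton.elim _ _⟩, fun x => ?_⟩
    exact ⟨fun _ => ⟨0, Subsingleton.elim _ _⟩, fun _ => Subsingleton.elim _ _⟩

theorem degSE_koszulMap (hφ : Function.Injective φ) (hψ : Function.Surjective ψ)
    (hex : ∀ y : M₂, ψ y = 0 ↔ ∃ x : M₁, φ x = y) : ∀ fs : List A,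
    DegSE (koszulMap φ fs) (koszulMap ψ fs)
  | [] => degSE_single' φ ψ hφ hψ hex
  | g :: fs => by
    have ih := degSE_koszulMap hφ hψ hex fs
    exact degSE_cone (g • 𝟙 (CohIII.koszulCx M₁ fs)) (g • 𝟙 (CohIII.koszulCx M₂ fs))
      (g • 𝟙 (CohIII.koszulCx M₃ fs)) (koszulMap φ fs) (koszulMap φ fs) (koszulMap ψ fs)
      (koszulMap ψ fs) (by simp [Linear.smul_comp, Linear.comp_smul])
      (by simp [Linear.smul_comp, Linear.comp_smul]) ih ih

end ses

section kh_ses

variable {N₁ N₂ N₃ : Type u} [AddCommGroup N₁] [Module A N₁] [AddCommGroup N₂] [Module A N₂]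
  [AddCommGroup N₃] [Module A N₃]

/-- Subadditivity of the lengths of Koszul homology along short exact sequences. -/
theorem kh_le_add (f : N₁ →ₗ[A] N₂) (g : N₂ →ₗ[A] N₃) (hf : Function.Injective f)
    (hg : Function.Surjective g) (hex : Function.Exact f g) (l : List A) (n : ℤ) :
    kh N₂ l n ≤ kh N₁ l n + kh N₃ l n := by
  have hd := degSE_koszulMap (ModuleCat.ofHom f) (ModuleCat.ofHom g) hf hg
    (fun y => by
      constructor
      · intro hy
        exact (hex y).1 hy
      · intro hy
        exact (hex y).2 hy) l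
  obtain ⟨w, hS⟩ := shortExact_of_degSE _ _ hd
  have hex2 := hS.homology_exact₂ n
  have hex3 := hex2.moduleCat_range_eq_ker
  exact length_le_add_of_exact _ _ (LinearMap.exact_iff.2 hex3.symm)

end kh_ses


section regular

variable (M : Type u) [AddCommGroup M] [Module A M]

/-- Regular head reduction: `H^n(K(x :: l; M)) ≅ H^n(K(l; M/xM))` for `M`-regular `x`. -/
theorem kh_cons_of_regular (x : A) (hx : IsSMulRegular M x) (l : List A) (n : ℤ) :
    kh M (x :: l) n = kh (QuotSMulTop x M) l n := by
  obtain ⟨w, hS⟩ := shortExact_of_degSE _ _ (degSE_koszul M x hx l)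
  have hq := mappingCone.quasiIso_descShortComplex hS
  have hiso : IsIso (HomologicalComplex.homologyMap
      (mappingCone.descShortComplex (ShortComplex.mk _ _ w)) n) :=
    (quasiIsoAt_iff_isIso_homologyMap _ n).1 (hq.quasiIsoAt n)
  exact (@asIso _ _ _ _ _ hiso).toLinearEquiv.length_eq

end regular

section bounds

variable [IsNoetherianRing A]

theorem clJ_le_hl (C : CochainComplex (ModuleCat.{u} A) ℤ) (x : A) (j : ℤ) :
    clJ C x j ≤ hl C j := by
  rw [hl_eq C (j - 1) j (j + 1) (by ring) rfl]
  unfold clJ clS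
  exact rl_anti _ le_sup_right

theorem klJ_le_hl (C : CochainComplex (ModuleCat.{u} A) ℤ) (x : A) (j : ℤ) :
    klJ C x j ≤ hl C j := by
  rw [hl_eq C (j - 1) j (j + 1) (by ring) rfl]
  unfold klJ klS
  have hBZ : LinearMap.range (C.d (j - 1) j).hom ≤ LinearMap.ker (C.d j (j + 1)).hom := by
    rintro _ ⟨c, rfl⟩
    rw [LinearMap.mem_ker]
    exact d_comp_d_apply C _ _ _ c
  have h1 : LinearMap.range (C.d (j - 1) j).hom ≤ LinearMap.ker (C.d j (j + 1)).hom ⊓
      (LinearMap.range (C.d (j - 1) j).hom).comap (LinearMap.lsmul A (C.X j) x) := by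
    refine le_inf hBZ ?_
    intro b hb
    rw [Submodule.mem_comap]
    exact Submodule.smul_mem _ x hb
  rw [rl_chain' h1 inf_le_left]
  exact le_self_add

variable (M : Type u) [AddCommGroup M] [Module A M]

theorem kh_cons_le (x : A) (l : List A) (n : ℤ) :
    kh M (x :: l) n ≤ kh M l n + kh M l (n + 1) := by
  rw [kh_eq_hl, kh_eq_hl, kh_eq_hl]
  change hl (mappingCone (x • 𝟙 (CohIII.koszulCx (ModuleCat.of A M) l))) n ≤ _
  rw [cone_hl']
  exact add_le_add (clJ_le_hl _ x n) (klJ_le_hl _ x (n + 1))

theorem kh_nil_le (n : ℤ) : kh M ([] : List A) n ≤ Module.length A M := by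
  unfold kh
  by_cases hn : n = 0
  · subst hn
    exact le_of_eq (HomologicalComplex.singleObjHomologySelfIso (ComplexShape.up ℤ) 0
      (ModuleCat.of A M)).toLinearEquiv.length_eq
  · have hz : Limits.IsZero ((CohIII.koszulCx (ModuleCat.of A M) ([] : List A)).homology n) :=
      HomologicalComplex.isZero_single_obj_homology (ComplexShape.up ℤ) 0 _ n hn
    have := ModuleCat.subsingleton_of_isZero hz
    rw [Module.length_eq_zero]
    exact bot_le

/-- For a module of finite length, Koszul homology is bounded independently of the sequence. -/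
theorem kh_le_two_pow (l : List A) (n : ℤ) :
    kh M l n ≤ ((2 ^ l.length : ℕ) : ℕ∞) * Module.length A M := by
  induction l generalizing n with
  | nil => simpa using kh_nil_le M n
  | cons x l ih =>
    refine (kh_cons_le M x l n).trans ?_
    refine (add_le_add (ih n) (ih (n + 1))).trans ?_
    rw [List.length_cons, pow_succ]
    push_cast
    rw [mul_two, add_mul]

end bounds

end Groth.Agent.Lib.helper26.Kos
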