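import Mathlib
import Groth.Agent.Lib.Helper26.Kos10

/-!
# Koszul homology, part 11: growth of the Koszul homology of powers (helper26)

* `kh_quot_pow_le`: `kh (M/xⁿM) l j ≤ n · kh (M/xM) l j` for `M`-regular `x`;
* `kh_middle_pow_le`: for `N`-regular `a`,
  `kh N ((l₁ ++ a :: l₂)ⁿ) j ≤ n · kh (N/aN) ((l₁ ++ l₂)ⁿ) j`;
* `kh_pow_bound`: `ℓ(H_i(x₁ⁿ, …, x_kⁿ; N)) ≤ c n^{k-i}`;
* `kh_pow_bound_dim`: `ℓ(H^j(x₁ⁿ, …, x_kⁿ; N)) ≤ c n^{dim N}`.
-/

set_option autoImplicit false
set_option linter.unusedSectionVars false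
universe u

open CategoryTheory CochainComplex HomComplex Pointwise

namespace Groth.Agent.Lib.helper26.Kos

open Groth.Agent.Lib.helper26.HS Groth.Agent.Lib.helper7.KoszulLow

variable {A : Type u} [CommRing A] [IsNoetherianRing A]

section filtration

variable (M : Type u) [AddCommGroup M] [Module A M]

theorem kh_of_subsingleton [Subsingleton M] (l : List A) (n : ℤ) : kh M l n = 0 := by
  have h := kh_le_two_pow M l n
  rw [Module.length_eq_zero, mul_zero] at h
  exact le_antisymm h bot_le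

theorem kh_quot_pow_le (x : A) (hx : IsSMulRegular M x) (l : List A) (j : ℤ) (n : ℕ) :
    kh (QuotSMulTop (x ^ n) M) l j ≤ (n : ℕ∞) * kh (QuotSMulTop x M) l j := by
  induction n with
  | zero =>
    have : Subsingleton (QuotSMulTop (x ^ 0) M) := by
      rw [pow_zero]
      exact Submodule.Quotient.subsingleton_iff.2 (one_smul _ _)
    rw [kh_of_subsingleton]
    exact bot_le
  | succ n ih =>
    have h1 : (x ^ n • (⊤ : Submodule A M)) ≤
        (x ^ (n + 1) • (⊤ : Submodule A M)).comap (LinearMap.lsmul A M x) := by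
      intro m hm
      obtain ⟨m', -, rfl⟩ := (Submodule.mem_smul_pointwise_iff_exists _ _ _).1 hm
      rw [Submodule.mem_comap]
      refine (Submodule.mem_smul_pointwise_iff_exists _ _ _).2 ⟨m', Submodule.mem_top, ?_⟩
      rw [LinearMap.lsmul_apply, smul_smul, pow_succ']
    have h2 : (x ^ (n + 1) • (⊤ : Submodule A M)) ≤
        (x • (⊤ : Submodule A M)).comap (LinearMap.id) := by
      intro m hm
      obtain ⟨m', -, rfl⟩ := (Submodule.mem_smul_pointwise_iff_exists _ _ _).1 hm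
      rw [Submodule.mem_comap]
      refine (Submodule.mem_smul_pointwise_iff_exists _ _ _).2 ⟨x ^ n • m', Submodule.mem_top, ?_⟩
      rw [LinearMap.id_apply, smul_smul, pow_succ']
    let f : QuotSMulTop (x ^ n) M →ₗ[A] QuotSMulTop (x ^ (n + 1)) M :=
      Submodule.mapQ _ _ (LinearMap.lsmul A M x) h1
    let g : QuotSMulTop (x ^ (n + 1)) M →ₗ[A] QuotSMulTop x M :=
      Submodule.mapQ _ _ LinearMap.id h2
    have hf : Function.Injective f := by
      rw [injective_iff_map_eq_zero]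
      intro y hy
      obtain ⟨m, rfl⟩ := Submodule.mkQ_surjective _ y
      have hy' : Submodule.Quotient.mk (p := x ^ (n + 1) • (⊤ : Submodule A M)) (x • m) = 0 := hy
      rw [Submodule.Quotient.mk_eq_zero] at hy'
      obtain ⟨m', -, hm'⟩ := (Submodule.mem_smul_pointwise_iff_exists _ _ _).1 hy'
      have : x • (x ^ n • m') = x • m := by rw [smul_smul, ← pow_succ', hm']
      have h3 := hx this
      show Submodule.Quotient.mk (p := x ^ n • (⊤ : Submodule A M)) m = 0
      rw [Submodule.Quotient.mk_eq_zero, ← h3]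
      exact Submodule.smul_mem_pointwise_smul _ _ _ Submodule.mem_top
    have hg : Function.Surjective g := by
      intro y
      obtain ⟨m, rfl⟩ := Submodule.mkQ_surjective _ y
      exact ⟨Submodule.Quotient.mk m, rfl⟩
    have hex : Function.Exact f g := by
      intro y
      obtain ⟨m, rfl⟩ := Submodule.mkQ_surjective _ y
      constructor
      · intro hy
        have hy' : Submodule.Quotient.mk (p := x • (⊤ : Submodule A M)) m = 0 := hy
        rw [Submodule.Quotient.mk_eq_zero] at hy'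
        obtain ⟨m', -, rfl⟩ := (Submodule.mem_smul_pointwise_iff_exists _ _ _).1 hy'
        exact ⟨Submodule.Quotient.mk m', rfl⟩
      · rintro ⟨y', hy'⟩
        obtain ⟨m', rfl⟩ := Submodule.mkQ_surjective _ y'
        rw [← hy']
        show Submodule.Quotient.mk (p := x • (⊤ : Submodule A M)) (x • m') = 0
        rw [Submodule.Quotient.mk_eq_zero]
        exact Submodule.smul_mem_pointwise_smul _ _ _ Submodule.mem_top
    refine (kh_le_add f g hf hg hex l j).trans ?_
    push_cast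
    rw [add_mul, one_mul]
    exact add_le_add ih le_rfl

theorem kh_middle_pow_le (a : A) (ha : IsSMulRegular M a) (l₁ l₂ : List A) (j : ℤ) (n : ℕ) :
    kh M ((l₁ ++ a :: l₂).map (· ^ n)) j ≤
      (n : ℕ∞) * kh (QuotSMulTop a M) ((l₁ ++ l₂).map (· ^ n)) j := by
  have hp : ((l₁ ++ a :: l₂).map (· ^ n)).Perm (a ^ n :: (l₁ ++ l₂).map (· ^ n)) := by
    simp
  rw [kh_perm M hp, kh_cons_of_regular M (a ^ n) (ha.pow n)]
  exact kh_quot_pow_le M a ha _ j n

end filtration


section vanish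

variable (M : Type u) [AddCommGroup M] [Module A M] [Module.Finite A M]

theorem kh_eq_zero_of_lt (l : List A) (n : ℤ) (hn : n < -(l.length : ℤ)) : kh M l n = 0 := by
  obtain ⟨hKS, -⟩ := koszul_KS (⊤ : Ideal A) M l (fun _ _ => Submodule.mem_top)
  have := hKS.zero n (Or.inl hn)
  rw [← hl_KM_eq_kh]
  exact hl_eq_zero_of_subsingleton _ n

theorem kh_eq_zero_of_pos (l : List A) (n : ℤ) (hn : 0 < n) : kh M l n = 0 := by
  obtain ⟨hKS, -⟩ := koszul_KS (⊤ : Ideal A) M l (fun _ _ => Submodule.mem_top)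
  have := hKS.zero n (Or.inr hn)
  rw [← hl_KM_eq_kh]
  exact hl_eq_zero_of_subsingleton _ n

end vanish

section main

/-- `M/(l)M` of finite length passes to `M/aM` and the list with `a` removed. -/
theorem hs_quotSMulTop_middle (N : Type u) [AddCommGroup N] [Module A N] [Module.Finite A N]
    (a : A) (l₁ l₂ : List A) (h : hs (Ideal.span {b | b ∈ l₁ ++ a :: l₂}) N 1 ≠ ⊤) :
    hs (Ideal.span {b | b ∈ l₁ ++ l₂}) (QuotSMulTop a N) 1 ≠ ⊤ := by
  rw [hs_one_ne_top_iff] at h ⊢
  intro Q hQ hle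
  rw [Module.support_quotSMulTop] at hQ
  obtain ⟨hQ1, hQ2⟩ := hQ
  apply h Q hQ1
  rw [Ideal.span_le]
  intro b hb
  have hb' : b ∈ l₁ ++ a :: l₂ := hb
  rw [List.mem_append, List.mem_cons] at hb'
  have haQ : a ∈ Q.asIdeal := by
    rw [PrimeSpectrum.mem_zeroLocus] at hQ2
    exact hQ2 (Set.mem_singleton a)
  rcases hb' with hb' | rfl | hb'
  · exact hle (Ideal.subset_span (show b ∈ l₁ ++ l₂ from List.mem_append.2 (Or.inl hb')))
  · exact haQ
  · exact hle (Ideal.subset_span (show b ∈ l₁ ++ l₂ from List.mem_append.2 (Or.inr hb')))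

/-- If `(A/p)/(l)` has finite length but `A/p` does not, some element of `l` is not in `p`. -/
theorem exists_mem_notMem_of_length_eq_top (p : PrimeSpectrum A) (l : List A)
    (h : hs (Ideal.span {b | b ∈ l}) (A ⧸ p.asIdeal) 1 ≠ ⊤)
    (htop : Module.length A (A ⧸ p.asIdeal) = ⊤) : ∃ a ∈ l, a ∉ p.asIdeal := by
  by_contra hcon
  push Not at hcon
  apply h
  have hle : Ideal.span {b | b ∈ l} ≤ p.asIdeal := by
    rw [Ideal.span_le]
    exact fun b hb => hcon b hb
  have hbot : (Ideal.span {b | b ∈ l}) ^ 1 • (⊤ : Submodule A (A ⧸ p.asIdeal)) = ⊥ := by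
    rw [pow_one, eq_bot_iff]
    refine Submodule.smul_le.2 (fun r hr n _ => ?_)
    rw [Submodule.mem_bot]
    obtain ⟨n', rfl⟩ := Ideal.Quotient.mk_surjective n
    rw [Algebra.smul_def, Ideal.Quotient.algebraMap_eq, ← map_mul,
      Ideal.Quotient.eq_zero_iff_mem]
    exact Ideal.mul_mem_right _ _ (hle hr)
  unfold hs col
  rw [hbot, ← htop]
  exact (Submodule.quotEquivOfEqBot _ rfl).length_eq

theorem kh_pow_bound (k : ℕ) : ∀ (l : List A) (_ : l.length = k)
    (N : Type u) [AddCommGroup N] [Module A N] [Module.Finite A N]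
    (_ : hs (Ideal.span {b | b ∈ l}) N 1 ≠ ⊤) (i : ℕ) (_ : i ≤ k),
    ∃ c : ℕ, ∀ n : ℕ, 0 < n →
      kh N (l.map (· ^ n)) (-(i : ℤ)) ≤ ((c * n ^ (k - i) : ℕ) : ℕ∞) := by
  induction k using Nat.strong_induction_on with
  | _ k IH =>
  intro l hlen N _ _ hNfin hN i hi
  revert hN
  refine IsNoetherianRing.induction_on_isQuotientEquivQuotientPrime A hNfin
    (motive := fun N _ _ _ => hs (Ideal.span {b | b ∈ l}) N 1 ≠ ⊤ → ∃ c : ℕ, ∀ n : ℕ, 0 < n →
      kh N (l.map (· ^ n)) (-(i : ℤ)) ≤ ((c * n ^ (k - i) : ℕ) : ℕ∞)) ?_ ?_ ?_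
  · intro N _ _ _ _ _
    refine ⟨0, fun n _ => ?_⟩
    rw [kh_of_subsingleton]
    exact bot_le
  · intro N _ _ _ p e hN
    have hN' : hs (Ideal.span {b | b ∈ l}) (A ⧸ p.asIdeal) 1 ≠ ⊤ := by
      rwa [← hs_of_equiv _ e]
    suffices h : ∃ c : ℕ, ∀ n : ℕ, 0 < n →
        kh (A ⧸ p.asIdeal) (l.map (· ^ n)) (-(i : ℤ)) ≤ ((c * n ^ (k - i) : ℕ) : ℕ∞) by
      obtain ⟨c, hc⟩ := h
      exact ⟨c, fun n hn => by rw [kh_of_equiv e]; exact hc n hn⟩
    by_cases hfl : Module.length A (A ⧸ p.asIdeal) = ⊤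
    · -- Case B
      obtain ⟨a, hal, hap⟩ := exists_mem_notMem_of_length_eq_top p l hN' hfl
      obtain ⟨l₁, l₂, rfl⟩ := List.append_of_mem hal
      have hreg : IsSMulRegular (A ⧸ p.asIdeal) a := isSMulRegular_quotient_of_notMem hap
      have hk : (l₁ ++ l₂).length + 1 = k := by
        rw [← hlen]
        simp only [List.length_append, List.length_cons]
        omega
      have hN'' := hs_quotSMulTop_middle (A ⧸ p.asIdeal) a l₁ l₂ hN'
      by_cases hik : i ≤ (l₁ ++ l₂).length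
      · obtain ⟨c, hc⟩ := IH (l₁ ++ l₂).length (by omega) (l₁ ++ l₂) rfl
          (QuotSMulTop a (A ⧸ p.asIdeal)) hN'' i hik
        refine ⟨c, fun n hn => ?_⟩
        refine (kh_middle_pow_le _ a hreg l₁ l₂ _ n).trans ?_
        refine (mul_le_mul_right (hc n hn) _).trans ?_
        have : k - i = ((l₁ ++ l₂).length - i) + 1 := by omega
        rw [this, pow_succ]
        push_cast
        rw [mul_comm (n : ℕ∞), mul_assoc]
      · refine ⟨0, fun n hn => ?_⟩
        refine (kh_middle_pow_le _ a hreg l₁ l₂ _ n).trans ?_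
        rw [kh_eq_zero_of_lt]
        · simp
        · rw [List.length_map]
          omega
    · -- Case A
      set L := (Module.length A (A ⧸ p.asIdeal)).toNat with hL
      have hLc : (L : ℕ∞) = Module.length A (A ⧸ p.asIdeal) := ENat.natCast_toNat hfl
      refine ⟨2 ^ k * L, fun n hn => ?_⟩
      refine (kh_le_two_pow _ _ _).trans ?_
      rw [List.length_map, hlen, ← hLc]
      have h1 : 1 ≤ n ^ (k - i) := Nat.one_le_pow _ _ hn
      have h2 : 2 ^ k * L ≤ 2 ^ k * L * n ^ (k - i) := Nat.le_mul_of_pos_right _ h1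
      exact_mod_cast h2
  · intro N₁ _ _ _ N₂ _ _ _ N₃ _ _ _ f g hf hg hex ih₁ ih₃ hN₂
    have hN₁ : hs (Ideal.span {b | b ∈ l}) N₁ 1 ≠ ⊤ :=
      hs_one_ne_top_of_support_subset _ hN₂ (Module.support_subset_of_injective f hf)
    have hN₃ : hs (Ideal.span {b | b ∈ l}) N₃ 1 ≠ ⊤ :=
      hs_one_ne_top_of_support_subset _ hN₂ (Module.support_subset_of_surjective g hg)
    obtain ⟨c₁, hc₁⟩ := ih₁ hN₁
    obtain ⟨c₃, hc₃⟩ := ih₃ hN₃
    refine ⟨c₁ + c₃, fun n hn => ?_⟩
    refine (kh_le_add f g hf hg hex _ _).trans ?_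
    refine (add_le_add (hc₁ n hn) (hc₃ n hn)).trans ?_
    rw [add_mul]
    exact le_rfl


theorem kh_pow_bound_dim (d : ℕ) : ∀ (l : List A)
    (N : Type u) [AddCommGroup N] [Module A N] [Module.Finite A N]
    (_ : Module.supportDim A N ≤ d)
    (_ : hs (Ideal.span {b | b ∈ l}) N 1 ≠ ⊤) (j : ℤ),
    ∃ c : ℕ, ∀ n : ℕ, 0 < n →
      kh N (l.map (· ^ n)) j ≤ ((c * n ^ d : ℕ) : ℕ∞) := by
  induction d using Nat.strong_induction_on with
  | _ d IH =>
  intro l N _ _ hNfin hdim hN j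
  revert hN hdim
  refine IsNoetherianRing.induction_on_isQuotientEquivQuotientPrime A hNfin
    (motive := fun N _ _ _ => Module.supportDim A N ≤ d →
      hs (Ideal.span {b | b ∈ l}) N 1 ≠ ⊤ → ∃ c : ℕ, ∀ n : ℕ, 0 < n →
      kh N (l.map (· ^ n)) j ≤ ((c * n ^ d : ℕ) : ℕ∞)) ?_ ?_ ?_
  · intro N _ _ _ _ _ _
    refine ⟨0, fun n _ => ?_⟩
    rw [kh_of_subsingleton]
    exact bot_le
  · intro N _ _ _ p e hdim hN
    have hN' : hs (Ideal.span {b | b ∈ l}) (A ⧸ p.asIdeal) 1 ≠ ⊤ := by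
      rwa [← hs_of_equiv _ e]
    have hdim' : Module.supportDim A (A ⧸ p.asIdeal) ≤ d := by
      rwa [← Module.supportDim_eq_of_equiv e]
    suffices h : ∃ c : ℕ, ∀ n : ℕ, 0 < n →
        kh (A ⧸ p.asIdeal) (l.map (· ^ n)) j ≤ ((c * n ^ d : ℕ) : ℕ∞) by
      obtain ⟨c, hc⟩ := h
      exact ⟨c, fun n hn => by rw [kh_of_equiv e]; exact hc n hn⟩
    by_cases hfl : Module.length A (A ⧸ p.asIdeal) = ⊤
    · -- Case B
      obtain ⟨a, hal, hap⟩ := exists_mem_notMem_of_length_eq_top p l hN' hfl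
      obtain ⟨l₁, l₂, rfl⟩ := List.append_of_mem hal
      have hreg : IsSMulRegular (A ⧸ p.asIdeal) a := isSMulRegular_quotient_of_notMem hap
      have hN'' := hs_quotSMulTop_middle (A ⧸ p.asIdeal) a l₁ l₂ hN'
      have hdrop := Module.supportDim_quotSMulTop_succ_le_of_notMem_minimalPrimes
        (M := A ⧸ p.asIdeal) (x := a) (fun _ => hreg.notMem_of_mem_minimalPrimes)
      rcases Nat.eq_zero_or_pos d with hd0 | hdpos
      · exfalso
        subst hd0
        have := isFiniteLength_of_supportDim_le_zero (A := A) (M := A ⧸ p.asIdeal)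
          (by simpa using hdim')
        exact (Module.length_ne_top_iff.2 this) hfl
      · obtain ⟨d', rfl⟩ : ∃ d', d = d' + 1 := ⟨d - 1, by omega⟩
        have hle : Module.supportDim A (QuotSMulTop a (A ⧸ p.asIdeal)) ≤ d' := by
          apply le_of_add_one_le
          refine hdrop.trans ?_
          exact_mod_cast hdim'
        obtain ⟨c, hc⟩ := IH d' (by omega) (l₁ ++ l₂)
          (QuotSMulTop a (A ⧸ p.asIdeal)) hle hN'' j
        refine ⟨c, fun n hn => ?_⟩
        refine (kh_middle_pow_le _ a hreg l₁ l₂ _ n).trans ?_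
        refine (mul_le_mul_right (hc n hn) _).trans ?_
        rw [pow_succ]
        push_cast
        rw [mul_comm (n : ℕ∞), mul_assoc]
    · -- Case A
      set L := (Module.length A (A ⧸ p.asIdeal)).toNat with hL
      have hLc : (L : ℕ∞) = Module.length A (A ⧸ p.asIdeal) := ENat.natCast_toNat hfl
      refine ⟨2 ^ l.length * L, fun n hn => ?_⟩
      refine (kh_le_two_pow _ _ _).trans ?_
      rw [List.length_map, ← hLc]
      have h1 : 1 ≤ n ^ d := Nat.one_le_pow _ _ hn
      have h2 : 2 ^ l.length * L ≤ 2 ^ l.length * L * n ^ d := Nat.le_mul_of_pos_right _ h1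
      exact_mod_cast h2
  · intro N₁ _ _ _ N₂ _ _ _ N₃ _ _ _ f g hf hg hex ih₁ ih₃ hdim hN₂
    have hN₁ : hs (Ideal.span {b | b ∈ l}) N₁ 1 ≠ ⊤ :=
      hs_one_ne_top_of_support_subset _ hN₂ (Module.support_subset_of_injective f hf)
    have hN₃ : hs (Ideal.span {b | b ∈ l}) N₃ 1 ≠ ⊤ :=
      hs_one_ne_top_of_support_subset _ hN₂ (Module.support_subset_of_surjective g hg)
    obtain ⟨c₁, hc₁⟩ := ih₁ ((Module.supportDim_le_of_injective f hf).trans hdim) hN₁
    obtain ⟨c₃, hc₃⟩ := ih₃ ((Module.supportDim_le_of_surjective g hg).trans hdim) hN₃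
    refine ⟨c₁ + c₃, fun n hn => ?_⟩
    refine (kh_le_add f g hf hg hex _ _).trans ?_
    refine (add_le_add (hc₁ n hn) (hc₃ n hn)).trans ?_
    rw [add_mul]
    exact le_rfl

end main

end Groth.Agent.Lib.helper26.Kos
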