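import Mathlib
import Groth.Agent.Lib.Helper26.Kos11

/-!
# Koszul homology, part 12: the zeroth Koszul homology (helper26)

* `kh_zero`: `ℓ(H^0(K(l; M))) = ℓ(M/(l)M)`.
-/

set_option autoImplicit false
set_option linter.unusedSectionVars false
universe u

open CategoryTheory CochainComplex HomComplex Pointwise

namespace Groth.Agent.Lib.helper26.Kos

open Groth.Agent.Lib.helper26.HS Groth.Agent.Lib.helper7.KoszulLow

variable {A : Type u} [CommRing A]

section low

variable (M : Type u) [AddCommGroup M] [Module A M]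

theorem low_cone (C : CochainComplex (ModuleCat.{u} A) ℤ) (x : A) (N : Submodule A M)
    (e0 : C.X 0 ≃ₗ[A] M) (hpos : ∀ n : ℤ, 0 < n → Subsingleton (C.X n))
    (hrange : (LinearMap.range (C.d (-1) 0).hom).map e0.toLinearMap = N) :
    ∃ e0' : (mappingCone (x • 𝟙 C)).X 0 ≃ₗ[A] M,
      (∀ n : ℤ, 0 < n → Subsingleton ((mappingCone (x • 𝟙 C)).X n)) ∧
      (LinearMap.range ((mappingCone (x • 𝟙 C)).d (-1) 0).hom).map e0'.toLinearMap =
        x • (⊤ : Submodule A M) ⊔ N := by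
  have hpos' : ∀ n : ℤ, 0 < n → Subsingleton ((mappingCone (x • 𝟙 C)).X n) := by
    intro n hn
    have h1 := hpos n hn
    have h2 := hpos (n + 1) (by omega)
    exact (coneEquiv (x • 𝟙 C) n (n + 1) rfl).toEquiv.subsingleton
  have hsub1 := hpos 1 one_pos
  -- the equivalence in degree 0
  let f0 : (mappingCone (x • 𝟙 C)).X 0 →ₗ[A] M := e0.toLinearMap ∘ₗ sndₗ (x • 𝟙 C) 0
  have hf0 : Function.Bijective f0 := by
    constructor
    · intro z z' hzz
      have h1 : sndₗ (x • 𝟙 C) 0 z = sndₗ (x • 𝟙 C) 0 z' := e0.injective hzz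
      exact cone_ext (x • 𝟙 C) 0 1 rfl (Subsingleton.elim _ _) h1
    · intro m
      refine ⟨inrₗ (x • 𝟙 C) 0 (e0.symm m), ?_⟩
      show e0 (sndₗ (x • 𝟙 C) 0 (inrₗ (x • 𝟙 C) 0 (e0.symm m))) = m
      rw [snd_inr, LinearEquiv.apply_symm_apply]
  refine ⟨LinearEquiv.ofBijective f0 hf0, hpos', ?_⟩
  rw [← hrange]
  apply le_antisymm
  · rintro _ ⟨_, ⟨z, rfl⟩, rfl⟩
    show e0 (sndₗ (x • 𝟙 C) 0 (((mappingCone (x • 𝟙 C)).d (-1) 0).hom z)) ∈ _
    rw [snd_d (x • 𝟙 C) (-1) 0 (by ring), smul_id_f_apply', map_add, map_smul]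
    refine Submodule.add_mem_sup ?_ ?_
    · exact Submodule.smul_mem_pointwise_smul _ _ _ Submodule.mem_top
    · exact ⟨_, ⟨_, rfl⟩, rfl⟩
  · refine sup_le ?_ ?_
    · intro m hm
      obtain ⟨m', -, rfl⟩ := (Submodule.mem_smul_pointwise_iff_exists _ _ _).1 hm
      refine ⟨((mappingCone (x • 𝟙 C)).d (-1) 0).hom
        (inlₗ (x • 𝟙 C) 0 (-1) (by ring) (e0.symm m')), ⟨_, rfl⟩, ?_⟩
      show e0 (sndₗ (x • 𝟙 C) 0 (((mappingCone (x • 𝟙 C)).d (-1) 0).hom _)) = _
      rw [snd_d (x • 𝟙 C) (-1) 0 (by ring), smul_id_f_apply', fst_inl, snd_inl, map_zero,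
        add_zero, map_smul, LinearEquiv.apply_symm_apply]
    · rintro _ ⟨_, ⟨v, rfl⟩, rfl⟩
      refine ⟨((mappingCone (x • 𝟙 C)).d (-1) 0).hom (inrₗ (x • 𝟙 C) (-1) v), ⟨_, rfl⟩, ?_⟩
      show e0 (sndₗ (x • 𝟙 C) 0 (((mappingCone (x • 𝟙 C)).d (-1) 0).hom _)) = _
      rw [snd_d (x • 𝟙 C) (-1) 0 (by ring), fst_inr, snd_inr, map_zero, zero_add]
      rfl

theorem exists_low : ∀ l : List A,
    ∃ e0 : (CohIII.koszulCx (ModuleCat.of A M) l).X 0 ≃ₗ[A] M,
      (∀ n : ℤ, 0 < n → Subsingleton ((CohIII.koszulCx (ModuleCat.of A M) l).X n)) ∧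
      (LinearMap.range ((CohIII.koszulCx (ModuleCat.of A M) l).d (-1) 0).hom).map
        e0.toLinearMap = Ideal.span {b | b ∈ l} • (⊤ : Submodule A M) := by
  intro l
  induction l with
  | nil =>
    refine ⟨(HomologicalComplex.singleObjXSelf (ComplexShape.up ℤ) 0
      (ModuleCat.of A M)).toLinearEquiv, ?_, ?_⟩
    · intro n hn
      exact ModuleCat.subsingleton_of_isZero
        (HomologicalComplex.isZero_single_obj_X (ComplexShape.up ℤ) 0 _ n hn.ne')
    · have h0 : (CohIII.koszulCx (ModuleCat.of A M) ([] : List A)).d (-1) 0 = 0 :=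
        HomologicalComplex.single_obj_d _ _ _ _ _
      rw [h0]
      have : {b : A | b ∈ ([] : List A)} = ∅ := by
        ext b
        simp
      rw [this, Ideal.span_empty, Submodule.bot_smul, ModuleCat.hom_zero, LinearMap.range_zero,
        Submodule.map_bot]
  | cons x l ih =>
    obtain ⟨e0, hpos, hrange⟩ := ih
    obtain ⟨e0', hpos', hrange'⟩ := low_cone M _ x _ e0 hpos hrange
    refine ⟨e0', hpos', ?_⟩
    have hset : {a | a ∈ x :: l} = insert x {a | a ∈ l} := by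
      ext a
      simp [List.mem_cons]
    rw [hset, Set.insert_eq, Ideal.span_union, Submodule.sup_smul,
      Submodule.ideal_span_singleton_smul]
    exact hrange'

/-- `ℓ(H^0(K(l; M))) = ℓ(M/(l)M)`. -/
theorem kh_zero [IsNoetherianRing A] (l : List A) :
    kh M l 0 = col (Ideal.span {b | b ∈ l} • (⊤ : Submodule A M)) := by
  obtain ⟨e0, hpos, hrange⟩ := exists_low M l
  rw [kh_eq_hl, hl_eq _ (-1) 0 1 (by ring) (by ring)]
  have := hpos 1 one_pos
  have hker : LinearMap.ker ((CohIII.koszulCx (ModuleCat.of A M) l).d 0 1).hom = ⊤ := by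
    rw [eq_top_iff]
    intro z _
    rw [LinearMap.mem_ker]
    exact Subsingleton.elim _ _
  rw [hker, rl_top, ← hrange]
  unfold col
  exact (Submodule.Quotient.equiv _ _ e0 rfl).length_eq

theorem homology_zero_equiv_of_low (K : CochainComplex (ModuleCat.{u} A) ℤ) (N : Submodule A M)
    (e0 : K.X 0 ≃ₗ[A] M) (h1 : Subsingleton (K.X 1))
    (hrange : (LinearMap.range (K.d (-1) 0).hom).map e0.toLinearMap = N) :
    Nonempty (K.homology 0 ≃ₗ[A] (M ⧸ N)) := by
  have e1 := (K.homologyIsoSc' (-1) 0 1 (by simp) (by simp)).toLinearEquiv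
  have e2 := ((K.sc' (-1) 0 1).moduleCatHomologyIso).toLinearEquiv
  let φ : LinearMap.ker (K.sc' (-1) 0 1).g.hom →ₗ[A] (M ⧸ N) :=
    (Submodule.mkQ _) ∘ₗ e0.toLinearMap ∘ₗ (LinearMap.ker (K.sc' (-1) 0 1).g.hom).subtype
  have hφ : Function.Surjective φ := by
    intro y
    obtain ⟨m, rfl⟩ := Submodule.mkQ_surjective _ y
    refine ⟨⟨e0.symm m, ?_⟩, ?_⟩
    · rw [LinearMap.mem_ker]
      exact @Subsingleton.elim _ h1 _ _
    · show Submodule.Quotient.mk (e0 (e0.symm m)) = _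
      rw [LinearEquiv.apply_symm_apply]
      rfl
  have hker : LinearMap.ker φ = LinearMap.range (K.sc' (-1) 0 1).moduleCatToCycles := by
    ext z
    rw [LinearMap.mem_ker]
    show Submodule.Quotient.mk (e0 z.1) = 0 ↔ _
    rw [Submodule.Quotient.mk_eq_zero, ← hrange]
    constructor
    · rintro ⟨_, ⟨y, rfl⟩, hy⟩
      exact ⟨y, Subtype.ext (e0.injective hy)⟩
    · rintro ⟨y, rfl⟩
      exact ⟨_, ⟨y, rfl⟩, rfl⟩
  exact ⟨e1.trans (e2.trans ((Submodule.quotEquivOfEq _ _ hker.symm).trans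
    (φ.quotKerEquivOfSurjective hφ)))⟩

/-- `H^0(K(l; M)) ≅ M/(l)M` as modules. -/
theorem nonempty_homology_zero_equiv (l : List A) :
    Nonempty ((CohIII.koszulCx (ModuleCat.of A M) l).homology 0 ≃ₗ[A]
      (M ⧸ (Ideal.span {b | b ∈ l} • (⊤ : Submodule A M)))) := by
  obtain ⟨e0, hpos, hrange⟩ := exists_low M l
  exact homology_zero_equiv_of_low M _ _ e0 (hpos 1 one_pos) hrange

end low

end Groth.Agent.Lib.helper26.Kos
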