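import Mathlib
import Groth.Agent.Lib.Helper26.Kos12
import Groth.Agent.S14433

/-!
# Koszul homology, part 14: depth sensitivity of the Koszul complex (helper26)
-/

set_option autoImplicit false
set_option linter.unusedSectionVars false
universe u

open CategoryTheory CochainComplex HomComplex Pointwise

namespace Groth.Agent.Lib.helper26.Kos

open Groth.Agent.Lib.helper26.HS Groth.Agent.Lib.helper7.KoszulLow
open Groth.Agent.S2423 (DegSE degSE_cone koszulMap shortExact_of_degSE quotMap degSE_koszul)

variable {A : Type u} [CommRing A]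

section annihilate

set_option backward.isDefEq.respectTransparency false in
theorem homologyMap_smul' {K L : CochainComplex (ModuleCat.{u} A) ℤ} (a : A) (φ : K ⟶ L) (i : ℤ) :
    HomologicalComplex.homologyMap (a • φ) i = a • HomologicalComplex.homologyMap φ i := by
  dsimp [HomologicalComplex.homologyMap]
  rw [← ShortComplex.homologyMap_smul]
  rfl

/-- Elements of `(xs)` act as zero on the Koszul homology. -/
theorem homologyMap_smul_id_eq_zero (M : Type u) [AddCommGroup M] [Module A M] (xs : List A)
    (a : A) (ha : a ∈ Ideal.span {x | x ∈ xs}) (i : ℤ) :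
    HomologicalComplex.homologyMap (a • 𝟙 (CohIII.koszulCx (ModuleCat.of A M) xs)) i = 0 := by
  obtain ⟨h⟩ := Groth.Agent.S14433.result M xs a ha
  rw [h.homologyMap_eq i, HomologicalComplex.homologyMap_zero]

end annihilate


section les

variable (M : Type u) [AddCommGroup M] [Module A M] (xs : List A) (y : A)
  (hy : IsSMulRegular M y) (hya : y ∈ Ideal.span {x | x ∈ xs})

include hy hya

theorem subsingleton_of_quot (i : ℤ)
    (h : Subsingleton ((CohIII.koszulCx (ModuleCat.of A (QuotSMulTop y M)) xs).homology i)) :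
    Subsingleton ((CohIII.koszulCx (ModuleCat.of A M) xs).homology i) := by
  obtain ⟨w, hS⟩ := shortExact_of_degSE _ _ (degSE_koszul M y hy xs)
  have ex2 := hS.homology_exact₂ i
  rw [ShortComplex.moduleCat_exact_iff] at ex2
  refine ⟨fun z z' => ?_⟩
  have hz : ∀ z : (CohIII.koszulCx (ModuleCat.of A M) xs).homology i, z = 0 := by
    intro z
    obtain ⟨z₁, hz₁⟩ := ex2 z (Subsingleton.elim _ _)
    rw [← hz₁]
    have h0 := homologyMap_smul_id_eq_zero M xs y hya i
    have : HomologicalComplex.homologyMap (y • 𝟙 (CohIII.koszulCx (ModuleCat.of A M) xs)) i z₁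
        = 0 := by
      rw [h0]
      rfl
    exact this
  rw [hz z, hz z']

theorem subsingleton_succ_of_quot (i j : ℤ) (hij : i + 1 = j)
    (h : Subsingleton ((CohIII.koszulCx (ModuleCat.of A (QuotSMulTop y M)) xs).homology i)) :
    Subsingleton ((CohIII.koszulCx (ModuleCat.of A M) xs).homology j) := by
  obtain ⟨w, hS⟩ := shortExact_of_degSE _ _ (degSE_koszul M y hy xs)
  have ex1 := hS.homology_exact₁ i j hij
  rw [ShortComplex.moduleCat_exact_iff] at ex1
  refine ⟨fun z z' => ?_⟩
  have hz : ∀ z : (CohIII.koszulCx (ModuleCat.of A M) xs).homology j, z = 0 := by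
    intro z
    have h0 := homologyMap_smul_id_eq_zero M xs y hya j
    obtain ⟨z₁, hz₁⟩ := ex1 z (by
      show HomologicalComplex.homologyMap (y • 𝟙 (CohIII.koszulCx (ModuleCat.of A M) xs)) j z = 0
      rw [h0]
      rfl)
    rw [← hz₁, Subsingleton.elim z₁ 0, map_zero]
  rw [hz z, hz z']

theorem subsingleton_quot_of (i j : ℤ) (hij : i + 1 = j)
    (h1 : Subsingleton ((CohIII.koszulCx (ModuleCat.of A M) xs).homology i))
    (h2 : Subsingleton ((CohIII.koszulCx (ModuleCat.of A M) xs).homology j)) :
    Subsingleton ((CohIII.koszulCx (ModuleCat.of A (QuotSMulTop y M)) xs).homology i) := by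
  obtain ⟨w, hS⟩ := shortExact_of_degSE _ _ (degSE_koszul M y hy xs)
  have ex3 := hS.homology_exact₃ i j hij
  rw [ShortComplex.moduleCat_exact_iff] at ex3
  refine ⟨fun z z' => ?_⟩
  have hz : ∀ z : (CohIII.koszulCx (ModuleCat.of A (QuotSMulTop y M)) xs).homology i, z = 0 := by
    intro z
    obtain ⟨z₁, hz₁⟩ := ex3 z (Subsingleton.elim _ _)
    rw [← hz₁, Subsingleton.elim z₁ 0, map_zero]
  rw [hz z, hz z']

end les


section vanishing

theorem subsingleton_X_of_lt (N : ModuleCat.{u} A) : ∀ (xs : List A) (j : ℤ),
    j < -(xs.length : ℤ) → Subsingleton ((CohIII.koszulCx N xs).X j)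
  | [], j, hj => by
    have hj' : j ≠ 0 := by
      simp only [List.length_nil, Nat.cast_zero, neg_zero] at hj
      omega
    exact ModuleCat.subsingleton_of_isZero
      (HomologicalComplex.isZero_single_obj_X (ComplexShape.up ℤ) 0 _ j hj')
  | x :: xs, j, hj => by
    have hj1 : j + 1 < -(xs.length : ℤ) := by
      simp only [List.length_cons, Nat.cast_add, Nat.cast_one] at hj
      omega
    have hj2 : j < -(xs.length : ℤ) := by omega
    have h1 := subsingleton_X_of_lt N xs (j + 1) hj1
    have h2 := subsingleton_X_of_lt N xs j hj2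
    exact (coneEquiv (x • 𝟙 (CohIII.koszulCx N xs)) j (j + 1) rfl).toEquiv.subsingleton

theorem subsingleton_homology_of_subsingleton_X (K : CochainComplex (ModuleCat.{u} A) ℤ) (j : ℤ)
    (h : Subsingleton (K.X j)) : Subsingleton (K.homology j) := by
  have hz : Limits.IsZero (K.X j) := ModuleCat.isZero_of_subsingleton _
  have hex := HomologicalComplex.ExactAt.of_isZero (K := K) hz
  exact ModuleCat.subsingleton_of_isZero ((K.exactAt_iff_isZero_homology j).1 hex)

theorem subsingleton_homology_of_equiv {N N' : Type u} [AddCommGroup N] [Module A N]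
    [AddCommGroup N'] [Module A N'] (e : N ≃ₗ[A] N') (xs : List A) (j : ℤ)
    (h : Subsingleton ((CohIII.koszulCx (ModuleCat.of A N) xs).homology j)) :
    Subsingleton ((CohIII.koszulCx (ModuleCat.of A N') xs).homology j) := by
  have e' : (CohIII.koszulCx (ModuleCat.of A N) xs).homology j ≃ₗ[A]
      (CohIII.koszulCx (ModuleCat.of A N') xs).homology j :=
    ((HomologicalComplex.homologyFunctor _ _ j).mapIso (koszulIso e.toModuleIso xs)).toLinearEquiv
  exact e'.symm.toEquiv.subsingleton

/-- Koszul cohomology vanishes below the length of a regular sequence in the ideal, and the first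
possibly nonzero one is controlled by the socle-type module `H^0(x; N/(ys)N)`. -/
theorem koszul_vanish_of_regular (xs : List A) : ∀ (ys : List A) (N : Type u) [AddCommGroup N]
    [Module A N], RingTheory.Sequence.IsWeaklyRegular N ys →
    (∀ y ∈ ys, y ∈ Ideal.span {x | x ∈ xs}) →
    (∀ j : ℤ, j + xs.length < ys.length →
      Subsingleton ((CohIII.koszulCx (ModuleCat.of A N) xs).homology j)) ∧
    (∀ j k : ℤ, j + xs.length = ys.length → k + xs.length = 0 →
      Subsingleton ((CohIII.koszulCx (ModuleCat.of A N) xs).homology j) →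
      Subsingleton ((CohIII.koszulCx (ModuleCat.of A
        (N ⧸ Ideal.ofList ys • (⊤ : Submodule A N))) xs).homology k)) := by
  intro ys
  induction ys with
  | nil =>
    intro N _ _ _ _
    refine ⟨fun j hj => ?_, fun j k hj hk h => ?_⟩
    · apply subsingleton_homology_of_subsingleton_X
      apply subsingleton_X_of_lt
      simp only [List.length_nil, Nat.cast_zero] at hj
      omega
    · have hjk : j = k := by
        simp only [List.length_nil, Nat.cast_zero] at hj
        omega
      subst hjk
      have hbot : Ideal.ofList ([] : List A) • (⊤ : Submodule A N) = ⊥ := by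
        rw [Ideal.ofList_nil, Submodule.bot_smul]
      exact subsingleton_homology_of_equiv (Submodule.quotEquivOfEqBot _ hbot).symm xs j h
  | cons y ys' ih =>
    intro N _ _ hreg hmem
    obtain ⟨hy, hreg'⟩ := (RingTheory.Sequence.isWeaklyRegular_cons_iff N y ys').1 hreg
    have hya : y ∈ Ideal.span {x | x ∈ xs} := hmem y List.mem_cons_self
    obtain ⟨ih1, ih2⟩ := ih (QuotSMulTop y N) hreg'
      (fun z hz => hmem z (List.mem_cons_of_mem _ hz))
    have hi : ∀ j : ℤ, j + xs.length < (y :: ys').length →
        Subsingleton ((CohIII.koszulCx (ModuleCat.of A N) xs).homology j) := by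
      intro j hj
      have hj' : (j - 1) + xs.length < ys'.length := by
        simp only [List.length_cons, Nat.cast_add, Nat.cast_one] at hj
        omega
      exact subsingleton_succ_of_quot N xs y hy hya (j - 1) j (by ring) (ih1 (j - 1) hj')
    refine ⟨hi, fun j k hj hk h => ?_⟩
    have hj' : (j - 1) + xs.length = ys'.length := by
      simp only [List.length_cons, Nat.cast_add, Nat.cast_one] at hj
      omega
    have h1 : Subsingleton ((CohIII.koszulCx (ModuleCat.of A N) xs).homology (j - 1)) :=
      hi (j - 1) (by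
        simp only [List.length_cons, Nat.cast_add, Nat.cast_one]
        omega)
    have h3 := subsingleton_quot_of N xs y hy hya (j - 1) j (by ring) h1 h
    have h4 := ih2 (j - 1) k hj' hk h3
    exact subsingleton_homology_of_equiv
      (Submodule.quotOfListConsSMulTopEquivQuotSMulTopInner N y ys').symm xs k h4

end vanishing


section top

variable (N : Type u) [AddCommGroup N] [Module A N]

/-- The bottom term of the Koszul complex is `N`, and the kernel of the first differential is the
submodule of elements killed by the sequence. -/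
theorem exists_top : ∀ (xs : List A) (k : ℤ) (_ : k + xs.length = 0),
    ∃ e : (CohIII.koszulCx (ModuleCat.of A N) xs).X k ≃ₗ[A] N,
      ∀ z, ((CohIII.koszulCx (ModuleCat.of A N) xs).d k (k + 1)).hom z = 0 ↔
        ∀ x ∈ xs, x • e z = 0
  | [], k, hk => by
    have hk0 : k = 0 := by simpa using hk
    subst hk0
    refine ⟨(HomologicalComplex.singleObjXSelf (ComplexShape.up ℤ) 0
      (ModuleCat.of A N)).toLinearEquiv, fun z => ?_⟩
    have h0 : (CohIII.koszulCx (ModuleCat.of A N) ([] : List A)).d 0 (0 + 1) = 0 :=
      HomologicalComplex.single_obj_d _ _ _ _ _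
    rw [h0]
    simp
  | x :: xs, k, hk => by
    have hk' : (k + 1) + xs.length = 0 := by
      simp only [List.length_cons, Nat.cast_add, Nat.cast_one] at hk
      omega
    obtain ⟨e, he⟩ := exists_top xs (k + 1) hk'
    have hsub : Subsingleton ((CohIII.koszulCx (ModuleCat.of A N) xs).X k) :=
      subsingleton_X_of_lt _ xs k (by omega)
    let C := CohIII.koszulCx (ModuleCat.of A N) xs
    let f0 : (mappingCone (x • 𝟙 C)).X k →ₗ[A] N := e.toLinearMap ∘ₗ fstₗ (x • 𝟙 C) k (k + 1) rfl
    have hf0 : Function.Bijective f0 := by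
      constructor
      · intro z z' hzz
        have h1 : fstₗ (x • 𝟙 C) k (k + 1) rfl z = fstₗ (x • 𝟙 C) k (k + 1) rfl z' :=
          e.injective hzz
        exact cone_ext (x • 𝟙 C) k (k + 1) rfl h1 (Subsingleton.elim _ _)
      · intro m
        refine ⟨inlₗ (x • 𝟙 C) (k + 1) k rfl (e.symm m), ?_⟩
        show e (fstₗ (x • 𝟙 C) k (k + 1) rfl (inlₗ (x • 𝟙 C) (k + 1) k rfl (e.symm m))) = m
        rw [fst_inl, LinearEquiv.apply_symm_apply]
    refine ⟨LinearEquiv.ofBijective f0 hf0, fun z => ?_⟩
    show ((mappingCone (x • 𝟙 C)).d k (k + 1)).hom z = 0 ↔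
      ∀ x' ∈ x :: xs, x' • e (fstₗ (x • 𝟙 C) k (k + 1) rfl z) = 0
    have hsnd : sndₗ (x • 𝟙 C) k z = 0 := Subsingleton.elim _ _
    constructor
    · intro hz
      have h1 := fst_d (x • 𝟙 C) k (k + 1) (k + 1 + 1) rfl rfl z
      have h2 := snd_d (x • 𝟙 C) k (k + 1) rfl z
      rw [hz, map_zero] at h1 h2
      rw [hsnd, map_zero, add_zero, smul_id_f_apply'] at h2
      intro x' hx'
      rcases List.mem_cons.1 hx' with rfl | hx'
      · rw [← map_smul, ← h2, map_zero]
      · refine (he _).1 ?_ x' hx'
        have := neg_eq_zero.1 h1.symm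
        exact this
    · intro hz
      refine cone_ext (x • 𝟙 C) (k + 1) (k + 1 + 1) rfl ?_ ?_
      · rw [fst_d (x • 𝟙 C) k (k + 1) (k + 1 + 1) rfl rfl z, map_zero, neg_eq_zero]
        exact (he _).2 (fun x' hx' => hz x' (List.mem_cons_of_mem _ hx'))
      · rw [snd_d (x • 𝟙 C) k (k + 1) rfl z, hsnd, map_zero, add_zero, smul_id_f_apply', map_zero]
        apply e.injective
        rw [map_smul, map_zero]
        exact hz x List.mem_cons_self

/-- A nonzero element killed by the sequence gives a nonzero class in the bottom Koszul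
cohomology. -/
theorem not_subsingleton_homology_bottom (xs : List A) (k : ℤ) (hk : k + xs.length = 0)
    (m : N) (hm : m ≠ 0) (hkill : ∀ x ∈ xs, x • m = 0) :
    ¬ Subsingleton ((CohIII.koszulCx (ModuleCat.of A N) xs).homology k) := by
  intro hsub
  obtain ⟨e, he⟩ := exists_top N xs k hk
  have hlen : hl (CohIII.koszulCx (ModuleCat.of A N) xs) k = 0 := by
    unfold hl
    exact Module.length_eq_zero
  rw [hl_eq _ (k - 1) k (k + 1) (by ring) rfl] at hlen
  unfold rl at hlen
  rw [Module.length_eq_zero_iff, Submodule.Quotient.subsingleton_iff] at hlen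
  have hz : e.symm m ∈ LinearMap.ker ((CohIII.koszulCx (ModuleCat.of A N) xs).d k (k + 1)).hom := by
    rw [LinearMap.mem_ker, he]
    intro x hx
    rw [LinearEquiv.apply_symm_apply]
    exact hkill x hx
  have hmem : (⟨e.symm m, hz⟩ : LinearMap.ker
      ((CohIII.koszulCx (ModuleCat.of A N) xs).d k (k + 1)).hom) ∈
      (LinearMap.range ((CohIII.koszulCx (ModuleCat.of A N) xs).d (k - 1) k).hom).comap
        (LinearMap.ker ((CohIII.koszulCx (ModuleCat.of A N) xs).d k (k + 1)).hom).subtype := by
    rw [hlen]
    exact Submodule.mem_top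
  obtain ⟨w, hw⟩ := hmem
  have hsubX : Subsingleton ((CohIII.koszulCx (ModuleCat.of A N) xs).X (k - 1)) :=
    subsingleton_X_of_lt _ xs (k - 1) (by omega)
  rw [Subsingleton.elim w 0, map_zero] at hw
  have : e.symm m = 0 := hw.symm
  apply hm
  rw [← e.apply_symm_apply m, this, map_zero]

end top

section assoc

variable [IsNoetherianRing A]

/-- An ideal consisting of zero divisors on a nonzero finite module kills a nonzero element. -/
theorem exists_ne_zero_forall_smul_eq_zero (N : Type u) [AddCommGroup N] [Module A N]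
    [Module.Finite A N] (I : Ideal A) (h : ∀ a ∈ I, ¬ IsSMulRegular N a) :
    ∃ m : N, m ≠ 0 ∧ ∀ a ∈ I, a • m = 0 := by
  obtain ⟨P, hP, hIP⟩ : ∃ P ∈ associatedPrimes A N, I ≤ P := by
    refine (I.subset_union_prime_finite (associatedPrimes.finite A N) (f := id) 0 0
      fun _ h _ _ => h.1).1 ?_
    simp_rw [id, biUnion_associatedPrimes_eq_compl_regular]
    intro a ha
    exact h a ha
  rw [AssociatedPrimes.mem_iff, isAssociatedPrime_iff] at hP
  obtain ⟨hprime, x, rfl⟩ := hP
  refine ⟨x, ?_, fun a ha => ?_⟩
  · rintro rfl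
    apply hprime.ne_top
    rw [eq_top_iff]
    intro a _
    rw [Submodule.mem_colon_singleton]
    simp
  · have := hIP ha
    rw [Submodule.mem_colon_singleton] at this
    simpa using this

end assoc

end Groth.Agent.Lib.helper26.Kos
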