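import Groth.Agent.Lib.Helper26.AnPtsProd

/-!
# Surjectivity / injectivity on ℂ-points (helper26)
-/

set_option autoImplicit false

open AlgebraicGeometry CategoryTheory CategoryTheory.Limits TopologicalSpace Opposite Topology

namespace Groth.Agent.Lib.helper26.AnPts

open An

section Topology

variable {T : Type*} [TopologicalSpace T]

/-- A set is a finite union of locally closed sets. -/
def FinUnionLC (s : Set T) : Prop :=
  ∃ F : Set (Set T), F.Finite ∧ (∀ Z ∈ F, IsLocallyClosed Z) ∧ s = ⋃₀ F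

lemma FinUnionLC.union {s t : Set T} (hs : FinUnionLC s) (ht : FinUnionLC t) :
    FinUnionLC (s ∪ t) := by
  obtain ⟨F, hF, hFl, rfl⟩ := hs
  obtain ⟨G, hG, hGl, rfl⟩ := ht
  refine ⟨F ∪ G, hF.union hG, ?_, (Set.sUnion_union F G).symm⟩
  rintro Z (hZ | hZ)
  · exact hFl Z hZ
  · exact hGl Z hZ

lemma FinUnionLC.inter {s t : Set T} (hs : FinUnionLC s) (ht : FinUnionLC t) :
    FinUnionLC (s ∩ t) := by
  obtain ⟨F, hF, hFl, rfl⟩ := hs
  obtain ⟨G, hG, hGl, rfl⟩ := ht
  refine ⟨Set.image2 (· ∩ ·) F G, hF.image2 _ hG, ?_, ?_⟩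
  · rintro _ ⟨A, hA, B, hB, rfl⟩
    exact (hFl A hA).inter (hGl B hB)
  · ext x
    constructor
    · rintro ⟨⟨A, hA, hxA⟩, ⟨B, hB, hxB⟩⟩
      exact ⟨A ∩ B, ⟨A, hA, B, hB, rfl⟩, hxA, hxB⟩
    · rintro ⟨_, ⟨A, hA, B, hB, rfl⟩, hxA, hxB⟩
      exact ⟨⟨A, hA, hxA⟩, ⟨B, hB, hxB⟩⟩

lemma FinUnionLC.of_isLocallyClosed {s : Set T} (hs : IsLocallyClosed s) : FinUnionLC s :=
  ⟨{s}, Set.finite_singleton s, by rintro _ rfl; exact hs, (Set.sUnion_singleton s).symm⟩

lemma IsConstructible.finUnionLC_and_compl {s : Set T} (hs : IsConstructible s) :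
    FinUnionLC s ∧ FinUnionLC sᶜ := by
  induction hs using IsConstructible.empty_union_induction with
  | open_retrocompact U hU _ =>
    exact ⟨.of_isLocallyClosed hU.isLocallyClosed,
      .of_isLocallyClosed hU.isClosed_compl.isLocallyClosed⟩
  | union s _ t _ hs ht =>
    refine ⟨hs.1.union ht.1, ?_⟩
    rw [Set.compl_union]
    exact hs.2.inter ht.2
  | compl s _ hs =>
    refine ⟨hs.2, ?_⟩
    rw [compl_compl]
    exact hs.1

/-- A nonempty constructible set contains a nonempty locally closed subset. -/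
lemma IsConstructible.exists_isLocallyClosed_subset {s : Set T} (hs : IsConstructible s)
    (hne : s.Nonempty) : ∃ Z ⊆ s, Z.Nonempty ∧ IsLocallyClosed Z := by
  obtain ⟨F, -, hFl, rfl⟩ := (IsConstructible.finUnionLC_and_compl hs).1
  obtain ⟨x, Z, hZ, hxZ⟩ := hne
  exact ⟨Z, Set.subset_sUnion_of_mem hZ, ⟨x, hxZ⟩, hFl Z hZ⟩

/-- In a Jacobson space, a nonempty locally constructible set contains a closed point. -/
lemma IsLocallyConstructible.nonempty_inter_closedPoints [JacobsonSpace T] {s : Set T}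
    (hs : IsLocallyConstructible s) (hne : s.Nonempty) : (s ∩ closedPoints T).Nonempty := by
  obtain ⟨y, hy⟩ := hne
  obtain ⟨U, hyU, hU, hc⟩ := hs y
  have hne' : (Subtype.val ⁻¹' s : Set U).Nonempty := ⟨⟨y, mem_of_mem_nhds hyU⟩, hy⟩
  obtain ⟨Z, hZs, hZne, hZl⟩ := IsConstructible.exists_isLocallyClosed_subset hc hne'
  have hZ' : IsLocallyClosed (Subtype.val '' Z : Set T) :=
    hZl.image IsInducing.subtypeVal (by rw [Subtype.range_val]; exact hU.isLocallyClosed)
  obtain ⟨q, hqZ, hqc⟩ := _root_.nonempty_inter_closedPoints (hZne.image _) hZ'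
  obtain ⟨⟨q', hq'U⟩, hq'Z, rfl⟩ := hqZ
  exact ⟨q', hZs hq'Z, hqc⟩

lemma IsLocallyConstructible.compl' {s : Set T} (hs : IsLocallyConstructible s) :
    IsLocallyConstructible sᶜ := by
  intro x
  obtain ⟨U, hxU, hU, hc⟩ := hs x
  refine ⟨U, hxU, hU, ?_⟩
  rw [Set.preimage_compl]
  exact hc.compl

end Topology

section Surjective

variable {X Y : Scheme.{0}} [X.Over SC] [Y.Over SC]
  [LocallyOfFiniteType (X ↘ SC)] [LocallyOfFiniteType (Y ↘ SC)] (f : X ⟶ Y) [f.IsOver SC]

include f in
lemma locallyOfFiniteType_of_isOver : LocallyOfFiniteType f := by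
  have : LocallyOfFiniteType (f ≫ Y ↘ SC) := by
    rw [comp_over f SC]; infer_instance
  exact locallyOfFiniteType_of_comp f (Y ↘ SC)

/-- Every ℂ-point of `Y` whose underlying point is in the range of `f` lifts to `X`. -/
lemma exists_map_eq_of_pt_mem_range (y : Pts Y) (hy : y.pt ∈ Set.range f) :
    ∃ x : Pts X, Pts.map f x = y := by
  have : LocallyOfFiniteType f := locallyOfFiniteType_of_isOver f
  obtain ⟨p, hp⟩ := hy
  obtain ⟨z, -, -⟩ := Scheme.Pullback.exists_preimage_pullback (f := f) (g := y.1) p cpt hp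
  have : LocallyOfFiniteType (pullback.snd f y.1) := inferInstance
  have : JacobsonSpace ↥(pullback f y.1) := LocallyOfFiniteType.jacobsonSpace (pullback.snd f y.1)
  obtain ⟨w, -, hw⟩ := nonempty_inter_closedPoints (X := ↥(pullback f y.1)) (Z := Set.univ)
    ⟨z, trivial⟩ isOpen_univ.isLocallyClosed
  let t : SC ⟶ pullback f y.1 := pointOfClosedPoint (K := ℂ) (pullback.snd f y.1) w hw
  have ht : t ≫ pullback.snd f y.1 = 𝟙 _ := pointOfClosedPoint_comp _ _ _
  have hx : (t ≫ pullback.fst f y.1) ≫ f = y.1 := by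
    rw [Category.assoc, pullback.condition, reassoc_of% ht]
  refine ⟨⟨t ≫ pullback.fst f y.1, ?_⟩, Subtype.ext hx⟩
  rw [← comp_over f SC, ← Category.assoc, hx]
  exact y.2

/-- For quasi-compact `f`: surjective iff surjective on ℂ-points. -/
theorem surjective_iff [QuasiCompact f] :
    Function.Surjective f ↔ Function.Surjective (Pts.map f) := by
  constructor
  · intro hf y
    exact exists_map_eq_of_pt_mem_range f y (hf y.pt)
  · intro hf
    have : LocallyOfFiniteType f := locallyOfFiniteType_of_isOver f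
    have : IsLocallyNoetherian Y := LocallyOfFiniteType.isLocallyNoetherian (Y ↘ SC)
    have : JacobsonSpace ↥Y := LocallyOfFiniteType.jacobsonSpace (Y ↘ SC)
    have hlc : IsLocallyConstructible (Set.range f)ᶜ := by
      rw [← Set.image_univ]
      exact IsLocallyConstructible.compl'
        (f.isLocallyConstructible_image IsLocallyConstructible.univ)
    rw [← Set.range_eq_univ, ← Set.compl_empty_iff, ← Set.not_nonempty_iff_eq_empty]
    intro hne
    obtain ⟨q, hq, hqc⟩ := IsLocallyConstructible.nonempty_inter_closedPoints hlc hne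
    obtain ⟨y, rfl⟩ := exists_pt_eq q hqc
    obtain ⟨x, rfl⟩ := hf y
    apply hq
    rw [Pts.pt_map]
    exact ⟨x.pt, rfl⟩

/-- Injective iff injective on ℂ-points. -/
theorem injective_iff :
    Function.Injective f ↔ Function.Injective (Pts.map f) := by
  constructor
  · intro hf x y hxy
    apply pt_injective
    apply hf
    rw [← Pts.pt_map, ← Pts.pt_map, hxy]
  · intro hf p q hpq
    by_contra hne
    have : LocallyOfFiniteType f := locallyOfFiniteType_of_isOver f
    have : LocallyOfFiniteType (pullback f f ↘ SC) :=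
      inferInstanceAs (LocallyOfFiniteType (pullback.fst f f ≫ X ↘ SC))
    have : JacobsonSpace ↥(pullback f f) := LocallyOfFiniteType.jacobsonSpace (pullback f f ↘ SC)
    obtain ⟨z, hz1, hz2⟩ := Scheme.Pullback.exists_preimage_pullback (f := f) (g := f) p q hpq
    have hzΔ : z ∉ Set.range (pullback.diagonal f) := by
      rintro ⟨w, rfl⟩
      apply hne
      rw [← hz1, ← hz2, ← Scheme.Hom.comp_apply, ← Scheme.Hom.comp_apply,
        pullback.diagonal_fst, pullback.diagonal_snd]
    -- a closed point outside the diagonal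
    obtain ⟨z', hz'Δ, hz'c⟩ : ∃ z' : ↥(pullback f f),
        z' ∉ Set.range (pullback.diagonal f) ∧ IsClosed {z'} := by
      obtain ⟨O, C, hO, hC, hOC⟩ := (pullback.diagonal f).isLocallyClosed_range
      by_cases hzO : z ∈ O
      · have hzC : z ∉ C := fun hzC => hzΔ (hOC ▸ ⟨hzO, hzC⟩)
        obtain ⟨z', hz', hz'c⟩ := nonempty_inter_closedPoints (Z := Cᶜ) ⟨z, hzC⟩
          hC.isOpen_compl.isLocallyClosed
        exact ⟨z', fun h => hz' (hOC ▸ h : z' ∈ O ∩ C).2, hz'c⟩
      · obtain ⟨z', hz', hz'c⟩ := nonempty_inter_closedPoints (Z := Oᶜ) ⟨z, hzO⟩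
          hO.isClosed_compl.isLocallyClosed
        exact ⟨z', fun h => hz' (hOC ▸ h : z' ∈ O ∩ C).1, hz'c⟩
    obtain ⟨ζ, rfl⟩ := exists_pt_eq z' hz'c
    have h12 := hf (Pts.map_pullback_condition f f ζ)
    have h12' : ζ.1 ≫ pullback.fst f f = ζ.1 ≫ pullback.snd f f := congrArg Subtype.val h12
    have hζ : ζ.1 = (ζ.1 ≫ pullback.fst f f) ≫ pullback.diagonal f := by
      apply pullback.hom_ext
      · rw [Category.assoc, pullback.diagonal_fst, Category.comp_id]
      · rw [Category.assoc, pullback.diagonal_snd, Category.comp_id, h12']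
    apply hz'Δ
    refine ⟨(ζ.1 ≫ pullback.fst f f) cpt, ?_⟩
    rw [← Scheme.Hom.comp_apply, ← hζ]
    rfl

end Surjective

end Groth.Agent.Lib.helper26.AnPts
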