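import Mathlib
import Groth.Prelude.Def_Found
import Groth.Agent.Lib.Helper26.DimFormula4
import Groth.Agent.Lib.Helper28.Catenary

/-!
# Heights along surjections: local catenary version (helper26)
-/

set_option autoImplicit false
universe u

namespace Groth.Agent.Lib.helper26.DimFormula

open Groth.Agent.Lib.helper26.AffDomChain Groth.Agent.Lib.helper28

/-- saturated chains ending at `y` with the same head have the same length. -/
def CatBelow {B : Type u} [CommRing B] (y : PrimeSpectrum B) : Prop :=
  ∀ s t : LTSeries (PrimeSpectrum B), s.last = y → t.last = y → s.head = t.head →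
    (∀ i : Fin s.length, s (Fin.castSucc i) ⋖ s (Fin.succ i)) →
    (∀ i : Fin t.length, t (Fin.castSucc i) ⋖ t (Fin.succ i)) →
    s.length = t.length

theorem catBelow_of_isCatenary {B : Type u} [CommRing B] (h : CAlg.IsCatenary B)
    (y : PrimeSpectrum B) : CatBelow y :=
  fun s t hs ht hh h1 h2 => h.2 s t hh (hs.trans ht.symm) h1 h2

/-- if `B_M` is catenary then `B` is catenary below every prime contained in `M`. -/
theorem catBelow_of_localization {B : Type u} [CommRing B] (M : Ideal B) [M.IsPrime]
    (h : CAlg.IsCatenary (Localization.AtPrime M)) (z : PrimeSpectrum B) (hz : z.asIdeal ≤ M) :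
    CatBelow z := by
  intro s t hs ht hhead h1 h2
  let e := locEmb M.primeCompl (Localization.AtPrime M)
  have hlow : IsLowerSet (Set.range e) := by
    rw [range_locEmb]; exact isLowerSet_disjoint _
  have hzmem : z ∈ Set.range e := by
    rw [range_locEmb]
    change Disjoint (M.primeCompl : Set B) (z.asIdeal : Set B)
    rw [Set.disjoint_left]
    intro x hx hxz
    exact hx (hz hxz)
  have hmems : ∀ i, s i ∈ Set.range e := fun i => hlow (hs ▸ ltSeries_le_last s i) hzmem
  have hmemt : ∀ i, t i ∈ Set.range e := fun i => hlow (ht ▸ ltSeries_le_last t i) hzmem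
  have := h.2 (ltSeriesPullback e s hmems) (ltSeriesPullback e t hmemt)
    (e.injective (by
      change e ((ltSeriesPullback e s hmems) 0) = e ((ltSeriesPullback e t hmemt) 0)
      rw [ltSeriesPullback_apply, ltSeriesPullback_apply]; exact hhead))
    (e.injective (by
      change e ((ltSeriesPullback e s hmems) (Fin.last _)) = e ((ltSeriesPullback e t hmemt) (Fin.last _))
      rw [ltSeriesPullback_apply, ltSeriesPullback_apply]; exact hs.trans ht.symm))
    (fun i => CovBy.of_image e (by
      rw [ltSeriesPullback_apply, ltSeriesPullback_apply]; exact h1 i))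
    (fun i => CovBy.of_image e (by
      rw [ltSeriesPullback_apply, ltSeriesPullback_apply]; exact h2 i))
  exact this

section Catenary

variable {B : Type u} [CommRing B] [IsDomain B] [IsNoetherianRing B]

/-- if `B` is catenary below `y`, then `x ⋖ y` implies `ht y = ht x + 1`. -/
theorem height_covBy_of_catBelow {x y : PrimeSpectrum B} (hB : CatBelow y) (h : x ⋖ y) :
    Order.height y = Order.height x + 1 := by
  obtain ⟨m, hm⟩ := ENat.ne_top_iff_exists.mp (height_ne_top' x)
  obtain ⟨m', hm'⟩ := ENat.ne_top_iff_exists.mp (height_ne_top' y)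
  obtain ⟨f, hf0, hfl, hfs⟩ := exists_sat_chain_of_height m x hm.symm
  obtain ⟨g, hg0, hgl, hgs⟩ := exists_sat_chain_of_height m' y hm'.symm
  have hs1 := snoc_covBy (y := y) (f := f) (by rw [hfl]; exact h) hfs
  let s : LTSeries (PrimeSpectrum B) :=
    { length := m + 1, toFun := Fin.snoc f y, step := fun i => (hs1 i).lt }
  let t : LTSeries (PrimeSpectrum B) :=
    { length := m', toFun := g, step := fun i => (hgs i).lt }
  have hhead : s.head = t.head := by
    change (Fin.snoc f y : Fin (m + 2) → PrimeSpectrum B) 0 = g 0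
    have : (Fin.snoc f y : Fin (m + 2) → PrimeSpectrum B) 0 = f 0 := by
      rw [← Fin.castSucc_zero, Fin.snoc_castSucc]
    rw [this]
    apply PrimeSpectrum.ext
    rw [asIdeal_eq_bot_of_isMin _ hf0, asIdeal_eq_bot_of_isMin _ hg0]
  have hlasts : s.last = y := by
    change (Fin.snoc f y : Fin (m + 2) → PrimeSpectrum B) (Fin.last (m + 1)) = y
    rw [Fin.snoc_last]
  have hlastt : t.last = y := hgl
  have key : m + 1 = m' := hB s t hlasts hlastt hhead hs1 hgs
  rw [← hm, ← hm', ← key]
  push_cast; rfl

/-- along a saturated chain, height grows by exactly one (local catenary version). -/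
theorem height_sat_chain_of_catBelow {n : ℕ}
    (c : Fin (n + 1) → PrimeSpectrum B) (hc : ∀ i : Fin n, c i.castSucc ⋖ c i.succ)
    (hB : ∀ i : Fin (n + 1), CatBelow (c i))
    (i : Fin (n + 1)) : Order.height (c i) = Order.height (c 0) + (i : ℕ) := by
  induction i using Fin.induction with
  | zero => simp
  | succ i ih =>
    rw [height_covBy_of_catBelow (hB i.succ) (hc i), ih]
    simp only [Fin.val_castSucc, Fin.val_succ, Nat.cast_add, Nat.cast_one]
    ring

/-- local catenary version of `height_add_height_ker_eq`. -/
theorem height_add_height_ker_eq' {S : Type u} [CommRing S] [IsDomain S]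
    (φ : B →+* S) (hφ : Function.Surjective φ) (q : Ideal S) [q.IsPrime]
    (hB : ∀ z : PrimeSpectrum B, z.asIdeal ≤ q.comap φ → CatBelow z) :
    q.height + (RingHom.ker φ).height = (q.comap φ).height := by
  have hS : IsNoetherianRing S := isNoetherianRing_of_surjective B S φ hφ
  have hkp : (RingHom.ker φ).IsPrime := RingHom.ker_isPrime φ
  let x : PrimeSpectrum S := ⟨q, inferInstance⟩
  have hx : q.height = Order.height x := PrimeSpectrum.height_eq_orderHeight x
  obtain ⟨n, hn⟩ := ENat.ne_top_iff_exists.mp (height_ne_top' x)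
  obtain ⟨g, hg0, hgl, hgs⟩ := exists_sat_chain_of_height n x hn.symm
  let e := specEmb φ hφ
  have hOC := ordConnected_range_specEmb φ hφ
  have hc : ∀ i : Fin n, e (g i.castSucc) ⋖ e (g i.succ) := fun i => (hgs i).image e hOC
  have hle : ∀ i : Fin (n + 1), g i ≤ x := by
    intro i
    rw [← hgl]
    have hmono : Monotone g := by
      apply Fin.monotone_iff_le_succ.mpr
      intro j
      exact (hgs j).lt.le
    exact hmono (Fin.le_last i)
  have hcat : ∀ i : Fin (n + 1), CatBelow (e (g i)) := by
    intro i
    apply hB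
    change (g i).asIdeal.comap φ ≤ q.comap φ
    exact Ideal.comap_mono (hle i)
  have h := height_sat_chain_of_catBelow (fun i => e (g i)) hc hcat (Fin.last n)
  change Order.height (e (g (Fin.last n))) = Order.height (e (g 0)) + ((Fin.last n : Fin (n+1)) : ℕ) at h
  rw [hgl] at h
  have h0 : e (g 0) = ⟨RingHom.ker φ, hkp⟩ := by
    apply PrimeSpectrum.ext
    change (g 0).asIdeal.comap φ = RingHom.ker φ
    rw [asIdeal_eq_bot_of_isMin _ hg0, RingHom.ker_eq_comap_bot]
  have hex : e x = ⟨q.comap φ, inferInstance⟩ := rfl
  rw [h0, hex, ← PrimeSpectrum.height_eq_orderHeight, ← PrimeSpectrum.height_eq_orderHeight] at h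
  rw [h, hx, ← hn, add_comm]
  simp

end Catenary

end Groth.Agent.Lib.helper26.DimFormula
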