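import Mathlib

/-!
# Criteria for a ring to be local (helper26)

* `isLocalRing_of_isHomeomorph_comap`: if `Spec S → Spec R` is a homeomorphism and `R` is local,
  so is `S`.
* `isLocalRing_of_surjective_of_ker_le_jacobson`: if `φ : C → C'` is surjective with kernel in the
  Jacobson radical and `C'` is local, then `C` is local.
* `isLocalHom_algebraMap_of_finite`: a finite algebra map between local rings is local.
-/

namespace Groth.Agent.Lib.helper26.LocalOfSpec

theorem isLocalRing_of_isHomeomorph_comap {R S : Type*} [CommRing R] [CommRing S] (f : R →+* S)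
    (h : IsHomeomorph (PrimeSpectrum.comap f)) [IsLocalRing R] : IsLocalRing S := by
  have hne : Nonempty (PrimeSpectrum S) := by
    obtain ⟨x, -⟩ := h.surjective (IsLocalRing.closedPoint R)
    exact ⟨x⟩
  have hnt : Nontrivial S := (PrimeSpectrum.nonempty_iff_nontrivial).mp hne
  obtain ⟨M, hM⟩ := Ideal.exists_maximal S
  apply IsLocalRing.of_unique_max_ideal
  refine ⟨M, hM, fun M' hM' => ?_⟩
  have key : ∀ N : Ideal S, ∀ hN : N.IsMaximal,
      PrimeSpectrum.comap f ⟨N, hN.isPrime⟩ = IsLocalRing.closedPoint R := by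
    intro N hN
    have h1 : IsClosed ({(⟨N, hN.isPrime⟩ : PrimeSpectrum S)} : Set (PrimeSpectrum S)) :=
      (PrimeSpectrum.isClosed_singleton_iff_isMaximal _).mpr hN
    have h2 := h.isClosedMap _ h1
    rw [Set.image_singleton, PrimeSpectrum.isClosed_singleton_iff_isMaximal] at h2
    apply PrimeSpectrum.ext
    exact (IsLocalRing.eq_maximalIdeal h2)
  have h3 := h.injective ((key M hM).trans (key M' hM').symm)
  exact (congrArg PrimeSpectrum.asIdeal h3).symm

theorem isUnit_of_isUnit_map_of_ker_le_jacobson {C C' : Type*} [CommRing C] [CommRing C']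
    (φ : C →+* C') (hφ : Function.Surjective φ) (hker : RingHom.ker φ ≤ Ideal.jacobson ⊥)
    {a : C} (ha : IsUnit (φ a)) : IsUnit a := by
  obtain ⟨b', hb'⟩ := isUnit_iff_exists_inv.mp ha
  obtain ⟨b, rfl⟩ := hφ b'
  have h1 : a * b - 1 ∈ RingHom.ker φ := by
    rw [RingHom.mem_ker, map_sub, map_mul, hb', map_one, sub_self]
  have h2 := (Ideal.mem_jacobson_bot.mp (hker h1)) 1
  rw [mul_one, sub_add_cancel] at h2
  exact isUnit_of_mul_isUnit_left h2

theorem isLocalRing_of_surjective_of_ker_le_jacobson {C C' : Type*} [CommRing C] [CommRing C']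
    (φ : C →+* C') (hφ : Function.Surjective φ) (hker : RingHom.ker φ ≤ Ideal.jacobson ⊥)
    [IsLocalRing C'] : IsLocalRing C := by
  have : Nontrivial C := RingHom.domain_nontrivial φ
  apply IsLocalRing.of_nonunits_add
  intro a b ha hb hab
  have ha' : φ a ∈ nonunits C' := fun h => ha (isUnit_of_isUnit_map_of_ker_le_jacobson φ hφ hker h)
  have hb' : φ b ∈ nonunits C' := fun h => hb (isUnit_of_isUnit_map_of_ker_le_jacobson φ hφ hker h)
  have := IsLocalRing.nonunits_add ha' hb'
  rw [← map_add] at this
  exact this (hab.map φ)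

theorem isLocalHom_algebraMap_of_finite (A A' : Type*) [CommRing A] [IsLocalRing A] [CommRing A']
    [IsLocalRing A'] [Algebra A A'] [Module.Finite A A'] : IsLocalHom (algebraMap A A') := by
  constructor
  intro a ha
  by_contra hna
  have hmem : a ∈ IsLocalRing.maximalIdeal A := (IsLocalRing.mem_maximalIdeal a).mpr hna
  have htop : (IsLocalRing.maximalIdeal A) • (⊤ : Submodule A A') = ⊤ := by
    rw [eq_top_iff]
    intro x _
    obtain ⟨u, hu⟩ := isUnit_iff_exists_inv.mp ha
    have : x = a • (u * x) := by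
      rw [Algebra.smul_def, ← mul_assoc, hu, one_mul]
    rw [this]
    exact Submodule.smul_mem_smul hmem Submodule.mem_top
  have hbot : (⊤ : Submodule A A') = ⊥ :=
    Submodule.eq_bot_of_le_smul_of_le_jacobson_bot (IsLocalRing.maximalIdeal A) ⊤
      Module.Finite.fg_top htop.ge (IsLocalRing.maximalIdeal_le_jacobson ⊥)
  have : (1 : A') ∈ (⊥ : Submodule A A') := hbot ▸ Submodule.mem_top
  rw [Submodule.mem_bot] at this
  exact one_ne_zero this

end Groth.Agent.Lib.helper26.LocalOfSpec
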