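import Mathlib
import Groth.Agent.Lib.Helper26.HenselPairIdem
import Groth.Agent.Lib.Helper26.PairHensCRT
import Groth.Agent.Lib.Helper26.PairHensIntegral
import Groth.Agent.Lib.Helper26.PairHensLocal
import Groth.Agent.Lib.Helper26.LocalOfSpec

/-!
# Finite algebras over a henselian local ring (helper26)

* `henselianLocalRing_of_finite`: a finite local algebra over a henselian local ring is henselian.
* `exists_idempotent_of_isMaximal`: for a finite algebra `C` and a maximal ideal `q` there is an
  idempotent outside `q` lying in all other maximal ideals.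
* `surjective_algebraMap_atPrime`, `henselianLocalRing_atPrime`: `C → C_q` is surjective and `C_q` is
  a henselian local ring.
-/

universe u

namespace Groth.Agent.Lib.helper26.FiniteOverHens

open IsLocalRing Groth.Agent.Lib.helper26.HenselPair Groth.Agent.Lib.helper26.PairHens
  Groth.Agent.Lib.helper26.LocalOfSpec

variable (S₀ : Type u) [CommRing S₀] [HenselianLocalRing S₀]

theorem isArtinianRing_quotient (D : Type u) [CommRing D] [Algebra S₀ D] [Module.Finite S₀ D] :
    IsArtinianRing (D ⧸ (maximalIdeal S₀).map (algebraMap S₀ D)) := by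
  let _ : Field (S₀ ⧸ maximalIdeal S₀) := Ideal.Quotient.field _
  have : Module.Finite (S₀ ⧸ maximalIdeal S₀) (D ⧸ (maximalIdeal S₀).map (algebraMap S₀ D)) :=
    Module.Finite.of_restrictScalars_finite S₀ _ _
  exact IsArtinianRing.of_finite (S₀ ⧸ maximalIdeal S₀) _

theorem henselianRing_map (D : Type u) [CommRing D] [Algebra S₀ D] [Module.Finite S₀ D] :
    HenselianRing D ((maximalIdeal S₀).map (algebraMap S₀ D)) := by
  have hS : HenselianRing S₀ (maximalIdeal S₀) := inferInstance
  have : Algebra.IsIntegral S₀ D := Algebra.IsIntegral.of_finite S₀ D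
  exact henselianRing_map_of_isIntegral hS D

/-- A finite local algebra over a henselian local ring is henselian. -/
theorem henselianLocalRing_of_finite (D : Type u) [CommRing D] [IsLocalRing D] [Algebra S₀ D]
    [Module.Finite S₀ D] : HenselianLocalRing D := by
  set J := (maximalIdeal S₀).map (algebraMap S₀ D) with hJdef
  have hJ : HenselianRing D J := henselianRing_map S₀ D
  have hart : IsArtinianRing (D ⧸ J) := isArtinianRing_quotient S₀ D
  have hle : J ≤ maximalIdeal D := by
    refine hJ.jac.trans ?_
    rw [IsLocalRing.jacobson_eq_maximalIdeal ⊥ bot_ne_top]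
  have hne : J ≠ ⊤ := fun h => (maximalIdeal.isMaximal D).ne_top (top_le_iff.mp (h ▸ hle))
  have : Nontrivial (D ⧸ J) := Ideal.Quotient.nontrivial_iff.mpr hne
  have hloc : IsLocalRing (D ⧸ J) :=
    IsLocalRing.of_surjective' (Ideal.Quotient.mk J) Ideal.Quotient.mk_surjective
  have hnil : IsNilpotent (maximalIdeal (D ⧸ J)) := by
    have := IsArtinianRing.isNilpotent_jacobson_bot (R := D ⧸ J)
    rwa [IsLocalRing.jacobson_eq_maximalIdeal ⊥ bot_ne_top] at this
  obtain ⟨n, hn⟩ := hnil
  have hker : RingHom.ker (Ideal.Quotient.mk J) ≤ Ideal.jacobson ⊥ := by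
    rw [Ideal.mk_ker]
    exact hJ.jac
  have hrad : maximalIdeal D ≤ J.radical := by
    intro x hx
    have hx' : Ideal.Quotient.mk J x ∈ maximalIdeal (D ⧸ J) := by
      rw [mem_maximalIdeal, mem_nonunits_iff]
      intro hu
      exact ((mem_maximalIdeal x).mp hx)
        (isUnit_of_isUnit_map_of_ker_le_jacobson _ Ideal.Quotient.mk_surjective hker hu)
    have h4 := Ideal.pow_mem_pow hx' n
    rw [hn, Ideal.zero_eq_bot, Ideal.mem_bot, ← map_pow, Ideal.Quotient.eq_zero_iff_mem] at h4
    exact ⟨n, h4⟩
  exact henselianLocalRing_of_henselianRing _ (henselianRing_of_le_radical hJ hle hrad)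

variable (C : Type u) [CommRing C] [Algebra S₀ C] [Module.Finite S₀ C]

include S₀

/-- For a maximal ideal `q` of a finite algebra over a henselian local ring there is an idempotent
outside `q` lying in every other maximal ideal. -/
theorem exists_idempotent_of_isMaximal (q : Ideal C) [hq : q.IsMaximal] :
    ∃ e : C, IsIdempotentElem e ∧ e ∉ q ∧ ∀ m' : Ideal C, m'.IsMaximal → m' ≠ q → e ∈ m' := by
  set J := (maximalIdeal S₀).map (algebraMap S₀ C) with hJdef
  have hJ : HenselianRing C J := henselianRing_map S₀ C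
  have hart : IsArtinianRing (C ⧸ J) := isArtinianRing_quotient S₀ C
  have hJle : ∀ m' : Ideal C, m'.IsMaximal → J ≤ m' := fun m' hm' =>
    hJ.jac.trans (sInf_le ⟨bot_le, hm'⟩)
  -- maximal ideals of the quotient
  have hbarmax : ∀ m' : Ideal C, m'.IsMaximal → (m'.map (Ideal.Quotient.mk J)).IsMaximal := by
    intro m' hm'
    rcases Ideal.map_eq_top_or_isMaximal_of_surjective (Ideal.Quotient.mk J)
      Ideal.Quotient.mk_surjective hm' with h | h
    · exfalso
      have h2 := Ideal.comap_map_mk (hJle m' hm')
      rw [h, Ideal.comap_top] at h2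
      exact hm'.ne_top h2.symm
    · exact h
  have hmem : ∀ m' : Ideal C, m'.IsMaximal → ∀ x : C,
      Ideal.Quotient.mk J x ∈ m'.map (Ideal.Quotient.mk J) ↔ x ∈ m' := by
    intro m' hm' x
    rw [← Ideal.mem_comap, Ideal.comap_map_mk (hJle m' hm')]
  let qb : MaximalSpectrum (C ⧸ J) := ⟨q.map (Ideal.Quotient.mk J), hbarmax q hq⟩
  classical
  let E := IsArtinianRing.quotNilradicalEquivPi (C ⧸ J)
  obtain ⟨xb, hxb⟩ := Ideal.Quotient.mk_surjective (E.symm (Pi.single qb 1))
  obtain ⟨x, rfl⟩ := Ideal.Quotient.mk_surjective xb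
  have hcomp : ∀ n : MaximalSpectrum (C ⧸ J),
      Ideal.Quotient.mk n.asIdeal (Ideal.Quotient.mk J x) = (Pi.single qb (1 : (C ⧸ J) ⧸ qb.asIdeal) :
        ∀ n : MaximalSpectrum (C ⧸ J), (C ⧸ J) ⧸ n.asIdeal) n := by
    intro n
    have h1 : E (Ideal.Quotient.mk _ (Ideal.Quotient.mk J x)) = Pi.single qb 1 := by
      rw [hxb, AlgEquiv.apply_symm_apply]
    exact congrFun h1 n
  -- `x * x - x` is in the radical of `J`
  have hxx : x * x - x ∈ J.radical := by
    have h1 : Ideal.Quotient.mk J (x * x - x) ∈ nilradical (C ⧸ J) := by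
      rw [IsArtinianRing.nilradical_eq_iInf, Ideal.mem_iInf]
      intro n
      rw [← Ideal.Quotient.eq_zero_iff_mem, map_sub, map_mul, map_sub, map_mul, hcomp n]
      by_cases hn : n = qb
      · subst hn
        simp
      · rw [Pi.single_eq_of_ne hn]
        simp
    rw [mem_nilradical] at h1
    obtain ⟨k, hk⟩ := h1
    rw [← map_pow, Ideal.Quotient.eq_zero_iff_mem] at hk
    exact ⟨k, hk⟩
  have hrad : HenselianRing C J.radical := henselianRing_of_le_radical hJ Ideal.le_radical le_rfl
  obtain ⟨e, he, hex⟩ := exists_idempotent_sub_mem hrad x hxx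
  have hradle : ∀ m' : Ideal C, m'.IsMaximal → J.radical ≤ m' := fun m' hm' =>
    (hm'.isPrime.radical_le_iff).mpr (hJle m' hm')
  have hiff : ∀ m' : Ideal C, m'.IsMaximal → (e ∈ m' ↔ x ∈ m') := by
    intro m' hm'
    have h1 : e - x ∈ m' := hradle m' hm' hex
    constructor
    · intro h
      have := m'.sub_mem h h1
      rwa [sub_sub_cancel] at this
    · intro h
      have := m'.add_mem h1 h
      rwa [sub_add_cancel] at this
  refine ⟨e, he, ?_, ?_⟩
  · rw [hiff q hq, ← hmem q hq, ← Ideal.Quotient.eq_zero_iff_mem]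
    have := hcomp qb
    rw [Pi.single_eq_same] at this
    show ¬ Ideal.Quotient.mk qb.asIdeal (Ideal.Quotient.mk J x) = 0
    rw [this]
    have : Nontrivial ((C ⧸ J) ⧸ qb.asIdeal) :=
      Ideal.Quotient.nontrivial_iff.mpr qb.isMaximal.ne_top
    exact one_ne_zero
  · intro m' hm' hne
    rw [hiff m' hm', ← hmem m' hm', ← Ideal.Quotient.eq_zero_iff_mem]
    let mb : MaximalSpectrum (C ⧸ J) := ⟨m'.map (Ideal.Quotient.mk J), hbarmax m' hm'⟩
    have hmbne : mb ≠ qb := by
      intro h
      apply hne
      have h2 : m'.map (Ideal.Quotient.mk J) = q.map (Ideal.Quotient.mk J) :=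
        congrArg MaximalSpectrum.asIdeal h
      have h3 := congrArg (Ideal.comap (Ideal.Quotient.mk J)) h2
      rwa [Ideal.comap_map_mk (hJle m' hm'), Ideal.comap_map_mk (hJle q hq)] at h3
    have := hcomp mb
    rw [Pi.single_eq_of_ne hmbne] at this
    exact this

/-- `C → C_q` is surjective for a maximal ideal `q` of a finite algebra over a henselian local ring. -/
theorem surjective_algebraMap_atPrime (q : Ideal C) [hq : q.IsMaximal] :
    Function.Surjective (algebraMap C (Localization.AtPrime q)) := by
  obtain ⟨e, he, heq, hem⟩ := exists_idempotent_of_isMaximal S₀ C q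
  -- `e` maps to `1`
  have he1 : algebraMap C (Localization.AtPrime q) e = 1 := by
    have hu : IsUnit (algebraMap C (Localization.AtPrime q) e) :=
      IsLocalization.map_units _ (⟨e, heq⟩ : q.primeCompl)
    have h2 : algebraMap C (Localization.AtPrime q) e * algebraMap C (Localization.AtPrime q) e =
        algebraMap C (Localization.AtPrime q) e := by
      rw [← map_mul, he.eq]
    have h3 : algebraMap C (Localization.AtPrime q) e *
        (algebraMap C (Localization.AtPrime q) e - 1) = 0 := by
      rw [mul_sub, h2, mul_one, sub_self]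
    have := (hu.mul_right_eq_zero).mp h3
    exact sub_eq_zero.mp this
  intro y
  obtain ⟨c, s, rfl⟩ := IsLocalization.exists_mk'_eq q.primeCompl y
  -- `u = s e + (1 - e)` is a unit of `C`
  have hu : IsUnit ((s : C) * e + (1 - e)) := by
    by_contra hnu
    obtain ⟨M, hM, hMu⟩ := exists_max_ideal_of_mem_nonunits (mem_nonunits_iff.mpr hnu)
    by_cases hMq : M = q
    · subst hMq
      -- modulo `q`, `e ≡ 1`
      have h1 : (1 : C) - e ∈ M := by
        have h2 : e * (1 - e) ∈ M := by
          have : e * (1 - e) = 0 := by rw [mul_sub, mul_one, he.eq, sub_self]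
          rw [this]; exact M.zero_mem
        exact (hM.isPrime.mem_or_mem h2).resolve_left heq
      have h3 : (s : C) * e ∈ M := by
        have := M.sub_mem hMu h1
        rwa [add_sub_cancel_right] at this
      rcases hM.isPrime.mem_or_mem h3 with h | h
      · exact s.2 h
      · exact heq h
    · have h1 : e ∈ M := hem M hM hMq
      have h2 : (s : C) * e ∈ M := M.mul_mem_left _ h1
      have h3 : (1 : C) - e ∈ M := by
        have := M.sub_mem hMu h2
        rwa [add_sub_cancel_left] at this
      have h4 : (1 : C) ∈ M := by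
        have := M.add_mem h3 h1
        rwa [sub_add_cancel] at this
      exact hM.ne_top ((Ideal.eq_top_iff_one M).mpr h4)
  obtain ⟨u, hu'⟩ := hu
  refine ⟨c * e * (↑u⁻¹ : C), ?_⟩
  rw [IsLocalization.eq_mk'_iff_mul_eq, ← map_mul]
  -- `e * u = s * e`
  have h5 : e * (u : C) = (s : C) * e := by
    rw [hu', mul_add, mul_sub, mul_one, he.eq, sub_self, add_zero, mul_comm (s : C) e, ← mul_assoc,
      he.eq]
  have h6 : c * e * (↑u⁻¹ : C) * (s : C) = c * e := by
    have : c * e * (↑u⁻¹ : C) * (s : C) = c * ((s : C) * e) * (↑u⁻¹ : C) := by ring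
    rw [this, ← h5]
    have : c * (e * (u : C)) * (↑u⁻¹ : C) = c * e * ((u : C) * (↑u⁻¹ : C)) := by ring
    rw [this, Units.mul_inv, mul_one]
  rw [h6, map_mul, he1, mul_one]

theorem finite_atPrime (q : Ideal C) [hq : q.IsMaximal] :
    Module.Finite S₀ (Localization.AtPrime q) :=
  Module.Finite.of_surjective (IsScalarTower.toAlgHom S₀ C (Localization.AtPrime q)).toLinearMap
    (surjective_algebraMap_atPrime S₀ C q)

/-- The localization of a finite algebra over a henselian local ring at a maximal ideal is a
henselian local ring. -/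
theorem henselianLocalRing_atPrime (q : Ideal C) [hq : q.IsMaximal] :
    HenselianLocalRing (Localization.AtPrime q) := by
  have := finite_atPrime S₀ C q
  exact henselianLocalRing_of_finite S₀ (Localization.AtPrime q)

end Groth.Agent.Lib.helper26.FiniteOverHens
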