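import Mathlib
import Groth.Agent.Lib.Helper26.CM5

/-!
# Cohen–Macaulay modules, part 6 (helper26): the unmixedness criterion
-/

set_option autoImplicit false
universe u

open CategoryTheory Abelian RingTheory.Sequence LocCoh IsLocalRing
open scoped Pointwise nonZeroDivisors

namespace Groth.Agent.Lib.helper26.Depth

section

variable {A : Type u} [CommRing A] [IsNoetherianRing A] [IsLocalRing A]

/-- if no associated prime of `N` is the maximal ideal, there is an `N`-regular element in the
maximal ideal. -/
lemma exists_isSMulRegular_mem_maximalIdeal (N : Type u) [AddCommGroup N] [Module A N]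
    [Module.Finite A N] (h : maximalIdeal A ∉ associatedPrimes A N) :
    ∃ x ∈ maximalIdeal A, IsSMulRegular N x := by
  by_contra hcon
  push Not at hcon
  have hfin := associatedPrimes.finite A N
  have hsub : ((maximalIdeal A : Ideal A) : Set A) ⊆
      ⋃ p ∈ (↑hfin.toFinset : Set (Ideal A)), (p : Set A) := by
    intro x hx
    have hx' := hcon x hx
    have hmem : x ∈ ⋃ p ∈ associatedPrimes A N, (p : Set A) := by
      rw [biUnion_associatedPrimes_eq_compl_regular A N]
      exact hx'
    simp only [Set.mem_iUnion, SetLike.mem_coe, exists_prop] at hmem ⊢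
    obtain ⟨p, hp, hxp⟩ := hmem
    exact ⟨p, hfin.mem_toFinset.mpr hp, hxp⟩
  obtain ⟨p, hp, hle⟩ := (Ideal.subset_union_prime (f := fun p : Ideal A => p) ⊤ ⊤
    (fun p hp _ _ => (hfin.mem_toFinset.mp hp).isPrime)).mp hsub
  have hp' : p ∈ associatedPrimes A N := hfin.mem_toFinset.mp hp
  have hprime : p.IsPrime := hp'.isPrime
  have : p = maximalIdeal A :=
    le_antisymm (IsLocalRing.le_maximalIdeal hprime.ne_top) hle
  exact h (this ▸ hp')

/-- unmixedness criterion for Cohen–Macaulayness. -/
theorem isCohenMacaulayModule_of_unmixed (M : Type u) [AddCommGroup M] [Module A M]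
    [Module.Finite A M] [Nontrivial M]
    (h : ∀ xs : List A, (∀ x ∈ xs, x ∈ maximalIdeal A) →
      Module.supportDim A (M ⧸ (Ideal.ofList xs • (⊤ : Submodule A M))) + xs.length =
        Module.supportDim A M →
        ∀ p ∈ associatedPrimes A (M ⧸ (Ideal.ofList xs • (⊤ : Submodule A M))),
          ringKrullDim (A ⧸ p) =
            Module.supportDim A (M ⧸ (Ideal.ofList xs • (⊤ : Submodule A M)))) :
    IsCohenMacaulayModule A M := by
  obtain ⟨n, hn⟩ := exists_nat_supportDim (A := A) M
  have key : ∀ k : ℕ, k ≤ n → ∃ xs : List A, xs.length = k ∧ (∀ x ∈ xs, x ∈ maximalIdeal A) ∧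
      IsWeaklyRegular M xs := by
    intro k
    induction k with
    | zero => exact fun _ => ⟨[], rfl, by simp, IsWeaklyRegular.nil A M⟩
    | succ k ih =>
      intro hk
      obtain ⟨xs, hlen, hmem, hreg⟩ := ih (by omega)
      have hreg' : IsRegular M xs :=
        isRegular_of_mem (I := maximalIdeal A) (maximalIdeal_smul_top_ne_top M) hreg hmem
      have hdim := Module.supportDim_add_length_eq_supportDim_of_isRegular xs hreg'
      have hass := h xs hmem hdim
      have hntN := nontrivial_quot_ofList xs M hmem
      obtain ⟨l, hl⟩ := exists_nat_supportDim (A := A)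
        (M ⧸ (Ideal.ofList xs • (⊤ : Submodule A M)))
      rw [hl, hn, hlen] at hdim
      have g1 : l + k = n := by exact_mod_cast hdim
      have hnotmem : maximalIdeal A ∉
          associatedPrimes A (M ⧸ (Ideal.ofList xs • (⊤ : Submodule A M))) := by
        intro hm
        have h1 := hass _ hm
        have hfld : IsField (A ⧸ maximalIdeal A) :=
          (Ideal.Quotient.maximal_ideal_iff_isField_quotient _).mp (maximalIdeal.isMaximal A)
        rw [hl, ringKrullDim_eq_zero_of_isField hfld] at h1
        have : (0 : ℕ) = l := by exact_mod_cast h1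
        omega
      obtain ⟨x, hx, hxreg⟩ := exists_isSMulRegular_mem_maximalIdeal _ hnotmem
      refine ⟨xs ++ [x], by simp [hlen], ?_, ?_⟩
      · intro y hy
        rcases List.mem_append.mp hy with h' | h'
        · exact hmem y h'
        · rw [List.mem_singleton] at h'
          exact h' ▸ hx
      · exact (isWeaklyRegular_append_iff M xs [x]).mpr
          ⟨hreg, (isWeaklyRegular_singleton_iff _ x).mpr hxreg⟩
  obtain ⟨xs, hlen, hmem, hreg⟩ := key n le_rfl
  have h1 := length_le_idealDepth (I := maximalIdeal A) hreg hmem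
  have h2 := depth_le_supportDim (A := A) M
  obtain ⟨d, hd⟩ := exists_nat_depth (A := A) M
  unfold IsCohenMacaulayModule
  unfold depth at hd h2 ⊢
  rw [hd, hlen] at h1
  rw [hd, hn] at h2
  have g1 : n ≤ d := by exact_mod_cast h1
  have g2 : d ≤ n := by exact_mod_cast h2
  rw [hn, hd]
  have : n = d := by omega
  rw [this]
  rfl

end

end Groth.Agent.Lib.helper26.Depth
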