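import Mathlib
import Groth.Agent.Lib.Helper26.CM6
import Groth.Agent.Lib.Helper26.SuppLoc

/-!
# Serre's condition `(S_1)` = no embedded primes (helper26)
-/

set_option autoImplicit false
universe u

open CategoryTheory Abelian RingTheory.Sequence LocCoh IsLocalRing
open scoped Pointwise

namespace Groth.Agent.Lib.helper26.Depth

section

variable {R : Type u} [CommRing R] [IsNoetherianRing R] (M : Type u) [AddCommGroup M] [Module R M]
  [Module.Finite R M]

/-- `p ∈ Ass M` iff `p R_p ∈ Ass M_p`. -/
lemma maximalIdeal_mem_associatedPrimes_localization_iff (p : Ideal R) [p.IsPrime] :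
    maximalIdeal (Localization.AtPrime p) ∈
      associatedPrimes (Localization.AtPrime p) (LocalizedModule p.primeCompl M) ↔
    p ∈ associatedPrimes R M := by
  constructor
  · intro hass
    have h1 := Module.associatedPrimes.comap_mem_associatedPrimes_of_mem_associatedPrimes_of_isLocalizedModule_of_fg
      p.primeCompl (LocalizedModule.mkLinearMap p.primeCompl M)
      (maximalIdeal (Localization.AtPrime p)) hass
      ((isNoetherianRing_iff_ideal_fg R).mp inferInstance _)
    have h2 : Ideal.comap (algebraMap R (Localization.AtPrime p))
        (maximalIdeal (Localization.AtPrime p)) = p := Localization.AtPrime.under_maximalIdeal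
    rw [h2] at h1
    exact h1
  · intro h
    exact Module.associatedPrimes.mem_associatedPrimes_atPrime_of_mem_associatedPrimes h

/-- depth of `M_p` is positive iff `p ∉ Ass M` (for `p ∈ Supp M`). -/
lemma one_le_depth_localization_of_not_mem_associatedPrimes (p : Ideal R) [p.IsPrime]
    (hp : p ∉ associatedPrimes R M) :
    (1 : ℕ∞) ≤ depth (Localization.AtPrime p) (LocalizedModule p.primeCompl M) := by
  have hm : maximalIdeal (Localization.AtPrime p) ∉
      associatedPrimes (Localization.AtPrime p) (LocalizedModule p.primeCompl M) :=
    fun h => hp ((maximalIdeal_mem_associatedPrimes_localization_iff M p).mp h)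
  obtain ⟨x, hx, hxreg⟩ := exists_isSMulRegular_mem_maximalIdeal _ hm
  have := length_le_idealDepth (I := maximalIdeal (Localization.AtPrime p))
    (M := LocalizedModule p.primeCompl M) (rs := [x])
    ((isWeaklyRegular_singleton_iff _ x).mpr hxreg) (by simpa using hx)
  unfold depth
  simpa using this

/-- no embedded primes iff `(S_1)`. -/
theorem hasSk_one_iff :
    (∀ p ∈ associatedPrimes R M, p ∈ (Module.annihilator R M).minimalPrimes) ↔
      LocCoh.HasSk 1 R M := by
  constructor
  · intro h p _
    by_cases hnt : Nontrivial (LocalizedModule p.primeCompl M)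
    · have hp : (⟨p, inferInstance⟩ : PrimeSpectrum R) ∈ Module.support R M := hnt
      by_cases hdim : Module.supportDim (Localization.AtPrime p)
          (LocalizedModule p.primeCompl M) ≤ 0
      · refine (min_le_right _ _).trans (hdim.trans ?_)
        exact WithBot.coe_le_coe.mpr zero_le
      · have hnot : p ∉ associatedPrimes R M := by
          intro hass
          exact hdim ((SuppLoc.supportDim_localizedModule_le_zero_iff p M hp).mpr (h p hass))
        have h1 := one_le_depth_localization_of_not_mem_associatedPrimes M p hnot
        refine (min_le_left _ _).trans ?_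
        exact_mod_cast h1
    · rw [not_nontrivial_iff_subsingleton] at hnt
      rw [Module.supportDim_eq_bot_of_subsingleton]
      simp
  · intro h p hp
    obtain ⟨hprime, h0⟩ := depth_localization_eq_zero_of_mem_associatedPrimes M p hp
    have h1 := h p
    rw [h0] at h1
    obtain ⟨_, hsupp⟩ := mem_support_of_mem_associatedPrimes M p hp
    refine (SuppLoc.supportDim_localizedModule_le_zero_iff p M hsupp).mp ?_
    rcases min_le_iff.mp h1 with h2 | h2
    · exfalso
      have : (1 : ℕ∞) ≤ 0 := by exact_mod_cast h2
      simp at this
    · exact_mod_cast h2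

end

end Groth.Agent.Lib.helper26.Depth
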