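import Groth.Prelude.Def_MeroDiv
import Mathlib

/-!
Sections of the sheaf of meromorphic functions `Mero.kmod X` whose values lie in the local rings.
-/

set_option autoImplicit false
universe u
open CategoryTheory AlgebraicGeometry TopologicalSpace Opposite

namespace Groth.Agent.Lib.helper26

open Mero

/-- Two fractions with regular denominators agree in `K_{X,x}` iff they agree after cross multiplication. -/
theorem kstalk_mk_eq_mk_iff {X : Scheme.{u}} (x : X) (a c : X.presheaf.stalk x)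
    (b d : Mero.regStalk X x) :
    (LocalizedModule.mk a b : Mero.KStalk X x) = LocalizedModule.mk c d ↔
      (d : X.presheaf.stalk x) * a = (b : X.presheaf.stalk x) * c := by
  rw [LocalizedModule.mk_eq]
  constructor
  · rintro ⟨u, hu⟩
    have hu' : (u : X.presheaf.stalk x) * ((d : X.presheaf.stalk x) * a) =
        (u : X.presheaf.stalk x) * ((b : X.presheaf.stalk x) * c) := by
      simpa [Submonoid.smul_def] using hu
    exact (mul_cancel_left_mem_nonZeroDivisors (Mero.regStalk_le_nonZeroDivisors x u.2)).mp hu'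
  · intro h
    exact ⟨1, by simpa [Submonoid.smul_def] using h⟩

theorem kstalk_algebraMap_eq_mk {X : Scheme.{u}} (x : X) (a : X.presheaf.stalk x) :
    algebraMap (X.presheaf.stalk x) (Mero.KStalk X x) a = LocalizedModule.mk a 1 :=
  (Localization.mk_one_eq_algebraMap a).symm

/-- A section of `K_X` all of whose values lie in the local rings comes from a section of `O_X`. -/
theorem exists_section_of_forall_mem_range {X : Scheme.{u}} (W : X.Opens) (k : Γ(Mero.kmod X, W))
    (hk : ∀ x : W, k.1 x ∈ (algebraMap (X.presheaf.stalk x.1) (Mero.KStalk X x.1)).range) :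
    ∃ r : Γ(X, W), ∀ x : W, k.1 x =
      algebraMap (X.presheaf.stalk x.1) (Mero.KStalk X x.1) (X.presheaf.germ W x.1 x.2 r) := by
  -- local representatives
  have hloc : ∀ x : W, ∃ (V : X.Opens) (_ : x.1 ∈ V) (hVW : V ≤ W) (r : Γ(X, V)),
      ∀ (z : X) (hz : z ∈ V), k.1 ⟨z, hVW hz⟩ =
        algebraMap (X.presheaf.stalk z) (Mero.KStalk X z) (X.presheaf.germ V z hz r) := by
    intro x
    obtain ⟨V₀, hxV₀, i, a, b, w⟩ := k.2 x
    obtain ⟨c₀, hc₀⟩ := hk x
    obtain ⟨V', hxV', c, hc⟩ := X.presheaf.exists_germ_eq c₀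
    -- the germs of `a` and `b * c` agree at `x`
    have h1 : (LocalizedModule.mk (X.presheaf.germ V₀ x.1 hxV₀ a) (Mero.regGerm ⟨x.1, hxV₀⟩ b) :
        Mero.KStalk X x.1) = LocalizedModule.mk c₀ 1 := by
      rw [← kstalk_algebraMap_eq_mk, hc₀]
      exact (w ⟨x.1, hxV₀⟩).symm
    rw [kstalk_mk_eq_mk_iff] at h1
    have h2 : X.presheaf.germ V₀ x.1 hxV₀ a =
        X.presheaf.germ (V₀ ⊓ V') x.1 ⟨hxV₀, hxV'⟩
          (X.presheaf.map (homOfLE inf_le_left).op b.1 * X.presheaf.map (homOfLE inf_le_right).op c) := by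
      rw [map_mul, TopCat.Presheaf.germ_res_apply, TopCat.Presheaf.germ_res_apply, hc]
      simpa using h1
    obtain ⟨V, hxV, iU, iV, e⟩ := X.presheaf.germ_eq (U := V₀) (V := V₀ ⊓ V') x.1 hxV₀ ⟨hxV₀, hxV'⟩ _ _ h2
    refine ⟨V, hxV, iU.le.trans i.le, X.presheaf.map (iV ≫ homOfLE inf_le_right).op c, ?_⟩
    intro z hz
    have hw := w ⟨z, iU.le hz⟩
    dsimp only at hw
    have hw' : k.1 ⟨z, (iU.le.trans i.le) hz⟩ =
        LocalizedModule.mk (X.presheaf.germ V₀ z (iU.le hz) a) (Mero.regGerm ⟨z, iU.le hz⟩ b) := hw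
    rw [hw', kstalk_algebraMap_eq_mk, kstalk_mk_eq_mk_iff]
    have e' := congrArg (X.presheaf.germ V z hz) e
    rw [TopCat.Presheaf.germ_res_apply, TopCat.Presheaf.germ_res_apply, map_mul,
      TopCat.Presheaf.germ_res_apply, TopCat.Presheaf.germ_res_apply] at e'
    rw [TopCat.Presheaf.germ_res_apply]
    simpa using e'
  choose V hxV hVW r hr using hloc
  -- compatibility
  have hcompat : TopCat.Presheaf.IsCompatible X.presheaf V r := by
    intro x y
    refine TopCat.Presheaf.section_ext X.sheaf _ _ _ fun z hz => ?_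
    change X.presheaf.germ _ z hz (X.presheaf.map _ (r x)) = X.presheaf.germ _ z hz (X.presheaf.map _ (r y))
    rw [TopCat.Presheaf.germ_res_apply, TopCat.Presheaf.germ_res_apply]
    apply Mero.algebraMap_KStalk_injective z
    rw [← hr x z hz.1, ← hr y z hz.2]
  have hcover : W ≤ iSup V := by
    intro z hz
    exact Opens.mem_iSup.mpr ⟨⟨z, hz⟩, hxV ⟨z, hz⟩⟩
  obtain ⟨s, hs, -⟩ := X.sheaf.existsUnique_gluing' (U := V) W (fun x => homOfLE (hVW x)) hcover r hcompat
  refine ⟨s, fun x => ?_⟩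
  have := hr x x.1 (hxV x)
  have hs' : X.presheaf.map (homOfLE (hVW x)).op s = r x := hs x
  rw [this, ← hs', TopCat.Presheaf.germ_res_apply]

end Groth.Agent.Lib.helper26
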