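import Mathlib
import Groth.Prelude.Def_CAlg
import Groth.Agent.Lib.Helper26.Unmixed

/-!
# Complete intersections containing an equidimensional closed subscheme of a CM local ring
(helper26)
-/

set_option autoImplicit false
universe u

namespace Groth.Agent.Lib.helper26.Unmixed

open LocCoh IsLocalRing RingTheory.Sequence Groth.Agent.Lib.helper26.Depth

lemma withBot_aux (a : WithBot ℕ∞) (n m : ℕ) (h : (m : WithBot ℕ∞) = a + (n : WithBot ℕ∞)) :
    ∃ k : ℕ, a = (k : WithBot ℕ∞) ∧ m = k + n := by
  induction a using WithBot.recBotCoe with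
  | bot => simp at h
  | coe a =>
    induction a using ENat.recTopCoe with
    | top =>
      exfalso
      have h' : ((m : ℕ∞) : WithBot ℕ∞) = (((⊤ : ℕ∞) + (n : ℕ∞) : ℕ∞) : WithBot ℕ∞) := by
        rw [WithBot.coe_add]; exact h
      rw [WithBot.coe_inj, top_add] at h'
      exact ENat.natCast_ne_top m h'
    | coe k =>
      refine ⟨k, rfl, ?_⟩
      have h' : ((m : ℕ) : WithBot ℕ∞) = ((k + n : ℕ) : WithBot ℕ∞) := by
        rw [h]; push_cast; rfl
      exact_mod_cast h'

variable (R : Type u) [CommRing R] [hR : IsCohenMacaulayLocalRing R]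

/-- In a CM local ring: `dim R = dim R/I + ht I` for a proper ideal `I`. -/
theorem ringKrullDim_eq_quotient_add_height (I : Ideal R) (hI : I ≠ ⊤) :
    ringKrullDim R = ringKrullDim (R ⧸ I) + ((I.height : ℕ∞) : WithBot ℕ∞) := by
  have hM : IsCohenMacaulayModule R R := hR.supportDim_eq_depth
  have hring := isCohenMacaulayRing_of_local R
  have h1 := supportDim_eq_supportDim_quotient_add_idealDepth I hI R hM
  have h2 := (isCohenMacaulayRing_iff_idealDepth_eq_height R).mp hring I hI
  rw [h2, Module.supportDim_self_eq_ringKrullDim] at h1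
  rw [h1, ← Module.supportDim_quotient_eq_ringKrullDim]
  congr 1
  have hsub : (I • ⊤ : Submodule R R) = I := by
    rw [smul_eq_mul, Ideal.mul_top]
  exact Module.supportDim_eq_of_equiv (Submodule.quotEquivOfEq _ _ hsub)

theorem exists_regular_sequence_of_equidim (I : Ideal R)
    (hI : ∀ p ∈ I.minimalPrimes, ringKrullDim (R ⧸ p) = ringKrullDim (R ⧸ I)) :
    ∃ rs : List R, RingTheory.Sequence.IsWeaklyRegular R rs ∧ Ideal.ofList rs ≤ I ∧
      ringKrullDim (R ⧸ Ideal.ofList rs) = ringKrullDim (R ⧸ I) ∧
      I.minimalPrimes ⊆ (Ideal.ofList rs).minimalPrimes := by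
  by_cases hItop : I = ⊤
  · refine ⟨[1], ?_, ?_, ?_, ?_⟩
    · rw [isWeaklyRegular_cons_iff]
      exact ⟨IsSMulRegular.one R, IsWeaklyRegular.nil _ _⟩
    · rw [hItop]; exact le_top
    · have h1 : Ideal.ofList ([1] : List R) = I := by
        rw [hItop, Ideal.ofList_singleton, Ideal.span_singleton_one]
      rw [h1]
    · rw [hItop, Ideal.minimalPrimes_top]
      exact Set.empty_subset _
  · have hring := isCohenMacaulayRing_of_local R
    have hdepth := (isCohenMacaulayRing_iff_idealDepth_eq_height R).mp hring I hItop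
    obtain ⟨n, hn⟩ := ENat.ne_top_iff_exists.mp (Ideal.height_ne_top hItop)
    have hIM : (I • ⊤ : Submodule R R) ≠ ⊤ := by
      rw [smul_eq_mul, Ideal.mul_top]; exact hItop
    obtain ⟨rs, hlen, hmem, hreg⟩ :=
      exists_isWeaklyRegular_of_le (I := I) (M := R) hIM (n := n) (by rw [hdepth, hn])
    have hJI : Ideal.ofList rs ≤ I := Ideal.span_le.mpr fun r hr => hmem r hr
    have hJtop : Ideal.ofList rs ≠ ⊤ := fun h => hItop (top_le_iff.mp (h ▸ hJI))
    have hJdepth := (isCohenMacaulayRing_iff_idealDepth_eq_height R).mp hring _ hJtop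
    have hJht : (Ideal.ofList rs).height = n := by
      apply le_antisymm
      · rw [hn]; exact Ideal.height_mono hJI
      · rw [← hJdepth, ← hlen]
        exact length_le_idealDepth hreg (fun r hr => Ideal.subset_span hr)
    have e1 := ringKrullDim_eq_quotient_add_height R I hItop
    have e2 := ringKrullDim_eq_quotient_add_height R _ hJtop
    rw [← hn] at e1
    rw [hJht] at e2
    -- `dim R` is a natural number
    obtain ⟨m, hm⟩ : ∃ m : ℕ, ringKrullDim R = (m : WithBot ℕ∞) := by
      have h1 := ringKrullDim_ne_top (R := R)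
      have h2 := ringKrullDim_ne_bot (R := R)
      cases h : ringKrullDim R with
      | bot => exact absurd h h2
      | coe a =>
        cases a with
        | top => exact absurd h h1
        | coe a => exact ⟨a, rfl⟩
    rw [hm] at e1 e2
    obtain ⟨k1, hk1, hmk1⟩ := withBot_aux _ n m e1
    obtain ⟨k2, hk2, hmk2⟩ := withBot_aux _ n m e2
    have hkk : k1 = k2 := by omega
    refine ⟨rs, hreg, hJI, ?_, ?_⟩
    · rw [hk1, hk2, hkk]
    · intro p hp
      have hpp : p.IsPrime := hp.1.1
      have hptop : p ≠ ⊤ := hpp.ne_top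
      have e3 := ringKrullDim_eq_quotient_add_height R p hptop
      rw [hI p hp, hk1, hm] at e3
      obtain ⟨h, hh⟩ := ENat.ne_top_iff_exists.mp (Ideal.height_ne_top hptop)
      rw [← hh] at e3
      have e3' : ((m : ℕ) : WithBot ℕ∞) = ((k1 + h : ℕ) : WithBot ℕ∞) := by
        rw [e3]; push_cast; rfl
      have e3'' : m = k1 + h := by exact_mod_cast e3'
      have hhn : h = n := by omega
      apply Ideal.mem_minimalPrimes_of_height_le (hJI.trans hp.1.2)
      rw [hJht, ← hh, hhn]

end Groth.Agent.Lib.helper26.Unmixed
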