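import Mathlib
import Groth.Prelude.Def_CAlg
import Groth.Agent.Lib.Helper26.SkLift
import Groth.Agent.Lib.Helper26.CMLci
import Groth.Agent.Lib.Helper26.DimFormula7

/-!
# Quasi-finite algebras over polynomial rings: dimension lemmas (helper26)

* `nonempty_quotLocEquiv'` : `(A/I)_{q/I} ≃ A_q / I A_q` for `I ≤ q`.
* `height_map_mk_eq_of_cm` : if `A_q` is CM and `q₀ ≤ q` is a minimal prime then `ht (q/q₀) = ht q`.
* `height_add_trdeg_eq_of_cm` : for `S` of finite type over a field, `S_q` CM, `q₀ ≤ q` minimal: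
  `ht q + trdeg_k (S/q) = trdeg_k (S/q₀)`.
-/

set_option autoImplicit false
universe u

namespace Groth.Agent.Lib.helper26.QFinFlat

open LocCoh IsLocalRing Groth.Agent.Lib.helper26.Depth Groth.Agent.Lib.helper26.Unmixed
  Groth.Agent.Lib.helper26.DimFormula

section quot

variable {A : Type u} [CommRing A] [IsNoetherianRing A]

/-- the ring isomorphism `(A/I)_{q/I} ≅ A_q / I A_q`. -/
theorem nonempty_quotLocEquiv' (I q : Ideal A) [q.IsPrime] (hIq : I ≤ q)
    [(q.map (Ideal.Quotient.mk I)).IsPrime] :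
    Nonempty (Localization.AtPrime (q.map (Ideal.Quotient.mk I)) ≃+*
      (Localization.AtPrime q ⧸ I.map (algebraMap A (Localization.AtPrime q)))) := by
  set Q := q.map (Ideal.Quotient.mk I) with hQ
  set J : Ideal (Localization.AtPrime q) := I.map (algebraMap A (Localization.AtPrime q)) with hJ
  have hlocz : IsLocalization.AtPrime (Localization.AtPrime q ⧸ J) Q := by
    unfold IsLocalization.AtPrime
    rw [← algebraMapSubmonoid_primeCompl_eq' I q hIq]
    infer_instance
  exact ⟨(IsLocalization.algEquiv Q.primeCompl (Localization.AtPrime Q)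
      (Localization.AtPrime q ⧸ J)).toRingEquiv⟩

/-- if `A_q` is CM and `q₀ ≤ q` is a minimal prime of `A` then `ht (q/q₀) = ht q`. -/
theorem height_map_mk_eq_of_cm (q : Ideal A) [q.IsPrime]
    [hCM : IsCohenMacaulayLocalRing (Localization.AtPrime q)] (q0 : Ideal A)
    (hq0 : q0 ∈ minimalPrimes A) (hle : q0 ≤ q) [(q.map (Ideal.Quotient.mk q0)).IsPrime] :
    (q.map (Ideal.Quotient.mk q0)).height = q.height := by
  have hq0p : q0.IsPrime := hq0.1.1
  obtain ⟨σ⟩ := nonempty_quotLocEquiv' q0 q hle
  have hunder : (q0.map (algebraMap A (Localization.AtPrime q))).under A = q0 :=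
    Ideal.under_map_of_isLocalizationAtPrime (q := q) (S := Localization.AtPrime q) hle
  have hne : q0.map (algebraMap A (Localization.AtPrime q)) ≠ ⊤ := by
    intro htop
    rw [htop] at hunder
    exact hq0p.ne_top (by rw [← hunder]; rfl)
  have h1 := ringKrullDim_eq_quotient_add_height (Localization.AtPrime q)
    (q0.map (algebraMap A (Localization.AtPrime q))) hne
  have h0 : (q0.map (algebraMap A (Localization.AtPrime q))).height = 0 := by
    rw [← IsLocalization.height_under q.primeCompl, hunder]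
    exact Ideal.height_eq_zero_iff.mpr hq0
  have e1 : ringKrullDim (Localization.AtPrime (q.map (Ideal.Quotient.mk q0))) =
      (q.map (Ideal.Quotient.mk q0)).height :=
    IsLocalization.AtPrime.ringKrullDim_eq_height (q.map (Ideal.Quotient.mk q0)) _
  have e2 : ringKrullDim (Localization.AtPrime q) = q.height :=
    IsLocalization.AtPrime.ringKrullDim_eq_height q _
  rw [h0, ← ringKrullDim_eq_of_ringEquiv σ, e1, e2] at h1
  simp only [WithBot.coe_zero, add_zero] at h1
  exact_mod_cast h1.symm

end quot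

section trdeg

variable (k S : Type u) [Field k] [CommRing S] [Algebra k S] [Algebra.FiniteType k S]

/-- `ht q + trdeg_k (S/q) = trdeg_k (S/q₀)` for a minimal prime `q₀ ≤ q` when `S_q` is CM. -/
theorem height_add_trdeg_eq_of_cm (q : Ideal S) [q.IsPrime]
    [hCM : IsCohenMacaulayLocalRing (Localization.AtPrime q)] (q0 : Ideal S)
    (hq0 : q0 ∈ minimalPrimes S) (hle : q0 ≤ q) :
    (q.height : Cardinal.{u}) + Algebra.trdeg k (S ⧸ q) = Algebra.trdeg k (S ⧸ q0) := by
  have hq0p : q0.IsPrime := hq0.1.1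
  have hN : IsNoetherianRing S := Algebra.FiniteType.isNoetherianRing k S
  have hQ : (q.map (Ideal.Quotient.mk q0)).IsPrime :=
    Ideal.map_isPrime_of_surjective Ideal.Quotient.mk_surjective (by rwa [Ideal.mk_ker])
  have key := height_add_trdeg_quotient k (S ⧸ q0) (q.map (Ideal.Quotient.mk q0))
  rw [height_map_mk_eq_of_cm q q0 hq0 hle] at key
  rw [← key]
  congr 1
  let e : ((S ⧸ q0) ⧸ q.map (Ideal.Quotient.mk q0)) ≃ₐ[k] S ⧸ q :=
    AlgEquiv.ofRingEquiv (f := DoubleQuot.quotQuotEquivQuotOfLE hle) fun _ => rfl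
  exact e.trdeg_eq.symm

end trdeg

end Groth.Agent.Lib.helper26.QFinFlat
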