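import Mathlib

/-!
# Localization at a prime of a quotient whose kernel is killed outside the prime
-/

set_option autoImplicit false

namespace Groth.Agent.Lib.helper26.LocQuot

/-- If `π : R → S` is surjective, `P = π⁻¹ Q` and every element of `ker π` is killed by an
element outside `P`, then `R_P → S_Q` is bijective. -/
theorem localRingHom_bijective {R S : Type*} [CommRing R] [CommRing S] (π : R →+* S)
    (hπ : Function.Surjective π) (P : Ideal R) [P.IsPrime] (Q : Ideal S) [Q.IsPrime]
    (h : P = Q.comap π) (hker : ∀ x ∈ RingHom.ker π, ∃ w, w ∉ P ∧ w * x = 0) :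
    Function.Bijective (Localization.localRingHom P Q π h) := by
  constructor
  · rw [injective_iff_map_eq_zero]
    intro z hz
    obtain ⟨x, u, rfl⟩ := IsLocalization.exists_mk'_eq P.primeCompl z
    rw [Localization.localRingHom_mk', IsLocalization.mk'_eq_zero_iff] at hz
    obtain ⟨⟨w, hw⟩, hwx⟩ := hz
    obtain ⟨w', rfl⟩ := hπ w
    have hw' : w' ∉ P := by
      intro hmem
      apply hw
      rw [h] at hmem
      exact hmem
    have hk : w' * x ∈ RingHom.ker π := by
      rw [RingHom.mem_ker, map_mul]
      exact hwx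
    obtain ⟨v, hv, hvx⟩ := hker _ hk
    rw [IsLocalization.mk'_eq_zero_iff]
    refine ⟨⟨v * w', ?_⟩, ?_⟩
    · exact (‹P.IsPrime›).mul_notMem hv hw'
    · show v * w' * x = 0
      rw [mul_assoc]; exact hvx
  · intro z
    obtain ⟨b, v, rfl⟩ := IsLocalization.exists_mk'_eq Q.primeCompl z
    obtain ⟨x, rfl⟩ := hπ b
    obtain ⟨u, hu⟩ := hπ v.1
    have hu' : u ∈ P.primeCompl := by
      intro hmem
      apply v.2
      rw [h] at hmem
      rw [← hu]
      exact hmem
    refine ⟨IsLocalization.mk' _ x ⟨u, hu'⟩, ?_⟩
    rw [Localization.localRingHom_mk']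
    congr 1
    exact Subtype.ext hu

/-- Transfer of "integrally closed domain" along the bijection of the previous lemma. -/
theorem isDomain_and_isIntegrallyClosed_atPrime {R S : Type*} [CommRing R] [CommRing S]
    [IsDomain S] [IsIntegrallyClosed S] (π : R →+* S)
    (hπ : Function.Surjective π) (P : Ideal R) [P.IsPrime]
    (hkerP : RingHom.ker π ≤ P)
    (hker : ∀ x ∈ RingHom.ker π, ∃ w, w ∉ P ∧ w * x = 0) :
    IsDomain (Localization.AtPrime P) ∧ IsIntegrallyClosed (Localization.AtPrime P) := by
  have hQ : (P.map π).IsPrime := Ideal.map_isPrime_of_surjective hπ hkerP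
  have hPQ : P = (P.map π).comap π := by
    rw [Ideal.comap_map_of_surjective π hπ]
    have : Ideal.comap π ⊥ = RingHom.ker π := rfl
    rw [this]
    exact (sup_eq_left.mpr hkerP).symm
  have hbij := localRingHom_bijective π hπ P (P.map π) hPQ hker
  let e : Localization.AtPrime P ≃+* Localization.AtPrime (P.map π) :=
    RingEquiv.ofBijective _ hbij
  have hic : IsIntegrallyClosed (Localization.AtPrime (P.map π)) :=
    isIntegrallyClosed_of_isLocalization (Localization.AtPrime (P.map π)) (P.map π).primeCompl
      (Ideal.primeCompl_le_nonZeroDivisors _)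
  exact ⟨MulEquiv.isDomain _ e.toMulEquiv, IsIntegrallyClosed.of_equiv e.symm⟩

end Groth.Agent.Lib.helper26.LocQuot
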