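import Mathlib

/-!
# Total ring of fractions of a reduced Noetherian ring

For a reduced Noetherian ring `A` with minimal primes `p`, we construct the `A`-algebra maps
`φ p : FractionRing A →ₐ[A] FractionRing (A ⧸ p)`, show they are jointly injective, and that
every element of `FractionRing (A ⧸ p)` lifts to an element of `FractionRing A` mapping to `0`
in the other factors.
-/

set_option autoImplicit false
universe u

namespace Groth.Agent.Lib.helper26.TotalFrac

open scoped nonZeroDivisors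

variable (A : Type u) [CommRing A]

/-- In a reduced ring, the intersection of the minimal primes is zero. -/
theorem sInf_minimalPrimes_eq_bot [IsReduced A] : sInf (minimalPrimes A) = (⊥ : Ideal A) := by
  have h1 : sInf (minimalPrimes A) = (⊥ : Ideal A).radical := Ideal.sInf_minimalPrimes
  rw [h1]
  simp

variable {A}

/-- In a reduced ring, an element avoiding all minimal primes is a nonzerodivisor. -/
theorem mem_nonZeroDivisors_of_forall_notMem [IsReduced A] {s : A}
    (hs : ∀ q ∈ minimalPrimes A, s ∉ q) : s ∈ A⁰ := by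
  rw [mem_nonZeroDivisors_iff_right]
  intro c hc
  have : c ∈ sInf (minimalPrimes A) := by
    rw [Ideal.mem_sInf]
    intro q hq
    have hq' : q.IsPrime := hq.1.1
    have : c * s ∈ q := by rw [hc]; exact q.zero_mem
    exact (hq'.mem_or_mem this).resolve_right (hs q hq)
  rw [sInf_minimalPrimes_eq_bot] at this
  exact this

theorem notMem_of_mem_nonZeroDivisors {s : A} (hs : s ∈ A⁰) {q : Ideal A}
    (hq : q ∈ minimalPrimes A) : s ∉ q := fun h =>
  Set.disjoint_left.mp (Ideal.disjoint_nonZeroDivisors_of_mem_minimalPrimes hq) h hs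

/-- For a minimal prime `p` of a Noetherian ring, there are `x ∉ p` lying in all other minimal
primes and `y ∈ p` lying in no other minimal prime. -/
theorem exists_xy [IsNoetherianRing A] {p : Ideal A} (hp : p ∈ minimalPrimes A) :
    ∃ x y : A, x ∉ p ∧ (∀ q ∈ minimalPrimes A, q ≠ p → x ∈ q) ∧ y ∈ p ∧
      (∀ q ∈ minimalPrimes A, q ≠ p → y ∉ q) := by
  classical
  have hfin : (minimalPrimes A).Finite := minimalPrimes.finite_of_isNoetherianRing A
  have hpprime : p.IsPrime := hp.1.1
  set P' : Finset (Ideal A) := hfin.toFinset.erase p with hP'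
  have hP'mem : ∀ q, q ∈ P' ↔ q ∈ minimalPrimes A ∧ q ≠ p := by
    intro q
    simp [hP', and_comm]
  have hy : ∃ y ∈ p, ∀ q ∈ P', y ∉ q := by
    by_contra hno
    push Not at hno
    have hsub : ((p : Ideal A) : Set A) ⊆ ⋃ i ∈ (↑P' : Set (Ideal A)), (id i : Ideal A) := by
      intro x hx
      obtain ⟨q, hq, hxq⟩ := hno x hx
      exact Set.mem_biUnion (by exact_mod_cast hq) hxq
    obtain ⟨q, hq, hle⟩ := (Ideal.subset_union_prime (f := id) p p (fun i hi _ _ =>
      ((hP'mem i).mp hi).1.1.1)).mp hsub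
    have hqm := (hP'mem q).mp hq
    have : q ≤ p := hqm.1.2 ⟨hpprime, bot_le⟩ hle
    exact hqm.2 (le_antisymm this hle)
  have hx : ∃ x, (∀ q ∈ P', x ∈ q) ∧ x ∉ p := by
    by_contra hno
    push Not at hno
    have hle : P'.inf id ≤ p := by
      intro y hy
      apply hno y
      intro q hq
      exact (Finset.inf_le hq : P'.inf id ≤ id q) hy
    obtain ⟨q, hq, hqle⟩ := (Ideal.IsPrime.inf_le' hpprime).mp hle
    have hqm := (hP'mem q).mp hq
    have : p ≤ q := hp.2 ⟨hqm.1.1.1, bot_le⟩ hqle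
    exact hqm.2 (le_antisymm hqle this)
  obtain ⟨x, hxq, hxp⟩ := hx
  obtain ⟨y, hyp, hyq⟩ := hy
  exact ⟨x, y, hxp, fun q hq hne => hxq q ((hP'mem q).mpr ⟨hq, hne⟩), hyp,
    fun q hq hne => hyq q ((hP'mem q).mpr ⟨hq, hne⟩)⟩

theorem isUnit_algebraMap_of_mem_nonZeroDivisors {q : Ideal A} (hq : q ∈ minimalPrimes A)
    {s : A} (hs : s ∈ A⁰) : IsUnit (algebraMap A (FractionRing (A ⧸ q)) s) := by
  have : q.IsPrime := hq.1.1
  rw [isUnit_iff_ne_zero]
  intro h0
  have h1 : algebraMap (A ⧸ q) (FractionRing (A ⧸ q)) (Ideal.Quotient.mk q s) = 0 := h0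
  rw [map_eq_zero_iff _ (IsFractionRing.injective (A ⧸ q) (FractionRing (A ⧸ q))),
    Ideal.Quotient.eq_zero_iff_mem] at h1
  exact notMem_of_mem_nonZeroDivisors hs hq h1

/-- The canonical map from the total ring of fractions to the fraction field of `A ⧸ q`,
for a minimal prime `q`. -/
noncomputable def φ (q : Ideal A) (hq : q ∈ minimalPrimes A) :
    FractionRing A →ₐ[A] FractionRing (A ⧸ q) :=
  IsLocalization.liftAlgHom (M := A⁰) (f := Algebra.ofId A (FractionRing (A ⧸ q)))
    (fun s => isUnit_algebraMap_of_mem_nonZeroDivisors hq s.2)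

theorem φ_algebraMap (q : Ideal A) (hq : q ∈ minimalPrimes A) (a : A) :
    φ q hq (algebraMap A (FractionRing A) a) = algebraMap A (FractionRing (A ⧸ q)) a :=
  (φ q hq).commutes a

theorem φ_mk'_mul (q : Ideal A) (hq : q ∈ minimalPrimes A) (a : A) (s : A⁰) :
    φ q hq (IsLocalization.mk' (FractionRing A) a s) * algebraMap A (FractionRing (A ⧸ q)) s =
      algebraMap A (FractionRing (A ⧸ q)) a := by
  rw [← φ_algebraMap q hq, ← φ_algebraMap q hq, ← map_mul, IsLocalization.mk'_spec]

theorem φ_mk'_eq_zero_iff (q : Ideal A) (hq : q ∈ minimalPrimes A) (a : A) (s : A⁰) :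
    φ q hq (IsLocalization.mk' (FractionRing A) a s) = 0 ↔ a ∈ q := by
  have hpr : q.IsPrime := hq.1.1
  have hu := isUnit_algebraMap_of_mem_nonZeroDivisors hq s.2
  have h1 := φ_mk'_mul q hq a s
  have h2 : algebraMap A (FractionRing (A ⧸ q)) a = 0 ↔ a ∈ q := by
    show algebraMap (A ⧸ q) (FractionRing (A ⧸ q)) (Ideal.Quotient.mk q a) = 0 ↔ _
    rw [map_eq_zero_iff _ (IsFractionRing.injective (A ⧸ q) (FractionRing (A ⧸ q))),
      Ideal.Quotient.eq_zero_iff_mem]
  rw [← h2, ← h1]
  constructor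
  · intro h; rw [h, zero_mul]
  · intro h; exact (hu.mul_left_eq_zero).mp h

/-- The maps `φ q` are jointly injective (for a reduced ring). -/
theorem eq_zero_of_forall_φ [IsReduced A] {z : FractionRing A}
    (h : ∀ (q : Ideal A) (hq : q ∈ minimalPrimes A), φ q hq z = 0) : z = 0 := by
  obtain ⟨a, s, rfl⟩ := IsLocalization.exists_mk'_eq A⁰ z
  have ha : a ∈ sInf (minimalPrimes A) := by
    rw [Ideal.mem_sInf]
    intro q hq
    exact (φ_mk'_eq_zero_iff q hq a s).mp (h q hq)
  rw [sInf_minimalPrimes_eq_bot] at ha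
  rw [(Ideal.mem_bot).mp ha, IsLocalization.mk'_zero]

theorem eq_of_forall_φ [IsReduced A] {z w : FractionRing A}
    (h : ∀ (q : Ideal A) (hq : q ∈ minimalPrimes A), φ q hq z = φ q hq w) : z = w := by
  rw [← sub_eq_zero]
  apply eq_zero_of_forall_φ
  intro q hq
  rw [map_sub, h q hq, sub_self]

/-- Every element of `Frac (A ⧸ p)` lifts to an element of the total ring of fractions which
maps to zero in the other factors. -/
theorem exists_lift [IsReduced A] [IsNoetherianRing A] {p : Ideal A} (hp : p ∈ minimalPrimes A)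
    (b : FractionRing (A ⧸ p)) :
    ∃ k : FractionRing A, φ p hp k = b ∧
      ∀ (q : Ideal A) (hq : q ∈ minimalPrimes A), q ≠ p → φ q hq k = 0 := by
  have hpr : p.IsPrime := hp.1.1
  obtain ⟨x, y, hxp, hxq, hyp, hyq⟩ := exists_xy hp
  obtain ⟨abar, sbar, rfl⟩ := IsLocalization.exists_mk'_eq (A ⧸ p)⁰ b
  obtain ⟨a, rfl⟩ := Ideal.Quotient.mk_surjective abar
  obtain ⟨s, hs⟩ := Ideal.Quotient.mk_surjective sbar.1
  have hsp : s ∉ p := by
    intro hmem
    have : sbar.1 = 0 := by rw [← hs]; exact Ideal.Quotient.eq_zero_iff_mem.mpr hmem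
    exact nonZeroDivisors.coe_ne_zero sbar this
  have hnzd : s * x + y ∈ A⁰ := by
    apply mem_nonZeroDivisors_of_forall_notMem
    intro q hq hmem
    have hq' : q.IsPrime := hq.1.1
    by_cases hqp : q = p
    · subst hqp
      have : s * x ∈ q := (Ideal.add_mem_iff_left _ hyp).mp hmem
      rcases hq'.mem_or_mem this with h | h
      · exact hsp h
      · exact hxp h
    · have : y ∈ q := (Ideal.add_mem_iff_right _ (Ideal.mul_mem_left _ _ (hxq q hq hqp))).mp hmem
      exact hyq q hq hqp this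
  refine ⟨IsLocalization.mk' (FractionRing A) (a * x) ⟨s * x + y, hnzd⟩, ?_, ?_⟩
  · have h1 := φ_mk'_mul p hp (a * x) ⟨s * x + y, hnzd⟩
    have hu := isUnit_algebraMap_of_mem_nonZeroDivisors hp hnzd
    apply hu.mul_left_injective
    show _ * algebraMap A (FractionRing (A ⧸ p)) (s * x + y) = _
    rw [h1]
    show algebraMap (A ⧸ p) (FractionRing (A ⧸ p)) (Ideal.Quotient.mk p (a * x)) =
      IsLocalization.mk' (FractionRing (A ⧸ p)) (Ideal.Quotient.mk p a) sbar *
        algebraMap (A ⧸ p) (FractionRing (A ⧸ p)) (Ideal.Quotient.mk p (s * x + y))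
    have hy0 : Ideal.Quotient.mk p y = 0 := Ideal.Quotient.eq_zero_iff_mem.mpr hyp
    have e1 : Ideal.Quotient.mk p (s * x + y) = sbar.1 * Ideal.Quotient.mk p x := by
      rw [map_add, hy0, add_zero, map_mul, hs]
    rw [e1, map_mul (Ideal.Quotient.mk p) a x, map_mul, map_mul, ← mul_assoc,
      IsLocalization.mk'_spec]
  · intro q hq hqp
    rw [φ_mk'_eq_zero_iff]
    exact Ideal.mul_mem_left _ _ (hxq q hq hqp)

end Groth.Agent.Lib.helper26.TotalFrac
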