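import Mathlib
import Groth.Agent.Lib.Helper26.TotalFrac
import Groth.Agent.Lib.Helper26.LocQuot

/-!
# Integral closure of a reduced Noetherian ring in its total ring of fractions
-/

set_option autoImplicit false
universe u

namespace Groth.Agent.Lib.helper26.TotalFrac

open scoped nonZeroDivisors

variable {A : Type u} [CommRing A]

theorem isIntegral_φ (q : Ideal A) (hq : q ∈ minimalPrimes A) {z : FractionRing A}
    (hz : IsIntegral A z) : IsIntegral (A ⧸ q) (φ q hq z) :=
  (hz.map (φ q hq)).tower_top

/-- The map from the integral closure of `A` in its total ring of fractions to the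
normalization of `A ⧸ q`. -/
noncomputable def π (q : Ideal A) (hq : q ∈ minimalPrimes A) :
    integralClosure A (FractionRing A) →+*
      integralClosure (A ⧸ q) (FractionRing (A ⧸ q)) :=
  RingHom.codRestrict ((φ q hq).toRingHom.comp (integralClosure A (FractionRing A)).val.toRingHom)
    (integralClosure (A ⧸ q) (FractionRing (A ⧸ q)))
    (fun z => isIntegral_φ q hq z.2)

@[simp] theorem π_coe (q : Ideal A) (hq : q ∈ minimalPrimes A)
    (z : integralClosure A (FractionRing A)) :
    ((π q hq z : integralClosure (A ⧸ q) (FractionRing (A ⧸ q))) : FractionRing (A ⧸ q)) =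
      φ q hq (z : FractionRing A) := rfl

theorem π_smul (q : Ideal A) (hq : q ∈ minimalPrimes A) (a : A)
    (z : integralClosure A (FractionRing A)) : π q hq (a • z) = a • π q hq z := by
  apply Subtype.ext
  show φ q hq (a • (z : FractionRing A)) = a • φ q hq (z : FractionRing A)
  rw [map_smul]

/-- Strong surjectivity of `π p`: every element of the normalization of `A ⧸ p` lifts to an
integral element vanishing in the other factors. -/
theorem exists_π_eq [IsReduced A] [IsNoetherianRing A] {p : Ideal A} (hp : p ∈ minimalPrimes A)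
    (b : integralClosure (A ⧸ p) (FractionRing (A ⧸ p))) :
    ∃ z : integralClosure A (FractionRing A), π p hp z = b ∧
      ∀ (q : Ideal A) (hq : q ∈ minimalPrimes A), q ≠ p → φ q hq (z : FractionRing A) = 0 := by
  have hpr : p.IsPrime := hp.1.1
  obtain ⟨k, hk, hk0⟩ := exists_lift hp (b : FractionRing (A ⧸ p))
  have hbA : IsIntegral A (b : FractionRing (A ⧸ p)) := isIntegral_trans (A := A ⧸ p) _ b.2
  obtain ⟨f, hfm, hf⟩ := hbA
  have hkint : IsIntegral A k := by
    refine ⟨Polynomial.X * f, Polynomial.monic_X.mul hfm, ?_⟩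
    rw [← Polynomial.aeval_def] at hf ⊢
    apply eq_zero_of_forall_φ
    intro q hq
    rw [← Polynomial.aeval_algHom_apply, map_mul, Polynomial.aeval_X]
    by_cases hqp : q = p
    · subst hqp
      rw [hk, hf, mul_zero]
    · rw [hk0 q hq hqp, zero_mul]
  refine ⟨⟨k, hkint⟩, Subtype.ext hk, hk0⟩

theorem π_surjective [IsReduced A] [IsNoetherianRing A] {p : Ideal A}
    (hp : p ∈ minimalPrimes A) : Function.Surjective (π p hp) := fun b => by
  obtain ⟨z, hz, -⟩ := exists_π_eq hp b
  exact ⟨z, hz⟩

theorem eq_zero_of_forall_π [IsReduced A] {z : integralClosure A (FractionRing A)}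
    (h : ∀ (q : Ideal A) (hq : q ∈ minimalPrimes A), π q hq z = 0) : z = 0 := by
  apply Subtype.ext
  apply eq_zero_of_forall_φ
  intro q hq
  have := congrArg Subtype.val (h q hq)
  exact this

end Groth.Agent.Lib.helper26.TotalFrac
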