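import Mathlib
import Groth.Agent.Lib.Helper26.TotalFracClosure

/-!
# The normalization of a reduced Noetherian ring (inside its total ring of fractions)

* `atPrime_normal`: localizations at primes are integrally closed domains;
* `finite_integralClosure`: finiteness, given finiteness of the normalizations of `A ⧸ p`;
* `isFiniteLength_of_torsionBy_nonZeroDivisor`, `length_quotient_lt_top`: in dimension `≤ 1`
  the cokernel of `A → A'` has finite length.
-/

set_option autoImplicit false
universe u

namespace Groth.Agent.Lib.helper26.TotalFrac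

open scoped nonZeroDivisors

variable {A : Type u} [CommRing A]

/-- Localizations of the normalization of a reduced Noetherian ring at primes are normal domains. -/
theorem atPrime_normal [IsReduced A] [IsNoetherianRing A]
    (P : Ideal (integralClosure A (FractionRing A))) [P.IsPrime] :
    IsDomain (Localization.AtPrime P) ∧ IsIntegrallyClosed (Localization.AtPrime P) := by
  classical
  have hfin : (minimalPrimes A).Finite := minimalPrimes.finite_of_isNoetherianRing A
  have : Fintype ↥(minimalPrimes A) := hfin.fintype
  choose e he1 he0 using fun i : ↥(minimalPrimes A) =>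
    exists_π_eq i.2 (1 : integralClosure (A ⧸ i.1) (FractionRing (A ⧸ i.1)))
  have hprod : ∏ i : ↥(minimalPrimes A), (1 - e i) = 0 := by
    apply eq_zero_of_forall_π
    intro q hq
    rw [map_prod]
    apply Finset.prod_eq_zero (Finset.mem_univ (⟨q, hq⟩ : ↥(minimalPrimes A)))
    rw [map_sub, map_one, he1 ⟨q, hq⟩, sub_self]
  have hmem : ∏ i : ↥(minimalPrimes A), (1 - e i) ∈ P := by rw [hprod]; exact P.zero_mem
  obtain ⟨i, -, hi⟩ := Ideal.IsPrime.prod_mem_iff.mp hmem
  have heP : e i ∉ P := by
    intro h
    have : (1 : integralClosure A (FractionRing A)) ∈ P := by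
      have := P.add_mem hi h
      simpa using this
    exact (‹P.IsPrime›).ne_top ((Ideal.eq_top_iff_one P).mpr this)
  have hpr : i.1.IsPrime := i.2.1.1
  have hker : ∀ x ∈ RingHom.ker (π i.1 i.2), e i * x = 0 := by
    intro x hx
    apply eq_zero_of_forall_π
    intro q hq
    rw [map_mul]
    by_cases hqp : q = i.1
    · subst hqp
      rw [(RingHom.mem_ker).mp hx, mul_zero]
    · have : π q hq (e i) = 0 := Subtype.ext (he0 i q hq hqp)
      rw [this, zero_mul]
  have hkerP : RingHom.ker (π i.1 i.2) ≤ P := by
    intro x hx
    have h0 : e i * x ∈ P := by rw [hker x hx]; exact P.zero_mem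
    exact ((‹P.IsPrime›).mem_or_mem h0).resolve_left heP
  have hic : IsIntegrallyClosed (integralClosure (A ⧸ i.1) (FractionRing (A ⧸ i.1))) :=
    integralClosure.isIntegrallyClosedOfFiniteExtension (FractionRing (A ⧸ i.1))
  exact LocQuot.isDomain_and_isIntegrallyClosed_atPrime (π i.1 i.2) (π_surjective i.2) P hkerP
    (fun x hx => ⟨e i, heP, hker x hx⟩)

/-- The normalization of a reduced Noetherian ring is finite as soon as the normalizations of the
quotients by the minimal primes are. -/
theorem finite_integralClosure [IsReduced A] [IsNoetherianRing A]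
    (h : ∀ (p : Ideal A) (_ : p ∈ minimalPrimes A),
      Module.Finite (A ⧸ p) (integralClosure (A ⧸ p) (FractionRing (A ⧸ p)))) :
    Module.Finite A (integralClosure A (FractionRing A)) := by
  classical
  have hfin : (minimalPrimes A).Finite := minimalPrimes.finite_of_isNoetherianRing A
  have : Finite ↥(minimalPrimes A) := hfin.to_subtype
  have hfi : ∀ i : ↥(minimalPrimes A),
      Module.Finite A (integralClosure (A ⧸ i.1) (FractionRing (A ⧸ i.1))) := fun i => by
    have := h i.1 i.2
    exact Module.Finite.trans (A ⧸ i.1) _
  let Ψ : integralClosure A (FractionRing A) →ₗ[A]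
      (∀ i : ↥(minimalPrimes A), integralClosure (A ⧸ i.1) (FractionRing (A ⧸ i.1))) :=
    LinearMap.pi (fun i =>
      { toFun := fun z => π i.1 i.2 z
        map_add' := fun x y => map_add _ x y
        map_smul' := fun a z => π_smul i.1 i.2 a z })
  have hinj : Function.Injective Ψ := by
    rw [← LinearMap.ker_eq_bot, LinearMap.ker_eq_bot']
    intro z hz
    apply eq_zero_of_forall_π
    intro q hq
    exact congrFun hz ⟨q, hq⟩
  exact Module.Finite.of_injective Ψ hinj

theorem isFiniteLength_of_torsionBy_nonZeroDivisor [IsNoetherianRing A]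
    (hdim : ringKrullDim A ≤ 1) (Q : Type*) [AddCommGroup Q] [Module A Q] [Module.Finite A Q]
    (s : A) (hs : s ∈ A⁰) (hsQ : ∀ x : Q, s • x = 0) : IsFiniteLength A Q := by
  have hM : Module.IsTorsionBySet A Q (Ideal.span {s} : Ideal A) := by
    have := (Module.isTorsionBySet_span_singleton_iff (R := A) (M := Q) s).mpr hsQ
    exact this
  let _ := hM.module
  have hst : IsScalarTower A (A ⧸ (Ideal.span {s} : Ideal A)) Q := hM.isScalarTower
  have hd : ringKrullDim (A ⧸ (Ideal.span {s} : Ideal A)) ≤ 0 := by
    have h1 := ringKrullDim_quotient_succ_le_of_nonZeroDivisor hs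
    have h2 := h1.trans hdim
    generalize ringKrullDim (A ⧸ (Ideal.span {s} : Ideal A)) = x at h2
    induction x with
    | bot => exact bot_le
    | coe n =>
      have : (n : WithBot ℕ∞) + 1 ≤ ((0 : ℕ∞) : WithBot ℕ∞) + 1 := by simpa using h2
      rw [← WithBot.coe_one, ← WithBot.coe_add, ← WithBot.coe_add, WithBot.coe_le_coe] at this
      have h3 : n ≤ 0 := (ENat.add_le_add_iff_right ENat.one_ne_top).mp this
      exact_mod_cast h3
  have hart : IsArtinianRing (A ⧸ (Ideal.span {s} : Ideal A)) :=
    isArtinianRing_iff_isNoetherianRing_krullDimLE_zero.mpr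
      ⟨inferInstance, Ring.krullDimLE_iff.mpr (by exact_mod_cast hd)⟩
  have hfin : Module.Finite (A ⧸ (Ideal.span {s} : Ideal A)) Q :=
    Module.Finite.of_restrictScalars_finite A _ Q
  have hA1 : IsArtinian (A ⧸ (Ideal.span {s} : Ideal A)) Q := inferInstance
  have hA2 : IsArtinian A Q :=
    isArtinian_of_surjective_algebraMap (R := A ⧸ (Ideal.span {s} : Ideal A)) (S := A)
      Ideal.Quotient.mk_surjective
  exact isFiniteLength_iff_isNoetherian_isArtinian.mpr ⟨inferInstance, hA2⟩

/-- A finite normalization has a conductor containing a nonzerodivisor. -/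
theorem exists_nonZeroDivisor_smul_mem_range
    [Module.Finite A (integralClosure A (FractionRing A))] :
    ∃ s ∈ A⁰, ∀ z : integralClosure A (FractionRing A),
      s • z ∈ LinearMap.range (Algebra.linearMap A (integralClosure A (FractionRing A))) := by
  classical
  obtain ⟨S, hS⟩ := (Module.Finite.fg_top :
    (⊤ : Submodule A (integralClosure A (FractionRing A))).FG)
  obtain ⟨b, hb⟩ := IsLocalization.exist_integer_multiples_of_finset A⁰
    (S.image (Subtype.val : integralClosure A (FractionRing A) → FractionRing A))
  refine ⟨b.1, b.2, ?_⟩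
  intro z
  have hz : z ∈ Submodule.span A (S : Set (integralClosure A (FractionRing A))) := by
    rw [hS]; trivial
  induction hz using Submodule.span_induction with
  | mem x hx =>
    obtain ⟨a, ha⟩ := hb x.1 (Finset.mem_image_of_mem _ hx)
    refine ⟨a, Subtype.ext ?_⟩
    show algebraMap A (FractionRing A) a = _
    rw [ha]
    rfl
  | zero => rw [smul_zero]; exact Submodule.zero_mem _
  | add x y _ _ hx hy => rw [smul_add]; exact Submodule.add_mem _ hx hy
  | smul a x _ hx => rw [smul_comm]; exact Submodule.smul_mem _ _ hx

theorem length_quotient_lt_top [IsNoetherianRing A] (hdim : ringKrullDim A ≤ 1)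
    [Module.Finite A (integralClosure A (FractionRing A))] :
    Module.length A (↥(integralClosure A (FractionRing A)) ⧸
      LinearMap.range (Algebra.linearMap A ↥(integralClosure A (FractionRing A)))) < ⊤ := by
  obtain ⟨s, hs, hsz⟩ := exists_nonZeroDivisor_smul_mem_range (A := A)
  have hfl := isFiniteLength_of_torsionBy_nonZeroDivisor hdim
    (↥(integralClosure A (FractionRing A)) ⧸
      LinearMap.range (Algebra.linearMap A ↥(integralClosure A (FractionRing A)))) s hs (by
      intro x
      obtain ⟨z, rfl⟩ := Submodule.Quotient.mk_surjective _ x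
      rw [← Submodule.Quotient.mk_smul, Submodule.Quotient.mk_eq_zero]
      exact hsz z)
  exact lt_top_iff_ne_top.mpr (Module.length_ne_top_iff.mpr hfl)

end Groth.Agent.Lib.helper26.TotalFrac
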