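import Mathlib
import Groth.Prelude.Def_Hensel
import Groth.Agent.Lib.Helper26.FiniteOverHens

/-!
# Strict henselization of a finite local algebra (helper26)

For a local ring `A`, a finite local `A`-algebra `B`, a strict henselization `S` of `A` and a strict
henselization `T` of `B`, the ring `T` is the localization of `B ⊗[A] S` at a maximal ideal.
-/

universe u

namespace Groth.Agent.Lib.helper26.StrictHensFinite

open IsLocalRing TensorProduct Groth.Agent.Lib.helper26.LocalOfSpec

theorem isLocalHom_of_residue {S T : Type*} [CommRing S] [IsLocalRing S] [CommRing T] [IsLocalRing T]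
    (g : S →+* T) (τ : ResidueField S →+* ResidueField T)
    (h : ∀ x, residue T (g x) = τ (residue S x)) : IsLocalHom g := by
  constructor
  intro x hx
  by_contra hnx
  have h1 : residue S x = 0 := (residue_eq_zero_iff x).mpr ((mem_maximalIdeal x).mpr hnx)
  have h2 : residue T (g x) = 0 := by rw [h, h1, map_zero]
  exact ((mem_maximalIdeal _).mp ((residue_eq_zero_iff _).mp h2)) hx

theorem ringHom_ext_tensor {A B S D : Type*} [CommRing A] [CommRing B] [CommRing S] [CommRing D]
    [Algebra A B] [Algebra A S] (g₁ g₂ : B ⊗[A] S →+* D)
    (h₁ : ∀ b : B, g₁ (b ⊗ₜ 1) = g₂ (b ⊗ₜ 1)) (h₂ : ∀ s : S, g₁ (1 ⊗ₜ s) = g₂ (1 ⊗ₜ s)) :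
    g₁ = g₂ := by
  apply RingHom.ext
  intro x
  induction x using TensorProduct.induction_on with
  | zero => simp
  | tmul a b =>
    have e : a ⊗ₜ[A] b = (a ⊗ₜ[A] (1 : S)) * ((1 : B) ⊗ₜ[A] b) := by
      rw [Algebra.TensorProduct.tmul_mul_tmul, mul_one, one_mul]
    rw [e, map_mul, map_mul, h₁, h₂]
  | add x y hx hy => rw [map_add, map_add, hx, hy]

set_option maxHeartbeats 800000 in
theorem exists_maximal_algEquiv (A B S T : Type u) [CommRing A] [IsLocalRing A]
    [CommRing B] [IsLocalRing B] [Algebra A B] [Module.Finite A B]
    [CommRing S] [IsLocalRing S] [Algebra A S] [IsLocalHom (algebraMap A S)]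
    [Hensel.IsStrictHenselization A S]
    [CommRing T] [IsLocalRing T] [Algebra B T] [IsLocalHom (algebraMap B T)]
    [Hensel.IsStrictHenselization B T] :
    ∃ (q : Ideal (B ⊗[A] S)) (_ : q.IsMaximal), Nonempty (Localization.AtPrime q ≃ₐ[B] T) := by
  have hSH : Hensel.IsStrictHenselization A S := inferInstance
  have hTH : Hensel.IsStrictHenselization B T := inferInstance
  have hShens : HenselianLocalRing S := hSH.henselian
  have hThens : HenselianLocalRing T := hTH.henselian
  have hAB : IsLocalHom (algebraMap A B) := isLocalHom_algebraMap_of_finite A B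
  -- `A`-algebra structure on `T`
  let _ : Algebra A T := ((algebraMap B T).comp (algebraMap A B)).toAlgebra
  have : IsScalarTower A B T := IsScalarTower.of_algebraMap_eq (fun _ => rfl)
  have hAT : IsLocalHom (algebraMap A T) := by
    show IsLocalHom ((algebraMap B T).comp (algebraMap A B))
    infer_instance
  -- residue fields
  have hsepS : IsSepClosure (ResidueField A) (ResidueField S) := hSH.isSepClosure
  have hsepT : IsSepClosure (ResidueField B) (ResidueField T) := hTH.isSepClosure
  have hscT : IsSepClosed (ResidueField T) := hsepT.sep_closed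
  have hscS : IsSepClosed (ResidueField S) := hsepS.sep_closed
  have hsS : Algebra.IsSeparable (ResidueField A) (ResidueField S) := hsepS.separable
  have hsT : Algebra.IsSeparable (ResidueField B) (ResidueField T) := hsepT.separable
  let τS : ResidueField S →ₐ[ResidueField A] ResidueField T := IsSepClosed.lift
  have hτS : τS.toRingHom.comp (ResidueField.map (algebraMap A S)) =
      ResidueField.map (algebraMap A T) := by
    apply RingHom.ext
    intro x
    obtain ⟨x, rfl⟩ := residue_surjective x
    show τS (algebraMap (ResidueField A) (ResidueField S) (residue A x)) = _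
    rw [τS.commutes]
    rfl
  obtain ⟨gS, ⟨hgS1, hgS2⟩, -⟩ := hSH.universal T (algebraMap A T) τS.toRingHom hτS
  have hgSloc : IsLocalHom gS := isLocalHom_of_residue gS τS.toRingHom hgS2
  -- the map `β : B ⊗ S → T`
  let gSalg : S →ₐ[A] T := { gS with commutes' := fun a => RingHom.congr_fun hgS1 a }
  let β : B ⊗[A] S →ₐ[A] T :=
    Algebra.TensorProduct.lift (IsScalarTower.toAlgHom A B T) gSalg (fun _ _ => Commute.all _ _)
  have hβB : ∀ b : B, β (b ⊗ₜ 1) = algebraMap B T b := by
    intro b
    show Algebra.TensorProduct.lift (IsScalarTower.toAlgHom A B T) gSalg _ (b ⊗ₜ 1) = _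
    rw [Algebra.TensorProduct.lift_tmul, map_one, mul_one]
    rfl
  have hβS : ∀ s : S, β (1 ⊗ₜ s) = gS s := by
    intro s
    show Algebra.TensorProduct.lift (IsScalarTower.toAlgHom A B T) gSalg _ (1 ⊗ₜ s) = _
    rw [Algebra.TensorProduct.lift_tmul, map_one, one_mul]
    rfl
  let q : Ideal (B ⊗[A] S) := Ideal.comap β (maximalIdeal T)
  have hqprime : q.IsPrime := Ideal.comap_isPrime _ _
  -- `S`-algebra structure on `B ⊗ S`
  let _ : Algebra S (B ⊗[A] S) := Algebra.TensorProduct.rightAlgebra
  have hfin : Module.Finite S (B ⊗[A] S) :=
    Module.Finite.equiv (Algebra.TensorProduct.commRight A S B).toLinearEquiv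
  have hcomapS : Ideal.comap (algebraMap S (B ⊗[A] S)) q = maximalIdeal S := by
    have h4 : Ideal.comap gS (maximalIdeal T) = maximalIdeal S :=
      ((local_hom_TFAE gS).out 0 4).mp hgSloc
    ext s
    rw [← h4, Ideal.mem_comap, Ideal.mem_comap]
    show β (1 ⊗ₜ s) ∈ _ ↔ _
    rw [hβS]
    exact Iff.rfl
  have hqmax : q.IsMaximal := by
    have : Algebra.IsIntegral S (B ⊗[A] S) := Algebra.IsIntegral.of_finite _ _
    have h5 : (Ideal.comap (algebraMap S (B ⊗[A] S)) q).IsMaximal := by
      rw [hcomapS]
      infer_instance
    exact Ideal.isMaximal_of_isIntegral_of_isMaximal_comap (R := S) q h5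
  have hCqH : HenselianLocalRing (Localization.AtPrime q) :=
    Groth.Agent.Lib.helper26.FiniteOverHens.henselianLocalRing_atPrime S (B ⊗[A] S) q
  have hCqfin : Module.Finite S (Localization.AtPrime q) :=
    Groth.Agent.Lib.helper26.FiniteOverHens.finite_atPrime S (B ⊗[A] S) q
  -- the map `βq : C_q → T`
  have hunit : ∀ y : q.primeCompl, IsUnit (β.toRingHom y) := by
    intro y
    have hy : (y : B ⊗[A] S) ∉ q := y.2
    have hy2 : ¬ (β (y : B ⊗[A] S) ∈ maximalIdeal T) := hy
    rw [mem_maximalIdeal, mem_nonunits_iff, not_not] at hy2
    exact hy2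
  let βq : Localization.AtPrime q →+* T := IsLocalization.lift hunit
  have hβq : ∀ c, βq (algebraMap (B ⊗[A] S) (Localization.AtPrime q) c) = β c :=
    fun c => IsLocalization.lift_eq hunit c
  have hβqloc : IsLocalHom βq := by
    apply ((IsLocalRing.local_hom_TFAE βq).out 0 2).mpr
    rw [← IsLocalization.AtPrime.map_eq_maximalIdeal q (Localization.AtPrime q), Ideal.map_map,
      Ideal.map_le_iff_le_comap]
    intro d hd
    rw [Ideal.mem_comap, RingHom.comp_apply, hβq]
    exact hd
  let _ : Algebra (Localization.AtPrime q) T := βq.toAlgebra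
  let _ : Algebra S T := gS.toAlgebra
  have hCqT : IsLocalHom (algebraMap (Localization.AtPrime q) T) := hβqloc
  have hST : IsLocalHom (algebraMap S T) := hgSloc
  have htowB : IsScalarTower B (Localization.AtPrime q) T := by
    refine IsScalarTower.of_algebraMap_eq (fun b => ?_)
    show algebraMap B T b = βq (algebraMap B (Localization.AtPrime q) b)
    rw [IsScalarTower.algebraMap_apply B (B ⊗[A] S) (Localization.AtPrime q), hβq]
    exact (hβB b).symm
  have htowS : IsScalarTower S (Localization.AtPrime q) T := by
    refine IsScalarTower.of_algebraMap_eq (fun s => ?_)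
    show gS s = βq (algebraMap S (Localization.AtPrime q) s)
    rw [IsScalarTower.algebraMap_apply S (B ⊗[A] S) (Localization.AtPrime q), hβq]
    exact (hβS s).symm
  have hBCq : IsLocalHom (algebraMap B (Localization.AtPrime q)) := by
    constructor
    intro b hb
    have h1 : IsUnit (algebraMap (Localization.AtPrime q) T (algebraMap B (Localization.AtPrime q) b)) :=
      hb.map _
    rw [← IsScalarTower.algebraMap_apply B (Localization.AtPrime q) T] at h1
    exact isUnit_of_map_unit (algebraMap B T) b h1
  have hSCq : IsLocalHom (algebraMap S (Localization.AtPrime q)) := by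
    constructor
    intro s hs
    have h1 : IsUnit (algebraMap (Localization.AtPrime q) T (algebraMap S (Localization.AtPrime q) s)) :=
      hs.map _
    rw [← IsScalarTower.algebraMap_apply S (Localization.AtPrime q) T] at h1
    exact isUnit_of_map_unit (algebraMap S T) s h1
  -- residue fields
  have halg : Algebra.IsAlgebraic (ResidueField S) (ResidueField (Localization.AtPrime q)) :=
    Algebra.IsAlgebraic.of_finite _ _
  have hscCq : IsSepClosed (ResidueField (Localization.AtPrime q)) :=
    Algebra.IsAlgebraic.isSepClosed (F := ResidueField S)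
  have hsCqT : Algebra.IsSeparable (ResidueField (Localization.AtPrime q)) (ResidueField T) :=
    Algebra.isSeparable_tower_top_of_isSeparable (ResidueField B) _ _
  have hbij : Function.Bijective
      (algebraMap (ResidueField (Localization.AtPrime q)) (ResidueField T)) :=
    IsSepClosed.algebraMap_bijective _ _
  let eκ : ResidueField (Localization.AtPrime q) ≃+* ResidueField T :=
    RingEquiv.ofBijective (algebraMap _ _) hbij
  have heκ : ∀ z : Localization.AtPrime q,
      eκ (residue _ z) = residue T (algebraMap (Localization.AtPrime q) T z) := fun z => rfl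
  let τT : ResidueField T →+* ResidueField (Localization.AtPrime q) := eκ.symm.toRingHom
  have hτT : τT.comp (ResidueField.map (algebraMap B T)) =
      ResidueField.map (algebraMap B (Localization.AtPrime q)) := by
    apply RingHom.ext
    intro x
    obtain ⟨b, rfl⟩ := residue_surjective x
    show eκ.symm (residue T (algebraMap B T b)) =
      residue _ (algebraMap B (Localization.AtPrime q) b)
    rw [RingEquiv.symm_apply_eq, heκ, ← IsScalarTower.algebraMap_apply B (Localization.AtPrime q) T]
  obtain ⟨α, ⟨hα1, hα2⟩, -⟩ := hTH.universal (Localization.AtPrime q)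
    (algebraMap B (Localization.AtPrime q)) τT hτT
  -- `βq ∘ α = id`
  have hβα : (algebraMap (Localization.AtPrime q) T).comp α = RingHom.id T := by
    obtain ⟨u, -, huniq⟩ := hTH.universal T (algebraMap B T) (RingHom.id _) (RingHom.id_comp _)
    have h1 : (algebraMap (Localization.AtPrime q) T).comp α = u := by
      apply huniq
      refine ⟨?_, fun x => ?_⟩
      · rw [RingHom.comp_assoc, hα1]
        exact (IsScalarTower.algebraMap_eq B (Localization.AtPrime q) T).symm
      · show residue T (algebraMap (Localization.AtPrime q) T (α x)) = residue T x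
        rw [← heκ, hα2]
        exact eκ.apply_symm_apply _
    have h2 : RingHom.id T = u := by
      apply huniq
      exact ⟨RingHom.id_comp _, fun x => rfl⟩
    rw [h1, h2]
  -- `α ∘ βq = id`
  have hres : ∀ z : Localization.AtPrime q,
      residue _ (α (algebraMap (Localization.AtPrime q) T z)) = residue _ z := by
    intro z
    rw [hα2, ← heκ]
    exact eκ.symm_apply_apply _
  have hACq : IsLocalHom (algebraMap A (Localization.AtPrime q)) := by
    rw [IsScalarTower.algebraMap_eq A B (Localization.AtPrime q)]
    infer_instance
  have hαβ : α.comp (algebraMap (Localization.AtPrime q) T) = RingHom.id _ := by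
    apply IsLocalization.ringHom_ext q.primeCompl
    apply ringHom_ext_tensor
    · intro b
      show α (algebraMap (Localization.AtPrime q) T
        (algebraMap (B ⊗[A] S) (Localization.AtPrime q) (b ⊗ₜ 1))) =
        algebraMap (B ⊗[A] S) (Localization.AtPrime q) (b ⊗ₜ 1)
      have h1 : algebraMap (B ⊗[A] S) (Localization.AtPrime q) (b ⊗ₜ 1) =
          algebraMap B (Localization.AtPrime q) b :=
        (IsScalarTower.algebraMap_apply B (B ⊗[A] S) (Localization.AtPrime q) b).symm
      rw [h1, ← IsScalarTower.algebraMap_apply B (Localization.AtPrime q) T]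
      exact RingHom.congr_fun hα1 b
    · intro s
      show α (algebraMap (Localization.AtPrime q) T
        (algebraMap (B ⊗[A] S) (Localization.AtPrime q) (1 ⊗ₜ s))) =
        algebraMap (B ⊗[A] S) (Localization.AtPrime q) (1 ⊗ₜ s)
      have h1 : algebraMap (B ⊗[A] S) (Localization.AtPrime q) (1 ⊗ₜ s) =
          algebraMap S (Localization.AtPrime q) s :=
        (IsScalarTower.algebraMap_apply S (B ⊗[A] S) (Localization.AtPrime q) s).symm
      rw [h1]
      -- uniqueness for `S`
      have htowAS : IsScalarTower A S (Localization.AtPrime q) := by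
        refine IsScalarTower.of_algebraMap_eq (fun a => ?_)
        rw [IsScalarTower.algebraMap_apply A (B ⊗[A] S) (Localization.AtPrime q),
          IsScalarTower.algebraMap_apply S (B ⊗[A] S) (Localization.AtPrime q),
          IsScalarTower.algebraMap_apply A S (B ⊗[A] S)]
      have hcompat : (ResidueField.map (algebraMap S (Localization.AtPrime q))).comp
          (ResidueField.map (algebraMap A S)) =
          ResidueField.map (algebraMap A (Localization.AtPrime q)) := by
        apply RingHom.ext
        intro x
        obtain ⟨a, rfl⟩ := residue_surjective x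
        show residue _ (algebraMap S (Localization.AtPrime q) (algebraMap A S a)) =
          residue _ (algebraMap A (Localization.AtPrime q) a)
        rw [← IsScalarTower.algebraMap_apply A S (Localization.AtPrime q)]
      obtain ⟨v, -, hvuniq⟩ := hSH.universal (Localization.AtPrime q)
        (algebraMap A (Localization.AtPrime q))
        (ResidueField.map (algebraMap S (Localization.AtPrime q))) hcompat
      have e1 : (α.comp (algebraMap (Localization.AtPrime q) T)).comp
          (algebraMap S (Localization.AtPrime q)) = v := by
        apply hvuniq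
        refine ⟨?_, fun x => ?_⟩
        · apply RingHom.ext
          intro a
          show α (algebraMap (Localization.AtPrime q) T
            (algebraMap S (Localization.AtPrime q) (algebraMap A S a))) =
            algebraMap A (Localization.AtPrime q) a
          rw [← IsScalarTower.algebraMap_apply A S (Localization.AtPrime q),
            IsScalarTower.algebraMap_apply A B (Localization.AtPrime q),
            ← IsScalarTower.algebraMap_apply B (Localization.AtPrime q) T]
          exact RingHom.congr_fun hα1 _
        · show residue _ (α (algebraMap (Localization.AtPrime q) T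
            (algebraMap S (Localization.AtPrime q) x))) = _
          rw [hres]
          rfl
      have e2 : algebraMap S (Localization.AtPrime q) = v := by
        apply hvuniq
        refine ⟨(IsScalarTower.algebraMap_eq A S (Localization.AtPrime q)).symm, fun x => rfl⟩
      have := RingHom.congr_fun (e1.trans e2.symm) s
      exact this
  refine ⟨q, hqmax, ⟨AlgEquiv.ofBijective (IsScalarTower.toAlgHom B (Localization.AtPrime q) T)
    ⟨?_, ?_⟩⟩⟩
  · intro x y hxy
    have h1 : algebraMap (Localization.AtPrime q) T x = algebraMap (Localization.AtPrime q) T y := hxy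
    have := congrArg α h1
    have hx := RingHom.congr_fun hαβ x
    have hy := RingHom.congr_fun hαβ y
    simp only [RingHom.comp_apply, RingHom.id_apply] at hx hy
    rw [hx, hy] at this
    exact this
  · intro t
    refine ⟨α t, ?_⟩
    exact RingHom.congr_fun hβα t

end Groth.Agent.Lib.helper26.StrictHensFinite
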