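import Mathlib

/-!
# Systems of parameters containing a given element (helper26)

`exists_sop_containing`: `R` noetherian local of dimension `d`, `f ∈ m` in no minimal prime: there are
`g₁, …, g_{d-1} ∈ m` with `m ≤ rad (f, g₁, …, g_{d-1})`.
-/

set_option autoImplicit false
universe u

open Pointwise

namespace Groth.Agent.Lib.helper26.Sop

variable (R : Type u) [CommRing R] [IsNoetherianRing R] [IsLocalRing R]

/-- In a local ring, if `m` is minimal over `I` then `rad I = m`. -/
theorem radical_eq_of_mem_minimalPrimes {R : Type u} [CommRing R] [IsLocalRing R] {I : Ideal R}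
    (h : IsLocalRing.maximalIdeal R ∈ I.minimalPrimes) :
    I.radical = IsLocalRing.maximalIdeal R := by
  rw [← Ideal.sInf_minimalPrimes]
  have : I.minimalPrimes = {IsLocalRing.maximalIdeal R} := by
    ext p
    rw [Set.mem_singleton_iff]
    constructor
    · intro hp
      have hle : p ≤ IsLocalRing.maximalIdeal R := IsLocalRing.le_maximalIdeal hp.1.1.ne_top
      exact le_antisymm hle (h.2 hp.1 hle)
    · rintro rfl
      exact h
  rw [this, sInf_singleton]

theorem dim_quotient_add_one (d : ℕ) (hd : ringKrullDim R = d) (f : R)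
    (hf : f ∈ IsLocalRing.maximalIdeal R) (hmin : ∀ p ∈ minimalPrimes R, f ∉ p) :
    ringKrullDim (R ⧸ Ideal.span {f}) + 1 = d := by
  have hspan : (f • (⊤ : Ideal R)) = Ideal.span {f} := by
    rw [← Submodule.ideal_span_singleton_smul f (⊤ : Ideal R)]
    simp
  have h1 : ringKrullDim R ≤ ringKrullDim (R ⧸ f • (⊤ : Ideal R)) + 1 :=
    ringKrullDim_le_ringKrullDim_quotSMulTop_succ hf
  have h2 : Module.supportDim R (QuotSMulTop f R) + 1 ≤ Module.supportDim R R := by
    apply Module.supportDim_quotSMulTop_succ_le_of_notMem_minimalPrimes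
    intro p hp
    have : Module.annihilator R R = ⊥ := by
      rw [Module.annihilator_eq_bot]
      exact (faithfulSMul_iff_algebraMap_injective R R).mpr fun {a₁ a₂} a ↦ a
    rw [this] at hp
    exact hmin p hp
  rw [Module.supportDim_self_eq_ringKrullDim] at h2
  have h3 : Module.supportDim R (QuotSMulTop f R) = ringKrullDim (R ⧸ f • (⊤ : Ideal R)) :=
    Module.supportDim_quotient_eq_ringKrullDim (f • (⊤ : Ideal R))
  rw [h3] at h2
  rw [hspan] at h1 h2
  rw [← hd]
  exact le_antisymm h2 h1

theorem exists_sop_containing (d : ℕ) (hd : ringKrullDim R = d) (f : R)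
    (hf : f ∈ IsLocalRing.maximalIdeal R) (hmin : ∀ p ∈ minimalPrimes R, f ∉ p) :
    ∃ g : Fin (d - 1) → R, (∀ i, g i ∈ IsLocalRing.maximalIdeal R) ∧
      IsLocalRing.maximalIdeal R ≤ (Ideal.span (insert f (Set.range g))).radical := by
  have hne : Ideal.span {f} ≠ ⊤ := by
    intro h
    have : Ideal.span {f} ≤ IsLocalRing.maximalIdeal R := (Ideal.span_singleton_le_iff_mem _).2 hf
    rw [h] at this
    exact (IsLocalRing.maximalIdeal.isMaximal R).ne_top (top_le_iff.1 this)
  have : Nontrivial (R ⧸ Ideal.span {f}) := Ideal.Quotient.nontrivial_iff.2 hne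
  have hsurj : Function.Surjective (Ideal.Quotient.mk (Ideal.span {f})) :=
    Ideal.Quotient.mk_surjective
  have : IsLocalRing (R ⧸ Ideal.span {f}) := IsLocalRing.of_surjective' _ hsurj
  obtain ⟨s, hs, hcard⟩ := Ideal.exists_finset_card_eq_height_of_isNoetherianRing
    (IsLocalRing.maximalIdeal (R ⧸ Ideal.span {f}))
  have hdim := dim_quotient_add_one R d hd f hf hmin
  rw [← IsLocalRing.maximalIdeal_height_eq_ringKrullDim, ← hcard] at hdim
  have hcard' : s.card + 1 = d := by exact_mod_cast hdim
  have hsc : s.card = d - 1 := by omega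
  -- enumerate `s` and lift
  let e : Fin (d - 1) ≃ s := (Fintype.equivFinOfCardEq (by rw [Fintype.card_coe, hsc])).symm
  have hlift : ∀ i : Fin (d - 1), ∃ r : R, Ideal.Quotient.mk (Ideal.span {f}) r = (e i).1 :=
    fun i => hsurj _
  choose g hg using hlift
  have hcomap : Ideal.comap (Ideal.Quotient.mk (Ideal.span {f}))
      (IsLocalRing.maximalIdeal (R ⧸ Ideal.span {f})) = IsLocalRing.maximalIdeal R := by
    have hmax : (Ideal.comap (Ideal.Quotient.mk (Ideal.span {f}))
        (IsLocalRing.maximalIdeal (R ⧸ Ideal.span {f}))).IsMaximal :=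
      Ideal.comap_isMaximal_of_surjective _ hsurj
    exact IsLocalRing.eq_maximalIdeal hmax
  have hmemS : ∀ i, (e i).1 ∈ Ideal.span (s : Set (R ⧸ Ideal.span {f})) :=
    fun i => Ideal.subset_span (e i).2
  refine ⟨g, fun i => ?_, ?_⟩
  · rw [← hcomap, Ideal.mem_comap, hg i]
    exact hs.1.2 (hmemS i)
  · have hrad := radical_eq_of_mem_minimalPrimes hs
    intro x hx
    have hx' : Ideal.Quotient.mk (Ideal.span {f}) x ∈
        (Ideal.span (s : Set (R ⧸ Ideal.span {f}))).radical := by
      rw [hrad, ← Ideal.mem_comap, hcomap]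
      exact hx
    obtain ⟨n, hn⟩ := hx'
    refine ⟨n, ?_⟩
    rw [← map_pow] at hn
    -- `span s ≤ map (span (insert f (range g)))`
    have hle : Ideal.span (s : Set (R ⧸ Ideal.span {f})) ≤
        (Ideal.span (insert f (Set.range g))).map (Ideal.Quotient.mk (Ideal.span {f})) := by
      rw [Ideal.span_le]
      intro y hy
      obtain ⟨i, hi⟩ := e.surjective ⟨y, hy⟩
      have : y = (e i).1 := by rw [hi]
      rw [this, ← hg i]
      exact Ideal.mem_map_of_mem _ (Ideal.subset_span (Set.mem_insert_of_mem _ ⟨i, rfl⟩))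
    have h1 := hle hn
    rw [← Ideal.mem_comap, Ideal.comap_map_of_surjective _ hsurj, ← RingHom.ker_eq_comap_bot,
      Ideal.mk_ker] at h1
    have h2 : Ideal.span {f} ≤ Ideal.span (insert f (Set.range g)) :=
      Ideal.span_mono (Set.singleton_subset_iff.2 (Set.mem_insert _ _))
    rwa [sup_eq_left.2 h2] at h1

end Groth.Agent.Lib.helper26.Sop
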