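import Mathlib

/-!
# Hironaka's lemma (helper26), part 1: the core for domains

`A` a Noetherian local domain with fraction field `K`, `B ⊆ K` a finite `A`-subalgebra whose
elements are exactly those lying in `A_q` for all height one primes `q`; `t ≠ 0` in the maximal
ideal with a unique minimal prime `p` over `tA`, `p A_p = t A_p` and `A/p` integrally closed.
Then `B = A` and `p = tA`.
-/

set_option autoImplicit false
set_option linter.unusedSectionVars false
universe u

open IsLocalRing Pointwise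

namespace Groth.Agent.Lib.helper26.Hironaka

section Height

variable {A : Type u} [CommRing A] [IsDomain A] [IsNoetherianRing A]

lemma one_le_height_of_ne_bot (P : Ideal A) (hP : P ≠ ⊥) : 1 ≤ P.height := by
  rw [Order.one_le_iff_pos, pos_iff_ne_zero]
  intro h0
  exact hP (Ideal.height_eq_zero_iff_eq_bot.mp h0)

lemma eq_of_le_of_height_le_one (P Q : Ideal A) [P.IsPrime] [Q.IsPrime] (hP : P ≠ ⊥)
    (hPQ : P ≤ Q) (hQ : Q.height ≤ 1) : P = Q :=
  Ideal.eq_of_le_of_height_le P hPQ (hQ.trans (one_le_height_of_ne_bot P hP))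

lemma mem_minimalPrimes_span_of_height_le_one (t : A) (ht0 : t ≠ 0) (P : Ideal A) [P.IsPrime]
    (htP : t ∈ P) (hP : P.height ≤ 1) : P ∈ (Ideal.span {t}).minimalPrimes := by
  refine Ideal.mem_minimalPrimes_of_height_le ?_ (hP.trans ?_)
  · rw [Ideal.span_singleton_le_iff_mem]; exact htP
  · exact Ideal.one_le_height_span_singleton_of_mem_nonZeroDivisors
      (mem_nonZeroDivisors_of_ne_zero ht0)

end Height

section Core

variable {A : Type u} [CommRing A] [IsDomain A] [IsNoetherianRing A] [IsLocalRing A]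
  {K : Type u} [Field K] [Algebra A K] [IsFractionRing A K]
  (B : Subalgebra A K)
  (hB : ∀ x : K, x ∈ B ↔ ∀ (q : Ideal A) [q.IsPrime], q.height = 1 →
    ∃ s : A, s ∉ q ∧ ∃ a : A, algebraMap A K a = algebraMap A K s * x)
  (t : A) (ht0 : t ≠ 0)
  (p : Ideal A) [p.IsPrime] (hp : (Ideal.span {t}).minimalPrimes = {p})

include hp in
lemma t_mem : t ∈ p := by
  have h : p ∈ (Ideal.span {t}).minimalPrimes := by rw [hp]; rfl
  exact h.1.2 (Ideal.mem_span_singleton_self t)

include hp ht0 in
lemma height_p : p.height = 1 := by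
  have h : p ∈ (Ideal.span {t}).minimalPrimes := by rw [hp]; rfl
  refine le_antisymm (Ideal.height_le_one_of_isPrincipal_of_mem_minimalPrimes _ p h)
    (one_le_height_of_ne_bot p ?_)
  intro hbot
  have := t_mem t p hp
  rw [hbot, Ideal.mem_bot] at this
  exact ht0 this

include hB hp ht0 in
/-- identification of the "associated primes" of `B/tB`. -/
lemma assoc_eq (b₀ : K) (hb₀ : b₀ ∈ B)
    (hnot : ¬ ∃ b' ∈ B, b₀ = algebraMap A K t * b')
    (P : Ideal A) [P.IsPrime]
    (hP : ∀ a : A, a ∈ P ↔ ∃ b' ∈ B, algebraMap A K a * b₀ = algebraMap A K t * b') :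
    P = p := by
  have htK : algebraMap A K t ≠ 0 := by
    rw [Ne, map_eq_zero_iff _ (IsFractionRing.injective A K)]; exact ht0
  have htP : t ∈ P := (hP t).mpr ⟨b₀, hb₀, rfl⟩
  have hPbot : P ≠ ⊥ := by
    intro h; rw [h, Ideal.mem_bot] at htP; exact ht0 htP
  have hht : P.height ≤ 1 := by
    by_contra hne
    apply hnot
    refine ⟨(algebraMap A K t)⁻¹ * b₀, ?_, by field_simp⟩
    rw [hB]
    intro q _ hq
    have hPq : ¬ P ≤ q := by
      intro hle
      have := eq_of_le_of_height_le_one P q hPbot hle hq.le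
      rw [this] at hne
      exact hne hq.le
    obtain ⟨s₀, hs₀P, hs₀q⟩ := Set.not_subset.mp hPq
    obtain ⟨b', hb', hb'eq⟩ := (hP s₀).mp hs₀P
    obtain ⟨s₁, hs₁, a, ha⟩ := (hB b').mp hb' q hq
    refine ⟨s₁ * s₀, ?_, a, ?_⟩
    · intro hmem
      rcases Ideal.IsPrime.mem_or_mem inferInstance hmem with h | h
      · exact hs₁ h
      · exact hs₀q h
    · rw [ha, map_mul]
      have : b' = (algebraMap A K t)⁻¹ * (algebraMap A K s₀ * b₀) := by
        rw [hb'eq]; field_simp
      rw [this]; ring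
  have := mem_minimalPrimes_span_of_height_le_one t ht0 P htP hht
  rw [hp] at this
  exact this

include hB hp ht0 in
/-- `B/tB` has no `p`-torsion... more precisely no torsion away from `p`. -/
lemma mem_tB_of_smul_mem (b : K) (hb : b ∈ B) (s : A) (hs : s ∉ p)
    (h : ∃ b' ∈ B, algebraMap A K s * b = algebraMap A K t * b') :
    ∃ b'' ∈ B, b = algebraMap A K t * b'' := by
  by_contra hnot
  let Bm : Submodule A K := Subalgebra.toSubmodule B
  let tB : Submodule A K := t • Bm
  have hmem_tB : ∀ z : K, z ∈ tB ↔ ∃ b' ∈ B, z = algebraMap A K t * b' := by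
    intro z
    rw [Submodule.mem_smul_pointwise_iff_exists]
    constructor
    · rintro ⟨b', hb', rfl⟩
      exact ⟨b', hb', Algebra.smul_def _ _⟩
    · rintro ⟨b', hb', rfl⟩
      exact ⟨b', hb', Algebra.smul_def _ _⟩
  let x : K ⧸ tB := Submodule.Quotient.mk b
  have hx : x ≠ 0 := by
    intro h0
    rw [Submodule.Quotient.mk_eq_zero, hmem_tB] at h0
    exact hnot h0
  let M₁ : Submodule A (K ⧸ tB) := Submodule.span A {x}
  let x₁ : M₁ := ⟨x, Submodule.mem_span_singleton_self x⟩
  have hx₁ : x₁ ≠ 0 := by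
    intro h0
    exact hx (congrArg Subtype.val h0)
  obtain ⟨P, hPass, -⟩ := exists_le_isAssociatedPrime_of_isNoetherianRing (R := A) x₁ hx₁
  obtain ⟨hPprime, y₁, hPy⟩ := (isAssociatedPrime_iff).mp hPass
  obtain ⟨a₀, ha₀⟩ := Submodule.mem_span_singleton.mp y₁.2
  have hb₀ : a₀ • b ∈ B := B.smul_mem hb a₀
  have hy₁ : (y₁ : K ⧸ tB) = Submodule.Quotient.mk (a₀ • b) := by
    rw [← ha₀]; rfl
  have hPmem : ∀ a : A, a ∈ P ↔ ∃ b' ∈ B, algebraMap A K a * (a₀ • b) = algebraMap A K t * b' := by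
    intro a
    rw [hPy, Submodule.mem_colon_singleton, Submodule.mem_bot, ← Subtype.coe_inj,
      Submodule.coe_smul, hy₁, Submodule.coe_zero, ← Submodule.Quotient.mk_smul,
      Submodule.Quotient.mk_eq_zero, hmem_tB, Algebra.smul_def]
  have hnot₀ : ¬ ∃ b' ∈ B, a₀ • b = algebraMap A K t * b' := by
    intro h0
    have h1 : (1 : A) ∈ P := by
      rw [hPmem, map_one, one_mul]; exact h0
    exact hPprime.ne_top ((Ideal.eq_top_iff_one P).mpr h1)
  have hPp : P = p := assoc_eq B hB t ht0 p hp (a₀ • b) hb₀ hnot₀ P hPmem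
  apply hs
  rw [← hPp, hPmem]
  obtain ⟨b', hb', hb'eq⟩ := h
  refine ⟨a₀ • b', B.smul_mem hb' a₀, ?_⟩
  rw [Algebra.smul_def, Algebra.smul_def]
  calc algebraMap A K s * (algebraMap A K a₀ * b)
      = algebraMap A K a₀ * (algebraMap A K s * b) := by ring
    _ = algebraMap A K a₀ * (algebraMap A K t * b') := by rw [hb'eq]
    _ = algebraMap A K t * (algebraMap A K a₀ * b') := by ring

include hB hp ht0 in
/-- `B ⊆ A_p`. -/
lemma exists_denominator (b : K) (hb : b ∈ B) :
    ∃ s : A, s ∉ p ∧ ∃ a : A, algebraMap A K a = algebraMap A K s * b :=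
  (hB b).mp hb p (height_p t ht0 p hp)

variable (hgen : ∀ y ∈ p, ∃ s : A, s ∉ p ∧ s * y ∈ Ideal.span {t})
  [IsIntegrallyClosed (A ⧸ p)] [Module.Finite A B]

include hB hp ht0 hgen in
/-- `B = A + tB`. -/
lemma exists_decomp (b : K) (hb : b ∈ B) :
    ∃ a' : A, ∃ b' ∈ B, b = algebraMap A K a' + algebraMap A K t * b' := by
  obtain ⟨s, hs, a, ha⟩ := exists_denominator B hB t ht0 p hp b hb
  -- integrality
  have hint : IsIntegral A b := by
    have h1 : IsIntegral A (⟨b, hb⟩ : B) := IsIntegral.of_finite A _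
    exact h1.map B.val
  obtain ⟨P, hPmonic, hPb⟩ := hint
  -- scale roots
  have h2 : Polynomial.eval₂ (algebraMap A K) (algebraMap A K s * b) (Polynomial.scaleRoots P s)
      = 0 := by
    rw [Polynomial.scaleRoots_eval₂_mul, hPb, mul_zero]
  rw [← ha, Polynomial.eval₂_at_apply,
    map_eq_zero_iff _ (IsFractionRing.injective A K)] at h2
  -- pass to the quotient
  let κ := FractionRing (A ⧸ p)
  let g : A →+* κ := (algebraMap (A ⧸ p) κ).comp (Ideal.Quotient.mk p)
  have hgs : g s ≠ 0 := by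
    change algebraMap (A ⧸ p) κ (Ideal.Quotient.mk p s) ≠ 0
    rw [Ne, map_eq_zero_iff _ (IsFractionRing.injective (A ⧸ p) κ),
      Ideal.Quotient.eq_zero_iff_mem]
    exact hs
  have h3 : Polynomial.eval₂ g (g s * (g a / g s)) (Polynomial.scaleRoots P s)
      = g s ^ P.natDegree * Polynomial.eval₂ g (g a / g s) P :=
    Polynomial.scaleRoots_eval₂_mul g (g a / g s) s
  have h4 : g s * (g a / g s) = g a := by rw [mul_comm, div_mul_cancel₀ _ hgs]
  rw [h4, Polynomial.eval₂_at_apply, h2, map_zero] at h3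
  have h5 : Polynomial.eval₂ g (g a / g s) P = 0 :=
    (mul_eq_zero.mp h3.symm).resolve_left (pow_ne_zero _ hgs)
  have h6 : IsIntegral (A ⧸ p) (g a / g s) := by
    refine ⟨P.map (Ideal.Quotient.mk p), hPmonic.map _, ?_⟩
    rw [Polynomial.eval₂_map]
    exact h5
  obtain ⟨y, hy⟩ := (IsIntegrallyClosed.isIntegral_iff (R := A ⧸ p) (K := κ)).mp h6
  obtain ⟨a', rfl⟩ := Ideal.Quotient.mk_surjective y
  have h7 : a' * s - a ∈ p := by
    rw [← Ideal.Quotient.eq_zero_iff_mem, ← map_eq_zero_iff _ (IsFractionRing.injective (A ⧸ p) κ)]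
    change g (a' * s - a) = 0
    have hy' : g a' = g a / g s := hy
    rw [map_sub, map_mul, hy', div_mul_cancel₀ _ hgs, sub_self]
  obtain ⟨s', hs', hs'mem⟩ := hgen _ h7
  obtain ⟨c, hc⟩ := Ideal.mem_span_singleton'.mp hs'mem
  have hsK : algebraMap A K s ≠ 0 := by
    rw [Ne, map_eq_zero_iff _ (IsFractionRing.injective A K)]
    intro h0; rw [h0] at hs; exact hs (Ideal.zero_mem p)
  have hbsub : b - algebraMap A K a' ∈ B := B.sub_mem hb (B.algebraMap_mem a')
  have hss : s' * s ∉ p := by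
    intro hmem
    rcases Ideal.IsPrime.mem_or_mem inferInstance hmem with h | h
    · exact hs' h
    · exact hs h
  obtain ⟨b'', hb'', hb''eq⟩ := mem_tB_of_smul_mem B hB t ht0 p hp (b - algebraMap A K a') hbsub
    (s' * s) hss ⟨algebraMap A K (-c), B.algebraMap_mem _, by
      have e1 : algebraMap A K (s' * s) * (b - algebraMap A K a')
          = algebraMap A K s' * (algebraMap A K s * b) - algebraMap A K (s' * s * a') := by
        simp only [map_mul]; ring
      rw [e1, ← ha, ← map_mul, ← map_sub, ← map_mul]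
      congr 1
      have : s' * a - s' * s * a' = -(s' * (a' * s - a)) := by ring
      rw [this, ← hc]; ring⟩
  exact ⟨a', b'', hb'', by rw [← hb''eq]; ring⟩

include hB hp ht0 hgen in
/-- `B = A`. -/
lemma exists_algebraMap_eq (htm : t ∈ maximalIdeal A) (b : K) (hb : b ∈ B) :
    ∃ a : A, algebraMap A K a = b := by
  let N' : Submodule A K := Subalgebra.toSubmodule B
  let N : Submodule A K := LinearMap.range (Algebra.linearMap A K)
  have hfg : N'.FG := Module.Finite.iff_fg.mp (inferInstanceAs (Module.Finite A B))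
  have hIJ : Ideal.span {t} ≤ Ideal.jacobson (⊥ : Ideal A) := by
    rw [IsLocalRing.jacobson_eq_maximalIdeal ⊥ bot_ne_top, Ideal.span_singleton_le_iff_mem]
    exact htm
  have hNN : N' ≤ N ⊔ Ideal.span {t} • N' := by
    intro z hz
    obtain ⟨a', b', hb', rfl⟩ := exists_decomp B hB t ht0 p hp hgen z hz
    refine Submodule.add_mem _ (Submodule.mem_sup_left ⟨a', rfl⟩) (Submodule.mem_sup_right ?_)
    rw [← Algebra.smul_def]
    exact Submodule.smul_mem_smul (Ideal.mem_span_singleton_self t) hb'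
  obtain ⟨a, ha⟩ := Submodule.le_of_le_smul_of_le_jacobson_bot hfg hIJ hNN hb
  exact ⟨a, ha⟩

include hB hp ht0 hgen in
/-- `p = tA`. -/
theorem eq_span_singleton (htm : t ∈ maximalIdeal A) : p = Ideal.span {t} := by
  refine le_antisymm ?_ ?_
  · intro y hy
    obtain ⟨s, hs, hsy⟩ := hgen y hy
    obtain ⟨c, hc⟩ := Ideal.mem_span_singleton'.mp hsy
    obtain ⟨b'', hb'', hb''eq⟩ := mem_tB_of_smul_mem B hB t ht0 p hp (algebraMap A K y)
      (B.algebraMap_mem y) s hs ⟨algebraMap A K c, B.algebraMap_mem c, by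
        rw [← map_mul, ← map_mul, ← hc, mul_comm]⟩
    obtain ⟨a'', rfl⟩ := exists_algebraMap_eq B hB t ht0 p hp hgen htm b'' hb''
    rw [← map_mul] at hb''eq
    have := IsFractionRing.injective A K hb''eq
    rw [this]
    exact Ideal.mul_mem_right _ _ (Ideal.mem_span_singleton_self t)
  · rw [Ideal.span_singleton_le_iff_mem]
    exact t_mem t p hp

end Core

end Groth.Agent.Lib.helper26.Hironaka
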