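import Mathlib
import Groth.Agent.Lib.Helper26.Hironaka1

/-!
# `A^(1)` (helper26), part 1: a Noetherian integrally closed domain is the intersection of its
localizations at height one primes
-/

set_option autoImplicit false
set_option linter.unusedSectionVars false
universe u

namespace Groth.Agent.Lib.helper26.HullFinite

open Groth.Agent.Lib.helper26.Hironaka

/-- A Noetherian integrally closed domain is the intersection of its localizations at height one
primes. -/
theorem exists_algebraMap_eq_of_forall_height_one (D : Type u) [CommRing D] [IsDomain D]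
    [IsNoetherianRing D] [IsIntegrallyClosed D] (L : Type u) [Field L] [Algebra D L]
    [IsFractionRing D L] (x : L)
    (hx : ∀ (P : Ideal D) [P.IsPrime], P.height = 1 →
      ∃ s : D, s ∉ P ∧ ∃ a : D, algebraMap D L a = algebraMap D L s * x) :
    ∃ d : D, algebraMap D L d = x := by
  by_contra hne
  have hinj := IsFractionRing.injective D L
  let I : Ideal D := (LinearMap.range (Algebra.linearMap D L)).comap
    (LinearMap.toSpanSingleton D L x)
  have hI : ∀ d : D, d ∈ I ↔ ∃ a : D, algebraMap D L a = algebraMap D L d * x := by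
    intro d
    change (LinearMap.toSpanSingleton D L x) d ∈ LinearMap.range (Algebra.linearMap D L) ↔ _
    rw [LinearMap.mem_range, LinearMap.toSpanSingleton_apply, Algebra.smul_def]
    rfl
  have hItop : I ≠ ⊤ := by
    intro h
    have h1 : (1 : D) ∈ I := by rw [h]; trivial
    rw [hI] at h1
    obtain ⟨a, ha⟩ := h1
    apply hne
    exact ⟨a, by rw [ha, map_one, one_mul]⟩
  have hnt : Nontrivial (D ⧸ I) := Ideal.Quotient.nontrivial_iff.mpr hItop
  obtain ⟨P, hP⟩ := associatedPrimes.nonempty D (D ⧸ I)
  obtain ⟨hPprime, yb, hPy⟩ := (isAssociatedPrime_iff).mp hP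
  obtain ⟨y, rfl⟩ := Ideal.Quotient.mk_surjective yb
  have hPmem : ∀ c : D, c ∈ P ↔ c * y ∈ I := by
    intro c
    rw [hPy, Submodule.mem_colon_singleton, Submodule.mem_bot]
    change c • (Submodule.Quotient.mk y : D ⧸ I) = 0 ↔ _
    rw [← Submodule.Quotient.mk_smul, Submodule.Quotient.mk_eq_zero, smul_eq_mul]
  have hyI : y ∉ I := by
    intro hy
    apply hPprime.ne_top
    rw [Ideal.eq_top_iff_one, hPmem, one_mul]
    exact hy
  have hIP : I ≤ P := by
    intro c hc
    rw [hPmem]
    exact Ideal.mul_mem_right _ _ hc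
  -- `P ≠ ⊥`
  have hPbot : P ≠ ⊥ := by
    obtain ⟨a₀, b₀, hb₀, hab⟩ := IsFractionRing.div_surjective (A := D) x
    have hb₀ne : b₀ ≠ 0 := nonZeroDivisors.ne_zero hb₀
    have hb₀K : algebraMap D L b₀ ≠ 0 := by
      rw [Ne, map_eq_zero_iff _ hinj]; exact hb₀ne
    have hb₀I : b₀ ∈ I := by
      rw [hI]
      refine ⟨a₀, ?_⟩
      rw [← hab]; field_simp
    intro hbot
    have := hIP hb₀I
    rw [hbot, Ideal.mem_bot] at this
    exact hb₀ne this
  set z : L := algebraMap D L y * x with hz
  have hzrange : ¬ ∃ d : D, algebraMap D L d = z := by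
    intro h
    apply hyI
    rw [hI]
    exact h
  have hPz : ∀ c ∈ P, ∃ a : D, algebraMap D L a = algebraMap D L c * z := by
    intro c hc
    rw [hPmem, hI] at hc
    obtain ⟨a, ha⟩ := hc
    exact ⟨a, by rw [ha, map_mul, hz]; ring⟩
  by_cases hcase : ∀ c ∈ P, ∃ a ∈ P, algebraMap D L a = algebraMap D L c * z
  · -- `z` is integral
    apply hzrange
    have hint : IsIntegral D z := by
      refine isIntegral_of_smul_mem_submodule (R := D) (A := L) (M := L)
        (Submodule.map (Algebra.linearMap D L) P) ?_ ?_ z ?_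
      · intro h
        apply hPbot
        rw [eq_bot_iff]
        intro c hc
        have h1 : Algebra.linearMap D L c ∈ Submodule.map (Algebra.linearMap D L) P :=
          Submodule.mem_map_of_mem hc
        rw [h, Submodule.mem_bot, Algebra.linearMap_apply, map_eq_zero_iff _ hinj] at h1
        rw [h1]; exact Ideal.zero_mem _
      · exact Submodule.FG.map _ (IsNoetherian.noetherian P)
      · rintro n ⟨c, hc, rfl⟩
        obtain ⟨a, ha, haz⟩ := hcase c hc
        refine ⟨a, ha, ?_⟩
        rw [Algebra.linearMap_apply, Algebra.linearMap_apply, haz, smul_eq_mul, mul_comm]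
    exact IsIntegrallyClosed.isIntegral_iff.mp hint
  · push Not at hcase
    obtain ⟨c₀, hc₀, hc₀not⟩ := hcase
    obtain ⟨u, hu⟩ := hPz c₀ hc₀
    have huP : u ∉ P := fun h => hc₀not u h hu
    have hmin : P ∈ (Ideal.span {c₀}).minimalPrimes := by
      refine ⟨⟨hPprime, (Ideal.span_singleton_le_iff_mem _).mpr hc₀⟩, ?_⟩
      intro Q ⟨hQprime, hQ⟩ hQP c hc
      obtain ⟨a, ha⟩ := hPz c hc
      have h1 : u * c = c₀ * a := by
        apply hinj
        rw [map_mul, map_mul, hu, ha]; ring
      have h2 : u * c ∈ Q := by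
        rw [h1]
        exact Ideal.mul_mem_right _ _ (hQ (Ideal.mem_span_singleton_self c₀))
      rcases hQprime.mem_or_mem h2 with h | h
      · exact absurd (hQP h) huP
      · exact h
    have hht : P.height = 1 :=
      le_antisymm (Ideal.height_le_one_of_isPrincipal_of_mem_minimalPrimes _ P hmin)
        (one_le_height_of_ne_bot P hPbot)
    obtain ⟨s, hs, a, ha⟩ := hx P hht
    exact hs (hIP ((hI s).mpr ⟨a, ha⟩))

end Groth.Agent.Lib.helper26.HullFinite
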