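import Mathlib
import Groth.Agent.Lib.Helper26.HullFinite1

/-!
# Reduced principal divisors (helper26), part 1: simple and double zeros at height one primes

For a Noetherian integrally closed domain `R`, a height one prime `q` and `f : R` we define
(without mentioning localizations) `Simple q f` (`f` generates `q R_q`) and `Double q f`
(`f ∈ q² R_q`), and prove the basic calculus of these notions, the dichotomy
`f ∈ q → Simple q f ∨ Double q f`, and that a nonzero `f` with only simple zeros generates a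
radical ideal.
-/

set_option autoImplicit false
set_option linter.unusedSectionVars false
universe u

namespace Groth.Agent.Lib.helper26.RedDiv

open Groth.Agent.Lib.helper26.Hironaka Groth.Agent.Lib.helper26.HullFinite

section Defs

variable {R : Type u} [CommRing R]

/-- `f` generates `q R_q`. -/
def Simple (q : Ideal R) (f : R) : Prop :=
  f ∈ q ∧ ∀ y ∈ q, ∃ s, s ∉ q ∧ s * y ∈ Ideal.span {f}

/-- `f ∈ q² R_q ∩ R`. -/
def Double (q : Ideal R) (f : R) : Prop :=
  ∃ s, s ∉ q ∧ s * f ∈ q ^ 2

lemma Simple.mem {q : Ideal R} {f : R} (h : Simple q f) : f ∈ q := h.1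

lemma Double.mem {q : Ideal R} [q.IsPrime] {f : R} (h : Double q f) : f ∈ q := by
  obtain ⟨s, hs, hsf⟩ := h
  have h1 : s * f ∈ q := Ideal.pow_le_self (by norm_num) hsf
  exact (Ideal.IsPrime.mem_or_mem inferInstance h1).resolve_left hs

lemma double_zero (q : Ideal R) [q.IsPrime] : Double q 0 :=
  ⟨1, fun h => Ideal.IsPrime.ne_top inferInstance ((Ideal.eq_top_iff_one q).mpr h),
    by rw [mul_zero]; exact Ideal.zero_mem _⟩

lemma Double.add {q : Ideal R} [q.IsPrime] {f g : R} (hf : Double q f) (hg : Double q g) :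
    Double q (f + g) := by
  obtain ⟨s, hs, hsf⟩ := hf
  obtain ⟨t, ht, htg⟩ := hg
  refine ⟨s * t, fun h => ?_, ?_⟩
  · rcases Ideal.IsPrime.mem_or_mem inferInstance h with h | h
    · exact hs h
    · exact ht h
  · have : s * t * (f + g) = t * (s * f) + s * (t * g) := by ring
    rw [this]
    exact Ideal.add_mem _ (Ideal.mul_mem_left _ _ hsf) (Ideal.mul_mem_left _ _ htg)

lemma Double.mul_left {q : Ideal R} {f : R} (hf : Double q f) (a : R) : Double q (a * f) := by
  obtain ⟨s, hs, hsf⟩ := hf
  refine ⟨s, hs, ?_⟩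
  have : s * (a * f) = a * (s * f) := by ring
  rw [this]
  exact Ideal.mul_mem_left _ _ hsf

lemma double_sq_mul {q : Ideal R} [q.IsPrime] {e : R} (he : e ∈ q) (x : R) :
    Double q (e ^ 2 * x) := by
  refine ⟨1, fun h => Ideal.IsPrime.ne_top inferInstance ((Ideal.eq_top_iff_one q).mpr h), ?_⟩
  rw [one_mul]
  exact Ideal.mul_mem_right _ _ (Ideal.pow_mem_pow he 2)

lemma double_sum {q : Ideal R} [q.IsPrime] {ι : Type*} (s : Finset ι) (g : ι → R)
    (h : ∀ i ∈ s, Double q (g i)) : Double q (∑ i ∈ s, g i) := by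
  classical
  induction s using Finset.induction_on with
  | empty => simpa using double_zero q
  | insert a s ha ih =>
    rw [Finset.sum_insert ha]
    exact (h a (Finset.mem_insert_self a s)).add
      (ih fun i hi => h i (Finset.mem_insert_of_mem hi))

lemma Simple.mul_left {q : Ideal R} [q.IsPrime] {f : R} (hf : Simple q f) {a : R} (ha : a ∉ q) :
    Simple q (a * f) := by
  refine ⟨Ideal.mul_mem_left _ _ hf.1, fun y hy => ?_⟩
  obtain ⟨s, hs, hsy⟩ := hf.2 y hy
  obtain ⟨b, hb⟩ := Ideal.mem_span_singleton'.mp hsy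
  refine ⟨a * s, fun h => ?_, ?_⟩
  · rcases Ideal.IsPrime.mem_or_mem inferInstance h with h | h
    · exact ha h
    · exact hs h
  · rw [Ideal.mem_span_singleton']
    exact ⟨b, by rw [mul_assoc, ← hb]; ring⟩

end Defs

section Noeth

variable {R : Type u} [CommRing R] [IsNoetherianRing R]

/-- If `f` generates `q R_q`, a single denominator works for all of `q`. -/
lemma Simple.exists_common {q : Ideal R} [q.IsPrime] {f : R} (hf : Simple q f) :
    ∃ s, s ∉ q ∧ ∀ y ∈ q, s * y ∈ Ideal.span {f} := by
  classical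
  obtain ⟨T, hT⟩ := (IsNoetherian.noetherian q : q.FG)
  have hTq : ∀ y ∈ T, y ∈ q := fun y hy => by
    rw [← hT]; exact Ideal.subset_span hy
  choose! σ hσ using hf.2
  refine ⟨∏ y ∈ T, σ y, ?_, ?_⟩
  · intro h
    obtain ⟨y, hyT, hy⟩ := (Ideal.IsPrime.prod_mem_iff (hp := inferInstance)).mp h
    exact (hσ y (hTq y hyT)).1 hy
  · intro y hy
    rw [← hT] at hy
    refine Submodule.span_induction (p := fun y _ => (∏ y ∈ T, σ y) * y ∈ Ideal.span {f})
      ?_ ?_ ?_ ?_ hy
    · intro y hyT
      have h1 := (hσ y (hTq y hyT)).2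
      rw [← Finset.mul_prod_erase T σ hyT]
      have : σ y * (∏ x ∈ T.erase y, σ x) * y = (∏ x ∈ T.erase y, σ x) * (σ y * y) := by ring
      rw [this]
      exact Ideal.mul_mem_left _ _ h1
    · rw [mul_zero]; exact Ideal.zero_mem _
    · intro x y _ _ hx hy
      rw [mul_add]; exact Ideal.add_mem _ hx hy
    · intro a x _ hx
      rw [smul_eq_mul, mul_left_comm]
      exact Ideal.mul_mem_left _ _ hx

/-- Adding an element of `q² R_q` to a generator of `q R_q` gives a generator. -/
lemma Simple.add_double {q : Ideal R} [q.IsPrime] {f g : R} (hf : Simple q f)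
    (hg : Double q g) : Simple q (f + g) := by
  obtain ⟨s₀, hs₀, hs₀q⟩ := hf.exists_common
  obtain ⟨s, hs, hsg⟩ := hg
  -- `s₀² s g ∈ f² R`
  have key : ∀ x ∈ q ^ 2, s₀ ^ 2 * x ∈ Ideal.span {f ^ 2} := by
    intro x hx
    rw [pow_two] at hx
    refine Submodule.mul_induction_on hx ?_ ?_
    · intro u hu v hv
      obtain ⟨α, hα⟩ := Ideal.mem_span_singleton'.mp (hs₀q u hu)
      obtain ⟨β, hβ⟩ := Ideal.mem_span_singleton'.mp (hs₀q v hv)
      rw [Ideal.mem_span_singleton']
      refine ⟨α * β, ?_⟩
      have : s₀ ^ 2 * (u * v) = (s₀ * u) * (s₀ * v) := by ring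
      rw [this, ← hα, ← hβ]; ring
    · intro x y hx hy
      rw [mul_add]; exact Ideal.add_mem _ hx hy
  obtain ⟨γ, hγ⟩ := Ideal.mem_span_singleton'.mp (key _ hsg)
  set t := s₀ ^ 2 * s with ht
  have htq : t ∉ q := by
    intro h
    rcases Ideal.IsPrime.mem_or_mem inferInstance h with h | h
    · exact hs₀ (Ideal.IsPrime.mem_of_pow_mem inferInstance _ h)
    · exact hs h
  have htg : t * g = γ * f ^ 2 := by rw [ht, mul_assoc, hγ]
  set t' := t + γ * f with ht'
  have ht'q : t' ∉ q := by
    intro h
    apply htq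
    have h2 : γ * f ∈ q := Ideal.mul_mem_left _ _ hf.1
    have : t = t' - γ * f := by rw [ht']; ring
    rw [this]
    exact Ideal.sub_mem _ h h2
  have hrel : f * t' = t * (f + g) := by
    rw [ht', mul_add, mul_add t, htg]; ring
  have hgq : g ∈ q := Double.mem ⟨s, hs, hsg⟩
  refine ⟨Ideal.add_mem _ hf.1 hgq, fun y hy => ?_⟩
  obtain ⟨a, ha⟩ := Ideal.mem_span_singleton'.mp (hs₀q y hy)
  refine ⟨t' * s₀, fun h => ?_, ?_⟩
  · rcases Ideal.IsPrime.mem_or_mem inferInstance h with h | h
    · exact ht'q h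
    · exact hs₀ h
  · rw [Ideal.mem_span_singleton']
    refine ⟨a * t, ?_⟩
    rw [mul_assoc, ← hrel, mul_assoc, ← ha]; ring

lemma Double.add_simple {q : Ideal R} [q.IsPrime] {f g : R} (hf : Double q f)
    (hg : Simple q g) : Simple q (f + g) := by
  rw [add_comm]; exact hg.add_double hf

end Noeth

section Normal

variable {R : Type u} [CommRing R] [IsDomain R] [IsNoetherianRing R] [IsIntegrallyClosed R]

/-- The localization of a Noetherian integrally closed domain at a height one prime is a DVR. -/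
theorem isDiscreteValuationRing_atPrime (q : Ideal R) [q.IsPrime] (hq : q.height = 1) :
    IsDiscreteValuationRing (Localization.AtPrime q) := by
  set B := Localization.AtPrime q
  have hnoeth : IsNoetherianRing B := IsLocalization.isNoetherianRing q.primeCompl B inferInstance
  have hic : IsIntegrallyClosed B :=
    isIntegrallyClosed_of_isLocalization B q.primeCompl q.primeCompl_le_nonZeroDivisors
  have hd : ringKrullDim B = 1 := by
    rw [IsLocalization.AtPrime.ringKrullDim_eq_height q B, hq]; rfl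
  have hm : IsLocalRing.maximalIdeal B ≠ ⊥ := by
    intro h
    have h1 : (IsLocalRing.maximalIdeal B).height = 0 := by rw [h]; exact Ideal.height_bot
    have h2 := IsLocalRing.maximalIdeal_height_eq_ringKrullDim (R := B)
    rw [h1, hd] at h2
    exact absurd h2 (by decide)
  have hnf : ¬ IsField B := fun hf => hm (IsLocalRing.isField_iff_maximalIdeal_eq.mp hf)
  apply ((IsDiscreteValuationRing.TFAE B hnf).out 0 3).mpr
  refine ⟨inferInstance, IsLocalRing.maximalIdeal B, ⟨hm, inferInstance⟩, ?_⟩
  rintro P ⟨hP0, hPp⟩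
  by_contra hne
  have := hPp
  have hlt : P < IsLocalRing.maximalIdeal B :=
    lt_of_le_of_ne (IsLocalRing.le_maximalIdeal hPp.ne_top) hne
  have h1 : 1 ≤ P.height := one_le_height_of_ne_bot P hP0
  have h2 : P.height < (IsLocalRing.maximalIdeal B).height :=
    Ideal.height_strict_mono_of_isPrime hlt
  have h3 : ((IsLocalRing.maximalIdeal B).height : WithBot ℕ∞) ≤ 1 := by
    rw [IsLocalRing.maximalIdeal_height_eq_ringKrullDim, hd]
  have h4 : (IsLocalRing.maximalIdeal B).height ≤ 1 := by exact_mod_cast h3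
  exact absurd (lt_of_le_of_lt h1 (lt_of_lt_of_le h2 h4)) (lt_irrefl _)

/-- A height one prime of a Noetherian normal domain has a uniformizer. -/
theorem exists_simple (q : Ideal R) [q.IsPrime] (hq : q.height = 1) : ∃ y, Simple q y := by
  set B := Localization.AtPrime q
  have hdvr := isDiscreteValuationRing_atPrime q hq
  obtain ⟨π, hπ⟩ := IsDiscreteValuationRing.exists_irreducible B
  have hπm : IsLocalRing.maximalIdeal B = Ideal.span {π} := hπ.maximalIdeal_eq
  obtain ⟨y₀, s₀, hy₀⟩ := IsLocalization.exists_mk'_eq q.primeCompl π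
  have hy₀' : algebraMap R B y₀ = π * algebraMap R B s₀ := by
    rw [← hy₀, IsLocalization.mk'_spec]
  refine ⟨y₀, ?_, ?_⟩
  · rw [← IsLocalization.AtPrime.to_map_mem_maximal_iff B q, hy₀', hπm]
    exact Ideal.mul_mem_right _ _ (Ideal.mem_span_singleton_self π)
  · intro y hy
    have h1 : algebraMap R B y ∈ IsLocalRing.maximalIdeal B :=
      (IsLocalization.AtPrime.to_map_mem_maximal_iff B q y).mpr hy
    rw [hπm, Ideal.mem_span_singleton'] at h1
    obtain ⟨c, hc⟩ := h1
    obtain ⟨c₀, t₀, hc₀⟩ := IsLocalization.exists_mk'_eq q.primeCompl c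
    have hc₀' : algebraMap R B c₀ = c * algebraMap R B t₀ := by
      rw [← hc₀, IsLocalization.mk'_spec]
    -- `s₀ t₀ y = c₀ y₀` in `B`
    have h2 : algebraMap R B ((s₀ : R) * t₀ * y) = algebraMap R B (c₀ * y₀) := by
      rw [map_mul, map_mul, map_mul, hc₀', hy₀', ← hc]; ring
    obtain ⟨u, hu⟩ := (IsLocalization.eq_iff_exists q.primeCompl B).mp h2
    refine ⟨u * (s₀ * t₀), ?_, ?_⟩
    · intro h
      rcases Ideal.IsPrime.mem_or_mem inferInstance h with h | h
      · exact u.2 h
      · rcases Ideal.IsPrime.mem_or_mem inferInstance h with h | h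
        · exact s₀.2 h
        · exact t₀.2 h
    · rw [Ideal.mem_span_singleton']
      refine ⟨u * c₀, ?_⟩
      linear_combination (-1 : R) * hu

/-- Dichotomy at a height one prime. -/
theorem simple_or_double (q : Ideal R) [q.IsPrime] (hq : q.height = 1) {f : R} (hf : f ∈ q) :
    Simple q f ∨ Double q f := by
  obtain ⟨y₀, hy₀⟩ := exists_simple q hq
  obtain ⟨s, hs, hsf⟩ := hy₀.2 f hf
  obtain ⟨a, ha⟩ := Ideal.mem_span_singleton'.mp hsf
  by_cases haq : a ∈ q
  · right
    refine ⟨s, hs, ?_⟩
    rw [← ha, pow_two]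
    exact Ideal.mul_mem_mul haq hy₀.1
  · left
    refine ⟨hf, fun y hy => ?_⟩
    obtain ⟨s', hs', hs'y⟩ := hy₀.2 y hy
    obtain ⟨b, hb⟩ := Ideal.mem_span_singleton'.mp hs'y
    refine ⟨a * s', fun h => ?_, ?_⟩
    · rcases Ideal.IsPrime.mem_or_mem inferInstance h with h | h
      · exact haq h
      · exact hs' h
    · rw [Ideal.mem_span_singleton']
      refine ⟨b * s, ?_⟩
      linear_combination a * hb - b * ha

/-- A nonzero element all of whose zeros along height one primes are simple generates a radical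
ideal. -/
theorem isRadical_of_simple {f : R} (hf0 : f ≠ 0)
    (h : ∀ (q : Ideal R) [q.IsPrime], q.height = 1 → f ∈ q → Simple q f) :
    (Ideal.span {f}).IsRadical := by
  intro x hx
  obtain ⟨n, hn⟩ := hx
  set L := FractionRing R
  have hinj := IsFractionRing.injective R L
  have hfL : algebraMap R L f ≠ 0 := by
    rw [Ne, map_eq_zero_iff _ hinj]; exact hf0
  obtain ⟨d, hd⟩ := exists_algebraMap_eq_of_forall_height_one R L
    (algebraMap R L x / algebraMap R L f) (by
      intro P _ hP
      by_cases hfP : f ∈ P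
      · have hxP : x ∈ P := by
          have h1 : x ^ n ∈ P := by
            have : Ideal.span {f} ≤ P := (Ideal.span_singleton_le_iff_mem _).mpr hfP
            exact this hn
          exact Ideal.IsPrime.mem_of_pow_mem inferInstance _ h1
        obtain ⟨s, hs, hsx⟩ := (h P hP hfP).2 x hxP
        obtain ⟨a, ha⟩ := Ideal.mem_span_singleton'.mp hsx
        refine ⟨s, hs, a, ?_⟩
        have : algebraMap R L s * algebraMap R L x = algebraMap R L a * algebraMap R L f := by
          rw [← map_mul, ← map_mul, ha]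
        rw [← mul_div_assoc, this, mul_div_assoc, div_self hfL, mul_one]
      · refine ⟨f, hfP, x, ?_⟩
        rw [mul_comm, div_mul_cancel₀ _ hfL])
  rw [Ideal.mem_span_singleton']
  refine ⟨d, ?_⟩
  apply hinj
  rw [map_mul, hd, div_mul_cancel₀ _ hfL]

end Normal

end Groth.Agent.Lib.helper26.RedDiv
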