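import Mathlib

/-!
# Counting points of a finite algebra over a local ring in the algebraic closure of the residue field

For a local ring `A` with residue field `κ` and a finite `A`-algebra `N`, the number of `A`-algebra
maps `N → κ̄` is at most the length of `N ⧸ 𝔪 N`, which is at most `length (N ⧸ A) + 1`.
-/

set_option autoImplicit false
universe u

namespace Groth.Agent.Lib.helper26.BranchCount

open IsLocalRing

variable (A : Type u) [CommRing A] [IsLocalRing A] (N : Type u) [CommRing N] [Algebra A N]

/-- Number of algebra maps into a domain is bounded by the number of generators. -/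
theorem card_algHom_le_of_span_eq_top (L : Type u) [Field L] [Algebra A L]
    (d : ℕ) (g : Fin d → N) (hg : Submodule.span A (Set.range g) = ⊤) :
    ENat.card (N →ₐ[A] L) ≤ d := by
  have hli := linearIndependent_toLinearMap A N L
  have h1 := hli.cardinal_lift_le_rank
  -- evaluation at the generators
  let ev : (N →ₗ[A] L) →ₗ[L] (Fin d → L) :=
    { toFun := fun ℓ i => ℓ (g i)
      map_add' := fun _ _ => rfl
      map_smul' := fun _ _ => rfl }
  have hev : Function.Injective ev := by
    intro ℓ₁ ℓ₂ h
    apply LinearMap.ext_on_range hg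
    intro i
    exact congrFun h i
  have h2 : Module.rank L (N →ₗ[A] L) ≤ d := by
    have := LinearMap.rank_le_of_injective ev hev
    simpa using this
  have h3 : Cardinal.mk (N →ₐ[A] L) ≤ d := by
    have : Cardinal.lift.{u} (Cardinal.mk (N →ₐ[A] L)) ≤ Cardinal.lift.{u} (d : Cardinal.{u}) :=
      h1.trans (Cardinal.lift_le.mpr h2)
    exact Cardinal.lift_le.mp this
  rw [ENat.card]
  calc Cardinal.toENat (Cardinal.mk (N →ₐ[A] L)) ≤ Cardinal.toENat (d : Cardinal.{u}) :=
        Cardinal.toENat.monotone' h3
    _ = d := by simp

/-- Nakayama: `N` is generated by `length (N ⧸ 𝔪 N)` elements. -/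
theorem exists_generators [Module.Finite A N] :
    ∃ (d : ℕ) (g : Fin d → N), Submodule.span A (Set.range g) = ⊤ ∧
      (d : ℕ∞) = Module.length A (N ⧸ (maximalIdeal A • ⊤ : Submodule A N)) := by
  let _ : Field (A ⧸ maximalIdeal A) := Ideal.Quotient.field (maximalIdeal A)
  have hfin : Module.Finite (A ⧸ maximalIdeal A) (N ⧸ (maximalIdeal A • ⊤ : Submodule A N)) :=
    Module.Finite.of_restrictScalars_finite A _ _
  let b := Module.finBasis (A ⧸ maximalIdeal A) (N ⧸ (maximalIdeal A • ⊤ : Submodule A N))
  choose g hg using fun i => Submodule.mkQ_surjective (maximalIdeal A • ⊤ : Submodule A N) (b i)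
  refine ⟨_, g, ?_, ?_⟩
  · rw [← IsLocalRing.map_mkQ_eq_top, Submodule.map_span, ← Set.range_comp]
    have : (⇑(Submodule.mkQ (maximalIdeal A • ⊤ : Submodule A N)) ∘ g) = b := funext hg
    rw [this, ← Submodule.restrictScalars_span A (A ⧸ maximalIdeal A)
      Ideal.Quotient.mk_surjective, Submodule.restrictScalars_eq_top_iff, b.span_eq]
  · rw [Module.length_eq_of_surjective (S := A) (R := A ⧸ maximalIdeal A)
      Ideal.Quotient.mk_surjective, Module.length_eq_finrank]

theorem length_quotient_smul_top_le :
    Module.length A (N ⧸ (maximalIdeal A • ⊤ : Submodule A N)) ≤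
      Module.length A (N ⧸ LinearMap.range (Algebra.linearMap A N)) + 1 := by
  let _ : Field (A ⧸ maximalIdeal A) := Ideal.Quotient.field (maximalIdeal A)
  set V := N ⧸ (maximalIdeal A • ⊤ : Submodule A N) with hV
  let f : A →ₗ[A] V := (Submodule.mkQ (maximalIdeal A • ⊤ : Submodule A N)).comp
    (Algebra.linearMap A N)
  have hadd := Module.length_eq_add_of_exact (LinearMap.range f).subtype (LinearMap.range f).mkQ
    (Submodule.subtype_injective _) (Submodule.mkQ_surjective _)
    (LinearMap.exact_subtype_mkQ (LinearMap.range f))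
  rw [hadd, add_comm]
  gcongr
  · -- `V ⧸ range f` is a quotient of `N ⧸ range ι`
    have hle : LinearMap.range (Algebra.linearMap A N) ≤
        (LinearMap.range f).comap (Submodule.mkQ (maximalIdeal A • ⊤ : Submodule A N)) := by
      rintro _ ⟨a, rfl⟩
      exact ⟨a, rfl⟩
    let h := Submodule.mapQ (LinearMap.range (Algebra.linearMap A N)) (LinearMap.range f)
      (Submodule.mkQ (maximalIdeal A • ⊤ : Submodule A N)) hle
    apply Module.length_le_of_surjective h
    intro y
    obtain ⟨v, rfl⟩ := Submodule.mkQ_surjective _ y
    obtain ⟨n, rfl⟩ := Submodule.mkQ_surjective _ v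
    exact ⟨Submodule.Quotient.mk n, rfl⟩
  · -- `range f` is a quotient of the residue field
    have hker : maximalIdeal A ≤ LinearMap.ker f.rangeRestrict := by
      intro a ha
      rw [LinearMap.mem_ker]
      apply Subtype.ext
      show Submodule.mkQ _ (algebraMap A N a) = 0
      rw [Submodule.mkQ_apply, Submodule.Quotient.mk_eq_zero, Algebra.algebraMap_eq_smul_one]
      exact Submodule.smul_mem_smul ha trivial
    let h : (A ⧸ maximalIdeal A) →ₗ[A] LinearMap.range f :=
      Submodule.liftQ (maximalIdeal A) f.rangeRestrict hker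
    have hsurj : Function.Surjective h := by
      rintro ⟨_, a, rfl⟩
      exact ⟨Submodule.Quotient.mk a, rfl⟩
    calc Module.length A (LinearMap.range f) ≤ Module.length A (A ⧸ maximalIdeal A) :=
          Module.length_le_of_surjective h hsurj
      _ = Module.length (A ⧸ maximalIdeal A) (A ⧸ maximalIdeal A) :=
          Module.length_eq_of_surjective Ideal.Quotient.mk_surjective
      _ = 1 := by rw [Module.length_eq_finrank, Module.finrank_self]; rfl

/-- The number of `A`-algebra maps from a finite `A`-algebra `N` to a field is at most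
`length (N ⧸ A) + 1`. -/
theorem card_algHom_le (L : Type u) [Field L] [Algebra A L] [Module.Finite A N] :
    ENat.card (N →ₐ[A] L) ≤
      Module.length A (N ⧸ LinearMap.range (Algebra.linearMap A N)) + 1 := by
  obtain ⟨d, g, hg, hd⟩ := exists_generators A N
  calc ENat.card (N →ₐ[A] L) ≤ d := card_algHom_le_of_span_eq_top A N L d g hg
    _ = Module.length A (N ⧸ (maximalIdeal A • ⊤ : Submodule A N)) := hd
    _ ≤ _ := length_quotient_smul_top_le A N

end Groth.Agent.Lib.helper26.BranchCount
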