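import Mathlib
import Groth.Agent.Lib.Helper26.DepthCR2
import Groth.Agent.Lib.Helper26.Depth6

/-!
# Projective dimension over a quotient ring (helper26)

`pd_R E = pd_R (R/I) + pd_{R/I} E` for a Noetherian local ring `R` when both are finite.
-/

set_option autoImplicit false
universe u

open CategoryTheory Abelian Limits LocCoh IsLocalRing

namespace Groth.Agent.Lib.helper26.PDQuot

section pi

variable {R : Type u} [CommRing R]

/-- finite powers preserve bounds on the projective dimension. -/
lemma hasProjectiveDimensionLT_pi (B : Type u) [AddCommGroup B] [Module R B] (k : ℕ)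
    (h : HasProjectiveDimensionLT (ModuleCat.of R B) k) (m : ℕ) :
    HasProjectiveDimensionLT (ModuleCat.of R (Fin m → B)) k := by
  let f : Fin m → ModuleCat.{u} R := fun _ => ModuleCat.of R B
  have e1 : (⨁ f) ≅ ModuleCat.of R (Fin m → B) := ModuleCat.biproductIsoPi f
  have h1 : HasProjectiveDimensionLT (⨁ f) k := by
    rw [hasProjectiveDimensionLT_iff]
    intro i hi Y e
    apply (Ext.biproductAddEquiv (biproduct.isBilimit f) Y i).injective
    rw [map_zero]
    ext j
    exact Abelian.Ext.eq_zero_of_hasProjectiveDimensionLT _ k hi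
  exact hasProjectiveDimensionLT_of_iso e1 k

end pi

section main

variable {R : Type u} [CommRing R] (I : Ideal R)

/-- transfer of finite projective dimension from `R/I` to `R`, given `pd_R (R/I) ≤ p`. -/
theorem hasProjectiveDimensionLT_of_quotient [IsNoetherianRing R] [IsLocalRing (R ⧸ I)] (p : ℕ)
    (hp : HasProjectiveDimensionLT (ModuleCat.of R (R ⧸ I)) (p + 1)) (n : ℕ) :
    ∀ (E : Type u) [AddCommGroup E] [Module (R ⧸ I) E] [Module R E]
      [IsScalarTower R (R ⧸ I) E] [Module.Finite (R ⧸ I) E],
      HasProjectiveDimensionLT (ModuleCat.of (R ⧸ I) E) (n + 1) →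
      HasProjectiveDimensionLT (ModuleCat.of R E) (n + p + 1) := by
  induction n with
  | zero =>
    intro E _ _ _ _ _ hE
    rw [zero_add] at hE
    rw [← projective_iff_hasProjectiveDimensionLT_one] at hE
    have hproj : Module.Projective (R ⧸ I) E := (IsProjective.iff_projective E).mpr hE
    have hflat : Module.Flat (R ⧸ I) E := Module.Flat.of_projective
    have hfree : Module.Free (R ⧸ I) E := Module.free_of_flat_of_isLocalRing
    let b := Module.Free.chooseBasis (R ⧸ I) E
    have hfin : Fintype (Module.Free.ChooseBasisIndex (R ⧸ I) E) := inferInstance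
    let b' := b.reindex (Fintype.equivFin _)
    let e : E ≃ₗ[R] (Fin (Fintype.card (Module.Free.ChooseBasisIndex (R ⧸ I) E)) → R ⧸ I) :=
      b'.equivFun.restrictScalars R
    have h1 := hasProjectiveDimensionLT_pi (R := R) (R ⧸ I) (p + 1) hp
      (Fintype.card (Module.Free.ChooseBasisIndex (R ⧸ I) E))
    have h2 := hasProjectiveDimensionLT_of_iso e.symm.toModuleIso (p + 1)
    rw [zero_add]
    exact h2
  | succ n ih =>
    intro E _ _ _ _ _ hE
    obtain ⟨m, f, hf⟩ := Module.Finite.exists_fin' (R ⧸ I) E
    -- over `R ⧸ I`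
    let S := f.shortComplexKer
    have hS : S.ShortExact := LinearMap.shortExact_shortComplexKer hf
    have proj : Projective S.X₂ := ModuleCat.projective_of_categoryTheory_projective S.X₂
    have hK : HasProjectiveDimensionLT (ModuleCat.of (R ⧸ I) (LinearMap.ker f)) (n + 1) :=
      (hS.hasProjectiveDimensionLT_X₃_iff n proj).mp hE
    have hKR := ih (LinearMap.ker f) hK
    -- over `R`
    let fR : (Fin m → R ⧸ I) →ₗ[R] E := f.restrictScalars R
    let gR : (LinearMap.ker f) →ₗ[R] (Fin m → R ⧸ I) := (LinearMap.ker f).subtype.restrictScalars R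
    have hex : Function.Exact gR fR := by
      intro x
      constructor
      · intro hx
        exact ⟨⟨x, hx⟩, rfl⟩
      · rintro ⟨y, rfl⟩
        exact y.2
    let T := ModuleCat.shortComplexOfCompEqZero gR fR hex.linearMap_comp_eq_zero
    have hT : T.ShortExact := ModuleCat.shortComplex_shortExact T hex
      (LinearMap.ker f).injective_subtype hf
    have h2 : HasProjectiveDimensionLT T.X₂ (n + p + 1 + 1) := by
      have h3 := hasProjectiveDimensionLT_pi (R := R) (R ⧸ I) (p + 1) hp m
      exact hasProjectiveDimensionLT_of_ge _ (p + 1) _ (by omega)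
    have h3 := hT.hasProjectiveDimensionLT_X₃ (n + p + 1) hKR h2
    have : n + 1 + p + 1 = n + p + 1 + 1 := by omega
    rw [this]
    exact h3

end main

section formula

open Groth.Agent.Lib.helper26.Depth

/-- a nonzero module of finite projective dimension has a natural number as projective
dimension. -/
lemma exists_nat_projectiveDimension {A : Type u} [CommRing A] (M : Type u) [AddCommGroup M]
    [Module A M] [Nontrivial M] (h : projectiveDimension (ModuleCat.of A M) ≠ ⊤) :
    ∃ e : ℕ, projectiveDimension (ModuleCat.of A M) = (e : WithBot ℕ∞) := by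
  have hne_bot : projectiveDimension (ModuleCat.of A M) ≠ ⊥ := by
    rw [Ne, projectiveDimension_eq_bot_iff]
    intro hz
    exact not_subsingleton M (ModuleCat.subsingleton_of_isZero hz)
  obtain ⟨d, hd⟩ := WithBot.ne_bot_iff_exists.mp hne_bot
  have hd_top : d ≠ ⊤ := by
    rintro rfl
    exact h hd.symm
  obtain ⟨e, rfl⟩ := ENat.ne_top_iff_exists.mp hd_top
  exact ⟨e, hd.symm⟩

variable {R : Type u} [CommRing R] [IsNoetherianRing R] [IsLocalRing R] (I : Ideal R)

/-- `pd_R E = pd_R (R/I) + pd_{R/I} E` when both summands are finite. -/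
theorem projectiveDimension_eq_add_over_quotient
    (E : Type u) [AddCommGroup E] [Module (R ⧸ I) E] [Module R E] [IsScalarTower R (R ⧸ I) E]
    [Module.Finite (R ⧸ I) E] [Nontrivial E]
    (h1 : projectiveDimension (ModuleCat.of R (R ⧸ I)) ≠ ⊤)
    (h2 : projectiveDimension (ModuleCat.of (R ⧸ I) E) ≠ ⊤) :
    projectiveDimension (ModuleCat.of R E) ≠ ⊤ ∧
      projectiveDimension (ModuleCat.of R E) =
        projectiveDimension (ModuleCat.of R (R ⧸ I)) +
          projectiveDimension (ModuleCat.of (R ⧸ I) E) := by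
  have hnt : Nontrivial (R ⧸ I) := by
    by_contra hnt
    rw [not_nontrivial_iff_subsingleton] at hnt
    have : Subsingleton E := Module.subsingleton (R ⧸ I) E
    exact not_subsingleton E this
  have hloc : IsLocalRing (R ⧸ I) :=
    IsLocalRing.of_surjective' (Ideal.Quotient.mk I) Ideal.Quotient.mk_surjective
  have hlh : IsLocalHom (algebraMap R (R ⧸ I)) :=
    IsLocalHom.of_surjective (Ideal.Quotient.mk I) Ideal.Quotient.mk_surjective
  have hfinR : Module.Finite R E := Module.Finite.trans (R ⧸ I) E
  obtain ⟨e1, he1⟩ := exists_nat_projectiveDimension (A := R) (R ⧸ I) h1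
  obtain ⟨e2, he2⟩ := exists_nat_projectiveDimension (A := R ⧸ I) E h2
  have hp : HasProjectiveDimensionLT (ModuleCat.of R (R ⧸ I)) (e1 + 1) := by
    rw [← projectiveDimension_lt_iff, he1]
    exact_mod_cast Nat.lt_succ_self e1
  have hq : HasProjectiveDimensionLT (ModuleCat.of (R ⧸ I) E) (e2 + 1) := by
    rw [← projectiveDimension_lt_iff, he2]
    exact_mod_cast Nat.lt_succ_self e2
  have hpq := hasProjectiveDimensionLT_of_quotient I e1 hp e2 E hq
  have h3 : projectiveDimension (ModuleCat.of R E) ≠ ⊤ :=
    (projectiveDimension_ne_top_iff _).mpr ⟨_, hpq⟩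
  refine ⟨h3, ?_⟩
  obtain ⟨e3, he3⟩ := exists_nat_projectiveDimension (A := R) E h3
  have hAB1 := auslander_buchsbaum (A := R) e1 (R ⧸ I) he1
  have hAB2 := auslander_buchsbaum (A := R ⧸ I) e2 E he2
  have hAB3 := auslander_buchsbaum (A := R) e3 E he3
  have hd1 : depth R (R ⧸ I) = depth (R ⧸ I) (R ⧸ I) := depth_eq_of_isLocalHom (A := R) (R ⧸ I)
  have hd2 : depth R E = depth (R ⧸ I) E := depth_eq_of_isLocalHom (A := R) E
  obtain ⟨a, ha⟩ := ENat.ne_top_iff_exists.mp (depth_ne_top (A := R) R)
  obtain ⟨b, hb⟩ := ENat.ne_top_iff_exists.mp (depth_ne_top (A := R) (R ⧸ I))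
  obtain ⟨c, hc⟩ := ENat.ne_top_iff_exists.mp (depth_ne_top (A := R) E)
  rw [← hd1] at hAB2
  rw [← hd2] at hAB2
  rw [← ha, ← hb] at hAB1
  rw [← hb, ← hc] at hAB2
  rw [← ha, ← hc] at hAB3
  have k1 : a = e1 + b := by exact_mod_cast hAB1
  have k2 : b = e2 + c := by exact_mod_cast hAB2
  have k3 : a = e3 + c := by exact_mod_cast hAB3
  have : e3 = e1 + e2 := by omega
  rw [he1, he2, he3, this]
  push_cast
  rfl

end formula

end Groth.Agent.Lib.helper26.PDQuot
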