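import Mathlib

/-!
# Hilbert function of a hypersurface section (helper26)

For a homogeneous prime `I` of `k[X_σ]` and a homogeneous `f ∉ I` of degree `d`:
`dim (I + (f))_m + dim I_{m-d} = dim I_m + dim R_{m-d}` for `m ≥ d`.
-/

set_option autoImplicit false
set_option linter.unusedSectionVars false
universe u v

open MvPolynomial Module

namespace Groth.Agent.Lib.helper26.HilbHyper

attribute [local instance] MvPolynomial.gradedAlgebra

variable {k : Type u} [Field k] {σ : Type v} [Finite σ]

/-- The degree-`m` part of an ideal of the polynomial ring. -/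
noncomputable def part (J : Ideal (MvPolynomial σ k)) (m : ℕ) : Submodule k (MvPolynomial σ k) :=
  Submodule.restrictScalars k J ⊓ homogeneousSubmodule σ k m

omit [Finite σ] in
theorem mem_part {J : Ideal (MvPolynomial σ k)} {m : ℕ} {x : MvPolynomial σ k} :
    x ∈ part J m ↔ x ∈ J ∧ x.IsHomogeneous m := by
  unfold part
  simp

instance finite_homogeneousSubmodule (m : ℕ) : Module.Finite k (homogeneousSubmodule σ k m) :=
  Module.Finite.iff_fg.2 (homogeneousSubmodule_fg σ k m)

instance finite_part (J : Ideal (MvPolynomial σ k)) (m : ℕ) : Module.Finite k (part J m) :=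
  Submodule.finiteDimensional_of_le (inf_le_right : part J m ≤ homogeneousSubmodule σ k m)

theorem part_sup_span (I : Ideal (MvPolynomial σ k))
    (hIh : I.IsHomogeneous (homogeneousSubmodule σ k))
    (f : MvPolynomial σ k) (d : ℕ) (hf : f.IsHomogeneous d) (m : ℕ) (hm : d ≤ m) :
    part (I ⊔ Ideal.span {f}) m =
      part I m ⊔ (homogeneousSubmodule σ k (m - d)).map (LinearMap.mulLeft k f) := by
  apply le_antisymm
  · intro x hx
    rw [mem_part] at hx
    obtain ⟨hxI, hxm⟩ := hx
    obtain ⟨a, ha, b, hb, rfl⟩ := Submodule.mem_sup.1 hxI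
    obtain ⟨g, rfl⟩ := Ideal.mem_span_singleton'.1 hb
    have h1 : (DirectSum.decompose (homogeneousSubmodule σ k) (a + g * f) m : MvPolynomial σ k)
        = a + g * f := DirectSum.decompose_of_mem_same _ hxm
    rw [DirectSum.decompose_add, DirectSum.add_apply, Submodule.coe_add, mul_comm g f,
      DirectSum.coe_decompose_mul_of_left_mem_of_le (homogeneousSubmodule σ k)
        ((mem_homogeneousSubmodule d f).2 hf) hm] at h1
    rw [mul_comm g f, ← h1]
    refine Submodule.add_mem_sup ?_ ?_
    · rw [mem_part]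
      exact ⟨hIh m ha, (DirectSum.decompose (homogeneousSubmodule σ k) a m).2⟩
    · exact Submodule.mem_map.2 ⟨_, (DirectSum.decompose (homogeneousSubmodule σ k) g (m - d)).2,
        rfl⟩
  · refine sup_le ?_ ?_
    · intro x hx
      rw [mem_part] at hx ⊢
      exact ⟨Ideal.mem_sup_left hx.1, hx.2⟩
    · rintro x ⟨g, hg, rfl⟩
      rw [mem_part]
      refine ⟨Ideal.mem_sup_right ?_, ?_⟩
      · exact Ideal.mem_span_singleton'.2 ⟨g, mul_comm g f⟩
      · have := hf.mul ((mem_homogeneousSubmodule _ g).1 hg)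
        rwa [Nat.add_sub_cancel' hm] at this

theorem part_inf_map (I : Ideal (MvPolynomial σ k)) [I.IsPrime]
    (f : MvPolynomial σ k) (d : ℕ) (hf : f.IsHomogeneous d) (hfI : f ∉ I) (m : ℕ) (hm : d ≤ m) :
    part I m ⊓ (homogeneousSubmodule σ k (m - d)).map (LinearMap.mulLeft k f) =
      (part I (m - d)).map (LinearMap.mulLeft k f) := by
  apply le_antisymm
  · rintro x ⟨hx1, ⟨g, hg, rfl⟩⟩
    rw [SetLike.mem_coe, mem_part] at hx1
    refine Submodule.mem_map.2 ⟨g, ?_, rfl⟩
    rw [mem_part]
    refine ⟨?_, hg⟩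
    rcases Ideal.IsPrime.mem_or_mem inferInstance hx1.1 with h | h
    · exact absurd h hfI
    · exact h
  · rintro x ⟨g, hg, rfl⟩
    rw [SetLike.mem_coe, mem_part] at hg
    refine ⟨?_, Submodule.mem_map.2 ⟨g, hg.2, rfl⟩⟩
    rw [SetLike.mem_coe, mem_part]
    refine ⟨I.mul_mem_left f hg.1, ?_⟩
    have := hf.mul hg.2
    rwa [Nat.add_sub_cancel' hm] at this

theorem finrank_part_sup_span (I : Ideal (MvPolynomial σ k)) [I.IsPrime]
    (hIh : I.IsHomogeneous (homogeneousSubmodule σ k))
    (f : MvPolynomial σ k) (d : ℕ) (hf : f.IsHomogeneous d) (hfI : f ∉ I) (m : ℕ) (hm : d ≤ m) :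
    finrank k (part (I ⊔ Ideal.span {f}) m) + finrank k (part I (m - d)) =
      finrank k (part I m) + finrank k (homogeneousSubmodule σ k (m - d)) := by
  have hf0 : f ≠ 0 := fun h => hfI (h ▸ I.zero_mem)
  have hinj : Function.Injective (LinearMap.mulLeft k f) := by
    intro a b hab
    exact mul_left_cancel₀ hf0 hab
  have hC : ∀ S : Submodule k (MvPolynomial σ k),
      finrank k (S.map (LinearMap.mulLeft k f)) = finrank k S := fun S =>
    (LinearEquiv.finrank_eq (Submodule.equivMapOfInjective _ hinj S)).symm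
  have hD := Submodule.finrank_sup_add_finrank_inf_eq (part I m)
    ((homogeneousSubmodule σ k (m - d)).map (LinearMap.mulLeft k f))
  rw [← part_sup_span I hIh f d hf m hm, part_inf_map I f d hf hfI m hm, hC, hC] at hD
  exact hD

end Groth.Agent.Lib.helper26.HilbHyper
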