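import Mathlib
import Groth.Agent.Lib.Helper26.HilbHyper
import Groth.Agent.Lib.Helper26.HS8

/-!
# Graded Hilbert functions vs. Hilbert–Samuel functions at the irrelevant ideal (helper26)

For a homogeneous ideal `J` of `R = k[X_σ]` and `𝔪 = (X_i)`:
`ℓ_R((R/J)/𝔪^t (R/J)) = ∑_{j<t} (dim_k R_j - dim_k J_j)` (`hs_eq_sum`).
-/

set_option autoImplicit false
set_option linter.unusedSectionVars false
universe u

open MvPolynomial Module

namespace Groth.Agent.Lib.helper26.GrHS

open Groth.Agent.Lib.helper26.HS Groth.Agent.Lib.helper26.HilbHyper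

attribute [local instance] MvPolynomial.gradedAlgebra

section general

/-- For a module killed by an ideal `m` with `R = k + m`, the `R`-length is the `k`-length. -/
theorem length_eq_length_of_smul_eq_zero {k R N : Type*} [Field k] [CommRing R] [Algebra k R]
    [AddCommGroup N] [Module R N] [Module k N] [IsScalarTower k R N] (m : Ideal R)
    (hm : ∀ r : R, ∃ c : k, r - algebraMap k R c ∈ m) (hN : ∀ z ∈ m, ∀ n : N, z • n = 0) :
    Module.length R N = Module.length k N := by
  let e : Submodule R N ≃o Submodule k N :=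
    { toFun := Submodule.restrictScalars k
      invFun := fun P =>
        { carrier := P
          add_mem' := P.add_mem
          zero_mem' := P.zero_mem
          smul_mem' := by
            intro r n hn
            obtain ⟨c, hc⟩ := hm r
            have h1 := hN _ hc n
            rw [sub_smul, algebraMap_smul] at h1
            have : r • n = c • n := sub_eq_zero.1 h1
            show r • n ∈ P
            rw [this]
            exact P.smul_mem c hn }
      left_inv := fun P => rfl
      right_inv := fun P => rfl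
      map_rel_iff' := Iff.rfl }
  rw [Module.length, Module.length, WithBot.unbot_inj, Order.krullDim_eq_of_orderIso e]

end general

variable {k : Type u} [Field k] {σ : Type} [Finite σ]

/-- The irrelevant ideal. -/
noncomputable abbrev mI (k : Type u) [Field k] (σ : Type) : Ideal (MvPolynomial σ k) :=
  idealOfVars σ k

omit [Finite σ] in
theorem exists_sub_mem_mI (r : MvPolynomial σ k) :
    ∃ c : k, r - algebraMap k (MvPolynomial σ k) c ∈ mI k σ := by
  refine ⟨coeff 0 r, ?_⟩
  have h := (mem_pow_idealOfVars_iff' (σ := σ) (R := k) 1 (r - algebraMap k _ (coeff 0 r))).2 ?_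
  · rwa [pow_one] at h
  · intro x hx
    have hx0 : x = 0 := by
      have : x.degree = 0 := by omega
      exact (Finsupp.degree_eq_zero_iff x).1 this
    rw [hx0, coeff_sub, algebraMap_eq, coeff_zero_C, sub_self]

omit [Finite σ] in
theorem isHomogeneous_mem_pow {p : MvPolynomial σ k} {t : ℕ} (hp : p.IsHomogeneous t) :
    p ∈ mI k σ ^ t := by
  rw [mem_pow_idealOfVars_iff']
  intro x hx
  by_contra hne
  have := hp hne
  have h2 : (Finsupp.weight (1 : σ → ℕ)) x = Finsupp.degree x := by
    rw [Finsupp.degree_eq_weight_one]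
    rfl
  rw [h2] at this
  omega

omit [Finite σ] in
theorem sub_homogeneousComponent_mem {z : MvPolynomial σ k} {t : ℕ} (hz : z ∈ mI k σ ^ t) :
    z - homogeneousComponent t z ∈ mI k σ ^ (t + 1) := by
  rw [mem_pow_idealOfVars_iff'] at hz ⊢
  intro x hx
  rw [coeff_sub, coeff_homogeneousComponent]
  split_ifs with h
  · rw [sub_self]
  · rw [sub_zero]
    exact hz x (by omega)

omit [Finite σ] in
theorem homogeneousComponent_eq_zero_of_mem {z : MvPolynomial σ k} {t : ℕ}
    (hz : z ∈ mI k σ ^ (t + 1)) : homogeneousComponent t z = 0 := by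
  rw [mem_pow_idealOfVars_iff'] at hz
  ext x
  rw [coeff_homogeneousComponent, coeff_zero]
  split_ifs with h
  · exact hz x (by omega)
  · rfl

omit [Finite σ] in
theorem decompose_eq_homogeneousComponent (p : MvPolynomial σ k) (t : ℕ) :
    (DirectSum.decompose (homogeneousSubmodule σ k) p t : MvPolynomial σ k) =
      homogeneousComponent t p :=
  decomposition.decompose'_apply p t

variable (J : Ideal (MvPolynomial σ k))

/-- The ideals `J + 𝔪^t`. -/
noncomputable def L (t : ℕ) : Ideal (MvPolynomial σ k) := J ⊔ mI k σ ^ t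

omit [Finite σ] in
theorem L_succ_le (t : ℕ) : L J (t + 1) ≤ L J t :=
  sup_le_sup_left (Ideal.pow_le_pow_right (Nat.le_succ t)) J

omit [Finite σ] in
theorem L_zero : L J 0 = ⊤ := by
  unfold L
  rw [pow_zero, Ideal.one_eq_top, sup_top_eq]

omit [Finite σ] in
theorem mem_of_isHomogeneous_of_mem_L (hJ : J.IsHomogeneous (homogeneousSubmodule σ k))
    {r : MvPolynomial σ k} {t : ℕ} (hr : r.IsHomogeneous t)
    (h : r ∈ L J (t + 1)) : r ∈ J := by
  obtain ⟨j, hj, z, hz, rfl⟩ := Submodule.mem_sup.1 h
  have h1 : homogeneousComponent t (j + z) = j + z := by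
    rw [homogeneousComponent_of_mem ((mem_homogeneousSubmodule t _).2 hr), if_pos rfl]
  rw [map_add, homogeneousComponent_eq_zero_of_mem hz, add_zero] at h1
  rw [← h1, ← decompose_eq_homogeneousComponent]
  exact hJ t hj

/-- The graded quotient `L_t/L_{t+1}` has `R`-length `dim R_t - dim J_t`. -/
theorem rl_L (hJ : J.IsHomogeneous (homogeneousSubmodule σ k)) (t : ℕ) :
    rl (L J t) (L J (t + 1)) =
      ((finrank k (homogeneousSubmodule σ k t) - finrank k (part J t) : ℕ) : ℕ∞) := by
  unfold rl
  set N := ↥(L J t) ⧸ Submodule.comap (Submodule.subtype (L J t)) (L J (t + 1)) with hNdef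
  have hmem : ∀ r : homogeneousSubmodule σ k t, (r : MvPolynomial σ k) ∈ L J t := fun r =>
    Submodule.mem_sup_right (isHomogeneous_mem_pow ((mem_homogeneousSubmodule t _).1 r.2))
  let ψ : homogeneousSubmodule σ k t →ₗ[k] N :=
    { toFun := fun r => Submodule.Quotient.mk ⟨r.1, hmem r⟩
      map_add' := fun a b => by
        rw [← Submodule.Quotient.mk_add]
        rfl
      map_smul' := fun c a => by
        rw [RingHom.id_apply, ← Submodule.Quotient.mk_smul]
        rfl }
  have hψ : Function.Surjective ψ := by
    intro y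
    obtain ⟨⟨l, hl⟩, rfl⟩ := Submodule.Quotient.mk_surjective _ y
    obtain ⟨j, hj, z, hz, rfl⟩ := Submodule.mem_sup.1 hl
    refine ⟨⟨homogeneousComponent t z, homogeneousComponent_mem t z⟩, ?_⟩
    show Submodule.Quotient.mk _ = Submodule.Quotient.mk _
    rw [Submodule.Quotient.eq, Submodule.mem_comap]
    simp only [Submodule.subtype_apply, Submodule.coe_sub]
    have : homogeneousComponent t z - (j + z) = -(j + (z - homogeneousComponent t z)) := by ring
    rw [this]
    apply Submodule.neg_mem
    exact Submodule.add_mem _ (Submodule.mem_sup_left hj)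
      (Submodule.mem_sup_right (sub_homogeneousComponent_mem hz))
  have hker : LinearMap.ker ψ = (part J t).comap (homogeneousSubmodule σ k t).subtype := by
    ext r
    rw [LinearMap.mem_ker, Submodule.mem_comap, Submodule.subtype_apply, mem_part]
    show Submodule.Quotient.mk _ = 0 ↔ _
    rw [Submodule.Quotient.mk_eq_zero, Submodule.mem_comap, Submodule.subtype_apply]
    constructor
    · intro h
      exact ⟨mem_of_isHomogeneous_of_mem_L J hJ ((mem_homogeneousSubmodule t _).1 r.2) h,
        (mem_homogeneousSubmodule t _).1 r.2⟩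
    · intro h
      exact Submodule.mem_sup_left h.1
  have hfinN : Module.Finite k N := Module.Finite.of_surjective ψ hψ
  have hkill : ∀ z ∈ mI k σ, ∀ n : N, z • n = 0 := by
    intro z hz n
    obtain ⟨⟨l, hl⟩, rfl⟩ := Submodule.Quotient.mk_surjective _ n
    rw [← Submodule.Quotient.mk_smul, Submodule.Quotient.mk_eq_zero, Submodule.mem_comap]
    show z • l ∈ L J (t + 1)
    obtain ⟨j, hj, w, hw, rfl⟩ := Submodule.mem_sup.1 hl
    rw [smul_add]
    refine Submodule.add_mem _ (Submodule.mem_sup_left (J.mul_mem_left z hj))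
      (Submodule.mem_sup_right ?_)
    rw [pow_succ']
    exact Ideal.mul_mem_mul hz hw
  rw [length_eq_length_of_smul_eq_zero (mI k σ) exists_sub_mem_mI hkill,
    Module.length_eq_finrank k N]
  congr 1
  have e1 := (ψ.quotKerEquivOfSurjective hψ).finrank_eq
  have e2 := Submodule.finrank_quotient_add_finrank (LinearMap.ker ψ)
  have e3 : finrank k (LinearMap.ker ψ) = finrank k (part J t) := by
    rw [hker]
    exact (Submodule.comapSubtypeEquivOfLe (inf_le_right : part J t ≤ _)).finrank_eq
  omega

/-- `ℓ_R(R/(J + 𝔪^t)) = ∑_{j<t} (dim R_j - dim J_j)`. -/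
theorem col_L (hJ : J.IsHomogeneous (homogeneousSubmodule σ k)) (t : ℕ) :
    col (L J t) = ((∑ j ∈ Finset.range t,
      (finrank k (homogeneousSubmodule σ k j) - finrank k (part J j)) : ℕ) : ℕ∞) := by
  induction t with
  | zero =>
    rw [L_zero]
    unfold col
    simp
  | succ t ih =>
    rw [← rl_add_col (L_succ_le J t), rl_L J hJ, ih, Finset.sum_range_succ]
    push_cast
    rw [add_comm]

/-- The bridge: the Hilbert–Samuel function of `R/J` at the irrelevant ideal is the sum of the
Hilbert function. -/
theorem hs_eq_sum (hJ : J.IsHomogeneous (homogeneousSubmodule σ k)) (t : ℕ) :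
    hs (mI k σ) (MvPolynomial σ k ⧸ J) t = ((∑ j ∈ Finset.range t,
      (finrank k (homogeneousSubmodule σ k j) - finrank k (part J j)) : ℕ) : ℕ∞) := by
  rw [← col_L J hJ]
  unfold hs
  rw [← col_comap_of_surjective (Submodule.mkQ J) (Submodule.mkQ_surjective J)]
  congr 1
  have h3 : Submodule.map (Submodule.mkQ J)
      (mI k σ ^ t • (⊤ : Submodule (MvPolynomial σ k) (MvPolynomial σ k))) =
      mI k σ ^ t • (⊤ : Submodule (MvPolynomial σ k) (MvPolynomial σ k ⧸ J)) := by
    rw [Submodule.map_smul'', Submodule.map_top, Submodule.range_mkQ]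
  have h4 : (mI k σ ^ t • (⊤ : Submodule (MvPolynomial σ k) (MvPolynomial σ k))) =
      mI k σ ^ t := by
    rw [smul_eq_mul, Ideal.mul_top]
  rw [← h3, h4, Submodule.comap_map_mkQ]
  rfl

end Groth.Agent.Lib.helper26.GrHS
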