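import Mathlib
import Groth.Agent.Lib.Helper26.GrHS1
import Groth.Agent.Lib.Helper26.Graded2
import Groth.Agent.Lib.Helper26.Graded1
import Groth.Agent.Lib.Helper26.HilbDiff
import Groth.Agent.Lib.Helper26.Mult3

/-!
# Graded Hilbert polynomials: dimension and degree (helper26)

For a homogeneous ideal `J ≠ ⊤` of `R = k[X_σ]`, with `H` the Hilbert–Samuel polynomial of `R/J` at
the irrelevant ideal and `P` the Hilbert polynomial (`P(m) = dim R_m - dim J_m` for large `m`):
* `ringKrullDim_eq_natDegree`: `dim R/J = deg H`;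
* `hilbert_sub`: `H(X+1) - H = P`;
* `natDegree_hilbert`: if `P ≠ 0`, `deg H = deg P + 1` and `lc P = deg H * lc H`.
-/

set_option autoImplicit false
set_option linter.unusedSectionVars false
universe u

open MvPolynomial Module Pointwise

namespace Groth.Agent.Lib.helper26.GrHS

open Groth.Agent.Lib.helper26.HS Groth.Agent.Lib.helper26.HilbHyper
  Groth.Agent.Lib.helper26.Graded

attribute [local instance] MvPolynomial.gradedAlgebra

section general

variable {A : Type u} [CommRing A]

/-- `(A/r)/x(A/r) ≅ A/(r + (x))`. -/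
noncomputable def quotSMulTopQuotEquiv (r : Ideal A) (x : A) :
    QuotSMulTop x (A ⧸ r) ≃ₗ[A] A ⧸ (r ⊔ Ideal.span {x}) := by
  let φ : A →ₗ[A] QuotSMulTop x (A ⧸ r) :=
    (Submodule.mkQ (x • (⊤ : Submodule A (A ⧸ r)))) ∘ₗ (Submodule.mkQ r)
  have hφ : Function.Surjective φ :=
    (Submodule.mkQ_surjective _).comp (Submodule.mkQ_surjective r)
  have hker : LinearMap.ker φ = r ⊔ Ideal.span {x} := by
    rw [LinearMap.ker_comp, Submodule.ker_mkQ]
    have h1 : (x • (⊤ : Submodule A (A ⧸ r))) =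
        Submodule.map (Submodule.mkQ r) (Ideal.span {x}) := by
      rw [← Submodule.ideal_span_singleton_smul x (⊤ : Submodule A (A ⧸ r))]
      have h2 : (Ideal.span {x} : Submodule A A) =
          Ideal.span {x} • (⊤ : Submodule A A) := by
        rw [smul_eq_mul, Ideal.mul_top]
      conv_rhs => rw [h2]
      rw [Submodule.map_smul'', Submodule.map_top, Submodule.range_mkQ]
    rw [h1, Submodule.comap_map_mkQ]
  exact ((Submodule.quotEquivOfEq _ _ hker.symm).trans
    (φ.quotKerEquivOfSurjective hφ)).symm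

end general

variable {k : Type u} [Field k] {σ : Type} [Finite σ]

variable (J : Ideal (MvPolynomial σ k))

theorem hs_eq_col_L (t : ℕ) : hs (mI k σ) (MvPolynomial σ k ⧸ J) t = col (L J t) := by
  unfold hs
  rw [← col_comap_of_surjective (Submodule.mkQ J) (Submodule.mkQ_surjective J)]
  congr 1
  have h3 : Submodule.map (Submodule.mkQ J)
      (mI k σ ^ t • (⊤ : Submodule (MvPolynomial σ k) (MvPolynomial σ k))) =
      mI k σ ^ t • (⊤ : Submodule (MvPolynomial σ k) (MvPolynomial σ k ⧸ J)) := by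
    rw [Submodule.map_smul'', Submodule.map_top, Submodule.range_mkQ]
  have h4 : (mI k σ ^ t • (⊤ : Submodule (MvPolynomial σ k) (MvPolynomial σ k))) =
      mI k σ ^ t := by
    rw [smul_eq_mul, Ideal.mul_top]
  rw [← h3, h4, Submodule.comap_map_mkQ]
  rfl

theorem hs_one_ne_top (hJ : J.IsHomogeneous (homogeneousSubmodule σ k)) :
    hs (mI k σ) (MvPolynomial σ k ⧸ J) 1 ≠ ⊤ := by
  rw [hs_eq_sum J hJ]
  exact ENat.natCast_ne_top _

theorem hs_pos (hJ : J.IsHomogeneous (homogeneousSubmodule σ k)) (hne : J ≠ ⊤) (t : ℕ)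
    (ht : 1 ≤ t) : 1 ≤ hs (mI k σ) (MvPolynomial σ k ⧸ J) t := by
  refine le_trans ?_ (hs_mono (mI k σ) (MvPolynomial σ k ⧸ J) ht)
  rw [hs_eq_col_L]
  unfold col
  rw [Order.one_le_iff_pos, pos_iff_ne_zero, Ne, Module.length_eq_zero_iff, not_subsingleton_iff_nontrivial,
    Submodule.Quotient.nontrivial_iff]
  have hle : L J 1 ≤ mI k σ := by
    unfold L
    rw [pow_one, sup_le_iff]
    exact ⟨le_span_X_of_isHomogeneous hJ hne, le_rfl⟩
  intro h
  have hmax : (mI k σ).IsMaximal := span_X_isMaximal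
  exact hmax.ne_top (top_le_iff.1 (h ▸ hle))

theorem hsPoly_ne_zero (hJ : J.IsHomogeneous (homogeneousSubmodule σ k)) (hne : J ≠ ⊤)
    {H : Polynomial ℚ} (hH : IsHSPoly (mI k σ) (MvPolynomial σ k ⧸ J) H) : H ≠ 0 := by
  rintro rfl
  obtain ⟨N, hN⟩ := hH
  have h1 := hN (N + 1) (Nat.le_succ N)
  simp only [Polynomial.eval_zero, Nat.cast_eq_zero] at h1
  have h2 := hs_pos J hJ hne (N + 1) (by omega)
  rcases (ENat.toNat_eq_zero).1 h1 with h | h
  · rw [h] at h2
    simp at h2
  · exact hs_ne_top (mI k σ) _ (hs_one_ne_top J hJ) _ h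

/-- `dim R/J ≤ deg H`, by induction on the degree. -/
theorem ringKrullDim_le_of_natDegree_le : ∀ (D : ℕ) (J : Ideal (MvPolynomial σ k))
    (_ : J.IsHomogeneous (homogeneousSubmodule σ k)) (H : Polynomial ℚ)
    (_ : IsHSPoly (mI k σ) (MvPolynomial σ k ⧸ J) H) (_ : H.natDegree ≤ D),
    ringKrullDim (MvPolynomial σ k ⧸ J) ≤ D := by
  intro D
  induction D using Nat.strong_induction_on with
  | _ D ih =>
  intro J hJ H hH hD
  apply ringKrullDim_quotient_le_of_forall_minimalPrimes
  intro r hr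
  have hrp : r.IsPrime := hr.1.1
  have hrh : r.IsHomogeneous (homogeneousSubmodule σ k) := isHomogeneous_of_mem_minimalPrimes hJ hr
  have hJr : J ≤ r := hr.1.2
  have hMJ := hs_one_ne_top J hJ
  have hMr := hs_one_ne_top r hrh
  obtain ⟨Hr, hHr⟩ := exists_isHSPoly (mI k σ) hMr
  have hdeg : Hr.natDegree ≤ H.natDegree :=
    natDegree_le_of_surjective (mI k σ) (Submodule.mapQ J r LinearMap.id hJr)
      (by
        intro y
        obtain ⟨p, rfl⟩ := Submodule.Quotient.mk_surjective _ y
        exact ⟨Submodule.Quotient.mk p, rfl⟩) hMJ hHr hH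
  by_cases hm : mI k σ ≤ r
  · have hmax : (mI k σ).IsMaximal := span_X_isMaximal
    have hreq : r = mI k σ := (hmax.eq_of_le hrp.ne_top hm).symm
    have : r.IsMaximal := hreq ▸ hmax
    let _ : Field (MvPolynomial σ k ⧸ r) := Ideal.Quotient.field r
    rw [ringKrullDim_eq_zero_of_field]
    exact_mod_cast Nat.zero_le D
  · obtain ⟨i, hi⟩ : ∃ i : σ, (X i : MvPolynomial σ k) ∉ r := by
      by_contra hcon
      push Not at hcon
      apply hm
      rw [Ideal.span_le]
      rintro _ ⟨i, rfl⟩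
      exact hcon i
    set x : MvPolynomial σ k := X i with hx
    set J' : Ideal (MvPolynomial σ k) := r ⊔ Ideal.span {x} with hJ'
    have hxh : x.IsHomogeneous 1 := isHomogeneous_X k i
    have hJ'h : J'.IsHomogeneous (homogeneousSubmodule σ k) := by
      refine Ideal.IsHomogeneous.sup hrh ?_
      apply Ideal.homogeneous_span
      intro y hy
      rw [Set.mem_singleton_iff] at hy
      rw [hy]
      exact ⟨1, (mem_homogeneousSubmodule 1 x).2 hxh⟩
    have hJ'le : J' ≤ mI k σ := by
      rw [hJ', sup_le_iff]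
      refine ⟨le_span_X_of_isHomogeneous hrh hrp.ne_top, ?_⟩
      rw [Ideal.span_le, Set.singleton_subset_iff]
      exact Ideal.subset_span ⟨i, rfl⟩
    have hJ'ne : J' ≠ ⊤ := by
      intro h
      have hmax : (mI k σ).IsMaximal := span_X_isMaximal
      exact hmax.ne_top (top_le_iff.1 (h ▸ hJ'le))
    -- dimension drops by exactly one
    have hdim : ringKrullDim (MvPolynomial σ k ⧸ r) ≤
        ringKrullDim (MvPolynomial σ k ⧸ J') + 1 := by
      obtain ⟨m', hm'⟩ := Ideal.exists_le_maximal J' hJ'ne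
      have hm'p : m'.IsPrime := hm'.1.isPrime
      obtain ⟨P, hP, -⟩ := Ideal.exists_minimalPrimes_le (I := J') (J := m') hm'.2
      have hPp : P.IsPrime := hP.1.1
      have h1 := dim_quotient_of_mem_minimalPrimes_sup_span k (MvPolynomial σ k) r x hi P hP
      rw [← h1]
      gcongr
      exact ringKrullDim_le_of_surjective (Ideal.Quotient.factor hP.1.2)
        (Ideal.Quotient.factor_surjective hP.1.2)
    have hreg : IsSMulRegular (MvPolynomial σ k ⧸ r) x := isSMulRegular_quotient_of_notMem hi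
    have hMJ' := hs_one_ne_top J' hJ'h
    obtain ⟨H', hH'⟩ := exists_isHSPoly (mI k σ) hMJ'
    have hH'q : IsHSPoly (mI k σ) (QuotSMulTop x (MvPolynomial σ k ⧸ r)) H' := by
      obtain ⟨N, hN⟩ := hH'
      refine ⟨N, fun n hn => ?_⟩
      rw [hs_of_equiv (mI k σ) (quotSMulTopQuotEquiv r x)]
      exact hN n hn
    refine hdim.trans ?_
    rcases Nat.eq_zero_or_pos Hr.natDegree with h0 | hpos
    · exfalso
      have hz : H' = 0 := quotSMulTop_poly_eq_zero (mI k σ) hreg hMr hHr hH'q h0
      exact hsPoly_ne_zero J' hJ'h hJ'ne hH' hz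
    · have hlt : H'.natDegree < Hr.natDegree :=
        natDegree_quotSMulTop_lt (mI k σ) hreg hMr hHr hH'q hpos
      have hlt' : Hr.natDegree - 1 < D := by omega
      have h2 := ih (Hr.natDegree - 1) hlt' J' hJ'h H' hH' (by omega)
      calc ringKrullDim (MvPolynomial σ k ⧸ J') + 1
          ≤ ((Hr.natDegree - 1 : ℕ) : WithBot ℕ∞) + 1 := add_le_add h2 le_rfl
        _ = ((Hr.natDegree - 1 + 1 : ℕ) : WithBot ℕ∞) := by push_cast; rfl
        _ ≤ (D : WithBot ℕ∞) := by
          have : Hr.natDegree - 1 + 1 ≤ D := by omega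
          exact_mod_cast this

/-- The dimension of `R/J` is the degree of the Hilbert–Samuel polynomial at the irrelevant ideal. -/
theorem ringKrullDim_eq_natDegree (hJ : J.IsHomogeneous (homogeneousSubmodule σ k)) (hne : J ≠ ⊤)
    {H : Polynomial ℚ} (hH : IsHSPoly (mI k σ) (MvPolynomial σ k ⧸ J) H) :
    ringKrullDim (MvPolynomial σ k ⧸ J) = H.natDegree := by
  apply le_antisymm
  · exact ringKrullDim_le_of_natDegree_le H.natDegree J hJ H hH le_rfl
  · have hnt : Nontrivial (MvPolynomial σ k ⧸ J) := Ideal.Quotient.nontrivial_iff.2 hne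
    have hbot : ringKrullDim (MvPolynomial σ k ⧸ J) ≠ ⊥ := by
      have h0 := ringKrullDim_nonneg_of_nontrivial (R := MvPolynomial σ k ⧸ J)
      intro h
      rw [h] at h0
      simp at h0
    induction hx : ringKrullDim (MvPolynomial σ k ⧸ J) using WithBot.recBotCoe with
    | bot => exact absurd hx hbot
    | coe a =>
      induction a using ENat.recTopCoe with
      | top => exact WithBot.coe_le_coe.2 le_top
      | coe d =>
        have := natDegree_le_of_supportDim_le (mI k σ) d (MvPolynomial σ k ⧸ J)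
          (hs_one_ne_top J hJ) H hH
          (by rw [Module.supportDim_quotient_eq_ringKrullDim, hx]; rfl)
        exact_mod_cast this

/-- The Hilbert polynomial is the difference of the Hilbert–Samuel polynomial. -/
theorem hilbert_sub (hJ : J.IsHomogeneous (homogeneousSubmodule σ k))
    {H P : Polynomial ℚ} (hH : IsHSPoly (mI k σ) (MvPolynomial σ k ⧸ J) H)
    (hP : ∃ m₀ : ℕ, ∀ m : ℕ, m₀ ≤ m → P.eval (m : ℚ) =
      (finrank k (homogeneousSubmodule σ k m) : ℚ) - finrank k (part J m)) :
    H.comp (Polynomial.X + Polynomial.C 1) - H = P := by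
  obtain ⟨N, hN⟩ := hH
  obtain ⟨m₀, hm₀⟩ := hP
  apply eq_of_eventually_eq _ _ (max N m₀)
  intro n hn
  have hn1 : N ≤ n := le_trans (le_max_left _ _) hn
  have hn2 : m₀ ≤ n := le_trans (le_max_right _ _) hn
  rw [Polynomial.eval_sub, Polynomial.eval_comp, Polynomial.eval_add, Polynomial.eval_X, Polynomial.eval_C, hm₀ n hn2]
  have h1 := hN n hn1
  have h2 := hN (n + 1) (by omega)
  push_cast at h2
  rw [← h1, ← h2, hs_eq_sum J hJ, hs_eq_sum J hJ, ENat.toNat_natCast, ENat.toNat_natCast,
    Finset.sum_range_succ]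
  have hle : finrank k (part J n) ≤ finrank k (homogeneousSubmodule σ k n) :=
    Submodule.finrank_mono (inf_le_right : part J n ≤ homogeneousSubmodule σ k n)
  push_cast [Nat.cast_sub hle]
  ring

/-- Degrees and leading coefficients of the Hilbert and Hilbert–Samuel polynomials. -/
theorem natDegree_hilbert (hJ : J.IsHomogeneous (homogeneousSubmodule σ k))
    {H P : Polynomial ℚ} (hH : IsHSPoly (mI k σ) (MvPolynomial σ k ⧸ J) H)
    (hP : ∃ m₀ : ℕ, ∀ m : ℕ, m₀ ≤ m → P.eval (m : ℚ) =
      (finrank k (homogeneousSubmodule σ k m) : ℚ) - finrank k (part J m))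
    (hP0 : P ≠ 0) :
    P.natDegree + 1 = H.natDegree ∧ P.leadingCoeff = (H.natDegree : ℚ) * H.leadingCoeff := by
  have hsub := hilbert_sub J hJ hH hP
  have hpos : 1 ≤ H.natDegree := by
    by_contra hcon
    have h0 : H.natDegree = 0 := by omega
    apply hP0
    rw [← hsub, Polynomial.eq_C_of_natDegree_eq_zero h0]
    simp
  obtain ⟨h1, h2⟩ := natDegree_sub_comp_eq H 1 one_ne_zero hpos
  have hneg : P = -(H - H.comp (Polynomial.X + Polynomial.C 1)) := by
    rw [← hsub]; ring
  rw [hneg, Polynomial.natDegree_neg, Polynomial.leadingCoeff_neg, h2]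
  refine ⟨h1, ?_⟩
  ring

end Groth.Agent.Lib.helper26.GrHS
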