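import Mathlib
import Groth.Agent.Lib.Helper26.GrHS2

/-!
# Graded Hilbert polynomials: existence and dimension bounds (helper26)

* `exists_hilbertPoly`: the Hilbert polynomial of `R/J` exists;
* `hilbertPoly_zero_of_top`, `ne_top_of_hilbertPoly_ne_zero`;
* `ringKrullDim_eq_of_hilbertPoly`: `dim R/J = deg P + 1` when `P ≠ 0`.
-/

set_option autoImplicit false
set_option linter.unusedSectionVars false
universe u

open MvPolynomial Module Pointwise

namespace Groth.Agent.Lib.helper26.GrHS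

open Groth.Agent.Lib.helper26.HS Groth.Agent.Lib.helper26.HilbHyper
  Groth.Agent.Lib.helper26.Graded

attribute [local instance] MvPolynomial.gradedAlgebra

variable {k : Type u} [Field k] {σ : Type} [Finite σ] (J : Ideal (MvPolynomial σ k))

/-- `P` is the Hilbert polynomial of `R/J`. -/
def IsHilbPoly (P : Polynomial ℚ) : Prop :=
  ∃ m₀ : ℕ, ∀ m : ℕ, m₀ ≤ m → P.eval (m : ℚ) =
    (finrank k (homogeneousSubmodule σ k m) : ℚ) - finrank k (part J m)

theorem IsHilbPoly.unique {P Q : Polynomial ℚ} (hP : IsHilbPoly J P) (hQ : IsHilbPoly J Q) :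
    P = Q := by
  obtain ⟨N, hN⟩ := hP
  obtain ⟨N', hN'⟩ := hQ
  apply eq_of_eventually_eq P Q (max N N')
  intro n hn
  rw [hN n (le_trans (le_max_left _ _) hn), hN' n (le_trans (le_max_right _ _) hn)]

theorem exists_hilbertPoly (hJ : J.IsHomogeneous (homogeneousSubmodule σ k)) :
    ∃ P : Polynomial ℚ, IsHilbPoly J P := by
  obtain ⟨H, N, hN⟩ := exists_isHSPoly (mI k σ) (hs_one_ne_top J hJ)
  refine ⟨H.comp (Polynomial.X + Polynomial.C 1) - H, N, fun n hn => ?_⟩
  rw [Polynomial.eval_sub, Polynomial.eval_comp, Polynomial.eval_add, Polynomial.eval_X,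
    Polynomial.eval_C]
  have h1 := hN n hn
  have h2 := hN (n + 1) (by omega)
  push_cast at h2
  rw [← h1, ← h2, hs_eq_sum J hJ, hs_eq_sum J hJ, ENat.toNat_natCast, ENat.toNat_natCast,
    Finset.sum_range_succ]
  have hle : finrank k (part J n) ≤ finrank k (homogeneousSubmodule σ k n) :=
    Submodule.finrank_mono (inf_le_right : part J n ≤ homogeneousSubmodule σ k n)
  push_cast [Nat.cast_sub hle]
  ring

omit [Finite σ] in
theorem part_top (m : ℕ) : part (⊤ : Ideal (MvPolynomial σ k)) m = homogeneousSubmodule σ k m := by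
  unfold part
  rw [Submodule.restrictScalars_top, top_inf_eq]

theorem isHilbPoly_top : IsHilbPoly (⊤ : Ideal (MvPolynomial σ k)) 0 :=
  ⟨0, fun m _ => by rw [Polynomial.eval_zero, part_top, sub_self]⟩

theorem ne_top_of_isHilbPoly_ne_zero {P : Polynomial ℚ} (hP : IsHilbPoly J P) (hP0 : P ≠ 0) :
    J ≠ ⊤ := by
  rintro rfl
  exact hP0 (hP.unique _ isHilbPoly_top)

/-- `dim R/J = deg P + 1` for a nonzero Hilbert polynomial `P`. -/
theorem ringKrullDim_eq_of_isHilbPoly (hJ : J.IsHomogeneous (homogeneousSubmodule σ k))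
    {P : Polynomial ℚ} (hP : IsHilbPoly J P) (hP0 : P ≠ 0) :
    ringKrullDim (MvPolynomial σ k ⧸ J) = ((P.natDegree + 1 : ℕ) : WithBot ℕ∞) := by
  have hne := ne_top_of_isHilbPoly_ne_zero J hP hP0
  obtain ⟨H, hH⟩ := exists_isHSPoly (mI k σ) (hs_one_ne_top J hJ)
  have h1 := natDegree_hilbert J hJ hH hP hP0
  rw [ringKrullDim_eq_natDegree J hJ hne hH, ← h1.1]

/-- If the Hilbert polynomial vanishes then `J` contains a power of the irrelevant ideal, i.e.
`dim R/J ≤ 0`. -/
theorem ringKrullDim_le_zero_of_isHilbPoly_zero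
    (hJ : J.IsHomogeneous (homogeneousSubmodule σ k)) (hP : IsHilbPoly J 0) :
    ringKrullDim (MvPolynomial σ k ⧸ J) ≤ 0 := by
  obtain ⟨H, hH⟩ := exists_isHSPoly (mI k σ) (hs_one_ne_top J hJ)
  have hsub := hilbert_sub J hJ hH hP
  have h0 : H.natDegree = 0 := by
    by_contra hcon
    have hpos : 1 ≤ H.natDegree := by omega
    obtain ⟨h1, h2⟩ := Groth.Agent.Lib.helper26.HS.natDegree_sub_comp_eq H 1 one_ne_zero hpos
    have hz : H - H.comp (Polynomial.X + Polynomial.C 1) = 0 := by
      rw [← neg_sub, hsub, neg_zero]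
    rw [hz, Polynomial.leadingCoeff_zero] at h2
    have hlc : H.leadingCoeff ≠ 0 := by
      rw [Ne, Polynomial.leadingCoeff_eq_zero]
      rintro rfl
      simp at hpos
    have : (H.natDegree : ℚ) ≠ 0 := by exact_mod_cast hcon
    have h3 : -(H.natDegree : ℚ) * 1 * H.leadingCoeff ≠ 0 := by
      simp [this, hlc]
    exact h3 h2.symm
  have := ringKrullDim_le_of_natDegree_le 0 J hJ H hH (by omega)
  exact_mod_cast this

end Groth.Agent.Lib.helper26.GrHS
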