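import Mathlib
import Groth.Agent.Lib.Helper26.Kos12
import Groth.Agent.Lib.Helper7.TorAPI3
import Groth.Agent.S15821

/-!
# Koszul homology, part 13: the Koszul complex of a regular sequence as a projective resolution,
Koszul homology as Tor (helper26)
-/

set_option autoImplicit false
set_option linter.unusedSectionVars false
universe u

open CategoryTheory CochainComplex HomComplex Pointwise

namespace Groth.Agent.Lib.helper26.Kos

open Groth.Agent.Lib.helper26.HS Groth.Agent.Lib.helper7.KoszulLow

variable {A : Type u} [CommRing A]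

/-- `n ↦ -n`. -/
abbrev ng (n : ℕ) : ℤ := -(n : ℤ)

section toChain

variable (K : CochainComplex (ModuleCat.{u} A) ℤ)

/-- The chain complex `n ↦ K^{-n}` attached to a cochain complex. -/
noncomputable def toChain : ChainComplex (ModuleCat.{u} A) ℕ :=
  ChainComplex.of (fun n => K.X (ng n)) (fun n => K.d (ng (n + 1)) (ng n))
    (fun _ => K.d_comp_d _ _ _)

theorem toChain_d (n : ℕ) : (toChain K).d (n + 1) n = K.d (ng (n + 1)) (ng n) :=
  ChainComplex.of_d (fun n => K.X (ng n)) (fun n => K.d (ng (n + 1)) (ng n)) n

variable {K} {Z : ModuleCat.{u} A} (aug : K.X (ng 0) ⟶ Z)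
  (haug : K.d (ng (0 + 1)) (ng 0) ≫ aug = 0)

/-- The augmentation as a chain map to the single complex. -/
noncomputable def toChainπ : toChain K ⟶ (ChainComplex.single₀ (ModuleCat.{u} A)).obj Z :=
  ((toChain K).toSingle₀Equiv _).symm ⟨aug, by rw [toChain_d]; exact haug⟩

theorem toChainπ_f_zero : (toChainπ aug haug).f 0 = aug := by
  unfold toChainπ
  exact ChainComplex.toSingle₀Equiv_symm_apply_f_zero _ _

set_option backward.defeqAttrib.useBackward true in
set_option backward.isDefEq.respectTransparency false in
theorem quasiIso_toChainπ (hsurj : Function.Surjective aug)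
    (hex0 : LinearMap.range (K.d (ng (0 + 1)) (ng 0)).hom = LinearMap.ker aug.hom)
    (hex : ∀ m : ℕ, LinearMap.range (K.d (ng (m + 1 + 1)) (ng (m + 1))).hom =
      LinearMap.ker (K.d (ng (m + 1)) (ng m)).hom) :
    QuasiIso (toChainπ aug haug) where
  quasiIsoAt m := by
    induction m with
    | zero =>
      rw [ChainComplex.quasiIsoAt₀_iff, ShortComplex.quasiIso_iff_of_zeros' _ rfl rfl rfl]
      constructor
      · rw [ShortComplex.moduleCat_exact_iff_range_eq_ker]
        dsimp
        rw [toChainπ_f_zero, toChain_d]
        exact hex0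
      · dsimp
        rw [toChainπ_f_zero, ModuleCat.epi_iff_surjective]
        exact hsurj
    | succ m _ =>
      rw [quasiIsoAt_iff_exactAt' (hL := ChainComplex.exactAt_succ_single_obj ..),
          HomologicalComplex.exactAt_iff' _ (m + 2) (m + 1) m (by simp) (by simp)]
      rw [ShortComplex.moduleCat_exact_iff_range_eq_ker]
      dsimp
      rw [toChain_d, toChain_d]
      exact hex m

end toChain


section general

/-- Length of the homology of a complex of modules of any shape, as a relative length. -/
theorem hlen_eq {ι : Type*} {c : ComplexShape ι} (D : HomologicalComplex (ModuleCat.{u} A) c)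
    (i j k : ι) (hi : c.prev j = i) (hk : c.next j = k) :
    Module.length A (D.homology j) =
      rl (LinearMap.ker (D.d j k).hom) (LinearMap.range (D.d i j).hom) := by
  have e1 := (D.homologyIsoSc' i j k hi hk).toLinearEquiv.length_eq
  have e2 := ((D.sc' i j k).moduleCatHomologyIso).toLinearEquiv.length_eq
  rw [e1, e2]
  unfold rl
  have : LinearMap.range (D.sc' i j k).moduleCatToCycles =
      (LinearMap.range (D.d i j).hom).comap (LinearMap.ker (D.d j k).hom).subtype := by
    ext z
    constructor
    · rintro ⟨x, rfl⟩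
      exact ⟨x, rfl⟩
    · rintro ⟨x, hx⟩
      exact ⟨x, Subtype.ext hx⟩
  rw [← this]
  rfl

end general

section projective

variable (M : Type u) [AddCommGroup M] [Module A M] [Module.Projective A M]

theorem projective_koszulCx : ∀ (l : List A) (n : ℤ),
    Module.Projective A ((CohIII.koszulCx (ModuleCat.of A M) l).X n)
  | [], n => by
    by_cases hn : n = 0
    · subst hn
      exact Module.Projective.of_equiv (HomologicalComplex.singleObjXSelf (ComplexShape.up ℤ) 0
        (ModuleCat.of A M)).toLinearEquiv.symm
    · have : Subsingleton ((CohIII.koszulCx (ModuleCat.of A M) ([] : List A)).X n) :=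
        ModuleCat.subsingleton_of_isZero
          (HomologicalComplex.isZero_single_obj_X (ComplexShape.up ℤ) 0 _ n hn)
      infer_instance
  | x :: l, n => by
    have h1 := projective_koszulCx l (n + 1)
    have h2 := projective_koszulCx l n
    exact Module.Projective.of_equiv
      (coneEquiv (x • 𝟙 (CohIII.koszulCx (ModuleCat.of A M) l)) n (n + 1) rfl).symm

end projective


section resolution

variable [IsNoetherianRing A]

/-- The Koszul complex of a weakly regular sequence is a projective resolution of `A/(l)`. -/
theorem exists_koszulRes (l : List A) (hl : RingTheory.Sequence.IsWeaklyRegular A l)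
    (I : Ideal A) (hI : I = Ideal.span {b | b ∈ l}) :
    ∃ P : ProjectiveResolution (ModuleCat.of A (A ⧸ I)),
      P.complex = toChain (CohIII.koszulCx (ModuleCat.of A A) l) := by
  obtain ⟨e0, hpos, hrange⟩ := exists_low A l
  have hrange' : (LinearMap.range ((CohIII.koszulCx (ModuleCat.of A A) l).d (-1) 0).hom).map
      e0.toLinearMap = I := by
    rw [hrange, hI, smul_eq_mul, Ideal.mul_top]
  let aug : (CohIII.koszulCx (ModuleCat.of A A) l).X (ng 0) ⟶ ModuleCat.of A (A ⧸ I) :=
    ModuleCat.ofHom ((Submodule.mkQ I) ∘ₗ e0.toLinearMap)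
  have haug_apply : ∀ z, aug z = Submodule.Quotient.mk (e0 z) := fun z => rfl
  have hdmem : ∀ z, e0 (((CohIII.koszulCx (ModuleCat.of A A) l).d (-1) 0).hom z) ∈ I := by
    intro z
    rw [← hrange']
    exact ⟨_, ⟨z, rfl⟩, rfl⟩
  have haug : (CohIII.koszulCx (ModuleCat.of A A) l).d (ng (0 + 1)) (ng 0) ≫ aug = 0 := by
    ext z
    show aug (((CohIII.koszulCx (ModuleCat.of A A) l).d (-1) 0).hom z) = 0
    rw [haug_apply, Submodule.Quotient.mk_eq_zero]
    exact hdmem z
  have hsurj : Function.Surjective aug := by
    intro y
    obtain ⟨a, rfl⟩ := Submodule.mkQ_surjective I y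
    exact ⟨e0.symm a, by rw [haug_apply, LinearEquiv.apply_symm_apply]; rfl⟩
  have hex0 : LinearMap.range ((CohIII.koszulCx (ModuleCat.of A A) l).d (ng (0 + 1)) (ng 0)).hom =
      LinearMap.ker aug.hom := by
    ext z
    constructor
    · rintro ⟨y, rfl⟩
      rw [LinearMap.mem_ker]
      show aug _ = 0
      rw [haug_apply, Submodule.Quotient.mk_eq_zero]
      exact hdmem y
    · intro hz
      rw [LinearMap.mem_ker] at hz
      have hz' : aug z = 0 := hz
      rw [haug_apply, Submodule.Quotient.mk_eq_zero, ← hrange'] at hz'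
      obtain ⟨_, ⟨y, rfl⟩, hy⟩ := hz'
      exact ⟨y, e0.injective hy⟩
  have hex : ∀ m : ℕ, LinearMap.range ((CohIII.koszulCx (ModuleCat.of A A) l).d
      (ng (m + 1 + 1)) (ng (m + 1))).hom =
      LinearMap.ker ((CohIII.koszulCx (ModuleCat.of A A) l).d (ng (m + 1)) (ng m)).hom := by
    intro m
    have hz := Groth.Agent.S2423.homology_isZero l A hl (ng (m + 1)) (by simp [ng]; omega)
    have hex1 := ((CohIII.koszulCx (ModuleCat.of A A) l).exactAt_iff_isZero_homology _).2 hz
    rw [HomologicalComplex.exactAt_iff' _ (ng (m + 1 + 1)) (ng (m + 1)) (ng m)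
      (by simp [ng]; try omega) (by simp [ng]; try omega),
      ShortComplex.moduleCat_exact_iff_range_eq_ker] at hex1
    exact hex1
  refine ⟨{ complex := toChain (CohIII.koszulCx (ModuleCat.of A A) l)
            projective := fun n => ?_
            π := toChainπ aug haug
            quasiIso := quasiIso_toChainπ aug haug hsurj hex0 hex }, rfl⟩
  have := projective_koszulCx A l (ng n)
  exact (IsProjective.iff_projective (R := A) _).mp this

end resolution


section tor

variable [IsNoetherianRing A]

open MonoidalCategory in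
/-- Comparison of the homology of `toChain K ⊗ M` and of `K ⊗ M`. -/
theorem length_homology_toChain (K : CochainComplex (ModuleCat.{u} A) ℤ)
    (hpos : Subsingleton (K.X 1)) (N : ModuleCat.{u} A) (n : ℕ) :
    Module.length A ((((tensorRight N).mapHomologicalComplex (ComplexShape.down ℕ)).obj
      (toChain K)).homology n) = hl (DRing.tensorCx K N) (ng n) := by
  cases n with
  | zero =>
    rw [hlen_eq _ 1 0 0 (by simp) (by simp), hl_eq _ (-1) (ng 0) 1 (by simp [ng]) (by simp [ng])]
    have h1 : LinearMap.ker ((((tensorRight N).mapHomologicalComplex (ComplexShape.down ℕ)).obj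
        (toChain K)).d 0 0).hom = ⊤ := by
      rw [HomologicalComplex.shape _ 0 0 (by simp)]
      simp
    have hsub : Subsingleton ((DRing.tensorCx K N).X 1) := by
      have hz : Limits.IsZero (K.X 1) := ModuleCat.isZero_of_subsingleton _
      have hz' : Limits.IsZero ((tensorRight N).obj (K.X 1)) :=
        Functor.map_isZero (tensorRight N) hz
      exact ModuleCat.subsingleton_of_isZero hz'
    have h2 : LinearMap.ker ((DRing.tensorCx K N).d (ng 0) 1).hom = ⊤ := by
      rw [eq_top_iff]
      intro z _
      rw [LinearMap.mem_ker]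
      exact Subsingleton.elim _ _
    rw [h1, h2]
    have h3 : (((tensorRight N).mapHomologicalComplex (ComplexShape.down ℕ)).obj
        (toChain K)).d 1 0 = (tensorRight N).map (K.d (ng (0 + 1)) (ng 0)) := by
      rw [Functor.mapHomologicalComplex_obj_d, toChain_d]
      rfl
    rw [h3]
    rfl
  | succ m =>
    rw [hlen_eq _ (m + 1 + 1) (m + 1) m (by simp) (by simp),
      hl_eq _ (ng (m + 1 + 1)) (ng (m + 1)) (ng m) (by simp [ng]; try omega)
        (by simp [ng]; try omega)]
    have h3 : (((tensorRight N).mapHomologicalComplex (ComplexShape.down ℕ)).obj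
        (toChain K)).d (m + 1) m = (tensorRight N).map (K.d (ng (m + 1)) (ng m)) := by
      rw [Functor.mapHomologicalComplex_obj_d, toChain_d]
      rfl
    have h4 : (((tensorRight N).mapHomologicalComplex (ComplexShape.down ℕ)).obj
        (toChain K)).d (m + 1 + 1) (m + 1) =
        (tensorRight N).map (K.d (ng (m + 1 + 1)) (ng (m + 1))) := by
      rw [Functor.mapHomologicalComplex_obj_d, toChain_d]
      rfl
    rw [h3, h4]
    rfl

/-- Koszul homology of a weakly regular sequence computes `Tor(A/(l), M)`. -/
theorem length_tor_eq_hl (l : List A) (hl' : RingTheory.Sequence.IsWeaklyRegular A l)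
    (I : Ideal A) (hI : I = Ideal.span {b | b ∈ l})
    (M : Type u) [AddCommGroup M] [Module A M] (n : ℕ) :
    Module.length A (DRing.Tor A n (A ⧸ I) M) = hl (KM M l) (ng n) := by
  obtain ⟨P, hP⟩ := exists_koszulRes l hl' I hI
  obtain ⟨e⟩ := Groth.Agent.Lib.helper7.TorAPI.nonempty_iso_homology_tensorRight
    (ModuleCat.of A (A ⧸ I)) (ModuleCat.of A M) P n
  have h1 : Module.length A (DRing.Tor A n (A ⧸ I) M) = _ := e.toLinearEquiv.length_eq
  rw [h1, hP]
  obtain ⟨_, hpos, -⟩ := exists_low A l
  rw [length_homology_toChain _ (hpos 1 one_pos)]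
  unfold KM
  rw [Groth.Agent.LibKoszulLoc29.koszul_eq_koszulCx]

end tor

end Groth.Agent.Lib.helper26.Kos
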