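import Mathlib
import Groth.Agent.Lib.Helper26.Kos14
import Groth.Agent.Lib.Helper26.Kos13

/-!
# Koszul homology, part 15: regularity from vanishing of Koszul homology (helper26)

Over a Noetherian local ring `A`, for a finite module `M` and a list `l` of elements of the maximal
ideal: `l` is weakly regular on `M` iff `H^{-i}(K(l; M)) = 0` for all `i ≥ 1`
(`isWeaklyRegular_iff_kh_eq_zero`).  Consequently, for a weakly regular sequence `l` on `A`
generating `I`, `l` is weakly regular on `M` iff `Tor_i(A/I, M) = 0` for `i ≥ 1`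
(`isWeaklyRegular_iff_tor_eq_zero`).
-/

set_option autoImplicit false
set_option linter.unusedSectionVars false
universe u

open CategoryTheory CochainComplex HomComplex Pointwise

namespace Groth.Agent.Lib.helper26.Kos

open Groth.Agent.Lib.helper26.HS Groth.Agent.Lib.helper7.KoszulLow

variable {A : Type u} [CommRing A]

section sq

variable (C : CochainComplex (ModuleCat.{u} A) ℤ)

/-- The homology of a complex of modules as a subquotient. -/
theorem nonempty_homology_equiv_SQ (i j k : ℤ) (hij : i + 1 = j) (hjk : j + 1 = k) :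
    Nonempty (C.homology j ≃ₗ[A]
      SQ (LinearMap.ker (C.d j k).hom) (LinearMap.range (C.d i j).hom)) := by
  have e1 := (C.homologyIsoSc' i j k (by simp [← hij]) (by simp [← hjk])).toLinearEquiv
  have e2 := ((C.sc' i j k).moduleCatHomologyIso).toLinearEquiv
  have : LinearMap.range (C.sc' i j k).moduleCatToCycles =
      (LinearMap.range (C.d i j).hom).comap (LinearMap.ker (C.d j k).hom).subtype := by
    ext z
    constructor
    · rintro ⟨x, rfl⟩
      exact ⟨x, rfl⟩
    · rintro ⟨x, hx⟩
      exact ⟨x, Subtype.ext hx⟩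
  exact ⟨e1.trans (e2.trans (Submodule.quotEquivOfEq _ _ this))⟩

variable [IsNoetherianRing A]

/-- Nakayama: if `x` in the Jacobson radical acts surjectively on `H^j(C)` and `C^j` is finite, then
`H^j(C) = 0`. -/
theorem hl_eq_zero_of_clJ_eq_zero (x : A) (hx : x ∈ Ideal.jacobson (⊥ : Ideal A)) (j : ℤ)
    [Module.Finite A (C.X j)] (h : clJ C x j = 0) : hl C j = 0 := by
  obtain ⟨e⟩ := nonempty_homology_equiv_SQ C (j - 1) j (j + 1) (by ring) rfl
  unfold clJ at h
  rw [clS_eq, Module.length_eq_zero_iff] at h
  unfold hl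
  rw [e.length_eq, Module.length_eq_zero_iff]
  set Q := SQ (LinearMap.ker (C.d j (j + 1)).hom) (LinearMap.range (C.d (j - 1) j).hom) with hQ
  have hfin : Module.Finite A Q := inferInstance
  have htop : (⊤ : Submodule A Q) ≤ Ideal.span {x} • (⊤ : Submodule A Q) := by
    intro q _
    have h0 : (Submodule.Quotient.mk q : Chi.C x Q) = 0 := Subsingleton.elim _ _
    rw [Submodule.Quotient.mk_eq_zero] at h0
    obtain ⟨w, rfl⟩ := h0
    exact Submodule.smul_mem_smul (Ideal.mem_span_singleton_self x) Submodule.mem_top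
  have hbot := Submodule.eq_bot_of_le_smul_of_le_jacobson_bot (Ideal.span {x}) ⊤
    (Module.Finite.fg_top) htop (by
      rw [Ideal.span_le]
      intro y hy
      rw [Set.mem_singleton_iff] at hy
      rw [hy]; exact hx)
  exact (Submodule.subsingleton_iff A).1 (subsingleton_of_bot_eq_top hbot.symm)

/-- If `ker (x | H^j(C))` has length zero, then `x` is a nonzerodivisor on `H^j(C)`. -/
theorem isSMulRegular_of_klJ_eq_zero (x : A) (j : ℤ) (h : klJ C x j = 0) :
    IsSMulRegular (C.homology j) x := by
  obtain ⟨e⟩ := nonempty_homology_equiv_SQ C (j - 1) j (j + 1) (by ring) rfl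
  unfold klJ at h
  rw [klS_eq, Module.length_eq_zero_iff] at h
  rw [e.isSMulRegular_congr]
  rw [isSMulRegular_iff_right_eq_zero_of_smul]
  intro q hq
  have : (⟨q, hq⟩ : Chi.K x _) = 0 := Subsingleton.elim _ _
  exact congrArg Subtype.val this

end sq

section main

variable [IsNoetherianRing A] [IsLocalRing A]

theorem finite_koszulCx_X (M : Type u) [AddCommGroup M] [Module A M] [Module.Finite A M]
    (l : List A) (j : ℤ) : Module.Finite A ((CohIII.koszulCx (ModuleCat.of A M) l).X j) := by
  obtain ⟨hKS, -⟩ := koszul_KS (⊤ : Ideal A) M l (fun _ _ => Submodule.mem_top)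
  have := hKS.fin j
  exact Module.Finite.equiv (isoX (bridge M l) j)

/-- Weakly regular sequences have vanishing Koszul homology in negative degrees. -/
theorem kh_eq_zero_of_isWeaklyRegular : ∀ (l : List A) (M : Type u) [AddCommGroup M] [Module A M]
    [Module.Finite A M], RingTheory.Sequence.IsWeaklyRegular M l →
    ∀ i : ℕ, 1 ≤ i → kh M l (-(i : ℤ)) = 0 := by
  intro l
  induction l with
  | nil =>
    intro M _ _ _ _ i hi
    apply kh_eq_zero_of_lt
    simp only [List.length_nil, Nat.cast_zero, neg_zero]
    omega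
  | cons x l ih =>
    intro M _ _ _ h i hi
    rw [RingTheory.Sequence.isWeaklyRegular_cons_iff] at h
    rw [kh_cons_of_regular M x h.1]
    exact ih (QuotSMulTop x M) h.2 i hi

/-- Vanishing of the Koszul homology in negative degrees implies regularity (local case). -/
theorem isWeaklyRegular_of_kh_eq_zero (M : Type u) [AddCommGroup M] [Module A M]
    [Module.Finite A M] : ∀ (l : List A), (∀ r ∈ l, r ∈ IsLocalRing.maximalIdeal A) →
    (∀ i : ℕ, 1 ≤ i → kh M l (-(i : ℤ)) = 0) → RingTheory.Sequence.IsWeaklyRegular M l := by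
  intro l
  induction l with
  | nil => intro _ _; exact RingTheory.Sequence.IsWeaklyRegular.nil A M
  | cons a l ih =>
    intro hmem h
    set C := CohIII.koszulCx (ModuleCat.of A M) l with hC
    have hcone : ∀ n : ℤ, kh M (a :: l) n = clJ C a n + klJ C a (n + 1) := by
      intro n
      rw [kh_eq_hl]
      change hl (mappingCone (a • 𝟙 (CohIII.koszulCx (ModuleCat.of A M) l))) n = _
      rw [cone_hl']
    have ha : a ∈ Ideal.jacobson (⊥ : Ideal A) := by
      rw [IsLocalRing.jacobson_eq_maximalIdeal ⊥ bot_ne_top]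
      exact hmem a List.mem_cons_self
    have h1 : ∀ i : ℕ, 1 ≤ i → kh M l (-(i : ℤ)) = 0 := by
      intro i hi
      have h2 := h i hi
      rw [hcone, add_eq_zero] at h2
      have := finite_koszulCx_X M l (-(i : ℤ))
      rw [kh_eq_hl]
      exact hl_eq_zero_of_clJ_eq_zero C a ha _ h2.1
    have hl : RingTheory.Sequence.IsWeaklyRegular M l :=
      ih (fun r hr => hmem r (List.mem_cons_of_mem _ hr)) h1
    have h3 : klJ C a 0 = 0 := by
      have h2 := h 1 le_rfl
      rw [hcone, add_eq_zero] at h2
      have h4 := h2.2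
      have : (-((1 : ℕ) : ℤ) + 1) = 0 := by simp
      rwa [this] at h4
    have hreg := isSMulRegular_of_klJ_eq_zero C a 0 h3
    obtain ⟨e⟩ := nonempty_homology_zero_equiv M l
    rw [e.isSMulRegular_congr] at hreg
    have happ : RingTheory.Sequence.IsWeaklyRegular M (l ++ [a]) := by
      rw [RingTheory.Sequence.isWeaklyRegular_append_iff]
      refine ⟨hl, ?_⟩
      rw [RingTheory.Sequence.isWeaklyRegular_singleton_iff]
      exact hreg
    refine IsLocalRing.isWeaklyRegular_of_perm_of_subset_maximalIdeal happ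
      (List.perm_append_singleton a l) ?_
    intro r hr
    apply hmem
    rw [List.mem_append, List.mem_singleton] at hr
    rcases hr with hr | hr
    · exact List.mem_cons_of_mem _ hr
    · rw [hr]; exact List.mem_cons_self

theorem isWeaklyRegular_iff_kh_eq_zero (M : Type u) [AddCommGroup M] [Module A M]
    [Module.Finite A M] (l : List A) (hmem : ∀ r ∈ l, r ∈ IsLocalRing.maximalIdeal A) :
    RingTheory.Sequence.IsWeaklyRegular M l ↔ ∀ i : ℕ, 1 ≤ i → kh M l (-(i : ℤ)) = 0 :=
  ⟨kh_eq_zero_of_isWeaklyRegular l M, isWeaklyRegular_of_kh_eq_zero M l hmem⟩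

/-- For `l` weakly regular on `A` generating `I`: `l` is weakly regular on `M` iff the higher
`Tor_i(A/I, M)` vanish. -/
theorem isWeaklyRegular_iff_tor_eq_zero (M : Type u) [AddCommGroup M] [Module A M]
    [Module.Finite A M] (l : List A) (hmem : ∀ r ∈ l, r ∈ IsLocalRing.maximalIdeal A)
    (hl' : RingTheory.Sequence.IsWeaklyRegular A l) (I : Ideal A)
    (hI : I = Ideal.span {b | b ∈ l}) :
    RingTheory.Sequence.IsWeaklyRegular M l ↔
      ∀ i : ℕ, 1 ≤ i → Subsingleton (DRing.Tor A i (A ⧸ I) M) := by
  rw [isWeaklyRegular_iff_kh_eq_zero M l hmem]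
  refine forall_congr' fun i => forall_congr' fun _ => ?_
  rw [← Module.length_eq_zero_iff (R := A), length_tor_eq_hl l hl' I hI M i, hl_KM_eq_kh]

end main

end Groth.Agent.Lib.helper26.Kos
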