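import Mathlib
import Groth.Prelude.Def_CAlg
import Groth.Agent.Lib.Helper26.DepthKer
import Groth.Agent.Lib.Helper26.DepthLoc
import Groth.Agent.Lib.Helper26.DepthCR
import Groth.Agent.Lib.Helper26.ReflexiveCrit2

/-!
# Flatness over Artinian local rings from codimension-one data, part 1 (helper26)

Depth along primes of height `≥ 2`, and vanishing of submodules supported in codimension `≥ 2`.
-/

set_option autoImplicit false
set_option linter.unusedSectionVars false
universe u

namespace Groth.Agent.Lib.helper26.ArtFlat

open LocCoh Groth.Agent.Lib.helper26.Depth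

/-- depth at least `k` along every prime of height at least two. -/
def DepthCodimTwo (k : ℕ∞) (B : Type u) [CommRing B] (E : Type u) [AddCommGroup E] [Module B E] :
    Prop :=
  ∀ q : Ideal B, q.IsPrime → 2 ≤ q.height → k ≤ idealDepth q E

variable {B : Type u} [CommRing B] [IsNoetherianRing B]

theorem DepthCodimTwo.mono {k l : ℕ∞} (hkl : k ≤ l) {E : Type u} [AddCommGroup E] [Module B E]
    (h : DepthCodimTwo l B E) : DepthCodimTwo k B E :=
  fun q hq hht => hkl.trans (h q hq hht)

theorem DepthCodimTwo.congr {k : ℕ∞} {E E' : Type u} [AddCommGroup E] [Module B E]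
    [AddCommGroup E'] [Module B E'] (e : E ≃ₗ[B] E')
    (h : DepthCodimTwo k B E) : DepthCodimTwo k B E' := by
  intro q hq hht
  rw [← idealDepth_congr e]
  exact h q hq hht

/-- `(S_k)` for the ring gives depth `≥ k` along primes of height `≥ 2` (for `k ≤ 2`). -/
theorem depthCodimTwo_of_hasSk (k : ℕ) (hk : k ≤ 2) (h : HasSk k B B) :
    DepthCodimTwo k B B := by
  intro q hq hht
  refine le_idealDepth_of_hasSk k B q h ?_
  intro p hp _
  rw [supportDim_localizedModule_self]
  have h1 : q.height ≤ p.asIdeal.height := Ideal.height_mono hp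
  have h2 : (k : ℕ∞) ≤ p.asIdeal.height := by
    refine le_trans ?_ (le_trans hht h1)
    exact_mod_cast hk
  exact_mod_cast h2

/-- a submodule of a module without associated primes of height `≥ 2` which vanishes at all
primes of height `≤ 1` is zero. -/
theorem eq_bot_of_locally_zero (E : Type u) [AddCommGroup E] [Module B E] [Module.Finite B E]
    (hD : DepthCodimTwo 1 B E) (Q : Submodule B E)
    (hQ : ∀ q : Ideal B, q.IsPrime → q.height ≤ 1 → ∀ x ∈ Q, ∃ s : B, s ∉ q ∧ s • x = 0) :
    Q = ⊥ := by
  by_contra hne
  have hnt : Nontrivial Q := Submodule.nontrivial_iff_ne_bot.mpr hne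
  obtain ⟨q, hq⟩ := associatedPrimes.nonempty B Q
  have hqE : q ∈ associatedPrimes B E :=
    associatedPrimes.subset_of_injective (f := Q.subtype) Q.injective_subtype hq
  obtain ⟨hprime, x, hx⟩ := (isAssociatedPrime_iff).mp hq
  have hht : 2 ≤ q.height := by
    by_contra hlt
    have hle : q.height ≤ 1 := by
      rw [not_le] at hlt
      have h12 : (2 : ℕ∞) = 1 + 1 := by norm_num
      rw [h12] at hlt
      exact Order.le_of_lt_add_one hlt
    obtain ⟨s, hs, hsx⟩ := hQ q hprime hle (x : E) x.2
    apply hs
    rw [hx, Submodule.mem_colon_singleton, Submodule.mem_bot]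
    exact Subtype.ext hsx
  have h1 := hD q hprime hht
  obtain ⟨_, h0⟩ := depth_localization_eq_zero_of_mem_associatedPrimes E q hqE
  have h2 := idealDepth_le_depth_localization q E q le_rfl
  rw [h0] at h2
  have : (1 : ℕ∞) ≤ 0 := h1.trans h2
  simp at this

end Groth.Agent.Lib.helper26.ArtFlat
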