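import Mathlib
import Groth.Prelude.Def_CAlg
import Groth.Agent.Lib.Helper26.ArtFlat1

/-!
# Flatness over Artinian local rings from codimension-one data, part 2 (helper26)

Depth of `B/N` (`N` the nilradical) as a `B`-module from `(S₂)` of the ring `B/N`.
-/

set_option autoImplicit false
set_option linter.unusedSectionVars false
universe u

namespace Groth.Agent.Lib.helper26.ArtFlat

open LocCoh Groth.Agent.Lib.helper26.Depth

variable {B : Type u} [CommRing B] [IsNoetherianRing B]

/-- a prime of height `≥ 2` contains a chain `p₀ < p₁ < q`. -/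
lemma exists_chain_of_two_le_height (q : Ideal B) [hq : q.IsPrime] (h : 2 ≤ q.height) :
    ∃ (p₀ p₁ : Ideal B), p₀.IsPrime ∧ p₁.IsPrime ∧ p₀ < p₁ ∧ p₁ < q := by
  let x : PrimeSpectrum B := ⟨q, hq⟩
  have hx : q.height = Order.height x := PrimeSpectrum.height_eq_orderHeight x
  have hfin : Order.height x < ⊤ := by
    rw [← hx]; exact Ideal.height_lt_top_of_isPrime
  have h1 : ((1 : ℕ) : ℕ∞) < Order.height x := by
    rw [← hx]
    refine lt_of_lt_of_le ?_ h
    norm_num
  obtain ⟨y, hyx, hy⟩ := (Order.coe_lt_height_iff hfin).mp h1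
  have hfiny : Order.height y < ⊤ := by rw [hy]; exact ENat.natCast_lt_top 1
  have h0 : ((0 : ℕ) : ℕ∞) < Order.height y := by rw [hy]; norm_num
  obtain ⟨z, hzy, -⟩ := (Order.coe_lt_height_iff hfiny).mp h0
  exact ⟨z.asIdeal, y.asIdeal, z.isPrime, y.isPrime, hzy, hyx⟩

/-- modulo an ideal contained in all three primes, heights `≥ 2` are preserved. -/
lemma two_le_height_map_mk (J : Ideal B) (hJ : J ≤ nilradical B) (q : Ideal B) [hq : q.IsPrime]
    (h : 2 ≤ q.height) : 2 ≤ (q.map (Ideal.Quotient.mk J)).height := by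
  obtain ⟨p₀, p₁, hp₀, hp₁, h01, h1q⟩ := exists_chain_of_two_le_height q h
  have hle : ∀ p : Ideal B, p.IsPrime → J ≤ p := fun p hp =>
    hJ.trans (nilradical_le_prime p)
  have hcm : ∀ p : Ideal B, p.IsPrime →
      (p.map (Ideal.Quotient.mk J)).comap (Ideal.Quotient.mk J) = p := by
    intro p hp
    rw [Ideal.comap_map_of_surjective _ Ideal.Quotient.mk_surjective, ← RingHom.ker_eq_comap_bot,
      Ideal.mk_ker, sup_eq_left.mpr (hle p hp)]
  have hprime : ∀ p : Ideal B, p.IsPrime → (p.map (Ideal.Quotient.mk J)).IsPrime := fun p hp =>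
    Ideal.map_isPrime_of_surjective Ideal.Quotient.mk_surjective
      (by rw [Ideal.mk_ker]; exact hle p hp)
  have hlt : ∀ p p' : Ideal B, p.IsPrime → p'.IsPrime → p < p' →
      p.map (Ideal.Quotient.mk J) < p'.map (Ideal.Quotient.mk J) := by
    intro p p' hp hp' hpp'
    refine lt_of_le_of_ne (Ideal.map_mono hpp'.le) ?_
    intro e
    have := congrArg (Ideal.comap (Ideal.Quotient.mk J)) e
    rw [hcm p hp, hcm p' hp'] at this
    exact hpp'.ne this
  have i0 := hprime p₀ hp₀
  have i1 := hprime p₁ hp₁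
  have i2 := hprime q hq
  have a1 := Ideal.height_add_one_le_of_lt_of_isPrime (hlt p₀ p₁ hp₀ hp₁ h01)
  have a2 := Ideal.height_add_one_le_of_lt_of_isPrime (hlt p₁ q hp₁ hq h1q)
  have b1 : (1 : ℕ∞) ≤ (p₁.map (Ideal.Quotient.mk J)).height :=
    le_trans le_add_self a1
  have b2 : (1 : ℕ∞) + 1 ≤ (q.map (Ideal.Quotient.mk J)).height :=
    le_trans (add_le_add_left b1 1) a2
  have h12 : (2 : ℕ∞) = 1 + 1 := by norm_num
  rw [h12]
  exact b2

/-- `B/N` has depth `≥ 2` along primes of height `≥ 2`, as a `B`-module, when the ring `B/N`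
satisfies `(S₂)`. -/
theorem depthCodimTwo_quotient_nilradical
    (h : HasSk 2 (B ⧸ nilradical B) (B ⧸ nilradical B)) :
    DepthCodimTwo 2 B (B ⧸ nilradical B) := by
  intro q hq hht
  have h1 := depthCodimTwo_of_hasSk (B := B ⧸ nilradical B) 2 le_rfl h
  have hq' : (q.map (Ideal.Quotient.mk (nilradical B))).IsPrime :=
    Ideal.map_isPrime_of_surjective Ideal.Quotient.mk_surjective
      (by rw [Ideal.mk_ker]; exact nilradical_le_prime q)
  have h2 := h1 (q.map (Ideal.Quotient.mk (nilradical B))) hq'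
    (two_le_height_map_mk (nilradical B) le_rfl q hht)
  have h3 := idealDepth_map_eq (A := B) (B := B ⧸ nilradical B) q (B ⧸ nilradical B)
  rw [h3]
  exact h2

end Groth.Agent.Lib.helper26.ArtFlat
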