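import Mathlib
import Groth.Agent.Lib.Helper26.Chi1
import Groth.Agent.Lib.Helper26.Mult1

/-!
# The Euler characteristic `ℓ(M/tM) - ℓ(ker t)`, part 2: finiteness and supports (helper26)
-/

set_option autoImplicit false
set_option linter.unusedSectionVars false
universe u

open Function Pointwise

namespace Groth.Agent.Lib.helper26.Chi

open Groth.Agent.Lib.helper26.HS

variable {A : Type u} [CommRing A] [IsNoetherianRing A] (t : A)

/-- `N/tN` has finite length, expressed on supports. -/
def FL (N : Type u) [AddCommGroup N] [Module A N] : Prop :=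
  ∀ Q ∈ Module.support A N, t ∈ Q.asIdeal → Q.asIdeal.IsMaximal

variable {N : Type u} [AddCommGroup N] [Module A N] [Module.Finite A N]

theorem range_lsmul_eq_smul_top :
    LinearMap.range (LinearMap.lsmul A N t) = t • (⊤ : Submodule A N) := by
  rw [range_lsmul, Submodule.ker_mkQ]

theorem range_lsmul_eq_span_smul_top :
    LinearMap.range (LinearMap.lsmul A N t) = Ideal.span {t} • (⊤ : Submodule A N) := by
  rw [range_lsmul_eq_smul_top, Submodule.ideal_span_singleton_smul]

theorem fl_iff : FL t N ↔ Module.length A (C t N) ≠ ⊤ := by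
  have h := hs_one_ne_top_iff (Ideal.span {t}) (M := N)
  unfold hs col at h
  rw [pow_one, ← range_lsmul_eq_span_smul_top] at h
  rw [h]
  unfold FL
  simp only [Ideal.span_singleton_le_iff_mem]

theorem FL.of_support_subset {N' : Type u} [AddCommGroup N'] [Module A N'] (h : FL t N)
    (hs : Module.support A N' ⊆ Module.support A N) : FL t N' :=
  fun Q hQ => h Q (hs hQ)

theorem FL.length_K_ne_top (h : FL t N) : Module.length A (K t N) ≠ ⊤ := by
  rw [Module.length_ne_top_iff,
    Groth.Agent.Lib.helper8.StalkLen.isFiniteLength_iff_support_isMaximal]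
  intro Q hQ
  refine h Q (Module.support_subset_of_injective (K t N).subtype (Submodule.injective_subtype _) hQ)
    ?_
  rw [Module.mem_support_iff_of_finite] at hQ
  apply hQ
  rw [Module.mem_annihilator]
  intro x
  apply Subtype.ext
  exact x.2

variable [IsLocalRing A]

theorem FL.supportDim_le_one (h : FL t N) (ht : t ∈ IsLocalRing.maximalIdeal A) :
    Module.supportDim A N ≤ 1 := by
  refine (Module.supportDim_le_supportDim_quotSMulTop_succ ht).trans ?_
  have h0 : Module.supportDim A (QuotSMulTop t N) ≤ 0 := by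
    unfold Module.supportDim
    rw [Order.krullDim_nonpos_iff_forall_isMax]
    intro x y hxy
    have hx : x.1 ∈ Module.support A N ∩ PrimeSpectrum.zeroLocus {t} := by
      rw [← Module.support_quotSMulTop]
      exact x.2
    rw [Set.mem_inter_iff, PrimeSpectrum.mem_zeroLocus, Set.singleton_subset_iff] at hx
    have hmax := h x.1 hx.1 hx.2
    have : x.1.asIdeal = y.1.asIdeal := hmax.eq_of_le y.1.2.ne_top hxy
    exact le_of_eq (Subtype.ext (PrimeSpectrum.ext this)).symm
  calc Module.supportDim A (QuotSMulTop t N) + 1 ≤ 0 + 1 := add_le_add h0 le_rfl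
    _ = 1 := zero_add 1

theorem FL.eq_of_le (h : FL t N) (ht : t ∈ IsLocalRing.maximalIdeal A)
    {p q : PrimeSpectrum A} (hq : q ∈ Module.support A N) (htp : t ∉ p.asIdeal)
    (hqp : q ≤ p) : q = p := by
  by_contra hne
  have hlt : q < p := lt_of_le_of_ne hqp hne
  have hpm : p < IsLocalRing.closedPoint A := by
    refine lt_of_le_of_ne (IsLocalRing.le_maximalIdeal p.2.ne_top) ?_
    intro hp
    apply htp
    rw [hp]
    exact ht
  have h1 := Order.coheight_add_one_le hlt
  have h2 := Order.coheight_add_one_le hpm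
  have h3 : (Order.coheight q : WithBot ℕ∞) ≤ 1 :=
    (coheight_le_supportDim hq).trans (h.supportDim_le_one t ht)
  have h4 : Order.coheight q ≤ 1 := by exact_mod_cast h3
  have h5 : (0 : ℕ∞) + 1 + 1 ≤ 1 :=
    (add_le_add (add_le_add zero_le le_rfl) le_rfl).trans ((add_le_add h2 le_rfl).trans
      (h1.trans h4))
  norm_num at h5

theorem FL.locLen_ne_top (h : FL t N) (ht : t ∈ IsLocalRing.maximalIdeal A)
    {p : PrimeSpectrum A} (htp : t ∉ p.asIdeal) : locLen N p ≠ ⊤ := by
  by_cases hp : p ∈ Module.support A N
  · have h' := (Groth.Agent.Lib.helper8.StalkLen.nontrivial_and_isFiniteLength_iff p.asIdeal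
      (R := Localization.AtPrime p.asIdeal)
      (LocalizedModule.mkLinearMap p.asIdeal.primeCompl N)).2
      ⟨hp, fun q hq hqp => h.eq_of_le t ht hq htp hqp⟩
    unfold locLen
    exact Module.length_ne_top_iff.2 h'.2
  · rw [locLen_eq_zero_iff.2 hp]
    exact ENat.zero_ne_top

end Groth.Agent.Lib.helper26.Chi
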