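import Mathlib
import Groth.Agent.Lib.Helper26.Chi2

/-!
# The Euler characteristic `ℓ(M/tM) - ℓ(ker t)`, part 3: the formula (helper26)

`main`: for a noetherian local ring `A`, `t ∈ m`, `N` finite with `N/tN` of finite length,
`ℓ(N/tN) = ℓ(ker t) + ∑_{t ∉ p} ℓ(N_p) ℓ(A/(p + tA))`.
-/

set_option autoImplicit false
set_option linter.unusedSectionVars false
universe u

open Function Pointwise

namespace Groth.Agent.Lib.helper26.Chi

open Groth.Agent.Lib.helper26.HS

variable {A : Type u} [CommRing A] [IsNoetherianRing A] [IsLocalRing A] (t : A)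

/-- `ℓ(A/(p + tA))`. -/
noncomputable def cst (p : PrimeSpectrum A) : ℕ∞ :=
  Module.length A (A ⧸ (p.asIdeal ⊔ Ideal.span {t}))

open Classical in
/-- `∑_{t ∉ p} ℓ(N_p) ℓ(A/(p + tA))`. -/
noncomputable def sig (N : Type u) [AddCommGroup N] [Module A N] : ℕ∞ :=
  ∑ᶠ p : PrimeSpectrum A, if t ∉ p.asIdeal then locLen N p * cst t p else 0

variable {N : Type u} [AddCommGroup N] [Module A N] [Module.Finite A N]

open Classical in
theorem sig_support_finite (h : FL t N) (ht : t ∈ IsLocalRing.maximalIdeal A) :
    (Function.support fun p : PrimeSpectrum A =>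
      if t ∉ p.asIdeal then locLen N p * cst t p else 0).Finite := by
  have hfin : (Module.annihilator A N).minimalPrimes.Finite :=
    Ideal.finite_minimalPrimes_of_isNoetherianRing A _
  have hinj : Set.InjOn (fun p : PrimeSpectrum A => p.asIdeal)
      ((fun p : PrimeSpectrum A => p.asIdeal) ⁻¹' (Module.annihilator A N).minimalPrimes) :=
    fun p _ q _ h => PrimeSpectrum.ext h
  refine (hfin.preimage hinj).subset ?_
  intro p hp
  rw [Function.mem_support] at hp
  by_cases htp : t ∉ p.asIdeal
  · rw [if_pos htp] at hp
    have h1 : locLen N p ≠ 0 := by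
      intro h0
      apply hp
      rw [h0, zero_mul]
    have hps : p ∈ Module.support A N := by
      by_contra hps
      exact h1 (locLen_eq_zero_iff.2 hps)
    show p.asIdeal ∈ (Module.annihilator A N).minimalPrimes
    obtain ⟨r, hrm, hr⟩ := Ideal.exists_minimalPrimes_le (Module.mem_support_iff_of_finite.mp hps)
    have hrs : (⟨r, hrm.1.1⟩ : PrimeSpectrum A) ∈ Module.support A N :=
      Module.mem_support_iff_of_finite.mpr hrm.1.2
    have := h.eq_of_le t ht hrs htp hr
    rw [← this]
    exact hrm
  · rw [if_neg htp] at hp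
    exact absurd rfl hp

theorem sig_of_subsingleton [Subsingleton N] : sig t N = 0 := by
  classical
  unfold sig
  have : ∀ p : PrimeSpectrum A, locLen N p = 0 := fun p =>
    Groth.Agent.Lib.helper22.length_localized_of_subsingleton _
  simp [this]

theorem sig_add_of_exact {N₁ N₂ N₃ : Type u} [AddCommGroup N₁] [Module A N₁]
    [AddCommGroup N₂] [Module A N₂] [AddCommGroup N₃] [Module A N₃]
    [Module.Finite A N₁] [Module.Finite A N₂] [Module.Finite A N₃]
    (f : N₁ →ₗ[A] N₂) (g : N₂ →ₗ[A] N₃)
    (hf : Function.Injective f) (hg : Function.Surjective g) (H : Function.Exact f g)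
    (h : FL t N₂) (ht : t ∈ IsLocalRing.maximalIdeal A) :
    sig t N₂ = sig t N₁ + sig t N₃ := by
  classical
  have h1 : FL t N₁ := h.of_support_subset t (Module.support_subset_of_injective f hf)
  have h3 : FL t N₃ := h.of_support_subset t (Module.support_subset_of_surjective g hg)
  unfold sig
  rw [← finsum_add_distrib (sig_support_finite t h1 ht) (sig_support_finite t h3 ht)]
  refine finsum_congr (fun p => ?_)
  by_cases htp : t ∉ p.asIdeal
  · rw [if_pos htp, if_pos htp, if_pos htp, locLen_add_of_exact f g hf hg H p, add_mul]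
  · rw [if_neg htp, if_neg htp, if_neg htp, add_zero]

theorem smul_mk_eq (p' : Ideal A) (a : A) :
    t • (Ideal.Quotient.mk p' a) = Ideal.Quotient.mk p' (t * a) := rfl

theorem main_quotient (p' : PrimeSpectrum A) (h : FL t (A ⧸ p'.asIdeal))
    (ht : t ∈ IsLocalRing.maximalIdeal A) :
    Module.length A (C t (A ⧸ p'.asIdeal)) =
      Module.length A (K t (A ⧸ p'.asIdeal)) + sig t (A ⧸ p'.asIdeal) := by
  classical
  have hmem : p' ∈ Module.support A (A ⧸ p'.asIdeal) := mem_support_quotient_iff.2 le_rfl
  by_cases htp : t ∈ p'.asIdeal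
  · have h0 : LinearMap.lsmul A (A ⧸ p'.asIdeal) t = 0 := by
      refine LinearMap.ext fun x => ?_
      obtain ⟨a, rfl⟩ := Ideal.Quotient.mk_surjective x
      rw [LinearMap.lsmul_apply, smul_mk_eq, LinearMap.zero_apply]
      exact Ideal.Quotient.eq_zero_iff_mem.2 (p'.asIdeal.mul_mem_right a htp)
    have hsig : sig t (A ⧸ p'.asIdeal) = 0 := by
      unfold sig
      refine (finsum_congr (fun p => ?_)).trans finsum_zero
      by_cases htp' : t ∉ p.asIdeal
      · rw [if_pos htp']
        have : locLen (A ⧸ p'.asIdeal) p = 0 := by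
          rw [locLen_eq_zero_iff, mem_support_quotient_iff]
          intro hle
          have hmax := h p' hmem htp
          have : p'.asIdeal = p.asIdeal := hmax.eq_of_le p.2.ne_top hle
          exact htp' (this ▸ htp)
        rw [this, zero_mul]
      · rw [if_neg htp']
    rw [hsig, add_zero]
    unfold C K
    rw [h0, LinearMap.range_zero, LinearMap.ker_zero]
    rw [(Submodule.quotEquivOfEqBot (⊥ : Submodule A (A ⧸ p'.asIdeal)) rfl).length_eq,
      (Submodule.topEquiv (R := A) (M := A ⧸ p'.asIdeal)).length_eq]
  · have hinj : Function.Injective (LinearMap.lsmul A (A ⧸ p'.asIdeal) t) :=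
      isSMulRegular_quotient_of_notMem htp
    have hK : Module.length A (K t (A ⧸ p'.asIdeal)) = 0 := by
      unfold K
      rw [LinearMap.ker_eq_bot.2 hinj]
      exact Module.length_eq_zero
    have hsig : sig t (A ⧸ p'.asIdeal) = cst t p' := by
      unfold sig
      rw [finsum_eq_single _ p', if_pos htp, locLen_quotient_self, one_mul]
      intro p hp
      by_cases htp' : t ∉ p.asIdeal
      · rw [if_pos htp']
        have : locLen (A ⧸ p'.asIdeal) p = 0 := by
          rw [locLen_eq_zero_iff, mem_support_quotient_iff]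
          intro hle
          exact hp (h.eq_of_le t ht hmem htp' hle).symm
        rw [this, zero_mul]
      · rw [if_neg htp']
    rw [hK, hsig, zero_add]
    unfold cst
    have hcomap : (LinearMap.range (LinearMap.lsmul A (A ⧸ p'.asIdeal) t)).comap
        (Submodule.mkQ p'.asIdeal) = p'.asIdeal ⊔ Ideal.span {t} := by
      ext x
      rw [Submodule.mem_comap, Submodule.mkQ_apply]
      constructor
      · rintro ⟨y, hy⟩
        obtain ⟨b, rfl⟩ := Ideal.Quotient.mk_surjective y
        rw [LinearMap.lsmul_apply, smul_mk_eq] at hy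
        have h1 : x - t * b ∈ p'.asIdeal := by
          rw [← Ideal.Quotient.eq]
          exact hy.symm
        have : x = (x - t * b) + t * b := by ring
        rw [this]
        exact Submodule.add_mem_sup h1 (Ideal.mem_span_singleton'.2 ⟨b, mul_comm b t⟩)
      · intro hx
        obtain ⟨a, ha, b, hb, rfl⟩ := Submodule.mem_sup.1 hx
        obtain ⟨c, rfl⟩ := Ideal.mem_span_singleton'.1 hb
        refine ⟨Ideal.Quotient.mk p'.asIdeal c, ?_⟩
        rw [LinearMap.lsmul_apply, smul_mk_eq]
        symm
        show Submodule.Quotient.mk (a + c * t) = Submodule.Quotient.mk (t * c)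
        rw [Submodule.Quotient.eq]
        have : a + c * t - t * c = a := by ring
        rw [this]
        exact ha
    have := col_comap_of_surjective (Submodule.mkQ p'.asIdeal) (Submodule.mkQ_surjective _)
      (LinearMap.range (LinearMap.lsmul A (A ⧸ p'.asIdeal) t))
    rw [hcomap] at this
    exact this.symm

theorem enat_add_left_cancel {a b c : ℕ∞} (ha : a ≠ ⊤) (h : a + b = a + c) : b = c :=
  WithTop.add_left_cancel ha h

/-- **The formula** `ℓ(N/tN) = ℓ(ker t) + ∑_{t ∉ p} ℓ(N_p) ℓ(A/(p + tA))`. -/
theorem main (ht : t ∈ IsLocalRing.maximalIdeal A) (N : Type u) [AddCommGroup N] [Module A N]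
    (hfin : Module.Finite A N) (h : FL t N) :
    Module.length A (C t N) = Module.length A (K t N) + sig t N := by
  revert h
  have hsub : ∀ (N : Type u) [AddCommGroup N] [Module A N] [Module.Finite A N] [Subsingleton N],
      FL t N → Module.length A (C t N) = Module.length A (K t N) + sig t N := by
    intro N _ _ _ _ _
    rw [sig_of_subsingleton, Module.length_eq_zero, Module.length_eq_zero, zero_add]
  have hexact : ∀ (N₁ : Type u) [AddCommGroup N₁] [Module A N₁] [Module.Finite A N₁]
      (N₂ : Type u) [AddCommGroup N₂] [Module A N₂] [Module.Finite A N₂]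
      (N₃ : Type u) [AddCommGroup N₃] [Module A N₃] [Module.Finite A N₃]
      (f : N₁ →ₗ[A] N₂) (g : N₂ →ₗ[A] N₃), Function.Injective f → Function.Surjective g →
      Function.Exact f g →
      (FL t N₁ → Module.length A (C t N₁) = Module.length A (K t N₁) + sig t N₁) →
      (FL t N₃ → Module.length A (C t N₃) = Module.length A (K t N₃) + sig t N₃) →
      (FL t N₂ → Module.length A (C t N₂) = Module.length A (K t N₂) + sig t N₂) := by
    intro N₁ _ _ _ N₂ _ _ _ N₃ _ _ _ f g hf hg H ih1 ih3 h
    have h1 : FL t N₁ := h.of_support_subset t (Module.support_subset_of_injective f hf)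
    have h3 : FL t N₃ := h.of_support_subset t (Module.support_subset_of_surjective g hg)
    have e1 := ih1 h1
    have e3 := ih3 h3
    have hchi := chi_additive t f g hf hg H
    rw [e1, e3] at hchi
    rw [sig_add_of_exact t f g hf hg H h ht]
    have hk1 := h1.length_K_ne_top t
    have hk3 := h3.length_K_ne_top t
    have hne : Module.length A (K t N₁) + Module.length A (K t N₃) ≠ ⊤ :=
      WithTop.add_ne_top.2 ⟨hk1, hk3⟩
    have hfinal : Module.length A (K t N₁) + Module.length A (K t N₃) + Module.length A (C t N₂) =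
        Module.length A (K t N₁) + Module.length A (K t N₃) +
          (Module.length A (K t N₂) + (sig t N₁ + sig t N₃)) := by
      rw [hchi]
      ring
    exact enat_add_left_cancel hne hfinal
  refine IsNoetherianRing.induction_on_isQuotientEquivQuotientPrime A hfin
    (motive := fun N _ _ _ => FL t N →
      Module.length A (C t N) = Module.length A (K t N) + sig t N) ?_ ?_ ?_
  · exact fun N _ _ _ _ => hsub N
  · intro N _ _ _ p' φ
    exact hexact (A ⧸ p'.asIdeal) N PUnit φ.symm.toLinearMap 0 φ.symm.injective
      (Function.surjective_to_subsingleton _)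
      ((φ.symm.exact_zero_iff_surjective _).2 φ.symm.surjective)
      (fun h => main_quotient t p' h ht) (hsub PUnit)
  · exact hexact

end Groth.Agent.Lib.helper26.Chi
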