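import Mathlib
import Groth.Prelude.Def_CAlg

/-!
# Flatness over Artinian local rings from codimension-one data, part 3 (helper26)

Local statements at a prime `q` of `B` where `B_q` is flat over `A` with reduced fibre.
-/

set_option autoImplicit false
set_option linter.unusedSectionVars false
universe u

namespace Groth.Agent.Lib.helper26.ArtFlat

/-- flatness and colon ideals: if `a • x ∈ I M` then `x ∈ (I : a) M`. -/
theorem mem_colon_smul_top_of_flat {A : Type u} [CommRing A] {M : Type u} [AddCommGroup M]
    [Module A M] [Module.Flat A M] (I : Ideal A) (a : A) (x : M)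
    (h : a • x ∈ I • (⊤ : Submodule A M)) :
    x ∈ (I.colon ({a} : Set A)) • (⊤ : Submodule A M) := by
  classical
  rw [← Submodule.span_univ, ← Set.image_id (Set.univ : Set M),
    Submodule.mem_ideal_smul_span_iff_exists_sum'] at h
  obtain ⟨c, hc, hsum⟩ := h
  -- the relation `a • x - ∑ c_y • y = 0`
  let σ := c.support
  let f : Option σ → A := fun o => Option.elim o a (fun y => - c y.1)
  let X : Option σ → M := fun o => Option.elim o x (fun y => ((y.1 : (Set.univ : Set M)) : M))
  have hrel : ∑ i, f i • X i = 0 := by
    rw [Fintype.sum_option]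
    simp only [f, X, Option.elim_none, Option.elim_some, neg_smul, Finset.sum_neg_distrib]
    rw [← hsum, Finsupp.sum, ← Finset.sum_coe_sort c.support]
    simp only [id_eq]
    abel
  obtain ⟨k, α, y, hx, hα⟩ := Module.Flat.isTrivialRelation_of_sum_smul_eq_zero hrel
  have hx0 := hx none
  simp only [X, Option.elim_none] at hx0
  rw [hx0]
  refine Submodule.sum_mem _ fun j _ => Submodule.smul_mem_smul ?_ Submodule.mem_top
  rw [Submodule.mem_colon_singleton]
  have hj := hα j
  rw [Fintype.sum_option] at hj
  simp only [f, Option.elim_none, Option.elim_some, neg_mul, Finset.sum_neg_distrib] at hj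
  have : a * α none j = ∑ y : σ, c y.1 * α (some y) j := by
    rw [add_neg_eq_zero] at hj
    exact hj
  rw [smul_eq_mul, mul_comm, this]
  exact Ideal.sum_mem _ fun y _ => Ideal.mul_mem_right _ _ (hc y.1)

section Loc

variable {A B : Type u} [CommRing A] [CommRing B] [Algebra A B] (q : Ideal B) [q.IsPrime]

/-- nilpotent elements of `B` lie in `J` near `q` when `B_q / J B_q` is reduced. -/
theorem exists_mul_mem_of_mem_nilradical (J : Ideal B)
    (hred : IsReduced (Localization.AtPrime q ⧸ J.map (algebraMap B (Localization.AtPrime q))))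
    (b : B) (hb : b ∈ nilradical B) : ∃ s : B, s ∉ q ∧ s * b ∈ J := by
  obtain ⟨n, hn⟩ := hb
  have h1 : IsNilpotent (Ideal.Quotient.mk (J.map (algebraMap B (Localization.AtPrime q)))
      (algebraMap B (Localization.AtPrime q) b)) := by
    refine ⟨n, ?_⟩
    rw [← map_pow, ← map_pow, hn, map_zero, map_zero]
  have h2 := hred.eq_zero _ h1
  rw [Ideal.Quotient.eq_zero_iff_mem,
    IsLocalization.algebraMap_mem_map_algebraMap_iff q.primeCompl] at h2
  obtain ⟨s, hs, hsb⟩ := h2
  exact ⟨s, hs, hsb⟩

/-- flat colon, near `q`. -/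
theorem exists_mul_mem_of_smul_mem [Module.Flat A (Localization.AtPrime q)]
    (I m : Ideal A) (a : A) (hcolon : I.colon ({a} : Set A) ≤ m) (b : B)
    (hb : a • b ∈ I.map (algebraMap A B)) :
    ∃ s : B, s ∉ q ∧ s * b ∈ m.map (algebraMap A B) := by
  have h1 : a • (algebraMap B (Localization.AtPrime q) b) ∈
      I • (⊤ : Submodule A (Localization.AtPrime q)) := by
    rw [Ideal.smul_top_eq_map, Submodule.restrictScalars_mem,
      IsScalarTower.algebraMap_eq A B (Localization.AtPrime q), ← Ideal.map_map]
    have : a • (algebraMap B (Localization.AtPrime q) b)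
        = algebraMap B (Localization.AtPrime q) (a • b) := by
      rw [Algebra.smul_def, Algebra.smul_def, map_mul,
        ← IsScalarTower.algebraMap_apply A B (Localization.AtPrime q)]
    rw [this]
    exact Ideal.mem_map_of_mem _ hb
  have h2 := mem_colon_smul_top_of_flat I a _ h1
  have h3 : algebraMap B (Localization.AtPrime q) b ∈
      m • (⊤ : Submodule A (Localization.AtPrime q)) :=
    Submodule.smul_mono_left hcolon h2
  rw [Ideal.smul_top_eq_map, Submodule.restrictScalars_mem,
    IsScalarTower.algebraMap_eq A B (Localization.AtPrime q), ← Ideal.map_map,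
    IsLocalization.algebraMap_mem_map_algebraMap_iff q.primeCompl] at h3
  obtain ⟨s, hs, hsb⟩ := h3
  exact ⟨s, hs, hsb⟩

end Loc

end Groth.Agent.Lib.helper26.ArtFlat
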