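import Mathlib
import Groth.Agent.Lib.Helper26.RkLift
import Groth.Agent.S0601

/-!
# Normality lifts from `A/tA` to `A` (helper26)
-/

set_option autoImplicit false
set_option linter.unusedSectionVars false
universe u

open LocCoh IsLocalRing
open Groth.Agent.Lib.helper26.Depth

namespace Groth.Agent.Lib.helper26.RkLift

/-- a domain is equidimensional. -/
theorem isEquidim_of_isDomain (R : Type u) [CommRing R] [IsDomain R] : EGA4.IsEquidim R := by
  intro p hp
  have hbot : (⊥ : Ideal R) ∈ minimalPrimes R := by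
    refine ⟨⟨Ideal.isPrime_bot, bot_le⟩, ?_⟩
    intro q _ _
    exact bot_le
  have hp0 : p = ⊥ := by
    have := hp.2 ⟨Ideal.isPrime_bot, bot_le⟩ bot_le
    exact le_bot_iff.mp this
  subst hp0
  exact ringKrullDim_eq_of_ringEquiv (RingEquiv.quotientBot R)

variable {A : Type u} [CommRing A] [IsNoetherianRing A] [IsLocalRing A] (t : A)

theorem normal_of_quotient (hcat : CAlg.IsCatenary A) (htm : t ∈ maximalIdeal A)
    (ht : t ∈ nonZeroDivisors A)
    [IsDomain (A ⧸ Ideal.span {t})] [IsIntegrallyClosed (A ⧸ Ideal.span {t})] :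
    IsDomain A ∧ IsIntegrallyClosed A := by
  have hloc : ∀ (p : Ideal (A ⧸ Ideal.span {t})) [p.IsPrime],
      IsDomain (Localization.AtPrime p) ∧ IsIntegrallyClosed (Localization.AtPrime p) := by
    intro p _
    have hle : p.primeCompl ≤ nonZeroDivisors (A ⧸ Ideal.span {t}) := by
      intro x hx
      apply mem_nonZeroDivisors_of_ne_zero
      rintro rfl
      exact hx (zero_mem p)
    refine ⟨IsLocalization.isDomain_of_le_nonZeroDivisors _ hle, ?_⟩
    exact isIntegrallyClosed_of_isLocalization _ p.primeCompl hle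
  obtain ⟨hR0, hS0⟩ := (Groth.Agent.S0601.result (A ⧸ Ideal.span {t})).mp hloc
  have hS : HasSk 2 A A := hasSk_of_hasSk_quotient t 2 htm ht hS0
  obtain ⟨-, -, hR⟩ := main t 1 hcat htm ht (isEquidim_of_isDomain _) hR0
  exact Groth.Agent.Lib.Helper24.SerreNormal.normal_of_local A hR hS

end Groth.Agent.Lib.helper26.RkLift
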