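import Mathlib
import Groth.Prelude.Def_EGA4b
import Groth.Prelude.Def_Found
import Groth.Agent.Lib.Helper26.Hironaka1
import Groth.Agent.Lib.Helper24.CatEquidim
import Groth.Agent.S9125
import Groth.Agent.Lib.Helper26.NormalLift

/-!
# Hironaka's lemma (helper26), part 2: reduction to the domain case
-/

set_option autoImplicit false
set_option linter.unusedSectionVars false
universe u

open IsLocalRing

namespace Groth.Agent.Lib.helper26.Hironaka

lemma withBot_enat_add_cancel {a b : ℕ∞} {d : WithBot ℕ∞} (hd : d ≠ ⊥) (hd' : d ≠ ⊤)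
    (h : (a : WithBot ℕ∞) + d = (b : WithBot ℕ∞) + d) : a = b := by
  induction d using WithBot.recBotCoe with
  | bot => exact absurd rfl hd
  | coe e =>
    induction e using ENat.recTopCoe with
    | top => exact absurd rfl hd'
    | coe n =>
      have h' : ((a + (n : ℕ∞) : ℕ∞) : WithBot ℕ∞) = ((b + (n : ℕ∞) : ℕ∞) : WithBot ℕ∞) := by
        rw [WithBot.coe_add, WithBot.coe_add]; exact h
      rw [WithBot.coe_inj] at h'
      exact (ENat.add_left_injective_of_ne_top (ENat.natCast_ne_top n)) h'

/-- a local Noetherian ring whose maximal ideal is generated by `τ`: a prime not containing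
`τ` is zero. -/
lemma eq_bot_of_notMem {R : Type u} [CommRing R] [IsNoetherianRing R] [IsLocalRing R] (τ : R)
    (hτ : maximalIdeal R = Ideal.span {τ}) (Q : Ideal R) [Q.IsPrime] (hQ : τ ∉ Q) : Q = ⊥ := by
  refine Submodule.eq_bot_of_le_smul_of_le_jacobson_bot (Ideal.span {τ}) Q
    (IsNoetherian.noetherian Q) ?_ ?_
  · intro x hx
    have hxm : x ∈ maximalIdeal R := IsLocalRing.le_maximalIdeal (Ideal.IsPrime.ne_top inferInstance) hx
    rw [hτ] at hxm
    obtain ⟨y, rfl⟩ := Ideal.mem_span_singleton'.mp hxm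
    have hy : y ∈ Q := (Ideal.IsPrime.mem_or_mem inferInstance hx).resolve_right hQ
    rw [mul_comm, ← smul_eq_mul]
    exact Submodule.smul_mem_smul (Ideal.mem_span_singleton_self τ) hy
  · rw [IsLocalRing.jacobson_eq_maximalIdeal ⊥ bot_ne_top, hτ]

section Domain

variable {A : Type u} [CommRing A] [IsNoetherianRing A] [IsLocalRing A]
  (hcat : CAlg.IsCatenary A) (heq : EGA4.IsEquidim A)
  (t : A) (htm : t ∈ maximalIdeal A) (hreg : t ∈ nonZeroDivisors A)
  (p : Ideal A) [p.IsPrime] (hp : (Ideal.span {t}).minimalPrimes = {p})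

include hcat heq htm hreg hp in
/-- every minimal prime of `A` lies in `p`. -/
lemma le_of_mem_minimalPrimes (q : Ideal A) (hq : q ∈ minimalPrimes A) : q ≤ p := by
  have hqprime : q.IsPrime := hq.1.1
  have hJ : q ⊔ Ideal.span {t} ≤ maximalIdeal A :=
    sup_le (IsLocalRing.le_maximalIdeal hqprime.ne_top)
      ((Ideal.span_singleton_le_iff_mem _).mpr htm)
  have hJne : q ⊔ Ideal.span {t} ≠ ⊤ := by
    intro h
    rw [h] at hJ
    exact (maximalIdeal.isMaximal A).ne_top (top_le_iff.mp hJ)
  obtain ⟨p', hp'⟩ := Ideal.nonempty_minimalPrimes hJne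
  let φ := Ideal.Quotient.mk q
  have hsurj : Function.Surjective φ := Ideal.Quotient.mk_surjective
  have hcomap : (Ideal.span {φ t}).comap φ = q ⊔ Ideal.span {t} := by
    rw [← Set.image_singleton, ← Ideal.map_span, Ideal.comap_map_of_surjective _ hsurj,
      ← RingHom.ker_eq_comap_bot, Ideal.mk_ker, sup_comm]
  have h1 := Ideal.comap_minimalPrimes_eq_of_surjective hsurj (Ideal.span {φ t})
  rw [hcomap] at h1
  rw [h1] at hp'
  obtain ⟨Pb, hPb, rfl⟩ := hp'
  have hPbprime : Pb.IsPrime := hPb.1.1
  have hht : Pb.height ≤ 1 := Ideal.height_le_one_of_isPrincipal_of_mem_minimalPrimes _ Pb hPb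
  have hcatD : CAlg.IsCatenary (A ⧸ q) := Groth.Agent.S9125.result A q hcat
  have heqD : EGA4.IsEquidim (A ⧸ q) := Groth.Agent.Lib.helper26.RkLift.isEquidim_of_isDomain _
  have e1 := Groth.Agent.Lib.Helper24.CatEquidim.height_add_dim_quotient_eq (A ⧸ q) hcatD heqD Pb
  have e2 := Groth.Agent.Lib.Helper24.CatEquidim.height_add_dim_quotient_eq A hcat heq
    (Pb.comap φ)
  have e3 : ringKrullDim (A ⧸ q) = ringKrullDim A := heq q hq
  have e4 : ringKrullDim ((A ⧸ q) ⧸ Pb) = ringKrullDim (A ⧸ Pb.comap φ) := by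
    let f : A →+* (A ⧸ q) ⧸ Pb := (Ideal.Quotient.mk Pb).comp φ
    have hf : Function.Surjective f := Ideal.Quotient.mk_surjective.comp hsurj
    have hker : RingHom.ker f = Pb.comap φ := by
      rw [← RingHom.comap_ker, Ideal.mk_ker]
    exact (ringKrullDim_eq_of_ringEquiv
      ((Ideal.quotEquivOfEq hker.symm).trans (RingHom.quotientKerEquivOfSurjective hf))).symm
  rw [e4, e3, ← e2] at e1
  have hd : ringKrullDim (A ⧸ Pb.comap φ) ≠ ⊥ := ringKrullDim_ne_bot
  have hd' : ringKrullDim (A ⧸ Pb.comap φ) ≠ ⊤ := by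
    have h1 : ringKrullDim (A ⧸ Pb.comap φ) ≤ ringKrullDim A :=
      ringKrullDim_quotient_le _
    exact (lt_of_le_of_lt h1 ringKrullDim_lt_top).ne
  have e5 := withBot_enat_add_cancel hd hd' e1
  have htP : t ∈ Pb.comap φ := by
    rw [Ideal.mem_comap]
    exact hPb.1.2 (Ideal.mem_span_singleton_self _)
  have hmin : Pb.comap φ ∈ (Ideal.span {t}).minimalPrimes := by
    refine Ideal.mem_minimalPrimes_of_height_le ?_ ?_
    · rw [Ideal.span_singleton_le_iff_mem]; exact htP
    · rw [← e5]
      exact hht.trans (Ideal.one_le_height_span_singleton_of_mem_nonZeroDivisors hreg)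
  rw [hp] at hmin
  have hPp : Pb.comap φ = p := hmin
  rw [← hPp]
  intro x hx
  rw [Ideal.mem_comap]
  have : φ x = 0 := Ideal.Quotient.eq_zero_iff_mem.mpr hx
  rw [this]
  exact Ideal.zero_mem _

variable (hgen : maximalIdeal (Localization.AtPrime p) =
      Ideal.span {algebraMap A (Localization.AtPrime p) t})

include hcat heq htm hreg hp hgen in
/-- every minimal prime of `A` is the kernel of `A → A_p`. -/
lemma minimalPrimes_eq_comap_bot (q : Ideal A) (hq : q ∈ minimalPrimes A) :
    q = (⊥ : Ideal (Localization.AtPrime p)).comap (algebraMap A (Localization.AtPrime p)) := by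
  have hqprime : q.IsPrime := hq.1.1
  have hqp : q ≤ p := le_of_mem_minimalPrimes hcat heq t htm hreg p hp q hq
  have hdisj : Disjoint (p.primeCompl : Set A) (q : Set A) := by
    rw [Set.disjoint_left]
    intro x hx hxq
    exact hx (hqp hxq)
  have hQprime : (q.map (algebraMap A (Localization.AtPrime p))).IsPrime :=
    IsLocalization.isPrime_of_isPrime_disjoint p.primeCompl _ q hqprime hdisj
  have hcomap : (q.map (algebraMap A (Localization.AtPrime p))).comap
      (algebraMap A (Localization.AtPrime p)) = q :=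
    IsLocalization.under_map_of_isPrime_disjoint p.primeCompl _ hqprime hdisj
  have htq : t ∉ q := by
    intro h
    exact Set.disjoint_left.mp (Ideal.disjoint_nonZeroDivisors_of_mem_minimalPrimes hq) h hreg
  have hτ : algebraMap A (Localization.AtPrime p) t ∉
      q.map (algebraMap A (Localization.AtPrime p)) := by
    intro h
    apply htq
    rw [← hcomap, Ideal.mem_comap]
    exact h
  have hbot := eq_bot_of_notMem _ hgen _ hτ
  rw [← hcomap, hbot]

include hcat heq htm hreg hp hgen in
/-- `A` is a domain. -/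
theorem isDomain_of_hyps [IsReduced A] : IsDomain A := by
  obtain ⟨q₀, hq₀⟩ := Ideal.nonempty_minimalPrimes (bot_ne_top (α := Ideal A))
  have hall : ∀ q ∈ minimalPrimes A, q = q₀ := by
    intro q hq
    rw [minimalPrimes_eq_comap_bot hcat heq t htm hreg p hp hgen q hq,
      ← minimalPrimes_eq_comap_bot hcat heq t htm hreg p hp hgen q₀ hq₀]
  have hrad : sInf (minimalPrimes A) = q₀ := by
    refine le_antisymm (sInf_le hq₀) (le_sInf ?_)
    intro q hq
    rw [hall q hq]
  have h0 : q₀ = ⊥ := by
    rw [← hrad]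
    unfold minimalPrimes
    rw [Ideal.sInf_minimalPrimes]
    exact nilradical_eq_zero A
  have hbp : (⊥ : Ideal A).IsPrime := h0 ▸ hq₀.1.1
  exact IsDomain.of_bot_isPrime A

end Domain

end Groth.Agent.Lib.helper26.Hironaka
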