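import Mathlib
import Groth.Agent.Lib.Helper26.Hironaka2

/-!
# Zariski's lemma on reducedness of completions (helper26), part 1: local algebra
-/

set_option autoImplicit false
set_option linter.unusedSectionVars false
universe u

open IsLocalRing

namespace Groth.Agent.Lib.helper26.Zariski

open Groth.Agent.Lib.helper26.Hironaka

variable {R : Type u} [CommRing R] [IsNoetherianRing R] [IsLocalRing R]

/-- the "associated prime of `R/ϖ^e`" argument. -/
theorem maximalIdeal_eq_span_of_colon (ϖ : R) (hϖ : ϖ ∈ nonZeroDivisors R)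
    (hϖm : ϖ ∈ maximalIdeal R)
    (hred : ∀ z : R, z * z ∈ Ideal.span {ϖ} → z ∈ Ideal.span {ϖ}) :
    ∀ (e : ℕ) (y : R), y ∉ Ideal.span {ϖ ^ (e + 1)} →
      (∀ b : R, b ∈ maximalIdeal R ↔ b * y ∈ Ideal.span {ϖ ^ (e + 1)}) →
      maximalIdeal R = Ideal.span {ϖ} := by
  intro e
  induction e with
  | zero =>
    intro y hy hm
    rw [zero_add, pow_one] at hy hm
    have hyu : IsUnit y := by
      by_contra hnu
      have : y ∈ maximalIdeal R := (IsLocalRing.mem_maximalIdeal y).mpr hnu
      rw [hm] at this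
      exact hy (hred y this)
    refine le_antisymm ?_ ((Ideal.span_singleton_le_iff_mem _).mpr hϖm)
    intro b hb
    rw [hm] at hb
    obtain ⟨u, rfl⟩ := hyu
    have := Ideal.mul_mem_right (↑u⁻¹ : R) _ hb
    rwa [mul_assoc, Units.mul_inv, mul_one] at this
  | succ e ih =>
    intro y hy hm
    have h1 : ϖ * y ∈ Ideal.span {ϖ ^ (e + 1 + 1)} := (hm ϖ).mp hϖm
    obtain ⟨c, hc⟩ := Ideal.mem_span_singleton'.mp h1
    have hy1 : y = ϖ * (c * ϖ ^ e) := by
      apply mul_cancel_left_mem_nonZeroDivisors hϖ |>.mp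
      rw [← hc]; ring
    refine ih (c * ϖ ^ e) ?_ ?_
    · intro hmem
      obtain ⟨d, hd⟩ := Ideal.mem_span_singleton'.mp hmem
      apply hy
      rw [hy1, ← hd]
      exact Ideal.mem_span_singleton'.mpr ⟨d, by ring⟩
    · intro b
      rw [hm, hy1]
      constructor
      · intro hb
        obtain ⟨d, hd⟩ := Ideal.mem_span_singleton'.mp hb
        refine Ideal.mem_span_singleton'.mpr ⟨d, ?_⟩
        apply mul_cancel_left_mem_nonZeroDivisors hϖ |>.mp
        linear_combination hd
      · intro hb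
        obtain ⟨d, hd⟩ := Ideal.mem_span_singleton'.mp hb
        refine Ideal.mem_span_singleton'.mpr ⟨d, ?_⟩
        linear_combination ϖ * hd

/-- a Noetherian local ring whose maximal ideal is generated by a nonzerodivisor is reduced
(indeed a domain). -/
theorem isReduced_of_maximalIdeal_eq_span (ϖ : R) (hϖ : ϖ ∈ nonZeroDivisors R)
    (hm : maximalIdeal R = Ideal.span {ϖ}) : IsReduced R := by
  obtain ⟨Q, hQ⟩ := Ideal.nonempty_minimalPrimes (bot_ne_top (α := Ideal R))
  have hQprime : Q.IsPrime := hQ.1.1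
  have hϖQ : ϖ ∉ Q := by
    intro h
    exact Set.disjoint_left.mp (Ideal.disjoint_nonZeroDivisors_of_mem_minimalPrimes hQ) h hϖ
  have hQbot : Q = ⊥ := eq_bot_of_notMem ϖ hm Q hϖQ
  have hbp : (⊥ : Ideal R).IsPrime := hQbot ▸ hQprime
  have : IsDomain R := IsDomain.of_bot_isPrime R
  infer_instance

end Groth.Agent.Lib.helper26.Zariski
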