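import Mathlib
import Groth.Agent.Lib.Helper26.Zariski1
import Groth.Agent.Lib.Helper26.ArtFlat3

/-!
# Zariski's lemma on reducedness of completions (helper26), part 2: the main argument for a flat
local extension
-/

set_option autoImplicit false
set_option linter.unusedSectionVars false
universe u

open IsLocalRing

namespace Groth.Agent.Lib.helper26.Zariski

open Groth.Agent.Lib.helper26.ArtFlat

variable {A : Type u} [CommRing A] [IsNoetherianRing A] [IsLocalRing A]
  {B : Type u} [CommRing B] [IsNoetherianRing B] [IsLocalRing B] [Algebra A B] [Module.Flat A B]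

/-- the unlocalized form of "`A_q` is a DVR in which `t` is not a unit". -/
def UData (t : A) (q : Ideal A) : Prop :=
  ∃ π₀ ∈ q, ∃ e : ℕ, ∃ s₁ : A, s₁ ∉ q ∧ ∃ c₁ : A, c₁ ∉ q ∧ s₁ * t = c₁ * π₀ ^ (e + 1) ∧
    ∀ a ∈ q, ∃ s : A, s ∉ q ∧ s * a ∈ Ideal.span {π₀}

variable (t : A) (hreg : t ∈ nonZeroDivisors A)

include hreg in
lemma algebraMap_mem_nonZeroDivisors : algebraMap A B t ∈ nonZeroDivisors B := by
  rw [mem_nonZeroDivisors_iff_right]
  intro x hx
  have h := Module.Flat.isSMulRegular_of_nonZeroDivisors (M := B) hreg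
  apply h
  change t • x = t • (0 : B)
  rw [smul_zero, Algebra.smul_def, mul_comm]
  exact hx

omit [IsLocalRing A] [IsNoetherianRing B] [IsLocalRing B] in
/-- flat base change of a nonzerodivisor on `A/tA`. -/
lemma mem_span_of_smul_mem (a : A)
    (ha : a ∉ ⋃ p ∈ associatedPrimes A (A ⧸ Ideal.span {t}), (p : Set A)) (y : B)
    (hy : algebraMap A B a * y ∈ Ideal.span {algebraMap A B t}) :
    y ∈ Ideal.span {algebraMap A B t} := by
  rw [biUnion_associatedPrimes_eq_zero_divisors] at ha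
  have hcolon : (Ideal.span {t}).colon ({a} : Set A) ≤ Ideal.span {t} := by
    intro c hc
    rw [Submodule.mem_colon_singleton, smul_eq_mul] at hc
    by_contra hcn
    apply ha
    refine ⟨Ideal.Quotient.mk _ c, ?_, ?_⟩
    · rw [Ne, Ideal.Quotient.eq_zero_iff_mem]; exact hcn
    · rw [← Ideal.Quotient.mk_eq_mk, ← Submodule.Quotient.mk_smul, Submodule.Quotient.mk_eq_zero,
        smul_eq_mul, mul_comm]
      exact hc
  have hmap : (Ideal.span {t}).map (algebraMap A B) = Ideal.span {algebraMap A B t} := by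
    rw [Ideal.map_span, Set.image_singleton]
  have h1 : a • y ∈ (Ideal.span {t}) • (⊤ : Submodule A B) := by
    rw [Ideal.smul_top_eq_map, Submodule.restrictScalars_mem, hmap, Algebra.smul_def]
    exact hy
  have h2 := mem_colon_smul_top_of_flat _ a y h1
  have h3 := Submodule.smul_mono_left (N := (⊤ : Submodule A B)) hcolon h2
  rw [Ideal.smul_top_eq_map, Submodule.restrictScalars_mem, hmap] at h3
  exact h3

include hreg in
/-- the localization of `B` at an associated prime of `B/tB` is reduced. -/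
theorem isReduced_localization (P : Ideal B) [P.IsPrime] (y : B)
    (hP : ∀ b : B, b ∈ P ↔ b * y ∈ Ideal.span {algebraMap A B t})
    (hU : UData t (P.comap (algebraMap A B)))
    (hrad : ((P.comap (algebraMap A B)).map (algebraMap A B)).IsRadical) :
    IsReduced (Localization.AtPrime P) := by
  obtain ⟨π₀, hπ₀, e, s₁, hs₁, c₁, hc₁, hrel, hgen⟩ := hU
  set q := P.comap (algebraMap A B) with hq
  let R' := Localization.AtPrime P
  let ι : A →+* B := algebraMap A B
  let j : B →+* R' := algebraMap B R'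
  have hunit : ∀ s : A, s ∉ q → IsUnit (j (ι s)) := by
    intro s hs
    exact IsLocalization.map_units R' (⟨ι s, hs⟩ : P.primeCompl)
  set ϖ : R' := j (ι π₀) with hϖ
  have hϖm : ϖ ∈ maximalIdeal R' :=
    (IsLocalization.AtPrime.to_map_mem_maximal_iff R' P (ι π₀)).mpr hπ₀
  have htreg : j (ι t) ∈ nonZeroDivisors R' :=
    IsLocalization.map_nonZeroDivisors_le P.primeCompl R'
      (Submonoid.mem_map_of_mem _ (algebraMap_mem_nonZeroDivisors (B := B) t hreg))
  have hrel' : j (ι s₁) * j (ι t) = j (ι c₁) * ϖ ^ (e + 1) := by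
    rw [hϖ, ← map_pow, ← map_pow, ← map_mul, ← map_mul, ← map_mul, ← map_mul, hrel]
  have hspan : Ideal.span {ϖ ^ (e + 1)} = Ideal.span {j (ι t)} := by
    obtain ⟨u₁, hu₁⟩ := hunit s₁ hs₁
    obtain ⟨u₂, hu₂⟩ := hunit c₁ hc₁
    apply le_antisymm
    · rw [Ideal.span_singleton_le_iff_mem, Ideal.mem_span_singleton']
      refine ⟨↑u₂⁻¹ * u₁, ?_⟩
      rw [mul_assoc, hu₁, hrel', ← hu₂, ← mul_assoc, Units.inv_mul, one_mul]
    · rw [Ideal.span_singleton_le_iff_mem, Ideal.mem_span_singleton']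
      refine ⟨↑u₁⁻¹ * u₂, ?_⟩
      rw [mul_assoc, hu₂, ← hrel', ← hu₁, ← mul_assoc, Units.inv_mul, one_mul]
  have hϖreg : ϖ ∈ nonZeroDivisors R' := by
    have h1 : ϖ ^ (e + 1) ∈ nonZeroDivisors R' := by
      obtain ⟨u₁, hu₁⟩ := hunit s₁ hs₁
      obtain ⟨u₂, hu₂⟩ := hunit c₁ hc₁
      have : ϖ ^ (e + 1) = (↑u₂⁻¹ * u₁) * j (ι t) := by
        rw [mul_assoc, hu₁, hrel', ← hu₂, ← mul_assoc, Units.inv_mul, one_mul]
      rw [this]
      exact mul_mem (IsUnit.mem_nonZeroDivisors ((u₂⁻¹ * u₁).isUnit)) htreg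
    rw [mem_nonZeroDivisors_iff_right] at h1 ⊢
    intro x hx
    apply h1
    rw [pow_succ, ← mul_assoc, mul_comm x, mul_assoc, hx, mul_zero]
  -- `span {ϖ} = q R'`
  have hqR : Ideal.span {ϖ} = (q.map ι).map j := by
    apply le_antisymm
    · rw [Ideal.span_singleton_le_iff_mem]
      exact Ideal.mem_map_of_mem _ (Ideal.mem_map_of_mem _ hπ₀)
    · rw [Ideal.map_map, Ideal.map_le_iff_le_comap]
      intro a ha
      obtain ⟨s, hs, hsa⟩ := hgen a ha
      obtain ⟨c, hc⟩ := Ideal.mem_span_singleton'.mp hsa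
      obtain ⟨u, hu⟩ := hunit s hs
      rw [Ideal.mem_comap, Ideal.mem_span_singleton']
      refine ⟨↑u⁻¹ * j (ι c), ?_⟩
      have : j (ι s) * j (ι a) = j (ι c) * ϖ := by
        rw [hϖ, ← map_mul, ← map_mul, ← map_mul, ← map_mul, hc]
      change _ = j (ι a)
      rw [mul_assoc, ← this, ← hu, ← mul_assoc, Units.inv_mul, one_mul]
  have hred : ∀ z : R', z * z ∈ Ideal.span {ϖ} → z ∈ Ideal.span {ϖ} := by
    intro z hz
    obtain ⟨w, b, rfl⟩ := IsLocalization.exists_mk'_eq P.primeCompl z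
    rw [hqR] at hz ⊢
    rw [← IsLocalization.mk'_mul, IsLocalization.mk'_mem_map_algebraMap_iff P.primeCompl] at hz
    obtain ⟨b', hb', hb'w⟩ := hz
    rw [IsLocalization.mk'_mem_map_algebraMap_iff P.primeCompl]
    refine ⟨b', hb', ?_⟩
    apply hrad
    refine ⟨2, ?_⟩
    have : (b' * w) ^ 2 = b' * (b' * (w * w)) := by ring
    rw [this]
    exact Ideal.mul_mem_left _ _ hb'w
  -- the colon description of the maximal ideal
  have hmap : Ideal.span {j (ι t)} = (Ideal.span {ι t}).map j := by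
    rw [Ideal.map_span, Set.image_singleton]
  have hy' : j y ∉ Ideal.span {ϖ ^ (e + 1)} := by
    rw [hspan, hmap, IsLocalization.algebraMap_mem_map_algebraMap_iff P.primeCompl]
    rintro ⟨b, hb, hby⟩
    exact hb ((hP b).mpr hby)
  have hmax : ∀ b : R', b ∈ maximalIdeal R' ↔ b * j y ∈ Ideal.span {ϖ ^ (e + 1)} := by
    intro b
    obtain ⟨w, s, rfl⟩ := IsLocalization.exists_mk'_eq P.primeCompl b
    rw [IsLocalization.AtPrime.mk'_mem_maximal_iff R' P, hspan, hmap]
    have : IsLocalization.mk' R' w s * j y = IsLocalization.mk' R' (w * y) s := by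
      rw [mul_comm _ (j y), mul_comm w y]
      exact IsLocalization.mul_mk'_eq_mk'_of_mul y w s
    rw [this, IsLocalization.mk'_mem_map_algebraMap_iff P.primeCompl]
    constructor
    · intro hw
      exact ⟨1, P.primeCompl.one_mem, by rw [one_mul]; exact (hP w).mp hw⟩
    · rintro ⟨b', hb', hb'w⟩
      rw [← mul_assoc] at hb'w
      have := (hP (b' * w)).mpr hb'w
      exact (Ideal.IsPrime.mem_or_mem inferInstance this).resolve_left hb'
  have hmeq := maximalIdeal_eq_span_of_colon ϖ hϖreg hϖm hred e (j y) hy' hmax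
  exact isReduced_of_maximalIdeal_eq_span ϖ hϖreg hmeq

end Groth.Agent.Lib.helper26.Zariski
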