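import Mathlib
import Groth.Agent.Lib.Helper26.Zariski2

/-!
# Zariski's lemma on reducedness of completions (helper26), part 3: the theorem for a flat local
extension
-/

set_option autoImplicit false
set_option linter.unusedSectionVars false
universe u

open IsLocalRing

namespace Groth.Agent.Lib.helper26.Zariski

variable {A : Type u} [CommRing A] [IsNoetherianRing A] [IsLocalRing A]
  {B : Type u} [CommRing B] [IsNoetherianRing B] [IsLocalRing B] [Algebra A B] [Module.Flat A B]
  (t : A) (hreg : t ∈ nonZeroDivisors A)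
  (hemb : associatedPrimes A (A ⧸ Ideal.span {t}) ⊆ (Ideal.span {t}).minimalPrimes)
  (hU : ∀ q ∈ associatedPrimes A (A ⧸ Ideal.span {t}), UData t q)
  (hrad : ∀ q ∈ associatedPrimes A (A ⧸ Ideal.span {t}), (q.map (algebraMap A B)).IsRadical)

include hreg hemb hU hrad in
/-- nilpotents of `B` are divisible by `t`. -/
theorem mem_span_of_mem_nilradical (n : B) (hn : n ∈ nilradical B) :
    n ∈ Ideal.span {algebraMap A B t} := by
  classical
  by_contra hnot
  set tb : B := algebraMap A B t with htb
  let x : B ⧸ Ideal.span {tb} := Ideal.Quotient.mk _ n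
  have hx : x ≠ 0 := by
    rw [Ne, Ideal.Quotient.eq_zero_iff_mem]; exact hnot
  obtain ⟨P, hPass, hle⟩ := exists_le_isAssociatedPrime_of_isNoetherianRing (R := B) x hx
  obtain ⟨hPprime, yb, hPy⟩ := (isAssociatedPrime_iff).mp hPass
  obtain ⟨y, rfl⟩ := Ideal.Quotient.mk_surjective yb
  have hcolon : ∀ (b z : B), b ∈ (⊥ : Submodule B (B ⧸ Ideal.span {tb})).colon
      {Ideal.Quotient.mk (Ideal.span {tb}) z} ↔ b * z ∈ Ideal.span {tb} := by
    intro b z
    rw [Submodule.mem_colon_singleton, Submodule.mem_bot]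
    change b • (Submodule.Quotient.mk z : B ⧸ Ideal.span {tb}) = 0 ↔ _
    rw [← Submodule.Quotient.mk_smul, Submodule.Quotient.mk_eq_zero, smul_eq_mul]
  have hP : ∀ b : B, b ∈ P ↔ b * y ∈ Ideal.span {tb} := by
    intro b
    rw [hPy, hcolon]
  have hnP : ∀ b : B, b * n ∈ Ideal.span {tb} → b ∈ P := by
    intro b hb
    exact hle ((hcolon b n).mpr hb)
  have hy : y ∉ Ideal.span {tb} := by
    intro hy
    apply hPprime.ne_top
    rw [Ideal.eq_top_iff_one, hP, one_mul]
    exact hy
  set q := P.comap (algebraMap A B) with hq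
  have hqprime : q.IsPrime := Ideal.comap_isPrime _ _
  have htq : t ∈ q := by
    rw [hq, Ideal.mem_comap, hP]
    exact Ideal.mul_mem_right _ _ (Ideal.mem_span_singleton_self _)
  -- `q` is an associated prime of `A/tA`
  have hqass : q ∈ associatedPrimes A (A ⧸ Ideal.span {t}) := by
    have hsub : (q : Set A) ⊆ ⋃ p ∈ associatedPrimes A (A ⧸ Ideal.span {t}), (p : Set A) := by
      intro a ha
      by_contra hna
      apply hy
      refine mem_span_of_smul_mem t a hna y ?_
      rw [← hP]
      exact ha
    have hfin := associatedPrimes.finite A (A ⧸ Ideal.span {t})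
    have hsub' : (q : Set A) ⊆ ⋃ p ∈ ((hfin.toFinset : Finset (Ideal A)) : Set (Ideal A)),
        ((id p : Ideal A) : Set A) := by
      intro a ha
      have := hsub ha
      simp only [Set.mem_iUnion, Set.Finite.coe_toFinset, id] at this ⊢
      exact this
    obtain ⟨p, hp, hqp⟩ := (Ideal.subset_union_prime (R := A) (f := id) ⊥ ⊥ (by
      intro i hi _ _
      rw [Set.Finite.mem_toFinset] at hi
      exact hi.isPrime)).mp hsub'
    rw [Set.Finite.mem_toFinset] at hp
    have hpmin := hemb hp
    have hpq : p ≤ q := hpmin.2 ⟨hqprime, (Ideal.span_singleton_le_iff_mem _).mpr htq⟩ hqp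
    have : q = p := le_antisymm hqp hpq
    rw [this]; exact hp
  have hred := isReduced_localization t hreg P y hP (hU q hqass) (hrad q hqass)
  -- conclude
  obtain ⟨k, hk⟩ := mem_nilradical.mp hn
  have h0 : algebraMap B (Localization.AtPrime P) n = 0 := by
    apply IsNilpotent.eq_zero
    exact ⟨k, by rw [← map_pow, hk, map_zero]⟩
  rw [IsLocalization.map_eq_zero_iff P.primeCompl] at h0
  obtain ⟨b, hb⟩ := h0
  have : (b : B) ∈ P := hnP b (by rw [hb]; exact Ideal.zero_mem _)
  exact b.2 this

include hreg hemb hU hrad in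
/-- **Zariski's lemma** for a flat local extension. -/
theorem isReduced_of_flat (htm : algebraMap A B t ∈ maximalIdeal B) : IsReduced B := by
  rw [← nilradical_eq_bot_iff]
  set tb : B := algebraMap A B t with htb
  have htbreg : tb ∈ nonZeroDivisors B := algebraMap_mem_nonZeroDivisors t hreg
  refine Submodule.eq_bot_of_le_smul_of_le_jacobson_bot (Ideal.span {tb}) (nilradical B)
    (IsNoetherian.noetherian _) ?_ ?_
  · intro n hn
    obtain ⟨c, hc⟩ := Ideal.mem_span_singleton'.mp
      (mem_span_of_mem_nilradical t hreg hemb hU hrad n hn)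
    have hcn : c ∈ nilradical B := by
      obtain ⟨k, hk⟩ := mem_nilradical.mp hn
      rw [mem_nilradical]
      refine ⟨k, ?_⟩
      have h1 : c ^ k * tb ^ k = 0 := by rw [← mul_pow, hc, hk]
      exact (mul_right_mem_nonZeroDivisors_eq_zero_iff (pow_mem htbreg k)).mp h1
    rw [← hc, mul_comm, ← smul_eq_mul]
    exact Submodule.smul_mem_smul (Ideal.mem_span_singleton_self tb) hcn
  · rw [IsLocalRing.jacobson_eq_maximalIdeal ⊥ bot_ne_top, Ideal.span_singleton_le_iff_mem]
    exact htm

end Groth.Agent.Lib.helper26.Zariski
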