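import Mathlib
import Groth.Prelude.Def_EGA4b
import Groth.Agent.Lib.Helper26.Zariski3
import Groth.Agent.Lib.Helper24.CplQuot
import Groth.Agent.S0542

/-!
# Zariski's lemma on reducedness of completions (helper26), part 4: completions
-/

set_option autoImplicit false
set_option linter.unusedSectionVars false
universe u

open IsLocalRing

namespace Groth.Agent.Lib.helper26.Zariski

variable {A : Type u} [CommRing A] [IsNoetherianRing A] [IsLocalRing A]

omit [IsLocalRing A] in
/-- unlocalized data from a DVR localization. -/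
theorem uData_of_dvr (t : A) (hreg : t ∈ nonZeroDivisors A) (q : Ideal A) [q.IsPrime]
    (htq : t ∈ q) [IsDomain (Localization.AtPrime q)]
    [IsDiscreteValuationRing (Localization.AtPrime q)] : UData t q := by
  let R' := Localization.AtPrime q
  obtain ⟨ϖ, hirr⟩ := IsDiscreteValuationRing.exists_irreducible R'
  have hmax : maximalIdeal R' = Ideal.span {ϖ} := hirr.maximalIdeal_eq
  obtain ⟨π₁, s₀, rfl⟩ := IsLocalization.exists_mk'_eq q.primeCompl ϖ
  have hπ₁ : π₁ ∈ q := by
    have : IsLocalization.mk' R' π₁ s₀ ∈ maximalIdeal R' := by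
      rw [hmax]; exact Ideal.mem_span_singleton_self _
    exact (IsLocalization.AtPrime.mk'_mem_maximal_iff R' q π₁ s₀).mp this
  have hs₀ : IsUnit (algebraMap A R' s₀) := IsLocalization.map_units R' s₀
  have hπrel : algebraMap A R' π₁ = IsLocalization.mk' R' π₁ s₀ * algebraMap A R' s₀ :=
    (IsLocalization.mk'_spec R' π₁ s₀).symm
  have hmax' : maximalIdeal R' = Ideal.span {algebraMap A R' π₁} := by
    rw [hmax, hπrel]
    exact (Ideal.span_singleton_mul_right_unit hs₀ _).symm
  have ht' : algebraMap A R' t ≠ 0 := by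
    intro h0
    rw [IsLocalization.map_eq_zero_iff q.primeCompl] at h0
    obtain ⟨m, hm⟩ := h0
    have : (m : A) = 0 := (mul_right_mem_nonZeroDivisors_eq_zero_iff hreg).mp hm
    exact m.2 (by rw [this]; exact Ideal.zero_mem _)
  obtain ⟨n, u, hu⟩ := IsDiscreteValuationRing.eq_unit_mul_pow_irreducible ht' hirr
  have hn : n ≠ 0 := by
    rintro rfl
    rw [pow_zero, mul_one] at hu
    have h1 : algebraMap A R' t ∈ maximalIdeal R' :=
      (IsLocalization.AtPrime.to_map_mem_maximal_iff R' q t).mpr htq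
    rw [hu] at h1
    exact (IsLocalRing.mem_maximalIdeal _).mp h1 u.isUnit
  obtain ⟨e, rfl⟩ := Nat.exists_eq_succ_of_ne_zero hn
  obtain ⟨c, s, hcs⟩ := IsLocalization.exists_mk'_eq q.primeCompl (u : R')
  have hc : c ∉ q := by
    intro hcq
    have h1 : IsLocalization.mk' R' c s ∈ maximalIdeal R' :=
      (IsLocalization.AtPrime.mk'_mem_maximal_iff R' q c s).mpr hcq
    rw [hcs] at h1
    exact (IsLocalRing.mem_maximalIdeal _).mp h1 u.isUnit
  have h2 : algebraMap A R' t =
      IsLocalization.mk' R' (c * π₁ ^ (e + 1)) (s * s₀ ^ (e + 1)) := by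
    rw [hu, ← hcs, ← IsLocalization.mk'_pow, ← IsLocalization.mk'_mul]
  rw [IsLocalization.eq_mk'_iff_mul_eq, ← map_mul,
    IsLocalization.eq_iff_exists q.primeCompl] at h2
  obtain ⟨m, hm⟩ := h2
  refine ⟨π₁, hπ₁, e, m * (s * s₀ ^ (e + 1) : q.primeCompl), ?_, m * c, ?_, ?_, ?_⟩
  · exact (m * (s * s₀ ^ (e + 1))).2
  · intro h
    rcases Ideal.IsPrime.mem_or_mem inferInstance h with h | h
    · exact m.2 h
    · exact hc h
  · rw [mul_assoc, mul_assoc, ← hm]
    push_cast
    ring
  · intro a ha
    have h1 : algebraMap A R' a ∈ maximalIdeal R' :=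
      (IsLocalization.AtPrime.to_map_mem_maximal_iff R' q a).mpr ha
    rw [hmax', ← Set.image_singleton, ← Ideal.map_span,
      IsLocalization.algebraMap_mem_map_algebraMap_iff q.primeCompl] at h1
    obtain ⟨s', hs', hs'a⟩ := h1
    exact ⟨s', hs', hs'a⟩

/-- `q Â` is radical when the completion of `A/q` is reduced. -/
theorem isRadical_map_of_isReduced_cpl (q : Ideal A) [IsLocalRing (A ⧸ q)]
    (h : IsReduced (AdicCompletion (maximalIdeal (A ⧸ q)) (A ⧸ q))) :
    (q.map (algebraMap A (AdicCompletion (maximalIdeal A) A))).IsRadical := by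
  rw [Ideal.isRadical_iff_quotient_reduced]
  exact isReduced_of_injective (Groth.Agent.Lib.Helper24.CplQuot.equiv A q).toRingHom
    (Groth.Agent.Lib.Helper24.CplQuot.equiv A q).injective

/-- **Zariski's lemma** for the completion, with unlocalized data. -/
theorem isReduced_cpl_of_uData (t : A) (ht : t ∈ maximalIdeal A) (hreg : t ∈ nonZeroDivisors A)
    (hemb : associatedPrimes A (A ⧸ Ideal.span {t}) ⊆ (Ideal.span {t}).minimalPrimes)
    (hU : ∀ q ∈ associatedPrimes A (A ⧸ Ideal.span {t}), UData t q)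
    (hrad : ∀ q ∈ associatedPrimes A (A ⧸ Ideal.span {t}),
      (q.map (algebraMap A (AdicCompletion (maximalIdeal A) A))).IsRadical) :
    IsReduced (AdicCompletion (maximalIdeal A) A) := by
  have hN : IsNoetherianRing (AdicCompletion (maximalIdeal A) A) :=
    Groth.Agent.S0542.result A (maximalIdeal A) (maximalIdeal A).fg_of_isNoetherianRing
  refine isReduced_of_flat t hreg hemb hU hrad ?_
  rw [AdicCompletion.maximalIdeal_eq_map]
  exact Ideal.mem_map_of_mem _ ht

/-- S2649. -/
theorem isReduced_cpl_of_dvr (t : A) (ht : t ∈ maximalIdeal A) (hreg : t ∈ nonZeroDivisors A)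
    (hemb : associatedPrimes A (A ⧸ Ideal.span {t}) ⊆ (Ideal.span {t}).minimalPrimes)
    (hdvr : ∀ (q : Ideal A) [q.IsPrime], q ∈ (Ideal.span {t}).minimalPrimes →
      ∃ (_ : IsDomain (Localization.AtPrime q)), IsDiscreteValuationRing (Localization.AtPrime q))
    (hred : ∀ (q : Ideal A) [q.IsPrime], q ∈ (Ideal.span {t}).minimalPrimes →
      IsReduced (EGA4.Cpl (A ⧸ q))) :
    IsReduced (EGA4.Cpl A) := by
  refine isReduced_cpl_of_uData t ht hreg hemb ?_ ?_
  · intro q hq
    have hqmin := hemb hq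
    have hqprime : q.IsPrime := hqmin.1.1
    obtain ⟨hdom, hd⟩ := hdvr q hqmin
    exact uData_of_dvr t hreg q (hqmin.1.2 (Ideal.mem_span_singleton_self t))
  · intro q hq
    have hqmin := hemb hq
    have hqprime : q.IsPrime := hqmin.1.1
    exact isRadical_map_of_isReduced_cpl q (hred q hqmin)

end Groth.Agent.Lib.helper26.Zariski
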