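import Mathlib
import Groth.Prelude.Def_EGA4b
import Groth.Agent.Lib.Helper26.Zariski4

/-!
# Zariski's lemma on reducedness of completions (helper26), part 5: the regular version
-/

set_option autoImplicit false
set_option linter.unusedSectionVars false
universe u

open IsLocalRing

namespace Groth.Agent.Lib.helper26.Zariski

open Groth.Agent.Lib.helper26.Hironaka

/-- a regular local domain of dimension one is a DVR. -/
theorem isDiscreteValuationRing_of_regular_of_height_one {R : Type u} [CommRing R] [IsDomain R]
    [IsNoetherianRing R] (p : Ideal R) [p.IsPrime] (hp : p.height = 1)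
    (hreg : IsRegularLocalRing (Localization.AtPrime p)) :
    IsDiscreteValuationRing (Localization.AtPrime p) := by
  have h1 := hreg.spanFinrank_maximalIdeal
  rw [IsLocalization.AtPrime.ringKrullDim_eq_height p (Localization.AtPrime p), hp] at h1
  have h2 : (maximalIdeal (Localization.AtPrime p)).spanFinrank = 1 := by
    exact_mod_cast h1
  obtain ⟨hprinc, hne⟩ := (Submodule.spanFinrank_eq_one_iff _).mp h2
  have hnf : ¬ IsField (Localization.AtPrime p) := by
    rw [IsLocalRing.isField_iff_maximalIdeal_eq]; exact hne
  exact ((IsDiscreteValuationRing.TFAE (Localization.AtPrime p) hnf).out 4 0).mp hprinc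

/-- S2093. -/
theorem isReduced_cpl_of_regular {R : Type u} [CommRing R] [IsDomain R] [IsLocalRing R]
    [IsNoetherianRing R] (x : R) (hx : x ≠ 0) (hxm : x ∈ IsLocalRing.maximalIdeal R)
    (hemb : ∀ p ∈ associatedPrimes R (R ⧸ Ideal.span {x}), p ∈ (Ideal.span {x}).minimalPrimes)
    (hreg : ∀ p ∈ associatedPrimes R (R ⧸ Ideal.span {x}), ∀ (_ : p.IsPrime),
      IsRegularLocalRing (Localization.AtPrime p) ∧
        IsReduced (AdicCompletion ((IsLocalRing.maximalIdeal R).map (Ideal.Quotient.mk p))
          (R ⧸ p))) :
    IsReduced (AdicCompletion (IsLocalRing.maximalIdeal R) R) := by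
  have hxreg : x ∈ nonZeroDivisors R := mem_nonZeroDivisors_of_ne_zero hx
  refine isReduced_cpl_of_uData x hxm hxreg hemb ?_ ?_
  · intro p hp
    have hpmin := hemb p hp
    have hpprime : p.IsPrime := hpmin.1.1
    have hxp : x ∈ p := hpmin.1.2 (Ideal.mem_span_singleton_self x)
    have hht : p.height = 1 := by
      refine le_antisymm (Ideal.height_le_one_of_isPrincipal_of_mem_minimalPrimes _ p hpmin)
        (one_le_height_of_ne_bot p ?_)
      intro hbot
      rw [hbot, Ideal.mem_bot] at hxp
      exact hx hxp
    have hd := isDiscreteValuationRing_of_regular_of_height_one p hht (hreg p hp hpprime).1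
    exact uData_of_dvr x hxreg p hxp
  · intro p hp
    have hpmin := hemb p hp
    have hpprime : p.IsPrime := hpmin.1.1
    have hloc : IsLocalRing (R ⧸ p) := inferInstance
    have h2 := (hreg p hp hpprime).2
    rw [Groth.Agent.Lib.Helper24.CplQuot.map_maximalIdeal_eq] at h2
    exact isRadical_map_of_isReduced_cpl p h2

end Groth.Agent.Lib.helper26.Zariski
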