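import Mathlib
import Groth.Agent.S12212
import Groth.Agent.Lib.Helper26.Mult5

/-!
# The associativity formula for multiplicities, without locality (helper26)

For a Noetherian ring `A` and an ideal `q` such that `M/qM` has finite length for every finite
module `M` (i.e. `V(q)` consists of maximal ideals):
* `tendsto_of_exact`: additivity of `lim d! ℓ(M/q^t M)/t^d` in short exact sequences;
* `tendsto_rhs`: `e_q(M, d) = ∑_{dim A/p = d} ℓ(M_p) e_q(A/p, d)`;
* `tendsto_coeff`: for a Hilbert–Samuel polynomial `H` of degree `≤ d`, the limit is `d! H_d`.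
-/

set_option autoImplicit false
set_option linter.unusedSectionVars false
universe u

open Polynomial

namespace Groth.Agent.Lib.helper26.HS

variable {A : Type u} [CommRing A] [IsNoetherianRing A] (q : Ideal A)

section exact

variable {M' M M'' : Type u} [AddCommGroup M'] [Module A M'] [AddCommGroup M] [Module A M]
  [AddCommGroup M''] [Module A M''] [Module.Finite A M'] [Module.Finite A M] [Module.Finite A M'']

theorem tendsto_of_exact (hM' : hs q M' 1 ≠ ⊤) (hM : hs q M 1 ≠ ⊤) (hM'' : hs q M'' 1 ≠ ⊤)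
    (f : M' →ₗ[A] M) (g : M →ₗ[A] M'') (hf : Function.Injective f) (hg : Function.Surjective g)
    (hfg : LinearMap.range f = LinearMap.ker g) (d : ℕ) (e' e'' : ℝ)
    (h' : Filter.Tendsto (fun t : ℕ => (d.factorial : ℝ) * ((hs q M' t).toNat : ℝ) / (t : ℝ) ^ d)
      Filter.atTop (nhds e'))
    (h'' : Filter.Tendsto (fun t : ℕ => (d.factorial : ℝ) * ((hs q M'' t).toNat : ℝ) / (t : ℝ) ^ d)
      Filter.atTop (nhds e'')) :
    Filter.Tendsto (fun t : ℕ => (d.factorial : ℝ) * ((hs q M t).toNat : ℝ) / (t : ℝ) ^ d)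
      Filter.atTop (nhds (e' + e'')) := by
  have fM : ∀ t, hs q M t ≠ ⊤ := hs_ne_top q M hM
  have fM' : ∀ t, hs q M' t ≠ ⊤ := hs_ne_top q M' hM'
  have fM'' : ∀ t, hs q M'' t ≠ ⊤ := hs_ne_top q M'' hM''
  obtain ⟨k, hk⟩ := exists_hs_le_col_comap q f hf
  have hex : ∀ t, hs q M t = hs q M'' t + col ((q ^ t • (⊤ : Submodule A M)).comap f) :=
    fun t => hs_exact q f g hg hfg t
  have fg : ∀ t, col ((q ^ t • (⊤ : Submodule A M)).comap f) ≠ ⊤ :=
    fun t => ne_top_of_le_ne_top (fM' t) (col_comap_le_hs q f t)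
  have hmid : Filter.Tendsto (fun t : ℕ => (d.factorial : ℝ) *
      ((col ((q ^ t • (⊤ : Submodule A M)).comap f)).toNat : ℝ) / (t : ℝ) ^ d) Filter.atTop
      (nhds e') := by
    have hlow := Groth.Agent.S12211.tendsto_shift d k (fun t => (hs q M' t).toNat) e' h'
    refine tendsto_of_tendsto_of_tendsto_of_le_of_le' hlow h' ?_ ?_
    · filter_upwards [Filter.eventually_ge_atTop k] with t ht
      have h1 : (hs q M' (t - k)).toNat ≤
          (col ((q ^ t • (⊤ : Submodule A M)).comap f)).toNat :=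
        ENat.toNat_le_toNat (hk t ht) (fg t)
      have h2 : ((hs q M' (t - k)).toNat : ℝ) ≤
          ((col ((q ^ t • (⊤ : Submodule A M)).comap f)).toNat : ℝ) := by exact_mod_cast h1
      show (d.factorial : ℝ) * ((hs q M' (t - k)).toNat : ℝ) / (t : ℝ) ^ d ≤ _
      gcongr
    · filter_upwards with t
      have h1 : (col ((q ^ t • (⊤ : Submodule A M)).comap f)).toNat ≤ (hs q M' t).toNat :=
        ENat.toNat_le_toNat (col_comap_le_hs q f t) (fM' t)
      have h2 : ((col ((q ^ t • (⊤ : Submodule A M)).comap f)).toNat : ℝ) ≤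
          ((hs q M' t).toNat : ℝ) := by exact_mod_cast h1
      show _ ≤ (d.factorial : ℝ) * ((hs q M' t).toNat : ℝ) / (t : ℝ) ^ d
      gcongr
  have hsum := h''.add hmid
  rw [add_comm e'' e'] at hsum
  refine hsum.congr (fun t => ?_)
  have h1 : (hs q M t).toNat = (hs q M'' t).toNat +
      (col ((q ^ t • (⊤ : Submodule A M)).comap f)).toNat := by
    rw [hex t, ENat.toNat_add (fM'' t) (fg t)]
  show (d.factorial : ℝ) * ((hs q M'' t).toNat : ℝ) / (t : ℝ) ^ d +
    (d.factorial : ℝ) * ((col ((q ^ t • (⊤ : Submodule A M)).comap f)).toNat : ℝ) / (t : ℝ) ^ d =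
    (d.factorial : ℝ) * ((hs q M t).toNat : ℝ) / (t : ℝ) ^ d
  rw [h1]
  push_cast
  ring

end exact

section assoc

variable (hone : ∀ (N : Type u) [AddCommGroup N] [Module A N] [Module.Finite A N], hs q N 1 ≠ ⊤)

include hone in
/-- The associativity formula. -/
theorem tendsto_rhs (d : ℕ) (e : PrimeSpectrum A → ℝ)
    (he : ∀ p : PrimeSpectrum A, ringKrullDim (A ⧸ p.asIdeal) = d →
      Filter.Tendsto (fun t : ℕ => (d.factorial : ℝ) * ((hs q (A ⧸ p.asIdeal) t).toNat : ℝ) /
        (t : ℝ) ^ d) Filter.atTop (nhds (e p)))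
    (M : Type u) [AddCommGroup M] [Module A M] [hfin : Module.Finite A M]
    (hd : Module.supportDim A M ≤ d) :
    Filter.Tendsto (fun t : ℕ => (d.factorial : ℝ) * ((hs q M t).toNat : ℝ) / (t : ℝ) ^ d)
      Filter.atTop (nhds (rhs d e M)) := by
  revert hd
  refine IsNoetherianRing.induction_on_isQuotientEquivQuotientPrime A hfin
    (motive := fun N _ _ _ => Module.supportDim A N ≤ d →
      Filter.Tendsto (fun t : ℕ => (d.factorial : ℝ) * ((hs q N t).toNat : ℝ) / (t : ℝ) ^ d)
        Filter.atTop (nhds (rhs d e N))) ?_ ?_ ?_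
  · intro N _ _ _ _ _
    rw [rhs_of_subsingleton]
    have h0 : ∀ t, hs q N t = 0 := fun t => by
      unfold hs col
      exact Module.length_eq_zero
    simp [h0]
  · intro N _ _ _ p' φ hd
    have hd' : ringKrullDim (A ⧸ p'.asIdeal) ≤ d := by
      rw [← Module.supportDim_quotient_eq_ringKrullDim, ← Module.supportDim_eq_of_equiv φ]
      exact hd
    rw [rhs_of_equiv d e φ]
    simp only [hs_of_equiv q φ]
    by_cases hc : ringKrullDim (A ⧸ p'.asIdeal) = d
    · rw [rhs_quotient_eq d e p' hc]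
      exact he p' hc
    · rw [rhs_quotient_ne d e p' hd' hc]
      have hb : ringKrullDim (A ⧸ p'.asIdeal) ≠ ⊥ := by
        have : Nontrivial (A ⧸ p'.asIdeal) := Ideal.Quotient.nontrivial_iff.2 p'.2.ne_top
        intro h
        have h0 := ringKrullDim_nonneg_of_nontrivial (R := A ⧸ p'.asIdeal)
        rw [h] at h0
        simp at h0
      obtain ⟨d', hlt, hle⟩ := Groth.Agent.S12212.exists_lt_of_le_of_ne hd' hc hb
      refine tendsto_zero_of_supportDim_lt q (hone _) d' d ?_ hlt
      rwa [Module.supportDim_quotient_eq_ringKrullDim]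
  · intro N₁ _ _ _ N₂ _ _ _ N₃ _ _ _ f g hf hg H ih1 ih3 hd
    rw [rhs_add_of_exact d e f g hf hg H hd]
    have hd1 : Module.supportDim A N₁ ≤ d := (Module.supportDim_le_of_injective f hf).trans hd
    have hd3 : Module.supportDim A N₃ ≤ d := (Module.supportDim_le_of_surjective g hg).trans hd
    exact tendsto_of_exact q (hone N₁) (hone N₂) (hone N₃) f g hf hg (LinearMap.exact_iff.1 H).symm
      d _ _ (ih1 hd1) (ih3 hd3)

end assoc

section coeff

/-- `Q(t)/t^d → Q_d` for `deg Q ≤ d`. -/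
theorem tendsto_div_pow_coeff (Q : ℚ[X]) (d : ℕ) (hd : Q.natDegree ≤ d) :
    Filter.Tendsto (fun t : ℕ => ((Q.eval (t : ℚ) : ℚ) : ℝ) / (t : ℝ) ^ d) Filter.atTop
      (nhds ((Q.coeff d : ℚ) : ℝ)) := by
  rcases Nat.eq_or_lt_of_le hd with h | h
  · have := tendsto_div_pow_leadingCoeff Q d h
    rwa [Polynomial.leadingCoeff, h] at this
  · have := tendsto_div_pow_zero Q d h
    rw [Polynomial.coeff_eq_zero_of_natDegree_lt h]
    simpa using this

variable {N : Type u} [AddCommGroup N] [Module A N] [Module.Finite A N]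

theorem tendsto_coeff {H : ℚ[X]} (hH : IsHSPoly q N H) (d : ℕ) (hd : H.natDegree ≤ d) :
    Filter.Tendsto (fun t : ℕ => (d.factorial : ℝ) * ((hs q N t).toNat : ℝ) / (t : ℝ) ^ d)
      Filter.atTop (nhds ((d.factorial : ℝ) * ((H.coeff d : ℚ) : ℝ))) := by
  obtain ⟨N₀, hN₀⟩ := hH
  have h1 := (tendsto_div_pow_coeff H d hd).const_mul (d.factorial : ℝ)
  refine h1.congr' ?_
  filter_upwards [Filter.eventually_ge_atTop N₀] with t ht
  rw [← hN₀ t ht, mul_div_assoc]
  push_cast
  rfl

end coeff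

end Groth.Agent.Lib.helper26.HS
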