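import Mathlib
import Groth.Agent.Lib.Helper26.GrHS3
import Groth.Agent.Lib.Helper26.MultAssoc

/-!
# Degrees of projective schemes: the sum over top-dimensional components (helper26)

`degree_eq_sum`: for a homogeneous ideal `I` of `k[X_σ]` with Hilbert polynomial `P` and minimal
primes `p_i` with Hilbert polynomials `Q_i`:
`(deg P)! lc(P) = ∑_{deg Q_i = deg P} (deg Q_i)! lc(Q_i) ℓ((R/I)_{p_i})`.
-/

set_option autoImplicit false
set_option linter.unusedSectionVars false
universe u

open MvPolynomial Module Pointwise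

namespace Groth.Agent.Lib.helper26.GrHS

open Groth.Agent.Lib.helper26.HS Groth.Agent.Lib.helper26.HilbHyper
  Groth.Agent.Lib.helper26.Graded

attribute [local instance] MvPolynomial.gradedAlgebra

variable {k : Type u} [Field k] {σ : Type} [Finite σ]

theorem hone (N : Type u) [AddCommGroup N] [Module (MvPolynomial σ k) N]
    [Module.Finite (MvPolynomial σ k) N] : hs (mI k σ) N 1 ≠ ⊤ := by
  rw [hs_one_ne_top_iff]
  intro Q _ hQ
  have hmax : (mI k σ).IsMaximal := span_X_isMaximal
  rw [← hmax.eq_of_le Q.2.ne_top hQ]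
  exact hmax

/-- The relation between `(deg P)! lc P` and `d! lc H`. -/
theorem factorial_mul_leadingCoeff (J : Ideal (MvPolynomial σ k))
    (hJ : J.IsHomogeneous (homogeneousSubmodule σ k)) {H P : Polynomial ℚ}
    (hH : IsHSPoly (mI k σ) (MvPolynomial σ k ⧸ J) H) (hP : IsHilbPoly J P) (hP0 : P ≠ 0) :
    (P.natDegree.factorial : ℚ) * P.leadingCoeff =
      ((P.natDegree + 1).factorial : ℚ) * H.coeff (P.natDegree + 1) := by
  obtain ⟨h1, h2⟩ := natDegree_hilbert J hJ hH hP hP0
  rw [h2, Polynomial.leadingCoeff, ← h1, Nat.factorial_succ]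
  push_cast
  ring

theorem isHilbPoly_zero_of_dim_le_zero (J : Ideal (MvPolynomial σ k))
    (hJ : J.IsHomogeneous (homogeneousSubmodule σ k)) {P : Polynomial ℚ} (hP : IsHilbPoly J P)
    (hdim : ringKrullDim (MvPolynomial σ k ⧸ J) ≤ 0) : P = 0 := by
  by_contra hP0
  have := ringKrullDim_eq_of_isHilbPoly J hJ hP hP0
  rw [this] at hdim
  have h1 : P.natDegree + 1 ≤ 0 := by exact_mod_cast hdim
  omega

theorem degree_eq_sum (I : Ideal (MvPolynomial σ k))
    (hI : I.IsHomogeneous (homogeneousSubmodule σ k)) (P : Polynomial ℚ) (hP : IsHilbPoly I P)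
    (r : ℕ) (p : Fin r → Ideal (MvPolynomial σ k)) [hp : ∀ i, (p i).IsPrime]
    (hpinj : Function.Injective p)
    (hpmin : ∀ q : Ideal (MvPolynomial σ k), q ∈ I.minimalPrimes ↔ ∃ i, q = p i)
    (Qp : Fin r → Polynomial ℚ) (hQp : ∀ i, IsHilbPoly (p i) (Qp i)) :
    (P.natDegree.factorial : ℚ) * P.leadingCoeff =
      ∑ i : Fin r, if (Qp i).natDegree = P.natDegree then
        ((Qp i).natDegree.factorial : ℚ) * (Qp i).leadingCoeff *
          (locLen (MvPolynomial σ k ⧸ I) ⟨p i, hp i⟩).toNat
      else 0 := by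
  classical
  have hpmem : ∀ i, p i ∈ I.minimalPrimes := fun i => (hpmin (p i)).2 ⟨i, rfl⟩
  have hph : ∀ i, (p i).IsHomogeneous (homogeneousSubmodule σ k) :=
    fun i => isHomogeneous_of_mem_minimalPrimes hI (hpmem i)
  have hIp : ∀ i, I ≤ p i := fun i => (hpmem i).1.2
  have hdimle : ∀ i, ringKrullDim (MvPolynomial σ k ⧸ p i) ≤
      ringKrullDim (MvPolynomial σ k ⧸ I) := fun i =>
    ringKrullDim_le_of_surjective (Ideal.Quotient.factor (hIp i))
      (Ideal.Quotient.factor_surjective (hIp i))
  by_cases hP0 : P = 0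
  · -- everything vanishes
    subst hP0
    have hdim0 := ringKrullDim_le_zero_of_isHilbPoly_zero I hI hP
    rw [Polynomial.leadingCoeff_zero, mul_zero]
    symm
    apply Finset.sum_eq_zero
    intro i _
    have : Qp i = 0 :=
      isHilbPoly_zero_of_dim_le_zero (p i) (hph i) (hQp i) ((hdimle i).trans hdim0)
    rw [this]
    simp
  -- the main case
  set d : ℕ := P.natDegree + 1 with hd
  have hdimI : ringKrullDim (MvPolynomial σ k ⧸ I) = (d : WithBot ℕ∞) :=
    ringKrullDim_eq_of_isHilbPoly I hI hP hP0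
  obtain ⟨H, hH⟩ := exists_isHSPoly (mI k σ) (hs_one_ne_top I hI)
  have hHd : H.natDegree = d := (natDegree_hilbert I hI hH hP hP0).1.symm
  rw [factorial_mul_leadingCoeff I hI hH hP hP0]
  -- the multiplicities of the primes
  let Hp : PrimeSpectrum (MvPolynomial σ k) → Polynomial ℚ := fun q =>
    Classical.choose (exists_isHSPoly (mI k σ) (hone (MvPolynomial σ k ⧸ q.asIdeal)))
  have hHp : ∀ q, IsHSPoly (mI k σ) (MvPolynomial σ k ⧸ q.asIdeal) (Hp q) := fun q =>
    Classical.choose_spec (exists_isHSPoly (mI k σ) (hone (MvPolynomial σ k ⧸ q.asIdeal)))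
  let e : PrimeSpectrum (MvPolynomial σ k) → ℝ := fun q =>
    (d.factorial : ℝ) * (((Hp q).coeff d : ℚ) : ℝ)
  have he : ∀ q : PrimeSpectrum (MvPolynomial σ k),
      ringKrullDim (MvPolynomial σ k ⧸ q.asIdeal) = d →
      Filter.Tendsto (fun t : ℕ => (d.factorial : ℝ) *
        ((hs (mI k σ) (MvPolynomial σ k ⧸ q.asIdeal) t).toNat : ℝ) / (t : ℝ) ^ d) Filter.atTop
        (nhds (e q)) := by
    intro q hq
    refine tendsto_coeff (mI k σ) (hHp q) d ?_
    exact natDegree_le_of_supportDim_le (mI k σ) d _ (hone _) (Hp q) (hHp q)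
      (by rw [Module.supportDim_quotient_eq_ringKrullDim, hq])
  have hsd : Module.supportDim (MvPolynomial σ k) (MvPolynomial σ k ⧸ I) ≤ d := by
    rw [Module.supportDim_quotient_eq_ringKrullDim, hdimI]
  have hlim1 := tendsto_rhs (mI k σ) hone d e he (MvPolynomial σ k ⧸ I) hsd
  have hlim2 := tendsto_coeff (mI k σ) hH d (le_of_eq hHd)
  have hkey := tendsto_nhds_unique hlim2 hlim1
  -- compute the right hand side
  have hrhs : rhs d e (MvPolynomial σ k ⧸ I) = ∑ i : Fin r,
      if ringKrullDim (MvPolynomial σ k ⧸ p i) = d then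
        ((locLen (MvPolynomial σ k ⧸ I) ⟨p i, hp i⟩).toNat : ℝ) * e ⟨p i, hp i⟩ else 0 := by
    rw [rhs_eq]
    have hinj : Function.Injective (fun i : Fin r =>
        (⟨p i, hp i⟩ : PrimeSpectrum (MvPolynomial σ k))) := by
      intro i j hij
      exact hpinj (congrArg PrimeSpectrum.asIdeal hij)
    rw [finsum_eq_sum_of_support_subset (s := Finset.univ.image (fun i : Fin r =>
        (⟨p i, hp i⟩ : PrimeSpectrum (MvPolynomial σ k))))]
    · rw [Finset.sum_image (fun i _ j _ hij => hinj hij)]
    · intro q hq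
      rw [Function.mem_support] at hq
      have hqd : ringKrullDim (MvPolynomial σ k ⧸ q.asIdeal) = d := by
        by_contra hcon
        rw [if_neg hcon] at hq
        exact hq rfl
      rw [if_pos hqd] at hq
      have hloc : locLen (MvPolynomial σ k ⧸ I) q ≠ 0 := by
        intro h0
        rw [h0] at hq
        simp at hq
      have hsupp : q ∈ Module.support (MvPolynomial σ k) (MvPolynomial σ k ⧸ I) := by
        by_contra hcon
        exact hloc (locLen_eq_zero_iff.2 hcon)
      have hIq : I ≤ q.asIdeal := by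
        rw [Module.mem_support_iff_of_finite, Ideal.annihilator_quotient] at hsupp
        exact hsupp
      obtain ⟨p', hp'min, hp'q⟩ := Ideal.exists_minimalPrimes_le hIq
      obtain ⟨i, rfl⟩ := (hpmin p').1 hp'min
      have hsuppi : (⟨p i, hp i⟩ : PrimeSpectrum (MvPolynomial σ k)) ∈
          Module.support (MvPolynomial σ k) (MvPolynomial σ k ⧸ I) := by
        rw [Module.mem_support_iff_of_finite, Ideal.annihilator_quotient]
        exact hIp i
      have := eq_of_le_of_coheight_eq hsd hqd hsuppi hp'q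
      rw [Finset.coe_image, Finset.coe_univ, Set.image_univ]
      exact ⟨i, this⟩
  rw [hrhs] at hkey
  -- compare termwise
  have hterm : ∀ i : Fin r,
      ((if (Qp i).natDegree = P.natDegree then
        ((Qp i).natDegree.factorial : ℚ) * (Qp i).leadingCoeff *
          (locLen (MvPolynomial σ k ⧸ I) ⟨p i, hp i⟩).toNat
      else 0 : ℚ) : ℝ) =
      if ringKrullDim (MvPolynomial σ k ⧸ p i) = d then
        ((locLen (MvPolynomial σ k ⧸ I) ⟨p i, hp i⟩).toNat : ℝ) * e ⟨p i, hp i⟩ else 0 := by
    intro i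
    by_cases hdi : ringKrullDim (MvPolynomial σ k ⧸ p i) = d
    · rw [if_pos hdi]
      have hQ0 : Qp i ≠ 0 := by
        intro h0
        have := ringKrullDim_le_zero_of_isHilbPoly_zero (p i) (hph i) (h0 ▸ hQp i)
        rw [hdi] at this
        have h1 : d ≤ 0 := by exact_mod_cast this
        omega
      have hdi' := ringKrullDim_eq_of_isHilbPoly (p i) (hph i) (hQp i) hQ0
      rw [hdi] at hdi'
      have hdeg : (Qp i).natDegree + 1 = d := by exact_mod_cast hdi'.symm
      have hdeg' : (Qp i).natDegree = P.natDegree := by omega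
      rw [if_pos hdeg']
      have hf := factorial_mul_leadingCoeff (p i) (hph i) (hHp ⟨p i, hp i⟩) (hQp i) hQ0
      rw [hf, hdeg]
      simp only [e]
      push_cast
      ring
    · rw [if_neg hdi]
      by_cases hdeg' : (Qp i).natDegree = P.natDegree
      · rw [if_pos hdeg']
        have hQ0 : Qp i = 0 := by
          by_contra hQ0
          have hdi' := ringKrullDim_eq_of_isHilbPoly (p i) (hph i) (hQp i) hQ0
          apply hdi
          rw [hdi', hdeg']
        rw [hQ0]
        simp
      · rw [if_neg hdeg']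
        simp
  have hcast : (((∑ i : Fin r, if (Qp i).natDegree = P.natDegree then
        ((Qp i).natDegree.factorial : ℚ) * (Qp i).leadingCoeff *
          (locLen (MvPolynomial σ k ⧸ I) ⟨p i, hp i⟩).toNat
      else 0 : ℚ)) : ℝ) = ∑ i : Fin r,
      if ringKrullDim (MvPolynomial σ k ⧸ p i) = d then
        ((locLen (MvPolynomial σ k ⧸ I) ⟨p i, hp i⟩).toNat : ℝ) * e ⟨p i, hp i⟩ else 0 := by
    rw [Rat.cast_sum]
    exact Finset.sum_congr rfl (fun i _ => hterm i)
  have hfinal : ((((P.natDegree + 1).factorial : ℚ) * H.coeff (P.natDegree + 1) : ℚ) : ℝ) =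
      ((∑ i : Fin r, if (Qp i).natDegree = P.natDegree then
        ((Qp i).natDegree.factorial : ℚ) * (Qp i).leadingCoeff *
          (locLen (MvPolynomial σ k ⧸ I) ⟨p i, hp i⟩).toNat
      else 0 : ℚ) : ℝ) := by
    rw [hcast, ← hkey]
    push_cast
    rfl
  exact_mod_cast hfinal

end Groth.Agent.Lib.helper26.GrHS
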