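import Mathlib

/-!
# Sober spaces, projective spectra and topological Krull dimension (helper26)

* `topologicalKrullDim_eq_krullDim`: for a quasi-sober `T0` space whose partial order is the
  (reverse) specialization order (`x ≤ y ↔ x ⤳ y`), the topological Krull dimension is the Krull
  dimension of the poset.
* `ProjectiveSpectrum` is quasi-sober and `T0`, `x ≤ y ↔ x ⤳ y`.
* closed subsets, irreducible closed subsets, irreducible components of closed subsets of
  `ProjectiveSpectrum 𝒜` in terms of the poset.
-/

set_option autoImplicit false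
set_option linter.style.haveILetI false

namespace Groth.Agent.Lib.helper26.ProjDim

open TopologicalSpace Topology

section Generic

variable {T : Type*} [TopologicalSpace T] [PartialOrder T]

/-- the order isomorphism between irreducible closed subsets and points of a sober space ordered
by `x ≤ y ↔ x ⤳ y`. -/
noncomputable def ptEquiv (h : ∀ x y : T, x ≤ y ↔ x ⤳ y) [QuasiSober T] [T0Space T] :
    IrreducibleCloseds T ≃o Tᵒᵈ where
  toFun s := OrderDual.toDual s.2.genericPoint
  invFun x := ⟨closure ({OrderDual.ofDual x} : Set T), isIrreducible_singleton.closure,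
    isClosed_closure⟩
  left_inv s := by
    refine IrreducibleCloseds.ext ?_
    simp only [OrderDual.ofDual_toDual, IrreducibleCloseds.coe_mk]
    exact s.2.isGenericPoint_genericPoint s.3
  right_inv x := by
    apply OrderDual.ofDual.injective
    exact isIrreducible_singleton.closure.isGenericPoint_genericPoint_closure.eq
      (by simpa using isGenericPoint_closure)
  map_rel_iff' := by
    intro s t
    change t.2.genericPoint ≤ s.2.genericPoint ↔ s ≤ t
    rw [h]
    have hs := s.2.isGenericPoint_genericPoint s.3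
    have ht := t.2.isGenericPoint_genericPoint t.3
    constructor
    · intro hst
      change s.carrier ⊆ t.carrier
      rw [← hs.def]
      rw [IsGenericPoint.specializes_iff_mem ht] at hst
      exact t.3.closure_subset_iff.2 (Set.singleton_subset_iff.2 hst)
    · intro hst
      rw [IsGenericPoint.specializes_iff_mem ht]
      exact hst hs.mem

/-- topological Krull dimension of a sober space as the Krull dimension of its poset of points. -/
theorem topologicalKrullDim_eq_krullDim (h : ∀ x y : T, x ≤ y ↔ x ⤳ y) [QuasiSober T]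
    [T0Space T] : topologicalKrullDim T = Order.krullDim T := by
  unfold topologicalKrullDim
  rw [Order.krullDim_eq_of_orderIso (ptEquiv h), Order.krullDim_orderDual]

theorem closure_singleton_eq_Ici (h : ∀ x y : T, x ≤ y ↔ x ⤳ y) (x : T) :
    closure ({x} : Set T) = Set.Ici x := by
  ext y
  rw [← specializes_iff_mem_closure, ← h, Set.mem_Ici]

theorem mem_of_le_of_isClosed (h : ∀ x y : T, x ≤ y ↔ x ⤳ y) {W : Set T} (hW : IsClosed W)
    {x y : T} (hx : x ∈ W) (hxy : x ≤ y) : y ∈ W :=
  hW.stableUnderSpecialization ((h x y).1 hxy) hx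

/-- the order on a subspace is again the specialization order. -/
theorem subtype_le_iff_specializes (h : ∀ x y : T, x ≤ y ↔ x ⤳ y) (W : Set T) (x y : ↥W) :
    x ≤ y ↔ x ⤳ y := by
  rw [subtype_specializes_iff, ← h]
  rfl

/-- dimension of a closed subspace of a sober space. -/
theorem topologicalKrullDim_subtype (h : ∀ x y : T, x ≤ y ↔ x ⤳ y) [QuasiSober T] [T0Space T]
    (W : Set T) (hW : IsClosed W) : topologicalKrullDim ↥W = Order.krullDim ↥W := by
  haveI : QuasiSober ↥W := (IsClosedEmbedding.subtypeVal hW).quasiSober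
  exact topologicalKrullDim_eq_krullDim (subtype_le_iff_specializes h W)

/-- dimension of a closed subspace of a closed subspace of a sober space. -/
theorem topologicalKrullDim_subtype_subtype (h : ∀ x y : T, x ≤ y ↔ x ⤳ y) [QuasiSober T]
    [T0Space T] (W : Set T) (hW : IsClosed W) (C : Set ↥W) (hC : IsClosed C) :
    topologicalKrullDim ↥C = Order.krullDim ↥C := by
  haveI : QuasiSober ↥W := (IsClosedEmbedding.subtypeVal hW).quasiSober
  exact topologicalKrullDim_subtype (subtype_le_iff_specializes h W) C hC

/-- irreducible closed subsets of a sober space are the closures of points. -/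
theorem exists_eq_Ici (h : ∀ x y : T, x ≤ y ↔ x ⤳ y) [QuasiSober T] (X : Set T)
    (hX : IsIrreducible X) (hXc : IsClosed X) : ∃ p : T, X = Set.Ici p := by
  obtain ⟨p, hp⟩ := QuasiSober.sober hX hXc
  exact ⟨p, by rw [← closure_singleton_eq_Ici h, hp.def]⟩

theorem topologicalKrullDim_Ici (h : ∀ x y : T, x ≤ y ↔ x ⤳ y) [QuasiSober T] [T0Space T]
    (p : T) : topologicalKrullDim ↥(Set.Ici p) = Order.coheight p := by
  rw [topologicalKrullDim_subtype h _ (by rw [← closure_singleton_eq_Ici h]; exact isClosed_closure),
    Order.coheight_eq_krullDim_Ici]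

/-- the Krull dimension of a subset of a subset whose image is `Ici g`. -/
theorem krullDim_subtype_subtype_eq_coheight {P : Type*} [PartialOrder P] (W : Set P)
    (C : Set ↥W) (g : P) (hg : Subtype.val '' C = Set.Ici g) :
    Order.krullDim ↥C = Order.coheight g := by
  rw [Order.coheight_eq_krullDim_Ici]
  have hmem : ∀ x : ↥C, g ≤ x.1.1 := fun x => by
    have : x.1.1 ∈ Subtype.val '' C := ⟨x.1, x.2, rfl⟩
    rw [hg] at this
    exact this
  have hsurj : ∀ y : ↥(Set.Ici g), ∃ x : ↥C, x.1.1 = y.1 := fun y => by
    have : y.1 ∈ Subtype.val '' C := by rw [hg]; exact y.2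
    obtain ⟨x, hx, hxy⟩ := this
    exact ⟨⟨x, hx⟩, hxy⟩
  let e : ↥C ≃o ↥(Set.Ici g) :=
    { toFun := fun x => ⟨x.1.1, hmem x⟩
      invFun := fun y => (hsurj y).choose
      left_inv := fun x => by
        apply Subtype.ext
        apply Subtype.ext
        exact (hsurj ⟨x.1.1, hmem x⟩).choose_spec
      right_inv := fun y => by
        apply Subtype.ext
        exact (hsurj y).choose_spec
      map_rel_iff' := Iff.rfl }
  exact Order.krullDim_eq_of_orderIso e

/-- irreducible components of a closed subspace `W` of a sober space: they are the closures of the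
minimal points of `W`, and their dimension is the coheight of that point. -/
theorem exists_of_mem_irreducibleComponents (h : ∀ x y : T, x ≤ y ↔ x ⤳ y) [QuasiSober T]
    [T0Space T] (W : Set T) (hW : IsClosed W) (C : Set ↥W) (hC : C ∈ irreducibleComponents ↥W) :
    ∃ g : T, g ∈ W ∧ (∀ y ∈ W, y ≤ g → y = g) ∧ Subtype.val '' C = Set.Ici g ∧
      topologicalKrullDim ↥C = Order.coheight g := by
  haveI : QuasiSober ↥W := (IsClosedEmbedding.subtypeVal hW).quasiSober
  have hW' := subtype_le_iff_specializes h W
  have hCc : IsClosed C := isClosed_of_mem_irreducibleComponents C hC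
  have hCi : IsIrreducible C := hC.1
  obtain ⟨x, hx⟩ := exists_eq_Ici hW' C hCi hCc
  have himg : Subtype.val '' C = Set.Ici x.1 := by
    ext y
    constructor
    · rintro ⟨z, hz, rfl⟩
      rw [hx] at hz
      exact hz
    · intro hy
      have hyW : y ∈ W := mem_of_le_of_isClosed h hW x.2 hy
      refine ⟨⟨y, hyW⟩, ?_, rfl⟩
      rw [hx]
      exact hy
  refine ⟨x.1, x.2, ?_, himg, ?_⟩
  · intro y hyW hyx
    have h1 : C ≤ Set.Ici (⟨y, hyW⟩ : ↥W) := by
      rw [hx]
      intro z hz
      exact le_trans (show (⟨y, hyW⟩ : ↥W) ≤ x from hyx) hz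
    have h2 : IsIrreducible (Set.Ici (⟨y, hyW⟩ : ↥W)) := by
      rw [← closure_singleton_eq_Ici hW']
      exact isIrreducible_singleton.closure
    have h3 := hC.2 h2 h1
    have h4 : (⟨y, hyW⟩ : ↥W) ∈ C := h3 (Set.mem_Ici.2 le_rfl)
    rw [hx] at h4
    exact le_antisymm hyx h4
  · rw [topologicalKrullDim_subtype_subtype h W hW C hCc]
    exact krullDim_subtype_subtype_eq_coheight W C x.1 himg

/-- a closed subspace is nonempty of dimension zero iff it is nonempty and all its points are
maximal. -/
theorem topologicalKrullDim_subtype_eq_zero_iff (h : ∀ x y : T, x ≤ y ↔ x ⤳ y) [QuasiSober T]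
    [T0Space T] (W : Set T) (hW : IsClosed W) :
    topologicalKrullDim ↥W = 0 ↔ W.Nonempty ∧ ∀ w ∈ W, IsMax w := by
  rw [topologicalKrullDim_subtype h W hW]
  constructor
  · intro h0
    have hne : Nonempty ↥W := by
      rw [← Order.krullDim_nonneg_iff, h0]
    refine ⟨Set.nonempty_coe_sort.1 hne, ?_⟩
    have hmax := Order.krullDim_nonpos_iff_forall_isMax.1 (le_of_eq h0)
    intro w hw y hwy
    have hyW : y ∈ W := mem_of_le_of_isClosed h hW hw hwy
    exact hmax ⟨w, hw⟩ (b := ⟨y, hyW⟩) hwy
  · rintro ⟨hne, hmax⟩
    apply le_antisymm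
    · rw [Order.krullDim_nonpos_iff_forall_isMax]
      intro w y hwy
      exact hmax w.1 w.2 hwy
    · haveI : Nonempty ↥W := Set.nonempty_coe_sort.2 hne
      exact Order.krullDim_nonneg

end Generic

section Proj

variable {A σ : Type*} [CommRing A] [SetLike σ A] [AddSubmonoidClass σ A] (𝒜 : ℕ → σ)
  [GradedRing 𝒜]

theorem le_iff_specializes (x y : ProjectiveSpectrum 𝒜) : x ≤ y ↔ x ⤳ y := by
  rw [ProjectiveSpectrum.le_iff_mem_closure, specializes_iff_mem_closure]

theorem closure_singleton (x : ProjectiveSpectrum 𝒜) :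
    closure ({x} : Set (ProjectiveSpectrum 𝒜)) = Set.Ici x := by
  ext y
  rw [← ProjectiveSpectrum.le_iff_mem_closure, Set.mem_Ici]

instance instT0 : T0Space (ProjectiveSpectrum 𝒜) :=
  ⟨fun x y h => le_antisymm ((le_iff_specializes 𝒜 x y).2 h.specializes)
    ((le_iff_specializes 𝒜 y x).2 h.specializes')⟩

/-- an irreducible closed subset of a projective spectrum has a generic point. -/
theorem exists_eq_Ici_of_isIrreducible (S : Set (ProjectiveSpectrum 𝒜)) (hS : IsIrreducible S)
    (hSc : IsClosed S) : ∃ p : ProjectiveSpectrum 𝒜, S = Set.Ici p := by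
  classical
  set I := ProjectiveSpectrum.vanishingIdeal S with hI
  have hSI : S = ProjectiveSpectrum.zeroLocus 𝒜 (I : Set A) := by
    rw [hI, ProjectiveSpectrum.zeroLocus_vanishingIdeal_eq_closure, hSc.closure_eq]
  obtain ⟨q, hq⟩ := hS.nonempty
  have hIq : I ≤ q.asHomogeneousIdeal := by
    intro a ha
    rw [hI, ProjectiveSpectrum.mem_vanishingIdeal] at ha
    exact ha q hq
  have hprime : I.toIdeal.IsPrime := by
    refine Ideal.IsHomogeneous.isPrime_of_homogeneous_mem_or_mem I.isHomogeneous ?_ ?_
    · intro htop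
      exact q.isPrime.ne_top (top_le_iff.1 (htop ▸ hIq))
    · intro x y _ _ hxy
      have h1 : S ⊆ ProjectiveSpectrum.zeroLocus 𝒜 {x} ∪ ProjectiveSpectrum.zeroLocus 𝒜 {y} := by
        rw [← ProjectiveSpectrum.zeroLocus_singleton_mul]
        rw [ProjectiveSpectrum.subset_zeroLocus_iff_subset_vanishingIdeal]
        intro z hz
        rw [Set.mem_singleton_iff] at hz
        rw [hz]
        exact hxy
      rcases (isPreirreducible_iff_isClosed_union_isClosed.1 hS.isPreirreducible) _ _
        (ProjectiveSpectrum.isClosed_zeroLocus 𝒜 _) (ProjectiveSpectrum.isClosed_zeroLocus 𝒜 _) h1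
        with h | h
      · left
        rw [ProjectiveSpectrum.subset_zeroLocus_iff_subset_vanishingIdeal] at h
        exact h (Set.mem_singleton x)
      · right
        rw [ProjectiveSpectrum.subset_zeroLocus_iff_subset_vanishingIdeal] at h
        exact h (Set.mem_singleton y)
  have hirr : ¬ HomogeneousIdeal.irrelevant 𝒜 ≤ I := fun h => q.not_irrelevant_le (h.trans hIq)
  refine ⟨⟨I, hprime, hirr⟩, ?_⟩
  rw [hSI]
  ext y
  rw [ProjectiveSpectrum.mem_zeroLocus, Set.mem_Ici, ← ProjectiveSpectrum.as_ideal_le_as_ideal]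
  rfl

instance instQuasiSober : QuasiSober (ProjectiveSpectrum 𝒜) where
  sober := by
    intro S hS hSc
    obtain ⟨p, hp⟩ := exists_eq_Ici_of_isIrreducible 𝒜 S hS hSc
    exact ⟨p, by rw [isGenericPoint_def, closure_singleton, hp]⟩

end Proj

end Groth.Agent.Lib.helper26.ProjDim
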