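import Mathlib
import Groth.Agent.Lib.Helper26.AffEquidim

/-!
# Heights in finite type domains over a field (helper26)

* `height_eq_height_add_height_map`: `ht q = ht p + ht (q/p)` for primes `p ≤ q` of a finite type
  domain over a field.
* `height_le_height_add_ncard`: if `q` is a minimal prime over `p + (s)`, `p` prime, then
  `ht q ≤ ht p + |s|`.
-/

set_option autoImplicit false
set_option linter.style.haveILetI false
universe u

namespace Groth.Agent.Lib.helper26.ProjDim

open Groth.Agent.Lib.helper26.DimFormula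

section AffDom

variable (k S : Type u) [Field k] [CommRing S] [IsDomain S] [Algebra k S] [Algebra.FiniteType k S]

include k in
/-- `ht q = ht p + ht (q/p)` in a finite type domain over a field. -/
theorem height_eq_height_add_height_map (p q : Ideal S) [p.IsPrime] [q.IsPrime] (hpq : p ≤ q) :
    q.height = p.height + (q.map (Ideal.Quotient.mk p)).height := by
  have hIN : IsNoetherianRing S := Algebra.FiniteType.isNoetherianRing k S
  let q0 : Ideal (S ⧸ p) := q.map (Ideal.Quotient.mk p)
  have hq0 : q0.IsPrime :=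
    Ideal.map_isPrime_of_surjective Ideal.Quotient.mk_surjective (by rw [Ideal.mk_ker]; exact hpq)
  obtain ⟨N, -, hN⟩ := exists_nat_trdeg_eq_ringKrullDim k S
  obtain ⟨Np, -, hNp⟩ := exists_nat_trdeg_eq_ringKrullDim k (S ⧸ p)
  obtain ⟨Nq, -, hNq⟩ := exists_nat_trdeg_eq_ringKrullDim k (S ⧸ q)
  have h1 := height_add_dim_quotient_of_domain k S p
  have h2 := height_add_dim_quotient_of_domain k S q
  have h3 := height_add_dim_quotient_of_domain k (S ⧸ p) q0
  have h4 : ringKrullDim ((S ⧸ p) ⧸ q0) = ringKrullDim (S ⧸ q) :=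
    ringKrullDim_eq_of_ringEquiv (DoubleQuot.quotQuotEquivQuotOfLE hpq)
  rw [h4] at h3
  obtain ⟨a, ha⟩ := ENat.ne_top_iff_exists.mp (Ideal.height_ne_top_of_isPrime (I := p))
  obtain ⟨b, hb⟩ := ENat.ne_top_iff_exists.mp (Ideal.height_ne_top_of_isPrime (I := q))
  obtain ⟨c, hc⟩ := ENat.ne_top_iff_exists.mp (Ideal.height_ne_top_of_isPrime (I := q0))
  rw [hN, hNp, ← ha] at h1
  rw [hN, hNq, ← hb] at h2
  rw [hNp, hNq, ← hc] at h3
  change q.height = p.height + q0.height
  rw [← ha, ← hb, ← hc]
  have e1 : a + Np = N := by exact_mod_cast h1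
  have e2 : b + Nq = N := by exact_mod_cast h2
  have e3 : c + Nq = Np := by exact_mod_cast h3
  have : b = a + c := by omega
  rw [this]
  rfl

include k in
/-- Krull's height theorem relative to a prime `p`. -/
theorem height_le_height_add_ncard (p q : Ideal S) [p.IsPrime] (s : Set S) (hs : s.Finite)
    (hq : q ∈ (p ⊔ Ideal.span s).minimalPrimes) : q.height ≤ p.height + s.ncard := by
  have hIN : IsNoetherianRing S := Algebra.FiniteType.isNoetherianRing k S
  haveI : q.IsPrime := hq.1.1
  have hpq : p ≤ q := le_sup_left.trans hq.1.2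
  rw [height_eq_height_add_height_map k S p q hpq]
  gcongr
  have h1 : q.map (Ideal.Quotient.mk p) ∈
      ((Ideal.span s).map (Ideal.Quotient.mk p)).minimalPrimes := by
    rw [Ideal.minimalPrimes_map_of_surjective Ideal.Quotient.mk_surjective, Ideal.mk_ker]
    exact ⟨q, by rwa [sup_comm], rfl⟩
  rw [Ideal.map_span] at h1
  refine le_trans (Ideal.height_le_card_of_mem_minimalPrimes_span (hs.image _) h1) ?_
  exact_mod_cast Set.ncard_image_le hs

end AffDom

end Groth.Agent.Lib.helper26.ProjDim
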