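import Mathlib
import Groth.Prelude.Def_CAlg
import Groth.Agent.Lib.Helper19.GrTwist1
import Groth.Agent.Lib.Helper17.GorRing
import Groth.Agent.Lib.Helper19.Gor1

/-!
# From the localization at the irrelevant ideal to the whole graded ring (helper26)

`R` a Noetherian `ℤ`-graded ring and `𝔪` a maximal ideal such that the degree zero component of
every element outside `𝔪` is a unit (e.g. `R` positively graded with `R_0` a field, `𝔪 = R_+`).
If `R_𝔪` is a Gorenstein local ring then `R` is a Gorenstein ring.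

The proof uses the flat ring map `Φ : R → R_𝔪[t, t⁻¹]`, `x ↦ Σ x_g t^g`: the target is Gorenstein,
and every prime `p` of `R` is the contraction of a prime of the target, namely of the kernel of
`R_𝔪[t, t⁻¹] → Frac((R/p)[t, t⁻¹])`, `x/1 ↦ Σ x̄_g t^{-g}`, `t ↦ t`.
-/

set_option autoImplicit false
set_option linter.unusedSectionVars false
set_option linter.dupNamespace false
universe u

namespace Groth.Agent.Lib.helper26.GorS

open Groth.Agent.Lib.helper19.GrTwist LocCoh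

open scoped AlgebraMonoidAlgebra

section G1

variable {R : Type u} [CommRing R] (𝒜 : ℤ → AddSubgroup R) [GradedRing 𝒜]

/-- the coaction `R → R[ℤ]` is flat -/
theorem coact_flat : (coact 𝒜 (AddMonoidHom.id ℤ)).Flat := by
  have h1 : coact 𝒜 (AddMonoidHom.id ℤ) =
      (twistEquiv 𝒜).toRingHom.comp (algebraMap R (AddMonoidAlgebra R ℤ)) := by
    refine RingHom.ext fun a => ?_
    rw [RingHom.comp_apply]
    show _ = twistEquiv 𝒜 _
    rw [twistEquiv_apply, algebraMap_eq_single, twist_single_zero]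
  rw [h1]
  refine RingHom.Flat.comp ?_ (RingHom.Flat.of_bijective (twistEquiv 𝒜).bijective)
  rw [RingHom.flat_algebraMap_iff]
  infer_instance

variable (L : Type u) [CommRing L] [Algebra R L] [Module.Flat R L]

theorem mapRingHom_flat : (AddMonoidAlgebra.mapRingHom ℤ (algebraMap R L)).Flat := by
  have hp : Algebra.IsPushout R (AddMonoidAlgebra R ℤ) L (AddMonoidAlgebra L ℤ) := inferInstance
  exact Module.Flat.isBaseChange R (AddMonoidAlgebra R ℤ) L (AddMonoidAlgebra L ℤ) hp.out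

/-- the map `R → L[ℤ]`, `x ↦ Σ x_g t^g` -/
noncomputable def bigPhi : R →+* AddMonoidAlgebra L ℤ :=
  (AddMonoidAlgebra.mapRingHom ℤ (algebraMap R L)).comp (coact 𝒜 (AddMonoidHom.id ℤ))

theorem bigPhi_flat : (bigPhi 𝒜 L).Flat :=
  RingHom.Flat.comp (coact_flat 𝒜) (mapRingHom_flat L)

theorem bigPhi_of_mem {i : ℤ} {a : R} (ha : a ∈ 𝒜 i) :
    bigPhi 𝒜 L a = AddMonoidAlgebra.single i (algebraMap R L a) := by
  unfold bigPhi
  rw [RingHom.comp_apply, coact_of_mem 𝒜 _ ha, AddMonoidAlgebra.mapRingHom_single]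
  rfl

end G1

section Theta

variable {R : Type u} [CommRing R] (𝒜 : ℤ → AddSubgroup R) [GradedRing 𝒜]
  (𝔪 : Ideal R) [h𝔪 : 𝔪.IsMaximal]
  (hU : ∀ s : R, s ∉ 𝔪 → IsUnit ((DirectSum.decompose 𝒜 s 0 : 𝒜 0) : R))
  (p : Ideal R) [hp : p.IsPrime]

/-- `R → (R/p)[ℤ]`, `x ↦ Σ x̄_g t^{-g}` -/
noncomputable def gZero : R →+* AddMonoidAlgebra (R ⧸ p) ℤ :=
  (AddMonoidAlgebra.mapRingHom ℤ (Ideal.Quotient.mk p)).comp (coact 𝒜 (-AddMonoidHom.id ℤ))

theorem gZero_of_mem {i : ℤ} {a : R} (ha : a ∈ 𝒜 i) :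
    gZero 𝒜 p a = AddMonoidAlgebra.single (-i) (Ideal.Quotient.mk p a) := by
  unfold gZero
  rw [RingHom.comp_apply, coact_of_mem 𝒜 _ ha, AddMonoidAlgebra.mapRingHom_single]
  rfl

theorem coeff_gZero (s : R) :
    (gZero 𝒜 p s).coeff 0 = Ideal.Quotient.mk p ((DirectSum.decompose 𝒜 s 0 : 𝒜 0) : R) := by
  unfold gZero
  rw [RingHom.comp_apply, AddMonoidAlgebra.coeff_mapRingHom]
  have h := coeff_coact 𝒜 (-AddMonoidHom.id ℤ) (neg_injective.comp fun _ _ h => h) s 0
  rw [map_zero] at h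
  rw [h]

include hU in
theorem gZero_ne_zero {s : R} (hs : s ∉ 𝔪) : gZero 𝒜 p s ≠ 0 := by
  intro h
  have h1 := coeff_gZero 𝒜 p s
  rw [h] at h1
  have h2 : IsUnit (Ideal.Quotient.mk p ((DirectSum.decompose 𝒜 s 0 : 𝒜 0) : R)) :=
    (hU s hs).map _
  rw [← h1] at h2
  exact not_isUnit_zero h2

/-- `R_𝔪 → Frac((R/p)[ℤ])` -/
noncomputable def thetaL : Localization.AtPrime 𝔪 →+* FractionRing (AddMonoidAlgebra (R ⧸ p) ℤ) :=
  IsLocalization.lift (M := 𝔪.primeCompl)
    (g := (algebraMap (AddMonoidAlgebra (R ⧸ p) ℤ)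
      (FractionRing (AddMonoidAlgebra (R ⧸ p) ℤ))).comp (gZero 𝒜 p))
    (fun s => by
      rw [RingHom.comp_apply]
      apply IsUnit.mk0
      rw [Ne, map_eq_zero_iff _ (IsFractionRing.injective _ _)]
      exact gZero_ne_zero 𝒜 𝔪 hU p s.2)

theorem thetaL_algebraMap (r : R) :
    thetaL 𝒜 𝔪 hU p (algebraMap R (Localization.AtPrime 𝔪) r) =
      algebraMap (AddMonoidAlgebra (R ⧸ p) ℤ) (FractionRing (AddMonoidAlgebra (R ⧸ p) ℤ))
        (gZero 𝒜 p r) :=
  IsLocalization.lift_eq _ r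

/-- `R_𝔪[ℤ] → Frac((R/p)[ℤ])` -/
noncomputable def theta :
    AddMonoidAlgebra (Localization.AtPrime 𝔪) ℤ →+* FractionRing (AddMonoidAlgebra (R ⧸ p) ℤ) :=
  AddMonoidAlgebra.liftNCRingHom (thetaL 𝒜 𝔪 hU p)
    ((algebraMap (AddMonoidAlgebra (R ⧸ p) ℤ)
      (FractionRing (AddMonoidAlgebra (R ⧸ p) ℤ)) : _ →* _).comp
      (AddMonoidAlgebra.of (R ⧸ p) ℤ)) (fun _ _ => Commute.all _ _)

theorem theta_single (i : ℤ) (l : Localization.AtPrime 𝔪) :
    theta 𝒜 𝔪 hU p (AddMonoidAlgebra.single i l) = thetaL 𝒜 𝔪 hU p l *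
      algebraMap (AddMonoidAlgebra (R ⧸ p) ℤ) (FractionRing (AddMonoidAlgebra (R ⧸ p) ℤ))
        (AddMonoidAlgebra.single i 1) := by
  unfold theta
  rw [AddMonoidAlgebra.liftNCRingHom_single]
  rfl


theorem theta_bigPhi (r : R) :
    theta 𝒜 𝔪 hU p (bigPhi 𝒜 (Localization.AtPrime 𝔪) r) =
      algebraMap (AddMonoidAlgebra (R ⧸ p) ℤ) (FractionRing (AddMonoidAlgebra (R ⧸ p) ℤ))
        (AddMonoidAlgebra.single 0 (Ideal.Quotient.mk p r)) := by
  have h : (theta 𝒜 𝔪 hU p).comp (bigPhi 𝒜 (Localization.AtPrime 𝔪)) =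
      (algebraMap (AddMonoidAlgebra (R ⧸ p) ℤ) (FractionRing (AddMonoidAlgebra (R ⧸ p) ℤ))).comp
        (AddMonoidAlgebra.singleZeroRingHom.comp (Ideal.Quotient.mk p)) := by
    apply ringHom_ext_of_homogeneous 𝒜
    intro i a ha
    rw [RingHom.comp_apply, bigPhi_of_mem 𝒜 _ ha, theta_single, thetaL_algebraMap,
      gZero_of_mem 𝒜 p ha, ← map_mul, AddMonoidAlgebra.single_mul_single, mul_one, neg_add_cancel]
    rfl
  exact RingHom.congr_fun h r

theorem comap_ker_theta :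
    (RingHom.ker (theta 𝒜 𝔪 hU p)).comap (bigPhi 𝒜 (Localization.AtPrime 𝔪)) = p := by
  ext x
  rw [Ideal.mem_comap, RingHom.mem_ker, theta_bigPhi,
    map_eq_zero_iff _ (IsFractionRing.injective _ _)]
  constructor
  · intro h
    have h1 := congrArg (fun f => AddMonoidAlgebra.coeff f 0) h
    simp only [AddMonoidAlgebra.coeff_single, Finsupp.single_eq_same] at h1
    exact Ideal.Quotient.eq_zero_iff_mem.mp h1
  · intro h
    rw [Ideal.Quotient.eq_zero_iff_mem.mpr h, AddMonoidAlgebra.single_zero]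

end Theta

section Main

variable {R : Type u} [CommRing R] [IsNoetherianRing R] (𝒜 : ℤ → AddSubgroup R) [GradedRing 𝒜]
  (𝔪 : Ideal R) [h𝔪 : 𝔪.IsMaximal]
  (hU : ∀ s : R, s ∉ 𝔪 → IsUnit ((DirectSum.decompose 𝒜 s 0 : 𝒜 0) : R))

/-- Laurent polynomial rings over Gorenstein rings are Gorenstein -/
theorem isGorensteinRing_laurent (L : Type u) [CommRing L] [IsGorensteinRing L] :
    IsGorensteinRing (AddMonoidAlgebra L ℤ) := by
  have h1 := Groth.Agent.Lib.helper17.GorRing.isGorensteinRing_polynomial L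
  have h2 : IsLocalization (Submonoid.powers (Polynomial.X : Polynomial L))
      (LaurentPolynomial L) := LaurentPolynomial.isLocalization
  exact Groth.Agent.Lib.helper17.GorRing.isGorensteinRing_of_isLocalization
    (A := Polynomial L) (B := LaurentPolynomial L) (Submonoid.powers Polynomial.X)

/-- a copy of `R_𝔪[t, t⁻¹]`, to be made an `R`-algebra through `Φ` -/
def LaurentAt (𝔪 : Ideal R) [𝔪.IsMaximal] : Type u := AddMonoidAlgebra (Localization.AtPrime 𝔪) ℤ

noncomputable instance : CommRing (LaurentAt 𝔪) :=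
  inferInstanceAs (CommRing (AddMonoidAlgebra (Localization.AtPrime 𝔪) ℤ))

@[reducible] noncomputable def laurentAlgebra : Algebra R (LaurentAt 𝔪) :=
  (bigPhi 𝒜 (Localization.AtPrime 𝔪)).toAlgebra

include hU in
/-- **graded → global**: if `R_𝔪` is Gorenstein then `R` is a Gorenstein ring -/
theorem isGorensteinRing_of_localization
    (hG : IsGorensteinLocalRing (Localization.AtPrime 𝔪)) : IsGorensteinRing R := by
  have hL : IsGorensteinRing (Localization.AtPrime 𝔪) :=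
    { isGorensteinLocalRing_localization := fun P _ =>
        Groth.Agent.Lib.helper19.Gor.gor_localization (Localization.AtPrime 𝔪) P }
  have hS : IsGorensteinRing (LaurentAt 𝔪) := isGorensteinRing_laurent (Localization.AtPrime 𝔪)
  refine { isGorensteinLocalRing_localization := fun p hp => ?_ }
  let _ : Algebra R (LaurentAt 𝔪) := laurentAlgebra 𝒜 𝔪
  have hflat : Module.Flat R (LaurentAt 𝔪) := bigPhi_flat 𝒜 (Localization.AtPrime 𝔪)
  let Q : Ideal (LaurentAt 𝔪) := RingHom.ker (theta 𝒜 𝔪 hU p)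
  have hQ : Q.IsPrime := RingHom.ker_isPrime _
  have hlies : Q.LiesOver p := ⟨(comap_ker_theta 𝒜 𝔪 hU p).symm⟩
  have h1 := hS.isGorensteinLocalRing_localization Q
  exact ((Groth.Agent.Lib.helper17.GorRing.gor_atPrime_iff R (LaurentAt 𝔪) p Q).mp h1).1

end Main

end Groth.Agent.Lib.helper26.GorS
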