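import Mathlib
import Groth.Prelude.Def_CAlg
import Groth.Agent.Lib.Helper26.GorS4
import Groth.Agent.Lib.Helper26.Unmixed
import Groth.Agent.Lib.Helper26.CMPoly2
import Groth.Agent.Lib.Helper17.FieldCM
import Groth.Agent.Lib.Helper24.FlatDepth5

/-!
# Graded → global for Cohen–Macaulay rings (helper26)

`R` a Noetherian `ℤ`-graded ring and `𝔪` a maximal ideal such that the degree zero component of
every element outside `𝔪` is a unit.  If `R_𝔪` is a Cohen–Macaulay local ring then `R` is a
Cohen–Macaulay ring.  (The Gorenstein analogue is `GorS.isGorensteinRing_of_localization`.)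
-/

set_option autoImplicit false
set_option linter.unusedSectionVars false
set_option linter.dupNamespace false
universe u

namespace Groth.Agent.Lib.helper26.ExtRees

open Groth.Agent.Lib.helper19.GrTwist LocCoh Groth.Agent.Lib.helper26.GorS

open scoped AlgebraMonoidAlgebra

section Main

variable {R : Type u} [CommRing R] [IsNoetherianRing R] (𝒜 : ℤ → AddSubgroup R) [GradedRing 𝒜]
  (𝔪 : Ideal R) [h𝔪 : 𝔪.IsMaximal]
  (hU : ∀ s : R, s ∉ 𝔪 → IsUnit ((DirectSum.decompose 𝒜 s 0 : 𝒜 0) : R))

/-- Laurent polynomial rings over Cohen–Macaulay rings are Cohen–Macaulay -/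
theorem isCohenMacaulayRing_laurent (L : Type u) [CommRing L] [IsCohenMacaulayRing L] :
    IsCohenMacaulayRing (AddMonoidAlgebra L ℤ) := by
  have h1 := Groth.Agent.Lib.helper26.CMPoly.isCohenMacaulayRing_polynomial L
  have h2 : IsLocalization (Submonoid.powers (Polynomial.X : Polynomial L))
      (LaurentPolynomial L) := LaurentPolynomial.isLocalization
  exact Groth.Agent.Lib.helper17.FieldCM.isCohenMacaulayRing_of_isLocalization
    (A := Polynomial L) (B := LaurentPolynomial L) (Submonoid.powers Polynomial.X)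

include hU in
/-- **graded → global**: if `R_𝔪` is Cohen–Macaulay then `R` is a Cohen–Macaulay ring -/
theorem isCohenMacaulayRing_of_localization
    (hG : IsCohenMacaulayLocalRing (Localization.AtPrime 𝔪)) : IsCohenMacaulayRing R := by
  have hL : IsCohenMacaulayRing (Localization.AtPrime 𝔪) :=
    Groth.Agent.Lib.helper26.Unmixed.isCohenMacaulayRing_of_local (Localization.AtPrime 𝔪)
  have hS : IsCohenMacaulayRing (LaurentAt 𝔪) := isCohenMacaulayRing_laurent (Localization.AtPrime 𝔪)
  refine { isCohenMacaulayLocalRing_localization := fun p hp => ?_ }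
  let _ : Algebra R (LaurentAt 𝔪) := laurentAlgebra 𝒜 𝔪
  have hflat : Module.Flat R (LaurentAt 𝔪) := bigPhi_flat 𝒜 (Localization.AtPrime 𝔪)
  let Q : Ideal (LaurentAt 𝔪) := RingHom.ker (theta 𝒜 𝔪 hU p)
  have hQ : Q.IsPrime := RingHom.ker_isPrime _
  have hlies : Q.LiesOver p := ⟨(comap_ker_theta 𝒜 𝔪 hU p).symm⟩
  have h1 := hS.isCohenMacaulayLocalRing_localization Q
  have hN : IsNoetherianRing (LaurentAt 𝔪) := inferInstance
  exact ((Groth.Agent.Lib.Helper24.FlatDepth.cm_atPrime_iff R (LaurentAt 𝔪) p Q).mp h1).1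

end Main

end Groth.Agent.Lib.helper26.ExtRees
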