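import Mathlib
import Groth.Prelude.Def_CAlg
import Groth.Agent.S9808
import Groth.Agent.Lib.Helper17.GorRing
import Groth.Agent.Lib.Helper17.GorFlat
import Groth.Agent.Lib.Helper17.GorIso
import Groth.Agent.Lib.Helper24.HypersurfaceCM

/-!
# Quotients by a regular element: Gorenstein and Cohen–Macaulay (helper26)

* `cm_quot_iff`: a Noetherian local ring `B` is Cohen–Macaulay iff `B/(g)` is, for `g` a regular
  element of the maximal ideal.
* `locQuot`: for a surjection `φ : A → S` with kernel `(x)` and a prime `q` of `S` with contraction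
  `p`, `S_q ≃ A_p/(x)`.
* `gorLocal_quot_iff`, `cmLocal_quot_iff`: for `x` regular on `A`, the local ring `S_q` is
  Gorenstein (Cohen–Macaulay) iff `A_p` is.
* `isGorensteinRing_of_surjective`, `isCohenMacaulayRing_of_surjective`: the quotient of a
  Gorenstein (Cohen–Macaulay) ring by a regular element is Gorenstein (Cohen–Macaulay).
-/

set_option autoImplicit false
set_option linter.unusedSectionVars false
set_option linter.style.haveILetI false
universe u

open IsLocalRing LocCoh

namespace Groth.Agent.Lib.helper26.ExtRees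

open Groth.Agent.Lib.helper17.GorIso Groth.Agent.Lib.helper26.Depth
  Groth.Agent.Lib.Helper24.FlatDepth Groth.Agent.Lib.Helper24.HypersurfaceCM

/-- `B` is Cohen–Macaulay iff `B/(g)` is, for `g` a regular element of the maximal ideal. -/
theorem cm_quot_iff (B : Type u) [CommRing B] [IsNoetherianRing B] [IsLocalRing B] (g : B)
    (hg : g ∈ maximalIdeal B) (hreg : IsSMulRegular B g) :
    IsCohenMacaulayLocalRing B ↔ IsCohenMacaulayLocalRing (B ⧸ Ideal.span {g}) := by
  haveI : IsLocalRing (B ⧸ Ideal.span {g}) :=
    Groth.Agent.Lib.helper26.SerreConv.isLocalRing_quot g hg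
  have hdim := ringKrullDim_quotient_span_singleton_succ_eq_ringKrullDim hreg hg
  have hdep := idealDepth_quotSMulTop_add_one (maximalIdeal B) B g hg hreg
  rw [idealDepth_congr (quotSMulTopEquiv B g), idealDepth_quotient_eq] at hdep
  obtain ⟨d1, hd1⟩ := Groth.Agent.Lib.Helper24.CatEquidim.exists_nat_eq_ringKrullDim
    (B ⧸ Ideal.span {g})
  obtain ⟨e1, he1⟩ := ENat.ne_top_iff_exists.mp
    (depth_ne_top (A := B ⧸ Ideal.span {g}) (B ⧸ Ideal.span {g}))
  obtain ⟨d0, hd0⟩ := Groth.Agent.Lib.Helper24.CatEquidim.exists_nat_eq_ringKrullDim B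
  obtain ⟨e0, he0⟩ := ENat.ne_top_iff_exists.mp (depth_ne_top (A := B) B)
  change _ + 1 = depth B B at hdep
  rw [← he1, ← he0] at hdep
  rw [hd1, hd0] at hdim
  have g1 : d1 + 1 = d0 := by exact_mod_cast hdim
  have g2 : e1 + 1 = e0 := by exact_mod_cast hdep
  constructor
  · intro hB
    have hcm := hB.supportDim_eq_depth
    rw [Module.supportDim_self_eq_ringKrullDim, ← he0, hd0] at hcm
    refine { supportDim_eq_depth := ?_ }
    rw [Module.supportDim_self_eq_ringKrullDim, ← he1, hd1]
    have g3 : d0 = e0 := by exact_mod_cast hcm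
    have : d1 = e1 := by omega
    exact_mod_cast this
  · intro hB
    have hcm := hB.supportDim_eq_depth
    rw [Module.supportDim_self_eq_ringKrullDim, ← he1, hd1] at hcm
    refine { supportDim_eq_depth := ?_ }
    rw [Module.supportDim_self_eq_ringKrullDim, ← he0, hd0]
    have g3 : d1 = e1 := by exact_mod_cast hcm
    have : d0 = e0 := by omega
    exact_mod_cast this

section Quot

variable {A S : Type u} [CommRing A] [CommRing S] (φ : A →+* S) (hφ : Function.Surjective φ)
  (x : A) (hker : RingHom.ker φ = Ideal.span {x})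
  (p : Ideal A) [hp : p.IsPrime] (q : Ideal S) [hq : q.IsPrime] (hpq : q.comap φ = p)

include hker hpq in
theorem mem_of_ker : x ∈ p := by
  rw [← hpq, Ideal.mem_comap]
  have : x ∈ RingHom.ker φ := by rw [hker]; exact Ideal.mem_span_singleton_self x
  rw [RingHom.mem_ker] at this
  rw [this]; exact zero_mem _

include hφ hker hpq in
/-- `S_q ≃ A_p/(x)` -/
theorem nonempty_locQuot :
    Nonempty (Localization.AtPrime q ≃+*
      (Localization.AtPrime p ⧸ Ideal.span {algebraMap A (Localization.AtPrime p) x})) := by
  let Ap := Localization.AtPrime p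
  let x' : Ap := algebraMap A Ap x
  let g0 : A →+* Ap ⧸ Ideal.span {x'} := (Ideal.Quotient.mk _).comp (algebraMap A Ap)
  have hg0 : RingHom.ker φ ≤ RingHom.ker g0 := by
    rw [hker, Ideal.span_le, Set.singleton_subset_iff, SetLike.mem_coe, RingHom.mem_ker]
    show Ideal.Quotient.mk _ x' = 0
    rw [Ideal.Quotient.eq_zero_iff_mem]
    exact Ideal.mem_span_singleton_self x'
  let ψ : S →+* Ap ⧸ Ideal.span {x'} := RingHom.liftOfSurjective φ hφ ⟨g0, hg0⟩
  have hψ : ψ.comp φ = g0 := RingHom.liftOfRightInverse_comp φ _ _ ⟨g0, hg0⟩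
  letI : Algebra S (Ap ⧸ Ideal.span {x'}) := ψ.toAlgebra
  have hloc : IsLocalization (p.primeCompl.map φ) (Ap ⧸ Ideal.span {x'}) := by
    refine IsLocalization.of_surjective p.primeCompl Ap φ hφ (Ideal.Quotient.mk (Ideal.span {x'}))
      Ideal.Quotient.mk_surjective ?_ ?_
    · exact hψ.symm
    · rw [Ideal.mk_ker, hker, Ideal.map_span, Set.image_singleton]
  have hM : p.primeCompl.map φ = q.primeCompl := by
    ext s
    constructor
    · rintro ⟨a, ha, rfl⟩
      intro hmem
      apply ha
      rw [← hpq]
      exact hmem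
    · intro hs
      obtain ⟨a, rfl⟩ := hφ s
      refine ⟨a, ?_, rfl⟩
      intro hmem
      apply hs
      rw [← hpq] at hmem
      exact hmem
  haveI hloc' : IsLocalization q.primeCompl (Ap ⧸ Ideal.span {x'}) := by
    rwa [hM] at hloc
  have e : Localization.AtPrime q ≃ₐ[S] (Ap ⧸ Ideal.span {x'}) :=
    IsLocalization.algEquiv q.primeCompl _ _
  exact ⟨e.toRingEquiv⟩

variable [IsNoetherianRing A] (hreg : IsSMulRegular A x)

include hker hpq in
theorem map_mem_maximalIdeal :
    algebraMap A (Localization.AtPrime p) x ∈ maximalIdeal (Localization.AtPrime p) := by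
  rw [← Localization.AtPrime.map_eq_maximalIdeal]
  exact Ideal.mem_map_of_mem _ (mem_of_ker φ x hker p q hpq)

include hreg in
theorem map_isSMulRegular :
    IsSMulRegular (Localization.AtPrime p) (algebraMap A (Localization.AtPrime p) x) :=
  IsSMulRegular.of_flat hreg

include hφ hker hpq hreg in
theorem gorLocal_quot_iff :
    IsGorensteinLocalRing (Localization.AtPrime p) ↔
      IsGorensteinLocalRing (Localization.AtPrime q) := by
  obtain ⟨e⟩ := nonempty_locQuot φ hφ x hker p q hpq
  haveI : IsNoetherianRing (Localization.AtPrime p) :=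
    IsLocalization.isNoetherianRing p.primeCompl _ inferInstance
  rw [Groth.Agent.Lib.helper17.GorFlat.gor_quot_iff (Localization.AtPrime p) _
    (map_mem_maximalIdeal φ x hker p q hpq) (map_isSMulRegular x p hreg)]
  exact (isGorensteinLocalRing_iff_of_ringEquiv e).symm

include hφ hker hpq hreg in
theorem cmLocal_quot_iff :
    IsCohenMacaulayLocalRing (Localization.AtPrime p) ↔
      IsCohenMacaulayLocalRing (Localization.AtPrime q) := by
  obtain ⟨e⟩ := nonempty_locQuot φ hφ x hker p q hpq
  haveI : IsNoetherianRing (Localization.AtPrime p) :=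
    IsLocalization.isNoetherianRing p.primeCompl _ inferInstance
  rw [cm_quot_iff (Localization.AtPrime p) _
    (map_mem_maximalIdeal φ x hker p q hpq) (map_isSMulRegular x p hreg)]
  constructor
  · intro h
    exact Groth.Agent.S9808.cm_of_ringEquiv e.symm
  · intro h
    exact Groth.Agent.S9808.cm_of_ringEquiv e

end Quot

section Ring

variable {A S : Type u} [CommRing A] [CommRing S] (φ : A →+* S) (hφ : Function.Surjective φ)
  (x : A) (hker : RingHom.ker φ = Ideal.span {x}) (hreg : IsSMulRegular A x)

include hφ hker hreg in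
/-- the quotient of a Gorenstein ring by a regular element is a Gorenstein ring -/
theorem isGorensteinRing_of_surjective [h : IsGorensteinRing A] : IsGorensteinRing S := by
  haveI : IsNoetherianRing S := isNoetherianRing_of_surjective A S φ hφ
  refine { isGorensteinLocalRing_localization := fun q hq => ?_ }
  haveI : (q.comap φ).IsPrime := Ideal.comap_isPrime _ q
  exact (gorLocal_quot_iff φ hφ x hker (q.comap φ) q rfl hreg).1
    (h.isGorensteinLocalRing_localization _)

include hφ hker hreg in
/-- the quotient of a Cohen–Macaulay ring by a regular element is a Cohen–Macaulay ring -/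
theorem isCohenMacaulayRing_of_surjective [h : IsCohenMacaulayRing A] :
    IsCohenMacaulayRing S := by
  haveI : IsNoetherianRing S := isNoetherianRing_of_surjective A S φ hφ
  refine { isCohenMacaulayLocalRing_localization := fun q hq => ?_ }
  haveI : (q.comap φ).IsPrime := Ideal.comap_isPrime _ q
  exact (cmLocal_quot_iff φ hφ x hker (q.comap φ) q rfl hreg).1
    (h.isCohenMacaulayLocalRing_localization _)

end Ring

end Groth.Agent.Lib.helper26.ExtRees
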