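import Mathlib
import Groth.Agent.Lib.Helper26.ExtRees2
import Groth.Agent.Lib.Helper24.FlatDepth5
import Groth.Agent.Lib.Helper24.HensDepth
import Groth.Agent.Lib.Helper26.Sk3

/-!
# Transfer of `(S_k)` and Cohen–Macaulayness at a prime (helper26)

* `nonempty_locEquiv`: for a localization `C = M⁻¹R` and a prime `p` of `R` disjoint from `M`,
  `R_p ≃ C_{pC}`.
* `skAt_of_ringEquiv`: `(S_k)` at a prime only depends on the local ring.
* `skAt_quot_iff`: for `S = A/(x)` with `x` regular, `(S_{k+1})` of `A` at `p` iff `(S_k)` of `S` at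
  the corresponding prime.
* `skAt_of_cm`: Cohen–Macaulay local rings satisfy `(S_k)`.
-/

set_option autoImplicit false
set_option linter.unusedSectionVars false
set_option linter.style.haveILetI false
universe u

open IsLocalRing LocCoh

namespace Groth.Agent.Lib.helper26.ExtRees

open Groth.Agent.Lib.helper26.Depth Groth.Agent.Lib.Helper24.FlatDepth
  Groth.Agent.Lib.Helper24.HensDepth Groth.Agent.Lib.Helper24.HypersurfaceCM

section Loc

variable {R C : Type u} [CommRing R] [CommRing C] [Algebra R C] (M : Submonoid R)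
  [IsLocalization M C] (p : Ideal R) [hp : p.IsPrime] (hd : Disjoint (M : Set R) (p : Set R))

include hd in
theorem map_isPrime_of_disjoint : (p.map (algebraMap R C)).IsPrime :=
  IsLocalization.isPrime_of_isPrime_disjoint M C p hp hd

include hd in
theorem comap_map_of_disjoint : (p.map (algebraMap R C)).comap (algebraMap R C) = p :=
  IsLocalization.under_map_of_isPrime_disjoint M C hp hd

include M in
/-- `R_p ≃ C_q` for a prime `q` of the localization `C` contracting to `p` -/
theorem nonempty_locEquiv' (q : Ideal C) [hq : q.IsPrime] (hpq : q.comap (algebraMap R C) = p) :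
    Nonempty (Localization.AtPrime p ≃+* Localization.AtPrime q) := by
  haveI h1 : IsLocalization.AtPrime (Localization.AtPrime q) (q.comap (algebraMap R C)) :=
    IsLocalization.isLocalization_isLocalization_atPrime_isLocalization M (Localization.AtPrime q) q
  have hM : (q.comap (algebraMap R C)).primeCompl = p.primeCompl := by
    ext x
    simp only [Ideal.mem_primeCompl_iff]
    rw [hpq]
  haveI h2 : IsLocalization p.primeCompl (Localization.AtPrime q) := by
    have h1' : IsLocalization (q.comap (algebraMap R C)).primeCompl (Localization.AtPrime q) := h1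
    rwa [hM] at h1'
  have e : Localization.AtPrime p ≃ₐ[R] Localization.AtPrime q :=
    IsLocalization.algEquiv p.primeCompl _ _
  exact ⟨e.toRingEquiv⟩

end Loc

section Sk

theorem skAt_of_ringEquiv (k : ℕ) {R S : Type u} [CommRing R] [CommRing S] [IsNoetherianRing R]
    [IsNoetherianRing S] (p : Ideal R) [p.IsPrime] (q : Ideal S) [q.IsPrime]
    (e : Localization.AtPrime p ≃+* Localization.AtPrime q) (h : SkAt k R p) : SkAt k S q := by
  unfold SkAt at h ⊢
  rw [Module.supportDim_self_eq_ringKrullDim] at h ⊢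
  rw [← ringKrullDim_eq_of_ringEquiv e, depth_eq_of_ringEquiv e]
  exact h

theorem skAt_iff_of_ringEquiv (k : ℕ) {R S : Type u} [CommRing R] [CommRing S] [IsNoetherianRing R]
    [IsNoetherianRing S] (p : Ideal R) [p.IsPrime] (q : Ideal S) [q.IsPrime]
    (e : Localization.AtPrime p ≃+* Localization.AtPrime q) : SkAt k R p ↔ SkAt k S q :=
  ⟨skAt_of_ringEquiv k p q e, skAt_of_ringEquiv k q p e.symm⟩

theorem skAt_of_cm (k : ℕ) {R : Type u} [CommRing R] (p : Ideal R) [p.IsPrime]
    (h : IsCohenMacaulayLocalRing (Localization.AtPrime p)) : SkAt k R p := by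
  unfold SkAt
  rw [h.supportDim_eq_depth]
  exact min_le_right _ _

/-- depth and dimension drop by one modulo a regular element of the maximal ideal -/
theorem depth_dim_quot (B : Type u) [CommRing B] [IsNoetherianRing B] [IsLocalRing B] (g : B)
    (hg : g ∈ maximalIdeal B) (hreg : IsSMulRegular B g)
    [IsLocalRing (B ⧸ Ideal.span {g})] :
    depth (B ⧸ Ideal.span {g}) (B ⧸ Ideal.span {g}) + 1 = depth B B ∧
      ringKrullDim (B ⧸ Ideal.span {g}) + 1 = ringKrullDim B := by
  have hdim := ringKrullDim_quotient_span_singleton_succ_eq_ringKrullDim hreg hg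
  have hdep := idealDepth_quotSMulTop_add_one (maximalIdeal B) B g hg hreg
  rw [idealDepth_congr (quotSMulTopEquiv B g), idealDepth_quotient_eq] at hdep
  exact ⟨hdep, hdim⟩

end Sk

section Quot

variable {A S : Type u} [CommRing A] [CommRing S] (φ : A →+* S) (hφ : Function.Surjective φ)
  (x : A) (hker : RingHom.ker φ = Ideal.span {x})
  (p : Ideal A) [hp : p.IsPrime] (q : Ideal S) [hq : q.IsPrime] (hpq : q.comap φ = p)
  [IsNoetherianRing A] (hreg : IsSMulRegular A x)

include hφ hker hpq hreg in
theorem skAt_quot_iff (k : ℕ) : SkAt (k + 1) A p ↔ SkAt k S q := by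
  obtain ⟨e⟩ := nonempty_locQuot φ hφ x hker p q hpq
  haveI : IsNoetherianRing S := isNoetherianRing_of_surjective A S φ hφ
  haveI : IsNoetherianRing (Localization.AtPrime p) :=
    IsLocalization.isNoetherianRing p.primeCompl _ inferInstance
  haveI : IsNoetherianRing (Localization.AtPrime q) :=
    IsLocalization.isNoetherianRing q.primeCompl _ inferInstance
  have hg := map_mem_maximalIdeal φ x hker p q hpq
  have hr := map_isSMulRegular x p hreg
  haveI : IsLocalRing (Localization.AtPrime p ⧸
      Ideal.span {algebraMap A (Localization.AtPrime p) x}) :=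
    Groth.Agent.Lib.helper26.SerreConv.isLocalRing_quot _ hg
  obtain ⟨h1, h2⟩ := depth_dim_quot (Localization.AtPrime p) _ hg hr
  rw [depth_eq_of_ringEquiv e] at h1
  rw [← ringKrullDim_eq_of_ringEquiv e] at h2
  unfold SkAt
  rw [Module.supportDim_self_eq_ringKrullDim, Module.supportDim_self_eq_ringKrullDim, ← h1, ← h2]
  obtain ⟨d, hd⟩ := Groth.Agent.Lib.Helper24.CatEquidim.exists_nat_eq_ringKrullDim
    (Localization.AtPrime q)
  obtain ⟨e1, he1⟩ := ENat.ne_top_iff_exists.mp
    (depth_ne_top (A := Localization.AtPrime q) (Localization.AtPrime q))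
  rw [hd, ← he1]
  have c1 : (((d : ℕ∞) : WithBot ℕ∞) + 1) = (((d + 1 : ℕ) : ℕ) : WithBot ℕ∞) := by
    push_cast
    rfl
  have c2 : ((e1 : ℕ∞) + 1 : ℕ∞) = ((e1 + 1 : ℕ) : ℕ∞) := by
    push_cast
    rfl
  have c3 : ((d : ℕ∞) : WithBot ℕ∞) = ((d : ℕ) : WithBot ℕ∞) := rfl
  rw [c1, c2, c3, min_natCast_le_coe_iff, min_natCast_le_coe_iff]
  omega

end Quot

end Groth.Agent.Lib.helper26.ExtRees
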