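import Mathlib
import Groth.Agent.S2086
import Groth.Agent.S9437
import Groth.Agent.Lib.Helper26.ExtRees1
import Groth.Agent.Lib.Helper26.ExtRees7
import Groth.Agent.Lib.Helper26.CMCat3

/-!
# `(S_k)` and Cohen–Macaulayness for Laurent polynomial rings (helper26)
-/

set_option autoImplicit false
set_option linter.unusedSectionVars false
universe u

open IsLocalRing LocCoh Polynomial LaurentPolynomial TensorProduct

namespace Groth.Agent.Lib.helper26.ExtRees

open Groth.Agent.Lib.helper26.Depth Groth.Agent.Lib.Helper24.FlatDepth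
  Groth.Agent.Lib.Helper24.HensDepth Groth.Agent.Lib.helper26.CMPoly

variable (A : Type u) [CommRing A]

/-- the fibres of `A → A[T, T⁻¹]` are Cohen–Macaulay rings -/
theorem isCohenMacaulayRing_fiber_laurent (p : Ideal A) [p.IsPrime] :
    IsCohenMacaulayRing (p.Fiber A[T;T⁻¹]) := by
  haveI : IsCohenMacaulayRing p.ResidueField :=
    Groth.Agent.Lib.helper26.CMCat.isCohenMacaulayRing_field p.ResidueField
  have h1 : IsCohenMacaulayRing (AddMonoidAlgebra p.ResidueField ℤ) :=
    isCohenMacaulayRing_laurent p.ResidueField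
  exact isCohenMacaulayRing_of_ringEquiv
    (AddMonoidAlgebra.scalarTensorEquiv A (M := ℤ) p.ResidueField).toRingEquiv.symm

theorem hasSk_of_isCohenMacaulayRing (k : ℕ) (R : Type u) [CommRing R] [h : IsCohenMacaulayRing R] :
    HasSk k R R := by
  rw [hasSk_iff_skAt]
  intro p _
  exact skAt_of_cm k p (h.isCohenMacaulayLocalRing_localization p)

variable [IsNoetherianRing A]

instance : IsNoetherianRing A[T;T⁻¹] :=
  IsLocalization.isNoetherianRing (Submonoid.powers (Polynomial.X : Polynomial A)) _ inferInstance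

theorem hasSk_laurent (k : ℕ) (h : HasSk k A A) : HasSk k A[T;T⁻¹] A[T;T⁻¹] := by
  refine Groth.Agent.S2086.result k h ?_
  intro p _
  haveI := isCohenMacaulayRing_fiber_laurent A p
  exact hasSk_of_isCohenMacaulayRing k _

theorem hasSk_of_laurent [Nontrivial A] (k : ℕ) (h : HasSk k A[T;T⁻¹] A[T;T⁻¹]) : HasSk k A A :=
  (Groth.Agent.S9437.result k A A[T;T⁻¹] h).2

/-- Cohen–Macaulayness at a prime of the Laurent polynomial ring -/
theorem cm_laurent_atPrime_iff (p : Ideal A) [p.IsPrime] (Q : Ideal A[T;T⁻¹]) [Q.IsPrime]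
    [Q.LiesOver p] :
    IsCohenMacaulayLocalRing (Localization.AtPrime Q) ↔
      IsCohenMacaulayLocalRing (Localization.AtPrime p) := by
  rw [cm_atPrime_iff A A[T;T⁻¹] p Q]
  constructor
  · intro h
    exact h.1
  · intro h
    refine ⟨h, ?_⟩
    obtain ⟨q, hq, ⟨e⟩⟩ := exists_fibre_prime_equiv A A[T;T⁻¹] p Q
    have hF := isCohenMacaulayRing_fiber_laurent A p
    have := hF.isCohenMacaulayLocalRing_localization q
    exact Groth.Agent.S9808.cm_of_ringEquiv (R := Localization.AtPrime q) e

end Groth.Agent.Lib.helper26.ExtRees
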