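import Mathlib
import Groth.Agent.Lib.Helper17.LciCM
import Groth.Agent.Lib.Helper24.SerreNormal4
import Groth.Agent.Lib.Helper26.Unmixed
import Groth.Agent.Lib.Helper26.PolyMax
import Groth.Agent.Lib.Helper26.ExtRees8
import Groth.Agent.Lib.Helper12.HypCover

/-!
# Projective normality of complete intersections (helper26)

* `isDomain_of_minimalPrimes_le`: a ring all of whose localizations at primes are domains and all
  of whose minimal primes lie in one prime `M` is a domain.
* `le_ker_constantCoeff_of_isHomogeneous`: a proper homogeneous ideal of `k[x]` lies in the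
  irrelevant ideal.
* `isCohenMacaulayRing_quotient_of_height`: `S` CM, `ht (fs) ≥ |fs|` ⇒ `S/(fs)` CM.
-/

set_option autoImplicit false
set_option linter.style.haveILetI false
universe u

namespace Groth.Agent.Lib.helper26.ProjNormal

open LocCoh IsLocalRing

/-- a ring whose localizations at maximal ideals are domains and whose minimal primes all lie in
a prime `M` is a domain. -/
theorem isDomain_of_minimalPrimes_le (R : Type u) [CommRing R] (M : Ideal R) [M.IsPrime]
    (hmin : ∀ P ∈ minimalPrimes R, P ≤ M)
    (hloc : ∀ (P : Ideal R) [P.IsPrime], IsDomain (Localization.AtPrime P)) : IsDomain R := by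
  haveI := hloc M
  have hinj : Function.Injective (algebraMap R (Localization.AtPrime M)) := by
    rw [injective_iff_map_eq_zero]
    intro x hx
    rw [IsLocalization.map_eq_zero_iff M.primeCompl] at hx
    obtain ⟨s, hs⟩ := hx
    have hnil : IsNilpotent x := by
      rw [← mem_nilradical, nilradical_eq_sInf, Ideal.mem_sInf]
      intro P hP
      haveI : P.IsPrime := hP
      obtain ⟨P', hP'min, hP'le⟩ := Ideal.exists_minimalPrimes_le (bot_le : (⊥ : Ideal R) ≤ P)
      have hP'M : P' ≤ M := hmin P' hP'min
      have hP'prime : P'.IsPrime := hP'min.1.1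
      have hsx : (s : R) * x ∈ P' := by rw [hs]; exact P'.zero_mem
      rcases hP'prime.mem_or_mem hsx with h | h
      · exact absurd (hP'M h) s.2
      · exact hP'le h
    apply eq_zero_of_localization
    intro J hJ
    haveI := hloc J
    exact (hnil.map (algebraMap R (Localization.AtPrime J))).eq_zero
  exact hinj.isDomain _

attribute [local instance] MvPolynomial.gradedAlgebra

/-- a proper homogeneous ideal of a polynomial ring over a field is contained in the irrelevant
ideal. -/
theorem le_ker_constantCoeff_of_isHomogeneous (k : Type u) [Field k] (σ : Type*)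
    (P : Ideal (MvPolynomial σ k))
    (hP : P.IsHomogeneous (MvPolynomial.homogeneousSubmodule σ k)) (hne : P ≠ ⊤) :
    P ≤ RingHom.ker (MvPolynomial.constantCoeff : MvPolynomial σ k →+* k) := by
  classical
  intro x hx
  rw [RingHom.mem_ker]
  by_contra hc
  have h0 := MvPolynomial.homogeneousComponent_mem_of_mem hP hx 0
  rw [MvPolynomial.homogeneousComponent_zero] at h0
  change MvPolynomial.C (MvPolynomial.constantCoeff x) ∈ P at h0
  apply hne
  rw [Ideal.eq_top_iff_one]
  have : (1 : MvPolynomial σ k) = MvPolynomial.C (MvPolynomial.constantCoeff x)⁻¹ *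
      MvPolynomial.C (MvPolynomial.constantCoeff x) := by
    rw [← map_mul, inv_mul_cancel₀ hc, map_one]
  rw [this]
  exact P.mul_mem_left _ h0

/-- an ideal containing all the variables contains the irrelevant ideal. -/
theorem ker_constantCoeff_le (k : Type u) [CommRing k] (σ : Type*)
    (Q : Ideal (MvPolynomial σ k)) (h : ∀ i, (MvPolynomial.X i : MvPolynomial σ k) ∈ Q) :
    RingHom.ker (MvPolynomial.constantCoeff : MvPolynomial σ k →+* k) ≤ Q := by
  classical
  intro x hx
  rw [RingHom.mem_ker] at hx
  have hmem : x ∈ Ideal.span (MvPolynomial.X '' (Set.univ : Set σ)) := by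
    rw [MvPolynomial.mem_ideal_span_X_image]
    intro m hm
    by_contra hcon
    push Not at hcon
    have hm0 : m = 0 := Finsupp.ext (fun i => hcon i (Set.mem_univ i))
    rw [hm0, MvPolynomial.mem_support_iff] at hm
    exact hm hx
  exact (Ideal.span_le.mpr (by rintro _ ⟨i, _, rfl⟩; exact h i)) hmem

section CM

variable (S : Type u) [CommRing S] [hS : IsCohenMacaulayRing S]

/-- quotient of a CM ring by an ideal generated by `|fs|` elements of height `≥ |fs|` is CM. -/
theorem isCohenMacaulayRing_quotient_of_height (fs : List S)
    (hJ : (fs.length : ℕ∞) ≤ (Ideal.ofList fs).height) :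
    IsCohenMacaulayRing (S ⧸ Ideal.ofList fs) := by
  apply Groth.Agent.Lib.helper17.LciCM.isCohenMacaulayRing_quotient_of_local
  intro Q _ hIQ
  let R := Localization.AtPrime Q
  haveI hCM : IsCohenMacaulayLocalRing R := hS.isCohenMacaulayLocalRing_localization Q
  let xs : List R := fs.map (algebraMap S R)
  have hxs : ∀ x ∈ xs, x ∈ maximalIdeal R := by
    intro x hx
    obtain ⟨y, hy, rfl⟩ := List.mem_map.mp hx
    rw [IsLocalization.AtPrime.to_map_mem_maximal_iff R Q]
    exact hIQ (Ideal.subset_span hy)
  have hmap : Ideal.ofList xs = (Ideal.ofList fs).map (algebraMap S R) :=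
    (Ideal.map_ofList (algebraMap S R) fs).symm
  have hht : (xs.length : ℕ∞) ≤ (Ideal.ofList xs).height := by
    rw [List.length_map, hmap, ← IsLocalization.height_under Q.primeCompl]
    exact hJ.trans (Ideal.height_mono Ideal.le_comap_map)
  have hreg := Groth.Agent.Lib.helper26.Unmixed.isWeaklyRegular_of_le_height R xs hxs hht
  have h := Groth.Agent.Lib.helper17.LciCM.cm_quot_ofList R xs hxs hreg
  rw [hmap] at h
  exact h

end CM

end Groth.Agent.Lib.helper26.ProjNormal
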