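import Mathlib
import Groth.Prelude.Def_CohB1
import Groth.Agent.Lib.Helper26.ProjDim1
import Groth.Agent.Lib.Helper26.ProjDim2
import Groth.Agent.Lib.Helper26.PolyMax
import Groth.Agent.Lib.Helper26.ProjNormal
import Groth.Agent.Lib.Helper12.HypCover

/-!
# Dimension theory of projective space over a field (helper26)

`PS k n = ProjectiveSpectrum (CohB1.polyGrading n k)` (relevant homogeneous primes of
`k[x_0..x_n]`).
-/

set_option autoImplicit false
set_option linter.style.haveILetI false
universe u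

namespace Groth.Agent.Lib.helper26.ProjDim

open MvPolynomial Groth.Agent.Lib.helper12.HypCover

variable (k : Type u) [Field k] (n : ℕ)

/-- the irrelevant maximal ideal of `k[x_0..x_n]`. -/
noncomputable abbrev mm : Ideal (MvPolynomial (Fin (n + 1)) k) :=
  RingHom.ker (constantCoeff : MvPolynomial (Fin (n + 1)) k →+* k)

instance mm_isMaximal : (mm k n).IsMaximal :=
  RingHom.ker_isMaximal_of_surjective _ (fun a => ⟨C a, constantCoeff_C _ a⟩)

theorem irrelevant_toIdeal :
    (HomogeneousIdeal.irrelevant (CohB1.polyGrading n k)).toIdeal = mm k n := by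
  ext a
  have hd : (DirectSum.decompose (CohB1.polyGrading n k) a 0 : MvPolynomial (Fin (n + 1)) k) =
      homogeneousComponent 0 a := decomposition.decompose'_apply a 0
  rw [HomogeneousIdeal.mem_iff, HomogeneousIdeal.mem_irrelevant_iff, RingHom.mem_ker,
    GradedRing.proj_apply, hd, homogeneousComponent_zero]
  constructor
  · intro h
    rw [constantCoeff_eq]
    exact C_injective _ _ (by rw [h, C_0])
  · intro h
    rw [constantCoeff_eq] at h
    rw [h, C_0]

theorem height_mm : (mm k n).height = (n + 1 : ℕ) :=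
  PolyMax.height_eq_of_isMaximal k (n + 1) (mm k n) inferInstance

variable {k n}

/-- the ideal of a point. -/
noncomputable abbrev idl (x : ProjectiveSpectrum (CohB1.polyGrading n k)) :
    Ideal (MvPolynomial (Fin (n + 1)) k) := x.asHomogeneousIdeal.toIdeal

theorem idl_isHomogeneous (x : ProjectiveSpectrum (CohB1.polyGrading n k)) :
    (idl x).IsHomogeneous (CohB1.polyGrading n k) := x.asHomogeneousIdeal.isHomogeneous

theorem idl_le_mm (x : ProjectiveSpectrum (CohB1.polyGrading n k)) : idl x ≤ mm k n :=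
  ProjNormal.le_ker_constantCoeff_of_isHomogeneous k _ _ (idl_isHomogeneous x) x.isPrime.ne_top

theorem idl_ne_mm (x : ProjectiveSpectrum (CohB1.polyGrading n k)) : idl x ≠ mm k n := by
  intro h
  apply x.not_irrelevant_le
  change (HomogeneousIdeal.irrelevant (CohB1.polyGrading n k)).toIdeal ≤ idl x
  rw [irrelevant_toIdeal, ← h]

theorem idl_lt_mm (x : ProjectiveSpectrum (CohB1.polyGrading n k)) : idl x < mm k n :=
  lt_of_le_of_ne (idl_le_mm x) (idl_ne_mm x)

theorem idl_le_idl {x y : ProjectiveSpectrum (CohB1.polyGrading n k)} :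
    idl x ≤ idl y ↔ x ≤ y := by
  rw [← ProjectiveSpectrum.as_ideal_le_as_ideal]
  rfl

theorem idl_lt_idl {x y : ProjectiveSpectrum (CohB1.polyGrading n k)} :
    idl x < idl y ↔ x < y := by
  rw [lt_iff_le_not_ge, lt_iff_le_not_ge, idl_le_idl, idl_le_idl]

/-- a homogeneous prime different from the irrelevant ideal is a point of projective space. -/
noncomputable def mkPt (P : Ideal (MvPolynomial (Fin (n + 1)) k)) (hP : P.IsHomogeneous (CohB1.polyGrading n k))
    (hprime : P.IsPrime) (hne : P ≠ mm k n) : ProjectiveSpectrum (CohB1.polyGrading n k) :=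
  ⟨⟨P, hP⟩, hprime, fun h => hne (by
    have h' : (HomogeneousIdeal.irrelevant (CohB1.polyGrading n k)).toIdeal ≤ P := h
    rw [irrelevant_toIdeal] at h'
    exact ((mm_isMaximal k n).eq_of_le hprime.ne_top h').symm)⟩

@[simp] theorem idl_mkPt (P : Ideal (MvPolynomial (Fin (n + 1)) k))
    (hP : P.IsHomogeneous (CohB1.polyGrading n k))
    (hprime : P.IsPrime) (hne : P ≠ mm k n) : idl (mkPt P hP hprime hne) = P := rfl

theorem height_idl_add_one_le (x : ProjectiveSpectrum (CohB1.polyGrading n k)) :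
    (idl x).height + 1 ≤ (n + 1 : ℕ) := by
  rw [← height_mm k n]
  exact Ideal.height_add_one_le_of_lt_of_isPrime (idl_lt_mm x)

theorem height_idl_le (x : ProjectiveSpectrum (CohB1.polyGrading n k)) :
    (idl x).height ≤ (n : ℕ) := by
  have h := height_idl_add_one_le x
  obtain ⟨a, ha⟩ := ENat.ne_top_iff_exists.mp (Ideal.height_ne_top_of_isPrime (I := idl x))
  rw [← ha] at h ⊢
  have : a + 1 ≤ n + 1 := by exact_mod_cast h
  exact_mod_cast Nat.le_of_succ_le_succ this

/-- the step lemma: between homogeneous primes `q < q'` there is a homogeneous prime `q₁`,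
`q < q₁ ≤ q'`, of height `ht q + 1`. -/
theorem exists_step (q q' : Ideal (MvPolynomial (Fin (n + 1)) k))
    (hq : q.IsHomogeneous (CohB1.polyGrading n k)) (hq' : q'.IsHomogeneous (CohB1.polyGrading n k))
    [q.IsPrime] [q'.IsPrime] (hlt : q < q') :
    ∃ q₁ : Ideal (MvPolynomial (Fin (n + 1)) k), q₁.IsHomogeneous (CohB1.polyGrading n k) ∧
      q₁.IsPrime ∧ q < q₁ ∧ q₁ ≤ q' ∧ q₁.height = q.height + 1 := by
  obtain ⟨a, haq', haq⟩ := Set.exists_of_ssubset hlt
  obtain ⟨i, hi⟩ := exists_proj_notMem (CohB1.polyGrading n k) q a haq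
  set f := GradedRing.proj (CohB1.polyGrading n k) i a with hf
  have hfq' : f ∈ q' := hq' i haq'
  have hfh : SetLike.IsHomogeneousElem (CohB1.polyGrading n k) f := ⟨i, SetLike.coe_mem _⟩
  have hI : (q ⊔ Ideal.span {f}).IsHomogeneous (CohB1.polyGrading n k) :=
    hq.sup (Ideal.homogeneous_span _ _ (by
      intro x hx
      rw [Set.mem_singleton_iff] at hx
      rw [hx]
      exact hfh))
  have hIq' : q ⊔ Ideal.span {f} ≤ q' :=
    sup_le hlt.le ((Ideal.span_singleton_le_iff_mem _).2 hfq')
  obtain ⟨q₁, hq₁, hq₁q'⟩ := Ideal.exists_minimalPrimes_le hIq'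
  haveI : q₁.IsPrime := hq₁.1.1
  have hqq₁ : q < q₁ := by
    refine lt_of_le_of_ne (le_sup_left.trans hq₁.1.2) ?_
    intro h
    apply hi
    rw [h]
    exact hq₁.1.2 (Ideal.mem_sup_right (Ideal.mem_span_singleton_self f))
  refine ⟨q₁, isHomogeneous_of_mem_minimalPrimes _ hI hq₁, hq₁.1.1, hqq₁, hq₁q', ?_⟩
  apply le_antisymm
  · have := height_le_height_add_ncard k _ q q₁ {f} (Set.finite_singleton f) hq₁
    rwa [Set.ncard_singleton, Nat.cast_one] at this
  · exact Ideal.height_add_one_le_of_lt_of_isPrime hqq₁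

end Groth.Agent.Lib.helper26.ProjDim
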