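import Mathlib
import Groth.Agent.Lib.Helper26.ProjDim3

/-!
# Heights and coheights of points of projective space over a field (helper26)

For `x : ProjectiveSpectrum (CohB1.polyGrading n k)`:
* `coheight_add_htN : Order.coheight x + htN x = n`;
* `height_eq_htN : Order.height x = htN x`,
where `htN x` is the height of the homogeneous prime `idl x` of `k[x_0..x_n]`.
-/

set_option autoImplicit false
set_option linter.style.haveILetI false
universe u

namespace Groth.Agent.Lib.helper26.ProjDim

open MvPolynomial

variable {k : Type u} [Field k] {n : ℕ}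

/-- the height of the prime ideal of a point, as a natural number. -/
noncomputable def htN (x : ProjectiveSpectrum (CohB1.polyGrading n k)) : ℕ :=
  (idl x).height.toNat

theorem htN_cast (x : ProjectiveSpectrum (CohB1.polyGrading n k)) :
    ((htN x : ℕ) : ℕ∞) = (idl x).height :=
  ENat.natCast_toNat (Ideal.height_ne_top_of_isPrime (I := idl x))

theorem htN_le (x : ProjectiveSpectrum (CohB1.polyGrading n k)) : htN x ≤ n := by
  have h := height_idl_le x
  rw [← htN_cast] at h
  exact_mod_cast h

theorem htN_strictMono :
    StrictMono (htN : ProjectiveSpectrum (CohB1.polyGrading n k) → ℕ) := by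
  intro x y hxy
  have h := Ideal.height_add_one_le_of_lt_of_isPrime (idl_lt_idl.2 hxy)
  rw [← htN_cast, ← htN_cast] at h
  have : htN x + 1 ≤ htN y := by exact_mod_cast h
  omega

theorem htN_mkPt (P : Ideal (MvPolynomial (Fin (n + 1)) k))
    (hP : P.IsHomogeneous (CohB1.polyGrading n k))
    (hprime : P.IsPrime) (hne : P ≠ mm k n) : ((htN (mkPt P hP hprime hne) : ℕ) : ℕ∞) = P.height := by
  rw [htN_cast, idl_mkPt]

/-- upward step in projective space. -/
theorem exists_lt_htN_succ (x : ProjectiveSpectrum (CohB1.polyGrading n k)) (hx : htN x < n) :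
    ∃ y, x < y ∧ htN y = htN x + 1 := by
  obtain ⟨q₁, hq₁h, hq₁p, hlt, hle, hht⟩ := exists_step (idl x) (mm k n) (idl_isHomogeneous x)
    (by rw [← irrelevant_toIdeal]; exact (HomogeneousIdeal.irrelevant _).isHomogeneous)
    (idl_lt_mm x)
  have hne : q₁ ≠ mm k n := by
    intro h
    rw [h, height_mm, ← htN_cast] at hht
    have : n + 1 = htN x + 1 := by exact_mod_cast hht
    omega
  refine ⟨mkPt q₁ hq₁h hq₁p hne, idl_lt_idl.1 (by rwa [idl_mkPt]), ?_⟩
  have := htN_mkPt q₁ hq₁h hq₁p hne
  rw [hht, ← htN_cast] at this
  exact_mod_cast this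

/-- step between two points of projective space. -/
theorem exists_lt_le_htN_succ {x y : ProjectiveSpectrum (CohB1.polyGrading n k)} (hxy : x < y) :
    ∃ z, x < z ∧ z ≤ y ∧ htN z = htN x + 1 := by
  obtain ⟨q₁, hq₁h, hq₁p, hlt, hle, hht⟩ := exists_step (idl x) (idl y) (idl_isHomogeneous x)
    (idl_isHomogeneous y) (idl_lt_idl.2 hxy)
  have hne : q₁ ≠ mm k n := fun h => absurd (h ▸ hle) (not_le_of_gt (idl_lt_mm y))
  refine ⟨mkPt q₁ hq₁h hq₁p hne, idl_lt_idl.1 (by rwa [idl_mkPt]),
    idl_le_idl.1 (by rwa [idl_mkPt]), ?_⟩
  have := htN_mkPt q₁ hq₁h hq₁p hne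
  rw [hht, ← htN_cast] at this
  exact_mod_cast this

theorem coheight_add_htN_le (x : ProjectiveSpectrum (CohB1.polyGrading n k)) :
    Order.coheight x + (htN x : ℕ∞) ≤ (n : ℕ∞) := by
  have h1 : Order.coheight x ≤ ((n - htN x : ℕ) : ℕ∞) := by
    rw [Order.coheight_le_iff]
    intro p hp
    have h2 := LTSeries.head_add_length_le_nat (p.map htN htN_strictMono)
    rw [LTSeries.head_map, LTSeries.last_map] at h2
    have h3 : htN x ≤ htN p.head := htN_strictMono.monotone hp
    have h4 := htN_le p.last
    have h5 : (p.map htN htN_strictMono).length = p.length := rfl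
    rw [h5] at h2
    have : p.length ≤ n - htN x := by omega
    exact_mod_cast this
  calc Order.coheight x + (htN x : ℕ∞) ≤ ((n - htN x : ℕ) : ℕ∞) + (htN x : ℕ∞) := by gcongr
    _ = (n : ℕ∞) := by
      have := htN_le x
      rw [← Nat.cast_add, Nat.sub_add_cancel this]

theorem le_coheight_aux : ∀ (d : ℕ) (x : ProjectiveSpectrum (CohB1.polyGrading n k)),
    htN x + d = n → (d : ℕ∞) ≤ Order.coheight x := by
  intro d
  induction d with
  | zero => intro x _; simp
  | succ d ih =>
    intro x hx
    obtain ⟨y, hxy, hy⟩ := exists_lt_htN_succ x (by omega)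
    have h1 := ih y (by omega)
    have h2 := Order.coheight_add_one_le hxy
    calc ((d + 1 : ℕ) : ℕ∞) = (d : ℕ∞) + 1 := by push_cast; rfl
      _ ≤ Order.coheight y + 1 := by gcongr
      _ ≤ Order.coheight x := h2

/-- `coheight x + ht x = n` in projective `n`-space. -/
theorem coheight_eq (x : ProjectiveSpectrum (CohB1.polyGrading n k)) :
    Order.coheight x = ((n - htN x : ℕ) : ℕ∞) := by
  apply le_antisymm
  · have h := coheight_add_htN_le x
    have hle := htN_le x
    cases hc : Order.coheight x with
    | top => rw [hc] at h; simp at h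
    | coe c =>
      rw [hc] at h
      have : c + htN x ≤ n := by exact_mod_cast h
      have : c ≤ n - htN x := by omega
      exact_mod_cast this
  · exact le_coheight_aux (n - htN x) x (by have := htN_le x; omega)

theorem height_le_htN (x : ProjectiveSpectrum (CohB1.polyGrading n k)) :
    Order.height x ≤ (htN x : ℕ∞) := by
  rw [Order.height_le_iff]
  intro p hp
  have h2 := LTSeries.head_add_length_le_nat (p.map htN htN_strictMono)
  rw [LTSeries.head_map, LTSeries.last_map] at h2
  have h3 : htN p.last ≤ htN x := htN_strictMono.monotone hp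
  have h5 : (p.map htN htN_strictMono).length = p.length := rfl
  rw [h5] at h2
  have : p.length ≤ htN x := by omega
  exact_mod_cast this

theorem height_add_le_aux : ∀ (d : ℕ) (x y : ProjectiveSpectrum (CohB1.polyGrading n k)),
    x ≤ y → htN x + d = htN y → Order.height x + (d : ℕ∞) ≤ Order.height y := by
  intro d
  induction d with
  | zero =>
    intro x y hxy _
    simpa using Order.height_mono hxy
  | succ d ih =>
    intro x y hxy hd
    have hne : x ≠ y := by
      intro h
      rw [h] at hd
      omega
    obtain ⟨z, hxz, hzy, hz⟩ := exists_lt_le_htN_succ (lt_of_le_of_ne hxy hne)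
    have h1 := ih z y hzy (by omega)
    have h2 := Order.height_add_one_le hxz
    calc Order.height x + ((d + 1 : ℕ) : ℕ∞) = Order.height x + 1 + (d : ℕ∞) := by
          push_cast; ring
      _ ≤ Order.height z + (d : ℕ∞) := by gcongr
      _ ≤ Order.height y := h1

/-- the generic point of projective space. -/
noncomputable def botPt : ProjectiveSpectrum (CohB1.polyGrading n k) :=
  mkPt ⊥ (Ideal.IsHomogeneous.bot _) Ideal.isPrime_bot (by
    intro h
    have : (X 0 : MvPolynomial (Fin (n + 1)) k) ∈ mm k n := by
      rw [RingHom.mem_ker, constantCoeff_X]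
    rw [← h] at this
    exact X_ne_zero _ this)

theorem botPt_le (x : ProjectiveSpectrum (CohB1.polyGrading n k)) : botPt ≤ x :=
  idl_le_idl.1 (by rw [botPt, idl_mkPt]; exact bot_le)

theorem htN_botPt : htN (botPt : ProjectiveSpectrum (CohB1.polyGrading n k)) = 0 := by
  have := htN_mkPt (k := k) (n := n) ⊥ (Ideal.IsHomogeneous.bot _) Ideal.isPrime_bot (by
    intro h
    have : (X 0 : MvPolynomial (Fin (n + 1)) k) ∈ mm k n := by
      rw [RingHom.mem_ker, constantCoeff_X]
    rw [← h] at this
    exact X_ne_zero _ this)
  rw [Ideal.height_bot] at this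
  exact_mod_cast this

/-- the order-theoretic height of a point of projective space is the height of its prime. -/
theorem height_eq (x : ProjectiveSpectrum (CohB1.polyGrading n k)) :
    Order.height x = (htN x : ℕ∞) := by
  apply le_antisymm (height_le_htN x)
  have := height_add_le_aux (htN x) botPt x (botPt_le x) (by rw [htN_botPt, zero_add])
  exact le_trans le_add_self this

end Groth.Agent.Lib.helper26.ProjDim
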