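import Mathlib
import Groth.Agent.Lib.Helper26.ProjDim4

/-!
# Intersections with hypersurfaces in projective space over a field (helper26)
-/

set_option autoImplicit false
set_option linter.style.haveILetI false
universe u

namespace Groth.Agent.Lib.helper26.ProjDim

open MvPolynomial Groth.Agent.Lib.helper12.HypCover

variable {k : Type u} [Field k] {n : ℕ}

theorem ncard_range_le {α : Type*} (r : ℕ) (f : Fin r → α) : (Set.range f).ncard ≤ r := by
  rw [← Set.image_univ]
  refine le_trans (Set.ncard_image_le Set.finite_univ) ?_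
  rw [Set.ncard_univ, Nat.card_eq_fintype_card, Fintype.card_fin]

theorem isHomogeneous_sup_span (x : ProjectiveSpectrum (CohB1.polyGrading n k)) (r : ℕ)
    (f : Fin r → MvPolynomial (Fin (n + 1)) k)
    (hfh : ∀ i, SetLike.IsHomogeneousElem (CohB1.polyGrading n k) (f i)) :
    (idl x ⊔ Ideal.span (Set.range f)).IsHomogeneous (CohB1.polyGrading n k) :=
  (idl_isHomogeneous x).sup (Ideal.homogeneous_span _ _ (by
    rintro _ ⟨i, rfl⟩
    exact hfh i))

/-- a closed irreducible subset of dimension at least `r` meets `V_+(f_1, …, f_r)`. -/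
theorem exists_point_ge (x : ProjectiveSpectrum (CohB1.polyGrading n k)) (r : ℕ)
    (f : Fin r → MvPolynomial (Fin (n + 1)) k)
    (hfh : ∀ i, SetLike.IsHomogeneousElem (CohB1.polyGrading n k) (f i))
    (hfm : ∀ i, f i ∈ mm k n) (hr : htN x + r ≤ n) :
    ∃ y, x ≤ y ∧ ∀ i, f i ∈ idl y := by
  have hI := isHomogeneous_sup_span x r f hfh
  have hIm : idl x ⊔ Ideal.span (Set.range f) ≤ mm k n :=
    sup_le (idl_le_mm x) (Ideal.span_le.2 (by rintro _ ⟨i, rfl⟩; exact hfm i))
  obtain ⟨q, hq, hqm⟩ := Ideal.exists_minimalPrimes_le hIm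
  have hqh := isHomogeneous_of_mem_minimalPrimes _ hI hq
  have hht := height_le_height_add_ncard k _ (idl x) q (Set.range f) (Set.finite_range f) hq
  have hne : q ≠ mm k n := by
    intro h
    rw [h, height_mm, ← htN_cast] at hht
    have h1 : n + 1 ≤ htN x + (Set.range f).ncard := by exact_mod_cast hht
    have h2 := ncard_range_le r f
    omega
  refine ⟨mkPt q hqh hq.1.1 hne, idl_le_idl.1 (by rw [idl_mkPt]; exact le_sup_left.trans hq.1.2),
    fun i => ?_⟩
  rw [idl_mkPt]
  exact hq.1.2 (Ideal.mem_sup_right (Ideal.subset_span ⟨i, rfl⟩))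

/-- the generic point of an irreducible component of `X ∩ V_+(f_1, …, f_r)` has height at most
`ht X + r`. -/
theorem htN_le_of_minimal (x g : ProjectiveSpectrum (CohB1.polyGrading n k)) (r : ℕ)
    (f : Fin r → MvPolynomial (Fin (n + 1)) k)
    (hfh : ∀ i, SetLike.IsHomogeneousElem (CohB1.polyGrading n k) (f i))
    (hxg : x ≤ g) (hfg : ∀ i, f i ∈ idl g)
    (hmin : ∀ y, x ≤ y → (∀ i, f i ∈ idl y) → y ≤ g → y = g) : htN g ≤ htN x + r := by
  have hI := isHomogeneous_sup_span x r f hfh
  have hIg : idl x ⊔ Ideal.span (Set.range f) ≤ idl g :=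
    sup_le (idl_le_idl.2 hxg) (Ideal.span_le.2 (by rintro _ ⟨i, rfl⟩; exact hfg i))
  obtain ⟨q, hq, hqg⟩ := Ideal.exists_minimalPrimes_le hIg
  have hqh := isHomogeneous_of_mem_minimalPrimes _ hI hq
  have hne : q ≠ mm k n := fun h => absurd (h ▸ hqg) (not_le_of_gt (idl_lt_mm g))
  have hy := hmin (mkPt q hqh hq.1.1 hne)
    (idl_le_idl.1 (by rw [idl_mkPt]; exact le_sup_left.trans hq.1.2))
    (fun i => by rw [idl_mkPt]; exact hq.1.2 (Ideal.mem_sup_right (Ideal.subset_span ⟨i, rfl⟩)))
    (idl_le_idl.1 (by rwa [idl_mkPt]))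
  have hht := height_le_height_add_ncard k _ (idl x) q (Set.range f) (Set.finite_range f) hq
  have hqg' : q = idl g := by rw [← hy, idl_mkPt]
  rw [hqg', ← htN_cast, ← htN_cast] at hht
  have h1 : htN g ≤ htN x + (Set.range f).ncard := by exact_mod_cast hht
  have h2 := ncard_range_le r f
  omega

theorem le_iff_specializes' (x y : ProjectiveSpectrum (CohB1.polyGrading n k)) :
    x ≤ y ↔ x ⤳ y := le_iff_specializes _ x y

/-- the dimension of the closure of a point of projective space. -/
theorem topologicalKrullDim_Ici' (p : ProjectiveSpectrum (CohB1.polyGrading n k)) :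
    topologicalKrullDim ↥(Set.Ici p) = ((n - htN p : ℕ) : WithBot ℕ∞) := by
  rw [topologicalKrullDim_Ici le_iff_specializes', coheight_eq]
  rfl

theorem mem_zeroLocus_range (y : ProjectiveSpectrum (CohB1.polyGrading n k)) {ι : Type*}
    (f : ι → MvPolynomial (Fin (n + 1)) k) :
    y ∈ ProjectiveSpectrum.zeroLocus (CohB1.polyGrading n k) (Set.range f) ↔
      ∀ i, f i ∈ idl y := by
  rw [ProjectiveSpectrum.mem_zeroLocus]
  constructor
  · intro h i
    exact h ⟨i, rfl⟩
  · rintro h _ ⟨i, rfl⟩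
    exact h i

theorem mem_zeroLocus_singleton (y : ProjectiveSpectrum (CohB1.polyGrading n k))
    (f : MvPolynomial (Fin (n + 1)) k) :
    y ∈ ProjectiveSpectrum.zeroLocus (CohB1.polyGrading n k) {f} ↔ f ∈ idl y := by
  rw [ProjectiveSpectrum.mem_zeroLocus, Set.singleton_subset_iff]
  rfl

theorem mem_mm_of_isHomogeneous {f : MvPolynomial (Fin (n + 1)) k} {d : ℕ}
    (hf : f.IsHomogeneous d) (hd : 0 < d) : f ∈ mm k n := by
  rw [RingHom.mem_ker, constantCoeff_eq]
  exact hf.coeff_eq_zero (by simp; omega)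

end Groth.Agent.Lib.helper26.ProjDim
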