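import Mathlib
import Groth.Agent.Lib.Helper19.ExtLoc1
import Groth.Agent.Lib.Helper26.Depth1

/-!
# Rees' lemma: `Ext^n_R(K, M) ≅ Hom_R(K, M/(x_1, …, x_n)M)` (helper26)

`K` an `R`-module killed by `x_1, …, x_n`, an `M`-regular sequence.
-/

set_option autoImplicit false
universe u

namespace Groth.Agent.Lib.helper26.GorB

open CategoryTheory Groth.Agent.Lib.helper19.ExtLoc Groth.Agent.Lib.helper26.Depth Pointwise

section Rees

variable {R : Type u} [CommRing R] (K : Type u) [AddCommGroup K] [Module R K]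

theorem exact_lsmul_mkQ (M : Type u) [AddCommGroup M] [Module R M] (x : R) :
    Function.Exact (LinearMap.lsmul R M x)
      (Submodule.mkQ (x • (⊤ : Submodule R M))) := by
  intro y
  rw [Submodule.mkQ_apply, Submodule.Quotient.mk_eq_zero]
  constructor
  · intro hy
    obtain ⟨z, -, hz⟩ := (Submodule.mem_smul_pointwise_iff_exists _ _ _).1 hy
    exact ⟨z, hz⟩
  · rintro ⟨z, rfl⟩
    exact Submodule.smul_mem_pointwise_smul z x ⊤ Submodule.mem_top

/-- **Rees' shift**: `Ext^e(K, M/xM) ≅ Ext^{e+1}(K, M)` if `x` is `M`-regular, kills `K` and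
`Ext^e(K, M) = 0` -/
noncomputable def reesShift (M : Type u) [AddCommGroup M] [Module R M] (x : R)
    (hx : IsSMulRegular M x) (hK : ∀ k : K, x • k = 0) (e : ℕ)
    (hvan : Subsingleton (Abelian.Ext.{u} (ModuleCat.of R K) (ModuleCat.of R M) e)) :
    Abelian.Ext.{u} (ModuleCat.of R K) (ModuleCat.of R (QuotSMulTop x M)) e ≃ₗ[R]
      Abelian.Ext.{u} (ModuleCat.of R K) (ModuleCat.of R M) (e + 1) :=
  LinearEquiv.ofBijective
    (Abelian.Ext.postcompOfLinear
      (sc_shortExact (LinearMap.lsmul R M x) (Submodule.mkQ (x • (⊤ : Submodule R M))) hx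
        (Submodule.mkQ_surjective _) (exact_lsmul_mkQ M x)).extClass R (ModuleCat.of R K)
      (show e + 1 = e + 1 from rfl)) (by
    have hS := sc_shortExact (LinearMap.lsmul R M x) (Submodule.mkQ (x • (⊤ : Submodule R M))) hx
        (Submodule.mkQ_surjective _) (exact_lsmul_mkQ M x)
    constructor
    · rw [injective_iff_map_eq_zero]
      intro x₃ hx₃
      obtain ⟨x₂, hx₂⟩ := Abelian.Ext.covariant_sequence_exact₃ (ModuleCat.of R K) hS x₃
        (show e + 1 = e + 1 from rfl) hx₃
      rw [← hx₂, hvan.elim x₂ 0, Abelian.Ext.zero_comp]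
    · intro x₁
      have hann : x ∈ Module.annihilator R (ModuleCat.of R K) := by
        rw [Module.mem_annihilator]
        exact hK
      have h0 : x₁.comp (Abelian.Ext.mk₀ (sc (LinearMap.lsmul R M x)
          (Submodule.mkQ (x • (⊤ : Submodule R M))) (exact_lsmul_mkQ M x)).f)
          (add_zero (e + 1)) = 0 := by
        have h1 : (sc (LinearMap.lsmul R M x)
            (Submodule.mkQ (x • (⊤ : Submodule R M))) (exact_lsmul_mkQ M x)).f =
            x • 𝟙 (ModuleCat.of R M) := by
          ext z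
          rfl
        rw [h1, ← Abelian.Ext.smul_eq_comp_mk₀]
        exact smul_ext_eq_zero_of_mem_annihilator_left hann x₁
      obtain ⟨x₃, hx₃⟩ := Abelian.Ext.covariant_sequence_exact₁ (ModuleCat.of R K) hS x₁ h0
        (show e + 1 = e + 1 from rfl)
      exact ⟨x₃, hx₃⟩)

/-- `Hom(K, M) = 0` if a non-zero-divisor on `M` kills `K` -/
theorem hom_eq_zero_of_regular (M : Type u) [AddCommGroup M] [Module R M] (x : R)
    (hx : IsSMulRegular M x) (hK : ∀ k : K, x • k = 0) (f : K →ₗ[R] M) : f = 0 := by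
  apply LinearMap.ext
  intro k
  apply hx
  show x • f k = x • (0 : K →ₗ[R] M) k
  rw [← map_smul, hK, map_zero, LinearMap.zero_apply, smul_zero]

/-- **Rees' lemma**, iterated along a regular sequence -/
theorem rees (rs : List R) : ∀ (M : Type u) [AddCommGroup M] [Module R M],
    RingTheory.Sequence.IsWeaklyRegular M rs → (∀ r ∈ rs, ∀ k : K, r • k = 0) →
    (∀ i < rs.length,
      Subsingleton (Abelian.Ext.{u} (ModuleCat.of R K) (ModuleCat.of R M) i)) ∧
    Nonempty (Abelian.Ext.{u} (ModuleCat.of R K) (ModuleCat.of R M) rs.length ≃ₗ[R]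
      (K →ₗ[R] (M ⧸ (Ideal.ofList rs • ⊤ : Submodule R M)))) := by
  induction rs with
  | nil =>
    intro M _ _ _ _
    refine ⟨fun i hi => absurd hi (by simp), ⟨?_⟩⟩
    have hbot : (Ideal.ofList ([] : List R) • ⊤ : Submodule R M) = ⊥ := by
      rw [Ideal.ofList_nil, Submodule.bot_smul]
    exact (ext0Equiv M K).trans
      (LinearEquiv.congrRight (Submodule.quotEquivOfEqBot _ hbot).symm)
  | cons r rs ih =>
    intro M _ _ hreg hK
    rw [RingTheory.Sequence.isWeaklyRegular_cons_iff] at hreg
    obtain ⟨hr, hreg'⟩ := hreg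
    have hKr : ∀ k : K, r • k = 0 := hK r List.mem_cons_self
    obtain ⟨hvan', ⟨e'⟩⟩ := ih (QuotSMulTop r M) hreg'
      (fun r' hr' => hK r' (List.mem_cons_of_mem r hr'))
    -- vanishing
    have hvan : ∀ i < rs.length + 1,
        Subsingleton (Abelian.Ext.{u} (ModuleCat.of R K) (ModuleCat.of R M) i) := by
      intro i
      induction i with
      | zero =>
        intro _
        refine (ext0Equiv M K).toEquiv.subsingleton_congr.2 ⟨fun f g => ?_⟩
        rw [hom_eq_zero_of_regular K M r hr hKr f, hom_eq_zero_of_regular K M r hr hKr g]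
      | succ j ihj =>
        intro hj
        have h1 := ihj (by omega)
        have h2 := hvan' j (by omega)
        exact (reesShift K M r hr hKr j h1).symm.toEquiv.subsingleton_congr.2 h2
    refine ⟨fun i hi => hvan i (by simpa using hi), ⟨?_⟩⟩
    have h1 := hvan rs.length (by omega)
    exact (reesShift K M r hr hKr rs.length h1).symm.trans (e'.trans
      (LinearEquiv.congrRight
        (Submodule.quotOfListConsSMulTopEquivQuotSMulTopInner M r rs).symm))

end Rees

end Groth.Agent.Lib.helper26.GorB
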