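import Mathlib
import Groth.Agent.Lib.Helper26.ReflexiveLoc

/-!
# Localizations of reflexive modules are reflexive (helper26)
-/

set_option autoImplicit false
set_option linter.unusedSectionVars false
universe u

namespace Groth.Agent.Lib.helper26.ReflexiveLoc

section

variable {R : Type u} [CommRing R] [IsNoetherianRing R] (S : Submonoid R)
  (Rₛ : Type u) [CommRing Rₛ] [Algebra R Rₛ] [IsLocalization S Rₛ]
  {M : Type u} [AddCommGroup M] [Module R M] [Module.Finite R M]
  {M' : Type u} [AddCommGroup M'] [Module R M'] [Module Rₛ M'] [IsScalarTower R Rₛ M']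

theorem isReflexive_of_isLocalizedModule (f : M →ₗ[R] M') [IsLocalizedModule S f]
    [Module.IsReflexive R M] :
    Module.IsReflexive Rₛ M' := by
  constructor
  constructor
  · rw [injective_iff_map_eq_zero]
    intro y hy
    obtain ⟨⟨m, s⟩, hms⟩ := IsLocalizedModule.surj S f y
    rw [Submonoid.smul_def] at hms
    have h1 : D2 S Rₛ f (Module.Dual.eval R M m) = D2 S Rₛ f 0 := by
      rw [D2_eval, ← hms, LinearMap.map_smul_of_tower, hy, smul_zero, map_zero]
    obtain ⟨t, ht⟩ := IsLocalizedModule.exists_of_eq (S := S) (f := D2 S Rₛ f) h1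
    rw [Submonoid.smul_def, Submonoid.smul_def, smul_zero, ← map_smul] at ht
    have h2 : (t : R) • m = 0 := by
      apply (Module.bijective_dual_eval R M).1
      rw [ht, map_zero]
    have h3 : (t : R) • (s : R) • y = 0 := by
      rw [hms, ← map_smul, h2, map_zero]
    have h4 : (s : R) • y = 0 := by
      apply IsLocalizedModule.smul_injective f t
      change t • ((s : R) • y) = t • 0
      rw [smul_zero, Submonoid.smul_def]
      exact h3
    apply IsLocalizedModule.smul_injective f s
    change s • y = s • 0
    rw [smul_zero, Submonoid.smul_def]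
    exact h4
  · intro ψ
    obtain ⟨⟨φ, s⟩, hφ⟩ := IsLocalizedModule.surj S (D2 S Rₛ f) ψ
    rw [Submonoid.smul_def] at hφ
    obtain ⟨m, rfl⟩ := (Module.bijective_dual_eval R M).2 φ
    rw [D2_eval] at hφ
    refine ⟨IsLocalizedModule.mk' f m s, ?_⟩
    apply IsLocalizedModule.smul_injective (D2 S Rₛ f) s
    change s • _ = s • ψ
    rw [Submonoid.smul_def, Submonoid.smul_def, hφ, ← LinearMap.map_smul_of_tower,
      ← Submonoid.smul_def, IsLocalizedModule.mk'_cancel']

end

end Groth.Agent.Lib.helper26.ReflexiveLoc
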