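import Mathlib
import Groth.Agent.Lib.Helper26.ReflexiveCrit2
import Groth.Agent.Lib.Helper26.ReflexiveLoc2

/-!
# Reflexivity over Noetherian domains: local criterion (helper26)
-/

set_option autoImplicit false
set_option linter.unusedSectionVars false
universe u

open CategoryTheory Abelian RingTheory.Sequence LocCoh IsLocalRing
open scoped Pointwise

namespace Groth.Agent.Lib.helper26.Depth

section

variable {R : Type u} [CommRing R] [IsNoetherianRing R]
  (M : Type u) [AddCommGroup M] [Module R M] [Module.Finite R M]

/-- localizations of reflexive modules are reflexive. -/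
theorem isReflexive_localization [Module.IsReflexive R M] (p : Ideal R) [p.IsPrime] :
    Module.IsReflexive (Localization.AtPrime p) (LocalizedModule p.primeCompl M) :=
  ReflexiveLoc.isReflexive_of_isLocalizedModule p.primeCompl (Localization.AtPrime p)
    (LocalizedModule.mkLinearMap p.primeCompl M)

/-- depth `≥ 2` of reflexive modules at primes where the ring has depth `≥ 2`. -/
theorem two_le_depth_localization_of_isReflexive [Module.IsReflexive R M] (p : Ideal R)
    [p.IsPrime] (h : 2 ≤ depth (Localization.AtPrime p) (Localization.AtPrime p)) :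
    2 ≤ depth (Localization.AtPrime p) (LocalizedModule p.primeCompl M) := by
  have := isReflexive_localization M p
  exact (reflexive_depth_Sk (maximalIdeal (Localization.AtPrime p))
    (LocalizedModule p.primeCompl M)).2.1 h

end

section domain

variable {R : Type u} [CommRing R] [IsDomain R] [IsNoetherianRing R]
  (M : Type u) [AddCommGroup M] [Module R M] [Module.Finite R M]

/-- over the fraction field everything is reflexive. -/
lemma isReflexive_localization_bot (p : Ideal R) [p.IsPrime] (hp : p = ⊥) :
    Module.IsReflexive (Localization.AtPrime p) (LocalizedModule p.primeCompl M) := by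
  have hmax : maximalIdeal (Localization.AtPrime p) = ⊥ := by
    rw [← Localization.AtPrime.map_eq_maximalIdeal, Ideal.map_eq_bot_iff_le_ker]
    intro x hx
    have hx0 : x = 0 := by
      rw [hp] at hx
      exact (Submodule.mem_bot R).mp hx
    rw [hx0]
    exact Submodule.zero_mem _
  have hfield : IsField (Localization.AtPrime p) :=
    IsLocalRing.isField_iff_maximalIdeal_eq.mpr hmax
  let _ := hfield.toField
  have : Module.Free (Localization.AtPrime p) (LocalizedModule p.primeCompl M) :=
    Module.Free.of_divisionRing _ _
  infer_instance

omit [Module.Finite R M] in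
lemma one_le_idealDepth_self_of_ne_bot (p : Ideal R) (hp : p ≠ ⊥) : 1 ≤ idealDepth p R := by
  obtain ⟨x, hx, hx0⟩ := Submodule.exists_mem_ne_zero_of_ne_bot hp
  have hreg : IsWeaklyRegular R [x] := by
    rw [isWeaklyRegular_cons_iff]
    refine ⟨?_, IsWeaklyRegular.nil R _⟩
    exact (IsRegular.of_ne_zero hx0).left.isSMulRegular
  have := length_le_idealDepth (I := p) hreg (by simpa using hx)
  simpa using this

theorem isReflexive_of_forall_localization_or_depth
    (h : ∀ (p : Ideal R) [p.IsPrime],
      Module.IsReflexive (Localization.AtPrime p) (LocalizedModule p.primeCompl M) ∨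
        2 ≤ depth (Localization.AtPrime p) (LocalizedModule p.primeCompl M)) :
    Module.IsReflexive R M := by
  have h' : ∀ (p : Ideal R) [p.IsPrime],
      Module.IsReflexive (Localization.AtPrime p) (LocalizedModule p.primeCompl M) ∨
        (p ≠ ⊥ ∧ 2 ≤ depth (Localization.AtPrime p) (LocalizedModule p.primeCompl M)) := by
    intro p _
    by_cases hp : p = ⊥
    · exact Or.inl (isReflexive_localization_bot M p hp)
    · rcases h p with h1 | h1
      · exact Or.inl h1
      · exact Or.inr ⟨hp, h1⟩
  -- injectivity
  have hK : Subsingleton (LinearMap.ker (Module.Dual.eval R M)) := by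
    by_contra hK
    rw [not_subsingleton_iff_nontrivial] at hK
    obtain ⟨p, hp⟩ := associatedPrimes.nonempty R (LinearMap.ker (Module.Dual.eval R M))
    have hpM : p ∈ associatedPrimes R M :=
      IsAssociatedPrime.map_of_injective (LinearMap.ker (Module.Dual.eval R M)).subtype hp
        (Submodule.injective_subtype _)
    rw [AssociatedPrimes.mem_iff, isAssociatedPrime_iff] at hp
    obtain ⟨hpprime, x, hx⟩ := hp
    rcases h' p with h1 | ⟨-, h1⟩
    · obtain ⟨s, hs, hsx⟩ := ReflexiveLoc.exists_smul_eq_zero_of_eval_eq_zero p.primeCompl
        (Localization.AtPrime p) (LocalizedModule.mkLinearMap p.primeCompl M) x.1 x.2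
      have hsp : s ∈ p := by
        rw [hx, Submodule.mem_colon_singleton, Submodule.mem_bot]
        exact Subtype.ext hsx
      exact hs hsp
    · obtain ⟨_, h0⟩ := depth_localization_eq_zero_of_mem_associatedPrimes M p hpM
      rw [h0] at h1
      exact absurd h1 (by simp)
  have hinj : Function.Injective (Module.Dual.eval R M) := by
    rw [← LinearMap.ker_eq_bot]
    exact (Submodule.subsingleton_iff_eq_bot).mp hK
  -- surjectivity
  have hC : Subsingleton
      (Module.Dual R (Module.Dual R M) ⧸ LinearMap.range (Module.Dual.eval R M)) := by
    by_contra hC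
    rw [not_subsingleton_iff_nontrivial] at hC
    obtain ⟨p, hp⟩ := associatedPrimes.nonempty R
      (Module.Dual R (Module.Dual R M) ⧸ LinearMap.range (Module.Dual.eval R M))
    have hp0 := hp
    rw [AssociatedPrimes.mem_iff, isAssociatedPrime_iff] at hp
    obtain ⟨hpprime, c, hc⟩ := hp
    obtain ⟨φ, rfl⟩ := Submodule.Quotient.mk_surjective _ c
    rcases h' p with h1 | ⟨hpbot, h1⟩
    · obtain ⟨s, hs, hsx⟩ := ReflexiveLoc.exists_smul_mem_range_eval p.primeCompl
        (Localization.AtPrime p) (LocalizedModule.mkLinearMap p.primeCompl M) φ
      have hsp : s ∈ p := by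
        rw [hc, Submodule.mem_colon_singleton, Submodule.mem_bot, ← Submodule.Quotient.mk_smul,
          Submodule.Quotient.mk_eq_zero]
        exact hsx
      exact hs hsp
    · obtain ⟨_, h0⟩ := depth_localization_eq_zero_of_mem_associatedPrimes _ p hp0
      have hpR : 1 ≤ idealDepth p R := one_le_idealDepth_self_of_ne_bot p hpbot
      have hDD : 1 ≤ idealDepth p (Module.Dual R (Module.Dual R M)) :=
        one_le_idealDepth_dual p hpR _
      have hDDp : 1 ≤ depth (Localization.AtPrime p)
          (LocalizedModule p.primeCompl (Module.Dual R (Module.Dual R M))) :=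
        le_trans hDD (idealDepth_le_depth_localization p _ p le_rfl)
      have hex := localized_exact p (Module.Dual.eval R M)
        (LinearMap.range (Module.Dual.eval R M)).mkQ (LinearMap.exact_map_mkQ_range _)
      have h3 := min_le_idealDepth_X₃ (maximalIdeal (Localization.AtPrime p))
        (LocalizedModule.map p.primeCompl (Module.Dual.eval R M))
        (LocalizedModule.map p.primeCompl (LinearMap.range (Module.Dual.eval R M)).mkQ)
        (LocalizedModule.map_injective p.primeCompl _ hinj)
        (LocalizedModule.map_surjective p.primeCompl _ (Submodule.mkQ_surjective _)) hex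
      have h4 : (1 : ℕ∞) ≤ min (idealDepth (maximalIdeal (Localization.AtPrime p))
          (LocalizedModule p.primeCompl (Module.Dual R (Module.Dual R M))))
          (idealDepth (maximalIdeal (Localization.AtPrime p)) (LocalizedModule p.primeCompl M) - 1) := by
        rw [le_min_iff]
        refine ⟨hDDp, ?_⟩
        have : (2 : ℕ∞) - 1 ≤ idealDepth (maximalIdeal (Localization.AtPrime p))
            (LocalizedModule p.primeCompl M) - 1 := tsub_le_tsub_right h1 1
        refine le_trans ?_ this
        exact le_of_eq (by rfl)
      have h5 := le_trans h4 h3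
      change 1 ≤ depth _ _ at h5
      rw [h0] at h5
      exact absurd h5 (by simp)
  constructor
  refine ⟨hinj, ?_⟩
  rw [← LinearMap.range_eq_top]
  exact (Submodule.Quotient.subsingleton_iff).mp hC

end domain

end Groth.Agent.Lib.helper26.Depth
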