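import Mathlib
import Groth.Agent.Lib.Helper26.ReflexiveCrit
import Groth.Agent.Lib.Helper24.FlatDepth2
import Groth.Agent.Lib.Helper8.LocalFlat

/-!
# Flatness from depth of the closed fibre, part 1 (helper26)
-/

set_option autoImplicit false
universe u

open CategoryTheory Abelian RingTheory.Sequence LocCoh IsLocalRing TensorProduct
open scoped Pointwise

namespace Groth.Agent.Lib.helper26.FlatCrit

open Groth.Agent.Lib.helper26.Depth

section torsion

variable {B : Type u} [CommRing B] [IsNoetherianRing B]

omit [IsNoetherianRing B] in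
/-- no `J`-torsion from `depth_J ≥ 1`. -/
theorem eq_zero_of_annihilated (J : Ideal B) (N : Type u) [AddCommGroup N] [Module B N]
    [Module.Finite B N] (h : 1 ≤ idealDepth J N) (x : N) (hx : ∀ j ∈ J, j • x = 0) : x = 0 := by
  by_contra hx0
  have hIN : J • (⊤ : Submodule B N) ≠ ⊤ := by
    intro htop
    obtain ⟨r, hr, hr0⟩ := Submodule.exists_sub_one_mem_and_smul_eq_zero_of_fg_of_le_smul J
      (⊤ : Submodule B N) Module.Finite.fg_top (le_of_eq htop.symm)
    apply hx0
    have h1 : r • x = 0 := hr0 x Submodule.mem_top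
    have h2 : (r - 1) • x = 0 := hx _ hr
    rw [sub_smul, h1, one_smul, zero_sub, neg_eq_zero] at h2
    exact h2
  have h0 := idealDepth_eq_zero_of_annihilated J N hIN x hx0 hx
  rw [h0] at h
  exact absurd h (by simp)

/-- `depth_J ≥ 1` from no `J`-torsion. -/
theorem one_le_idealDepth_of_forall (J : Ideal B) (N : Type u) [AddCommGroup N] [Module B N]
    [Module.Finite B N] (h : ∀ x : N, (∀ j ∈ J, j • x = 0) → x = 0) : 1 ≤ idealDepth J N := by
  by_contra hlt
  have h0 : idealDepth J N = 0 := by
    rw [not_le] at hlt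
    exact Order.lt_one_iff.mp hlt
  obtain ⟨x, hx0, hx⟩ := exists_ne_zero_annihilated_of_idealDepth_eq_zero J N h0
  exact hx0 (h x hx)

/-- an element of a module of positive `J`-depth which is locally zero off `V(J)` is zero. -/
theorem eq_zero_of_locally_torsion (J : Ideal B) (N : Type u) [AddCommGroup N] [Module B N]
    [Module.Finite B N] (hN : 1 ≤ idealDepth J N) (x : N)
    (hx : ∀ q : Ideal B, q.IsPrime → ¬ J ≤ q → ∃ s, s ∉ q ∧ s • x = 0) : x = 0 := by
  have hsub : Subsingleton (Submodule.span B {x}) := by
    apply subsingleton_of_torsion_of_one_le_idealDepth J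
    · rintro ⟨y, hy⟩ q hq hJq
      obtain ⟨s, hs, hsx⟩ := hx q hq hJq
      refine ⟨s, hs, Subtype.ext ?_⟩
      obtain ⟨b, rfl⟩ := Submodule.mem_span_singleton.mp hy
      change s • b • x = 0
      rw [smul_comm, hsx, smul_zero]
    · exact one_le_idealDepth_of_injective J (Submodule.span B {x}).subtype
        (Submodule.span B {x}).injective_subtype hN
  have : (⟨x, Submodule.mem_span_singleton_self x⟩ : Submodule.span B {x}) = 0 :=
    Subsingleton.elim _ _
  exact congrArg Subtype.val this

end torsion

end Groth.Agent.Lib.helper26.FlatCrit
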