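import Mathlib
import Groth.Agent.Lib.Helper26.FlatCrit1

/-!
# Flatness from depth of the closed fibre, part 2 (helper26)
-/

set_option autoImplicit false
universe u

open CategoryTheory Abelian RingTheory.Sequence LocCoh IsLocalRing TensorProduct
open scoped Pointwise

namespace Groth.Agent.Lib.helper26.FlatCrit

open Groth.Agent.Lib.helper26.Depth

section localvanish

variable {A B : Type u} [CommRing A] [CommRing B] [Algebra A B]

/-- If `M_q` is flat over `A`, the kernel of `M ⊗ L → M ⊗ K` (for `L ↪ K`) vanishes at `q`. -/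
theorem exists_smul_eq_zero_of_flat_localization (q : Ideal B) [q.IsPrime] (M : Type u)
    [AddCommGroup M] [Module B M] [Module A M] [IsScalarTower A B M]
    (hflat : Module.Flat A (LocalizedModule q.primeCompl M))
    {L K : Type u} [AddCommGroup L] [Module A L] [AddCommGroup K] [Module A K]
    (f : L →ₗ[A] K) (hf : Function.Injective f) (x : M ⊗[A] L) (hx : f.lTensor M x = 0) :
    ∃ s : B, s ∉ q ∧ s • x = 0 := by
  set g := LocalizedModule.mkLinearMap q.primeCompl M with hg
  have h1 : Function.Injective (f.lTensor (LocalizedModule q.primeCompl M)) :=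
    Module.Flat.lTensor_preserves_injective_linearMap f hf
  have h2 : (g.restrictScalars A).rTensor L x = 0 := by
    apply h1
    rw [map_zero, ← LinearMap.comp_apply, LinearMap.lTensor_comp_rTensor,
      ← LinearMap.rTensor_comp_lTensor, LinearMap.comp_apply, hx, map_zero]
  have : IsLocalizedModule q.primeCompl (AlgebraTensorModule.rTensor A L g) := inferInstance
  have h3 : AlgebraTensorModule.rTensor A L g x = AlgebraTensorModule.rTensor A L g 0 := by
    rw [map_zero]
    exact h2
  obtain ⟨c, hc⟩ := IsLocalizedModule.exists_of_eq (S := q.primeCompl) h3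
  refine ⟨c.1, c.2, ?_⟩
  rw [smul_zero] at hc
  exact hc

end localvanish

section fibre

variable (A B : Type u) [CommRing A] [CommRing B] [IsLocalRing A] [IsNoetherianRing B]
  [Algebra A B]
  (M : Type u) [AddCommGroup M] [Module B M] [Module A M] [IsScalarTower A B M]
  [Module.Finite B M]

/-- `M ⊗ L` is a finite product of copies of the closed fibre when `L` is killed by `m`. -/
theorem exists_equiv_pi_fibre (L : Type u) [AddCommGroup L] [Module A L] [Module.Finite A L]
    (hL : ∀ a ∈ maximalIdeal A, ∀ l : L, a • l = 0) :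
    ∃ r : ℕ, Nonempty ((M ⊗[A] L) ≃ₗ[B]
      (Fin r → M ⧸ ((maximalIdeal A).map (algebraMap A B)) • (⊤ : Submodule B M))) := by
  have htors : Module.IsTorsionBySet A L (maximalIdeal A : Set A) := by
    intro l a
    exact hL a.1 a.2 l
  let _ : Module (A ⧸ maximalIdeal A) L := htors.module
  have : IsScalarTower A (A ⧸ maximalIdeal A) L := htors.isScalarTower
  let _ : Field (A ⧸ maximalIdeal A) := Ideal.Quotient.field (maximalIdeal A)
  have : Module.Finite (A ⧸ maximalIdeal A) L := Module.Finite.of_restrictScalars_finite A _ L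
  let b := Module.finBasis (A ⧸ maximalIdeal A) L
  let e : L ≃ₗ[A] (Fin (Module.finrank (A ⧸ maximalIdeal A) L) → A ⧸ maximalIdeal A) :=
    b.equivFun.restrictScalars A
  refine ⟨Module.finrank (A ⧸ maximalIdeal A) L, ⟨?_⟩⟩
  exact (TensorProduct.AlgebraTensorModule.congr (LinearEquiv.refl B M) e) ≪≫ₗ
    (TensorProduct.piRight A B M (fun _ : Fin (Module.finrank (A ⧸ maximalIdeal A) L) =>
      A ⧸ maximalIdeal A)) ≪≫ₗ
    (LinearEquiv.piCongrRight (fun _ =>
      Groth.Agent.Lib.Helper24.FlatDepth.tensorQuotEquiv A B M (maximalIdeal A)))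

theorem one_le_idealDepth_tensor (J : Ideal B)
    (h1 : 1 ≤ idealDepth J (M ⧸ ((maximalIdeal A).map (algebraMap A B)) • (⊤ : Submodule B M)))
    (L : Type u) [AddCommGroup L] [Module A L] [Module.Finite A L]
    (hL : ∀ a ∈ maximalIdeal A, ∀ l : L, a • l = 0) :
    1 ≤ idealDepth J (M ⊗[A] L) := by
  have : Module.Finite B (M ⊗[A] L) := Groth.Agent.Lib.helper8.LocalFlat.finite_tensor_left M L
  obtain ⟨r, ⟨Φ⟩⟩ := exists_equiv_pi_fibre A B M L hL
  apply one_le_idealDepth_of_forall
  intro x hx
  apply Φ.injective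
  rw [map_zero]
  funext i
  apply eq_zero_of_annihilated J _ h1
  intro j hj
  have := congrFun (congrArg Φ (hx j hj)) i
  rw [map_smul, map_zero] at this
  exact this

end fibre

end Groth.Agent.Lib.helper26.FlatCrit
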