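import Mathlib
import Groth.Agent.Lib.Helper26.FlatCrit2

/-!
# Flatness from depth of the closed fibre, part 3 (helper26)

`A → B` local hom of Noetherian local rings, `M` a finite `B`-module flat over `A` off `V(J)`.
If `depth_J (M/mM) ≥ 1` then `M` is flat over `A`.
-/

set_option autoImplicit false
universe u

open CategoryTheory Abelian RingTheory.Sequence LocCoh IsLocalRing TensorProduct Function
open scoped Pointwise

namespace Groth.Agent.Lib.helper26.FlatCrit

open Groth.Agent.Lib.helper26.Depth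
open Groth.Agent.Lib.helper8.LocalFlat

section step

variable {A : Type u} [CommRing A] [IsNoetherianRing A]
  (M : Type u) [AddCommGroup M] [Module A M]

/-- Square-zero step (after helper19's `IdeallySep.step`). -/
theorem step (𝔪 : Ideal A)
    (hcore : ∀ (L K : Type u) [AddCommGroup L] [Module A L] [Module.Finite A L] [AddCommGroup K]
      [Module A K] (f : L →ₗ[A] K),
      (∀ a ∈ 𝔪, ∀ l : L, a • l = 0) → Injective f → Injective (f.lTensor M))
    (L₁ L₂ : Ideal A) (hJL : 𝔪 * L₂ ≤ L₁) (hL2J : L₂ ≤ 𝔪)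
    [Module.Flat (A ⧸ L₂) ((A ⧸ L₂) ⊗[A] M)] :
    Module.Flat (A ⧸ L₁) ((A ⧸ L₁) ⊗[A] M) := by
  classical
  set L : Ideal (A ⧸ L₁) := L₂.map (Ideal.Quotient.mk L₁) with hLdef
  have hL2 : L ^ 2 = ⊥ := by
    rw [hLdef, ← Ideal.map_pow, eq_bot_iff]
    calc Ideal.map (Ideal.Quotient.mk L₁) (L₂ ^ 2) ≤ Ideal.map (Ideal.Quotient.mk L₁) L₁ := by
          apply Ideal.map_mono
          rw [pow_two]
          exact (Ideal.mul_mono_left hL2J).trans hJL
      _ = ⊥ := Ideal.map_quotient_self L₁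
  have hLnil : IsNilpotent L := ⟨2, hL2⟩
  have htors : ∀ a ∈ 𝔪, ∀ y : ↥L, a • y = 0 := by
    intro a ha y
    obtain ⟨y, hyL⟩ := y
    obtain ⟨b, hb, rfl⟩ := (Ideal.mem_map_iff_of_surjective _ Ideal.Quotient.mk_surjective).mp hyL
    apply Subtype.ext
    change a • (Ideal.Quotient.mk L₁ b) = 0
    rw [Algebra.smul_def]
    change Ideal.Quotient.mk L₁ a * Ideal.Quotient.mk L₁ b = 0
    rw [← map_mul, Ideal.Quotient.eq_zero_iff_mem]
    exact hJL (Ideal.mul_mem_mul ha hb)
  have hmapI : ∀ a ∈ L₂, algebraMap A ((A ⧸ L₁) ⧸ L) a = 0 := by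
    intro a ha
    have : algebraMap A ((A ⧸ L₁) ⧸ L) a = Ideal.Quotient.mk L (Ideal.Quotient.mk L₁ a) := rfl
    rw [this, Ideal.Quotient.eq_zero_iff_mem]
    exact Ideal.mem_map_of_mem _ ha
  let _ : Algebra (A ⧸ L₂) ((A ⧸ L₁) ⧸ L) :=
    (Ideal.Quotient.lift L₂ (algebraMap A ((A ⧸ L₁) ⧸ L)) hmapI).toAlgebra
  have : IsScalarTower A (A ⧸ L₂) ((A ⧸ L₁) ⧸ L) := IsScalarTower.of_algebraMap_eq (fun x => rfl)
  have : Module.Flat ((A ⧸ L₁) ⧸ L) (((A ⧸ L₁) ⧸ L) ⊗[A ⧸ L₁] ((A ⧸ L₁) ⊗[A] M)) := by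
    let e2 := AlgebraTensorModule.cancelBaseChange A (A ⧸ L₂) ((A ⧸ L₁) ⧸ L) ((A ⧸ L₁) ⧸ L) M
    let e3 := AlgebraTensorModule.cancelBaseChange A (A ⧸ L₁) ((A ⧸ L₁) ⧸ L) ((A ⧸ L₁) ⧸ L) M
    exact Module.Flat.of_linearEquiv (e3 ≪≫ₗ e2.symm)
  refine flat_of_isNilpotent (R := A ⧸ L₁) L ((A ⧸ L₁) ⊗[A] M) ?_ hLnil
  suffices hmain : Injective ((L.subtype.restrictScalars A).lTensor M) by
    have hr : Injective ((L.subtype.restrictScalars A).rTensor M) :=
      (LinearMap.lTensor_inj_iff_rTensor_inj M _).mp hmain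
    intro x y hxy
    apply (AlgebraTensorModule.cancelBaseChange A (A ⧸ L₁) (A ⧸ L₁) L M).injective
    apply hr
    rw [cancelBaseChange_rTensor, cancelBaseChange_rTensor, hxy]
  have hfin : Module.Finite A ↥L := Module.Finite.trans (A ⧸ L₁) ↥L
  exact hcore ↥L (A ⧸ L₁) (L.subtype.restrictScalars A) htors
    (by intro a b hab; exact Subtype.ext hab)

end step

section main

variable (A B : Type u) [CommRing A] [CommRing B] [IsNoetherianRing A] [IsNoetherianRing B]
  [IsLocalRing A] [IsLocalRing B] [Algebra A B] [IsLocalHom (algebraMap A B)]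

/-- **Flatness from the depth of the closed fibre.** -/
theorem flat_of_one_le_idealDepth_fibre (J : Ideal B)
    (M : Type u) [AddCommGroup M] [Module B M] [Module A M] [IsScalarTower A B M]
    [Module.Finite B M]
    (hU : ∀ q : PrimeSpectrum B, ¬ J ≤ q.asIdeal →
      Module.Flat A (LocalizedModule q.asIdeal.primeCompl M))
    (h1 : 1 ≤ idealDepth J
      (M ⧸ ((maximalIdeal A).map (algebraMap A B)) • (⊤ : Submodule B M))) :
    Module.Flat A M := by
  have hcore : ∀ (L K : Type u) [AddCommGroup L] [Module A L] [Module.Finite A L] [AddCommGroup K]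
      [Module A K] (f : L →ₗ[A] K),
      (∀ a ∈ maximalIdeal A, ∀ l : L, a • l = 0) → Injective f → Injective (f.lTensor M) := by
    intro L K _ _ _ _ _ f hL hf
    rw [injective_iff_map_eq_zero]
    intro x hx
    have : Module.Finite B (M ⊗[A] L) := finite_tensor_left M L
    apply eq_zero_of_locally_torsion J (M ⊗[A] L) (one_le_idealDepth_tensor A B M J h1 L hL) x
    intro q hq hJq
    exact exists_smul_eq_zero_of_flat_localization q M (hU ⟨q, hq⟩ hJq) f hf x hx
  have hI : (maximalIdeal A).map (algebraMap A B) ≤ Ideal.jacobson ⊥ := by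
    rw [IsLocalRing.jacobson_eq_maximalIdeal ⊥ bot_ne_top]
    exact IsLocalRing.map_maximalIdeal_le (algebraMap A B)
  have key : ∀ k : ℕ, Module.Flat (A ⧸ maximalIdeal A ^ (k + 1))
      ((A ⧸ maximalIdeal A ^ (k + 1)) ⊗[A] M) := by
    intro k
    induction k with
    | zero =>
      have : Module.Flat (A ⧸ maximalIdeal A) ((A ⧸ maximalIdeal A) ⊗[A] M) := by
        let _ : Field (A ⧸ maximalIdeal A) := Ideal.Quotient.field _
        infer_instance
      refine step M (maximalIdeal A) hcore (maximalIdeal A ^ (0 + 1)) (maximalIdeal A) ?_ le_rfl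
      rw [zero_add, pow_one]
      exact Ideal.mul_le_left
    | succ k ih =>
      refine step M (maximalIdeal A) hcore (maximalIdeal A ^ (k + 1 + 1)) (maximalIdeal A ^ (k + 1))
        ?_ (Ideal.pow_le_self (by omega))
      rw [pow_succ' (maximalIdeal A) (k + 1)]
  apply flat_of_forall_flat_quotient_pow (maximalIdeal A) hI
  intro k hk
  obtain ⟨k, rfl⟩ : ∃ k', k = k' + 1 := ⟨k - 1, by omega⟩
  exact key k

end main

end Groth.Agent.Lib.helper26.FlatCrit
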