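import Mathlib
import Groth.Agent.Lib.Helper26.FlatCrit3

/-!
# Depth of infinitesimal neighbourhoods of the closed fibre (helper26)
-/

set_option autoImplicit false
universe u

open CategoryTheory Abelian RingTheory.Sequence LocCoh IsLocalRing TensorProduct Function
open scoped Pointwise

namespace Groth.Agent.Lib.helper26.FlatCrit

open Groth.Agent.Lib.helper26.Depth
open Groth.Agent.Lib.helper8.LocalFlat

section

variable (A B : Type u) [CommRing A] [CommRing B] [IsLocalRing A] [IsNoetherianRing B]
  [Algebra A B]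
  (M : Type u) [AddCommGroup M] [Module B M] [Module A M] [IsScalarTower A B M]
  [Module.Finite B M] [Module.Flat A M]

/-- For `M` flat over `A`: `depth_J (M ⊗ L) ≥ depth_J (M ⊗ k)` for `L` of finite length. -/
theorem le_idealDepth_tensor_of_isFiniteLength (J : Ideal B) (k : ℕ∞)
    (hk : k ≤ idealDepth J (M ⊗[A] (A ⧸ maximalIdeal A)))
    (L : Type u) [AddCommGroup L] [Module A L] (hL : IsFiniteLength A L) :
    k ≤ idealDepth J (M ⊗[A] L) := by
  induction hL with
  | @of_subsingleton L _ _ hLs =>
    have hsub : Subsingleton (Submodule B (M ⊗[A] L)) :=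
      (Submodule.subsingleton_iff B).mpr inferInstance
    rw [idealDepth_eq_top_of_smul_top_eq_top J (M ⊗[A] L) (Subsingleton.elim _ _)]
    exact le_top
  | @of_simple_quotient L _ _ Q hsimple hQ ih =>
    have hLfl : IsFiniteLength A L := IsFiniteLength.of_simple_quotient hQ
    have hLn : IsNoetherian A L := (isFiniteLength_iff_isNoetherian_isArtinian.mp hLfl).1
    have hQn : IsNoetherian A Q := (isFiniteLength_iff_isNoetherian_isArtinian.mp hQ).1
    have hfL : Module.Finite A L := inferInstance
    have hfQ : Module.Finite A Q := inferInstance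
    have hfLQ : Module.Finite A (L ⧸ Q) := inferInstance
    have : Module.Finite B (M ⊗[A] L) := finite_tensor_left M L
    have : Module.Finite B (M ⊗[A] Q) := finite_tensor_left M Q
    have : Module.Finite B (M ⊗[A] (L ⧸ Q)) := finite_tensor_left M (L ⧸ Q)
    let f : M ⊗[A] Q →ₗ[B] M ⊗[A] L := TensorProduct.AlgebraTensorModule.lTensor B M Q.subtype
    let g : M ⊗[A] L →ₗ[B] M ⊗[A] (L ⧸ Q) := TensorProduct.AlgebraTensorModule.lTensor B M Q.mkQ
    have hf : Function.Injective f :=
      Module.Flat.lTensor_preserves_injective_linearMap Q.subtype Q.injective_subtype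
    have hg : Function.Surjective g :=
      LinearMap.lTensor_surjective M (Submodule.mkQ_surjective Q)
    have hex : Function.Exact f g :=
      lTensor_exact M (LinearMap.exact_subtype_mkQ Q) (Submodule.mkQ_surjective Q)
    obtain ⟨I, hI, ⟨e⟩⟩ := isSimpleModule_iff_quot_maximal.mp hsimple
    obtain rfl : I = maximalIdeal A := IsLocalRing.eq_maximalIdeal hI
    let e' : M ⊗[A] (L ⧸ Q) ≃ₗ[B] M ⊗[A] (A ⧸ maximalIdeal A) :=
      TensorProduct.AlgebraTensorModule.congr (LinearEquiv.refl B M) e
    have h2 : k ≤ idealDepth J (M ⊗[A] (L ⧸ Q)) := by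
      rw [idealDepth_congr e']
      exact hk
    exact le_trans (le_min ih h2) (min_le_idealDepth_X₂ J f g hf hg hex)

end

section main

variable (A B : Type u) [CommRing A] [CommRing B] [IsNoetherianRing A] [IsNoetherianRing B]
  [IsLocalRing A] [IsLocalRing B] [Algebra A B] [IsLocalHom (algebraMap A B)]

theorem two_le_idealDepth_quot_pow (J : Ideal B)
    (M : Type u) [AddCommGroup M] [Module B M] [Module A M] [IsScalarTower A B M]
    [Module.Finite B M]
    (hU : ∀ q : PrimeSpectrum B, ¬ J ≤ q.asIdeal →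
      Module.Flat A (LocalizedModule q.asIdeal.primeCompl M))
    (h2 : 2 ≤ idealDepth J
      (M ⧸ ((maximalIdeal A).map (algebraMap A B)) • (⊤ : Submodule B M))) (n : ℕ) :
    2 ≤ idealDepth J
      (M ⧸ (((maximalIdeal A).map (algebraMap A B)) ^ (n + 1)) • (⊤ : Submodule B M)) := by
  have hflat : Module.Flat A M :=
    flat_of_one_le_idealDepth_fibre A B J M hU (le_trans (by norm_num) h2)
  have hk : 2 ≤ idealDepth J (M ⊗[A] (A ⧸ maximalIdeal A)) := by
    rw [idealDepth_congr
      (Groth.Agent.Lib.Helper24.FlatDepth.tensorQuotEquiv A B M (maximalIdeal A))]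
    exact h2
  have hfl0 := Groth.Agent.Lib.Helper24.FlatDepth.isFiniteLength_quot_pow A A (n + 1)
  have hfl : IsFiniteLength A (A ⧸ maximalIdeal A ^ (n + 1)) :=
    (Submodule.quotEquivOfEq _ _ (by rw [smul_eq_mul, Ideal.mul_top])).isFiniteLength hfl0
  have h := le_idealDepth_tensor_of_isFiniteLength A B M J 2 hk (A ⧸ maximalIdeal A ^ (n + 1)) hfl
  rw [idealDepth_congr
    (Groth.Agent.Lib.Helper24.FlatDepth.tensorQuotEquiv A B M (maximalIdeal A ^ (n + 1))),
    Ideal.map_pow] at h
  exact h

end main

end Groth.Agent.Lib.helper26.FlatCrit
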