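import Mathlib
import Groth.Agent.Lib.Helper26.FlatCrit4
import Groth.Agent.Lib.Helper25.TensorChase
import Groth.Agent.Lib.Helper17.FlatSES

/-!
# Tools for four-term sequences with flat cokernel (helper26)
-/

set_option autoImplicit false
universe u

open CategoryTheory Abelian RingTheory.Sequence LocCoh IsLocalRing TensorProduct Function
open scoped Pointwise

namespace Groth.Agent.Lib.helper26.FlatCrit

open Groth.Agent.Lib.helper26.Depth
open Groth.Agent.Lib.helper8.LocalFlat

section T1

variable {A B : Type u} [CommRing A] [CommRing B] [Algebra A B]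

/-- Localizing a `B`-module flat over `A` (at a submonoid of `B`) keeps it flat over `A`. -/
theorem flat_localizedModule (S : Submonoid B) (E : Type u) [AddCommGroup E] [Module B E]
    [Module A E] [IsScalarTower A B E] [Module.Flat A E] :
    Module.Flat A (LocalizedModule S E) := by
  rw [Module.Flat.iff_lTensor_injective']
  intro I
  set g := LocalizedModule.mkLinearMap S E with hg
  have h1 : Injective (AlgebraTensorModule.lTensor B E I.subtype) :=
    Module.Flat.lTensor_preserves_injective_linearMap I.subtype I.injective_subtype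
  have h2 := IsLocalizedModule.map_injective S (AlgebraTensorModule.rTensor A I g)
    (AlgebraTensorModule.rTensor A A g) (AlgebraTensorModule.lTensor B E I.subtype) h1
  rw [IsLocalizedModule.map_lTensor] at h2
  exact h2

end T1

section T2

variable {A : Type u} [CommRing A]
  {F E0 E1 G : Type u} [AddCommGroup F] [Module A F] [AddCommGroup E0] [Module A E0]
  [AddCommGroup E1] [Module A E1] [AddCommGroup G] [Module A G]
  (f : F →ₗ[A] E0) (u : E0 →ₗ[A] E1) (v : E1 →ₗ[A] G)

/-- For `0 → F → E⁰ → E¹ → G → 0` exact with `E¹`, `G` flat, the sequence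
`0 → F ⊗ L → E⁰ ⊗ L → E¹ ⊗ L` is exact for all `L`. -/
theorem rTensor_exact_of_flat_coker (hf : Injective f) (hfu : Exact f u) (huv : Exact u v)
    (hv : Surjective v) [Module.Flat A E1] [Module.Flat A G]
    (L : Type u) [AddCommGroup L] [Module A L] :
    Injective (f.rTensor L) ∧ Exact (f.rTensor L) (u.rTensor L) := by
  set I := LinearMap.ker v with hI
  have hex1 : Exact I.subtype v := LinearMap.exact_subtype_ker_map v
  have hIflat : Module.Flat A I :=
    Groth.Agent.Lib.helper17.FlatSES.flat_left_of_exact I.subtype v I.injective_subtype hv hex1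
  let u' : E0 →ₗ[A] I := u.codRestrict I (fun x => by
    rw [hI, LinearMap.mem_ker]
    exact huv.apply_apply_eq_zero x)
  have hu'u : I.subtype ∘ₗ u' = u := by
    ext x
    rfl
  have hu' : Surjective u' := by
    rintro ⟨y, hy⟩
    obtain ⟨x, rfl⟩ := (huv y).mp hy
    exact ⟨x, rfl⟩
  have hex0 : Exact f u' := by
    intro x
    rw [← hfu x]
    constructor
    · intro h
      have := congrArg Subtype.val h
      exact this
    · intro h
      exact Subtype.ext h
  have hιL : Injective (I.subtype.rTensor L) :=
    (LinearMap.lTensor_inj_iff_rTensor_inj L _).mp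
      (LinearMap.lTensor_injective_of_exact_of_flat v hv I.subtype I.injective_subtype hex1 L)
  have hfL : Injective (f.rTensor L) :=
    (LinearMap.lTensor_inj_iff_rTensor_inj L _).mp
      (LinearMap.lTensor_injective_of_exact_of_flat u' hu' f hf hex0 L)
  refine ⟨hfL, ?_⟩
  have hexL : Exact (f.rTensor L) (u'.rTensor L) := rTensor_exact L hex0 hu'
  intro x
  rw [← hexL x, ← hu'u, LinearMap.rTensor_comp, LinearMap.comp_apply]
  constructor
  · intro h
    apply hιL
    rw [h, map_zero]
  · intro h
    rw [h, map_zero]

end T2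

section T3

variable {A B : Type u} [CommRing A] [CommRing B] [Algebra A B] (S : Submonoid B)
  {X Y Z : Type u} [AddCommGroup X] [Module B X] [Module A X] [IsScalarTower A B X]
  [AddCommGroup Y] [Module B Y] [Module A Y] [IsScalarTower A B Y]
  [AddCommGroup Z] [Module B Z] [Module A Z] [IsScalarTower A B Z]
  (L : Type u) [AddCommGroup L] [Module A L]

/-- the `B`-linear localized map. -/
noncomputable abbrev locMap (φ : X →ₗ[B] Y) : LocalizedModule S X →ₗ[B] LocalizedModule S Y :=
  IsLocalizedModule.map S (LocalizedModule.mkLinearMap S X) (LocalizedModule.mkLinearMap S Y) φ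

lemma locMap_comm (φ : X →ₗ[B] Y) (x : X ⊗[A] L) :
    ((locMap S φ).restrictScalars A).rTensor L
        (((LocalizedModule.mkLinearMap S X).restrictScalars A).rTensor L x) =
      ((LocalizedModule.mkLinearMap S Y).restrictScalars A).rTensor L
        ((φ.restrictScalars A).rTensor L x) := by
  induction x using TensorProduct.induction_on with
  | zero => simp
  | add a b ha hb => simp only [map_add, ha, hb]
  | tmul a l =>
    simp only [LinearMap.rTensor_tmul, LinearMap.coe_restrictScalars]
    rw [IsLocalizedModule.map_apply]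

/-- local vanishing. -/
theorem exists_smul_eq_zero_of_locMap_injective (φ : X →ₗ[B] Y)
    (hinj : Injective (((locMap S φ).restrictScalars A).rTensor L))
    (x : X ⊗[A] L) (hx : (φ.restrictScalars A).rTensor L x = 0) :
    ∃ s ∈ S, s • x = 0 := by
  have h2 : ((LocalizedModule.mkLinearMap S X).restrictScalars A).rTensor L x = 0 := by
    apply hinj
    rw [locMap_comm, hx, map_zero, map_zero]
  have : IsLocalizedModule S
    (AlgebraTensorModule.rTensor A L (LocalizedModule.mkLinearMap S X)) := inferInstance
  have h3 : AlgebraTensorModule.rTensor A L (LocalizedModule.mkLinearMap S X) x =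
      AlgebraTensorModule.rTensor A L (LocalizedModule.mkLinearMap S X) 0 := by
    rw [map_zero]
    exact h2
  obtain ⟨c, hc⟩ := IsLocalizedModule.exists_of_eq (S := S) h3
  refine ⟨c.1, c.2, ?_⟩
  rw [smul_zero] at hc
  exact hc

/-- local exactness. -/
theorem exists_smul_mem_range_of_locMap_exact (φ : X →ₗ[B] Y) (ψ : Y →ₗ[B] Z)
    (hex : Exact (((locMap S φ).restrictScalars A).rTensor L)
      (((locMap S ψ).restrictScalars A).rTensor L))
    (y : Y ⊗[A] L) (hy : (ψ.restrictScalars A).rTensor L y = 0) :
    ∃ s ∈ S, ∃ x : X ⊗[A] L, (φ.restrictScalars A).rTensor L x = s • y := by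
  have h1 : ((locMap S ψ).restrictScalars A).rTensor L
      (((LocalizedModule.mkLinearMap S Y).restrictScalars A).rTensor L y) = 0 := by
    rw [locMap_comm, hy, map_zero]
  obtain ⟨z, hz⟩ := (hex _).mp h1
  have : IsLocalizedModule S
    (AlgebraTensorModule.rTensor A L (LocalizedModule.mkLinearMap S X)) := inferInstance
  have hY : IsLocalizedModule S
    (AlgebraTensorModule.rTensor A L (LocalizedModule.mkLinearMap S Y)) := inferInstance
  obtain ⟨⟨z₀, t⟩, hz₀⟩ := IsLocalizedModule.surj S
    (AlgebraTensorModule.rTensor A L (LocalizedModule.mkLinearMap S X)) z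
  -- t • z = (gX ⊗ L) z₀
  have h2 : AlgebraTensorModule.rTensor A L (LocalizedModule.mkLinearMap S Y) ((t : B) • y) =
      AlgebraTensorModule.rTensor A L (LocalizedModule.mkLinearMap S Y)
        ((φ.restrictScalars A).rTensor L z₀) := by
    have h3 := locMap_comm S L φ z₀
    change _ = ((LocalizedModule.mkLinearMap S Y).restrictScalars A).rTensor L _
    rw [← h3]
    change _ = ((locMap S φ).restrictScalars A).rTensor L
      (AlgebraTensorModule.rTensor A L (LocalizedModule.mkLinearMap S X) z₀)
    rw [← hz₀, map_smul]
    change _ = ((locMap S φ).restrictScalars A).rTensor L ((t : B) • z)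
    have h4 : ((locMap S φ).restrictScalars A).rTensor L ((t : B) • z) =
        (t : B) • ((locMap S φ).restrictScalars A).rTensor L z :=
      map_smul (AlgebraTensorModule.rTensor A L (locMap S φ)) (t : B) z
    rw [h4, hz]
    rfl
  obtain ⟨c, hc⟩ := IsLocalizedModule.exists_of_eq (S := S) h2
  rw [Submonoid.smul_def, Submonoid.smul_def] at hc
  refine ⟨(c : B) * t, S.mul_mem c.2 t.2, (c : B) • z₀, ?_⟩
  rw [mul_smul, hc]
  exact map_smul (AlgebraTensorModule.rTensor A L φ) (c : B) z₀

end T3

section T4

variable (A B : Type u) [CommRing A] [CommRing B] [IsNoetherianRing A] [IsNoetherianRing B]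
  [IsLocalRing A] [IsLocalRing B] [Algebra A B] [IsLocalHom (algebraMap A B)]

/-- local criterion: `K → E → X → 0` exact, `E` flat, `K ⊗ k → E ⊗ k` injective ⟹ `X` flat. -/
theorem flat_of_injective_rTensor_residue {K E : Type u} [AddCommGroup K] [Module A K]
    [AddCommGroup E] [Module A E] [Module.Flat A E]
    (X : Type u) [AddCommGroup X] [Module B X] [Module A X] [IsScalarTower A B X]
    [Module.Finite B X]
    (i : K →ₗ[A] E) (p : E →ₗ[A] X) (hex : Exact i p) (hp : Surjective p)
    (h : Injective (i.rTensor (A ⧸ maximalIdeal A))) : Module.Flat A X := by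
  have h1 : Injective ((maximalIdeal A).subtype.lTensor X) :=
    Groth.Agent.Lib.helper25.lTensor_injective_of_exact i p hex hp (maximalIdeal A).subtype
      (Submodule.mkQ (maximalIdeal A)) (LinearMap.exact_subtype_mkQ _)
      (Submodule.mkQ_surjective _) h
      (Module.Flat.lTensor_preserves_injective_linearMap _ (Submodule.injective_subtype _))
  have h1' : Injective ((maximalIdeal A).subtype.rTensor X) :=
    (LinearMap.lTensor_inj_iff_rTensor_inj X _).mp h1
  have hI : (maximalIdeal A).map (algebraMap A B) ≤ Ideal.jacobson ⊥ := by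
    rw [IsLocalRing.jacobson_eq_maximalIdeal ⊥ bot_ne_top]
    exact IsLocalRing.map_maximalIdeal_le (algebraMap A B)
  have hfield : Module.Flat (A ⧸ maximalIdeal A) ((A ⧸ maximalIdeal A) ⊗[A] X) := by
    let _ : Field (A ⧸ maximalIdeal A) := Ideal.Quotient.field _
    infer_instance
  apply flat_of_forall_flat_quotient_pow (maximalIdeal A) hI
  intro k _
  exact flat_quotient_pow (maximalIdeal A) X h1' k

end T4

end Groth.Agent.Lib.helper26.FlatCrit
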