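import Mathlib
import Groth.Prelude.Def_EGA4b
import Groth.Agent.Lib.Helper24.FlatDepth5
import Groth.Agent.Lib.Helper26.FlatCrit5
import Groth.Agent.Lib.Helper26.DepthLoc
import Groth.Agent.Lib.Helper26.DepthCR

/-!
# Depth of stalks of flat modules via fibre stalks (helper26)

`A → B` Noetherian rings, `E` a finite `B`-module flat over `A`, `q` a prime of `B` over `p`:
`depth E_q = depth A_p + depth (E_q / p E_q)`.
-/

set_option autoImplicit false
universe u

namespace Groth.Agent.Lib.helper26.FibMod

open LocCoh IsLocalRing TensorProduct Groth.Agent.Lib.helper26.Depth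
open Groth.Agent.Lib.Helper24.FlatDepth

variable (A B : Type u) [CommRing A] [CommRing B] [IsNoetherianRing A] [IsNoetherianRing B]
  [Algebra A B] (q : Ideal B) [q.IsPrime]
  (E : Type u) [AddCommGroup E] [Module B E] [Module A E] [IsScalarTower A B E]
  [Module.Finite B E] [Module.Flat A E]

theorem depth_localization_eq_add :
    depth (Localization.AtPrime q) (LocalizedModule q.primeCompl E) =
      depth (Localization.AtPrime (q.comap (algebraMap A B)))
        (Localization.AtPrime (q.comap (algebraMap A B))) +
      idealDepth (q.map (algebraMap B (EGA4.FibLocRing A B q))) (EGA4.FibLocMod A B q E) := by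
  set p := q.comap (algebraMap A B) with hp
  have hlo : q.LiesOver p := ⟨rfl⟩
  let _ : Algebra (Localization.AtPrime p) (Localization.AtPrime q) :=
    Localization.AtPrime.algebraOfLiesOver p q
  have hloc : IsLocalHom (algebraMap (Localization.AtPrime p) (Localization.AtPrime q)) :=
    Localization.isLocalHom_localRingHom _ q (algebraMap A B) Ideal.LiesOver.over
  let N := LocalizedModule q.primeCompl E
  let _ : Module (Localization.AtPrime p) N :=
    Module.compHom N (algebraMap (Localization.AtPrime p) (Localization.AtPrime q))
  have hst : IsScalarTower (Localization.AtPrime p) (Localization.AtPrime q) N :=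
    IsScalarTower.of_algebraMap_smul fun r x => rfl
  have hst2 : IsScalarTower A (Localization.AtPrime p) N := by
    refine IsScalarTower.of_algebraMap_smul fun r x => ?_
    change (algebraMap (Localization.AtPrime p) (Localization.AtPrime q)
      (algebraMap A (Localization.AtPrime p) r)) • x = r • x
    rw [← IsScalarTower.algebraMap_apply A (Localization.AtPrime p) (Localization.AtPrime q),
      IsScalarTower.algebraMap_apply A B (Localization.AtPrime q), algebraMap_smul, algebraMap_smul]
  have hflatA : Module.Flat A N := Groth.Agent.Lib.helper26.FlatCrit.flat_localizedModule q.primeCompl E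
  have hflat : Module.Flat (Localization.AtPrime p) N :=
    (Module.flat_iff_of_isLocalization (Localization.AtPrime p) p.primeCompl N).mpr hflatA
  have hfin : Module.Finite (Localization.AtPrime q) N := inferInstance
  have h := depth_tensor' (Localization.AtPrime p) (Localization.AtPrime q) N (Localization.AtPrime p)
  have e1 : depth (Localization.AtPrime q) (N ⊗[Localization.AtPrime p] Localization.AtPrime p) =
      depth (Localization.AtPrime q) N :=
    idealDepth_congr (I := maximalIdeal (Localization.AtPrime q))
      (TensorProduct.AlgebraTensorModule.rid (Localization.AtPrime p) (Localization.AtPrime q) N)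
  rw [e1] at h
  have hI : (maximalIdeal (Localization.AtPrime p)).map
      (algebraMap (Localization.AtPrime p) (Localization.AtPrime q)) =
      p.map (algebraMap A (Localization.AtPrime q)) := by
    rw [← Localization.AtPrime.map_eq_maximalIdeal, Ideal.map_map,
      ← IsScalarTower.algebraMap_eq]
  rw [hI] at h
  change depth (Localization.AtPrime q) N = _
  rw [h]
  congr 1
  have h2 := idealDepth_map_eq (A := Localization.AtPrime q) (B := EGA4.FibLocRing A B q)
    (maximalIdeal (Localization.AtPrime q)) (EGA4.FibLocMod A B q E)
  have hJ : (maximalIdeal (Localization.AtPrime q)).map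
      (algebraMap (Localization.AtPrime q) (EGA4.FibLocRing A B q)) =
      q.map (algebraMap B (EGA4.FibLocRing A B q)) := by
    rw [← Localization.AtPrime.map_eq_maximalIdeal, Ideal.map_map,
      ← IsScalarTower.algebraMap_eq]
  rw [hJ] at h2
  exact h2

/-- a lower bound for the depth of the fibre stalks of a flat module at all primes containing `J`
gives the same lower bound for `depth_J`. -/
theorem le_idealDepth_of_fibre (J : Ideal B) (k : ℕ∞)
    (h : ∀ q : PrimeSpectrum B, J ≤ q.asIdeal →
      k ≤ idealDepth (q.asIdeal.map (algebraMap B (EGA4.FibLocRing A B q.asIdeal)))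
        (EGA4.FibLocMod A B q.asIdeal E)) :
    k ≤ idealDepth J E := by
  rw [idealDepth_eq_iInf_depth_localization J E]
  refine le_iInf₂ fun q hq => ?_
  rw [depth_localization_eq_add A B q.asIdeal E]
  exact (h q hq).trans le_add_self

end Groth.Agent.Lib.helper26.FibMod
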