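import Mathlib
import Groth.Agent.Lib.Helper24.FlatDepth3
import Groth.Agent.Lib.Helper26.HS8

/-!
# Dimension formula for flat modules along a local homomorphism (helper26)

`R → S` a local homomorphism of Noetherian local rings, `N` a finite `S`-module, `M` a finite
`R`-module, `k = R/m_R`.

* `supportDim_tensor_le` : `dim_S (N ⊗_R M) ≤ dim_R M + dim_S (N ⊗_R k)`.
* `le_supportDim_tensor` : equality holds from below when `N` is flat over `R` (`M ≠ 0`).
* `supportDim_tensor` : `dim_S (N ⊗_R M) = dim_R M + dim_S (N ⊗_R k)` for `N` flat, `M ≠ 0`.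
-/

set_option autoImplicit false
universe u

namespace Groth.Agent.Lib.helper26.FlatDim

open TensorProduct IsLocalRing Module Groth.Agent.Lib.Helper24.FlatDepth
open scoped Pointwise

variable (R S : Type u) [CommRing R] [CommRing S] [Algebra R S] [IsLocalRing R] [IsLocalRing S]
  [IsNoetherianRing R] [IsNoetherianRing S] [IsLocalHom (algebraMap R S)]
variable (N : Type u) [AddCommGroup N] [Module S N] [Module R N] [IsScalarTower R S N]
  [Module.Finite S N]

omit [IsLocalRing R] [IsLocalRing S] [IsNoetherianRing R] [IsNoetherianRing S]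
  [IsLocalHom (algebraMap R S)] [Module.Finite S N] in
lemma supportDim_tensor_le_of_surjective {M M' : Type u} [AddCommGroup M] [Module R M]
    [AddCommGroup M'] [Module R M'] (g : M →ₗ[R] M') (hg : Function.Surjective g) :
    supportDim S (N ⊗[R] M') ≤ supportDim S (N ⊗[R] M) :=
  Module.supportDim_le_of_surjective (TensorProduct.AlgebraTensorModule.lTensor S N g)
    (LinearMap.lTensor_surjective N hg)

omit [IsLocalRing R] [IsLocalRing S] [IsNoetherianRing R] [IsNoetherianRing S]
  [IsLocalHom (algebraMap R S)] [Module.Finite S N] in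
lemma supportDim_tensor_le_of_injective [Module.Flat R N] {M M' : Type u} [AddCommGroup M]
    [Module R M] [AddCommGroup M'] [Module R M'] (g : M →ₗ[R] M') (hg : Function.Injective g) :
    supportDim S (N ⊗[R] M) ≤ supportDim S (N ⊗[R] M') :=
  Module.supportDim_le_of_injective (TensorProduct.AlgebraTensorModule.lTensor S N g)
    (Module.Flat.lTensor_preserves_injective_linearMap g hg)

omit [IsNoetherianRing R] [IsNoetherianRing S] [IsLocalRing S] [IsLocalRing R]
  [IsLocalHom (algebraMap R S)] [Module.Finite S N] in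
lemma isSMulRegular_tensor_algebraMap [Module.Flat R N] {M : Type u} [AddCommGroup M] [Module R M]
    {x : R} (h : IsSMulRegular M x) : IsSMulRegular (N ⊗[R] M) (algebraMap R S x) := by
  have h1 : IsSMulRegular (N ⊗[R] M) x := h.lTensor N
  intro a b hab
  apply h1
  simpa only [algebraMap_smul] using hab

omit [IsNoetherianRing R] [IsNoetherianRing S] [Module.Finite S N] in
lemma algebraMap_mem_maximalIdeal {x : R} (hx : x ∈ maximalIdeal R) :
    algebraMap R S x ∈ maximalIdeal S := by
  rw [mem_maximalIdeal, mem_nonunits_iff] at hx ⊢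
  exact fun h => hx (isUnit_of_map_unit (algebraMap R S) x h)

/-- lower bound for prime cyclic modules, by induction on the coheight. -/
theorem add_le_supportDim_tensor_quotient [Module.Flat R N] (n : ℕ) :
    ∀ p : PrimeSpectrum R, (n : ℕ∞) ≤ Order.coheight p →
      (n : WithBot ℕ∞) + supportDim S (N ⊗[R] (R ⧸ maximalIdeal R)) ≤
        supportDim S (N ⊗[R] (R ⧸ p.asIdeal)) := by
  induction n with
  | zero =>
    intro p _
    have hle : p.asIdeal ≤ maximalIdeal R := le_maximalIdeal p.2.ne_top
    simp only [Nat.cast_zero, zero_add]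
    exact supportDim_tensor_le_of_surjective R S N (Ideal.Quotient.factorₐ R hle).toLinearMap
      (Ideal.Quotient.factor_surjective hle)
  | succ n ih =>
    intro p hp
    obtain ⟨q, hqhead, hqlen⟩ := Order.exists_series_of_le_coheight p (n := n + 1)
      (by exact_mod_cast hp)
    have h1lt : 1 < q.length + 1 := by omega
    set p' := q ⟨1, h1lt⟩ with hp'
    have hlt : p < p' := by
      rw [← hqhead]
      exact q.strictMono (by simp [Fin.lt_def])
    have hco : (n : ℕ∞) ≤ Order.coheight p' := by
      have h := Order.rev_index_le_coheight q ⟨1, h1lt⟩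
      refine le_trans ?_ h
      have : ((⟨1, h1lt⟩ : Fin (q.length + 1)).rev : ℕ) = n := by
        simp [Fin.rev, hqlen]
      rw [this]
    obtain ⟨x, hxp', hxp⟩ := SetLike.exists_of_lt (show p.asIdeal < p'.asIdeal from hlt)
    have hxm : x ∈ maximalIdeal R := le_maximalIdeal p'.2.ne_top hxp'
    have hreg : IsSMulRegular (R ⧸ p.asIdeal) x :=
      Groth.Agent.Lib.helper26.HS.isSMulRegular_quotient_of_notMem hxp
    have hregT := isSMulRegular_tensor_algebraMap R S N hreg
    have hxS := algebraMap_mem_maximalIdeal R S hxm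
    have : Module.Finite S (N ⊗[R] (R ⧸ p.asIdeal)) := finite_tensor R S N _
    have h1 := Module.supportDim_quotSMulTop_succ_eq_supportDim hregT hxS
    rw [← h1, Module.supportDim_eq_of_equiv (quotEquivRight R S N (R ⧸ p.asIdeal) x)]
    -- the surjection `(R/p)/x → R/p'`
    have hle : p.asIdeal ≤ p'.asIdeal := hlt.le
    let g0 : (R ⧸ p.asIdeal) →ₗ[R] (R ⧸ p'.asIdeal) := (Ideal.Quotient.factorₐ R hle).toLinearMap
    have hg0 : x • (⊤ : Submodule R (R ⧸ p.asIdeal)) ≤ LinearMap.ker g0 := by
      intro y hy
      obtain ⟨y, -, rfl⟩ := (Submodule.mem_smul_pointwise_iff_exists _ _ _).mp hy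
      rw [LinearMap.mem_ker, map_smul]
      obtain ⟨z, hz⟩ := Ideal.Quotient.mk_surjective (g0 y)
      rw [← hz, Algebra.smul_def, Ideal.Quotient.algebraMap_eq, ← map_mul,
        Ideal.Quotient.eq_zero_iff_mem]
      exact Ideal.mul_mem_right _ _ hxp'
    let g : QuotSMulTop x (R ⧸ p.asIdeal) →ₗ[R] (R ⧸ p'.asIdeal) :=
      Submodule.liftQ _ g0 hg0
    have hg : Function.Surjective g := by
      intro z
      obtain ⟨y, hy⟩ := Ideal.Quotient.factor_surjective hle z
      exact ⟨Submodule.Quotient.mk y, hy⟩
    have h2 := supportDim_tensor_le_of_surjective R S N g hg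
    have h3 := ih p' hco
    calc ((n + 1 : ℕ) : WithBot ℕ∞) + supportDim S (N ⊗[R] (R ⧸ maximalIdeal R))
        = ((n : WithBot ℕ∞) + supportDim S (N ⊗[R] (R ⧸ maximalIdeal R))) + 1 := by
          push_cast; exact add_right_comm _ _ _
      _ ≤ supportDim S (N ⊗[R] (R ⧸ p'.asIdeal)) + 1 := add_le_add_left h3 1
      _ ≤ supportDim S (N ⊗[R] QuotSMulTop x (R ⧸ p.asIdeal)) + 1 := add_le_add_left h2 1

/-- **Lower bound** `dim M + dim (N ⊗ k) ≤ dim (N ⊗ M)` for `N` flat over `R`. -/
theorem le_supportDim_tensor [Module.Flat R N] (M : Type u) [AddCommGroup M] [Module R M]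
    [Module.Finite R M] [Nontrivial M] :
    supportDim R M + supportDim S (N ⊗[R] (R ⧸ maximalIdeal R)) ≤ supportDim S (N ⊗[R] M) := by
  obtain ⟨r, hr⟩ := Groth.Agent.Lib.helper26.Depth.exists_nat_supportDim (A := R) M
  obtain ⟨l, hl⟩ := Order.le_krullDim_iff.mp (le_of_eq hr.symm : (r : WithBot ℕ∞) ≤
    Order.krullDim (Module.support R M))
  obtain ⟨pmin, hpmin, hple⟩ :=
    Ideal.exists_minimalPrimes_le (Module.mem_support_iff_of_finite.mp l.head.2)
  have hprime : pmin.IsPrime := hpmin.1.1
  let P : PrimeSpectrum R := ⟨pmin, hprime⟩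
  have hco : (r : ℕ∞) ≤ Order.coheight P := by
    have h1 := Order.length_le_coheight (x := P)
      (p := l.map Subtype.val (fun _ _ h => h)) (by
        rw [LTSeries.head_map]
        exact hple)
    rw [LTSeries.map_length, hl] at h1
    exact h1
  have h1 := add_le_supportDim_tensor_quotient R S N r P hco
  obtain ⟨φ, hφ⟩ := Groth.Agent.Lib.helper26.HS.exists_injective_of_mem_minimalPrimes hpmin
  have h2 := supportDim_tensor_le_of_injective R S N φ hφ
  rw [hr]
  exact h1.trans h2


section upper

lemma le_of_add_one_le_add_one {a : WithBot ℕ∞} {r : ℕ} (h : a + 1 ≤ (r : WithBot ℕ∞) + 1) :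
    a ≤ r := by
  induction a using WithBot.recBotCoe with
  | bot => exact bot_le
  | coe a =>
    have h'' : a + 1 ≤ (r : ℕ∞) + 1 := by exact_mod_cast h
    have : a ≤ r := (ENat.add_le_add_iff_right (by simp)).mp h''
    exact_mod_cast this

omit [IsLocalRing R] [IsLocalRing S] [IsNoetherianRing R] [IsNoetherianRing S]
  [IsLocalHom (algebraMap R S)] in
/-- `Supp (N ⊗ M) ⊆ Supp N ∩ (Spec S → Spec R)⁻¹ (Supp M)`. -/
lemma mem_support_of_mem_support_tensor (M : Type u) [AddCommGroup M] [Module R M]
    [Module.Finite R M] (q : PrimeSpectrum S) (hq : q ∈ Module.support S (N ⊗[R] M)) :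
    q ∈ Module.support S N ∧
      PrimeSpectrum.comap (algebraMap R S) q ∈ Module.support R M := by
  have hann := Module.annihilator_le_of_mem_support hq
  constructor
  · rw [Module.mem_support_iff_of_finite]
    refine le_trans ?_ hann
    intro s hs
    rw [Module.mem_annihilator] at hs ⊢
    intro w
    induction w using TensorProduct.induction_on with
    | zero => simp
    | tmul n m => rw [TensorProduct.smul_tmul', hs n, zero_tmul]
    | add a b ha hb => rw [smul_add, ha, hb, add_zero]
  · rw [Module.mem_support_iff_of_finite]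
    intro a ha
    change algebraMap R S a ∈ q.asIdeal
    apply hann
    rw [Module.mem_annihilator] at ha ⊢
    intro w
    rw [algebraMap_smul]
    induction w using TensorProduct.induction_on with
    | zero => simp
    | tmul n m => rw [TensorProduct.smul_tmul', TensorProduct.smul_tmul, ha m, tmul_zero]
    | add a b ha hb => rw [smul_add, ha, hb, add_zero]

omit [IsNoetherianRing R] in
/-- in a module of dimension `≤ 0` over a local ring the support is the closed point. -/
lemma eq_maximalIdeal_of_mem_support_of_supportDim_le_zero (M : Type u) [AddCommGroup M]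
    [Module R M] (h0 : supportDim R M ≤ 0) (p : PrimeSpectrum R)
    (hp : p ∈ Module.support R M) : p.asIdeal = maximalIdeal R := by
  by_contra hne
  have hle : p ≤ closedPoint R := le_maximalIdeal p.2.ne_top
  have hc : closedPoint R ∈ Module.support R M := Module.mem_support_mono hle hp
  have hlt : (⟨p, hp⟩ : Module.support R M) < ⟨closedPoint R, hc⟩ :=
    lt_of_le_of_ne hle (fun h => hne (by
      have := congrArg (fun z : Module.support R M => z.1.asIdeal) h
      exact this))
  have h1 : (1 : WithBot ℕ∞) ≤ Order.krullDim (Module.support R M) :=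
    Order.one_le_krullDim_iff.mpr ⟨_, _, hlt⟩
  have h2 : (1 : WithBot ℕ∞) ≤ 0 := h1.trans h0
  exact absurd h2 (by simp)

omit [IsLocalRing S] [IsNoetherianRing R] [IsNoetherianRing S] [IsLocalHom (algebraMap R S)] in
/-- base case of the upper bound. -/
lemma supportDim_tensor_le_of_supportDim_le_zero (M : Type u) [AddCommGroup M] [Module R M]
    [Module.Finite R M] (h0 : supportDim R M ≤ 0) :
    supportDim S (N ⊗[R] M) ≤ supportDim S (N ⊗[R] (R ⧸ maximalIdeal R)) := by
  have hsub : Module.support S (N ⊗[R] M) ⊆ Module.support S (N ⊗[R] (R ⧸ maximalIdeal R)) := by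
    intro q hq
    obtain ⟨h1, h2⟩ := mem_support_of_mem_support_tensor R S N M q hq
    have h3 := eq_maximalIdeal_of_mem_support_of_supportDim_le_zero R M h0 _ h2
    rw [(tensorQuotEquiv R S N (maximalIdeal R)).support_eq, Module.support_quotient]
    refine ⟨h1, ?_⟩
    rw [PrimeSpectrum.mem_zeroLocus, SetLike.coe_subset_coe, Ideal.map_le_iff_le_comap]
    exact le_of_eq h3.symm
  exact Order.krullDim_le_of_strictMono (Set.inclusion hsub) (fun _ _ h => h)

/-- prime avoidance: a parameter for a module of positive dimension. -/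
lemma exists_mem_maximalIdeal_notMem_minimalPrimes (M : Type u) [AddCommGroup M] [Module R M]
    [Module.Finite R M] (h1 : 1 ≤ supportDim R M) :
    ∃ x ∈ maximalIdeal R, ∀ p ∈ (Module.annihilator R M).minimalPrimes, x ∉ p := by
  classical
  have hfin : (Module.annihilator R M).minimalPrimes.Finite :=
    Ideal.finite_minimalPrimes_of_isNoetherianRing R _
  have key : ¬ ((maximalIdeal R : Set R) ⊆ ⋃ i ∈ (↑hfin.toFinset : Set (Ideal R)), (i : Set R)) := by
    rw [Ideal.subset_union_prime (f := fun i : Ideal R => i) ⊤ ⊤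
      (fun i hi _ _ => (hfin.mem_toFinset.mp hi).1.1)]
    rintro ⟨p, hp, hmp⟩
    have hpm := hfin.mem_toFinset.mp hp
    have hp' : p.IsPrime := hpm.1.1
    have hpeq : p = maximalIdeal R := le_antisymm (le_maximalIdeal hp'.ne_top) hmp
    obtain ⟨a, b, hab⟩ := Order.one_le_krullDim_iff.mp h1
    have ha : a.1.asIdeal = maximalIdeal R := by
      have h2 : Module.annihilator R M ≤ a.1.asIdeal := Module.mem_support_iff_of_finite.mp a.2
      have h3 : a.1.asIdeal ≤ p := hpeq ▸ le_maximalIdeal a.1.2.ne_top
      exact le_antisymm (le_maximalIdeal a.1.2.ne_top) (hpeq ▸ hpm.2 ⟨a.1.2, h2⟩ h3)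
    have hb : b.1.asIdeal ≤ maximalIdeal R := le_maximalIdeal b.1.2.ne_top
    have hlt : a.1.asIdeal < b.1.asIdeal := hab
    rw [ha] at hlt
    exact absurd hb (not_le_of_gt hlt)
  rw [Set.not_subset] at key
  obtain ⟨x, hxm, hx⟩ := key
  refine ⟨x, hxm, fun p hp hxp => hx ?_⟩
  simp only [Set.mem_iUnion]
  exact ⟨p, hfin.mem_toFinset.mpr hp, hxp⟩

/-- **Upper bound** `dim (N ⊗ M) ≤ dim M + dim (N ⊗ k)`. -/
theorem supportDim_tensor_le_aux (r : ℕ) : ∀ (M : Type u) [AddCommGroup M] [Module R M]
    [Module.Finite R M], supportDim R M ≤ r →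
      supportDim S (N ⊗[R] M) ≤ (r : WithBot ℕ∞) + supportDim S (N ⊗[R] (R ⧸ maximalIdeal R)) := by
  induction r with
  | zero =>
    intro M _ _ _ h
    simp only [Nat.cast_zero, zero_add]
    exact supportDim_tensor_le_of_supportDim_le_zero R S N M (by simpa using h)
  | succ r ih =>
    intro M _ _ _ h
    by_cases h1 : 1 ≤ supportDim R M
    · obtain ⟨x, hxm, hx⟩ := exists_mem_maximalIdeal_notMem_minimalPrimes R M h1
      have h2 := Module.supportDim_quotSMulTop_succ_le_of_notMem_minimalPrimes hx
      have h3 : supportDim R (QuotSMulTop x M) ≤ r := by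
        have h4 : supportDim R (QuotSMulTop x M) + 1 ≤ (r : WithBot ℕ∞) + 1 := by
          refine h2.trans (h.trans ?_)
          push_cast
          exact le_rfl
        exact le_of_add_one_le_add_one h4
      have h5 := ih (QuotSMulTop x M) h3
      have hxS := algebraMap_mem_maximalIdeal R S hxm
      have : Module.Finite S (N ⊗[R] M) := finite_tensor R S N M
      have h6 := Module.supportDim_le_supportDim_quotSMulTop_succ (M := N ⊗[R] M) hxS
      rw [Module.supportDim_eq_of_equiv (quotEquivRight R S N M x)] at h6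
      refine h6.trans ?_
      calc supportDim S (N ⊗[R] QuotSMulTop x M) + 1
          ≤ ((r : WithBot ℕ∞) + supportDim S (N ⊗[R] (R ⧸ maximalIdeal R))) + 1 :=
            add_le_add_left h5 1
        _ = ((r + 1 : ℕ) : WithBot ℕ∞) + supportDim S (N ⊗[R] (R ⧸ maximalIdeal R)) := by
            push_cast; exact add_right_comm _ _ _
    · have h0 : supportDim R M ≤ 0 := by
        by_contra hcon
        push Not at hcon
        exact h1 (Groth.Agent.Lib.helper26.HS.one_le_of_pos hcon)
      refine (supportDim_tensor_le_of_supportDim_le_zero R S N M h0).trans ?_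
      exact le_add_of_nonneg_left (by exact_mod_cast Nat.zero_le _)

theorem supportDim_tensor_le (M : Type u) [AddCommGroup M] [Module R M]
    [Module.Finite R M] [Nontrivial M] :
    supportDim S (N ⊗[R] M) ≤ supportDim R M + supportDim S (N ⊗[R] (R ⧸ maximalIdeal R)) := by
  obtain ⟨r, hr⟩ := Groth.Agent.Lib.helper26.Depth.exists_nat_supportDim (A := R) M
  rw [hr]
  exact supportDim_tensor_le_aux R S N r M (le_of_eq hr)

end upper

/-- **Dimension formula** for a finite `S`-module `N` flat over `R` and a nonzero finite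
`R`-module `M`. -/
theorem supportDim_tensor [Module.Flat R N] (M : Type u) [AddCommGroup M] [Module R M]
    [Module.Finite R M] [Nontrivial M] :
    supportDim S (N ⊗[R] M) = supportDim R M + supportDim S (N ⊗[R] (R ⧸ maximalIdeal R)) :=
  le_antisymm (supportDim_tensor_le R S N M) (le_supportDim_tensor R S N M)

/-- the same with the closed fibre written as `N / m_R N`. -/
theorem supportDim_tensor' [Module.Flat R N] (M : Type u) [AddCommGroup M] [Module R M]
    [Module.Finite R M] [Nontrivial M] :
    supportDim S (N ⊗[R] M) = supportDim R M + supportDim S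
      (N ⧸ (maximalIdeal R).map (algebraMap R S) • (⊤ : Submodule S N)) := by
  rw [supportDim_tensor R S N M,
    Module.supportDim_eq_of_equiv (tensorQuotEquiv R S N (maximalIdeal R))]

end Groth.Agent.Lib.helper26.FlatDim
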