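import Mathlib
import Groth.Prelude.Def_EGA4b
import Groth.Agent.Lib.Helper26.LocTrans
import Groth.Agent.Lib.Helper26.CM3
import Groth.Agent.Lib.Helper26.SuppLoc

/-!
# `(S_k)` at a prime in terms of generizations (helper26)
-/

set_option autoImplicit false
universe u

namespace Groth.Agent.Lib.helper26.SkAt

open LocCoh IsLocalRing Groth.Agent.Lib.helper26.Depth

section

variable {A : Type u} [CommRing A] [IsNoetherianRing A]
  (M : Type u) [AddCommGroup M] [Module A M] [Module.Finite A M]

omit [IsNoetherianRing A] [Module.Finite A M] in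
lemma congr_prime (q q' : Ideal A) [q.IsPrime] [q'.IsPrime] (h : q = q') :
    depth (Localization.AtPrime q) (LocalizedModule q.primeCompl M) =
      depth (Localization.AtPrime q') (LocalizedModule q'.primeCompl M) ∧
    Module.supportDim (Localization.AtPrime q) (LocalizedModule q.primeCompl M) =
      Module.supportDim (Localization.AtPrime q') (LocalizedModule q'.primeCompl M) := by
  subst h
  exact ⟨rfl, rfl⟩

/-- `(S_k)` at `p` means the `(S_k)` inequality at every prime contained in `p`. -/
theorem hasSkAt_iff (k : ℕ) (p : Ideal A) [p.IsPrime] :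
    EGA4.HasSkAt k A M p ↔ ∀ (q : Ideal A) [q.IsPrime], q ≤ p →
      min (k : WithBot ℕ∞)
        (Module.supportDim (Localization.AtPrime q) (LocalizedModule q.primeCompl M)) ≤
      ((depth (Localization.AtPrime q) (LocalizedModule q.primeCompl M) : ℕ∞) : WithBot ℕ∞) := by
  constructor
  · intro h q hq hqp
    have hdisj : Disjoint (p.primeCompl : Set A) (q : Set A) := by
      rw [Set.disjoint_left]
      intro a ha haq
      exact ha (hqp haq)
    have hQprime := IsLocalization.isPrime_of_isPrime_disjoint p.primeCompl
      (Localization.AtPrime p) q hq hdisj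
    have hQcomap := IsLocalization.under_map_of_isPrime_disjoint p.primeCompl
      (Localization.AtPrime p) hq hdisj
    have h1 := h (q.map (algebraMap A (Localization.AtPrime p)))
    obtain ⟨e1, e2⟩ := depth_supportDim_localization_submonoid p.primeCompl M
      (q.map (algebraMap A (Localization.AtPrime p)))
    obtain ⟨c1, c2⟩ := congr_prime M _ q hQcomap
    rw [e1, e2] at h1
    rw [← c1, ← c2]
    exact h1
  · intro h Q hQ
    obtain ⟨e1, e2⟩ := depth_supportDim_localization_submonoid p.primeCompl M Q
    rw [e1, e2]
    exact h _ (Groth.Agent.Lib.helper26.SuppLoc.comap_le p ⟨Q, hQ⟩)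

/-- if `depth M_q = 0` then `q` is an associated prime of `M`. -/
theorem mem_associatedPrimes_of_depth_eq_zero (q : Ideal A) [q.IsPrime]
    (h0 : depth (Localization.AtPrime q) (LocalizedModule q.primeCompl M) = 0) :
    q ∈ associatedPrimes A M := by
  obtain ⟨Q, hQ, hle⟩ := exists_associatedPrime_ge_of_idealDepth_eq_zero
    (maximalIdeal (Localization.AtPrime q)) (LocalizedModule q.primeCompl M) h0
  have hQprime : Q.IsPrime := hQ.isPrime
  have hQeq : Q = maximalIdeal (Localization.AtPrime q) :=
    ((maximalIdeal.isMaximal _).eq_of_le hQprime.ne_top hle).symm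
  rw [hQeq] at hQ
  have hass :=
    Module.associatedPrimes.comap_mem_associatedPrimes_of_mem_associatedPrimes_of_isLocalizedModule_of_fg
      q.primeCompl (LocalizedModule.mkLinearMap q.primeCompl M) _ hQ
      ((isNoetherianRing_iff_ideal_fg A).mp inferInstance _)
  have h5 : (maximalIdeal (Localization.AtPrime q)).comap
      (algebraMap A (Localization.AtPrime q)) = q :=
    IsLocalization.AtPrime.under_maximalIdeal (Localization.AtPrime q) q
  rwa [h5] at hass

/-- the `(S_1)` locus is open. -/
theorem isOpen_hasSkAt_one :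
    IsOpen {p : PrimeSpectrum A | EGA4.HasSkAt 1 A M p.asIdeal} := by
  classical
  let Bad : Set (PrimeSpectrum A) := {q | ¬ (min ((1 : ℕ) : WithBot ℕ∞)
        (Module.supportDim (Localization.AtPrime q.asIdeal)
          (LocalizedModule q.asIdeal.primeCompl M)) ≤
      ((depth (Localization.AtPrime q.asIdeal)
        (LocalizedModule q.asIdeal.primeCompl M) : ℕ∞) : WithBot ℕ∞))}
  have hBadAss : Bad ⊆ {q | q.asIdeal ∈ associatedPrimes A M} := by
    intro q hq
    apply mem_associatedPrimes_of_depth_eq_zero
    by_contra hne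
    apply hq
    have h1 : (1 : ℕ∞) ≤ depth (Localization.AtPrime q.asIdeal)
        (LocalizedModule q.asIdeal.primeCompl M) := Order.one_le_iff_pos.mpr (pos_iff_ne_zero.mpr hne)
    refine le_trans (min_le_left _ _) ?_
    exact_mod_cast h1
  have hfin : Bad.Finite := by
    refine Set.Finite.subset ?_ hBadAss
    have hf : (associatedPrimes A M).Finite := associatedPrimes.finite A M
    exact Set.Finite.preimage (fun x _ y _ hxy => PrimeSpectrum.ext hxy) hf
  have hclosed : IsClosed (⋃ q ∈ Bad, PrimeSpectrum.zeroLocus ((q.asIdeal : Ideal A) : Set A)) :=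
    hfin.isClosed_biUnion fun q _ => PrimeSpectrum.isClosed_zeroLocus _
  have heq : {p : PrimeSpectrum A | EGA4.HasSkAt 1 A M p.asIdeal} =
      (⋃ q ∈ Bad, PrimeSpectrum.zeroLocus ((q.asIdeal : Ideal A) : Set A))ᶜ := by
    ext p
    simp only [Set.mem_ofPred_eq, Set.mem_compl_iff, Set.mem_iUnion, PrimeSpectrum.mem_zeroLocus,
      SetLike.coe_subset_coe, exists_prop, not_exists, not_and]
    rw [hasSkAt_iff]
    constructor
    · intro h q hq hqp
      exact hq (h q.asIdeal hqp)
    · intro h q hq hqp
      by_contra hcon
      exact h ⟨q, hq⟩ hcon hqp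
  rw [heq]
  exact hclosed.isOpen_compl

end

end Groth.Agent.Lib.helper26.SkAt
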