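import Mathlib
import Groth.Prelude.Def_EGA4b
import Groth.Agent.Lib.Helper26.FibMod1
import Groth.Agent.Lib.Helper26.FlatDim1
import Groth.Agent.Lib.Helper26.DepthCR2
import Groth.Agent.Lib.Helper26.LocTrans
import Groth.Agent.Lib.Helper26.SkAt

/-!
# Depth and dimension of `(F ⊗_A E)_q` for `F` flat over `A` (helper26)

`A → B` Noetherian rings, `E` a finite `A`-module, `F` a finite `B`-module flat over `A`, `q` a
prime of `B` over `p`:
`depth (F ⊗ E)_q = depth E_p + depth (F_q / p F_q)` and the same for dimensions.
-/

set_option autoImplicit false
universe u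

namespace Groth.Agent.Lib.helper26.SkFlat

open LocCoh IsLocalRing TensorProduct Groth.Agent.Lib.helper26.Depth
open Groth.Agent.Lib.Helper24.FlatDepth Groth.Agent.Lib.helper26.FlatDim

variable (A B : Type u) [CommRing A] [CommRing B] [IsNoetherianRing A] [IsNoetherianRing B]
  [Algebra A B] (q : Ideal B) [q.IsPrime]
  (E : Type u) [AddCommGroup E] [Module A E] [Module.Finite A E]
  (F : Type u) [AddCommGroup F] [Module B F] [Module A F] [IsScalarTower A B F]
  [Module.Finite B F] [Module.Flat A F]

theorem depth_supportDim_localization_tensor :
    depth (Localization.AtPrime q) (LocalizedModule q.primeCompl (F ⊗[A] E)) =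
      depth (Localization.AtPrime (q.comap (algebraMap A B)))
        (LocalizedModule (q.comap (algebraMap A B)).primeCompl E) +
      depth (Localization.AtPrime q) (EGA4.FibLocMod A B q F) ∧
    Module.supportDim (Localization.AtPrime q) (LocalizedModule q.primeCompl (F ⊗[A] E)) =
      Module.supportDim (Localization.AtPrime (q.comap (algebraMap A B)))
        (LocalizedModule (q.comap (algebraMap A B)).primeCompl E) +
      Module.supportDim (Localization.AtPrime q) (EGA4.FibLocMod A B q F) := by
  set p := q.comap (algebraMap A B) with hp
  have hlo : q.LiesOver p := ⟨rfl⟩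
  let _ : Algebra (Localization.AtPrime p) (Localization.AtPrime q) :=
    Localization.AtPrime.algebraOfLiesOver p q
  have hloc : IsLocalHom (algebraMap (Localization.AtPrime p) (Localization.AtPrime q)) :=
    Localization.isLocalHom_localRingHom _ q (algebraMap A B) Ideal.LiesOver.over
  let N := LocalizedModule q.primeCompl F
  let M := LocalizedModule p.primeCompl E
  let _ : Module (Localization.AtPrime p) N :=
    Module.compHom N (algebraMap (Localization.AtPrime p) (Localization.AtPrime q))
  have hst : IsScalarTower (Localization.AtPrime p) (Localization.AtPrime q) N :=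
    IsScalarTower.of_algebraMap_smul fun r x => rfl
  have hst2 : IsScalarTower A (Localization.AtPrime p) N := by
    refine IsScalarTower.of_algebraMap_smul fun r x => ?_
    change (algebraMap (Localization.AtPrime p) (Localization.AtPrime q)
      (algebraMap A (Localization.AtPrime p) r)) • x = r • x
    rw [← IsScalarTower.algebraMap_apply A (Localization.AtPrime p) (Localization.AtPrime q),
      IsScalarTower.algebraMap_apply A B (Localization.AtPrime q), algebraMap_smul, algebraMap_smul]
  have hflatA : Module.Flat A N :=
    Groth.Agent.Lib.helper26.FlatCrit.flat_localizedModule q.primeCompl F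
  have hflat : Module.Flat (Localization.AtPrime p) N :=
    (Module.flat_iff_of_isLocalization (Localization.AtPrime p) p.primeCompl N).mpr hflatA
  have hfin : Module.Finite (Localization.AtPrime q) N := inferInstance
  have hfinM : Module.Finite (Localization.AtPrime p) M := inferInstance
  -- the isomorphism `(F ⊗ E)_q ≃ N ⊗ M`
  let g : F →ₗ[B] N := LocalizedModule.mkLinearMap q.primeCompl F
  have hg : IsLocalizedModule q.primeCompl (AlgebraTensorModule.rTensor A E g) := inferInstance
  let e1 : LocalizedModule q.primeCompl (F ⊗[A] E) ≃ₗ[B] N ⊗[A] E :=
    IsLocalizedModule.linearEquiv q.primeCompl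
      (LocalizedModule.mkLinearMap q.primeCompl (F ⊗[A] E)) (AlgebraTensorModule.rTensor A E g)
  let e1' : LocalizedModule q.primeCompl (F ⊗[A] E) ≃ₗ[Localization.AtPrime q] N ⊗[A] E :=
    e1.extendScalarsOfIsLocalization q.primeCompl (Localization.AtPrime q)
  let e2 : N ⊗[Localization.AtPrime p] (Localization.AtPrime p ⊗[A] E)
      ≃ₗ[Localization.AtPrime q] N ⊗[A] E :=
    AlgebraTensorModule.cancelBaseChange A (Localization.AtPrime p) (Localization.AtPrime q) N E
  let e3 : (Localization.AtPrime p ⊗[A] E) ≃ₗ[Localization.AtPrime p] M :=
    (IsLocalizedModule.isBaseChange p.primeCompl (Localization.AtPrime p)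
      (LocalizedModule.mkLinearMap p.primeCompl E)).equiv
  let e4 : N ⊗[Localization.AtPrime p] (Localization.AtPrime p ⊗[A] E)
      ≃ₗ[Localization.AtPrime q] N ⊗[Localization.AtPrime p] M :=
    AlgebraTensorModule.congr (LinearEquiv.refl (Localization.AtPrime q) N) e3
  let e : LocalizedModule q.primeCompl (F ⊗[A] E) ≃ₗ[Localization.AtPrime q]
      N ⊗[Localization.AtPrime p] M := e1'.trans (e2.symm.trans e4)
  have hI : (maximalIdeal (Localization.AtPrime p)).map
      (algebraMap (Localization.AtPrime p) (Localization.AtPrime q)) =
      p.map (algebraMap A (Localization.AtPrime q)) := by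
    rw [← Localization.AtPrime.map_eq_maximalIdeal, Ideal.map_map,
      ← IsScalarTower.algebraMap_eq]
  constructor
  · have h := depth_tensor' (Localization.AtPrime p) (Localization.AtPrime q) N M
    rw [hI] at h
    change depth (Localization.AtPrime q) (LocalizedModule q.primeCompl (F ⊗[A] E)) = _
    unfold depth at h ⊢
    rw [idealDepth_congr e]
    exact h
  · rw [Module.supportDim_eq_of_equiv e]
    by_cases hM : Nontrivial M
    · have h := supportDim_tensor' (Localization.AtPrime p) (Localization.AtPrime q) N M
      rw [hI] at h
      exact h
    · rw [not_nontrivial_iff_subsingleton] at hM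
      have h1 : Subsingleton (N ⊗[Localization.AtPrime p] M) := inferInstance
      rw [Module.supportDim_eq_bot_of_subsingleton, Module.supportDim_eq_bot_of_subsingleton,
        WithBot.bot_add]


section fibre

omit [IsNoetherianRing A] [IsNoetherianRing B] in
lemma fibIdeal_le_maximalIdeal :
    (q.comap (algebraMap A B)).map (algebraMap A (Localization.AtPrime q)) ≤
      maximalIdeal (Localization.AtPrime q) := by
  rw [Ideal.map_le_iff_le_comap]
  intro a ha
  rw [Ideal.mem_comap, IsScalarTower.algebraMap_apply A B (Localization.AtPrime q)]
  exact (IsLocalization.AtPrime.to_map_mem_maximal_iff _ q _).mpr ha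

omit [IsNoetherianRing A] [IsNoetherianRing B] in
theorem isLocalRing_fibLocRing : IsLocalRing (EGA4.FibLocRing A B q) := by
  have : Nontrivial (EGA4.FibLocRing A B q) :=
    Ideal.Quotient.nontrivial_iff.mpr
      (ne_top_of_le_ne_top (maximalIdeal.isMaximal _).ne_top (fibIdeal_le_maximalIdeal A B q))
  exact .of_surjective' _ Ideal.Quotient.mk_surjective

/-- support dimension does not change along a surjective ring map. -/
theorem supportDim_eq_of_surjective {B F : Type u} [CommRing B] [CommRing F] [Algebra B F]
    (hsurj : Function.Surjective (algebraMap B F))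
    (X : Type u) [AddCommGroup X] [Module F X] [Module B X] [IsScalarTower B F X]
    [Module.Finite F X] :
    Module.supportDim B X = Module.supportDim F X := by
  have hfinF : Module.Finite B F := Module.Finite.of_surjective (Algebra.linearMap B F) hsurj
  have hfin : Module.Finite B X := Module.Finite.trans F X
  rw [Module.supportDim_eq_ringKrullDim_quotient_annihilator,
    Module.supportDim_eq_ringKrullDim_quotient_annihilator]
  have hann : Module.annihilator B X = (Module.annihilator F X).comap (algebraMap B F) := by
    ext r
    rw [Ideal.mem_comap, Module.mem_annihilator, Module.mem_annihilator]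
    constructor
    · intro h x
      rw [algebraMap_smul]
      exact h x
    · intro h x
      rw [← algebraMap_smul F r x]
      exact h x
  rw [hann]
  have hsurj2 : Function.Surjective
      ((Ideal.Quotient.mk (Module.annihilator F X)).comp (algebraMap B F)) :=
    Ideal.Quotient.mk_surjective.comp hsurj
  have hker : RingHom.ker ((Ideal.Quotient.mk (Module.annihilator F X)).comp (algebraMap B F)) =
      (Module.annihilator F X).comap (algebraMap B F) := by
    ext x
    rw [RingHom.mem_ker, RingHom.comp_apply, Ideal.Quotient.eq_zero_iff_mem, Ideal.mem_comap]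
  exact ringKrullDim_eq_of_ringEquiv
    ((Ideal.quotEquivOfEq hker.symm).trans (RingHom.quotientKerEquivOfSurjective hsurj2))

omit [IsNoetherianRing A] [Module.Flat A F] [Module A F] [IsScalarTower A B F] in
/-- depth and dimension of the fibre stalk module over `B_q` and over the fibre local ring agree. -/
theorem depth_supportDim_fibLocMod :
    have := isLocalRing_fibLocRing A B q
    depth (Localization.AtPrime q) (EGA4.FibLocMod A B q F) =
      depth (EGA4.FibLocRing A B q) (EGA4.FibLocMod A B q F) ∧
    Module.supportDim (Localization.AtPrime q) (EGA4.FibLocMod A B q F) =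
      Module.supportDim (EGA4.FibLocRing A B q) (EGA4.FibLocMod A B q F) := by
  intro hloc
  have hsurj : Function.Surjective (algebraMap (Localization.AtPrime q) (EGA4.FibLocRing A B q)) :=
    Ideal.Quotient.mk_surjective
  have hlh : IsLocalHom (algebraMap (Localization.AtPrime q) (EGA4.FibLocRing A B q)) :=
    IsLocalHom.of_surjective _ hsurj
  have hfinB : Module.Finite (Localization.AtPrime q) (EGA4.FibLocMod A B q F) := inferInstance
  have hfinF : Module.Finite (EGA4.FibLocRing A B q) (EGA4.FibLocMod A B q F) :=
    Module.Finite.of_restrictScalars_finite (Localization.AtPrime q) _ _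
  exact ⟨depth_eq_of_isLocalHom (A := Localization.AtPrime q) (B := EGA4.FibLocRing A B q) _,
    supportDim_eq_of_surjective hsurj _⟩

end fibre

section maxloc

/-- localizing a module over a local ring at the maximal ideal changes nothing. -/
theorem depth_supportDim_localization_maximalIdeal (R : Type u) [CommRing R] [IsLocalRing R]
    [IsNoetherianRing R] (X : Type u) [AddCommGroup X] [Module R X] [Module.Finite R X] :
    depth (Localization.AtPrime (maximalIdeal R))
        (LocalizedModule (maximalIdeal R).primeCompl X) = depth R X ∧
      Module.supportDim (Localization.AtPrime (maximalIdeal R))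
        (LocalizedModule (maximalIdeal R).primeCompl X) = Module.supportDim R X := by
  have hloc : IsLocalization.AtPrime R (maximalIdeal R) :=
    IsLocalization.of_le_isUnit (fun x hx => IsLocalRing.notMem_maximalIdeal.mp hx)
  have hid : IsLocalizedModule (maximalIdeal R).primeCompl (LinearMap.id : X →ₗ[R] X) :=
    isLocalizedModule_id _ X R
  exact ⟨(depth_eq_of_isLocalizedModule (maximalIdeal R) X R X LinearMap.id).symm,
    (supportDim_eq_of_isLocalizedModule (maximalIdeal R) X R X LinearMap.id).symm⟩

end maxloc

end Groth.Agent.Lib.helper26.SkFlat
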