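import Mathlib
import Groth.Prelude.Def_EGA4b
import Groth.Agent.Lib.Helper24.FlatDepth5
import Groth.Agent.Lib.Helper24.FibreRegular
import Groth.Agent.Lib.Helper26.SkFlat1

/-!
# Base change of the depth of fibre local rings (helper26)

`A → B`, `A → A'`, `B' = A' ⊗_A B` (pushout), `q'` a prime of `B'`, `q = q' ∩ B`:
`depth (B_q / p B_q) ≤ depth (B'_{q'} / p' B'_{q'})`.
-/

set_option autoImplicit false
set_option linter.style.haveILetI false
universe u

namespace Groth.Agent.Lib.helper26.FibBC

open LocCoh IsLocalRing TensorProduct Algebra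
open Groth.Agent.Lib.Helper24.FlatDepth

section Flat

variable (D E : Type u) [CommRing D] [CommRing E] [Algebra D E] [Module.Flat D E]
  (𝔮 : Ideal D) [𝔮.IsPrime] (𝔫 : Ideal E) [𝔫.IsPrime] [𝔫.LiesOver 𝔮]
  [IsNoetherianRing (Localization.AtPrime 𝔮)] [IsNoetherianRing (Localization.AtPrime 𝔫)]

/-- depth can only go up along a flat map of localizations. -/
theorem depth_le_of_flat :
    depth (Localization.AtPrime 𝔮) (Localization.AtPrime 𝔮) ≤
      depth (Localization.AtPrime 𝔫) (Localization.AtPrime 𝔫) := by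
  letI := Localization.AtPrime.algebraOfLiesOver 𝔮 𝔫
  haveI hloc : IsLocalHom (algebraMap (Localization.AtPrime 𝔮) (Localization.AtPrime 𝔫)) :=
    Localization.isLocalHom_localRingHom _ 𝔫 (algebraMap D E) Ideal.LiesOver.over
  haveI hflat : Module.Flat (Localization.AtPrime 𝔮) (Localization.AtPrime 𝔫) := inferInstance
  rw [depth_eq_add_idealDepth_of_flat (Localization.AtPrime 𝔮) (Localization.AtPrime 𝔫)]
  exact le_self_add

end Flat

section FibreEquiv

variable (A B : Type u) [CommRing A] [CommRing B] [Algebra A B] (p : Ideal A) [p.IsPrime]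

/-- the localization of the fibre ring at a prime is the fibre local ring. -/
theorem nonempty_fibLocRingEquiv (𝔮 : Ideal (p.Fiber B)) [𝔮.IsPrime] (r : Ideal B) [r.IsPrime]
    (hr : r = 𝔮.comap (Algebra.TensorProduct.includeRight : B →ₐ[A] p.Fiber B)) :
    Nonempty (Localization.AtPrime 𝔮 ≃+* EGA4.FibLocRing A B r) := by
  subst hr
  set r := 𝔮.comap (Algebra.TensorProduct.includeRight : B →ₐ[A] p.Fiber B) with hr
  have e : Localization.AtPrime 𝔮 ≃+* (Localization.AtPrime r ⧸
      (p.map (algebraMap A B)).map (algebraMap B (Localization.AtPrime r))) :=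
    (Ideal.Fiber.algEquivAux₂ p 𝔮).toRingEquiv
  have hp : r.comap (algebraMap A B) = p := by
    have h1 : p = 𝔮.comap (algebraMap A (p.Fiber B)) := Ideal.over_def 𝔮 p
    ext a
    rw [hr, Ideal.mem_comap, Ideal.mem_comap, AlgHom.commutes]
    have h2 : a ∈ p ↔ a ∈ 𝔮.comap (algebraMap A (p.Fiber B)) := by rw [← h1]
    rw [h2, Ideal.mem_comap]
  have hI : (p.map (algebraMap A B)).map (algebraMap B (Localization.AtPrime r)) =
      (r.comap (algebraMap A B)).map (algebraMap A (Localization.AtPrime r)) := by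
    rw [hp, Ideal.map_map, ← IsScalarTower.algebraMap_eq]
  exact ⟨e.trans (Ideal.quotEquivOfEq hI)⟩

end FibreEquiv

section BaseChange

variable (A B A' B' : Type u) [CommRing A] [CommRing B] [CommRing A'] [CommRing B']
  [Algebra A B] [Algebra A A'] [Algebra B B'] [Algebra A' B'] [Algebra A B']
  [IsScalarTower A B B'] [IsScalarTower A A' B'] [Algebra.IsPushout A B A' B']
  (p : Ideal A) [p.IsPrime] (p' : Ideal A') [p'.IsPrime] (hp : p = p'.comap (algebraMap A A'))

/-- `κ(p) → κ(p')`. -/
@[reducible] noncomputable def algκ : Algebra p.ResidueField p'.ResidueField :=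
  (Ideal.ResidueField.map p p' (algebraMap A A') hp).toAlgebra

include hp in
theorem towAκ :
    letI := algκ A A' p p' hp
    IsScalarTower A p.ResidueField p'.ResidueField := by
  letI := algκ A A' p p' hp
  refine IsScalarTower.of_algebraMap_eq fun a => ?_
  change algebraMap A' p'.ResidueField (algebraMap A A' a) =
    Ideal.ResidueField.map p p' (algebraMap A A') hp (algebraMap A p.ResidueField a)
  rw [Ideal.ResidueField.map_algebraMap]

include hp in
/-- the fibre ring of `B'` over `p'` is a flat algebra over the fibre ring of `B` over `p`,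
compatibly with `B → B'`. -/
theorem exists_flat_algebra :
    ∃ (alg : Algebra (p.Fiber B) (p'.Fiber B')),
      @Module.Flat (p.Fiber B) (p'.Fiber B') _ _ alg.toModule ∧
      ∀ b : B, @algebraMap (p.Fiber B) (p'.Fiber B') _ _ alg ((1 : p.ResidueField) ⊗ₜ[A] b) =
        (1 : p'.ResidueField) ⊗ₜ[A'] (algebraMap B B' b) := by
  letI := algκ A A' p p' hp
  haveI : IsScalarTower A p.ResidueField p'.ResidueField := towAκ A A' p p' hp
  -- the map D → E
  let φ : (p.ResidueField ⊗[A] B) →ₐ[A] (p'.ResidueField ⊗[A] B) :=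
    Algebra.TensorProduct.map (IsScalarTower.toAlgHom A p.ResidueField p'.ResidueField)
      (AlgHom.id A B)
  letI algDE : Algebra (p.ResidueField ⊗[A] B) (p'.ResidueField ⊗[A] B) := φ.toRingHom.toAlgebra
  haveI towκDE : IsScalarTower p.ResidueField (p.ResidueField ⊗[A] B)
      (p'.ResidueField ⊗[A] B) := by
    refine IsScalarTower.of_algebraMap_eq fun k => ?_
    change algebraMap p.ResidueField p'.ResidueField k ⊗ₜ[A] (1 : B) = φ (k ⊗ₜ[A] (1 : B))
    simp [φ]
  have H : (algebraMap (p.ResidueField ⊗[A] B) (p'.ResidueField ⊗[A] B)).comp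
      (Algebra.TensorProduct.includeRight : B →ₐ[A] p.ResidueField ⊗[A] B).toRingHom =
      (Algebra.TensorProduct.includeRight : B →ₐ[A] p'.ResidueField ⊗[A] B).toRingHom := by
    ext b
    change φ ((1 : p.ResidueField) ⊗ₜ[A] b) = (1 : p'.ResidueField) ⊗ₜ[A] b
    simp [φ]
  have hpush : Algebra.IsPushout p.ResidueField p'.ResidueField (p.ResidueField ⊗[A] B)
      (p'.ResidueField ⊗[A] B) :=
    Algebra.IsPushout.tensorProduct_tensorProduct A B p.ResidueField p'.ResidueField H
  have hflatDE : Module.Flat (p.ResidueField ⊗[A] B) (p'.ResidueField ⊗[A] B) :=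
    Module.Flat.isBaseChange (R := p.ResidueField) (S := p.ResidueField ⊗[A] B)
      (M := p'.ResidueField) (p'.ResidueField ⊗[A] B) hpush.symm.out
  -- the ring isomorphism D' ≃ E
  haveI hpush' : Algebra.IsPushout A A' B B' := Algebra.IsPushout.symm inferInstance
  let e₁ : A' ⊗[A] B ≃ₐ[A'] B' := Algebra.IsPushout.equiv A A' B B'
  let θ : (p'.ResidueField ⊗[A'] B') ≃ₐ[p'.ResidueField] (p'.ResidueField ⊗[A] B) :=
    (Algebra.TensorProduct.congr (AlgEquiv.refl : p'.ResidueField ≃ₐ[p'.ResidueField] p'.ResidueField)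
      e₁.symm).trans
      (Algebra.TensorProduct.cancelBaseChange A A' p'.ResidueField p'.ResidueField B)
  have hθ : ∀ b : B, θ ((1 : p'.ResidueField) ⊗ₜ[A'] (algebraMap B B' b)) =
      (1 : p'.ResidueField) ⊗ₜ[A] b := by
    intro b
    change Algebra.TensorProduct.cancelBaseChange A A' p'.ResidueField p'.ResidueField B
      ((1 : p'.ResidueField) ⊗ₜ[A'] (e₁.symm (algebraMap B B' b))) = _
    rw [Algebra.IsPushout.equiv_symm_algebraMap_right, Algebra.TensorProduct.cancelBaseChange_tmul,
      one_smul]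
  let alg : Algebra (p.ResidueField ⊗[A] B) (p'.ResidueField ⊗[A'] B') :=
    (θ.symm.toRingEquiv.toRingHom.comp (algebraMap (p.ResidueField ⊗[A] B)
      (p'.ResidueField ⊗[A] B))).toAlgebra
  refine ⟨alg, ?_, ?_⟩
  · letI := alg
    let ℓ : (p'.ResidueField ⊗[A'] B') ≃ₗ[p.ResidueField ⊗[A] B] (p'.ResidueField ⊗[A] B) :=
      { θ.toRingEquiv.toAddEquiv with
        map_smul' := by
          intro d x
          change θ (θ.symm (algebraMap _ _ d) * x) = algebraMap _ _ d * θ x
          rw [map_mul, AlgEquiv.apply_symm_apply] }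
    exact Module.Flat.of_linearEquiv ℓ
  · intro b
    change θ.symm (φ ((1 : p.ResidueField) ⊗ₜ[A] b)) = _
    rw [AlgEquiv.symm_apply_eq, hθ]
    simp [φ]

end BaseChange

section Main

variable (A B A' B' : Type u) [CommRing A] [CommRing B] [CommRing A'] [CommRing B']
  [IsNoetherianRing B] [IsNoetherianRing B']
  [Algebra A B] [Algebra A A'] [Algebra B B'] [Algebra A' B'] [Algebra A B']
  [IsScalarTower A B B'] [IsScalarTower A A' B'] [Algebra.IsPushout A B A' B']

/-- **Base change of fibre depth.** The depth of the fibre local ring can only go up under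
base change `A → A'`. -/
theorem depth_fibLocRing_le (q' : Ideal B') [q'.IsPrime] (q : Ideal B) [q.IsPrime]
    (hq : q = q'.comap (algebraMap B B')) :
    haveI := Groth.Agent.Lib.helper26.SkFlat.isLocalRing_fibLocRing A B q
    haveI := Groth.Agent.Lib.helper26.SkFlat.isLocalRing_fibLocRing A' B' q'
    depth (EGA4.FibLocRing A B q) (EGA4.FibLocRing A B q) ≤
      depth (EGA4.FibLocRing A' B' q') (EGA4.FibLocRing A' B' q') := by
  haveI hl := Groth.Agent.Lib.helper26.SkFlat.isLocalRing_fibLocRing A B q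
  haveI hl' := Groth.Agent.Lib.helper26.SkFlat.isLocalRing_fibLocRing A' B' q'
  set p' : Ideal A' := q'.comap (algebraMap A' B') with hp'
  set p : Ideal A := q.comap (algebraMap A B) with hpdef
  have hp : p = p'.comap (algebraMap A A') := by
    rw [hpdef, hp', hq, Ideal.comap_comap, Ideal.comap_comap,
      ← IsScalarTower.algebraMap_eq, ← IsScalarTower.algebraMap_eq]
  haveI : q'.LiesOver p' := ⟨rfl⟩
  obtain ⟨𝔮', h𝔮'prime, h𝔮'⟩ :=
    Groth.Agent.Lib.Helper24.FibreRegular.exists_fiber_prime A' B' p' q'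
  obtain ⟨alg, hflat, hcompat⟩ := exists_flat_algebra A B A' B' p p' hp
  letI := alg
  set 𝔮 : Ideal (p.Fiber B) := 𝔮'.comap (algebraMap (p.Fiber B) (p'.Fiber B')) with h𝔮
  haveI : 𝔮'.LiesOver 𝔮 := ⟨rfl⟩
  have hr : q = 𝔮.comap (Algebra.TensorProduct.includeRight : B →ₐ[A] p.Fiber B) := by
    ext b
    rw [Ideal.mem_comap, h𝔮, Ideal.mem_comap]
    change _ ↔ algebraMap (p.Fiber B) (p'.Fiber B') ((1 : p.ResidueField) ⊗ₜ[A] b) ∈ 𝔮'
    rw [hcompat b, hq, Ideal.mem_comap]
    exact (Ideal.ext_iff.mp h𝔮' (algebraMap B B' b)).symm.trans Ideal.mem_comap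
  obtain ⟨e⟩ := nonempty_fibLocRingEquiv A B p 𝔮 q hr
  obtain ⟨e'⟩ := nonempty_fibLocRingEquiv A' B' p' 𝔮' q' h𝔮'.symm
  haveI : IsNoetherianRing (Localization.AtPrime 𝔮) := isNoetherianRing_of_ringEquiv _ e.symm
  haveI : IsNoetherianRing (Localization.AtPrime 𝔮') := isNoetherianRing_of_ringEquiv _ e'.symm
  rw [depth_eq_of_ringEquiv (R := Localization.AtPrime 𝔮) (S := EGA4.FibLocRing A B q) e,
    depth_eq_of_ringEquiv (R := Localization.AtPrime 𝔮') (S := EGA4.FibLocRing A' B' q') e']
  exact depth_le_of_flat (p.Fiber B) (p'.Fiber B') 𝔮 𝔮'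

omit [IsNoetherianRing B] [IsNoetherianRing B'] [Algebra A A'] [Algebra B B'] [Algebra A' B']
  [Algebra A B'] [IsScalarTower A B B'] [IsScalarTower A A' B'] [Algebra.IsPushout A B A' B'] in
/-- the ideal generated by `q` in the fibre local ring is its maximal ideal. -/
theorem map_eq_maximalIdeal_fibLocRing (q : Ideal B) [q.IsPrime] :
    haveI := Groth.Agent.Lib.helper26.SkFlat.isLocalRing_fibLocRing A B q
    q.map (algebraMap B (EGA4.FibLocRing A B q)) = maximalIdeal (EGA4.FibLocRing A B q) := by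
  haveI hl := Groth.Agent.Lib.helper26.SkFlat.isLocalRing_fibLocRing A B q
  have hJ : (maximalIdeal (Localization.AtPrime q)).map
      (algebraMap (Localization.AtPrime q) (EGA4.FibLocRing A B q)) =
      q.map (algebraMap B (EGA4.FibLocRing A B q)) := by
    rw [← Localization.AtPrime.map_eq_maximalIdeal, Ideal.map_map,
      ← IsScalarTower.algebraMap_eq]
  rw [← hJ]
  have hsurj : Function.Surjective (algebraMap (Localization.AtPrime q) (EGA4.FibLocRing A B q)) :=
    Ideal.Quotient.mk_surjective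
  rcases Ideal.map_eq_top_or_isMaximal_of_surjective _ hsurj
    (maximalIdeal.isMaximal (Localization.AtPrime q)) with h | h
  · exfalso
    have h1 : (1 : EGA4.FibLocRing A B q) ∈ (maximalIdeal (Localization.AtPrime q)).map
        (algebraMap (Localization.AtPrime q) (EGA4.FibLocRing A B q)) := by
      rw [h]; trivial
    obtain ⟨x, hx, hx1⟩ := (Ideal.mem_map_iff_of_surjective _ hsurj).mp h1
    have h2 : x - 1 ∈ (q.comap (algebraMap A B)).map (algebraMap A (Localization.AtPrime q)) := by
      rw [← Ideal.Quotient.eq]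
      exact hx1
    have h3 := Groth.Agent.Lib.helper26.SkFlat.fibIdeal_le_maximalIdeal A B q h2
    have h4 : (1 : Localization.AtPrime q) ∈ maximalIdeal (Localization.AtPrime q) := by
      have := Ideal.sub_mem _ hx h3
      rwa [sub_sub_cancel] at this
    exact (maximalIdeal.isMaximal (Localization.AtPrime q)).ne_top
      ((Ideal.eq_top_iff_one _).mpr h4)
  · exact IsLocalRing.eq_maximalIdeal h

/-- **Base change of fibre depth**, in the form used in the statements. -/
theorem le_idealDepth_fibLocRing_of_le (q' : Ideal B') [q'.IsPrime] (q : Ideal B) [q.IsPrime]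
    (hq : q = q'.comap (algebraMap B B')) (k : ℕ∞)
    (h : k ≤ idealDepth (q.map (algebraMap B (EGA4.FibLocRing A B q))) (EGA4.FibLocRing A B q)) :
    k ≤ idealDepth (q'.map (algebraMap B' (EGA4.FibLocRing A' B' q')))
      (EGA4.FibLocRing A' B' q') := by
  haveI hl := Groth.Agent.Lib.helper26.SkFlat.isLocalRing_fibLocRing A B q
  haveI hl' := Groth.Agent.Lib.helper26.SkFlat.isLocalRing_fibLocRing A' B' q'
  rw [map_eq_maximalIdeal_fibLocRing] at h ⊢
  exact h.trans (depth_fibLocRing_le A B A' B' q' q hq)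

end Main

end Groth.Agent.Lib.helper26.FibBC
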