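import Mathlib
import Groth.Agent.Lib.Helper26.FibMod1
import Groth.Agent.Lib.Helper26.CM7

/-!
# Fibre stalks of the ring itself (helper26)
-/

set_option autoImplicit false
universe u

namespace Groth.Agent.Lib.helper26.FibMod

open LocCoh IsLocalRing TensorProduct Groth.Agent.Lib.helper26.Depth
open Groth.Agent.Lib.Helper24.FlatDepth

variable (A B : Type u) [CommRing A] [CommRing B] [IsNoetherianRing B]
  [Algebra A B] (q : Ideal B) [q.IsPrime]

/-- the fibre stalk of `B` itself is the fibre local ring. -/
noncomputable def fibLocModSelfEquiv :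
    EGA4.FibLocRing A B q ≃ₗ[Localization.AtPrime q] EGA4.FibLocMod A B q B :=
  (Submodule.quotEquivOfEq
      ((q.comap (algebraMap A B)).map (algebraMap A (Localization.AtPrime q)))
      (((q.comap (algebraMap A B)).map (algebraMap A (Localization.AtPrime q))) •
        (⊤ : Submodule (Localization.AtPrime q) (Localization.AtPrime q)))
      (by rw [smul_eq_mul, Ideal.mul_top])).trans
    (Submodule.Quotient.equiv _ _ (selfEquiv B q) (by
      rw [Submodule.map_smul'', Submodule.map_top, LinearEquiv.range]))

theorem idealDepth_fibLocMod_self :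
    idealDepth (q.map (algebraMap B (EGA4.FibLocRing A B q))) (EGA4.FibLocMod A B q B) =
      idealDepth (q.map (algebraMap B (EGA4.FibLocRing A B q))) (EGA4.FibLocRing A B q) := by
  have hJ : (maximalIdeal (Localization.AtPrime q)).map
      (algebraMap (Localization.AtPrime q) (EGA4.FibLocRing A B q)) =
      q.map (algebraMap B (EGA4.FibLocRing A B q)) := by
    rw [← Localization.AtPrime.map_eq_maximalIdeal, Ideal.map_map,
      ← IsScalarTower.algebraMap_eq]
  have h1 := idealDepth_map_eq (A := Localization.AtPrime q) (B := EGA4.FibLocRing A B q)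
    (maximalIdeal (Localization.AtPrime q)) (EGA4.FibLocMod A B q B)
  have h2 := idealDepth_map_eq (A := Localization.AtPrime q) (B := EGA4.FibLocRing A B q)
    (maximalIdeal (Localization.AtPrime q)) (EGA4.FibLocRing A B q)
  rw [hJ] at h1 h2
  rw [← h1, ← h2]
  exact (idealDepth_congr (fibLocModSelfEquiv A B q)).symm

end Groth.Agent.Lib.helper26.FibMod
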