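import Mathlib
import Groth.Prelude.Def_EGA4b

/-!
# Localizing a fibre local ring (helper26)

For a prime `q` of `B` and a prime `𝔔` of the fibre local ring `C = B_q / p B_q` with contraction
`Q` to `B`: `C_𝔔 ≃ B_Q / p B_Q`, the fibre local ring at `Q`.
-/

set_option autoImplicit false
universe u

namespace Groth.Agent.Lib.helper26.FibDict

open Algebra

section General

variable {B : Type u} [CommRing B] (M : Submonoid B) (I : Ideal B)

/-- localization at a prime of a quotient of a localization is a quotient of the localization at the
contracted prime. -/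
noncomputable def locQuotEquiv
    (𝔔 : Ideal (Localization M ⧸ I.map (algebraMap B (Localization M)))) [𝔔.IsPrime] :
    letI r := 𝔔.comap (algebraMap B (Localization M ⧸ I.map (algebraMap B (Localization M))))
    Localization.AtPrime 𝔔 ≃ₐ[B]
      (Localization.AtPrime r ⧸ I.map (algebraMap B (Localization.AtPrime r))) :=
  letI Sp := Localization M
  letI SpS := B ⧸ I
  letI r := 𝔔.comap (algebraMap B (Sp ⧸ I.map (algebraMap B Sp)))
  letI Sr := Localization.AtPrime r
  haveI : (𝔔.under SpS).LiesOver r := Ideal.under_liesOver_of_liesOver SpS 𝔔 (𝔔.under B)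
  haveI : algebraMapSubmonoid SpS r.primeCompl = (𝔔.under SpS).primeCompl :=
    Ideal.algebraMapSubmonoid_primeCompl_of_liesOver_surjective (𝔔.under SpS) r
      Ideal.Quotient.mk_surjective
  haveI : IsLocalization (algebraMapSubmonoid SpS r.primeCompl) (Localization.AtPrime 𝔔) := by
    convert IsLocalization.isLocalization_isLocalization_atPrime_isLocalization
      (algebraMapSubmonoid SpS M) (Localization.AtPrime 𝔔) 𝔔
  haveI := IsScalarTower.to₁₃₄ B B SpS (Localization.AtPrime 𝔔)
  (IsLocalization.algEquiv (algebraMapSubmonoid SpS r.primeCompl) (Localization.AtPrime 𝔔)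
      (Sr ⧸ I.map (algebraMap B Sr))).restrictScalars B

end General

end Groth.Agent.Lib.helper26.FibDict
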