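import Mathlib
import Groth.Prelude.Def_EGA4b
import Groth.Agent.Lib.Helper26.FibDict
import Groth.Agent.Lib.Helper26.FibBC
import Groth.Agent.Lib.Helper26.DepthLoc
import Groth.Agent.Lib.Helper26.CM7

/-!
# The depth of a fibre local ring along an ideal (helper26)

`depth_{J C} C ≥ k` for `C = B_q / p B_q` as soon as the fibre local rings at all primes `Q ⊇ J`
have depth `≥ k`.
-/

set_option autoImplicit false
set_option linter.style.haveILetI false
universe u

namespace Groth.Agent.Lib.helper26.FibDict

open LocCoh IsLocalRing Algebra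
open Groth.Agent.Lib.Helper24.FlatDepth Groth.Agent.Lib.helper26.Depth

section General

variable {B : Type u} [CommRing B] (M : Submonoid B) (I : Ideal B)

theorem nonempty_locQuotEquiv (P : Ideal (Localization M))
    (hP : P = I.map (algebraMap B (Localization M)))
    (𝔔 : Ideal (Localization M ⧸ P)) [𝔔.IsPrime] (r : Ideal B) [r.IsPrime]
    (hr : r = 𝔔.comap (algebraMap B (Localization M ⧸ P)))
    (P' : Ideal (Localization.AtPrime r))
    (hP' : P' = I.map (algebraMap B (Localization.AtPrime r))) :
    Nonempty (Localization.AtPrime 𝔔 ≃+* Localization.AtPrime r ⧸ P') := by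
  subst hP hP' hr
  exact ⟨(locQuotEquiv M I 𝔔).toRingEquiv⟩

end General

section Fibre

variable (A B : Type u) [CommRing A] [CommRing B] [Algebra A B] (q : Ideal B) [q.IsPrime]

/-- the localization of the fibre local ring at `q` at a prime `𝔔` is the fibre local ring at the
contraction of `𝔔`. -/
theorem nonempty_fibLocRing_localization (𝔔 : Ideal (EGA4.FibLocRing A B q)) [𝔔.IsPrime]
    (r : Ideal B) [r.IsPrime] (hr : r = 𝔔.comap (algebraMap B (EGA4.FibLocRing A B q))) :
    Nonempty (Localization.AtPrime 𝔔 ≃+* EGA4.FibLocRing A B r) := by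
  have hrq : r ≤ q := by
    haveI := Groth.Agent.Lib.helper26.SkFlat.isLocalRing_fibLocRing A B q
    intro b hb
    rw [hr, Ideal.mem_comap] at hb
    have h1 : algebraMap B (EGA4.FibLocRing A B q) b ∈ maximalIdeal (EGA4.FibLocRing A B q) :=
      le_maximalIdeal (Ideal.IsPrime.ne_top inferInstance) hb
    rw [← Groth.Agent.Lib.helper26.FibBC.map_eq_maximalIdeal_fibLocRing A B q] at h1
    by_contra hbq
    have hu : IsUnit (algebraMap B (Localization.AtPrime q) b) :=
      IsLocalization.map_units (Localization.AtPrime q) (⟨b, hbq⟩ : q.primeCompl)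
    have hu' : IsUnit (algebraMap B (EGA4.FibLocRing A B q) b) := by
      rw [IsScalarTower.algebraMap_apply B (Localization.AtPrime q) (EGA4.FibLocRing A B q)]
      exact hu.map _
    rw [Groth.Agent.Lib.helper26.FibBC.map_eq_maximalIdeal_fibLocRing A B q] at h1
    exact (mem_maximalIdeal _).mp h1 hu'
  have hcomap : r.comap (algebraMap A B) = q.comap (algebraMap A B) := by
    apply le_antisymm (Ideal.comap_mono hrq)
    intro a ha
    rw [Ideal.mem_comap, hr, Ideal.mem_comap,
      ← IsScalarTower.algebraMap_apply A B (EGA4.FibLocRing A B q),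
      IsScalarTower.algebraMap_apply A (Localization.AtPrime q) (EGA4.FibLocRing A B q)]
    have : algebraMap (Localization.AtPrime q) (EGA4.FibLocRing A B q)
        (algebraMap A (Localization.AtPrime q) a) = 0 := by
      rw [Ideal.Quotient.algebraMap_eq, Ideal.Quotient.eq_zero_iff_mem]
      exact Ideal.mem_map_of_mem _ ha
    rw [this]
    exact zero_mem _
  refine nonempty_locQuotEquiv q.primeCompl ((q.comap (algebraMap A B)).map (algebraMap A B))
    _ ?_ 𝔔 r hr _ ?_
  · rw [Ideal.map_map, ← IsScalarTower.algebraMap_eq]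
  · rw [hcomap, Ideal.map_map, ← IsScalarTower.algebraMap_eq]

variable [IsNoetherianRing B]

/-- **Dictionary.** -/
theorem le_idealDepth_fibLocRing (J : Ideal B) (k : ℕ∞)
    (hZ : ∀ Q : PrimeSpectrum B, J ≤ Q.asIdeal →
      k ≤ idealDepth (Q.asIdeal.map (algebraMap B (EGA4.FibLocRing A B Q.asIdeal)))
        (EGA4.FibLocRing A B Q.asIdeal)) :
    k ≤ idealDepth (J.map (algebraMap B (EGA4.FibLocRing A B q))) (EGA4.FibLocRing A B q) := by
  rw [idealDepth_eq_iInf_depth_localization]
  refine le_iInf₂ fun 𝔔 h𝔔 => ?_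
  have hprime : (𝔔.asIdeal.comap (algebraMap B (EGA4.FibLocRing A B q))).IsPrime := inferInstance
  obtain ⟨e⟩ := nonempty_fibLocRing_localization A B q 𝔔.asIdeal
    (𝔔.asIdeal.comap (algebraMap B (EGA4.FibLocRing A B q))) rfl
  have hJ : J ≤ 𝔔.asIdeal.comap (algebraMap B (EGA4.FibLocRing A B q)) :=
    Ideal.map_le_iff_le_comap.mp h𝔔
  have h1 := hZ ⟨_, hprime⟩ hJ
  haveI hl := Groth.Agent.Lib.helper26.SkFlat.isLocalRing_fibLocRing A B
    (𝔔.asIdeal.comap (algebraMap B (EGA4.FibLocRing A B q)))
  rw [Groth.Agent.Lib.helper26.FibBC.map_eq_maximalIdeal_fibLocRing] at h1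
  rw [Groth.Agent.Lib.helper26.Depth.depth_localizedModule_self]
  refine h1.trans (le_of_eq ?_)
  exact depth_eq_of_ringEquiv (R := Localization.AtPrime 𝔔.asIdeal)
    (S := EGA4.FibLocRing A B (𝔔.asIdeal.comap (algebraMap B (EGA4.FibLocRing A B q)))) e

end Fibre

end Groth.Agent.Lib.helper26.FibDict
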