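import Mathlib

/-!
# The `ℤ`-grading on the localization of a graded ring at homogeneous elements (helper26)

`R` a commutative ring graded by an additive commutative monoid `ι` (e.g. `ℕ`), `c : ι →+ ℤ`, and
`T` a submonoid of `R` consisting of homogeneous elements.  The localization `S = T⁻¹R` is
`ℤ`-graded: `a/s` has degree `c (deg a) - c (deg s)`.

The grading is defined through the coaction `coact : S → S[ℤ]`, `a/s ↦ (a/s) t^{deg}`:
`gr n = {z | coact z = z t^n}`.
-/

set_option autoImplicit false
set_option linter.unusedSectionVars false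
universe u

namespace Groth.Agent.Lib.helper26.GrLoc

open DirectSum AddMonoidAlgebra

variable {ι : Type} [AddCommMonoid ι] [DecidableEq ι] (c : ι →+ ℤ)
variable {R : Type u} [CommRing R] (𝒜 : ι → AddSubgroup R) [GradedRing 𝒜]
variable (T : Submonoid R)

/-- ring homomorphisms out of a graded ring agreeing on homogeneous elements agree -/
theorem ringHom_ext_of_homogeneous {X : Type*} [Semiring X] {f g : R →+* X}
    (h : ∀ i, ∀ a ∈ 𝒜 i, f a = g a) : f = g := by
  classical
  ext x
  rw [← DirectSum.sum_support_decompose 𝒜 x, map_sum, map_sum]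
  exact Finset.sum_congr rfl (fun i _ => h i _ (SetLike.coe_mem _))

/-- the additive maps `R_i → S[ℤ]`, `a ↦ (a/1) t^{c i}` -/
noncomputable def coactAdd (i : ι) : 𝒜 i →+ AddMonoidAlgebra (Localization T) ℤ where
  toFun a := AddMonoidAlgebra.single (c i) (algebraMap R (Localization T) (a : R))
  map_zero' := by simp
  map_add' a b := by
    rw [AddSubgroup.coe_add, map_add, AddMonoidAlgebra.single_add]

/-- the coaction on `R`: `R → S[ℤ]`, `x ↦ ∑ (x_i/1) t^{c i}` -/
noncomputable def coact0 : R →+* AddMonoidAlgebra (Localization T) ℤ :=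
  (DirectSum.toSemiring (coactAdd c 𝒜 T)
    (by
      show AddMonoidAlgebra.single (c 0) (algebraMap R (Localization T) (1 : R)) = 1
      rw [map_zero, map_one]
      rfl)
    (by
      intro i j ai aj
      show AddMonoidAlgebra.single (c (i + j)) (algebraMap R (Localization T) ((ai : R) * (aj : R))) =
        AddMonoidAlgebra.single (c i) (algebraMap R (Localization T) (ai : R)) *
          AddMonoidAlgebra.single (c j) (algebraMap R (Localization T) (aj : R))
      rw [AddMonoidAlgebra.single_mul_single, map_add, map_mul])).comp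
    (DirectSum.decomposeRingEquiv 𝒜).toRingHom

theorem coact0_of_mem {i : ι} {a : R} (ha : a ∈ 𝒜 i) :
    coact0 c 𝒜 T a = AddMonoidAlgebra.single (c i) (algebraMap R (Localization T) a) := by
  unfold coact0
  rw [RingHom.comp_apply]
  have h1 : (DirectSum.decomposeRingEquiv 𝒜).toRingHom a =
      DirectSum.of (fun i => 𝒜 i) i ⟨a, ha⟩ := DirectSum.decompose_of_mem 𝒜 ha
  rw [h1, DirectSum.toSemiring_of]
  rfl

variable (hT : ∀ s ∈ T, ∃ i, s ∈ 𝒜 i)

include hT in
theorem isUnit_coact0 (s : T) : IsUnit (coact0 c 𝒜 T (s : R)) := by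
  obtain ⟨j, hj⟩ := hT s s.2
  rw [coact0_of_mem c 𝒜 T hj]
  refine IsUnit.of_mul_eq_one (AddMonoidAlgebra.single (-(c j)) (IsLocalization.mk' (Localization T) 1 s)) ?_
  rw [AddMonoidAlgebra.single_mul_single, add_neg_cancel, mul_comm, IsLocalization.mk'_spec, map_one]
  rfl

/-- the coaction `S → S[ℤ]` -/
noncomputable def coact : Localization T →+* AddMonoidAlgebra (Localization T) ℤ :=
  IsLocalization.lift (M := T) (g := coact0 c 𝒜 T) (isUnit_coact0 c 𝒜 T hT)

theorem coact_algebraMap (a : R) :
    coact c 𝒜 T hT (algebraMap R (Localization T) a) = coact0 c 𝒜 T a :=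
  IsLocalization.lift_eq _ a

theorem coact_mk'_one {j : ι} (s : T) (hs : (s : R) ∈ 𝒜 j) :
    coact c 𝒜 T hT (IsLocalization.mk' (Localization T) 1 s) =
      AddMonoidAlgebra.single (-(c j)) (IsLocalization.mk' (Localization T) 1 s) := by
  have h1 : coact c 𝒜 T hT (IsLocalization.mk' (Localization T) 1 s) *
      coact c 𝒜 T hT (algebraMap R (Localization T) (s : R)) = 1 := by
    rw [← map_mul, IsLocalization.mk'_spec, map_one, map_one]
  rw [coact_algebraMap, coact0_of_mem c 𝒜 T hs] at h1
  have h2 : (AddMonoidAlgebra.single (c j) (algebraMap R (Localization T) (s : R)) :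
      AddMonoidAlgebra (Localization T) ℤ) *
      AddMonoidAlgebra.single (-(c j)) (IsLocalization.mk' (Localization T) 1 s) = 1 := by
    rw [AddMonoidAlgebra.single_mul_single, add_neg_cancel, mul_comm, IsLocalization.mk'_spec,
      map_one]
    rfl
  calc coact c 𝒜 T hT (IsLocalization.mk' (Localization T) 1 s)
      = coact c 𝒜 T hT (IsLocalization.mk' (Localization T) 1 s) *
        ((AddMonoidAlgebra.single (c j) (algebraMap R (Localization T) (s : R)) :
          AddMonoidAlgebra (Localization T) ℤ) *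
        AddMonoidAlgebra.single (-(c j)) (IsLocalization.mk' (Localization T) 1 s)) := by
        rw [h2, mul_one]
    _ = AddMonoidAlgebra.single (-(c j)) (IsLocalization.mk' (Localization T) 1 s) := by
        rw [← mul_assoc, h1, one_mul]

theorem coact_mk' {i j : ι} {a : R} (ha : a ∈ 𝒜 i) (s : T) (hs : (s : R) ∈ 𝒜 j) :
    coact c 𝒜 T hT (IsLocalization.mk' (Localization T) a s) =
      AddMonoidAlgebra.single (c i - c j) (IsLocalization.mk' (Localization T) a s) := by
  have h1 : IsLocalization.mk' (Localization T) a s =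
      algebraMap R (Localization T) a * IsLocalization.mk' (Localization T) 1 s := by
    rw [IsLocalization.mul_mk'_eq_mk'_of_mul, mul_one]
  rw [h1, map_mul, coact_algebraMap, coact0_of_mem c 𝒜 T ha, coact_mk'_one c 𝒜 T hT s hs,
    AddMonoidAlgebra.single_mul_single, sub_eq_add_neg]

/-- the homogeneous pieces of the localization -/
noncomputable def gr (n : ℤ) : AddSubgroup (Localization T) where
  carrier := {z | coact c 𝒜 T hT z = AddMonoidAlgebra.single n z}
  add_mem' {a b} ha hb := by
    show coact c 𝒜 T hT (a + b) = AddMonoidAlgebra.single n (a + b)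
    rw [map_add, AddMonoidAlgebra.single_add, ha, hb]
  zero_mem' := by
    show coact c 𝒜 T hT 0 = AddMonoidAlgebra.single n 0
    rw [map_zero, AddMonoidAlgebra.single_zero]
  neg_mem' {a} ha := by
    show coact c 𝒜 T hT (-a) = AddMonoidAlgebra.single n (-a)
    rw [map_neg, AddMonoidAlgebra.single_neg, ha]

theorem mem_gr_iff (n : ℤ) (z : Localization T) :
    z ∈ gr c 𝒜 T hT n ↔ coact c 𝒜 T hT z = AddMonoidAlgebra.single n z := Iff.rfl

theorem mk'_mem_gr {i j : ι} {a : R} (ha : a ∈ 𝒜 i) (s : T) (hs : (s : R) ∈ 𝒜 j) :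
    IsLocalization.mk' (Localization T) a s ∈ gr c 𝒜 T hT (c i - c j) :=
  coact_mk' c 𝒜 T hT ha s hs

theorem algebraMap_mem_gr {i : ι} {a : R} (ha : a ∈ 𝒜 i) :
    algebraMap R (Localization T) a ∈ gr c 𝒜 T hT (c i) := by
  rw [mem_gr_iff, coact_algebraMap, coact0_of_mem c 𝒜 T ha]

instance gradedMonoid : SetLike.GradedMonoid (gr c 𝒜 T hT) where
  one_mem := by
    rw [mem_gr_iff, map_one]
    rfl
  mul_mem := by
    intro i j a b ha hb
    rw [mem_gr_iff] at ha hb ⊢
    rw [map_mul, ha, hb, AddMonoidAlgebra.single_mul_single]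

end Groth.Agent.Lib.helper26.GrLoc
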