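import Mathlib
import Groth.Agent.Lib.Helper26.GrLoc1

/-!
# The `ℤ`-grading on the localization at homogeneous elements: the decomposition (helper26)
-/

set_option autoImplicit false
set_option linter.unusedSectionVars false
universe u

namespace Groth.Agent.Lib.helper26.GrLoc

open DirectSum AddMonoidAlgebra
open scoped Classical

variable {ι : Type} [AddCommMonoid ι] [DecidableEq ι] (c : ι →+ ℤ)
variable {R : Type u} [CommRing R] (𝒜 : ι → AddSubgroup R) [GradedRing 𝒜]
variable (T : Submonoid R) (hT : ∀ s ∈ T, ∃ i, s ∈ 𝒜 i)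

theorem mk'_eq_sum (a : R) (s : T) :
    IsLocalization.mk' (Localization T) a s =
      ∑ i ∈ (DirectSum.decompose 𝒜 a).support,
        IsLocalization.mk' (Localization T) ((DirectSum.decompose 𝒜 a i : 𝒜 i) : R) s := by
  have h1 : ∀ b : R, IsLocalization.mk' (Localization T) b s =
      algebraMap R (Localization T) b * IsLocalization.mk' (Localization T) 1 s := by
    intro b
    rw [IsLocalization.mul_mk'_eq_mk'_of_mul, mul_one]
  conv_lhs => rw [h1, ← DirectSum.sum_support_decompose 𝒜 a, map_sum, Finset.sum_mul]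
  exact Finset.sum_congr rfl (fun i _ => (h1 _).symm)

theorem coact_mk'_sum {j : ι} (a : R) (s : T) (hs : (s : R) ∈ 𝒜 j) :
    coact c 𝒜 T hT (IsLocalization.mk' (Localization T) a s) =
      ∑ i ∈ (DirectSum.decompose 𝒜 a).support,
        AddMonoidAlgebra.single (c i - c j)
          (IsLocalization.mk' (Localization T) ((DirectSum.decompose 𝒜 a i : 𝒜 i) : R) s) := by
  rw [mk'_eq_sum 𝒜 T a s, map_sum]
  exact Finset.sum_congr rfl (fun i _ => coact_mk' c 𝒜 T hT (SetLike.coe_mem _) s hs)

theorem coeff_coact_mem (z : Localization T) (n : ℤ) :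
    (coact c 𝒜 T hT z).coeff n ∈ gr c 𝒜 T hT n := by
  obtain ⟨a, s, rfl⟩ := IsLocalization.exists_mk'_eq T z
  obtain ⟨j, hj⟩ := hT s s.2
  rw [coact_mk'_sum c 𝒜 T hT a s hj]
  have : (∑ i ∈ (DirectSum.decompose 𝒜 a).support,
      (AddMonoidAlgebra.single (c i - c j)
        (IsLocalization.mk' (Localization T) ((DirectSum.decompose 𝒜 a i : 𝒜 i) : R) s) :
        AddMonoidAlgebra (Localization T) ℤ)).coeff n =
      ∑ i ∈ (DirectSum.decompose 𝒜 a).support,
        (AddMonoidAlgebra.single (c i - c j)
          (IsLocalization.mk' (Localization T) ((DirectSum.decompose 𝒜 a i : 𝒜 i) : R) s) :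
          AddMonoidAlgebra (Localization T) ℤ).coeff n := by
    rw [AddMonoidAlgebra.coeff_sum, Finsupp.finset_sum_apply]
  rw [this]
  refine AddSubgroup.sum_mem _ fun i _ => ?_
  rw [AddMonoidAlgebra.coeff_single, Finsupp.single_apply]
  split_ifs with h
  · rw [← h]
    exact mk'_mem_gr c 𝒜 T hT (SetLike.coe_mem _) s hj
  · exact zero_mem _

/-- the counit `S[ℤ] → S`, `t ↦ 1` -/
noncomputable def counit : AddMonoidAlgebra (Localization T) ℤ →+* Localization T :=
  AddMonoidAlgebra.liftNCRingHom (RingHom.id (Localization T))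
    (1 : Multiplicative ℤ →* Localization T) (fun _ _ => Commute.all _ _)

theorem counit_single (n : ℤ) (y : Localization T) :
    counit T (AddMonoidAlgebra.single n y) = y := by
  unfold counit
  rw [AddMonoidAlgebra.liftNCRingHom_single]
  simp

theorem counit_apply (f : AddMonoidAlgebra (Localization T) ℤ) :
    counit T f = ∑ n ∈ f.coeff.support, f.coeff n := by
  conv_lhs => rw [← AddMonoidAlgebra.sum_coeff_single f, Finsupp.sum, map_sum]
  exact Finset.sum_congr rfl (fun n _ => counit_single T n _)

theorem counit_coact (z : Localization T) : counit T (coact c 𝒜 T hT z) = z := by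
  have h : (counit T).comp (coact c 𝒜 T hT) = RingHom.id _ := by
    refine IsLocalization.ringHom_ext T ?_
    refine ringHom_ext_of_homogeneous 𝒜 ?_
    intro i a ha
    rw [RingHom.comp_apply, RingHom.comp_apply, coact_algebraMap, coact0_of_mem c 𝒜 T ha,
      counit_single]
    rfl
  exact RingHom.congr_fun h z

theorem sum_coeff_coact (z : Localization T) :
    ∑ n ∈ (coact c 𝒜 T hT z).coeff.support, (coact c 𝒜 T hT z).coeff n = z := by
  rw [← counit_apply, counit_coact]

/-- the decomposition map -/
noncomputable def decomp (z : Localization T) : ⨁ n, gr c 𝒜 T hT n :=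
  ∑ n ∈ (coact c 𝒜 T hT z).coeff.support,
    DirectSum.of (fun n => gr c 𝒜 T hT n) n ⟨(coact c 𝒜 T hT z).coeff n, coeff_coact_mem c 𝒜 T hT z n⟩

theorem coe_decomp (z : Localization T) :
    DirectSum.coeAddMonoidHom (gr c 𝒜 T hT) (decomp c 𝒜 T hT z) = z := by
  unfold decomp
  rw [map_sum]
  simp only [DirectSum.coeAddMonoidHom_of]
  exact sum_coeff_coact c 𝒜 T hT z

theorem coact_coe (x : ⨁ n, gr c 𝒜 T hT n) (n : ℤ) :
    (coact c 𝒜 T hT (DirectSum.coeAddMonoidHom (gr c 𝒜 T hT) x)).coeff n = (x n : Localization T) := by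
  classical
  induction x using DirectSum.induction_on with
  | zero => simp
  | of m y =>
    rw [DirectSum.coeAddMonoidHom_of, (mem_gr_iff c 𝒜 T hT m _).1 y.2, AddMonoidAlgebra.coeff_single,
      Finsupp.single_apply]
    by_cases h : m = n
    · subst h
      rw [if_pos rfl, DirectSum.of_eq_same]
    · rw [if_neg h, DirectSum.of_eq_of_ne _ _ _ (Ne.symm h)]
      rfl
  | add x y hx hy =>
    rw [map_add, map_add, AddMonoidAlgebra.coeff_add, Finsupp.add_apply, hx, hy, DirectSum.add_apply]
    rfl

theorem coe_injective : Function.Injective (DirectSum.coeAddMonoidHom (gr c 𝒜 T hT)) := by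
  rw [injective_iff_map_eq_zero]
  intro x hx
  ext n
  have := coact_coe c 𝒜 T hT x n
  rw [hx, map_zero] at this
  rw [DirectSum.zero_apply]
  rw [← this]
  rfl

noncomputable instance decomposition : DirectSum.Decomposition (gr c 𝒜 T hT) where
  decompose' := decomp c 𝒜 T hT
  left_inv := coe_decomp c 𝒜 T hT
  right_inv x := by
    apply coe_injective c 𝒜 T hT
    rw [coe_decomp]

noncomputable instance gradedRing : GradedRing (gr c 𝒜 T hT) where
  toDecomposition := decomposition c 𝒜 T hT

theorem coe_decompose (z : Localization T) (n : ℤ) :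
    ((DirectSum.decompose (gr c 𝒜 T hT) z n : gr c 𝒜 T hT n) : Localization T) =
      (coact c 𝒜 T hT z).coeff n := by
  have h := coact_coe c 𝒜 T hT (DirectSum.decompose (gr c 𝒜 T hT) z) n
  have h2 : DirectSum.coeAddMonoidHom (gr c 𝒜 T hT) (DirectSum.decompose (gr c 𝒜 T hT) z) = z :=
    DirectSum.Decomposition.left_inv z
  rw [h2] at h
  exact h.symm

end Groth.Agent.Lib.helper26.GrLoc
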