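import Mathlib
import Groth.Agent.Lib.Helper26.GrLoc2

/-!
# The `ℤ`-grading on the localization at homogeneous elements: shape of homogeneous elements (helper26)
-/

set_option autoImplicit false
set_option linter.unusedSectionVars false
universe u

namespace Groth.Agent.Lib.helper26.GrLoc

open DirectSum AddMonoidAlgebra
open scoped Classical

variable {ι : Type} [AddCommMonoid ι] [DecidableEq ι] (c : ι →+ ℤ)
variable {R : Type u} [CommRing R] (𝒜 : ι → AddSubgroup R) [GradedRing 𝒜]
variable (T : Submonoid R) (hT : ∀ s ∈ T, ∃ i, s ∈ 𝒜 i)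

/-- a homogeneous element of the localization is zero or a quotient of homogeneous elements -/
theorem exists_mk'_of_mem_gr (hc : Function.Injective c) {n : ℤ} {z : Localization T}
    (hz : z ∈ gr c 𝒜 T hT n) :
    z = 0 ∨ ∃ (i j : ι) (a : R) (s : T), a ∈ 𝒜 i ∧ (s : R) ∈ 𝒜 j ∧ c i - c j = n ∧
      z = IsLocalization.mk' (Localization T) a s := by
  obtain ⟨a, s, rfl⟩ := IsLocalization.exists_mk'_eq T z
  obtain ⟨j, hj⟩ := hT s s.2
  have h1 : IsLocalization.mk' (Localization T) a s =
      (coact c 𝒜 T hT (IsLocalization.mk' (Localization T) a s)).coeff n := by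
    rw [(mem_gr_iff c 𝒜 T hT n _).1 hz, AddMonoidAlgebra.coeff_single, Finsupp.single_eq_same]
  rw [coact_mk'_sum c 𝒜 T hT a s hj] at h1
  have h2 : (∑ i ∈ (DirectSum.decompose 𝒜 a).support,
      (AddMonoidAlgebra.single (c i - c j)
        (IsLocalization.mk' (Localization T) ((DirectSum.decompose 𝒜 a i : 𝒜 i) : R) s) :
        AddMonoidAlgebra (Localization T) ℤ)).coeff n =
      ∑ i ∈ (DirectSum.decompose 𝒜 a).support,
        (AddMonoidAlgebra.single (c i - c j)
          (IsLocalization.mk' (Localization T) ((DirectSum.decompose 𝒜 a i : 𝒜 i) : R) s) :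
          AddMonoidAlgebra (Localization T) ℤ).coeff n := by
    rw [AddMonoidAlgebra.coeff_sum, Finsupp.finsetSum_apply]
  rw [h2] at h1
  by_cases hex : ∃ i, c i - c j = n
  · obtain ⟨i, hi⟩ := hex
    right
    refine ⟨i, j, ((DirectSum.decompose 𝒜 a i : 𝒜 i) : R), s, SetLike.coe_mem _, hj, hi, ?_⟩
    rw [h1]
    have h3 : ∀ i' ∈ (DirectSum.decompose 𝒜 a).support,
        (AddMonoidAlgebra.single (c i' - c j)
          (IsLocalization.mk' (Localization T) ((DirectSum.decompose 𝒜 a i' : 𝒜 i') : R) s) :
          AddMonoidAlgebra (Localization T) ℤ).coeff n =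
        if i' = i then
          IsLocalization.mk' (Localization T) ((DirectSum.decompose 𝒜 a i : 𝒜 i) : R) s else 0 := by
      intro i' _
      rw [AddMonoidAlgebra.coeff_single, Finsupp.single_apply]
      by_cases hii : i' = i
      · subst hii
        rw [if_pos hi, if_pos rfl]
      · rw [if_neg hii, if_neg]
        intro h
        apply hii
        apply hc
        have : c i' - c j = c i - c j := by rw [h, hi]
        linarith
    rw [Finset.sum_congr rfl h3, Finset.sum_ite_eq']
    split_ifs with hmem
    · rfl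
    · rw [DFinsupp.notMem_support_iff] at hmem
      rw [hmem]
      simp
  · left
    rw [h1]
    refine Finset.sum_eq_zero fun i' _ => ?_
    rw [AddMonoidAlgebra.coeff_single, Finsupp.single_apply, if_neg]
    intro h
    exact hex ⟨i', h⟩

end Groth.Agent.Lib.helper26.GrLoc
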