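import Mathlib
import Groth.Agent.Lib.Helper26.GrLoc3

/-!
# Localizing an `ℕ`-graded ring at the homogeneous elements outside a homogeneous prime (helper26)

`S = T⁻¹A`, `T` = homogeneous elements not in `p`; `S` is `ℤ`-graded and `S₀ ≅ A_(p)`
(`HomogeneousLocalization.AtPrime`).
-/

set_option autoImplicit false
set_option linter.unusedSectionVars false
universe u

namespace Groth.Agent.Lib.helper26.GrLoc

open DirectSum
open scoped Classical

variable {A : Type u} [CommRing A] (𝒜 : ℕ → AddSubgroup A) [GradedRing 𝒜]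
variable (p : Ideal A) [hp : p.IsPrime]

/-- the homogeneous elements outside `p` -/
def homCompl : Submonoid A where
  carrier := {s | s ∉ p ∧ ∃ i, s ∈ 𝒜 i}
  one_mem' := ⟨fun h => hp.ne_top ((Ideal.eq_top_iff_one p).2 h), 0, SetLike.GradedOne.one_mem⟩
  mul_mem' := by
    rintro a b ⟨ha, i, hai⟩ ⟨hb, j, hbj⟩
    refine ⟨fun h => ?_, i + j, SetLike.GradedMul.mul_mem hai hbj⟩
    rcases hp.mem_or_mem h with h | h
    · exact ha h
    · exact hb h

theorem homCompl_hom : ∀ s ∈ homCompl 𝒜 p, ∃ i, s ∈ 𝒜 i := fun _ hs => hs.2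

theorem homCompl_le : homCompl 𝒜 p ≤ p.primeCompl := fun _ hs => hs.1

theorem mem_homCompl {s : A} {i : ℕ} (hs : s ∈ 𝒜 i) (hsp : s ∉ p) : s ∈ homCompl 𝒜 p :=
  ⟨hsp, i, hs⟩

/-- the degree map `ℕ → ℤ` -/
abbrev cN : ℕ →+ ℤ := Nat.castAddMonoidHom ℤ

theorem cN_injective : Function.Injective cN := Nat.cast_injective

/-- the localization at the homogeneous elements outside `p` -/
abbrev SS : Type u := Localization (homCompl 𝒜 p)

/-- its `ℤ`-grading -/
noncomputable abbrev grS : ℤ → AddSubgroup (SS 𝒜 p) :=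
  gr cN 𝒜 (homCompl 𝒜 p) (homCompl_hom 𝒜 p)

/-- the map `T⁻¹A → A_p` -/
noncomputable def toAtPrime : SS 𝒜 p →+* Localization.AtPrime p :=
  IsLocalization.lift (M := homCompl 𝒜 p) (g := algebraMap A (Localization.AtPrime p))
    (fun s => IsLocalization.map_units _ (⟨s, homCompl_le 𝒜 p s.2⟩ : p.primeCompl))

theorem toAtPrime_mk' (a : A) (s : homCompl 𝒜 p) :
    toAtPrime 𝒜 p (IsLocalization.mk' (SS 𝒜 p) a s) =
      IsLocalization.mk' (Localization.AtPrime p) a (⟨s, homCompl_le 𝒜 p s.2⟩ : p.primeCompl) := by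
  unfold toAtPrime
  rw [IsLocalization.lift_mk'_spec]
  exact (IsLocalization.mk'_spec' (Localization.AtPrime p) a
    (⟨s, homCompl_le 𝒜 p s.2⟩ : p.primeCompl)).symm

/-- an element outside a homogeneous ideal has a homogeneous component outside it -/
theorem exists_decompose_notMem (hph : p.IsHomogeneous 𝒜) {w : A} (hw : w ∉ p) :
    ∃ k, ((DirectSum.decompose 𝒜 w k : 𝒜 k) : A) ∉ p := by
  by_contra h
  push_neg at h
  apply hw
  rw [← DirectSum.sum_support_decompose 𝒜 w]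
  exact Ideal.sum_mem _ fun k _ => h k

theorem toAtPrime_eq_zero (hph : p.IsHomogeneous 𝒜) {n : ℤ} {z : SS 𝒜 p} (hz : z ∈ grS 𝒜 p n)
    (h0 : toAtPrime 𝒜 p z = 0) : z = 0 := by
  rcases exists_mk'_of_mem_gr cN 𝒜 (homCompl 𝒜 p) (homCompl_hom 𝒜 p) cN_injective hz with h | h
  · exact h
  · obtain ⟨i, j, a, s, ha, hs, hij, rfl⟩ := h
    rw [toAtPrime_mk', IsLocalization.mk'_eq_zero_iff] at h0
    obtain ⟨w, hw⟩ := h0
    obtain ⟨k, hk⟩ := exists_decompose_notMem 𝒜 p hph w.2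
    rw [IsLocalization.mk'_eq_zero_iff]
    refine ⟨⟨((DirectSum.decompose 𝒜 (w : A) k : 𝒜 k) : A), mem_homCompl 𝒜 p (SetLike.coe_mem _) hk⟩, ?_⟩
    show ((DirectSum.decompose 𝒜 (w : A) k : 𝒜 k) : A) * a = 0
    rw [← DirectSum.coe_decompose_mul_add_of_right_mem 𝒜 ha, hw, DirectSum.decompose_zero,
      DirectSum.zero_apply, ZeroMemClass.coe_zero]

/-- the degree zero subring -/
abbrev D0 {S : Type u} [CommRing S] (𝒮 : ℤ → AddSubgroup S) [GradedRing 𝒮] : Subring S :=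
  SetLike.GradeZero.subring 𝒮

/-- `S₀ → A_p` -/
noncomputable def zeroToAtPrime : D0 (grS 𝒜 p) →+* Localization.AtPrime p :=
  (toAtPrime 𝒜 p).comp (D0 (grS 𝒜 p)).subtype

theorem zeroToAtPrime_injective (hph : p.IsHomogeneous 𝒜) :
    Function.Injective (zeroToAtPrime 𝒜 p) := by
  rw [injective_iff_map_eq_zero]
  intro z hz
  have := toAtPrime_eq_zero 𝒜 p hph (n := 0) (z := (z : SS 𝒜 p)) z.2 hz
  exact Subtype.ext this

theorem range_zeroToAtPrime :
    (zeroToAtPrime 𝒜 p).range =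
      (algebraMap (HomogeneousLocalization.AtPrime 𝒜 p) (Localization.AtPrime p)).range := by
  apply le_antisymm
  · rintro _ ⟨z, rfl⟩
    rcases exists_mk'_of_mem_gr cN 𝒜 (homCompl 𝒜 p) (homCompl_hom 𝒜 p) cN_injective
      (n := 0) (z := (z : SS 𝒜 p)) z.2 with h | h
    · refine ⟨0, ?_⟩
      rw [map_zero]
      show (0 : Localization.AtPrime p) = toAtPrime 𝒜 p (z : SS 𝒜 p)
      rw [h, map_zero]
    · obtain ⟨i, j, a, s, ha, hs, hij, hz⟩ := h
      have hij' : i = j := by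
        have : (i : ℤ) - (j : ℤ) = 0 := hij
        omega
      subst hij'
      refine ⟨HomogeneousLocalization.mk ⟨i, ⟨a, ha⟩, ⟨s, hs⟩, homCompl_le 𝒜 p s.2⟩, ?_⟩
      rw [HomogeneousLocalization.algebraMap_apply, HomogeneousLocalization.val_mk]
      show Localization.mk a _ = toAtPrime 𝒜 p (z : SS 𝒜 p)
      rw [hz, toAtPrime_mk', Localization.mk_eq_mk']
  · rintro _ ⟨y, rfl⟩
    obtain ⟨⟨i, a, s, hs⟩, rfl⟩ := HomogeneousLocalization.mk_surjective y
    rw [HomogeneousLocalization.algebraMap_apply, HomogeneousLocalization.val_mk]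
    have hsT : (s : A) ∈ homCompl 𝒜 p := mem_homCompl 𝒜 p s.2 hs
    have hmem : IsLocalization.mk' (SS 𝒜 p) (a : A) (⟨s, hsT⟩ : homCompl 𝒜 p) ∈ grS 𝒜 p 0 := by
      have := mk'_mem_gr cN 𝒜 (homCompl 𝒜 p) (homCompl_hom 𝒜 p) a.2 (⟨s, hsT⟩ : homCompl 𝒜 p) s.2
      rwa [sub_self] at this
    refine ⟨⟨_, hmem⟩, ?_⟩
    show toAtPrime 𝒜 p (IsLocalization.mk' (SS 𝒜 p) (a : A) (⟨s, hsT⟩ : homCompl 𝒜 p)) = _
    rw [toAtPrime_mk', Localization.mk_eq_mk']

/-- the degree zero part of `T⁻¹A` is the homogeneous localization `A_(p)` -/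
noncomputable def zeroEquiv (hph : p.IsHomogeneous 𝒜) :
    D0 (grS 𝒜 p) ≃+* HomogeneousLocalization.AtPrime 𝒜 p :=
  ((RingEquiv.ofBijective (zeroToAtPrime 𝒜 p).rangeRestrict
    ⟨by
      intro a b hab
      apply zeroToAtPrime_injective 𝒜 p hph
      exact congrArg Subtype.val hab,
      (zeroToAtPrime 𝒜 p).rangeRestrict_surjective⟩).trans
    (RingEquiv.subringCongr (range_zeroToAtPrime 𝒜 p))).trans
  (RingEquiv.ofBijective
    (algebraMap (HomogeneousLocalization.AtPrime 𝒜 p) (Localization.AtPrime p)).rangeRestrict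
    ⟨by
      intro a b hab
      apply HomogeneousLocalization.val_injective
      exact congrArg Subtype.val hab,
     (algebraMap (HomogeneousLocalization.AtPrime 𝒜 p)
      (Localization.AtPrime p)).rangeRestrict_surjective⟩).symm

end Groth.Agent.Lib.helper26.GrLoc
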