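import Mathlib
import Groth.Agent.Lib.Helper26.GrLoc4

/-!
# `ℤ`-graded rings with a homogeneous unit of positive degree (helper26)

`S` a `ℤ`-graded ring, `S₀` its degree zero subring, `t ∈ S_d` a unit with `d > 0`.
Then `q ↦ rad(qS)` is a strictly monotone map from primes of `S₀` to homogeneous primes of `S`,
inverse to contraction.
-/

set_option autoImplicit false
set_option linter.unusedSectionVars false
universe u

namespace Groth.Agent.Lib.helper26.GrUnit

open DirectSum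
open GrLoc (D0)

variable {S : Type u} [CommRing S] (𝒮 : ℤ → AddSubgroup S) [GradedRing 𝒮]

/-- the degree zero projection -/
noncomputable def proj0 (z : S) : D0 𝒮 :=
  ⟨((DirectSum.decompose 𝒮 z 0 : 𝒮 0) : S), SetLike.coe_mem _⟩

theorem coe_proj0 (z : S) : ((proj0 𝒮 z : D0 𝒮) : S) = ((DirectSum.decompose 𝒮 z 0 : 𝒮 0) : S) := rfl

theorem proj0_add (a b : S) : proj0 𝒮 (a + b) = proj0 𝒮 a + proj0 𝒮 b := by
  apply Subtype.ext
  simp [coe_proj0, DirectSum.decompose_add]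

theorem proj0_zero : proj0 𝒮 0 = 0 := by
  apply Subtype.ext
  simp [coe_proj0]

theorem proj0_coe (x : D0 𝒮) : proj0 𝒮 (x : S) = x := by
  apply Subtype.ext
  rw [coe_proj0]
  exact DirectSum.decompose_of_mem_same 𝒮 x.2

theorem proj0_mul_coe (s : S) (x : D0 𝒮) : proj0 𝒮 (s * x) = proj0 𝒮 s * x := by
  apply Subtype.ext
  rw [coe_proj0]
  have h := DirectSum.coe_decompose_mul_add_of_right_mem 𝒮 (i := 0) (j := 0) (a := s) (b := (x : S)) x.2
  rw [add_zero] at h
  rw [h]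
  rfl

/-- `IS ∩ S₀ = I` -/
theorem comap_map (I : Ideal (D0 𝒮)) :
    (I.map (algebraMap (D0 𝒮) S)).comap (algebraMap (D0 𝒮) S) = I := by
  refine le_antisymm ?_ Ideal.le_comap_map
  intro x hx
  rw [Ideal.mem_comap] at hx
  have key : ∀ z ∈ I.map (algebraMap (D0 𝒮) S), ∀ s : S, proj0 𝒮 (s * z) ∈ I := by
    intro z hz
    refine Submodule.span_induction (p := fun z _ => ∀ s : S, proj0 𝒮 (s * z) ∈ I) ?_ ?_ ?_ ?_ hz
    · rintro _ ⟨y, hy, rfl⟩ s
      have : proj0 𝒮 (s * (algebraMap (D0 𝒮) S) y) = proj0 𝒮 s * y := proj0_mul_coe 𝒮 s y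
      rw [this]
      exact I.mul_mem_left _ hy
    · intro s
      rw [mul_zero, proj0_zero]
      exact I.zero_mem
    · intro a b _ _ ha hb s
      rw [mul_add, proj0_add]
      exact I.add_mem (ha s) (hb s)
    · intro a b _ hb s
      rw [smul_eq_mul, ← mul_assoc]
      exact hb (s * a)
  have h1 := key _ hx 1
  rw [one_mul] at h1
  have h2 : proj0 𝒮 ((algebraMap (D0 𝒮) S) x) = x := proj0_coe 𝒮 x
  rwa [h2] at h1

theorem map_ne_top {I : Ideal (D0 𝒮)} (hI : I ≠ ⊤) : I.map (algebraMap (D0 𝒮) S) ≠ ⊤ := by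
  intro h
  apply hI
  rw [← comap_map 𝒮 I, h, Ideal.comap_top]

theorem map_injective :
    Function.Injective (fun I : Ideal (D0 𝒮) => I.map (algebraMap (D0 𝒮) S)) := by
  intro I J h
  have h' : I.map (algebraMap (D0 𝒮) S) = J.map (algebraMap (D0 𝒮) S) := h
  rw [← comap_map 𝒮 I, ← comap_map 𝒮 J, h']

/-- `S₀` is Noetherian if `S` is -/
theorem isNoetherianRing_zero [IsNoetherianRing S] : IsNoetherianRing (D0 𝒮) := by
  have hmono : StrictMono (fun I : Ideal (D0 𝒮) => I.map (algebraMap (D0 𝒮) S)) :=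
    Monotone.strictMono_of_injective (fun I J h => Ideal.map_mono h) (map_injective 𝒮)
  have : WellFoundedGT (Ideal S) := (isNoetherian_iff' (R := S) (M := S)).1 inferInstance
  exact (isNoetherian_iff' (R := D0 𝒮) (M := D0 𝒮)).2 hmono.wellFoundedGT

theorem map_isHomogeneous (I : Ideal (D0 𝒮)) : (I.map (algebraMap (D0 𝒮) S)).IsHomogeneous 𝒮 := by
  apply Ideal.homogeneous_span
  rintro _ ⟨y, _, rfl⟩
  exact ⟨0, y.2⟩

section unit

variable (t : Sˣ) (d : ℕ) (ht : (t : S) ∈ 𝒮 (d : ℤ)) (ht' : ((t⁻¹ : Sˣ) : S) ∈ 𝒮 (-(d : ℤ)))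

include ht ht' in
theorem zpow_mem (k : ℤ) : ((t ^ k : Sˣ) : S) ∈ 𝒮 (k * d) := by
  induction k using Int.induction_on with
  | zero =>
    rw [zpow_zero, Units.val_one, zero_mul]
    exact SetLike.GradedOne.one_mem
  | succ k ih =>
    rw [zpow_add_one, Units.val_mul, add_mul, one_mul]
    exact SetLike.GradedMul.mul_mem ih ht
  | pred k ih =>
    rw [zpow_sub_one, Units.val_mul, sub_mul, one_mul, sub_eq_add_neg]
    exact SetLike.GradedMul.mul_mem ih ht'

include ht ht' in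
theorem theta_mem {i : ℤ} {a : S} (ha : a ∈ 𝒮 i) : a ^ d * ((t ^ (-i) : Sˣ) : S) ∈ 𝒮 0 := by
  have h1 : a ^ d ∈ 𝒮 (d • i) := SetLike.pow_mem_graded d ha
  have h2 := SetLike.GradedMul.mul_mem h1 (zpow_mem 𝒮 t d ht ht' (-i))
  have : d • i + -i * (d : ℤ) = 0 := by
    rw [nsmul_eq_mul]
    ring
  rwa [this] at h2

/-- the degree zero element `a^d t^{-i}` attached to `a ∈ S_i` -/
noncomputable def theta {i : ℤ} {a : S} (ha : a ∈ 𝒮 i) : D0 𝒮 :=
  ⟨a ^ d * ((t ^ (-i) : Sˣ) : S), theta_mem 𝒮 t d ht ht' ha⟩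

theorem coe_theta {i : ℤ} {a : S} (ha : a ∈ 𝒮 i) :
    ((theta 𝒮 t d ht ht' ha : D0 𝒮) : S) = a ^ d * ((t ^ (-i) : Sˣ) : S) := rfl

theorem theta_mul_zpow {i : ℤ} {a : S} (ha : a ∈ 𝒮 i) :
    ((theta 𝒮 t d ht ht' ha : D0 𝒮) : S) * ((t ^ i : Sˣ) : S) = a ^ d := by
  rw [coe_theta, mul_assoc, ← Units.val_mul, ← zpow_add, neg_add_cancel, zpow_zero, Units.val_one,
    mul_one]

variable (hd : 0 < d)

include hd in
/-- the key criterion: a homogeneous `a ∈ S_i` lies in `rad(qS)` iff `a^d t^{-i} ∈ q` -/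
theorem mem_radical_map_iff (q : Ideal (D0 𝒮)) [q.IsPrime] {i : ℤ} {a : S} (ha : a ∈ 𝒮 i) :
    a ∈ (q.map (algebraMap (D0 𝒮) S)).radical ↔ theta 𝒮 t d ht ht' ha ∈ q := by
  constructor
  · rintro ⟨N, hN⟩
    have h1 : ((theta 𝒮 t d ht ht' ha ^ N : D0 𝒮) : S) ∈ q.map (algebraMap (D0 𝒮) S) := by
      rw [SubmonoidClass.coe_pow, coe_theta, mul_pow, ← pow_mul, mul_comm d N, pow_mul]
      exact Ideal.mul_mem_right _ _ (Ideal.pow_mem_of_mem _ hN d hd)
    have h2 : theta 𝒮 t d ht ht' ha ^ N ∈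
        (q.map (algebraMap (D0 𝒮) S)).comap (algebraMap (D0 𝒮) S) := h1
    rw [comap_map] at h2
    exact Ideal.IsPrime.mem_of_pow_mem inferInstance N h2
  · intro h
    refine ⟨d, ?_⟩
    rw [← theta_mul_zpow 𝒮 t d ht ht' ha]
    exact Ideal.mul_mem_right _ _ (Ideal.mem_map_of_mem _ h)

theorem theta_mul {i j : ℤ} {a b : S} (ha : a ∈ 𝒮 i) (hb : b ∈ 𝒮 j) :
    theta 𝒮 t d ht ht' (SetLike.GradedMul.mul_mem ha hb) =
      theta 𝒮 t d ht ht' ha * theta 𝒮 t d ht ht' hb := by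
  apply Subtype.ext
  rw [Subring.coe_mul, coe_theta, coe_theta, coe_theta, mul_pow, neg_add, zpow_add, Units.val_mul]
  ring

theorem theta_coe (x : D0 𝒮) : theta 𝒮 t d ht ht' (i := 0) (a := (x : S)) x.2 = x ^ d := by
  apply Subtype.ext
  rw [coe_theta, neg_zero, zpow_zero, Units.val_one, mul_one, SubmonoidClass.coe_pow]

include hd ht ht' in
theorem comap_radical_map (q : Ideal (D0 𝒮)) [q.IsPrime] :
    ((q.map (algebraMap (D0 𝒮) S)).radical).comap (algebraMap (D0 𝒮) S) = q := by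
  ext x
  rw [Ideal.mem_comap]
  have h := mem_radical_map_iff 𝒮 t d ht ht' hd q (i := 0) (a := (x : S)) x.2
  rw [theta_coe] at h
  refine Iff.trans h ⟨fun hx => Ideal.IsPrime.mem_of_pow_mem inferInstance d hx,
    fun hx => Ideal.pow_mem_of_mem _ hx d hd⟩

theorem radical_map_isHomogeneous (q : Ideal (D0 𝒮)) :
    ((q.map (algebraMap (D0 𝒮) S)).radical).IsHomogeneous 𝒮 :=
  (map_isHomogeneous 𝒮 q).radical

include hd ht ht' in
theorem radical_map_isPrime (q : Ideal (D0 𝒮)) [hq : q.IsPrime] :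
    ((q.map (algebraMap (D0 𝒮) S)).radical).IsPrime := by
  refine (radical_map_isHomogeneous 𝒮 q).isPrime_of_homogeneous_mem_or_mem ?_ ?_
  · intro h
    have h2 := comap_radical_map 𝒮 t d ht ht' hd q
    rw [h, Ideal.comap_top] at h2
    exact hq.ne_top h2.symm
  · rintro a b ⟨i, ha⟩ ⟨j, hb⟩ hab
    rw [mem_radical_map_iff 𝒮 t d ht ht' hd q (SetLike.GradedMul.mul_mem ha hb),
      theta_mul 𝒮 t d ht ht' ha hb] at hab
    rcases hq.mem_or_mem hab with h | h
    · left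
      exact (mem_radical_map_iff 𝒮 t d ht ht' hd q ha).2 h
    · right
      exact (mem_radical_map_iff 𝒮 t d ht ht' hd q hb).2 h

include hd ht ht' in
/-- a homogeneous prime is the radical of the extension of its contraction -/
theorem eq_radical_map_comap (P : Ideal S) [hP : P.IsPrime] (hPh : P.IsHomogeneous 𝒮) :
    P = ((P.comap (algebraMap (D0 𝒮) S)).map (algebraMap (D0 𝒮) S)).radical := by
  classical
  apply le_antisymm
  · intro a ha
    rw [← DirectSum.sum_support_decompose 𝒮 a]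
    refine Ideal.sum_mem _ fun i _ => ?_
    have hai : ((DirectSum.decompose 𝒮 a i : 𝒮 i) : S) ∈ P := hPh i ha
    rw [mem_radical_map_iff 𝒮 t d ht ht' hd _ (SetLike.coe_mem (DirectSum.decompose 𝒮 a i))]
    rw [Ideal.mem_comap]
    show ((theta 𝒮 t d ht ht' (SetLike.coe_mem (DirectSum.decompose 𝒮 a i)) : D0 𝒮) : S) ∈ P
    rw [coe_theta]
    exact Ideal.mul_mem_right _ _ (Ideal.pow_mem_of_mem _ hai d hd)
  · exact (Ideal.radical_mono Ideal.map_comap_le).trans hP.radical.le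

/-- `q ↦ rad(qS)` on prime spectra -/
noncomputable def primeMap (q : PrimeSpectrum (D0 𝒮)) : PrimeSpectrum S :=
  ⟨(q.asIdeal.map (algebraMap (D0 𝒮) S)).radical,
    radical_map_isPrime 𝒮 t d ht ht' hd q.asIdeal⟩

theorem primeMap_strictMono : StrictMono (primeMap 𝒮 t d ht ht' hd) := by
  intro q q' h
  refine lt_of_le_of_ne ?_ ?_
  · exact Ideal.radical_mono (Ideal.map_mono h.le)
  · intro heq
    have h1 : (primeMap 𝒮 t d ht ht' hd q).asIdeal = (primeMap 𝒮 t d ht ht' hd q').asIdeal :=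
      congrArg PrimeSpectrum.asIdeal heq
    have h2 := comap_radical_map 𝒮 t d ht ht' hd q.asIdeal
    have h3 := comap_radical_map 𝒮 t d ht ht' hd q'.asIdeal
    have h4 : q.asIdeal = q'.asIdeal := by
      rw [← h2, ← h3]
      exact congrArg (Ideal.comap (algebraMap (D0 𝒮) S)) h1
    exact h.ne (PrimeSpectrum.ext h4)

include hd ht ht' in
theorem height_le_height_radical_map (q : Ideal (D0 𝒮)) [hq : q.IsPrime] :
    q.height ≤ ((q.map (algebraMap (D0 𝒮) S)).radical).height := by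
  have h1 := PrimeSpectrum.height_eq_orderHeight (⟨q, hq⟩ : PrimeSpectrum (D0 𝒮))
  have h2 := PrimeSpectrum.height_eq_orderHeight (primeMap 𝒮 t d ht ht' hd ⟨q, hq⟩)
  have h3 := Order.height_le_height_apply_of_strictMono _ (primeMap_strictMono 𝒮 t d ht ht' hd)
    (⟨q, hq⟩ : PrimeSpectrum (D0 𝒮))
  rw [← h1, ← h2] at h3
  exact h3

end unit

end Groth.Agent.Lib.helper26.GrUnit
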