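import Mathlib
import Groth.Agent.Lib.Helper26.DepthCR
import Groth.Agent.Lib.Helper26.Depth3

/-!
# Regular sequences coming from a base ring (helper26)

`A → B` a ring map, `B` Noetherian, `a` an ideal of `A`, `M` a finite `B`-module.  The
`aB`-depth of `M` is realised by `M`-regular sequences of elements of `a`.  Also: weakly
regular sequences restrict to module retracts.
-/

set_option autoImplicit false
universe u

open CategoryTheory Abelian RingTheory.Sequence LocCoh
open scoped Pointwise

namespace Groth.Agent.Lib.helper26.Depth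

section base

variable {A B : Type u} [CommRing A] [CommRing B] [Algebra A B] [IsNoetherianRing B]
  (a : Ideal A)

/-- if `depth_{aB} M > 0`, some element of `a` is `M`-regular -/
theorem exists_mem_isSMulRegular (M : Type u) [AddCommGroup M] [Module B M] [Module.Finite B M]
    (hIM : (a.map (algebraMap A B)) • (⊤ : Submodule B M) ≠ ⊤)
    (hpos : idealDepth (a.map (algebraMap A B)) M ≠ 0) :
    ∃ x ∈ a, IsSMulRegular M (algebraMap A B x) := by
  by_contra hcon
  push_neg at hcon
  have hsub : (a : Set A) ⊆ ⋃ P ∈ (associatedPrimes.finite B M).toFinset,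
      ((P.comap (algebraMap A B) : Ideal A) : Set A) := by
    intro x hx
    have h1 : algebraMap A B x ∈ { r : B | IsSMulRegular M r }ᶜ := hcon x hx
    rw [← biUnion_associatedPrimes_eq_compl_regular B M] at h1
    simp only [Set.mem_iUnion, SetLike.mem_coe, exists_prop] at h1
    obtain ⟨P, hP, hxP⟩ := h1
    simp only [Set.mem_iUnion, SetLike.mem_coe, exists_prop, Set.Finite.mem_toFinset,
      Finset.mem_coe]
    exact ⟨P, hP, hxP⟩
  have hprime : ∀ P ∈ (associatedPrimes.finite B M).toFinset, P ≠ ⊥ → P ≠ ⊥ →
      (P.comap (algebraMap A B)).IsPrime := by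
    intro P hP _ _
    rw [Set.Finite.mem_toFinset] at hP
    haveI : P.IsPrime := hP.isPrime
    exact Ideal.comap_isPrime _ P
  obtain ⟨P, hP, haP⟩ :=
    (Ideal.subset_union_prime (f := fun P : Ideal B => P.comap (algebraMap A B)) ⊥ ⊥ hprime).1 hsub
  rw [Set.Finite.mem_toFinset] at hP
  obtain ⟨hPp, m, hm⟩ := (isAssociatedPrime_iff (I := P) (M := M)).1 hP
  have hm0 : m ≠ 0 := by
    rintro rfl
    apply hPp.ne_top
    rw [hm, Ideal.eq_top_iff_one, Submodule.mem_colon_singleton]
    simp
  apply hpos
  refine idealDepth_eq_zero_of_annihilated _ M hIM m hm0 ?_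
  intro s hs
  have hsP : s ∈ P := (Ideal.map_le_iff_le_comap.2 haP) hs
  rw [hm, Submodule.mem_colon_singleton, Submodule.mem_bot] at hsP
  exact hsP

/-- the `aB`-depth of a finite `B`-module is realised by sequences from `a` -/
theorem exists_isWeaklyRegular_map (n : ℕ) :
    ∀ (M : Type u) [AddCommGroup M] [Module B M] [Module.Finite B M],
      (a.map (algebraMap A B)) • (⊤ : Submodule B M) ≠ ⊤ →
      (n : ℕ∞) ≤ idealDepth (a.map (algebraMap A B)) M →
      ∃ rs : List A, rs.length = n ∧ (∀ r ∈ rs, r ∈ a) ∧
        IsWeaklyRegular M (rs.map (algebraMap A B)) := by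
  induction n with
  | zero =>
    intro M _ _ _ _ _
    exact ⟨[], rfl, by simp, by simpa using IsWeaklyRegular.nil B M⟩
  | succ n ih =>
    intro M _ _ _ hIM hn
    have hpos : idealDepth (a.map (algebraMap A B)) M ≠ 0 := by
      intro h0
      rw [h0] at hn
      simp at hn
    obtain ⟨x, hxa, hxreg⟩ := exists_mem_isSMulRegular a M hIM hpos
    have hxJ : algebraMap A B x ∈ a.map (algebraMap A B) := Ideal.mem_map_of_mem _ hxa
    have h1 := idealDepth_quotSMulTop_add_one (a.map (algebraMap A B)) M (algebraMap A B x) hxJ hxreg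
    have hn' : (n : ℕ∞) ≤ idealDepth (a.map (algebraMap A B)) (QuotSMulTop (algebraMap A B x) M) := by
      rw [← h1] at hn
      push_cast at hn
      exact (ENat.add_le_add_iff_right ENat.one_ne_top).1 hn
    have hIM' : (a.map (algebraMap A B)) • (⊤ : Submodule B (QuotSMulTop (algebraMap A B x) M)) ≠ ⊤ := by
      intro htop
      rw [idealDepth_eq_top_of_smul_top_eq_top _ _ htop, top_add] at h1
      exact idealDepth_ne_top _ M hIM h1.symm
    obtain ⟨rs, hlen, hmem, hreg⟩ := ih (QuotSMulTop (algebraMap A B x) M) hIM' hn'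
    refine ⟨x :: rs, by simp [hlen], ?_, ?_⟩
    · intro r hr
      rcases List.mem_cons.1 hr with h | h
      · rw [h]; exact hxa
      · exact hmem r h
    · rw [List.map_cons, isWeaklyRegular_cons_iff]
      exact ⟨hxreg, hreg⟩

end base

section retract

variable {R : Type*} [CommRing R] {M N : Type*} [AddCommGroup M] [Module R M]
  [AddCommGroup N] [Module R N]

/-- weakly regular sequences restrict to module retracts -/
theorem isWeaklyRegular_of_retract (i : N →ₗ[R] M) (π : M →ₗ[R] N)
    (h : ∀ n, π (i n) = n) {rs : List R} (hreg : IsWeaklyRegular M rs) :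
    IsWeaklyRegular N rs := by
  refine ⟨fun k hk => ?_⟩
  have h1 := hreg.regular_mod_prev k hk
  rw [isSMulRegular_quotient_iff_mem_of_smul_mem] at h1 ⊢
  intro n hn
  have h2 : rs[k] • i n ∈ (Ideal.ofList (rs.take k) • ⊤ : Submodule R M) := by
    rw [← map_smul]
    have : (Ideal.ofList (rs.take k) • ⊤ : Submodule R N).map i ≤
        (Ideal.ofList (rs.take k) • ⊤ : Submodule R M) := by
      rw [Submodule.map_smul'']
      exact Submodule.smul_mono le_rfl le_top
    exact this (Submodule.mem_map_of_mem hn)
  have h3 := h1 (i n) h2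
  have h4 : π (i n) ∈ (Ideal.ofList (rs.take k) • ⊤ : Submodule R N) := by
    have : (Ideal.ofList (rs.take k) • ⊤ : Submodule R M).map π ≤
        (Ideal.ofList (rs.take k) • ⊤ : Submodule R N) := by
      rw [Submodule.map_smul'']
      exact Submodule.smul_mono le_rfl le_top
    exact this (Submodule.mem_map_of_mem h3)
  rwa [h] at h4

end retract

end Groth.Agent.Lib.helper26.Depth
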