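import Mathlib
import Groth.Agent.Lib.Helper26.GrUnit1
import Groth.Agent.Lib.Helper26.RegBase
import Groth.Agent.Lib.Helper26.CM7
import Groth.Agent.Lib.Helper26.Depth5

/-!
# The degree zero part of a Cohen–Macaulay `ℤ`-graded ring with a homogeneous unit (helper26)
-/

set_option autoImplicit false
set_option linter.unusedSectionVars false
universe u

namespace Groth.Agent.Lib.helper26.GrUnit

open DirectSum RingTheory.Sequence LocCoh
open GrLoc (D0)
open Groth.Agent.Lib.helper26.Depth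

variable {S : Type u} [CommRing S] (𝒮 : ℤ → AddSubgroup S) [GradedRing 𝒮]

/-- the degree zero projection as an `S₀`-linear map -/
noncomputable def proj0ₗ : S →ₗ[D0 𝒮] D0 𝒮 where
  toFun := proj0 𝒮
  map_add' := proj0_add 𝒮
  map_smul' x s := by
    rw [RingHom.id_apply, Algebra.smul_def, mul_comm]
    have := proj0_mul_coe 𝒮 s x
    rw [smul_eq_mul, mul_comm (x : D0 𝒮)]
    exact this

theorem height_radical {R : Type*} [CommRing R] (I : Ideal R) : I.radical.height = I.height := by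
  rw [Ideal.height_eq_inf_minimalPrimes, Ideal.radical_minimalPrimes,
    ← Ideal.height_eq_inf_minimalPrimes]

variable (t : Sˣ) (d : ℕ) (ht : (t : S) ∈ 𝒮 (d : ℤ)) (ht' : ((t⁻¹ : Sˣ) : S) ∈ 𝒮 (-(d : ℤ)))
  (hd : 0 < d)

include t d ht ht' hd in
/-- the degree zero part of a CM `ℤ`-graded ring with a homogeneous unit of positive degree
is CM (if local) -/
theorem isCohenMacaulayLocalRing_zero [hCM : IsCohenMacaulayRing S] [IsLocalRing (D0 𝒮)] :
    IsCohenMacaulayLocalRing (D0 𝒮) := by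
  haveI : IsNoetherianRing S := inferInstance
  haveI : IsNoetherianRing (D0 𝒮) := isNoetherianRing_zero 𝒮
  have hJ : (IsLocalRing.maximalIdeal (D0 𝒮)).map (algebraMap (D0 𝒮) S) ≠ ⊤ :=
    map_ne_top 𝒮 (Ideal.IsPrime.ne_top inferInstance)
  have h1 := height_le_height_radical_map 𝒮 t d ht ht' hd (IsLocalRing.maximalIdeal (D0 𝒮))
  rw [height_radical] at h1
  have h3 : idealDepth ((IsLocalRing.maximalIdeal (D0 𝒮)).map (algebraMap (D0 𝒮) S)) S =
      ((IsLocalRing.maximalIdeal (D0 𝒮)).map (algebraMap (D0 𝒮) S)).height :=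
    (isCohenMacaulayRing_iff_idealDepth_eq_height S).1 hCM _ hJ
  obtain ⟨n, hn⟩ := ENat.ne_top_iff_exists.mp
    (Ideal.height_ne_top (I := IsLocalRing.maximalIdeal (D0 𝒮)) (Ideal.IsPrime.ne_top inferInstance))
  have h4 : (n : ℕ∞) ≤
      idealDepth ((IsLocalRing.maximalIdeal (D0 𝒮)).map (algebraMap (D0 𝒮) S)) S := by
    rw [h3, hn]
    exact h1
  have hJS : ((IsLocalRing.maximalIdeal (D0 𝒮)).map (algebraMap (D0 𝒮) S)) •
      (⊤ : Submodule S S) ≠ ⊤ := by
    rw [smul_eq_mul, Ideal.mul_top]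
    exact hJ
  obtain ⟨rs, hlen, hmem, hreg⟩ :=
    exists_isWeaklyRegular_map (IsLocalRing.maximalIdeal (D0 𝒮)) n S hJS h4
  have hreg' : IsWeaklyRegular S rs := (isWeaklyRegular_map_algebraMap_iff S S rs).1 hreg
  have hreg0 : IsWeaklyRegular (D0 𝒮) rs :=
    isWeaklyRegular_of_retract (Algebra.linearMap (D0 𝒮) S) (proj0ₗ 𝒮)
      (fun x => proj0_coe 𝒮 x) hreg'
  have h5 : (n : ℕ∞) ≤ depth (D0 𝒮) (D0 𝒮) := by
    rw [← hlen]
    exact length_le_idealDepth hreg0 hmem
  refine @IsCohenMacaulayLocalRing.mk (D0 𝒮) _ inferInstance inferInstance ?_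
  apply le_antisymm
  · rw [Module.supportDim_self_eq_ringKrullDim, ← IsLocalRing.maximalIdeal_height_eq_ringKrullDim,
      ← hn]
    exact_mod_cast h5
  · exact depth_le_supportDim (A := D0 𝒮) (D0 𝒮)

end Groth.Agent.Lib.helper26.GrUnit
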