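import Mathlib
import Groth.Agent.Lib.Helper26.GrUnit2
import Groth.Agent.Lib.Helper17.FieldCM
import Groth.Agent.S9808

/-!
# Local rings of `Proj` of a Cohen–Macaulay graded ring (helper26)
-/

set_option autoImplicit false
set_option linter.unusedSectionVars false
universe u

namespace Groth.Agent.Lib.helper26.GrLoc

open DirectSum LocCoh
open scoped Classical

variable {A : Type u} [CommRing A] (𝒜 : ℕ → AddSubgroup A) [GradedRing 𝒜]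
variable (p : Ideal A) [hp : p.IsPrime]

/-- a homogeneous prime not containing the irrelevant ideal misses a homogeneous element of
positive degree -/
theorem exists_pos_notMem (hph : p.IsHomogeneous 𝒜)
    (hirr : ¬ (HomogeneousIdeal.irrelevant 𝒜).toIdeal ≤ p) :
    ∃ (d : ℕ) (f : A), 0 < d ∧ f ∈ 𝒜 d ∧ f ∉ p := by
  rw [SetLike.not_le_iff_exists] at hirr
  obtain ⟨a, ha, hap⟩ := hirr
  obtain ⟨k, hk⟩ := exists_decompose_notMem 𝒜 p hph hap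
  refine ⟨k, _, ?_, SetLike.coe_mem _, hk⟩
  rcases Nat.eq_zero_or_pos k with h0 | h0
  · exfalso
    subst h0
    have h1 : GradedRing.proj 𝒜 0 a = 0 := (HomogeneousIdeal.mem_irrelevant_iff 𝒜 a).1 ha
    apply hk
    have : ((DirectSum.decompose 𝒜 a 0 : 𝒜 0) : A) = GradedRing.proj 𝒜 0 a := rfl
    rw [this, h1]
    exact p.zero_mem
  · exact h0

variable {d : ℕ} {f : A} (hf : f ∈ 𝒜 d) (hfp : f ∉ p)

/-- the homogeneous unit `f/1` of `T⁻¹A` -/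
noncomputable def tUnit : (SS 𝒜 p)ˣ :=
  (IsLocalization.map_units (SS 𝒜 p) (⟨f, mem_homCompl 𝒜 p hf hfp⟩ : homCompl 𝒜 p)).unit

theorem coe_tUnit : ((tUnit 𝒜 p hf hfp : (SS 𝒜 p)ˣ) : SS 𝒜 p) = algebraMap A (SS 𝒜 p) f := rfl

theorem coe_tUnit_inv : (((tUnit 𝒜 p hf hfp)⁻¹ : (SS 𝒜 p)ˣ) : SS 𝒜 p) =
    IsLocalization.mk' (SS 𝒜 p) 1 (⟨f, mem_homCompl 𝒜 p hf hfp⟩ : homCompl 𝒜 p) := by
  rw [Units.inv_eq_of_mul_eq_one_right]
  rw [coe_tUnit]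
  have := IsLocalization.mk'_spec' (SS 𝒜 p) (1 : A) (⟨f, mem_homCompl 𝒜 p hf hfp⟩ : homCompl 𝒜 p)
  rw [map_one] at this
  exact this

theorem tUnit_mem : ((tUnit 𝒜 p hf hfp : (SS 𝒜 p)ˣ) : SS 𝒜 p) ∈ grS 𝒜 p (d : ℤ) := by
  rw [coe_tUnit]
  exact algebraMap_mem_gr cN 𝒜 (homCompl 𝒜 p) (homCompl_hom 𝒜 p) hf

theorem tUnit_inv_mem :
    (((tUnit 𝒜 p hf hfp)⁻¹ : (SS 𝒜 p)ˣ) : SS 𝒜 p) ∈ grS 𝒜 p (-(d : ℤ)) := by
  rw [coe_tUnit_inv]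
  have := mk'_mem_gr cN 𝒜 (homCompl 𝒜 p) (homCompl_hom 𝒜 p)
    (SetLike.GradedOne.one_mem (A := 𝒜)) (⟨f, mem_homCompl 𝒜 p hf hfp⟩ : homCompl 𝒜 p) hf
  have h0 : cN 0 - cN d = -(d : ℤ) := by simp
  rwa [h0] at this

theorem isLocalRing_zero (hph : p.IsHomogeneous 𝒜) : IsLocalRing (D0 (grS 𝒜 p)) :=
  (zeroEquiv 𝒜 p hph).symm.isLocalRing

/-- `A_(p)` is Cohen–Macaulay if `A` is -/
theorem isCohenMacaulayLocalRing_atPrime [IsCohenMacaulayRing A] (hph : p.IsHomogeneous 𝒜)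
    (hirr : ¬ (HomogeneousIdeal.irrelevant 𝒜).toIdeal ≤ p) :
    IsCohenMacaulayLocalRing (HomogeneousLocalization.AtPrime 𝒜 p) := by
  obtain ⟨d, f, hd, hf, hfp⟩ := exists_pos_notMem 𝒜 p hph hirr
  haveI : IsCohenMacaulayRing (SS 𝒜 p) :=
    Groth.Agent.Lib.helper17.FieldCM.isCohenMacaulayRing_of_isLocalization (homCompl 𝒜 p)
  haveI := isLocalRing_zero 𝒜 p hph
  haveI : IsCohenMacaulayLocalRing (D0 (grS 𝒜 p)) :=
    GrUnit.isCohenMacaulayLocalRing_zero (grS 𝒜 p) (tUnit 𝒜 p hf hfp) d (tUnit_mem 𝒜 p hf hfp)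
      (tUnit_inv_mem 𝒜 p hf hfp) hd
  exact Groth.Agent.S9808.cm_of_ringEquiv (zeroEquiv 𝒜 p hph)

end Groth.Agent.Lib.helper26.GrLoc
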