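import Mathlib
import Groth.Agent.Lib.Helper26.GrUnit1
import Groth.Agent.Lib.Helper26.Sk1

/-!
# `(S₁)` for the degree zero part of a `ℤ`-graded ring with a homogeneous unit (helper26)
-/

set_option autoImplicit false
set_option linter.unusedSectionVars false
universe u

namespace Groth.Agent.Lib.helper26.GrUnit

open DirectSum LocCoh
open GrLoc (D0)
open Groth.Agent.Lib.helper26.Depth

variable {S : Type u} [CommRing S] (𝒮 : ℤ → AddSubgroup S) [GradedRing 𝒮]

/-- the annihilator of a degree zero element is homogeneous -/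
theorem colon_isHomogeneous (z : D0 𝒮) :
    ((⊥ : Submodule S S).colon {(z : S)}).IsHomogeneous 𝒮 := by
  intro i r hr
  rw [Submodule.mem_colon_singleton, Submodule.mem_bot, smul_eq_mul] at hr ⊢
  have h := DirectSum.coe_decompose_mul_add_of_right_mem 𝒮 (i := i) (j := 0) (a := r)
    (b := (z : S)) z.2
  rw [add_zero, hr, DirectSum.decompose_zero, DirectSum.zero_apply, ZeroMemClass.coe_zero] at h
  exact h.symm

variable (t : Sˣ) (d : ℕ) (ht : (t : S) ∈ 𝒮 (d : ℤ)) (ht' : ((t⁻¹ : Sˣ) : S) ∈ 𝒮 (-(d : ℤ)))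
  (hd : 0 < d)

include t d ht ht' hd in
/-- the radical of the annihilator (in `S`) of `z ∈ S₀` is `rad(q₀ S)` when
`q₀ = ann_{S₀}(z)` is prime -/
theorem radical_colon_eq (z : D0 𝒮) (q : Ideal (D0 𝒮)) [hq : q.IsPrime]
    (hqz : q = (⊥ : Submodule (D0 𝒮) (D0 𝒮)).colon {z}) :
    ((⊥ : Submodule S S).colon {(z : S)}).radical = (q.map (algebraMap (D0 𝒮) S)).radical := by
  classical
  have hcomap : ((⊥ : Submodule S S).colon {(z : S)}).comap (algebraMap (D0 𝒮) S) = q := by
    ext r
    rw [Ideal.mem_comap, hqz, Submodule.mem_colon_singleton, Submodule.mem_colon_singleton,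
      Submodule.mem_bot, Submodule.mem_bot, smul_eq_mul, smul_eq_mul]
    constructor
    · intro h
      apply Subtype.ext
      exact h
    · intro h
      exact congrArg Subtype.val h
  apply le_antisymm
  · have hle : (⊥ : Submodule S S).colon {(z : S)} ≤ (q.map (algebraMap (D0 𝒮) S)).radical := by
      intro r hr
      rw [← DirectSum.sum_support_decompose 𝒮 r]
      refine Ideal.sum_mem _ fun i _ => ?_
      have hri : ((DirectSum.decompose 𝒮 r i : 𝒮 i) : S) ∈ (⊥ : Submodule S S).colon {(z : S)} :=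
        colon_isHomogeneous 𝒮 z i hr
      rw [mem_radical_map_iff 𝒮 t d ht ht' hd q (SetLike.coe_mem (DirectSum.decompose 𝒮 r i))]
      rw [← hcomap, Ideal.mem_comap]
      show ((theta 𝒮 t d ht ht' (SetLike.coe_mem (DirectSum.decompose 𝒮 r i)) : D0 𝒮) : S) ∈ _
      rw [coe_theta]
      exact Ideal.mul_mem_right _ _ (Ideal.pow_mem_of_mem _ hri d hd)
    calc ((⊥ : Submodule S S).colon {(z : S)}).radical
        ≤ ((q.map (algebraMap (D0 𝒮) S)).radical).radical := Ideal.radical_mono hle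
      _ = (q.map (algebraMap (D0 𝒮) S)).radical := Ideal.radical_idem _
  · apply Ideal.radical_mono
    rw [Ideal.map_le_iff_le_comap, hcomap]

include t d ht ht' hd in
/-- `(S₁)` descends to the degree zero part -/
theorem hasSk_one_zero [IsNoetherianRing S] [IsNoetherianRing (D0 𝒮)] (h : HasSk 1 S S) :
    HasSk 1 (D0 𝒮) (D0 𝒮) := by
  rw [← hasSk_one_iff] at h ⊢
  intro q hq
  obtain ⟨hqp, z, hqz⟩ := (isAssociatedPrime_iff (I := q) (M := D0 𝒮)).1 hq
  haveI := hqp
  haveI hQp := radical_map_isPrime 𝒮 t d ht ht' hd q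
  have hQass : (q.map (algebraMap (D0 𝒮) S)).radical ∈ associatedPrimes S S := by
    refine ⟨hQp, (z : S), ?_⟩
    exact (radical_colon_eq 𝒮 t d ht ht' hd z q hqz).symm
  have hQmin := h _ hQass
  have hann : Module.annihilator S S = ⊥ := Module.annihilator_eq_bot.2 inferInstance
  have hann0 : Module.annihilator (D0 𝒮) (D0 𝒮) = ⊥ := Module.annihilator_eq_bot.2 inferInstance
  rw [hann] at hQmin
  rw [hann0]
  refine ⟨⟨hqp, bot_le⟩, ?_⟩
  rintro q' ⟨hq'p, _⟩ hq'q
  haveI := hq'p
  haveI hQ'p := radical_map_isPrime 𝒮 t d ht ht' hd q'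
  have h1 : (q'.map (algebraMap (D0 𝒮) S)).radical ≤ (q.map (algebraMap (D0 𝒮) S)).radical :=
    Ideal.radical_mono (Ideal.map_mono hq'q)
  have h2 := hQmin.2 ⟨hQ'p, bot_le⟩ h1
  have h3 := Ideal.comap_mono (f := algebraMap (D0 𝒮) S) h2
  rwa [comap_radical_map 𝒮 t d ht ht' hd q, comap_radical_map 𝒮 t d ht ht' hd q'] at h3

end Groth.Agent.Lib.helper26.GrUnit
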