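import Mathlib
import Groth.Agent.Lib.Helper26.GrLoc5
import Groth.Agent.Lib.Helper26.GrUnit3
import Groth.Agent.Lib.Helper26.LocTrans
import Groth.Agent.Lib.Helper24.FibreFF

/-!
# Local rings of `Proj` of a graded ring with `(S₁)` (helper26)
-/

set_option autoImplicit false
set_option linter.unusedSectionVars false
universe u

namespace Groth.Agent.Lib.helper26.GrLoc

open DirectSum LocCoh
open scoped Classical

variable {A : Type u} [CommRing A] (𝒜 : ℕ → AddSubgroup A) [GradedRing 𝒜]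
variable (p : Ideal A) [hp : p.IsPrime]

theorem isNoetherianRing_SS [IsNoetherianRing A] : IsNoetherianRing (SS 𝒜 p) :=
  IsLocalization.isNoetherianRing (homCompl 𝒜 p) (SS 𝒜 p) inferInstance

theorem isNoetherianRing_atPrime [IsNoetherianRing A] (hph : p.IsHomogeneous 𝒜) :
    IsNoetherianRing (HomogeneousLocalization.AtPrime 𝒜 p) := by
  haveI := isNoetherianRing_SS 𝒜 p
  haveI := GrUnit.isNoetherianRing_zero (grS 𝒜 p)
  exact isNoetherianRing_of_ringEquiv _ (zeroEquiv 𝒜 p hph)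

/-- `(S_k)` transfers along ring isomorphisms -/
theorem hasSk_of_ringEquiv (k : ℕ) {R R' : Type u} [CommRing R] [CommRing R'] (e : R ≃+* R')
    [IsNoetherianRing R'] (h : HasSk k R' R') : HasSk k R R :=
  Groth.Agent.Lib.Helper24.FibreFF.hasSk_of_faithfullyFlat_ringHom k e.toRingHom
    (RingHom.FaithfullyFlat.of_bijective e.bijective) h

/-- `A_(p)` has `(S₁)` if `A` has -/
theorem hasSk_one_atPrime [IsNoetherianRing A] (hA : HasSk 1 A A) (hph : p.IsHomogeneous 𝒜)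
    (hirr : ¬ (HomogeneousIdeal.irrelevant 𝒜).toIdeal ≤ p) :
    HasSk 1 (HomogeneousLocalization.AtPrime 𝒜 p) (HomogeneousLocalization.AtPrime 𝒜 p) := by
  obtain ⟨d, f, hd, hf, hfp⟩ := exists_pos_notMem 𝒜 p hph hirr
  haveI := isNoetherianRing_SS 𝒜 p
  haveI := GrUnit.isNoetherianRing_zero (grS 𝒜 p)
  have hS : HasSk 1 (SS 𝒜 p) (SS 𝒜 p) :=
    Groth.Agent.Lib.helper26.Depth.hasSk_localization (homCompl 𝒜 p) A 1 hA
  have h0 := GrUnit.hasSk_one_zero (grS 𝒜 p) (tUnit 𝒜 p hf hfp) d (tUnit_mem 𝒜 p hf hfp)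
    (tUnit_inv_mem 𝒜 p hf hfp) hd hS
  exact hasSk_of_ringEquiv 1 (zeroEquiv 𝒜 p hph).symm h0

end Groth.Agent.Lib.helper26.GrLoc
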