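import Mathlib
import Groth.Agent.Lib.Helper26.Reflexive
import Groth.Agent.Lib.Helper26.DepthLoc3

/-!
# Depth and `(S_k)` of finite products and of `Hom(M, N)` (helper26)
-/

set_option autoImplicit false
set_option linter.unusedSectionVars false
universe u

open CategoryTheory Abelian RingTheory.Sequence LocCoh IsLocalRing
open scoped Pointwise

namespace Groth.Agent.Lib.helper26.Depth

section pi

variable {R : Type u} [CommRing R] [IsNoetherianRing R] (I : Ideal R)
  (N : Type u) [AddCommGroup N] [Module R N] [Module.Finite R N]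

/-- finite powers inherit lower bounds on the depth. -/
theorem le_idealDepth_pi (k : ℕ∞) (h : k ≤ idealDepth I N) (n : ℕ) :
    k ≤ idealDepth I (Fin n → N) := by
  induction n with
  | zero =>
    have hsub : Subsingleton (Submodule R (Fin 0 → N)) :=
      (Submodule.subsingleton_iff R).mpr inferInstance
    rw [idealDepth_eq_top_of_smul_top_eq_top I (Fin 0 → N) (Subsingleton.elim _ _)]
    exact le_top
  | succ n ih =>
    let ι : N →ₗ[R] (Fin (n + 1) → N) := LinearMap.single R (fun _ => N) 0
    let π : (Fin (n + 1) → N) →ₗ[R] (Fin n → N) := LinearMap.funLeft R N Fin.succ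
    have hι : Function.Injective ι := by
      intro a b hab
      have := congrFun hab 0
      simpa [ι] using this
    have hπ : Function.Surjective π := by
      intro g
      refine ⟨Fin.cons 0 g, ?_⟩
      funext i
      simp [π, LinearMap.funLeft_apply]
    have hex : Function.Exact ι π := by
      intro g
      constructor
      · intro hg
        refine ⟨g 0, ?_⟩
        funext i
        refine Fin.cases ?_ (fun j => ?_) i
        · simp [ι]
        · have := congrFun hg j
          simp only [π, LinearMap.funLeft_apply, Pi.zero_apply] at this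
          simp [ι, this]
      · rintro ⟨x, rfl⟩
        funext j
        simp [ι, π, LinearMap.funLeft_apply]
    exact le_trans (le_min h ih) (min_le_idealDepth_X₂ I ι π hι hπ hex)

end pi

section Sk

variable {A : Type u} [CommRing A] [IsNoetherianRing A]
  (N : Type u) [AddCommGroup N] [Module A N] [Module.Finite A N]

omit [IsNoetherianRing A] in
lemma support_pi_subset (n : ℕ) : Module.support A (Fin n → N) ⊆ Module.support A N := by
  rw [Module.support_eq_zeroLocus, Module.support_eq_zeroLocus]
  apply PrimeSpectrum.zeroLocus_anti_mono_ideal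
  intro r hr
  rw [Module.mem_annihilator] at hr ⊢
  intro g
  funext i
  simp [hr (g i)]

/-- finite powers inherit `(S_k)`. -/
theorem hasSk_pi (k : ℕ) (h : HasSk k A N) (n : ℕ) : HasSk k A (Fin n → N) := by
  intro p _
  have hdim := supportDim_localization_le_of_support_subset (E1 := N) p (support_pi_subset N n)
  let f : (Fin n → N) →ₗ[A] (Fin n → LocalizedModule p.primeCompl N) :=
    LinearMap.pi fun i => (LocalizedModule.mkLinearMap p.primeCompl N) ∘ₗ LinearMap.proj i
  have hf : IsLocalizedModule p.primeCompl f := inferInstance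
  have hdepth := depth_eq_of_isLocalizedModule p (Fin n → N) (Localization.AtPrime p)
    (Fin n → LocalizedModule p.primeCompl N) f
  rw [← hdepth]
  have h1 := h p
  have h2 : depth (Localization.AtPrime p) (LocalizedModule p.primeCompl N) ≤
      depth (Localization.AtPrime p) (Fin n → LocalizedModule p.primeCompl N) :=
    le_idealDepth_pi _ _ _ le_rfl n
  exact le_trans (min_le_min le_rfl hdim) (le_trans h1 (WithBot.coe_le_coe.mpr h2))

end Sk

end Groth.Agent.Lib.helper26.Depth

namespace Groth.Agent.Lib.helper26.Depth

section hom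

variable {R : Type u} [CommRing R] [IsNoetherianRing R]
  (M N : Type u) [AddCommGroup M] [Module R M] [Module.Finite R M]
  [AddCommGroup N] [Module R N] [Module.Finite R N]

/-- a finite presentation with at least one relation. -/
theorem exists_presentation : ∃ (n m : ℕ) (π : (Fin n → R) →ₗ[R] M)
    (j : (Fin (m + 1) → R) →ₗ[R] (Fin n → R)), Function.Surjective π ∧ Function.Exact j π := by
  obtain ⟨n, π, hπ⟩ := Module.Finite.exists_fin' R M
  obtain ⟨m, ρ, hρ⟩ := Module.Finite.exists_fin' R (LinearMap.ker π)
  let c : (Fin (m + 1) → R) →ₗ[R] (Fin m → R) := LinearMap.funLeft R R Fin.castSucc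
  have hc : Function.Surjective c := by
    intro g
    refine ⟨Fin.snoc g 0, ?_⟩
    funext i
    simp [c, LinearMap.funLeft_apply]
  refine ⟨n, m, π, (LinearMap.ker π).subtype ∘ₗ ρ ∘ₗ c, hπ, ?_⟩
  intro x
  constructor
  · intro hx
    obtain ⟨y, hy⟩ := (hρ.comp hc) ⟨x, hx⟩
    exact ⟨y, congrArg Subtype.val hy⟩
  · rintro ⟨y, rfl⟩
    exact (ρ (c y)).2

/-- depth of `Hom(M, N)`. -/
theorem idealDepth_hom (I : Ideal R) :
    (1 ≤ idealDepth I N → 1 ≤ idealDepth I (M →ₗ[R] N)) ∧
    (2 ≤ idealDepth I N → 2 ≤ idealDepth I (M →ₗ[R] N)) := by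
  obtain ⟨n, m, π, j, hπ, hex⟩ := exists_presentation (R := R) M
  have hinj : Function.Injective (LinearMap.lcomp R N π) :=
    LinearMap.lcomp_injective_of_surjective π hπ
  have hexH : Function.Exact (LinearMap.lcomp R N π) (LinearMap.lcomp R N j) :=
    LinearMap.exact_lcomp_of_exact_of_surjective N hex hπ
  have hE : ∀ (k : ℕ∞) (r : ℕ), k ≤ idealDepth I N →
      k ≤ idealDepth I ((Fin r → R) →ₗ[R] N) := by
    intro k r hk
    rw [← idealDepth_congr (Module.piEquiv (Fin r) R N)]
    exact le_idealDepth_pi I N k hk r
  constructor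
  · intro h
    exact one_le_idealDepth_of_injective I (LinearMap.lcomp R N π) hinj (hE 1 n h)
  · intro h
    exact two_le_idealDepth_of_exact I (LinearMap.lcomp R N π) (LinearMap.lcomp R N j) hinj hexH
      (hE 2 n h) (hE 1 (m + 1) (le_trans (by norm_num) h))

/-- `(S_1)` and `(S_2)` for `Hom(M, N)`. -/
theorem hasSk_hom :
    (HasSk 1 R N → HasSk 1 R (M →ₗ[R] N)) ∧ (HasSk 2 R N → HasSk 2 R (M →ₗ[R] N)) := by
  obtain ⟨n, m, π, j, hπ, hex⟩ := exists_presentation (R := R) M
  have hinj : Function.Injective (LinearMap.lcomp R N π) :=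
    LinearMap.lcomp_injective_of_surjective π hπ
  have hexH : Function.Exact (LinearMap.lcomp R N π) (LinearMap.lcomp R N j) :=
    LinearMap.exact_lcomp_of_exact_of_surjective N hex hπ
  have hker : LinearMap.ker (LinearMap.lcomp R N j) = LinearMap.range (LinearMap.lcomp R N π) :=
    LinearMap.exact_iff.mp hexH
  let e : (M →ₗ[R] N) ≃ₗ[R] LinearMap.ker (LinearMap.lcomp R N j) :=
    (LinearEquiv.ofInjective _ hinj).trans (LinearEquiv.ofEq _ _ hker.symm)
  have hE : ∀ (k r : ℕ), HasSk k R N → HasSk k R ((Fin r → R) →ₗ[R] N) := by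
    intro k r hk
    exact hasSk_congr k (Module.piEquiv (Fin r) R N) (hasSk_pi N k hk r)
  have hK := hasSk_ker (LinearMap.lcomp R N j)
  constructor
  · intro h
    exact hasSk_congr 1 e.symm (hK.1 (hE 1 n h))
  · intro h
    have h1 : HasSk 1 R N := by
      intro p _
      have := h p
      refine le_trans (min_le_min ?_ le_rfl) this
      exact_mod_cast (by norm_num : (1 : ℕ) ≤ 2)
    refine hasSk_congr 2 e.symm (hK.2 ?_ (hE 1 (m + 1) h1) (hE 2 n h))
    -- supports
    intro p hp
    have h1 : p ∈ Module.support R ((Fin n → R) →ₗ[R] N) :=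
      Module.support_subset_of_injective _ (Submodule.injective_subtype _) hp
    have h2 : p ∈ Module.support R (Fin n → N) :=
      Module.support_subset_of_injective _ (Module.piEquiv (Fin n) R N).symm.injective h1
    have h3 : p ∈ Module.support R N := support_pi_subset N n h2
    let ι : N →ₗ[R] (Fin (m + 1) → N) := LinearMap.single R (fun _ => N) 0
    have hι : Function.Injective ι := by
      intro a b hab
      have := congrFun hab 0
      simpa [ι] using this
    have h4 : p ∈ Module.support R (Fin (m + 1) → N) :=
      Module.support_subset_of_injective ι hι h3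
    exact Module.support_subset_of_injective _ (Module.piEquiv (Fin (m + 1)) R N).injective h4

end hom

end Groth.Agent.Lib.helper26.Depth
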