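import Mathlib

/-!
# Ranges of idempotent matrices and base change (helper26)
-/

namespace Groth.Agent.Lib.helper26.IdemRange

open TensorProduct

variable {R R' : Type*} [CommRing R] [CommRing R'] [Algebra R R'] {n : ℕ}

/-- entrywise base change of vectors, as a linear map -/
noncomputable def vmap : (Fin n → R) →ₗ[R] (Fin n → R') :=
  (Algebra.linearMap R R').compLeft (Fin n)

theorem vmap_apply (v : Fin n → R) (i : Fin n) : vmap (R' := R') v i = algebraMap R R' (v i) := rfl

theorem vmap_mulVec (N : Matrix (Fin n) (Fin n) R) (v : Fin n → R) :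
    vmap (R' := R') (N.mulVec v) = (N.map (algebraMap R R')).mulVec (vmap v) := by
  ext i
  rw [vmap_apply, RingHom.map_mulVec]
  rfl

theorem mulVec_eq_self_of_mem {S : Type*} [CommRing S] (N : Matrix (Fin n) (Fin n) S)
    (hN : N * N = N) {w : Fin n → S} (hw : w ∈ LinearMap.range N.mulVecLin) : N.mulVec w = w := by
  obtain ⟨u, rfl⟩ := hw
  rw [Matrix.mulVecLin_apply, Matrix.mulVec_mulVec, hN]

/-- Base change of the range of an idempotent matrix is the range of the base-changed matrix. -/
theorem nonempty_baseChange_range_equiv (N : Matrix (Fin n) (Fin n) R) (hN : N * N = N) :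
    Nonempty (R' ⊗[R] LinearMap.range N.mulVecLin ≃ₗ[R']
      LinearMap.range (N.map (algebraMap R R')).mulVecLin) := by
  classical
  set N' := N.map (algebraMap R R') with hN'
  have hN'idem : N' * N' = N' := by
    rw [hN', ← Matrix.map_mul, hN]
  let P := LinearMap.range N.mulVecLin
  let P'' := LinearMap.range N'.mulVecLin
  let φ : P →ₗ[R] (Fin n → R') := (vmap (R' := R')).comp P.subtype
  have hφ : ∀ v : P, N'.mulVec (φ v) = φ v := by
    intro v
    have h1 : N.mulVec (v : Fin n → R) = v := mulVec_eq_self_of_mem N hN v.2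
    change N'.mulVec (vmap (v : Fin n → R)) = vmap (v : Fin n → R)
    rw [← vmap_mulVec, h1]
  let fwd₀ : R' ⊗[R] P →ₗ[R'] (Fin n → R') := LinearMap.liftBaseChange R' φ
  have hfwd₀ : ∀ t, fwd₀ t ∈ P'' := by
    intro t
    induction t using TensorProduct.induction_on with
    | zero => simp
    | tmul r v =>
      refine ⟨r • φ v, ?_⟩
      rw [Matrix.mulVecLin_apply, Matrix.mulVec_smul, hφ]
      simp [fwd₀]
    | add x y hx hy => rw [map_add]; exact Submodule.add_mem _ hx hy
  let c : Fin n → P := fun j => ⟨N.mulVecLin (Pi.single j 1), LinearMap.mem_range_self _ _⟩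
  let bwd₀ : (Fin n → R') →ₗ[R'] R' ⊗[R] P :=
    Fintype.linearCombination R' (fun j => (1 : R') ⊗ₜ[R] c j)
  have hc : ∀ v : Fin n → R, ∑ j, v j • (c j : Fin n → R) = N.mulVec v := by
    intro v
    have : v = ∑ j, v j • (Pi.single j (1 : R) : Fin n → R) := by
      ext i
      simp [Finset.sum_apply, Pi.single_apply]
    conv_rhs => rw [this]
    rw [Matrix.mulVec_sum]
    refine Finset.sum_congr rfl fun j _ => ?_
    rw [Matrix.mulVec_smul]
    rfl
  have hc' : ∀ w : Fin n → R', ∑ j, w j • φ (c j) = N'.mulVec w := by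
    intro w
    have : w = ∑ j, w j • (Pi.single j (1 : R') : Fin n → R') := by
      ext i
      simp [Finset.sum_apply, Pi.single_apply]
    conv_rhs => rw [this]
    rw [Matrix.mulVec_sum]
    refine Finset.sum_congr rfl fun j _ => ?_
    rw [Matrix.mulVec_smul]
    congr 1
    change vmap (N.mulVec (Pi.single j 1)) = _
    rw [vmap_mulVec]
    congr 1
    ext i
    simp [vmap_apply, Pi.single_apply]
  refine ⟨LinearEquiv.ofLinearMap (fwd₀.codRestrict P'' hfwd₀) (bwd₀.comp P''.subtype) ?_ ?_⟩
  · -- fwd ∘ bwd = id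
    ext w : 1
    apply Subtype.ext
    change fwd₀ (bwd₀ (w : Fin n → R')) = w
    rw [Fintype.linearCombination_apply, map_sum]
    simp only [map_smul, fwd₀, LinearMap.liftBaseChange_tmul, one_smul]
    rw [hc']
    exact mulVec_eq_self_of_mem N' hN'idem w.2
  · -- bwd ∘ fwd = id
    apply TensorProduct.AlgebraTensorModule.curry_injective
    ext v : 2
    change bwd₀ (fwd₀ ((1 : R') ⊗ₜ v)) = (1 : R') ⊗ₜ v
    simp only [fwd₀, LinearMap.liftBaseChange_tmul, one_smul]
    rw [Fintype.linearCombination_apply]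
    have h2 : ∀ j, (φ v j) • ((1 : R') ⊗ₜ[R] c j) = (1 : R') ⊗ₜ[R] ((v : Fin n → R) j • c j) := by
      intro j
      change (algebraMap R R' ((v : Fin n → R) j)) • ((1 : R') ⊗ₜ[R] c j) = _
      rw [TensorProduct.smul_tmul', TensorProduct.tmul_smul, smul_eq_mul, mul_one,
        TensorProduct.smul_tmul', Algebra.smul_def, mul_one]
    simp_rw [h2]
    rw [← TensorProduct.tmul_sum]
    congr 1
    apply Subtype.ext
    rw [AddSubmonoidClass.coe_finsetSum]
    simp only [Submodule.coe_smul]
    rw [hc]
    exact mulVec_eq_self_of_mem N hN v.2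

end Groth.Agent.Lib.helper26.IdemRange
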