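import Mathlib
import Groth.Prelude.Def_W4swconnpcurvhiggsLogLam

/-!
# Pieces `E_I` of a logarithmic `λ`-connection (helper26)

Leibniz rule for the components, `E_I` is stable under `B`, generators of `E_I`.
-/

set_option autoImplicit false
set_option linter.unusedSectionVars false
universe v u

namespace Groth.Agent.Lib.helper26.LogConnL

open TensorProduct LogConn

variable {A : Type v} {B L E : Type u} [CommRing A] [CommRing B]
    [Algebra A B] [AddCommGroup L] [Module B L] [Module A L] [IsScalarTower A B L]
    [AddCommGroup E] [Module B E] [Module A E] [IsScalarTower A B E]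
    (lam : B) {n : ℕ} (t : Fin n → B) (bΩ : Module.Basis (Fin n) B (KaehlerDifferential A B))
    (hbΩ : ∀ i, bΩ i = KaehlerDifferential.D A B (t i))
    (ω : Module.Basis (Fin n) B L) (ι : KaehlerDifferential A B →ₗ[B] L)
    (hι : ∀ i, ι (KaehlerDifferential.D A B (t i)) = t i • ω i)
    (nabla : E →ₗ[A] E ⊗[B] L)
    (hc : Conn.IsLamConn (ι.compDer (KaehlerDifferential.D A B)) lam nabla)

/-- the logarithmic partial derivative `t_i ∂/∂t_i` -/
noncomputable def del (i : Fin n) (b : B) : B := ω.coord i (ι (KaehlerDifferential.D A B b))

theorem del_mul (i : Fin n) (b b' : B) :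
    del ω ι i (b * b') = b * del (A := A) ω ι i b' + b' * del (A := A) ω ι i b := by
  unfold del
  rw [Derivation.leibniz, map_add, map_add, map_smul, map_smul, map_smul, map_smul, smul_eq_mul,
    smul_eq_mul]

theorem del_one (i : Fin n) : del (A := A) ω ι i 1 = 0 := by
  unfold del
  rw [Derivation.map_one_eq_zero, map_zero, map_zero]

include hι in
theorem del_t (i k : Fin n) : del (A := A) ω ι i (t k) = if k = i then t i else 0 := by
  unfold del
  rw [hι, map_smul, Module.Basis.coord_apply, Module.Basis.repr_self, Finsupp.single_apply, smul_eq_mul]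
  split_ifs with h
  · rw [h, mul_one]
  · rw [mul_zero]

include hι in
theorem del_prod (i : Fin n) (K : Finset (Fin n)) (hi : i ∉ K) :
    del (A := A) ω ι i (∏ k ∈ K, t k) = 0 := by
  classical
  induction K using Finset.induction_on with
  | empty => rw [Finset.prod_empty, del_one]
  | insert a s ha ih =>
    rw [Finset.prod_insert ha, del_mul, ih (fun h => hi (Finset.mem_insert_of_mem h)),
      del_t t ω ι hι, if_neg, mul_zero, mul_zero, add_zero]
    rintro rfl
    exact hi (Finset.mem_insert_self _ _)

include hbΩ hι in
theorem del_eq (i : Fin n) (b : B) :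
    del (A := A) ω ι i b = t i * bΩ.repr (KaehlerDifferential.D A B b) i := by
  unfold del
  conv_lhs => rw [← bΩ.sum_repr (KaehlerDifferential.D A B b)]
  rw [map_sum, map_sum]
  have : ∀ k ∈ Finset.univ, ω.coord i (ι (bΩ.repr (KaehlerDifferential.D A B b) k • bΩ k)) =
      if k = i then t i * bΩ.repr (KaehlerDifferential.D A B b) i else 0 := by
    intro k _
    rw [map_smul, map_smul, hbΩ, hι, map_smul, Module.Basis.coord_apply, Module.Basis.repr_self,
      Finsupp.single_apply, smul_eq_mul, smul_eq_mul]
    split_ifs with h
    · rw [h, mul_one, mul_comm]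
    · rw [mul_zero, mul_zero]
  rw [Finset.sum_congr rfl this, Finset.sum_ite_eq' Finset.univ i, if_pos (Finset.mem_univ _)]

include hc in
/-- Leibniz rule for the components -/
theorem comp_smul (i : Fin n) (b : B) (e : E) :
    comp nabla ω i (b • e) = b • comp nabla ω i e + (lam * del (A := A) ω ι i b) • e := by
  unfold comp
  rw [Conn.along_apply, Conn.along_apply, hc b e, map_add, map_add, map_smul, map_smul, map_smul,
    map_smul, TensorProduct.map_tmul, TensorProduct.rid_tmul, LinearMap.id_apply, mul_smul]
  rfl

include hc hι in
theorem comp_prod_smul (i : Fin n) (K : Finset (Fin n)) (hi : i ∉ K) (e : E) :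
    comp nabla ω i ((∏ k ∈ K, t k) • e) = (∏ k ∈ K, t k) • comp nabla ω i e := by
  rw [comp_smul lam ω ι nabla hc, del_prod t ω ι hι i K hi, mul_zero, zero_smul, add_zero]

theorem compProd_insert (j : Fin n) (K : Finset (Fin n)) (hj : ∀ k ∈ K, j < k) :
    compProd nabla ω (insert j K) = comp nabla ω j ∘ₗ compProd nabla ω K := by
  unfold compProd
  have hjK : j ∉ K := fun h => lt_irrefl j (hj j h)
  rw [Finset.sort_insert (r := (· ≤ ·)) (fun k hk => (hj k hk).le) hjK, List.foldr_cons]

theorem compProd_empty : compProd nabla ω (∅ : Finset (Fin n)) = LinearMap.id := by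
  unfold compProd
  simp

/-- the generators of the pieces -/
noncomputable def gen (I J : Finset (Fin n)) (e : E) : E :=
  (∏ i ∈ I \ J, t i) • compProd nabla ω J e

theorem gen_mem_piece {I J : Finset (Fin n)} (hJ : J ⊆ I) (e : E) :
    gen t ω nabla I J e ∈ piece nabla ω t I := by
  unfold piece
  refine Submodule.mem_iSup_of_mem J (Submodule.mem_iSup_of_mem (Finset.mem_powerset.2 hJ) ?_)
  exact ⟨e, rfl⟩

theorem piece_le_iff (I : Finset (Fin n)) (N : Submodule A E) :
    piece nabla ω t I ≤ N ↔ ∀ J, J ⊆ I → ∀ e, gen t ω nabla I J e ∈ N := by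
  constructor
  · intro h J hJ e
    exact h (gen_mem_piece t ω nabla hJ e)
  · intro h
    unfold piece
    refine iSup₂_le fun J hJ => ?_
    rintro _ ⟨e, rfl⟩
    exact h J (Finset.mem_powerset.1 hJ) e

theorem prod_sdiff_mul {I J J' : Finset (Fin n)} (hJ : J ⊆ I) (hJ' : J' ⊆ J) :
    (∏ i ∈ I \ J, t i) * (∏ i ∈ J \ J', t i) = ∏ i ∈ I \ J', t i := by
  classical
  rw [← Finset.prod_union]
  · congr 1
    ext x
    simp only [Finset.mem_union, Finset.mem_sdiff]
    constructor
    · rintro (⟨h1, h2⟩ | ⟨h1, h2⟩)
      · exact ⟨h1, fun h => h2 (hJ' h)⟩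
      · exact ⟨hJ h1, h2⟩
    · rintro ⟨h1, h2⟩
      by_cases h : x ∈ J
      · exact Or.inr ⟨h, h2⟩
      · exact Or.inl ⟨h1, h⟩
  · rw [Finset.disjoint_left]
    intro x hx hx'
    exact (Finset.mem_sdiff.1 hx).2 (Finset.mem_sdiff.1 hx').1

/-- `t_{I∖J} E_J ⊆ E_I` -/
theorem smul_piece_le {I J : Finset (Fin n)} (hJ : J ⊆ I) :
    piece nabla ω t J ≤ (piece nabla ω t I).comap
      ((LinearMap.lsmul B E (∏ i ∈ I \ J, t i)).restrictScalars A) := by
  rw [piece_le_iff]
  intro J' hJ' e
  rw [Submodule.mem_comap]
  show (∏ i ∈ I \ J, t i) • gen t ω nabla J J' e ∈ _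
  unfold gen
  rw [smul_smul, prod_sdiff_mul t hJ hJ']
  exact gen_mem_piece t ω nabla (hJ'.trans hJ) e

include hc hι in
/-- `∇_j E_K ⊆ E_{K ∪ j}` for `j` smaller than all elements of `K` -/
theorem comp_piece_le (j : Fin n) (K : Finset (Fin n)) (hj : ∀ k ∈ K, j < k) :
    piece nabla ω t K ≤ (piece nabla ω t (insert j K)).comap (comp nabla ω j) := by
  classical
  have hjK : j ∉ K := fun h => lt_irrefl j (hj j h)
  rw [piece_le_iff]
  intro J' hJ' e
  rw [Submodule.mem_comap]
  unfold gen
  rw [comp_prod_smul lam t ω ι hι nabla hc j (K \ J') (fun h => hjK (Finset.mem_sdiff.1 h).1)]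
  have h1 : comp nabla ω j (compProd nabla ω J' e) = compProd nabla ω (insert j J') e := by
    rw [compProd_insert ω nabla j J' (fun k hk => hj k (hJ' hk))]
    rfl
  have h2 : K \ J' = insert j K \ insert j J' := by
    ext x
    simp only [Finset.mem_sdiff, Finset.mem_insert]
    constructor
    · rintro ⟨hxK, hxJ⟩
      refine ⟨Or.inr hxK, ?_⟩
      rintro (hxj | h)
      · exact hjK (hxj ▸ hxK)
      · exact hxJ h
    · rintro ⟨hxj | hxK, hx2⟩
      · exact absurd (Or.inl hxj) hx2
      · exact ⟨hxK, fun h => hx2 (Or.inr h)⟩
  rw [h1, h2]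
  exact gen_mem_piece t ω nabla (Finset.insert_subset_insert j hJ') e

include hc hι hbΩ in
/-- the pieces `E_I` are stable under `B` -/
theorem smul_mem_piece : ∀ (I : Finset (Fin n)) (b : B) (x : E), x ∈ piece nabla ω t I →
    b • x ∈ piece nabla ω t I := by
  classical
  intro I
  induction I using Finset.strongInduction with
  | H I ih =>
    intro b x hx
    -- the case of a proper subset `J`
    have hproper : ∀ J, J ⊂ I → ∀ (b : B) (e : E), b • gen t ω nabla I J e ∈ piece nabla ω t I := by
      intro J hJ b e
      have h1 : compProd nabla ω J e ∈ piece nabla ω t J := by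
        have := gen_mem_piece t ω nabla (Finset.Subset.refl J) e
        unfold gen at this
        rwa [Finset.sdiff_self, Finset.prod_empty, one_smul] at this
      have h2 := ih J hJ b _ h1
      have h3 := smul_piece_le t ω nabla hJ.subset h2
      rw [Submodule.mem_comap] at h3
      have h4 : ((LinearMap.lsmul B E (∏ i ∈ I \ J, t i)).restrictScalars A)
          (b • compProd nabla ω J e) = b • gen t ω nabla I J e := by
        show (∏ i ∈ I \ J, t i) • (b • compProd nabla ω J e) = b • ((∏ i ∈ I \ J, t i) • _)
        rw [smul_comm]
      rwa [h4] at h3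
    have key : piece nabla ω t I ≤ (piece nabla ω t I).comap
        ((LinearMap.lsmul B E b).restrictScalars A) := by
      rw [piece_le_iff]
      intro J hJ e
      rw [Submodule.mem_comap]
      show b • gen t ω nabla I J e ∈ _
      rcases hJ.eq_or_ssubset with rfl | hJ'
      · -- `J = I`
        rcases J.eq_empty_or_nonempty with rfl | hne
        · unfold gen
          rw [Finset.sdiff_self, Finset.prod_empty, one_smul, compProd_empty, LinearMap.id_apply]
          have := gen_mem_piece t ω nabla (Finset.Subset.refl (∅ : Finset (Fin n))) (b • e)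
          unfold gen at this
          rwa [Finset.sdiff_self, Finset.prod_empty, one_smul, compProd_empty,
            LinearMap.id_apply] at this
        · set j := J.min' hne with hjdef
          set K := J.erase j with hKdef
          have hjJ : j ∈ J := Finset.min'_mem J hne
          have hJK : J = insert j K := (Finset.insert_erase hjJ).symm
          have hjK : ∀ k ∈ K, j < k := by
            intro k hk
            have hk' := Finset.mem_erase.1 hk
            exact lt_of_le_of_ne (Finset.min'_le J k hk'.2) (Ne.symm hk'.1)
          have hKJ : K ⊂ J := Finset.erase_ssubset hjJ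
          unfold gen
          rw [Finset.sdiff_self, Finset.prod_empty, one_smul]
          have hcp : compProd nabla ω J e = comp nabla ω j (compProd nabla ω K e) := by
            rw [hJK, compProd_insert ω nabla j K hjK]
            rfl
          rw [hcp]
          set y := compProd nabla ω K e with hy
          have hL := comp_smul lam ω ι nabla hc j b y
          have hb : b • comp nabla ω j y = comp nabla ω j (b • y) -
              (lam * del (A := A) ω ι j b) • y := by
            rw [hL]
            abel
          rw [hb]
          refine Submodule.sub_mem _ ?_ ?_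
          · -- `∇_j (b y)`, `b y ∈ E_K`
            have hyK : y ∈ piece nabla ω t K := by
              have := gen_mem_piece t ω nabla (Finset.Subset.refl K) e
              unfold gen at this
              rwa [Finset.sdiff_self, Finset.prod_empty, one_smul] at this
            have hbyK := ih K hKJ b y hyK
            have := comp_piece_le lam t ω ι hι nabla hc j K hjK hbyK
            rw [Submodule.mem_comap, ← hJK] at this
            exact this
          · -- `λ t_j β y`
            rw [del_eq t bΩ hbΩ ω ι hι j b]
            have h5 := hproper K hKJ (lam * bΩ.repr (KaehlerDifferential.D A B b) j) e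
            unfold gen at h5
            have h6 : J \ K = {j} := by
              rw [hKdef]
              ext x
              simp only [Finset.mem_sdiff, Finset.mem_erase, Finset.mem_singleton]
              constructor
              · rintro ⟨h1, h2⟩
                by_contra hne'
                exact h2 ⟨hne', h1⟩
              · rintro rfl
                exact ⟨hjJ, fun h => h.1 rfl⟩
            rw [h6, Finset.prod_singleton, smul_smul] at h5
            have h7 : lam * (t j * bΩ.repr (KaehlerDifferential.D A B b) j) =
                lam * bΩ.repr (KaehlerDifferential.D A B b) j * t j := by ring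
            rw [h7]
            exact h5
      · exact hproper J hJ' b e
    exact key hx

end Groth.Agent.Lib.helper26.LogConnL
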