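import Mathlib
import Groth.Agent.Lib.Helper26.SkFlat1
import Groth.Agent.Lib.Helper26.SuppLoc
import Groth.Agent.Lib.Helper26.HS8

/-!
# Going-down for the support of a flat module (helper26)

`A → B` Noetherian rings, `F` a finite `B`-module flat over `A`, `q ∈ Supp F` over `p`, `p' ⊆ p`:
there is `q' ⊆ q` in `Supp F` over `p'` with `dim (F_{q'} / p' F_{q'}) = 0`.
-/

set_option autoImplicit false
universe u

namespace Groth.Agent.Lib.helper26.SkFlat

open LocCoh IsLocalRing TensorProduct Groth.Agent.Lib.helper26.Depth
open Groth.Agent.Lib.Helper24.FlatDepth Groth.Agent.Lib.helper26.FlatDim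

variable (A B : Type u) [CommRing A] [CommRing B] [IsNoetherianRing A] [IsNoetherianRing B]
  [Algebra A B]
  (F : Type u) [AddCommGroup F] [Module B F] [Module A F] [IsScalarTower A B F]
  [Module.Finite B F] [Module.Flat A F]

omit [IsNoetherianRing B] [Module.Finite B F] in
/-- elements of `A` outside the prime `p'` are regular on `F / p' F`. -/
lemma isSMulRegular_quotient_map (p' : Ideal A) [p'.IsPrime] (a : A) (ha : a ∉ p') :
    IsSMulRegular (F ⧸ (p'.map (algebraMap A B)) • (⊤ : Submodule B F)) (algebraMap A B a) := by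
  have hreg : IsSMulRegular (A ⧸ p') a :=
    Groth.Agent.Lib.helper26.HS.isSMulRegular_quotient_of_notMem ha
  have hregT := isSMulRegular_tensor_algebraMap A B F hreg
  exact ((tensorQuotEquiv A B F p').isSMulRegular_congr (algebraMap A B a)).mp hregT

/-- the stalk of `F / I F` at `q` is `F_q / I F_q`. -/
noncomputable def localizedQuotEquiv (I : Ideal B) (q : Ideal B) [q.IsPrime] :
    LocalizedModule q.primeCompl (F ⧸ (I • ⊤ : Submodule B F)) ≃ₗ[Localization.AtPrime q]
      (LocalizedModule q.primeCompl F ⧸ I.map (algebraMap B (Localization.AtPrime q)) •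
        (⊤ : Submodule (Localization.AtPrime q) (LocalizedModule q.primeCompl F))) :=
  (localizedQuotientEquiv _ _).symm ≪≫ₗ
      Submodule.quotEquivOfEq _ _ (by rw [Submodule.localized,
        Submodule.localized'_smul, Ideal.localized'_eq_map, Submodule.localized'_top])

theorem exists_prime_le_comap_eq (q : PrimeSpectrum B) (hq : q ∈ Module.support B F)
    (p' : Ideal A) [p'.IsPrime] (hp' : p' ≤ q.asIdeal.comap (algebraMap A B)) :
    ∃ (q' : Ideal B) (_ : q'.IsPrime), q' ≤ q.asIdeal ∧ q'.comap (algebraMap A B) = p' ∧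
      (⟨q', ‹_›⟩ : PrimeSpectrum B) ∈ Module.support B F ∧
      Module.supportDim (Localization.AtPrime q') (EGA4.FibLocMod A B q' F) ≤ 0 := by
  set I := p'.map (algebraMap A B) with hI
  have hIq : I ≤ q.asIdeal := Ideal.map_le_iff_le_comap.mpr hp'
  have hqG : q ∈ Module.support B (F ⧸ (I • ⊤ : Submodule B F)) := by
    rw [Module.support_quotient]
    exact ⟨hq, hIq⟩
  have hannq : Module.annihilator B (F ⧸ (I • ⊤ : Submodule B F)) ≤ q.asIdeal := Module.annihilator_le_of_mem_support hqG
  obtain ⟨q', hq'min, hq'le⟩ := Ideal.exists_minimalPrimes_le hannq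
  have hq'prime : q'.IsPrime := hq'min.1.1
  have hq'G : (⟨q', hq'prime⟩ : PrimeSpectrum B) ∈
      Module.support B (F ⧸ (I • ⊤ : Submodule B F)) := by
    rw [Module.mem_support_iff_of_finite]
    exact hq'min.1.2
  have hq'FI : (⟨q', hq'prime⟩ : PrimeSpectrum B) ∈ Module.support B F ∩
      PrimeSpectrum.zeroLocus I := by
    rw [← Module.support_quotient]
    exact hq'G
  have hIq' : I ≤ q' := hq'FI.2
  have hass : q' ∈ associatedPrimes B (F ⧸ (I • ⊤ : Submodule B F)) :=
    Module.associatedPrimes.minimalPrimes_annihilator_subset_associatedPrimes B _ hq'min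
  have hcomap : q'.comap (algebraMap A B) = p' := by
    apply le_antisymm
    · intro a ha
      by_contra hap
      have hreg := isSMulRegular_quotient_map A B F p' a hap
      obtain ⟨hpr, x, hx⟩ := hass
      have hmem : algebraMap A B a ∈ q' := ha
      rw [hx] at hmem
      obtain ⟨n, hn⟩ := hmem
      rw [Submodule.mem_colon_singleton, Submodule.mem_bot] at hn
      have hx0 : x = 0 := (hreg.pow n) (by
        change (algebraMap A B a) ^ n • x = (algebraMap A B a) ^ n • 0
        rw [hn, smul_zero])
      apply hpr.ne_top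
      rw [hx, hx0, Ideal.radical_eq_top]
      ext b
      simp [Submodule.mem_colon_singleton]
    · exact Ideal.map_le_iff_le_comap.mp hIq'
  refine ⟨q', hq'prime, hq'le, hcomap, hq'FI.1, ?_⟩
  have h1 := (Groth.Agent.Lib.helper26.SuppLoc.supportDim_localizedModule_le_zero_iff q'
    (F ⧸ (I • ⊤ : Submodule B F)) hq'G).mpr
    hq'min
  rw [Module.supportDim_eq_of_equiv (localizedQuotEquiv B F I q')] at h1
  have hideal : (q'.comap (algebraMap A B)).map (algebraMap A (Localization.AtPrime q')) =
      I.map (algebraMap B (Localization.AtPrime q')) := by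
    rw [hcomap, hI, Ideal.map_map, ← IsScalarTower.algebraMap_eq]
  have hsub : (q'.comap (algebraMap A B)).map (algebraMap A (Localization.AtPrime q')) •
      (⊤ : Submodule (Localization.AtPrime q') (LocalizedModule q'.primeCompl F)) =
      I.map (algebraMap B (Localization.AtPrime q')) • ⊤ := by rw [hideal]
  rw [Module.supportDim_eq_of_equiv (Submodule.quotEquivOfEq _ _ hsub)]
  exact h1


omit [IsNoetherianRing A] [Module.Flat A F] [IsNoetherianRing B] [Module A F]
  [IsScalarTower A B F] in
/-- the fibre stalk module is nonzero at points of the support. -/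
theorem nontrivial_fibLocMod (q' : Ideal B) [q'.IsPrime]
    (hq' : (⟨q', inferInstance⟩ : PrimeSpectrum B) ∈ Module.support B F) :
    Nontrivial (EGA4.FibLocMod A B q' F) := by
  have hnt : Nontrivial (LocalizedModule q'.primeCompl F) := Module.mem_support_iff.mp hq'
  refine Submodule.Quotient.nontrivial_iff.mpr ?_
  intro h
  have h1 : (q'.comap (algebraMap A B)).map (algebraMap A (Localization.AtPrime q')) •
      (⊤ : Submodule (Localization.AtPrime q') (LocalizedModule q'.primeCompl F)) ≤
      maximalIdeal (Localization.AtPrime q') • ⊤ :=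
    Submodule.smul_mono_left (fibIdeal_le_maximalIdeal A B q')
  exact maximalIdeal_smul_top_ne_top (A := Localization.AtPrime q') _
    (top_le_iff.mp (h.symm.le.trans h1))

omit [IsNoetherianRing A] [Module.Flat A F] in
/-- a nonzero fibre stalk module of dimension `≤ 0` has dimension and depth `0`. -/
theorem supportDim_depth_eq_zero_of_le (q' : Ideal B) [q'.IsPrime]
    [Nontrivial (EGA4.FibLocMod A B q' F)]
    (h0 : Module.supportDim (Localization.AtPrime q') (EGA4.FibLocMod A B q' F) ≤ 0) :
    Module.supportDim (Localization.AtPrime q') (EGA4.FibLocMod A B q' F) = 0 ∧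
      depth (Localization.AtPrime q') (EGA4.FibLocMod A B q' F) = 0 := by
  obtain ⟨d, hd⟩ := exists_nat_supportDim (A := Localization.AtPrime q') (EGA4.FibLocMod A B q' F)
  have hdim : Module.supportDim (Localization.AtPrime q') (EGA4.FibLocMod A B q' F) = 0 := by
    refine le_antisymm h0 ?_
    rw [hd]
    exact_mod_cast Nat.zero_le d
  refine ⟨hdim, ?_⟩
  have h1 := depth_le_supportDim (A := Localization.AtPrime q') (EGA4.FibLocMod A B q' F)
  rw [hdim] at h1
  have h2 : depth (Localization.AtPrime q') (EGA4.FibLocMod A B q' F) ≤ 0 := by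
    exact_mod_cast h1
  exact le_antisymm h2 zero_le

end Groth.Agent.Lib.helper26.SkFlat
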