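import Mathlib
import Groth.Agent.Lib.Helper26.DepthLoc2

/-!
# Serre's condition `(S_k)` and regular sequences (helper26)
-/

set_option autoImplicit false
universe u

open CategoryTheory Abelian RingTheory.Sequence LocCoh IsLocalRing
open scoped Pointwise

namespace Groth.Agent.Lib.helper26.Depth

section

variable {A : Type u} [CommRing A] [IsNoetherianRing A]

/-- `(S_k)` for `M` implies `(S_{k-r})` for `M/(f_1..f_r)M`, for a weakly regular sequence. -/
theorem hasSk_quot_ofList (k : ℕ) (M : Type u) [AddCommGroup M] [Module A M] [Module.Finite A M]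
    (hM : HasSk k A M) (rs : List A) (hrs : IsWeaklyRegular M rs) (hr : rs.length ≤ k) :
    HasSk (k - rs.length) A (M ⧸ (Ideal.ofList rs • (⊤ : Submodule A M))) := by
  intro p _
  by_cases hnt : Nontrivial (LocalizedModule p.primeCompl
      (M ⧸ (Ideal.ofList rs • (⊤ : Submodule A M))))
  · have hp : (⟨p, inferInstance⟩ : PrimeSpectrum A) ∈
        Module.support A (M ⧸ (Ideal.ofList rs • (⊤ : Submodule A M))) := hnt
    have hmem : ∀ r ∈ rs, r ∈ p := by
      intro r hr
      apply Module.annihilator_le_of_mem_support hp
      rw [Module.mem_annihilator]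
      intro n
      obtain ⟨m, rfl⟩ := Submodule.Quotient.mk_surjective _ n
      rw [← Submodule.Quotient.mk_smul, Submodule.Quotient.mk_eq_zero]
      exact Submodule.smul_mem_smul (Ideal.subset_span hr) Submodule.mem_top
    obtain ⟨h1, h2⟩ := depth_supportDim_localization_quot_ofList p rs M hmem hrs
    have h3 := hM p
    obtain ⟨D, hD⟩ := exists_nat_supportDim (A := Localization.AtPrime p)
      (LocalizedModule p.primeCompl (M ⧸ (Ideal.ofList rs • (⊤ : Submodule A M))))
    obtain ⟨d, hd⟩ := exists_nat_depth (A := Localization.AtPrime p)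
      (LocalizedModule p.primeCompl (M ⧸ (Ideal.ofList rs • (⊤ : Submodule A M))))
    rw [← h1, ← h2, hD, hd] at h3
    rw [hD, hd]
    obtain ⟨j, hj⟩ : ∃ j, j = k - rs.length := ⟨_, rfl⟩
    rw [← hj]
    rcases min_le_iff.mp h3 with h | h
    · have h' : k ≤ d + rs.length := by exact_mod_cast h
      refine min_le_iff.mpr (Or.inl ?_)
      have : j ≤ d := by omega
      exact_mod_cast this
    · have h' : D + rs.length ≤ d + rs.length := by exact_mod_cast h
      refine min_le_iff.mpr (Or.inr ?_)
      have : D ≤ d := by omega
      exact_mod_cast this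
  · rw [not_nontrivial_iff_subsingleton] at hnt
    rw [Module.supportDim_eq_bot_of_subsingleton]
    simp

end

end Groth.Agent.Lib.helper26.Depth
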