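import Mathlib
import Groth.Agent.Lib.Helper26.LocTrans
import Groth.Agent.Lib.Helper26.Sk1
import Groth.Agent.Lib.Helper26.Sk2
import Groth.Agent.Lib.Helper26.Sk3
import Groth.Agent.Lib.Helper26.CM4
import Groth.Agent.Lib.Helper26.CM3
import Groth.Agent.Lib.Helper26.Depth8

/-!
# `(S_k)` via absence of embedded primes in quotients by regular sequences (helper26)
-/

set_option autoImplicit false
set_option linter.unusedSectionVars false
universe u

open CategoryTheory Abelian RingTheory.Sequence LocCoh IsLocalRing
open scoped Pointwise

namespace Groth.Agent.Lib.helper26.Depth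

section

variable {B : Type u} [CommRing B] [IsNoetherianRing B]

/-- no embedded associated primes. -/
def NoEmb (B : Type u) [CommRing B] (N : Type u) [AddCommGroup N] [Module B N] : Prop :=
  ∀ p ∈ associatedPrimes B N, ∀ q ∈ associatedPrimes B N, p ≤ q → p = q

theorem noEmb_iff_hasSk_one (N : Type u) [AddCommGroup N] [Module B N] [Module.Finite B N] :
    NoEmb B N ↔ HasSk 1 B N := by
  rw [← hasSk_one_iff]
  constructor
  · intro h p hp
    have hle : Module.annihilator B N ≤ p := by
      rw [← Submodule.annihilator_top]
      exact IsAssociatedPrime.annihilator_le hp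
    have hprime : p.IsPrime := hp.isPrime
    obtain ⟨q, hq, hqp⟩ := Ideal.exists_minimalPrimes_le hle
    have hqass : q ∈ associatedPrimes B N :=
      Module.associatedPrimes.minimalPrimes_annihilator_subset_associatedPrimes B N hq
    rw [← h q hqass p hp hqp]
    exact hq
  · intro h p hp q hq hpq
    have hqmin := h q hq
    have hle : Module.annihilator B N ≤ p := by
      rw [← Submodule.annihilator_top]
      exact IsAssociatedPrime.annihilator_le hp
    exact le_antisymm hpq (hqmin.2 ⟨hp.isPrime, hle⟩ hpq)

theorem hasSk_mono_module {k l : ℕ} (h : k ≤ l) (N : Type u) [AddCommGroup N] [Module B N]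
    (hN : HasSk l B N) : HasSk k B N := by
  intro p _
  refine le_trans (min_le_min ?_ le_rfl) (hN p)
  exact_mod_cast h

/-- `(S_k)` ⟹ quotients by short regular sequences have no embedded primes. -/
theorem noEmb_quot_of_hasSk (k : ℕ) (N : Type u) [AddCommGroup N] [Module B N] [Module.Finite B N]
    (h : HasSk k B N) (rs : List B) (hlen : rs.length < k) (hreg : IsWeaklyRegular N rs) :
    NoEmb B (N ⧸ (Ideal.ofList rs • (⊤ : Submodule B N))) := by
  rw [noEmb_iff_hasSk_one]
  have h1 := hasSk_quot_ofList k N h rs hreg hlen.le
  exact hasSk_mono_module (by omega) _ h1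

/-- conversely. -/
theorem hasSk_of_noEmb_quot (k : ℕ) (N : Type u) [AddCommGroup N] [Module B N]
    [Module.Finite B N]
    (h : ∀ rs : List B, rs.length < k → IsWeaklyRegular N rs →
      NoEmb B (N ⧸ (Ideal.ofList rs • (⊤ : Submodule B N)))) : HasSk k B N := by
  intro p hpprime
  by_cases hnt : Nontrivial (LocalizedModule p.primeCompl N)
  swap
  · rw [not_nontrivial_iff_subsingleton] at hnt
    rw [Module.supportDim_eq_bot_of_subsingleton]
    simp
  have hp : (⟨p, hpprime⟩ : PrimeSpectrum B) ∈ Module.support B N := hnt
  obtain ⟨D, hD⟩ := exists_nat_supportDim (A := Localization.AtPrime p)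
    (LocalizedModule p.primeCompl N)
  obtain ⟨d, hd⟩ := exists_nat_depth (A := Localization.AtPrime p)
    (LocalizedModule p.primeCompl N)
  rw [hD, hd]
  apply (min_natCast_le_coe_iff k D d).mpr
  by_contra hbad
  have hdk : d < k := by omega
  have hdD : d < D := by omega
  -- depth along `p`
  have hle := idealDepth_le_depth_localization p N p le_rfl
  have hpN : p • (⊤ : Submodule B N) ≠ ⊤ := by
    intro htop
    rw [idealDepth_eq_top_of_smul_top_eq_top p N htop, hd] at hle
    exact absurd hle (by simp)
  obtain ⟨e, he⟩ := ENat.ne_top_iff_exists.mp (idealDepth_ne_top p N hpN)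
  have hed : e ≤ d := by
    rw [← he, hd] at hle
    exact_mod_cast hle
  obtain ⟨rs, hlen, hmem, hreg⟩ := exists_isWeaklyRegular_of_le hpN (le_of_eq he)
  have h0 : idealDepth p (N ⧸ (Ideal.ofList rs • (⊤ : Submodule B N))) = 0 := by
    have := idealDepth_quot_ofList_add_length p rs N hmem hreg
    rw [← he, hlen] at this
    have h' : idealDepth p (N ⧸ (Ideal.ofList rs • (⊤ : Submodule B N))) + (e : ℕ∞) =
        (0 : ℕ∞) + (e : ℕ∞) := by rw [this, zero_add]
    exact (ENat.add_left_injective_of_ne_top (ENat.natCast_ne_top e)) h'
  obtain ⟨q, hq, hpq⟩ := exists_associatedPrime_ge_of_idealDepth_eq_zero p _ h0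
  have hemb := h rs (by omega) hreg
  rw [noEmb_iff_hasSk_one, ← hasSk_one_iff] at hemb
  have hqmin := hemb q hq
  obtain ⟨hqprime, hdepq⟩ := depth_localization_eq_zero_of_mem_associatedPrimes _ q hq
  have hqsupp : (⟨q, hqprime⟩ : PrimeSpectrum B) ∈
      Module.support B (N ⧸ (Ideal.ofList rs • (⊤ : Submodule B N))) := by
    rw [Module.mem_support_iff_of_finite]
    exact hqmin.1.2
  have hdimq := (SuppLoc.supportDim_localizedModule_le_zero_iff q _ hqsupp).mpr hqmin
  have hmemq : ∀ r ∈ rs, r ∈ q := fun r hr => hpq (hmem r hr)
  obtain ⟨g1, g2⟩ := depth_supportDim_localization_quot_ofList q rs N hmemq hreg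
  have hntq' : Nontrivial (LocalizedModule q.primeCompl
      (N ⧸ (Ideal.ofList rs • (⊤ : Submodule B N)))) := hqsupp
  obtain ⟨D', hD'⟩ := exists_nat_supportDim (A := Localization.AtPrime q)
    (LocalizedModule q.primeCompl (N ⧸ (Ideal.ofList rs • (⊤ : Submodule B N))))
  have hD'0 : D' = 0 := by
    rw [hD'] at hdimq
    have : (D' : WithBot ℕ∞) ≤ ((0 : ℕ) : WithBot ℕ∞) := by simpa using hdimq
    have : D' ≤ 0 := by exact_mod_cast this
    omega
  rw [hdepq, hlen, zero_add] at g1
  rw [hD', hD'0, hlen] at g2
  -- `N_q` is Cohen–Macaulay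
  have hCM : IsCohenMacaulayModule (Localization.AtPrime q) (LocalizedModule q.primeCompl N) := by
    unfold IsCohenMacaulayModule
    rw [← g1, ← g2]
    simp
  -- localize at `p B_q`
  have hdisj : Disjoint (q.primeCompl : Set B) (p : Set B) := by
    rw [Set.disjoint_left]
    intro a ha hap
    exact ha (hpq hap)
  let P : Ideal (Localization.AtPrime q) := p.map (algebraMap B (Localization.AtPrime q))
  have hPprime : P.IsPrime :=
    IsLocalization.isPrime_of_isPrime_disjoint q.primeCompl _ p hpprime hdisj
  have hPcomap : P.comap (algebraMap B (Localization.AtPrime q)) = p :=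
    IsLocalization.under_map_of_isPrime_disjoint q.primeCompl _ hpprime hdisj
  have hPsupp : (⟨P, hPprime⟩ : PrimeSpectrum (Localization.AtPrime q)) ∈
      Module.support (Localization.AtPrime q) (LocalizedModule q.primeCompl N) := by
    rw [SuppLoc.mem_support_localizedModule_iff]
    convert hp using 1
    exact PrimeSpectrum.ext hPcomap
  obtain ⟨hCMP, -, -⟩ := isCohenMacaulayModule_localization
    (LocalizedModule q.primeCompl N) hCM ⟨P, hPprime⟩ hPsupp
  obtain ⟨t1, t2⟩ := depth_supportDim_localization_submonoid q.primeCompl N P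
  have key : ∀ (p' : Ideal B) [p'.IsPrime], p' = p →
      Module.supportDim (Localization.AtPrime p') (LocalizedModule p'.primeCompl N) =
        ((depth (Localization.AtPrime p') (LocalizedModule p'.primeCompl N) : ℕ∞) :
          WithBot ℕ∞) → D = d := by
    intro p' _ hp' hEq
    subst hp'
    rw [hD, hd] at hEq
    exact_mod_cast hEq
  have hfin := key _ hPcomap (by
    unfold IsCohenMacaulayModule at hCMP
    rw [← t1, ← t2]
    exact hCMP)
  omega

end

section main

/-- `(S_k)` iff quotients of localizations `M_g` by regular sequences of length `< k` have no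
embedded primes. -/
theorem hasSk_iff_noEmb_localizations (k : ℕ) (A : Type u) [CommRing A] [IsNoetherianRing A]
    (M : Type u) [AddCommGroup M] [Module A M] [Module.Finite A M] :
    HasSk k A M ↔
      ∀ (g : A) (rs : List (Localization.Away g)), rs.length < k →
        IsWeaklyRegular (LocalizedModule (Submonoid.powers g) M) rs →
        ∀ p ∈ associatedPrimes (Localization.Away g)
            (LocalizedModule (Submonoid.powers g) M ⧸
              (Ideal.ofList rs • (⊤ : Submodule (Localization.Away g)
                (LocalizedModule (Submonoid.powers g) M)))),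
          ∀ q ∈ associatedPrimes (Localization.Away g)
            (LocalizedModule (Submonoid.powers g) M ⧸
              (Ideal.ofList rs • (⊤ : Submodule (Localization.Away g)
                (LocalizedModule (Submonoid.powers g) M)))),
            p ≤ q → p = q := by
  constructor
  · intro h g rs hlen hreg
    have hN : IsNoetherianRing (Localization.Away g) :=
      IsLocalization.isNoetherianRing (Submonoid.powers g) _ inferInstance
    exact noEmb_quot_of_hasSk k _ (hasSk_localization (Submonoid.powers g) M k h) rs hlen hreg
  · intro h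
    have hN : IsNoetherianRing (Localization.Away (1 : A)) :=
      IsLocalization.isNoetherianRing (Submonoid.powers (1 : A)) _ inferInstance
    exact hasSk_of_hasSk_localization (Submonoid.powers (1 : A)) M k
      (fun p _ => exists_prime_comap_eq_of_powers_one p)
      (hasSk_of_noEmb_quot k _ (h 1))

end main

end Groth.Agent.Lib.helper26.Depth
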