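import Mathlib
import Groth.Agent.Lib.Helper26.DimFormula6

/-!
# Abhyankar's inequality for valuation rings birationally dominating a Noetherian local domain
(helper26)
-/

set_option autoImplicit false
universe u

namespace Groth.Agent.Lib.helper26.DimFormula

open IsLocalRing

theorem abhyankar (A : Type u) [CommRing A] [IsDomain A] [IsNoetherianRing A] [IsLocalRing A]
    (O : Type u) [CommRing O] [IsDomain O] [IsLocalRing O] [Algebra A O]
    (hinj : Function.Injective (algebraMap A O)) (hloc : IsLocalHom (algebraMap A O))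
    (hfrac : ∀ x : O, ∃ a b : A, b ≠ 0 ∧ algebraMap A O b * x = algebraMap A O a)
    (hnt : ¬ IsField O) (n : ℕ) (f : Fin n → O)
    (hind : ∀ p : MvPolynomial (Fin n) A,
      MvPolynomial.eval₂ ((IsLocalRing.residue O).comp (algebraMap A O))
        (fun i => IsLocalRing.residue O (f i)) p = 0 →
      ∀ m : Fin n →₀ ℕ, IsLocalRing.residue A (p.coeff m) = 0) :
    (n : WithBot ℕ∞) + 1 ≤ ringKrullDim A := by
  classical
  let B : Subalgebra A O := Algebra.adjoin A (Set.range f)
  have hft : Algebra.FiniteType A B :=
    (Subalgebra.fg_iff_finiteType _).mp (Subalgebra.fg_def.mpr ⟨_, Set.finite_range f, rfl⟩)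
  have hAB : FaithfulSMul A B := by
    rw [faithfulSMul_iff_algebraMap_injective]
    intro x y hxy
    apply hinj
    exact congrArg Subtype.val hxy
  let q : Ideal B := (maximalIdeal O).comap (algebraMap B O)
  have hq : q.IsPrime := Ideal.comap_isPrime _ _
  have hcomap : (maximalIdeal O).comap (algebraMap A O) = maximalIdeal A :=
    ((IsLocalRing.local_hom_TFAE (algebraMap A O)).out 0 4).mp hloc
  have hlo : q.LiesOver (maximalIdeal A) := by
    constructor
    rw [Ideal.under_def]
    change maximalIdeal A = Ideal.comap (algebraMap A B) (Ideal.comap (algebraMap B O) (maximalIdeal O))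
    rw [Ideal.comap_comap, ← hcomap]
    rfl
  have key := dimension_inequality A B (maximalIdeal A) q
  -- `B` is algebraic over `A`
  have halg : Algebra.IsAlgebraic A B := by
    refine ⟨fun b => ?_⟩
    obtain ⟨a, c, hc, hca⟩ := hfrac (b : O)
    refine ⟨Polynomial.C c * Polynomial.X - Polynomial.C a, ?_, ?_⟩
    · intro h0
      have := congrArg (fun g => Polynomial.coeff g 1) h0
      simp at this
      exact hc this
    · apply Subtype.ext
      simp only [map_sub, map_mul, Polynomial.aeval_C, Polynomial.aeval_X]
      change algebraMap A O c * (b : O) - algebraMap A O a = 0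
      rw [hca, sub_self]
  have t0 : Algebra.trdeg A B = 0 := trdeg_eq_zero
  rw [t0, add_zero] at key
  -- `q ≠ ⊥`
  have hqne : q ≠ ⊥ := by
    have hm : maximalIdeal O ≠ ⊥ := fun h => hnt (IsLocalRing.isField_iff_maximalIdeal_eq.mpr h)
    obtain ⟨x, hx, hx0⟩ := Submodule.exists_mem_ne_zero_of_ne_bot hm
    obtain ⟨a, b, hb, hba⟩ := hfrac x
    have ha0 : a ≠ 0 := by
      intro h
      rw [h, map_zero] at hba
      rcases mul_eq_zero.mp hba with h1 | h1
      · exact hb (hinj (by rw [h1, map_zero]))
      · exact hx0 h1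
    intro hbot
    have hmem : algebraMap A B a ∈ q := by
      change algebraMap B O (algebraMap A B a) ∈ maximalIdeal O
      have : algebraMap B O (algebraMap A B a) = algebraMap A O a := rfl
      rw [this, ← hba]
      exact Ideal.mul_mem_left _ _ hx
    rw [hbot, Ideal.mem_bot] at hmem
    exact ha0 ((FaithfulSMul.algebraMap_injective A B) (by rw [hmem, map_zero]))
  have hq1 : (1 : ℕ∞) ≤ q.height := by
    rw [Order.one_le_iff_ne_zero]
    intro h
    exact hqne (Ideal.height_eq_zero_iff_eq_bot.mp h)
  -- algebraic independence of residues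
  let f' : Fin n → B := fun i => ⟨f i, Algebra.subset_adjoin (Set.mem_range_self i)⟩
  let g : Fin n → B ⧸ q := fun i => Ideal.Quotient.mk q (f' i)
  have hg : AlgebraicIndependent (A ⧸ maximalIdeal A) g := by
    rw [algebraicIndependent_iff]
    intro Pbar hP
    obtain ⟨P, rfl⟩ := MvPolynomial.map_surjective (Ideal.Quotient.mk (maximalIdeal A))
      Ideal.Quotient.mk_surjective Pbar
    have h1 : MvPolynomial.aeval g (MvPolynomial.map (Ideal.Quotient.mk (maximalIdeal A)) P)
        = Ideal.Quotient.mk q (MvPolynomial.aeval f' P) := by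
      rw [MvPolynomial.aeval_def, MvPolynomial.eval₂_map, MvPolynomial.aeval_def]
      have : (algebraMap (A ⧸ maximalIdeal A) (B ⧸ q)).comp (Ideal.Quotient.mk (maximalIdeal A))
          = (Ideal.Quotient.mk q).comp (algebraMap A B) := by
        ext a; rfl
      rw [this]
      exact (MvPolynomial.eval₂_comp_left (Ideal.Quotient.mk q) (algebraMap A B) f' P).symm
    rw [h1, Ideal.Quotient.eq_zero_iff_mem] at hP
    have h2 : algebraMap B O (MvPolynomial.aeval f' P) ∈ maximalIdeal O := hP
    have h3 : algebraMap B O (MvPolynomial.aeval f' P)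
        = MvPolynomial.eval₂ (algebraMap A O) f P := by
      rw [MvPolynomial.aeval_def, MvPolynomial.eval₂_comp_left (algebraMap B O)]
      rfl
    rw [h3] at h2
    have h4 : IsLocalRing.residue O (MvPolynomial.eval₂ (algebraMap A O) f P) = 0 :=
      (IsLocalRing.residue_eq_zero_iff _).mpr h2
    rw [MvPolynomial.eval₂_comp_left (IsLocalRing.residue O)] at h4
    have h5 := hind P h4
    ext m
    rw [MvPolynomial.coeff_map, MvPolynomial.coeff_zero]
    have := (IsLocalRing.residue_eq_zero_iff _).mp (h5 m)
    exact Ideal.Quotient.eq_zero_iff_mem.mpr this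
  have hn : (n : Cardinal.{u}) ≤ Algebra.trdeg (A ⧸ maximalIdeal A) (B ⧸ q) := by
    have := hg.lift_cardinalMk_le_trdeg
    simpa using this
  have hfinal : ((n : ℕ∞) + 1 : ℕ∞) ≤ (maximalIdeal A).height := by
    rw [← Cardinal.ofENat_le_ofENat]
    refine le_trans ?_ key
    rw [Cardinal.ofENat_add, add_comm]
    refine add_le_add ?_ ?_
    · exact Cardinal.ofENat_le_ofENat.mpr hq1
    · simpa using hn
  rw [← IsLocalRing.maximalIdeal_height_eq_ringKrullDim]
  exact_mod_cast hfinal

end Groth.Agent.Lib.helper26.DimFormula
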