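import Mathlib

/-!
# One complex variable: functions of polynomial growth, holomorphic off a finite set (helper26)

* `exists_polynomial_of_entire_of_growth`: an entire function with `‖f z‖ ≤ C (1 + ‖z‖) ^ N` is a
  polynomial of degree `≤ N`.
* `exists_entire_extension`: removable singularities at finitely many points.
* `exists_polynomial_of_growth_off_finite`: a function holomorphic off a finite set, of polynomial
  growth there, agrees with a polynomial off the finite set.
-/

set_option autoImplicit false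

open Polynomial Filter Topology

namespace Groth.Agent.Lib.helper26.AnConn

/-- an entire function of polynomial growth is a polynomial -/
theorem exists_polynomial_of_entire_of_growth {f : ℂ → ℂ} (hf : Differentiable ℂ f) (C : ℝ) (N : ℕ)
    (hb : ∀ z, ‖f z‖ ≤ C * (1 + ‖z‖) ^ N) :
    ∃ p : ℂ[X], p.natDegree ≤ N ∧ ∀ z, f z = p.eval z := by
  have hC : 0 ≤ C := by
    have h := hb 0
    simp only [norm_zero, add_zero, one_pow, mul_one] at h
    exact (norm_nonneg _).trans h
  have hvan : ∀ n : ℕ, N < n → iteratedDeriv n f 0 = 0 := by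
    intro n hn
    by_contra hne
    have hpos : 0 < ‖iteratedDeriv n f 0‖ := norm_pos_iff.mpr hne
    set K : ℝ := n.factorial * (C * 2 ^ N) with hK
    have hK0 : 0 ≤ K := by positivity
    have hest : ∀ R : ℝ, 1 ≤ R → ‖iteratedDeriv n f 0‖ ≤ K / R := by
      intro R hR
      have hR0 : 0 < R := lt_of_lt_of_le one_pos hR
      have h1 := Complex.norm_iteratedDeriv_le_of_forall_mem_sphere_norm_le (c := 0) (R := R)
        (C := C * (1 + R) ^ N) (f := f) n hR0 hf.diffContOnCl (fun z hz => by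
          have hz' : ‖z‖ = R := by simpa using hz
          have := hb z
          rwa [hz'] at this)
      refine h1.trans ?_
      have h2 : (1 + R) ^ N ≤ 2 ^ N * R ^ N := by
        rw [← mul_pow]
        apply pow_le_pow_left₀ (by positivity)
        linarith
      have h3 : R ^ N * R ≤ R ^ n := by
        rw [← pow_succ]
        exact pow_le_pow_right₀ hR hn
      rw [div_le_div_iff₀ (pow_pos hR0 n) hR0]
      calc (n.factorial : ℝ) * (C * (1 + R) ^ N) * R
          ≤ n.factorial * (C * (2 ^ N * R ^ N)) * R := by gcongr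
        _ = K * (R ^ N * R) := by rw [hK]; ring
        _ ≤ K * R ^ n := by gcongr
    set R : ℝ := max 1 (K / ‖iteratedDeriv n f 0‖ + 1) with hRdef
    have hR1 : 1 ≤ R := le_max_left _ _
    have hR0 : 0 < R := lt_of_lt_of_le one_pos hR1
    have h4 := hest R hR1
    have h5 : K / ‖iteratedDeriv n f 0‖ < R :=
      lt_of_lt_of_le (lt_add_one _) (le_max_right _ _)
    rw [div_lt_iff₀ hpos] at h5
    rw [le_div_iff₀ hR0] at h4
    linarith [mul_comm R ‖iteratedDeriv n f 0‖]
  have hsum : ∀ z : ℂ, f z = ∑ n ∈ Finset.range (N + 1),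
      ((n.factorial : ℂ)⁻¹ * iteratedDeriv n f 0) * z ^ n := by
    intro z
    have h1 := Complex.taylorSeries_eq_of_entire' 0 z hf
    rw [← h1, tsum_eq_sum (s := Finset.range (N + 1))]
    · simp
    · intro n hn
      rw [Finset.mem_range, not_lt] at hn
      rw [hvan n (by omega)]
      simp
  refine ⟨∑ n ∈ Finset.range (N + 1),
    Polynomial.C ((n.factorial : ℂ)⁻¹ * iteratedDeriv n f 0) * X ^ n, ?_, ?_⟩
  · apply Polynomial.natDegree_sum_le_of_forall_le
    intro n hn
    rw [Finset.mem_range] at hn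
    exact (Polynomial.natDegree_C_mul_X_pow_le _ _).trans (by omega)
  · intro z
    rw [hsum z, Polynomial.eval_finsetSum]
    simp

/-- removable singularities at finitely many points -/
theorem exists_entire_extension (S : Finset ℂ) : ∀ (g : ℂ → ℂ),
    (∀ z ∉ S, DifferentiableAt ℂ g z) →
    (∀ s ∈ S, ∃ r > 0, ∃ M : ℝ, ∀ z, z ≠ s → dist z s < r → ‖g z‖ ≤ M) →
    ∃ g' : ℂ → ℂ, Differentiable ℂ g' ∧ ∀ z ∉ S, g' z = g z := by
  classical
  induction S using Finset.induction_on with
  | empty =>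
    intro g hg _
    exact ⟨g, fun z => hg z (Finset.notMem_empty z), fun _ _ => rfl⟩
  | insert s S hs ih =>
    intro g hg hb
    -- a ball around `s` missing `S`
    have hopen : IsOpen ((S : Set ℂ)ᶜ) := S.finite_toSet.isClosed.isOpen_compl
    obtain ⟨r₁, hr₁, hball⟩ := Metric.isOpen_iff.mp hopen s (by simpa using hs)
    obtain ⟨r₂, hr₂, M, hM⟩ := hb s (Finset.mem_insert_self s S)
    set r := min r₁ r₂ with hr
    have hr0 : 0 < r := lt_min hr₁ hr₂
    set g₁ : ℂ → ℂ := Function.update g s (limUnder (𝓝[≠] s) g) with hg₁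
    have hg₁eq : ∀ z, z ≠ s → g₁ z = g z := fun z hz => Function.update_of_ne hz _ _
    have hd : DifferentiableOn ℂ g (Metric.ball s r \ {s}) := by
      intro z hz
      apply (hg z ?_).differentiableWithinAt
      rw [Finset.mem_insert, not_or]
      refine ⟨hz.2, ?_⟩
      have : z ∈ (S : Set ℂ)ᶜ := hball (Metric.ball_subset_ball (min_le_left _ _) hz.1)
      simpa using this
    have hbdd : BddAbove (norm ∘ g '' (Metric.ball s r \ {s})) := by
      refine ⟨M, ?_⟩
      rintro _ ⟨z, hz, rfl⟩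
      exact hM z hz.2 (lt_of_lt_of_le (Metric.mem_ball.mp hz.1) (min_le_right _ _))
    have hdiff := Complex.differentiableOn_update_limUnder_of_bddAbove
      (Metric.ball_mem_nhds s hr0) hd hbdd
    have hg₁s : DifferentiableAt ℂ g₁ s :=
      hdiff.differentiableAt (Metric.ball_mem_nhds s hr0)
    have hg₁d : ∀ z ∉ S, DifferentiableAt ℂ g₁ z := by
      intro z hz
      by_cases hzs : z = s
      · rw [hzs]; exact hg₁s
      · have h1 : DifferentiableAt ℂ g z := hg z (by
          rw [Finset.mem_insert, not_or]; exact ⟨hzs, hz⟩)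
        refine h1.congr_of_eventuallyEq ?_
        filter_upwards [isOpen_compl_singleton.mem_nhds hzs] with w hw
        exact hg₁eq w hw
    have hg₁b : ∀ s' ∈ S, ∃ r > 0, ∃ M : ℝ, ∀ z, z ≠ s' → dist z s' < r → ‖g₁ z‖ ≤ M := by
      intro s' hs'
      obtain ⟨r', hr', M', hM'⟩ := hb s' (Finset.mem_insert_of_mem hs')
      have hss' : s' ≠ s := fun h => hs (h ▸ hs')
      have hd0 : 0 < dist s' s := dist_pos.mpr hss'
      refine ⟨min r' (dist s' s), lt_min hr' hd0, M', fun z hz hzd => ?_⟩
      have hzs : z ≠ s := by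
        intro h
        rw [h] at hzd
        have := lt_of_lt_of_le hzd (min_le_right _ _)
        rw [dist_comm] at this
        exact lt_irrefl _ this
      rw [hg₁eq z hzs]
      exact hM' z hz (lt_of_lt_of_le hzd (min_le_left _ _))
    obtain ⟨g', hg'd, hg'eq⟩ := ih g₁ hg₁d hg₁b
    refine ⟨g', hg'd, fun z hz => ?_⟩
    rw [Finset.mem_insert, not_or] at hz
    rw [hg'eq z hz.2, hg₁eq z hz.1]

/-- a function holomorphic off a finite set, of polynomial growth there, agrees with a polynomial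
off the finite set -/
theorem exists_polynomial_of_growth_off_finite (S : Finset ℂ) (g : ℂ → ℂ)
    (hg : ∀ z ∉ S, DifferentiableAt ℂ g z) (C : ℝ) (N : ℕ)
    (hb : ∀ z ∉ S, ‖g z‖ ≤ C * (1 + ‖z‖) ^ N) :
    ∃ p : ℂ[X], p.natDegree ≤ N ∧ ∀ z ∉ S, g z = p.eval z := by
  classical
  have hC : 0 ≤ C := by
    obtain ⟨z, hz⟩ : ∃ z : ℂ, z ∉ S := Infinite.exists_notMem_finset S
    have h := hb z hz
    by_contra hneg
    rw [not_le] at hneg
    have : C * (1 + ‖z‖) ^ N < 0 := mul_neg_of_neg_of_pos hneg (by positivity)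
    linarith [norm_nonneg (g z)]
  have hloc : ∀ s ∈ S, ∃ r > 0, ∃ M : ℝ, ∀ z, z ≠ s → dist z s < r → ‖g z‖ ≤ M := by
    intro s hs
    have hopen : IsOpen (((S.erase s : Finset ℂ) : Set ℂ)ᶜ) :=
      (S.erase s).finite_toSet.isClosed.isOpen_compl
    obtain ⟨r₁, hr₁, hball⟩ := Metric.isOpen_iff.mp hopen s (by simp)
    refine ⟨min r₁ 1, lt_min hr₁ one_pos, C * (2 + ‖s‖) ^ N, fun z hzs hzd => ?_⟩
    have hzS : z ∉ S := by
      intro hzS
      have h1 : z ∈ ((S.erase s : Finset ℂ) : Set ℂ)ᶜ :=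
        hball (Metric.mem_ball.mpr (lt_of_lt_of_le hzd (min_le_left _ _)))
      apply h1
      simp [hzs, hzS]
    refine (hb z hzS).trans ?_
    have h2 : ‖z‖ ≤ 1 + ‖s‖ := by
      have h3 : ‖z - s‖ < 1 := by
        rw [← dist_eq_norm]; exact lt_of_lt_of_le hzd (min_le_right _ _)
      calc ‖z‖ = ‖(z - s) + s‖ := by rw [sub_add_cancel]
        _ ≤ ‖z - s‖ + ‖s‖ := norm_add_le _ _
        _ ≤ 1 + ‖s‖ := by linarith
    apply mul_le_mul_of_nonneg_left _ hC
    apply pow_le_pow_left₀ (by positivity)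
    linarith
  obtain ⟨g', hg'd, hg'eq⟩ := exists_entire_extension S g hg hloc
  have hg'b : ∀ z, ‖g' z‖ ≤ C * (1 + ‖z‖) ^ N := by
    have hclosed : IsClosed {z : ℂ | ‖g' z‖ ≤ C * (1 + ‖z‖) ^ N} :=
      isClosed_le hg'd.continuous.norm (by fun_prop)
    have hdense : Dense ((S : Set ℂ)ᶜ) := S.finite_toSet.countable.dense_compl ℂ
    have hsub : ((S : Set ℂ)ᶜ) ⊆ {z : ℂ | ‖g' z‖ ≤ C * (1 + ‖z‖) ^ N} := by
      intro z hz
      have hz' : z ∉ S := by simpa using hz
      show ‖g' z‖ ≤ _
      rw [hg'eq z hz']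
      exact hb z hz'
    intro z
    have := hclosed.closure_subset_iff.mpr hsub (hdense z)
    exact this
  obtain ⟨p, hp, hpe⟩ := exists_polynomial_of_entire_of_growth hg'd C N hg'b
  exact ⟨p, hp, fun z hz => by rw [← hg'eq z hz, hpe z]⟩

end Groth.Agent.Lib.helper26.AnConn
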