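import Mathlib

/-!
# Density of Zariski-open subsets in the classical topology: the ring-theoretic core (helper26)

For a finitely generated `ℂ`-algebra `A` which is a domain, generators `a₁, …, aₙ`, `g ≠ 0` and a
point `x₀ : A →ₐ[ℂ] ℂ`, there are points `x` with `g(x) ≠ 0` and `aᵢ(x)` arbitrarily close to
`aᵢ(x₀)`.
-/

set_option autoImplicit false

open Polynomial

namespace Groth.Agent.Lib.helper26.AnDensity

section Points

variable {A : Type} [CommRing A] [Algebra ℂ A]

/-- Nullstellensatz: a maximal ideal of a finitely generated `ℂ`-algebra is the kernel of a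
point. -/
lemma exists_algHom_of_isMaximal [Algebra.FiniteType ℂ A] (M : Ideal A) [hM : M.IsMaximal] :
    ∃ x : A →ₐ[ℂ] ℂ, ∀ a ∈ M, x a = 0 := by
  let _ : Field (A ⧸ M) := Ideal.Quotient.field M
  have hft : Algebra.FiniteType ℂ (A ⧸ M) :=
    Algebra.FiniteType.of_surjective (Ideal.Quotient.mkₐ ℂ M) (Ideal.Quotient.mkₐ_surjective ℂ M)
  have hfin : Module.Finite ℂ (A ⧸ M) := finite_of_finite_type_of_isJacobsonRing ℂ (A ⧸ M)
  have hbij : Function.Bijective (algebraMap ℂ (A ⧸ M)) :=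
    IsAlgClosed.algebraMap_bijective_of_isIntegral
  let e : ℂ ≃ₐ[ℂ] (A ⧸ M) := AlgEquiv.ofBijective (Algebra.ofId ℂ (A ⧸ M)) hbij
  refine ⟨(e.symm : (A ⧸ M) →ₐ[ℂ] ℂ).comp (Ideal.Quotient.mkₐ ℂ M), fun a ha => ?_⟩
  simp only [AlgHom.comp_apply, Ideal.Quotient.mkₐ_eq_mk]
  rw [Ideal.Quotient.eq_zero_iff_mem.mpr ha, map_zero]

lemma exists_algHom_of_ne_top [Algebra.FiniteType ℂ A] (I : Ideal A) (hI : I ≠ ⊤) :
    ∃ x : A →ₐ[ℂ] ℂ, ∀ a ∈ I, x a = 0 := by
  obtain ⟨M, hM, hIM⟩ := Ideal.exists_le_maximal I hI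
  obtain ⟨x, hx⟩ := exists_algHom_of_isMaximal M
  exact ⟨x, fun a ha => hx a (hIM ha)⟩

/-- A point is determined by its kernel. -/
lemma algHom_eq_of_ker_le {x x' : A →ₐ[ℂ] ℂ} (h : RingHom.ker x ≤ RingHom.ker x') : x = x' := by
  ext a
  have h1 : a - algebraMap ℂ A (x a) ∈ RingHom.ker x := by
    rw [RingHom.mem_ker, map_sub, AlgHom.commutes]
    simp
  have h2 := h h1
  rw [RingHom.mem_ker, map_sub, AlgHom.commutes] at h2
  have h3 : x' a - x a = 0 := by simpa using h2
  exact (sub_eq_zero.mp h3).symm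

end Points

section LyingOver

variable {P A : Type} [CommRing P] [IsDomain P] [IsIntegrallyClosed P] [CommRing A] [IsDomain A]
  [Algebra ℂ P] [Algebra ℂ A] [Algebra P A] [IsScalarTower ℂ P A] [Algebra.FiniteType ℂ A]
  [Algebra.IsIntegral P A] [Module.IsTorsionFree P A]

omit [IsDomain P] [IsIntegrallyClosed P] [IsDomain A] [IsScalarTower ℂ P A]
  [Algebra.FiniteType ℂ A] [Algebra.IsIntegral P A] [Module.IsTorsionFree P A] in
/-- The value of `F` at a point over `y` is a root of the specialised minimal polynomial. -/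
lemma eval₂_minpoly_eq_zero (x : A →ₐ[ℂ] ℂ) (y : P →ₐ[ℂ] ℂ)
    (hxy : ∀ p, x (algebraMap P A p) = y p) (F : A) :
    (minpoly P F).eval₂ (y : P →+* ℂ) (x F) = 0 := by
  have h := congrArg x (minpoly.aeval P F)
  rw [map_zero, aeval_def] at h
  have h2 := Polynomial.hom_eval₂ (minpoly P F) (algebraMap P A) (x : A →+* ℂ) F
  have e : (x : A →+* ℂ).comp (algebraMap P A) = (y : P →+* ℂ) := by
    ext p
    exact hxy p
  rw [e] at h2
  exact h2.symm.trans h

/-- Lying over with prescribed value: every root of the specialised minimal polynomial of `F`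
at `y` is the value of `F` at a point over `y`. -/
lemma exists_point_over (y : P →ₐ[ℂ] ℂ) (F : A) (lam : ℂ)
    (hroot : (minpoly P F).eval₂ (y : P →+* ℂ) lam = 0) :
    ∃ x : A →ₐ[ℂ] ℂ, (∀ p, x (algebraMap P A p) = y p) ∧ x F = lam := by
  let ψ : P[X] →ₐ[P] A := aeval F
  let θ : P[X] →+* ℂ := eval₂RingHom (y : P →+* ℂ) lam
  have hker : RingHom.ker (ψ : P[X] →+* A) ≤ RingHom.ker θ := by
    have := minpoly.ker_eval (R := P) (s := F) (Algebra.IsIntegral.isIntegral F)
    rw [AlgHom.toRingHom_eq_coe] at this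
    rw [this, Ideal.span_singleton_le_iff_mem, RingHom.mem_ker]
    exact hroot
  have hint : (ψ : P[X] →+* A).IsIntegral := by
    refine RingHom.IsIntegral.tower_top (C : P →+* P[X]) (ψ : P[X] →+* A) ?_
    have e : (ψ : P[X] →+* A).comp (C : P →+* P[X]) = algebraMap P A := by
      ext p
      simp [ψ]
    rw [e]
    exact algebraMap_isIntegral_iff.mpr inferInstance
  have hne : (RingHom.ker θ).map (ψ : P[X] →+* A) ≠ ⊤ := by
    rw [Ne, Ideal.map_eq_top_iff_of_ker_le _ hker hint]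
    exact RingHom.ker_ne_top θ
  obtain ⟨x, hx⟩ := exists_algHom_of_ne_top _ hne
  refine ⟨x, fun p => ?_, ?_⟩
  · have hmem : (C p - C (algebraMap ℂ P (y p)) : P[X]) ∈ RingHom.ker θ := by
      rw [RingHom.mem_ker, map_sub]
      simp [θ]
    have h := hx _ (Ideal.mem_map_of_mem _ hmem)
    simp only [map_sub, ψ, AlgHom.coe_toRingHom, aeval_C] at h
    rw [← IsScalarTower.algebraMap_apply, AlgHom.commutes] at h
    simpa [sub_eq_zero] using h
  · have hmem : (X - C (algebraMap ℂ P lam) : P[X]) ∈ RingHom.ker θ := by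
      rw [RingHom.mem_ker, map_sub]
      simp [θ]
    have h := hx _ (Ideal.mem_map_of_mem _ hmem)
    simp only [map_sub, ψ, AlgHom.coe_toRingHom, aeval_C, aeval_X] at h
    rw [← IsScalarTower.algebraMap_apply, AlgHom.commutes] at h
    simpa [sub_eq_zero] using h

end LyingOver

section Roots

open NNReal

/-- A monic complex polynomial of positive degree `m` has a root `λ` with `‖λ‖ ^ m ≤ ‖q(0)‖`. -/
lemma exists_root_pow_le (q : ℂ[X]) (hq : q.Monic) (hdeg : 0 < q.natDegree) :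
    ∃ lam, q.IsRoot lam ∧ ‖lam‖ ^ q.natDegree ≤ ‖q.coeff 0‖ := by
  have hs : q.Splits := IsAlgClosed.splits q
  have hcard : q.roots.card = q.natDegree := hs.natDegree_eq_card_roots.symm
  have hne : q.roots.toFinset.Nonempty := by
    rw [Multiset.toFinset_nonempty, ← Multiset.card_pos, hcard]
    exact hdeg
  obtain ⟨lam, hlam, hmin⟩ := Finset.exists_min_image q.roots.toFinset (fun z => ‖z‖₊) hne
  rw [Multiset.mem_toFinset] at hlam
  refine ⟨lam, (mem_roots hq.ne_zero).mp hlam, ?_⟩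
  have h1 : ‖lam‖₊ ^ (q.roots.map (fun z => ‖z‖₊)).card ≤ (q.roots.map (fun z => ‖z‖₊)).prod := by
    apply Multiset.pow_card_le_prod
    intro t ht
    obtain ⟨z, hz, rfl⟩ := Multiset.mem_map.mp ht
    exact hmin z (Multiset.mem_toFinset.mpr hz)
  rw [Multiset.card_map, hcard] at h1
  have h2 : (q.roots.map (fun z => ‖z‖₊)).prod = ‖q.coeff 0‖₊ := by
    rw [hs.coeff_zero_eq_prod_roots_of_monic hq, nnnorm_mul, nnnorm_pow, nnnorm_neg, nnnorm_one,
      one_pow, one_mul]
    exact (map_multiset_prod (nnnormHom : ℂ →*₀ ℝ≥0) q.roots).symm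
  rw [h2] at h1
  exact_mod_cast h1

/-- Roots of a monic polynomial whose lower coefficients are bounded by `C` are bounded by
`C + 1`. -/
lemma norm_le_of_isRoot_of_coeff_le (q : ℂ[X]) (hq : q.Monic) (C : ℝ) (hC : 0 ≤ C)
    (hcoef : ∀ j < q.natDegree, ‖q.coeff j‖ ≤ C) (lam : ℂ) (hroot : q.IsRoot lam) :
    ‖lam‖ ≤ C + 1 := by
  have h := hroot.norm_lt_cauchyBound hq.ne_zero
  have hb : cauchyBound q ≤ (Real.toNNReal C) + 1 := by
    unfold cauchyBound
    rw [hq.leadingCoeff, nnnorm_one, div_one]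
    gcongr
    apply Finset.sup_le
    intro j hj
    rw [Finset.mem_range] at hj
    rw [← NNReal.coe_le_coe, Real.coe_toNNReal C hC]
    exact hcoef j hj
  have h3 := h.le.trans hb
  rw [← NNReal.coe_le_coe] at h3
  simpa [Real.coe_toNNReal C hC] using h3

end Roots

section Line

/-- Points where a nonzero polynomial does not vanish accumulate at every point of `ℂᵈ`. -/
lemma exists_seq_tendsto_eval_ne_zero {d : ℕ} (h : MvPolynomial (Fin d) ℂ) (hh : h ≠ 0)
    (y₀ : Fin d → ℂ) :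
    ∃ y : ℕ → (Fin d → ℂ), Filter.Tendsto y Filter.atTop (nhds y₀) ∧
      ∀ k, MvPolynomial.eval (y k) h ≠ 0 := by
  obtain ⟨v₁, hv₁⟩ : ∃ v₁ : Fin d → ℂ, MvPolynomial.eval v₁ h ≠ 0 := by
    by_contra hcon
    push Not at hcon
    apply hh
    apply MvPolynomial.funext
    intro v
    rw [hcon v, map_zero]
  let q : ℂ[X] := MvPolynomial.aeval (fun j => C (y₀ j) + X * C (v₁ j - y₀ j)) h
  have hq : ∀ t : ℂ, q.eval t = MvPolynomial.eval (fun j => y₀ j + t * (v₁ j - y₀ j)) h := by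
    intro t
    have e : (Polynomial.evalRingHom t).comp
        (MvPolynomial.aeval (fun j => C (y₀ j) + X * C (v₁ j - y₀ j)) :
          MvPolynomial (Fin d) ℂ →ₐ[ℂ] ℂ[X]).toRingHom =
        MvPolynomial.eval (fun j => y₀ j + t * (v₁ j - y₀ j)) := by
      apply MvPolynomial.ringHom_ext
      · intro c
        simp
      · intro j
        simp
    exact congrArg (fun φ => φ h) e
  have hq0 : q ≠ 0 := by
    intro h0
    have := hq 1
    rw [h0, eval_zero] at this
    apply hv₁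
    have e : (fun j => y₀ j + 1 * (v₁ j - y₀ j)) = v₁ := by
      funext j
      ring
    rw [e] at this
    exact this.symm
  have hfin : {t : ℂ | q.IsRoot t}.Finite := Polynomial.finite_setOfPred_isRoot hq0
  have hdense : Dense {t : ℂ | q.IsRoot t}ᶜ := hfin.countable.dense_compl ℂ
  have h0mem : (0 : ℂ) ∈ closure {t : ℂ | q.IsRoot t}ᶜ := hdense 0
  obtain ⟨t, ht, htlim⟩ := mem_closure_iff_seq_limit.mp h0mem
  refine ⟨fun k j => y₀ j + t k * (v₁ j - y₀ j), ?_, fun k => ?_⟩
  · rw [tendsto_pi_nhds]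
    intro j
    have : Filter.Tendsto (fun k => y₀ j + t k * (v₁ j - y₀ j)) Filter.atTop
        (nhds (y₀ j + 0 * (v₁ j - y₀ j))) :=
      tendsto_const_nhds.add (htlim.mul tendsto_const_nhds)
    simpa using this
  · rw [← hq]
    exact ht k

end Line

section MinpolyAux

variable {P A : Type} [CommRing P] [CommRing A] [IsDomain A] [Algebra P A]

/-- The constant coefficient of the minimal polynomial of a nonzero integral element of a domain
is nonzero. -/
lemma minpoly_coeff_zero_ne_zero {g : A} (hint : IsIntegral P g) (hg : g ≠ 0) :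
    (minpoly P g).coeff 0 ≠ 0 := by
  intro h0
  have hX : (X : P[X]) ∣ minpoly P g := X_dvd_iff.mpr h0
  obtain ⟨r, hr⟩ := hX
  have hmonic : (minpoly P g).Monic := minpoly.monic hint
  have hrm : r.Monic := by
    rw [hr] at hmonic
    exact (monic_X.of_mul_monic_left hmonic)
  have h1 : aeval g r = 0 := by
    have h2 := minpoly.aeval P g
    rw [hr, map_mul, aeval_X] at h2
    exact (mul_eq_zero.mp h2).resolve_left hg
  have hnt : Nontrivial P := by
    by_contra hn
    rw [not_nontrivial_iff_subsingleton] at hn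
    have : Subsingleton A := Module.subsingleton P A
    exact hg (Subsingleton.elim _ _)
  have h3 := natDegree_le_natDegree (minpoly.min P g hrm h1)
  rw [hr, monic_X.natDegree_mul hrm, natDegree_X] at h3
  omega

end MinpolyAux

section Coords

variable {A : Type} [CommRing A] [Algebra ℂ A] {n : ℕ} (a : Fin n → A)

/-- Coordinates of a point with respect to a family of elements. -/
def coords (x : A →ₐ[ℂ] ℂ) : Fin n → ℂ := fun i => x (a i)

lemma apply_aeval (x : A →ₐ[ℂ] ℂ) (p : MvPolynomial (Fin n) ℂ) :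
    x (MvPolynomial.aeval a p) = MvPolynomial.eval (coords a x) p := by
  have h := MvPolynomial.comp_aeval (R := ℂ) (f := a) x
  have h2 := congrArg (fun φ : MvPolynomial (Fin n) ℂ →ₐ[ℂ] ℂ => φ p) h
  simp only [AlgHom.comp_apply] at h2
  rw [h2]
  rfl

variable {a}

lemma coords_injective
    (ha : Function.Surjective (MvPolynomial.aeval a : MvPolynomial (Fin n) ℂ →ₐ[ℂ] A)) :
    Function.Injective (coords a) := by
  intro x x' h
  ext f
  obtain ⟨p, rfl⟩ := ha f
  rw [apply_aeval, apply_aeval, h]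

/-- The point with prescribed coordinates, when they satisfy all relations. -/
noncomputable def pointOfCoords
    (ha : Function.Surjective (MvPolynomial.aeval a : MvPolynomial (Fin n) ℂ →ₐ[ℂ] A))
    (u : Fin n → ℂ)
    (hu : ∀ p : MvPolynomial (Fin n) ℂ, MvPolynomial.aeval a p = 0 → MvPolynomial.eval u p = 0) :
    A →ₐ[ℂ] ℂ :=
  (Ideal.Quotient.liftₐ (RingHom.ker (MvPolynomial.aeval a : MvPolynomial (Fin n) ℂ →ₐ[ℂ] A))
    (MvPolynomial.aeval u) (fun p hp => hu p (RingHom.mem_ker.mp hp))).comp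
    (Ideal.quotientKerAlgEquivOfSurjective ha).symm.toAlgHom

lemma pointOfCoords_aeval
    (ha : Function.Surjective (MvPolynomial.aeval a : MvPolynomial (Fin n) ℂ →ₐ[ℂ] A))
    (u : Fin n → ℂ)
    (hu : ∀ p : MvPolynomial (Fin n) ℂ, MvPolynomial.aeval a p = 0 → MvPolynomial.eval u p = 0)
    (p : MvPolynomial (Fin n) ℂ) :
    pointOfCoords ha u hu (MvPolynomial.aeval a p) = MvPolynomial.eval u p := by
  unfold pointOfCoords
  have e : (Ideal.quotientKerAlgEquivOfSurjective ha).symm (MvPolynomial.aeval a p) =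
      Ideal.Quotient.mk _ p := by
    rw [AlgEquiv.symm_apply_eq]
    rfl
  change (Ideal.Quotient.liftₐ _ (MvPolynomial.aeval u)
    (fun p hp => hu p (RingHom.mem_ker.mp hp)))
    ((Ideal.quotientKerAlgEquivOfSurjective ha).symm (MvPolynomial.aeval a p)) = _
  rw [e]
  rfl

lemma coords_pointOfCoords
    (ha : Function.Surjective (MvPolynomial.aeval a : MvPolynomial (Fin n) ℂ →ₐ[ℂ] A))
    (u : Fin n → ℂ)
    (hu : ∀ p : MvPolynomial (Fin n) ℂ, MvPolynomial.aeval a p = 0 → MvPolynomial.eval u p = 0) :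
    coords a (pointOfCoords ha u hu) = u := by
  funext i
  have := pointOfCoords_aeval ha u hu (MvPolynomial.X i)
  rw [MvPolynomial.aeval_X, MvPolynomial.eval_X] at this
  exact this

/-- Closedness of the set of points inside `ℂⁿ`. -/
lemma exists_point_of_tendsto
    (ha : Function.Surjective (MvPolynomial.aeval a : MvPolynomial (Fin n) ℂ →ₐ[ℂ] A))
    (x : ℕ → (A →ₐ[ℂ] ℂ)) (u : Fin n → ℂ)
    (hu : Filter.Tendsto (fun k => coords a (x k)) Filter.atTop (nhds u)) :
    ∃ x' : A →ₐ[ℂ] ℂ, coords a x' = u := by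
  refine ⟨pointOfCoords ha u (fun p hp => ?_), coords_pointOfCoords ha u _⟩
  have h1 : Filter.Tendsto (fun k => MvPolynomial.eval (coords a (x k)) p) Filter.atTop
      (nhds (MvPolynomial.eval u p)) :=
    ((MvPolynomial.continuous_eval p).tendsto u).comp hu
  have h2 : ∀ k, MvPolynomial.eval (coords a (x k)) p = 0 := by
    intro k
    rw [← apply_aeval, hp, map_zero]
  simp only [h2] at h1
  exact (tendsto_nhds_unique h1 tendsto_const_nhds)

/-- A function vanishing at `x₀` and at no other point of a finite set. -/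
lemma exists_separating (Φ : Set (A →ₐ[ℂ] ℂ)) (hΦ : Φ.Finite) (x₀ : A →ₐ[ℂ] ℂ) :
    ∃ F : A, x₀ F = 0 ∧ ∀ x ∈ Φ, x ≠ x₀ → x F ≠ 0 := by
  classical
  let T := {x // x ∈ insert x₀ Φ}
  have : Finite T := (hΦ.insert x₀).to_subtype
  let I : T → Ideal A := fun t => RingHom.ker (t.1 : A →+* ℂ)
  have hsurj : ∀ x : A →ₐ[ℂ] ℂ, Function.Surjective (x : A →+* ℂ) := fun x c =>
    ⟨algebraMap ℂ A c, x.commutes c⟩
  have hmax : ∀ t : T, (I t).IsMaximal := fun t => RingHom.ker_isMaximal_of_surjective _ (hsurj t.1)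
  have hcop : Pairwise (Function.onFun IsCoprime I) := by
    intro t t' htt'
    change IsCoprime (I t) (I t')
    rw [Ideal.isCoprime_iff_sup_eq]
    apply (hmax t).coprime_of_ne (hmax t')
    intro hII
    apply htt'
    apply Subtype.ext
    exact algHom_eq_of_ker_le hII.le
  obtain ⟨F, hF⟩ := Ideal.exists_forall_sub_mem_ideal hcop
    (fun t => if t.1 = x₀ then (0 : A) else 1)
  refine ⟨F, ?_, ?_⟩
  · have := hF ⟨x₀, Set.mem_insert _ _⟩
    simp only [if_true, sub_zero] at this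
    exact this
  · intro x hx hne
    have := hF ⟨x, Set.mem_insert_of_mem _ hx⟩
    simp only [hne, if_false] at this
    have h1 : x (F - 1) = 0 := this
    rw [map_sub, map_one, sub_eq_zero] at h1
    rw [h1]
    exact one_ne_zero

end Coords

section Core

variable {A : Type} [CommRing A] [IsDomain A] [Algebra ℂ A] {n : ℕ} {a : Fin n → A}

/-- **Density, ring-theoretic core.** -/
theorem density_core
    (ha : Function.Surjective (MvPolynomial.aeval a : MvPolynomial (Fin n) ℂ →ₐ[ℂ] A))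
    (x₀ : A →ₐ[ℂ] ℂ) (g : A) (hg : g ≠ 0) (ε : ℝ) (hε : 0 < ε) :
    ∃ x : A →ₐ[ℂ] ℂ, x g ≠ 0 ∧ ∀ i, ‖x (a i) - x₀ (a i)‖ < ε := by
  classical
  have hft : Algebra.FiniteType ℂ A := Algebra.FiniteType.of_surjective _ ha
  obtain ⟨d, ι, hinj, hfin⟩ := exists_finite_inj_algHom_of_fg ℂ A
  let P := MvPolynomial (Fin d) ℂ
  let _ : Algebra P A := ι.toRingHom.toAlgebra
  have halg : ∀ p : P, algebraMap P A p = ι p := fun p => rfl
  have : IsScalarTower ℂ P A := IsScalarTower.of_algebraMap_eq (fun c => by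
    rw [halg]; exact (ι.commutes c).symm)
  have : Module.Finite P A := hfin
  have : Algebra.IsIntegral P A := inferInstance
  have : Module.IsTorsionFree P A := Module.isTorsionFree_iff_algebraMap_injective.mpr hinj
  -- the projection to `ℂᵈ`
  let yOf : (A →ₐ[ℂ] ℂ) → (Fin d → ℂ) := fun x j => x (ι (MvPolynomial.X j))
  have hyOf : ∀ (x : A →ₐ[ℂ] ℂ) (p : P), x (algebraMap P A p) = MvPolynomial.aeval (yOf x) p := by
    intro x p
    have e : x.comp ι = MvPolynomial.aeval (yOf x) := by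
      apply MvPolynomial.algHom_ext
      intro j
      simp [yOf]
    exact congrArg (fun φ : P →ₐ[ℂ] ℂ => φ p) e
  -- specialised minimal polynomials
  let q : A → (Fin d → ℂ) → ℂ[X] := fun F v =>
    (minpoly P F).map ((MvPolynomial.aeval v : P →ₐ[ℂ] ℂ) : P →+* ℂ)
  have hqmonic : ∀ F v, (q F v).Monic := fun F v =>
    (minpoly.monic (Algebra.IsIntegral.isIntegral F)).map _
  have hqdeg : ∀ F v, (q F v).natDegree = (minpoly P F).natDegree := fun F v =>
    (minpoly.monic (Algebra.IsIntegral.isIntegral F)).natDegree_map _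
  have hqroot : ∀ (x : A →ₐ[ℂ] ℂ) (F : A), (q F (yOf x)).IsRoot (x F) := by
    intro x F
    rw [IsRoot.def, eval_map]
    exact eval₂_minpoly_eq_zero x (MvPolynomial.aeval (yOf x)) (hyOf x) F
  have hqcoeff : ∀ F v j, (q F v).coeff j = MvPolynomial.eval v ((minpoly P F).coeff j) := by
    intro F v j
    rw [coeff_map]
    rfl
  set y₀ := yOf x₀ with hy₀
  -- the discriminating polynomial for `g`
  set h : P := (minpoly P g).coeff 0 with hh
  have hh0 : h ≠ 0 := minpoly_coeff_zero_ne_zero (Algebra.IsIntegral.isIntegral g) hg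
  have hgne : ∀ x : A →ₐ[ℂ] ℂ, MvPolynomial.eval (yOf x) h ≠ 0 → x g ≠ 0 := by
    intro x hx hxg
    apply hx
    have := hqroot x g
    rw [hxg, IsRoot.def, ← coeff_zero_eq_eval_zero, hqcoeff] at this
    exact this
  -- the fibre over `y₀` is finite
  have hfibre : {x : A →ₐ[ℂ] ℂ | yOf x = y₀}.Finite := by
    have hfin' : (Set.pi Set.univ fun i : Fin n => {z : ℂ | (q (a i) y₀).IsRoot z}).Finite :=
      Set.Finite.pi fun i => Polynomial.finite_setOfPred_isRoot (hqmonic (a i) y₀).ne_zero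
    refine Set.Finite.of_finite_image (hfin'.subset ?_) (coords_injective ha).injOn
    rintro _ ⟨x, hx, rfl⟩ i -
    have := hqroot x (a i)
    rw [hx] at this
    exact this
  obtain ⟨F, hF0, hFsep⟩ := exists_separating _ hfibre x₀
  set m := (minpoly P F).natDegree with hm
  have hmpos : 0 < m := minpoly.natDegree_pos (Algebra.IsIntegral.isIntegral F)
  set c : P := (minpoly P F).coeff 0 with hc
  have hc0 : MvPolynomial.eval y₀ c = 0 := by
    have := hqroot x₀ F
    rw [hF0, IsRoot.def, ← coeff_zero_eq_eval_zero, hqcoeff] at this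
    exact this
  -- the approximating sequence in `ℂᵈ`
  obtain ⟨y, hylim, hyh⟩ := exists_seq_tendsto_eval_ne_zero h hh0 y₀
  have hk : ∀ k, ∃ x : A →ₐ[ℂ] ℂ, yOf x = y k ∧ ‖x F‖ ^ m ≤ ‖MvPolynomial.eval (y k) c‖ := by
    intro k
    obtain ⟨lam, hroot, hle⟩ := exists_root_pow_le (q F (y k)) (hqmonic F (y k))
      (by rw [hqdeg]; exact hmpos)
    rw [IsRoot.def, eval_map] at hroot
    obtain ⟨x, hx1, hx2⟩ := exists_point_over (MvPolynomial.aeval (y k)) F lam hroot
    refine ⟨x, ?_, ?_⟩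
    · funext j
      change x (ι (MvPolynomial.X j)) = y k j
      rw [← halg, hx1, MvPolynomial.aeval_X]
    · rw [hx2, ← hqcoeff, hm, ← hqdeg F (y k)]
      exact hle
  choose xs hxs1 hxs2 using hk
  -- `F (xs k) → 0`
  have hFlim : Filter.Tendsto (fun k => xs k F) Filter.atTop (nhds 0) := by
    have h1 : Filter.Tendsto (fun k => ‖MvPolynomial.eval (y k) c‖) Filter.atTop (nhds 0) := by
      have := ((MvPolynomial.continuous_eval c).tendsto y₀).comp hylim
      rw [hc0] at this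
      simpa using this.norm
    rw [tendsto_zero_iff_norm_tendsto_zero]
    rw [Metric.tendsto_atTop] at h1 ⊢
    intro δ hδ
    obtain ⟨N, hN⟩ := h1 (δ ^ m) (pow_pos hδ m)
    refine ⟨N, fun k hk => ?_⟩
    have h2 := hN k hk
    simp only [dist_zero_right, norm_norm] at h2 ⊢
    have h3 : ‖xs k F‖ ^ m < δ ^ m := (hxs2 k).trans_lt h2
    exact lt_of_pow_lt_pow_left₀ m hδ.le h3
  -- boundedness of the coordinates
  have hK : IsCompact (insert y₀ (Set.range y)) := hylim.isCompact_insert_range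
  have hbound : ∀ c' : P, ∃ C : ℝ, 0 ≤ C ∧ ∀ k, ‖MvPolynomial.eval (y k) c'‖ ≤ C := by
    intro c'
    obtain ⟨C, hC⟩ := hK.exists_bound_of_continuousOn
      (MvPolynomial.continuous_eval c').continuousOn
    exact ⟨max C 0, le_max_right _ _, fun k =>
      (hC _ (Set.mem_insert_of_mem _ ⟨k, rfl⟩)).trans (le_max_left _ _)⟩
  have hRi : ∀ i, ∃ R : ℝ, ∀ k, ‖xs k (a i)‖ ≤ R := by
    intro i
    choose Cj hCj0 hCj using fun j : ℕ => hbound ((minpoly P (a i)).coeff j)
    refine ⟨(∑ j ∈ Finset.range (minpoly P (a i)).natDegree, Cj j) + 1, fun k => ?_⟩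
    have hroot := hqroot (xs k) (a i)
    rw [hxs1 k] at hroot
    refine norm_le_of_isRoot_of_coeff_le (q (a i) (y k)) (hqmonic _ _) _
      (Finset.sum_nonneg fun j _ => hCj0 j) ?_ _ hroot
    intro j hj
    rw [hqdeg] at hj
    rw [hqcoeff]
    exact (hCj j k).trans (Finset.single_le_sum (f := Cj) (fun j _ => hCj0 j)
      (Finset.mem_range.mpr hj))
  choose R hR using hRi
  have hbdd : ∀ k, coords a (xs k) ∈ Metric.closedBall (0 : Fin n → ℂ) (∑ i, |R i|) := by
    intro k
    rw [mem_closedBall_zero_iff,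
      pi_norm_le_iff_of_nonneg (Finset.sum_nonneg fun _ _ => abs_nonneg _)]
    intro i
    exact (hR i k).trans ((le_abs_self _).trans
      (Finset.single_le_sum (f := fun i => |R i|) (fun _ _ => abs_nonneg _) (Finset.mem_univ i)))
  obtain ⟨u, -, φ, hφ, hu⟩ := tendsto_subseq_of_bounded Metric.isBounded_closedBall hbdd
  -- the limit point
  obtain ⟨x', hx'⟩ := exists_point_of_tendsto ha (fun k => xs (φ k)) u hu
  have hlim_apply : ∀ f : A, Filter.Tendsto (fun k => xs (φ k) f) Filter.atTop (nhds (x' f)) := by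
    intro f
    obtain ⟨p, rfl⟩ := ha f
    simp only [apply_aeval]
    rw [hx']
    exact ((MvPolynomial.continuous_eval p).tendsto u).comp hu
  have hx'y : yOf x' = y₀ := by
    funext j
    have h1 := hlim_apply (ι (MvPolynomial.X j))
    have h2 : Filter.Tendsto (fun k => xs (φ k) (ι (MvPolynomial.X j))) Filter.atTop
        (nhds (y₀ j)) := by
      have h3 : ∀ k, xs (φ k) (ι (MvPolynomial.X j)) = y (φ k) j := fun k =>
        congrFun (hxs1 (φ k)) j
      simp only [h3]
      exact ((continuous_apply j).tendsto y₀).comp (hylim.comp hφ.tendsto_atTop)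
    exact tendsto_nhds_unique h1 h2
  have hx'F : x' F = 0 :=
    tendsto_nhds_unique (hlim_apply F) (hFlim.comp hφ.tendsto_atTop)
  have hx'x₀ : x' = x₀ := by
    by_contra hne
    exact hFsep x' hx'y hne hx'F
  -- conclude
  rw [← hx', hx'x₀] at hu
  rw [Metric.tendsto_atTop] at hu
  obtain ⟨N, hN⟩ := hu ε hε
  refine ⟨xs (φ N), hgne _ (by rw [hxs1]; exact hyh _), fun i => ?_⟩
  have := hN N le_rfl
  rw [← dist_eq_norm]
  exact (dist_le_pi_dist (coords a (xs (φ N))) (coords a x₀) i).trans_lt this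

end Core

section Prime

variable {R : Type} [CommRing R] [Algebra ℂ R] {n : ℕ} {a : Fin n → R}

/-- **Density along a prime**: points of `V(𝔭) ∩ D(g)` accumulate at every point of `V(𝔭)`. -/
theorem density_prime
    (ha : Function.Surjective (MvPolynomial.aeval a : MvPolynomial (Fin n) ℂ →ₐ[ℂ] R))
    (𝔭 : Ideal R) [𝔭.IsPrime] (x₀ : R →ₐ[ℂ] ℂ) (hx₀ : ∀ r ∈ 𝔭, x₀ r = 0) (g : R) (hg : g ∉ 𝔭)
    (ε : ℝ) (hε : 0 < ε) :
    ∃ x : R →ₐ[ℂ] ℂ, (∀ r ∈ 𝔭, x r = 0) ∧ x g ≠ 0 ∧ ∀ i, ‖x (a i) - x₀ (a i)‖ < ε := by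
  let aq : Fin n → R ⧸ 𝔭 := fun i => Ideal.Quotient.mk 𝔭 (a i)
  have haq : Function.Surjective
      (MvPolynomial.aeval aq : MvPolynomial (Fin n) ℂ →ₐ[ℂ] R ⧸ 𝔭) := by
    have e : (MvPolynomial.aeval aq : MvPolynomial (Fin n) ℂ →ₐ[ℂ] R ⧸ 𝔭) =
        (Ideal.Quotient.mkₐ ℂ 𝔭).comp (MvPolynomial.aeval a) :=
      (MvPolynomial.comp_aeval (R := ℂ) (f := a) (Ideal.Quotient.mkₐ ℂ 𝔭)).symm
    rw [e]
    exact (Ideal.Quotient.mkₐ_surjective ℂ 𝔭).comp ha
  let xq0 : R ⧸ 𝔭 →ₐ[ℂ] ℂ := Ideal.Quotient.liftₐ 𝔭 x₀ hx₀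
  have hgq : Ideal.Quotient.mk 𝔭 g ≠ 0 := fun h => hg (Ideal.Quotient.eq_zero_iff_mem.mp h)
  obtain ⟨xq, hxqg, hxq⟩ := density_core haq xq0 _ hgq ε hε
  refine ⟨xq.comp (Ideal.Quotient.mkₐ ℂ 𝔭), fun r hr => ?_, hxqg, fun i => hxq i⟩
  simp only [AlgHom.comp_apply, Ideal.Quotient.mkₐ_eq_mk]
  rw [Ideal.Quotient.eq_zero_iff_mem.mpr hr, map_zero]

end Prime

end Groth.Agent.Lib.helper26.AnDensity
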