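import Mathlib
import Groth.Agent.Lib.Helper26.AnDensity
import Groth.Agent.Lib.Helper26.AnConn1

/-!
# Several complex variables: holomorphic functions of polynomial growth off a hypersurface (helper26)

`exists_mvPolynomial_of_growth`: a function on `ℂᵈ`, complex differentiable off the zero set of a
nonzero polynomial `D` and of polynomial growth there, agrees with a polynomial off that zero set.
The proof is by induction on `d`, with one-variable removable singularities, Cauchy estimates and
Lagrange interpolation.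
-/

set_option autoImplicit false

open Polynomial Filter Topology

namespace Groth.Agent.Lib.helper26.AnConn

section Aux

variable {d : ℕ}

lemma norm_cons_le (t : ℂ) (y : Fin d → ℂ) : ‖(Fin.cons t y : Fin (d + 1) → ℂ)‖ ≤ ‖t‖ + ‖y‖ := by
  rw [pi_norm_le_iff_of_nonneg (by positivity)]
  intro i
  refine Fin.cases ?_ (fun k => ?_) i
  · rw [Fin.cons_zero]
    linarith [norm_nonneg y]
  · rw [Fin.cons_succ]
    linarith [norm_le_pi_norm y k, norm_nonneg t]

lemma one_add_norm_cons_le (t : ℂ) (y : Fin d → ℂ) :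
    1 + ‖(Fin.cons t y : Fin (d + 1) → ℂ)‖ ≤ (1 + ‖t‖) * (1 + ‖y‖) := by
  have h := norm_cons_le t y
  nlinarith [norm_nonneg t, norm_nonneg y, mul_nonneg (norm_nonneg t) (norm_nonneg y)]

lemma differentiable_cons_left (y : Fin d → ℂ) :
    Differentiable ℂ (fun t : ℂ => (Fin.cons t y : Fin (d + 1) → ℂ)) := by
  rw [differentiable_pi]
  intro i
  refine Fin.cases ?_ (fun k => ?_) i
  · simp only [Fin.cons_zero]
    exact differentiable_id
  · simp only [Fin.cons_succ]
    exact differentiable_const _

lemma differentiable_cons_right (t : ℂ) :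
    Differentiable ℂ (fun y : Fin d → ℂ => (Fin.cons t y : Fin (d + 1) → ℂ)) := by
  rw [differentiable_pi]
  intro i
  refine Fin.cases ?_ (fun k => ?_) i
  · simp only [Fin.cons_zero]
    exact differentiable_const _
  · simp only [Fin.cons_succ]
    exact differentiable_apply k

lemma eval_aeval_X_zero (g : Fin (d + 1) → ℂ) (q : ℂ[X]) :
    MvPolynomial.eval g (Polynomial.aeval (MvPolynomial.X 0 : MvPolynomial (Fin (d + 1)) ℂ) q) =
      q.eval (g 0) := by
  rw [Polynomial.aeval_def, Polynomial.hom_eval₂, MvPolynomial.eval_X]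
  have e : (MvPolynomial.eval g).comp (algebraMap ℂ (MvPolynomial (Fin (d + 1)) ℂ)) =
      RingHom.id ℂ := by
    ext c
    simp [MvPolynomial.algebraMap_eq]
  rw [e]
  exact Polynomial.eval₂_id

lemma eval_cons_rename_succ (t : ℂ) (y : Fin d → ℂ) (p : MvPolynomial (Fin d) ℂ) :
    MvPolynomial.eval (Fin.cons t y : Fin (d + 1) → ℂ) (MvPolynomial.rename Fin.succ p) =
      MvPolynomial.eval y p := by
  rw [MvPolynomial.eval_rename]
  congr 1

end Aux

/-- **Riemann extension and Liouville in several variables**, for complements of hypersurfaces -/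
theorem exists_mvPolynomial_of_growth : ∀ (d : ℕ) (D : MvPolynomial (Fin d) ℂ), D ≠ 0 →
    ∀ (c : (Fin d → ℂ) → ℂ),
    (∀ y, MvPolynomial.eval y D ≠ 0 → DifferentiableAt ℂ c y) →
    ∀ (C : ℝ), 0 ≤ C → ∀ (N : ℕ),
    (∀ y, MvPolynomial.eval y D ≠ 0 → ‖c y‖ ≤ C * (1 + ‖y‖) ^ N) →
    ∃ p : MvPolynomial (Fin d) ℂ, ∀ y, MvPolynomial.eval y D ≠ 0 → c y = MvPolynomial.eval y p := by
  classical
  intro d
  induction d with
  | zero =>
    intro D _ c _ C _ N _
    refine ⟨MvPolynomial.C (c 0), fun y _ => ?_⟩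
    rw [MvPolynomial.eval_C, Subsingleton.elim y 0]
  | succ d ih =>
    intro D hD c hc C hC N hb
    set Dp : (MvPolynomial (Fin d) ℂ)[X] := MvPolynomial.finSuccEquiv ℂ d D with hDp
    have hDp0 : Dp ≠ 0 := by
      rw [hDp]
      exact (map_ne_zero_iff _ (MvPolynomial.finSuccEquiv ℂ d).injective).mpr hD
    have hDeval : ∀ (t : ℂ) (y : Fin d → ℂ),
        MvPolynomial.eval (Fin.cons t y : Fin (d + 1) → ℂ) D =
          (Dp.map (MvPolynomial.eval y)).eval t := fun t y =>
      MvPolynomial.eval_eq_eval_mv_eval' y t D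
    -- the nodes
    have hfin : {t : ℂ | Dp.IsRoot (MvPolynomial.C t)}.Finite := by
      have h1 : {f : MvPolynomial (Fin d) ℂ | Dp.IsRoot f}.Finite :=
        Polynomial.finite_setOfPred_isRoot hDp0
      exact h1.preimage (MvPolynomial.C_injective (Fin d) ℂ).injOn
    have hinf : ({t : ℂ | Dp.IsRoot (MvPolynomial.C t)}ᶜ).Infinite := hfin.infinite_compl
    obtain ⟨T, hT, hTcard⟩ := hinf.exists_subset_card_eq (N + 1)
    set Dτ : ℂ → MvPolynomial (Fin d) ℂ := fun τ => Dp.eval (MvPolynomial.C τ) with hDτ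
    have hDτ0 : ∀ τ ∈ T, Dτ τ ≠ 0 := fun τ hτ => hT hτ
    have hDτeval : ∀ (τ : ℂ) (y : Fin d → ℂ), MvPolynomial.eval y (Dτ τ) =
        MvPolynomial.eval (Fin.cons τ y : Fin (d + 1) → ℂ) D := by
      intro τ y
      rw [hDeval, Polynomial.eval_map, hDτ]
      simp only
      rw [Polynomial.eval, Polynomial.hom_eval₂, MvPolynomial.eval_C]
      simp
    -- the induction hypothesis on the hyperplanes `y 0 = τ`
    have hIH : ∀ τ : ℂ, ∃ p : MvPolynomial (Fin d) ℂ, τ ∈ T → ∀ y : Fin d → ℂ,
        MvPolynomial.eval y (Dτ τ) ≠ 0 →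
          c (Fin.cons τ y) = MvPolynomial.eval y p := by
      intro τ
      by_cases hτ : τ ∈ T
      · obtain ⟨p, hp⟩ := ih (Dτ τ) (hDτ0 τ hτ) (fun y => c (Fin.cons τ y))
          (fun y hy => by
            have h1 : DifferentiableAt ℂ c (Fin.cons τ y) := hc _ (by rwa [← hDτeval])
            exact h1.comp y (differentiable_cons_right τ).differentiableAt)
          (C * (1 + ‖τ‖) ^ N) (by positivity) N
          (fun y hy => by
            have h1 := hb (Fin.cons τ y) (by rwa [← hDτeval])
            refine h1.trans ?_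
            rw [mul_assoc, ← mul_pow]
            apply mul_le_mul_of_nonneg_left _ hC
            exact pow_le_pow_left₀ (by positivity) (one_add_norm_cons_le τ y) N)
        exact ⟨p, fun _ y hy => hp y hy⟩
      · exact ⟨0, fun h => absurd h hτ⟩
    choose pτ hpτ using hIH
    set pnew : MvPolynomial (Fin (d + 1)) ℂ := ∑ τ ∈ T, MvPolynomial.rename Fin.succ (pτ τ) *
      Polynomial.aeval (MvPolynomial.X 0 : MvPolynomial (Fin (d + 1)) ℂ)
        (Lagrange.basis T id τ) with hpnew
    have hpnew_eval : ∀ (t : ℂ) (y : Fin d → ℂ),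
        MvPolynomial.eval (Fin.cons t y : Fin (d + 1) → ℂ) pnew =
          (Lagrange.interpolate T id (fun τ => MvPolynomial.eval y (pτ τ))).eval t := by
      intro t y
      rw [hpnew, map_sum, Lagrange.interpolate_apply, Polynomial.eval_finsetSum]
      refine Finset.sum_congr rfl (fun τ _ => ?_)
      rw [map_mul, eval_cons_rename_succ, eval_aeval_X_zero, Fin.cons_zero, Polynomial.eval_mul,
        Polynomial.eval_C]
    set G : MvPolynomial (Fin d) ℂ := Dp.leadingCoeff * ∏ τ ∈ T, Dτ τ with hG
    have hG0 : G ≠ 0 := by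
      rw [hG]
      exact mul_ne_zero (Polynomial.leadingCoeff_ne_zero.mpr hDp0)
        (Finset.prod_ne_zero_iff.mpr hDτ0)
    -- Claim 1
    have hclaim1 : ∀ y : Fin d → ℂ, MvPolynomial.eval y G ≠ 0 → ∀ t : ℂ,
        MvPolynomial.eval (Fin.cons t y : Fin (d + 1) → ℂ) D ≠ 0 →
        c (Fin.cons t y) = MvPolynomial.eval (Fin.cons t y : Fin (d + 1) → ℂ) pnew := by
      intro y hy t ht
      rw [hG, map_mul, map_prod] at hy
      have hlc : MvPolynomial.eval y Dp.leadingCoeff ≠ 0 := left_ne_zero_of_mul hy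
      have hDτy : ∀ τ ∈ T, MvPolynomial.eval y (Dτ τ) ≠ 0 :=
        Finset.prod_ne_zero_iff.mp (right_ne_zero_of_mul hy)
      set q : ℂ[X] := Dp.map (MvPolynomial.eval y) with hq
      have hq0 : q ≠ 0 := by
        intro h0
        apply hlc
        have h1 : q.coeff Dp.natDegree = 0 := by rw [h0, Polynomial.coeff_zero]
        rwa [hq, Polynomial.coeff_map] at h1
      set S : Finset ℂ := q.roots.toFinset with hS
      have hSmem : ∀ z : ℂ, z ∉ S → MvPolynomial.eval (Fin.cons z y : Fin (d + 1) → ℂ) D ≠ 0 := by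
        intro z hz h0
        apply hz
        rw [hS, Multiset.mem_toFinset, Polynomial.mem_roots hq0, Polynomial.IsRoot.def, ← hDeval]
        exact h0
      have hSmem' : ∀ z : ℂ, MvPolynomial.eval (Fin.cons z y : Fin (d + 1) → ℂ) D ≠ 0 → z ∉ S := by
        intro z hz hzS
        rw [hS, Multiset.mem_toFinset, Polynomial.mem_roots hq0, Polynomial.IsRoot.def,
          ← hDeval] at hzS
        exact hz hzS
      obtain ⟨P, hPdeg, hPeq⟩ := exists_polynomial_of_growth_off_finite S
        (fun z => c (Fin.cons z y))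
        (fun z hz => (hc _ (hSmem z hz)).comp z (differentiable_cons_left y).differentiableAt)
        (C * (1 + ‖y‖) ^ N) N
        (fun z hz => by
          refine (hb _ (hSmem z hz)).trans ?_
          rw [mul_assoc, ← mul_pow]
          apply mul_le_mul_of_nonneg_left _ hC
          refine pow_le_pow_left₀ (by positivity) ?_ N
          rw [mul_comm]
          exact one_add_norm_cons_le z y)
      have hPint : P = Lagrange.interpolate T id (fun τ => MvPolynomial.eval y (pτ τ)) := by
        apply Lagrange.eq_interpolate_of_eval_eq _ (Set.injOn_id _)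
        · rw [hTcard]
          refine lt_of_le_of_lt Polynomial.degree_le_natDegree ?_
          exact_mod_cast Nat.lt_succ_of_le hPdeg
        · intro τ hτ
          have h1 : τ ∉ S := hSmem' τ (by rw [← hDτeval]; exact hDτy τ hτ)
          rw [id, ← hPeq τ h1]
          exact hpτ τ hτ y (hDτy τ hτ)
      rw [hpnew_eval, ← hPint]
      exact hPeq t (hSmem' t ht)
    -- Claim 2
    refine ⟨pnew, fun y hy => ?_⟩
    set H : MvPolynomial (Fin (d + 1)) ℂ := D * MvPolynomial.rename Fin.succ G with hH
    have hH0 : H ≠ 0 := by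
      rw [hH]
      refine mul_ne_zero hD ?_
      exact (map_ne_zero_iff _ (MvPolynomial.rename_injective _ (Fin.succ_injective d))).mpr hG0
    obtain ⟨ys, hys, hysH⟩ := AnDensity.exists_seq_tendsto_eval_ne_zero H hH0 y
    have hk : ∀ k, c (ys k) = MvPolynomial.eval (ys k) pnew := by
      intro k
      have h1 := hysH k
      rw [hH, map_mul] at h1
      have h2 : MvPolynomial.eval (ys k) D ≠ 0 := left_ne_zero_of_mul h1
      have h3 : MvPolynomial.eval (Fin.tail (ys k)) G ≠ 0 := by
        have := right_ne_zero_of_mul h1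
        rwa [MvPolynomial.eval_rename] at this
      have h4 := hclaim1 (Fin.tail (ys k)) h3 (ys k 0) (by rwa [Fin.cons_self_tail])
      rwa [Fin.cons_self_tail] at h4
    have hl1 : Tendsto (fun k => c (ys k)) atTop (𝓝 (c y)) :=
      ((hc y hy).continuousAt.tendsto).comp hys
    have hl2 : Tendsto (fun k => MvPolynomial.eval (ys k) pnew) atTop
        (𝓝 (MvPolynomial.eval y pnew)) :=
      ((MvPolynomial.continuous_eval pnew).tendsto y).comp hys
    simp only [hk] at hl1
    exact tendsto_nhds_unique hl1 hl2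

end Groth.Agent.Lib.helper26.AnConn
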