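import Mathlib

/-!
# Roots of a polynomial with polynomial coefficients as holomorphic functions (helper26)

For `F ∈ ℂ[y₁, …, y_d][T]` and a point `y₀` where the specialised polynomial `F(y₀, T)` is separable
of the same degree as `F`, the roots of `F(y, T)` for `y` near `y₀` are given by functions
`ψ_t` (`t` a root of `F(y₀, T)`), complex differentiable at `y₀` (implicit function theorem).
-/

set_option autoImplicit false

open Polynomial Filter Topology

namespace Groth.Agent.Lib.helper26.AnConn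

variable {d : ℕ} (F : Polynomial (MvPolynomial (Fin d) ℂ))

/-- the specialisation of `F` at `y` -/
noncomputable def spec (y : Fin d → ℂ) : ℂ[X] := F.map (MvPolynomial.eval y)

/-- `(y, t) ↦ F(y, t)` -/
noncomputable def fn (z : (Fin d → ℂ) × ℂ) : ℂ := (spec F z.1).eval z.2

lemma spec_coeff (y : Fin d → ℂ) (k : ℕ) : (spec F y).coeff k = MvPolynomial.eval y (F.coeff k) :=
  Polynomial.coeff_map _ _

lemma spec_monic (hF : F.Monic) (y : Fin d → ℂ) : (spec F y).Monic := hF.map _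

lemma spec_natDegree (hF : F.Monic) (y : Fin d → ℂ) : (spec F y).natDegree = F.natDegree :=
  hF.natDegree_map _

/-- the linear map `(y, t) ↦ (t, y₁, …, y_d)` -/
noncomputable def consL : ((Fin d → ℂ) × ℂ) →L[ℂ] (Fin (d + 1) → ℂ) :=
  ContinuousLinearMap.pi (fun i => Fin.cases (ContinuousLinearMap.snd ℂ (Fin d → ℂ) ℂ)
    (fun k => (ContinuousLinearMap.proj k).comp (ContinuousLinearMap.fst ℂ (Fin d → ℂ) ℂ)) i)

lemma consL_apply (z : (Fin d → ℂ) × ℂ) : consL z = (Fin.cons z.2 z.1 : Fin (d + 1) → ℂ) := by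
  funext i
  refine Fin.cases ?_ (fun k => ?_) i
  · simp [consL]
  · simp [consL]

lemma fn_eq (z : (Fin d → ℂ) × ℂ) :
    fn F z = MvPolynomial.eval (consL z) ((MvPolynomial.finSuccEquiv ℂ d).symm F) := by
  rw [consL_apply, MvPolynomial.eval_eq_eval_mv_eval', AlgEquiv.apply_symm_apply]
  rfl

lemma analyticAt_fn (z : (Fin d → ℂ) × ℂ) : AnalyticAt ℂ (fn F) z := by
  have h := AnalyticOnNhd.eval_continuousLinearMap (𝕜 := ℂ) (consL (d := d))
    ((MvPolynomial.finSuccEquiv ℂ d).symm F) z (Set.mem_univ z)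
  refine h.congr ?_
  filter_upwards with w
  exact (fn_eq F w).symm

lemma continuous_fn : Continuous (fn F) :=
  continuous_iff_continuousAt.mpr fun z => (analyticAt_fn F z).continuousAt

lemma hasDerivAt_fn_snd (y : Fin d → ℂ) (t : ℂ) :
    HasDerivAt (fun s => fn F (y, s)) ((spec F y).derivative.eval t) t :=
  (spec F y).hasDerivAt t

/-- the partial derivative in the last variable -/
lemma fderiv_fn_comp_inr (y : Fin d → ℂ) (t : ℂ) :
    (fderiv ℂ (fn F) (y, t)).comp (ContinuousLinearMap.inr ℂ (Fin d → ℂ) ℂ) =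
      ContinuousLinearMap.smulRight (1 : ℂ →L[ℂ] ℂ) ((spec F y).derivative.eval t) := by
  have h1 : HasFDerivAt (fn F) (fderiv ℂ (fn F) (y, t)) (y, t) :=
    (analyticAt_fn F (y, t)).differentiableAt.hasFDerivAt
  have h2 : HasFDerivAt (fun s : ℂ => ((y, s) : (Fin d → ℂ) × ℂ))
      (ContinuousLinearMap.inr ℂ (Fin d → ℂ) ℂ) t := hasFDerivAt_prodMk_right y t
  have h3 := (h1.comp t h2).hasDerivAt
  have h4 := h3.unique (hasDerivAt_fn_snd F y t)
  apply ContinuousLinearMap.ext_ring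
  simp only [ContinuousLinearMap.smulRight_apply, one_apply_eq_self, one_smul]
  exact h4

/-- **local root functions** -/
theorem exists_root_function (y₀ : Fin d → ℂ) (t₀ : ℂ) (h0 : (spec F y₀).eval t₀ = 0)
    (h1 : (spec F y₀).derivative.eval t₀ ≠ 0) :
    ∃ ψ : (Fin d → ℂ) → ℂ, DifferentiableAt ℂ ψ y₀ ∧ ψ y₀ = t₀ ∧
      ∀ᶠ y in 𝓝 y₀, (spec F y).eval (ψ y) = 0 := by
  have dfu := (analyticAt_fn F (y₀, t₀)).hasStrictFDerivAt
  have hinv : ((fderiv ℂ (fn F) (y₀, t₀)).comp
      (ContinuousLinearMap.inr ℂ (Fin d → ℂ) ℂ)).IsInvertible := by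
    rw [fderiv_fn_comp_inr]
    refine ⟨ContinuousLinearEquiv.unitsEquivAut ℂ (Units.mk0 _ h1), ?_⟩
    apply ContinuousLinearMap.ext_ring
    simp
  refine ⟨dfu.implicitFunctionOfProdDomain hinv,
    (dfu.hasStrictFDerivAt_implicitFunctionOfProdDomain hinv).hasFDerivAt.differentiableAt, ?_, ?_⟩
  · exact (dfu.eventually_apply_eq_iff_implicitFunctionOfProdDomain hinv).self_of_nhds.mp rfl
  · have h2 := dfu.eventually_apply_implicitFunctionOfProdDomain hinv
    have h3 : fn F (y₀, t₀) = 0 := h0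
    simp only [h3] at h2
    exact h2

/-- **local structure of the roots** near a point where the specialisation is separable -/
theorem exists_root_functions (hF : F.Monic) (y₀ : Fin d → ℂ) (hsep : (spec F y₀).Separable) :
    ∃ ψ : ℂ → (Fin d → ℂ) → ℂ,
      (∀ t ∈ (spec F y₀).roots.toFinset, DifferentiableAt ℂ (ψ t) y₀ ∧ ψ t y₀ = t) ∧
      ∀ᶠ y in 𝓝 y₀, Set.InjOn (fun t => ψ t y) ((spec F y₀).roots.toFinset : Set ℂ) ∧
        (spec F y).roots.toFinset = (spec F y₀).roots.toFinset.image (fun t => ψ t y) := by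
  classical
  set R₀ := (spec F y₀).roots.toFinset with hR₀
  have hq0 : spec F y₀ ≠ 0 := (spec_monic F hF y₀).ne_zero
  have hex : ∀ t : ℂ, ∃ ψ : (Fin d → ℂ) → ℂ, t ∈ R₀ → (DifferentiableAt ℂ ψ y₀ ∧ ψ y₀ = t ∧
      ∀ᶠ y in 𝓝 y₀, (spec F y).eval (ψ y) = 0) := by
    intro t
    by_cases ht : t ∈ R₀
    · have hroot : (spec F y₀).eval t = 0 := by
        rw [hR₀, Multiset.mem_toFinset, Polynomial.mem_roots hq0] at ht
        exact ht
      have hder : (spec F y₀).derivative.eval t ≠ 0 := by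
        have := hsep.eval₂_derivative_ne_zero (RingHom.id ℂ) (x := t) (by simpa using hroot)
        simpa using this
      obtain ⟨ψ, hψ⟩ := exists_root_function F y₀ t hroot hder
      exact ⟨ψ, fun _ => hψ⟩
    · exact ⟨fun _ => 0, fun h => absurd h ht⟩
  choose ψ hψ using hex
  refine ⟨ψ, fun t ht => ⟨(hψ t ht).1, (hψ t ht).2.1⟩, ?_⟩
  have hroots : ∀ᶠ y in 𝓝 y₀, ∀ t ∈ R₀, (spec F y).eval (ψ t y) = 0 :=
    (Filter.eventually_all_finset R₀).mpr fun t ht => (hψ t ht).2.2
  have hinj : ∀ᶠ y in 𝓝 y₀, ∀ p ∈ R₀ ×ˢ R₀, p.1 ≠ p.2 → ψ p.1 y ≠ ψ p.2 y := by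
    refine (Filter.eventually_all_finset (R₀ ×ˢ R₀)).mpr fun p hp => ?_
    rw [Finset.mem_product] at hp
    by_cases hne : p.1 = p.2
    · exact Filter.Eventually.of_forall fun y h => absurd hne h
    · have hc1 : ContinuousAt (ψ p.1) y₀ := (hψ p.1 hp.1).1.continuousAt
      have hc2 : ContinuousAt (ψ p.2) y₀ := (hψ p.2 hp.2).1.continuousAt
      have hne' : ψ p.1 y₀ ≠ ψ p.2 y₀ := by
        rw [(hψ p.1 hp.1).2.1, (hψ p.2 hp.2).2.1]
        exact hne
      have hsub : ContinuousAt (fun y => ψ p.1 y - ψ p.2 y) y₀ := hc1.sub hc2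
      have := hsub.eventually_ne (sub_ne_zero.mpr hne')
      filter_upwards [this] with y hy _
      exact sub_ne_zero.mp hy
  filter_upwards [hroots, hinj] with y hy1 hy2
  have hinjOn : Set.InjOn (fun t => ψ t y) (R₀ : Set ℂ) := by
    intro a ha b hb hab
    by_contra hne
    exact hy2 (a, b) (Finset.mem_product.mpr ⟨ha, hb⟩) hne hab
  refine ⟨hinjOn, ?_⟩
  have hqy0 : spec F y ≠ 0 := (spec_monic F hF y).ne_zero
  symm
  apply Finset.eq_of_subset_of_card_le
  · intro s hs
    obtain ⟨t, ht, rfl⟩ := Finset.mem_image.mp hs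
    rw [Multiset.mem_toFinset, Polynomial.mem_roots hqy0]
    exact hy1 t ht
  · rw [Finset.card_image_of_injOn hinjOn]
    have h1 : (spec F y).roots.toFinset.card ≤ (spec F y).natDegree :=
      (Multiset.toFinset_card_le _).trans (Polynomial.card_roots' _)
    have h2 : R₀.card = (spec F y₀).natDegree := by
      rw [hR₀, Multiset.toFinset_card_of_nodup (Polynomial.nodup_roots hsep)]
      exact (IsAlgClosed.splits (spec F y₀)).natDegree_eq_card_roots.symm
    rw [h2, spec_natDegree F hF, ← spec_natDegree F hF y]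
    exact h1

end Groth.Agent.Lib.helper26.AnConn
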