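import Mathlib
import Groth.Agent.Lib.Helper26.AnConn2
import Groth.Agent.Lib.Helper26.AnConn3

/-!
# Connectedness of the root locus of an irreducible polynomial (helper26)

`isPreconnected_roots`: for `F ∈ ℂ[y₁, …, y_d][T]` monic and irreducible and `G ≠ 0` such that
`F(y, T)` is separable whenever `G(y) ≠ 0`, the set `{(y, t) | G(y) ≠ 0, F(y, t) = 0}` is
preconnected in the classical topology.
-/

set_option autoImplicit false

open Polynomial Filter Topology

namespace Groth.Agent.Lib.helper26.AnConn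

section Aux

variable {d : ℕ}

/-- polynomial functions have polynomial growth -/
lemma exists_growth_bound (p : MvPolynomial (Fin d) ℂ) :
    ∃ C : ℝ, 0 ≤ C ∧ ∃ N : ℕ, ∀ y : Fin d → ℂ, ‖MvPolynomial.eval y p‖ ≤ C * (1 + ‖y‖) ^ N := by
  induction p using MvPolynomial.induction_on with
  | C a =>
    refine ⟨‖a‖, norm_nonneg _, 0, fun y => ?_⟩
    simp
  | add p q hp hq =>
    obtain ⟨C₁, hC₁, N₁, h₁⟩ := hp
    obtain ⟨C₂, hC₂, N₂, h₂⟩ := hq
    refine ⟨C₁ + C₂, add_nonneg hC₁ hC₂, max N₁ N₂, fun y => ?_⟩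
    rw [map_add]
    have hb : (1 : ℝ) ≤ 1 + ‖y‖ := by linarith [norm_nonneg y]
    have e1 : (1 + ‖y‖) ^ N₁ ≤ (1 + ‖y‖) ^ max N₁ N₂ := pow_le_pow_right₀ hb (le_max_left _ _)
    have e2 : (1 + ‖y‖) ^ N₂ ≤ (1 + ‖y‖) ^ max N₁ N₂ := pow_le_pow_right₀ hb (le_max_right _ _)
    calc ‖MvPolynomial.eval y p + MvPolynomial.eval y q‖
        ≤ ‖MvPolynomial.eval y p‖ + ‖MvPolynomial.eval y q‖ := norm_add_le _ _
      _ ≤ C₁ * (1 + ‖y‖) ^ N₁ + C₂ * (1 + ‖y‖) ^ N₂ := add_le_add (h₁ y) (h₂ y)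
      _ ≤ C₁ * (1 + ‖y‖) ^ max N₁ N₂ + C₂ * (1 + ‖y‖) ^ max N₁ N₂ := by gcongr
      _ = (C₁ + C₂) * (1 + ‖y‖) ^ max N₁ N₂ := by ring
  | mul_X p i hp =>
    obtain ⟨C₁, hC₁, N₁, h₁⟩ := hp
    refine ⟨C₁, hC₁, N₁ + 1, fun y => ?_⟩
    rw [map_mul, MvPolynomial.eval_X, norm_mul, pow_succ, ← mul_assoc]
    have h2 : ‖y i‖ ≤ 1 + ‖y‖ := by linarith [norm_le_pi_norm y i]
    exact mul_le_mul (h₁ y) h2 (norm_nonneg _) (by positivity)

variable {E : Type*} [NormedAddCommGroup E] [NormedSpace ℂ E]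

/-- the coefficients of `∏ (X - ψ_t(y))` are differentiable -/
lemma differentiableAt_coeff_prod (I : Finset ℂ) (ψ : ℂ → E → ℂ) (y₀ : E)
    (hψ : ∀ t ∈ I, DifferentiableAt ℂ (ψ t) y₀) :
    ∀ k : ℕ, DifferentiableAt ℂ (fun y => (∏ t ∈ I, (X - C (ψ t y))).coeff k) y₀ := by
  classical
  induction I using Finset.induction_on with
  | empty =>
    intro k
    simp only [Finset.prod_empty]
    exact differentiableAt_const _
  | insert a I ha ih =>
    intro k
    have ih' := ih (fun t ht => hψ t (Finset.mem_insert_of_mem ht))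
    have ha' := hψ a (Finset.mem_insert_self a I)
    have e : ∀ y, (∏ t ∈ insert a I, (X - C (ψ t y))).coeff k =
        (if k = 0 then 0 else (∏ t ∈ I, (X - C (ψ t y))).coeff (k - 1)) -
          ψ a y * (∏ t ∈ I, (X - C (ψ t y))).coeff k := by
      intro y
      rw [Finset.prod_insert ha, sub_mul, Polynomial.coeff_sub, Polynomial.coeff_C_mul]
      congr 1
      rcases k with _ | k
      · simp
      · simp [Polynomial.coeff_X_mul]
    simp only [e]
    refine DifferentiableAt.sub ?_ (ha'.mul (ih' k))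
    by_cases hk : k = 0
    · simp only [hk, if_true]
      exact differentiableAt_const _
    · simp only [hk, if_false]
      exact ih' (k - 1)

/-- the coefficients of `∏ (X - t)` are bounded in terms of the roots -/
lemma norm_coeff_prod_le (I : Finset ℂ) (M : ℝ) (hM : 0 ≤ M) (hI : ∀ t ∈ I, ‖t‖ ≤ M) :
    ∀ k : ℕ, ‖(∏ t ∈ I, (X - C t)).coeff k‖ ≤ (1 + M) ^ I.card := by
  classical
  induction I using Finset.induction_on with
  | empty =>
    intro k
    simp only [Finset.prod_empty, Finset.card_empty, pow_zero, Polynomial.coeff_one]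
    split_ifs <;> simp
  | insert a I ha ih =>
    intro k
    have ih' := ih (fun t ht => hI t (Finset.mem_insert_of_mem ht))
    have ha' := hI a (Finset.mem_insert_self a I)
    have e : (∏ t ∈ insert a I, (X - C t)).coeff k =
        (if k = 0 then 0 else (∏ t ∈ I, (X - C t)).coeff (k - 1)) -
          a * (∏ t ∈ I, (X - C t)).coeff k := by
      rw [Finset.prod_insert ha, sub_mul, Polynomial.coeff_sub, Polynomial.coeff_C_mul]
      congr 1
      rcases k with _ | k
      · simp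
      · simp [Polynomial.coeff_X_mul]
    rw [e, Finset.card_insert_of_notMem ha, pow_succ]
    have h1 : ‖(if k = 0 then (0 : ℂ) else (∏ t ∈ I, (X - C t)).coeff (k - 1))‖ ≤
        (1 + M) ^ I.card := by
      split_ifs
      · rw [norm_zero]; positivity
      · exact ih' (k - 1)
    calc ‖(if k = 0 then (0 : ℂ) else (∏ t ∈ I, (X - C t)).coeff (k - 1)) -
          a * (∏ t ∈ I, (X - C t)).coeff k‖
        ≤ ‖(if k = 0 then (0 : ℂ) else (∏ t ∈ I, (X - C t)).coeff (k - 1))‖ +
          ‖a * (∏ t ∈ I, (X - C t)).coeff k‖ := norm_sub_le _ _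
      _ ≤ (1 + M) ^ I.card + M * (1 + M) ^ I.card := by
          rw [norm_mul]
          exact add_le_add h1 (mul_le_mul ha' (ih' k) (norm_nonneg _) hM)
      _ = (1 + M) ^ I.card * (1 + M) := by ring

end Aux

end Groth.Agent.Lib.helper26.AnConn
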