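import Mathlib
import Groth.Agent.Lib.Helper26.AnConn4

/-!
# Connectedness of the root locus of an irreducible polynomial: main theorem (helper26)
-/

set_option autoImplicit false

open Polynomial Filter Topology

namespace Groth.Agent.Lib.helper26.AnConn

variable {d : ℕ} (F : Polynomial (MvPolynomial (Fin d) ℂ)) (G : MvPolynomial (Fin d) ℂ)

/-- the root locus over the open set `G ≠ 0` -/
def rootLocus : Set ((Fin d → ℂ) × ℂ) :=
  {z | MvPolynomial.eval z.1 G ≠ 0 ∧ (spec F z.1).eval z.2 = 0}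

/-- the roots lying in `u` -/
noncomputable def rootsIn (u : Set ((Fin d → ℂ) × ℂ)) (y : Fin d → ℂ) : Finset ℂ := by
  classical
  exact (spec F y).roots.toFinset.filter (fun t => (y, t) ∈ u)

lemma mem_rootsIn (hF : F.Monic) (u : Set ((Fin d → ℂ) × ℂ)) (y : Fin d → ℂ) (t : ℂ) :
    t ∈ rootsIn F u y ↔ (spec F y).eval t = 0 ∧ (y, t) ∈ u := by
  classical
  unfold rootsIn
  rw [Finset.mem_filter, Multiset.mem_toFinset, Polynomial.mem_roots (spec_monic F hF y).ne_zero]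
  rfl

lemma isOpen_ne_zero : IsOpen {y : Fin d → ℂ | MvPolynomial.eval y G ≠ 0} :=
  isOpen_ne_fun (MvPolynomial.continuous_eval G) continuous_const

variable {F G}

/-- local description of the roots in `u` -/
theorem exists_local_rootsIn (hF : F.Monic)
    (hsep : ∀ y, MvPolynomial.eval y G ≠ 0 → (spec F y).Separable)
    (u v : Set ((Fin d → ℂ) × ℂ)) (hu : IsOpen u) (hv : IsOpen v)
    (hZuv : rootLocus F G ⊆ u ∪ v) (hZdisj : rootLocus F G ∩ (u ∩ v) = ∅)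
    (y₀ : Fin d → ℂ) (hy₀ : MvPolynomial.eval y₀ G ≠ 0) :
    ∃ (I : Finset ℂ) (ψ : ℂ → (Fin d → ℂ) → ℂ), (∀ t ∈ I, DifferentiableAt ℂ (ψ t) y₀) ∧
      ∀ᶠ y in 𝓝 y₀, ∏ t ∈ rootsIn F u y, (X - C t) = ∏ t ∈ I, (X - C (ψ t y)) := by
  classical
  obtain ⟨ψ, hψ, hev⟩ := exists_root_functions F hF y₀ (hsep y₀ hy₀)
  set R₀ := (spec F y₀).roots.toFinset with hR₀
  have hq0 : spec F y₀ ≠ 0 := (spec_monic F hF y₀).ne_zero
  refine ⟨R₀.filter (fun t => (y₀, t) ∈ u), ψ, fun t ht => (hψ t (Finset.mem_filter.mp ht).1).1, ?_⟩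
  have hU : ∀ᶠ y in 𝓝 y₀, MvPolynomial.eval y G ≠ 0 := (isOpen_ne_zero G).mem_nhds hy₀
  have hmem : ∀ᶠ y in 𝓝 y₀, ∀ t ∈ R₀, ((y₀, t) ∈ u → (y, ψ t y) ∈ u) ∧
      ((y₀, t) ∉ u → (y, ψ t y) ∈ v) := by
    refine (Filter.eventually_all_finset R₀).mpr fun t ht => ?_
    have hc : ContinuousAt (fun y => (y, ψ t y)) y₀ :=
      continuousAt_id.prodMk (hψ t ht).1.continuousAt
    have hval : (fun y => (y, ψ t y)) y₀ = (y₀, t) := by
      simp only [(hψ t ht).2]
    by_cases htu : (y₀, t) ∈ u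
    · have h1 : ∀ᶠ y in 𝓝 y₀, (y, ψ t y) ∈ u :=
        hc.eventually (hu.mem_nhds (by rw [hval]; exact htu))
      filter_upwards [h1] with y hy
      exact ⟨fun _ => hy, fun h => absurd htu h⟩
    · have hroot : (spec F y₀).eval t = 0 := by
        rw [hR₀, Multiset.mem_toFinset, Polynomial.mem_roots hq0] at ht
        exact ht
      have htZ : (y₀, t) ∈ rootLocus F G := ⟨hy₀, hroot⟩
      have htv : (y₀, t) ∈ v := (hZuv htZ).resolve_left htu
      have h1 : ∀ᶠ y in 𝓝 y₀, (y, ψ t y) ∈ v :=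
        hc.eventually (hv.mem_nhds (by rw [hval]; exact htv))
      filter_upwards [h1] with y hy
      exact ⟨fun h => absurd h htu, fun _ => hy⟩
  filter_upwards [hev, hU, hmem] with y hy1 hy2 hy3
  obtain ⟨hinj, hroots⟩ := hy1
  have hqy0 : spec F y ≠ 0 := (spec_monic F hF y).ne_zero
  have hiff : ∀ t ∈ R₀, ((y, ψ t y) ∈ u ↔ (y₀, t) ∈ u) := by
    intro t ht
    constructor
    · intro h1
      by_contra h2
      have h3 := (hy3 t ht).2 h2
      have h4 : ψ t y ∈ (spec F y).roots.toFinset := by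
        rw [hroots]; exact Finset.mem_image_of_mem _ ht
      rw [Multiset.mem_toFinset, Polynomial.mem_roots hqy0] at h4
      have h5 : (y, ψ t y) ∈ rootLocus F G ∩ (u ∩ v) := ⟨⟨hy2, h4⟩, h1, h3⟩
      rw [hZdisj] at h5
      exact h5
    · exact (hy3 t ht).1
  have hRu : rootsIn F u y = (R₀.filter (fun t => (y₀, t) ∈ u)).image (fun t => ψ t y) := by
    unfold rootsIn
    rw [hroots, Finset.filter_image]
    congr 1
    apply Finset.filter_congr
    intro t ht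
    exact hiff t ht
  rw [hRu, Finset.prod_image]
  intro a ha b hb hab
  exact hinj (Finset.mem_filter.mp ha).1 (Finset.mem_filter.mp hb).1 hab

/-- the roots in `u` are cut out by a polynomial -/
theorem exists_factor (hF : F.Monic) (hG : G ≠ 0)
    (hsep : ∀ y, MvPolynomial.eval y G ≠ 0 → (spec F y).Separable)
    (u v : Set ((Fin d → ℂ) × ℂ)) (hu : IsOpen u) (hv : IsOpen v)
    (hZuv : rootLocus F G ⊆ u ∪ v) (hZdisj : rootLocus F G ∩ (u ∩ v) = ∅) :
    ∃ F₁ : Polynomial (MvPolynomial (Fin d) ℂ), ∀ y, MvPolynomial.eval y G ≠ 0 →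
      spec F₁ y = ∏ t ∈ rootsIn F u y, (X - C t) := by
  classical
  set n := F.natDegree with hn
  -- the coefficient functions
  set c : ℕ → (Fin d → ℂ) → ℂ := fun k y => (∏ t ∈ rootsIn F u y, (X - C t)).coeff k with hc
  have hcdiff : ∀ k y₀, MvPolynomial.eval y₀ G ≠ 0 → DifferentiableAt ℂ (c k) y₀ := by
    intro k y₀ hy₀
    obtain ⟨I, ψ, hψ, hev⟩ := exists_local_rootsIn hF hsep u v hu hv hZuv hZdisj y₀ hy₀
    have h1 := differentiableAt_coeff_prod I ψ y₀ hψ k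
    refine h1.congr_of_eventuallyEq ?_
    filter_upwards [hev] with y hy
    simp only [hc, hy]
  -- bound for the roots
  have hcoefb : ∀ j : ℕ, ∃ C : ℝ, 0 ≤ C ∧ ∃ N : ℕ, ∀ y : Fin d → ℂ,
      ‖MvPolynomial.eval y (F.coeff j)‖ ≤ C * (1 + ‖y‖) ^ N := fun j => exists_growth_bound _
  choose Cj hCj Nj hNj using hcoefb
  set C₀ : ℝ := ∑ j ∈ Finset.range n, Cj j with hC₀
  set N₀ : ℕ := (Finset.range n).sup Nj with hN₀
  have hC₀0 : 0 ≤ C₀ := Finset.sum_nonneg fun j _ => hCj j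
  have hrootb : ∀ (y : Fin d → ℂ) (t : ℂ), (spec F y).eval t = 0 →
      ‖t‖ ≤ C₀ * (1 + ‖y‖) ^ N₀ + 1 := by
    intro y t ht
    have hb1 : (1 : ℝ) ≤ 1 + ‖y‖ := by linarith [norm_nonneg y]
    refine AnDensity.norm_le_of_isRoot_of_coeff_le (spec F y) (spec_monic F hF y)
      (C₀ * (1 + ‖y‖) ^ N₀) (by positivity) ?_ t ht
    intro j hj
    rw [spec_natDegree F hF] at hj
    have hjr : j ∈ Finset.range n := Finset.mem_range.mpr hj
    rw [spec_coeff]
    refine (hNj j y).trans ?_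
    have e1 : (1 + ‖y‖) ^ Nj j ≤ (1 + ‖y‖) ^ N₀ :=
      pow_le_pow_right₀ hb1 (Finset.le_sup (f := Nj) hjr)
    have e2 : Cj j ≤ C₀ := Finset.single_le_sum (fun i _ => hCj i) hjr
    exact mul_le_mul e2 e1 (by positivity) hC₀0
  have hcard : ∀ y, (rootsIn F u y).card ≤ n := by
    intro y
    unfold rootsIn
    refine (Finset.card_filter_le _ _).trans ?_
    refine (Multiset.toFinset_card_le _).trans ?_
    rw [hn, ← spec_natDegree F hF y]
    exact Polynomial.card_roots' _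
  have hcb : ∀ k y, ‖c k y‖ ≤ (C₀ + 2) ^ n * (1 + ‖y‖) ^ (N₀ * n) := by
    intro k y
    have hb1 : (1 : ℝ) ≤ 1 + ‖y‖ := by linarith [norm_nonneg y]
    have hM : 0 ≤ C₀ * (1 + ‖y‖) ^ N₀ + 1 := by positivity
    have h1 := norm_coeff_prod_le (rootsIn F u y) (C₀ * (1 + ‖y‖) ^ N₀ + 1) hM
      (fun t ht => hrootb y t ((mem_rootsIn F hF u y t).mp ht).1) k
    refine h1.trans ?_
    have h2 : 1 + (C₀ * (1 + ‖y‖) ^ N₀ + 1) ≤ (C₀ + 2) * (1 + ‖y‖) ^ N₀ := by
      have : (1 : ℝ) ≤ (1 + ‖y‖) ^ N₀ := one_le_pow₀ hb1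
      nlinarith
    have h3 : (1 : ℝ) ≤ 1 + (C₀ * (1 + ‖y‖) ^ N₀ + 1) := by linarith
    calc (1 + (C₀ * (1 + ‖y‖) ^ N₀ + 1)) ^ (rootsIn F u y).card
        ≤ (1 + (C₀ * (1 + ‖y‖) ^ N₀ + 1)) ^ n := pow_le_pow_right₀ h3 (hcard y)
      _ ≤ ((C₀ + 2) * (1 + ‖y‖) ^ N₀) ^ n := pow_le_pow_left₀ (by linarith) h2 n
      _ = (C₀ + 2) ^ n * (1 + ‖y‖) ^ (N₀ * n) := by rw [mul_pow, ← pow_mul]
  -- polynomial coefficients
  have hP : ∀ k : ℕ, ∃ P : MvPolynomial (Fin d) ℂ, ∀ y, MvPolynomial.eval y G ≠ 0 →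
      c k y = MvPolynomial.eval y P := fun k =>
    exists_mvPolynomial_of_growth d G hG (c k) (hcdiff k) ((C₀ + 2) ^ n) (by positivity) (N₀ * n)
      (fun y _ => hcb k y)
  choose P hP using hP
  refine ⟨∑ k ∈ Finset.range (n + 1), C (P k) * X ^ k, fun y hy => ?_⟩
  ext j
  unfold spec
  rw [Polynomial.coeff_map, Polynomial.finsetSum_coeff]
  simp only [Polynomial.coeff_C_mul, Polynomial.coeff_X_pow]
  by_cases hj : j ∈ Finset.range (n + 1)
  · rw [Finset.sum_eq_single j]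
    · simp only [if_true, mul_one]
      rw [← hP j y hy]
    · intro b _ hb
      rw [if_neg (Ne.symm hb), mul_zero]
    · intro h
      exact absurd hj h
  · rw [Finset.sum_eq_zero, map_zero]
    · symm
      apply Polynomial.coeff_eq_zero_of_natDegree_lt
      rw [Polynomial.natDegree_finsetProd_X_sub_C_eq_card]
      rw [Finset.mem_range, not_lt] at hj
      exact lt_of_le_of_lt (hcard y) hj
    · intro b hb
      have : j ≠ b := fun h => hj (h ▸ hb)
      rw [if_neg this, mul_zero]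

end Groth.Agent.Lib.helper26.AnConn
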