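import Mathlib
import Groth.Agent.Lib.Helper26.AnConn5

/-!
# Connectedness of the root locus of an irreducible polynomial: conclusion (helper26)
-/

set_option autoImplicit false

open Polynomial Filter Topology

namespace Groth.Agent.Lib.helper26.AnConn

variable {d : ℕ} {F : Polynomial (MvPolynomial (Fin d) ℂ)} {G : MvPolynomial (Fin d) ℂ}

/-- polynomials with the same specialisations off a hypersurface are equal -/
theorem eq_of_spec_eq (hG : G ≠ 0) (A B : Polynomial (MvPolynomial (Fin d) ℂ))
    (h : ∀ y, MvPolynomial.eval y G ≠ 0 → spec A y = spec B y) : A = B := by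
  ext1 k
  have h1 : (A.coeff k - B.coeff k) * G = 0 := by
    apply MvPolynomial.funext
    intro y
    rw [map_mul, map_sub, map_zero]
    by_cases hy : MvPolynomial.eval y G = 0
    · rw [hy, mul_zero]
    · have h2 := congrArg (fun p => p.coeff k) (h y hy)
      simp only [spec_coeff] at h2
      rw [h2, sub_self, zero_mul]
  have h3 := (mul_eq_zero.mp h1).resolve_right hG
  exact sub_eq_zero.mp h3

/-- **the root locus of an irreducible polynomial is connected** -/
theorem isPreconnected_rootLocus (hF : F.Monic) (hirr : Irreducible F) (hG : G ≠ 0)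
    (hsep : ∀ y, MvPolynomial.eval y G ≠ 0 → (spec F y).Separable) :
    IsPreconnected (rootLocus F G) := by
  classical
  rw [isPreconnected_iff_subset_of_disjoint]
  intro u v hu hv hZuv hZdisj
  obtain ⟨F₁, hF₁⟩ := exists_factor hF hG hsep u v hu hv hZuv hZdisj
  obtain ⟨F₂, hF₂⟩ := exists_factor hF hG hsep v u hv hu (by rwa [Set.union_comm])
    (by rwa [Set.inter_comm v u])
  have hprod : ∀ y, MvPolynomial.eval y G ≠ 0 → spec (F₁ * F₂) y = spec F y := by
    intro y hy
    have hmul : spec (F₁ * F₂) y = spec F₁ y * spec F₂ y := Polynomial.map_mul _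
    rw [hmul, hF₁ y hy, hF₂ y hy]
    have hsp := hsep y hy
    have hmon := spec_monic F hF y
    have hcard : (spec F y).roots.card = (spec F y).natDegree :=
      (IsAlgClosed.splits (spec F y)).natDegree_eq_card_roots.symm
    have h1 : ((spec F y).roots.map (fun t => X - C t)).prod = spec F y :=
      Polynomial.prod_multiset_X_sub_C_of_monic_of_roots_card_eq hmon hcard
    have h2 : ((spec F y).roots.map (fun t => X - C t)).prod =
        ∏ t ∈ (spec F y).roots.toFinset, (X - C t) := by
      rw [Finset.prod_eq_multiset_prod, Multiset.toFinset_val, (Polynomial.nodup_roots hsp).dedup]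
    rw [← h1, h2, ← Finset.prod_filter_mul_prod_filter_not (spec F y).roots.toFinset
      (fun t => (y, t) ∈ u)]
    have e1 : (spec F y).roots.toFinset.filter (fun t => (y, t) ∈ u) = rootsIn F u y := by
      ext t
      constructor
      · intro h
        rw [Finset.mem_filter, Multiset.mem_toFinset, Polynomial.mem_roots hmon.ne_zero] at h
        exact (mem_rootsIn F hF u y t).mpr ⟨h.1, h.2⟩
      · intro h
        have h' := (mem_rootsIn F hF u y t).mp h
        rw [Finset.mem_filter, Multiset.mem_toFinset, Polynomial.mem_roots hmon.ne_zero]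
        exact ⟨h'.1, h'.2⟩
    have e2 : (spec F y).roots.toFinset.filter (fun t => ¬ (y, t) ∈ u) = rootsIn F v y := by
      ext t
      constructor
      · intro h
        rw [Finset.mem_filter, Multiset.mem_toFinset, Polynomial.mem_roots hmon.ne_zero] at h
        obtain ⟨h3, h4⟩ := h
        have h3' : (spec F y).eval t = 0 := h3
        have hz : (y, t) ∈ rootLocus F G := ⟨hy, h3'⟩
        exact (mem_rootsIn F hF v y t).mpr ⟨h3', (hZuv hz).resolve_left h4⟩
      · intro h
        obtain ⟨h3, h4⟩ := (mem_rootsIn F hF v y t).mp h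
        rw [Finset.mem_filter, Multiset.mem_toFinset, Polynomial.mem_roots hmon.ne_zero]
        refine ⟨h3, fun h5 => ?_⟩
        have h6 : (y, t) ∈ rootLocus F G ∩ (u ∩ v) := ⟨⟨hy, h3⟩, h5, h4⟩
        rw [hZdisj] at h6
        exact h6
    rw [e1, e2]
  have hFF : F₁ * F₂ = F := eq_of_spec_eq hG _ _ hprod
  have hempty : ∀ (F' : Polynomial (MvPolynomial (Fin d) ℂ)) (w : Set ((Fin d → ℂ) × ℂ)),
      IsUnit F' → (∀ y, MvPolynomial.eval y G ≠ 0 → spec F' y = ∏ t ∈ rootsIn F w y, (X - C t)) →
      ∀ z ∈ rootLocus F G, z ∉ w := by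
    intro F' w hunit hspec z hz hzw
    have h1 : IsUnit (spec F' z.1) := hunit.map (Polynomial.mapRingHom (MvPolynomial.eval z.1))
    have h2 := Polynomial.natDegree_eq_zero_of_isUnit h1
    rw [hspec z.1 hz.1, Polynomial.natDegree_finsetProd_X_sub_C_eq_card] at h2
    have h3 : z.2 ∈ rootsIn F w z.1 := (mem_rootsIn F hF w z.1 z.2).mpr ⟨hz.2, hzw⟩
    rw [Finset.card_eq_zero] at h2
    rw [h2] at h3
    exact (Finset.notMem_empty _) h3
  rcases hirr.isUnit_or_isUnit hFF.symm with h | h
  · right
    intro z hz
    exact (hZuv hz).resolve_left (hempty F₁ u h hF₁ z hz)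
  · left
    intro z hz
    exact (hZuv hz).resolve_right (hempty F₂ v h hF₂ z hz)

end Groth.Agent.Lib.helper26.AnConn
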