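import Mathlib

/-!
# Primitive elements of finite extensions of domains, and separability after specialisation (helper26)

* `exists_primitive`: for a finite torsion-free extension of domains `P ⊆ A` in characteristic
  zero there is `f ∈ A` such that every `a ∈ A` has a nonzero multiple `h a` (`h ∈ P`) in `P[f]`.
* `exists_bezout`: for `F ∈ P[X]` monic irreducible (`P` integrally closed, characteristic zero)
  there are `u, v ∈ P[X]` and `δ ≠ 0` in `P` with `u F + v F' = δ`.
-/

set_option autoImplicit false

open Polynomial nonZeroDivisors IntermediateField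

namespace Groth.Agent.Lib.helper26.AnConn

section Primitive

attribute [local instance] FractionRing.liftAlgebra FractionRing.isScalarTower_liftAlgebra

variable {P A : Type} [CommRing P] [IsDomain P] [CommRing A] [IsDomain A] [Algebra P A]
  [Module.Finite P A] [FaithfulSMul P A] [CharZero P]

/-- a primitive element lying in `A` -/
theorem exists_primitive : ∃ f : A, ∀ a : A, ∃ h : P, h ≠ 0 ∧ ∃ q : P[X],
    algebraMap P A h * a = aeval f q := by
  classical
  let K := FractionRing P
  let L := FractionRing A
  have hfd : FiniteDimensional K L := .of_isLocalization P A P⁰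
  have hsep : Algebra.IsSeparable K L := inferInstance
  obtain ⟨α, hα⟩ := Field.exists_primitive_element K L
  obtain ⟨⟨f, s⟩, hfs⟩ := IsLocalization.mk'_surjective (Algebra.algebraMapSubmonoid A P⁰) α
  obtain ⟨s₀, hs₀, hs₀s⟩ := s.2
  have hs₀ne : s₀ ≠ 0 := nonZeroDivisors.ne_zero hs₀
  -- `α = f / s₀`
  have hα' : α * algebraMap K L (algebraMap P K s₀) = algebraMap A L f := by
    rw [← hfs, ← IsScalarTower.algebraMap_apply, IsScalarTower.algebraMap_apply P A L, hs₀s]
    exact IsLocalization.mk'_spec L f s
  have hsK : algebraMap P K s₀ ≠ 0 := by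
    rw [Ne, IsFractionRing.to_map_eq_zero_iff]
    exact hs₀ne
  have htop : K⟮algebraMap A L f⟯ = ⊤ := by
    rw [eq_top_iff, ← hα, IntermediateField.adjoin_simple_le_iff]
    have h1 : algebraMap A L f ∈ K⟮algebraMap A L f⟯ :=
      IntermediateField.mem_adjoin_simple_self K _
    have h2 : algebraMap K L (algebraMap P K s₀) ∈ K⟮algebraMap A L f⟯ :=
      IntermediateField.algebraMap_mem _ _
    have h3 : α = algebraMap A L f * (algebraMap K L (algebraMap P K s₀))⁻¹ := by
      rw [← hα', mul_assoc, mul_inv_cancel₀, mul_one]
      rw [Ne, map_eq_zero]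
      exact hsK
    rw [h3]
    exact mul_mem h1 (inv_mem h2)
  refine ⟨f, fun a => ?_⟩
  have halg : IsIntegral K (algebraMap A L f) := Algebra.IsIntegral.isIntegral _
  have hmem : algebraMap A L a ∈ K⟮algebraMap A L f⟯ := by rw [htop]; trivial
  rw [← IntermediateField.mem_toSubalgebra,
    IntermediateField.adjoin_simple_toSubalgebra_of_isAlgebraic halg.isAlgebraic,
    Algebra.adjoin_singleton_eq_range_aeval] at hmem
  obtain ⟨q, hq⟩ := hmem
  obtain ⟨b, hb, hbq⟩ := IsLocalization.integerNormalization_spec P⁰ q
  set q₀ := IsLocalization.integerNormalization P⁰ q with hq₀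
  refine ⟨b, nonZeroDivisors.ne_zero hb, q₀, ?_⟩
  apply IsFractionRing.injective A L
  have h4 : algebraMap A L (aeval f q₀) = aeval (algebraMap A L f) (q₀.map (algebraMap P K)) := by
    rw [aeval_map_algebraMap, ← aeval_algebraMap_apply]
  have h5 : aeval (algebraMap A L f) (b • q) =
      algebraMap P L b * aeval (algebraMap A L f) q := by
    rw [Algebra.smul_def, map_mul, IsScalarTower.algebraMap_apply P K K[X], AlgHom.commutes,
      ← IsScalarTower.algebraMap_apply]
  rw [h4, hbq, h5, map_mul, ← IsScalarTower.algebraMap_apply P A L]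
  congr 1
  exact hq.symm

end Primitive

section Bezout

variable {P : Type} [CommRing P] [IsDomain P] [IsIntegrallyClosed P] [CharZero P]

/-- Bezout relation for an irreducible monic polynomial and its derivative, with denominators
cleared -/
theorem exists_bezout (F : P[X]) (hF : F.Monic) (hirr : Irreducible F) :
    ∃ (u v : P[X]) (δ : P), δ ≠ 0 ∧ u * F + v * derivative F = C δ := by
  classical
  let K := FractionRing P
  have hirrK : Irreducible (F.map (algebraMap P K)) :=
    (Polynomial.Monic.irreducible_iff_irreducible_map_fraction_map hF).mp hirr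
  have hsep : (F.map (algebraMap P K)).Separable := hirrK.separable
  obtain ⟨u, v, huv⟩ := hsep
  obtain ⟨bu, hbu, hbuq⟩ := IsLocalization.integerNormalization_spec P⁰ u
  obtain ⟨bv, hbv, hbvq⟩ := IsLocalization.integerNormalization_spec P⁰ v
  set u₀ := IsLocalization.integerNormalization P⁰ u
  set v₀ := IsLocalization.integerNormalization P⁰ v
  refine ⟨C bv * u₀, C bu * v₀, bu * bv,
    mul_ne_zero (nonZeroDivisors.ne_zero hbu) (nonZeroDivisors.ne_zero hbv), ?_⟩
  apply Polynomial.map_injective (algebraMap P K) (IsFractionRing.injective P K)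
  simp only [Polynomial.map_add, Polynomial.map_mul, Polynomial.map_C]
  have e1 : (bu • u : K[X]) = C (algebraMap P K bu) * u := by
    rw [← algebraMap_smul K bu u, Polynomial.smul_eq_C_mul]
  have e2 : (bv • v : K[X]) = C (algebraMap P K bv) * v := by
    rw [← algebraMap_smul K bv v, Polynomial.smul_eq_C_mul]
  rw [hbuq, hbvq, e1, e2, ← Polynomial.derivative_map, map_mul (algebraMap P K), C_mul]
  calc C (algebraMap P K bv) * (C (algebraMap P K bu) * u) * map (algebraMap P K) F +
        C (algebraMap P K bu) * (C (algebraMap P K bv) * v) *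
          derivative (map (algebraMap P K) F)
      = C (algebraMap P K bu) * C (algebraMap P K bv) *
          (u * map (algebraMap P K) F + v * derivative (map (algebraMap P K) F)) := by ring
    _ = C (algebraMap P K bu) * C (algebraMap P K bv) := by rw [huv, mul_one]

end Bezout

end Groth.Agent.Lib.helper26.AnConn
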