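import Mathlib
import Groth.Agent.Lib.Helper26.AnConn6
import Groth.Agent.Lib.Helper26.AnConn7

/-!
# Connectedness of the classical points of an integral affine variety (helper26)

`connected_core`: for a finitely generated `ℂ`-algebra `A` which is a domain, with generators `a`,
the set of points `{(x(a₁), …, x(a_n)) | x : A →ₐ[ℂ] ℂ} ⊆ ℂⁿ` is preconnected.
`connected_prime`: the same for `V(𝔭)` inside the points of an arbitrary f.g. algebra.
-/

set_option autoImplicit false

open Polynomial Filter Topology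

namespace Groth.Agent.Lib.helper26.AnConn

open Groth.Agent.Lib.helper26

section Core

variable {A : Type} [CommRing A] [IsDomain A] [Algebra ℂ A] {n : ℕ} {a : Fin n → A}

/-- **Connectedness, ring-theoretic core.** -/
theorem connected_core
    (ha : Function.Surjective (MvPolynomial.aeval a : MvPolynomial (Fin n) ℂ →ₐ[ℂ] A)) :
    IsPreconnected (Set.range (AnDensity.coords a)) := by
  classical
  have hft : Algebra.FiniteType ℂ A := Algebra.FiniteType.of_surjective _ ha
  obtain ⟨d, ι, hinj, hfin⟩ := exists_finite_inj_algHom_of_fg ℂ A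
  let P := MvPolynomial (Fin d) ℂ
  let _ : Algebra P A := ι.toRingHom.toAlgebra
  have halg : ∀ p : P, algebraMap P A p = ι p := fun p => rfl
  have : IsScalarTower ℂ P A := IsScalarTower.of_algebraMap_eq (fun c => by
    rw [halg]; exact (ι.commutes c).symm)
  have : Module.Finite P A := hfin
  have : Algebra.IsIntegral P A := inferInstance
  have : Module.IsTorsionFree P A := Module.isTorsionFree_iff_algebraMap_injective.mpr hinj
  have : FaithfulSMul P A := (faithfulSMul_iff_algebraMap_injective P A).mpr hinj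
  -- the projection to `ℂᵈ`
  let yOf : (A →ₐ[ℂ] ℂ) → (Fin d → ℂ) := fun x j => x (ι (MvPolynomial.X j))
  have hyOf : ∀ (x : A →ₐ[ℂ] ℂ) (p : P), x (algebraMap P A p) = MvPolynomial.eval (yOf x) p := by
    intro x p
    have e : x.comp ι = MvPolynomial.aeval (yOf x) := by
      apply MvPolynomial.algHom_ext
      intro j
      simp [yOf]
    exact congrArg (fun φ : P →ₐ[ℂ] ℂ => φ p) e
  -- primitive element
  obtain ⟨f, hf⟩ := exists_primitive (P := P) (A := A)
  have hfint : IsIntegral P f := Algebra.IsIntegral.isIntegral f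
  set F : P[X] := minpoly P f with hFdef
  have hF : F.Monic := minpoly.monic hfint
  have hirr : Irreducible F := (minpoly.prime_of_isIntegrallyClosed hfint).irreducible
  obtain ⟨u, v, δ, hδ, hbez⟩ := exists_bezout F hF hirr
  choose h hh0 q hq using fun i => hf (a i)
  set G : P := δ * ∏ i, h i with hG
  have hG0 : G ≠ 0 := mul_ne_zero hδ (Finset.prod_ne_zero_iff.mpr fun i _ => hh0 i)
  have hGδ : ∀ y, MvPolynomial.eval y G ≠ 0 → MvPolynomial.eval y δ ≠ 0 := by
    intro y hy h0
    apply hy
    rw [hG, map_mul, h0, zero_mul]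
  have hGh : ∀ y, MvPolynomial.eval y G ≠ 0 → ∀ i, MvPolynomial.eval y (h i) ≠ 0 := by
    intro y hy i h0
    apply hy
    rw [hG, map_mul, map_prod, Finset.prod_eq_zero (Finset.mem_univ i) h0, mul_zero]
  -- separability of the specialisations
  have hsep : ∀ y, MvPolynomial.eval y G ≠ 0 → (spec F y).Separable := by
    intro y hy
    have h1 := congrArg (Polynomial.map (MvPolynomial.eval y)) hbez
    simp only [Polynomial.map_add, Polynomial.map_mul, Polynomial.map_C,
      ← Polynomial.derivative_map] at h1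
    have hδy := hGδ y hy
    refine ⟨C (MvPolynomial.eval y δ)⁻¹ * u.map (MvPolynomial.eval y),
      C (MvPolynomial.eval y δ)⁻¹ * v.map (MvPolynomial.eval y), ?_⟩
    have h2 : C (MvPolynomial.eval y δ)⁻¹ * Polynomial.map (MvPolynomial.eval y) u * spec F y +
        C (MvPolynomial.eval y δ)⁻¹ * Polynomial.map (MvPolynomial.eval y) v *
          derivative (spec F y) = C (MvPolynomial.eval y δ)⁻¹ *
        (Polynomial.map (MvPolynomial.eval y) u * Polynomial.map (MvPolynomial.eval y) F +
          Polynomial.map (MvPolynomial.eval y) v *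
            derivative (Polynomial.map (MvPolynomial.eval y) F)) := by
      unfold spec
      ring
    rw [h2, h1, ← C_mul, inv_mul_cancel₀ hδy, C_1]
  have hconn := isPreconnected_rootLocus hF hirr hG0 hsep
  -- the parametrisation
  let Λ : (Fin d → ℂ) × ℂ → (Fin n → ℂ) := fun z i => fn (q i) z / MvPolynomial.eval z.1 (h i)
  have hΛc : ContinuousOn Λ (rootLocus F G) := by
    refine continuousOn_pi.mpr fun i => ?_
    refine ContinuousOn.div (continuous_fn (q i)).continuousOn ?_ (fun z hz => hGh z.1 hz.1 i)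
    exact ((MvPolynomial.continuous_eval (h i)).comp continuous_fst).continuousOn
  have hkey : ∀ (x : A →ₐ[ℂ] ℂ), MvPolynomial.eval (yOf x) G ≠ 0 →
      Λ (yOf x, x f) = AnDensity.coords a x := by
    intro x hx
    funext i
    have h1 := congrArg x (hq i)
    rw [map_mul, hyOf] at h1
    have h2 : x (aeval f (q i)) = fn (q i) (yOf x, x f) := by
      unfold fn spec
      rw [eval_map, aeval_def]
      have h3 := Polynomial.hom_eval₂ (q i) (algebraMap P A) (x : A →+* ℂ) f
      have e : (x : A →+* ℂ).comp (algebraMap P A) = MvPolynomial.eval (yOf x) := by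
        refine RingHom.ext fun p => ?_
        exact hyOf x p
      rw [e] at h3
      exact h3
    simp only [Λ, AnDensity.coords]
    rw [← h2, ← h1, mul_div_assoc, mul_comm, div_mul_cancel₀]
    exact hGh _ hx i
  have himg : Λ '' rootLocus F G =
      AnDensity.coords a '' {x | MvPolynomial.eval (yOf x) G ≠ 0} := by
    ext w
    constructor
    · rintro ⟨z, hz, rfl⟩
      have hroot : (minpoly P f).eval₂
          ((MvPolynomial.aeval z.1 : P →ₐ[ℂ] ℂ) : P →+* ℂ) z.2 = 0 := by
        have := hz.2
        unfold spec at this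
        rw [eval_map] at this
        exact this
      obtain ⟨x, hx1, hx2⟩ := AnDensity.exists_point_over (MvPolynomial.aeval z.1) f z.2 hroot
      have hy : yOf x = z.1 := by
        funext j
        have := hx1 (MvPolynomial.X j)
        rw [halg] at this
        simp only [yOf]
        rw [this, MvPolynomial.aeval_X]
      have hxG : MvPolynomial.eval (yOf x) G ≠ 0 := by rw [hy]; exact hz.1
      refine ⟨x, hxG, ?_⟩
      rw [← hkey x hxG, hy, hx2]
    · rintro ⟨x, hx, rfl⟩
      refine ⟨(yOf x, x f), ⟨hx, ?_⟩, hkey x hx⟩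
      have := AnDensity.eval₂_minpoly_eq_zero x (MvPolynomial.aeval (yOf x)) (hyOf x) f
      unfold spec
      rw [eval_map]
      exact this
  have hpre : IsPreconnected (AnDensity.coords a '' {x | MvPolynomial.eval (yOf x) G ≠ 0}) := by
    rw [← himg]
    exact hconn.image Λ hΛc
  refine hpre.subset_closure (Set.image_subset_range _ _) ?_
  rintro _ ⟨x₀, rfl⟩
  rw [Metric.mem_closure_iff]
  intro ε hε
  have hg0 : algebraMap P A G ≠ 0 := by
    rw [Ne, ← map_zero (algebraMap P A)]
    exact fun h => hG0 (hinj h)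
  obtain ⟨x, hxg, hx⟩ := AnDensity.density_core ha x₀ (algebraMap P A G) hg0 ε hε
  rw [hyOf] at hxg
  refine ⟨_, ⟨x, hxg, rfl⟩, ?_⟩
  rw [dist_comm, dist_pi_lt_iff hε]
  intro i
  rw [dist_eq_norm]
  exact hx i

end Core

section Prime

variable {R : Type} [CommRing R] [Algebra ℂ R] {n : ℕ} {a : Fin n → R}

/-- **Connectedness along a prime**: the classical points of `V(𝔭)` form a preconnected set. -/
theorem connected_prime
    (ha : Function.Surjective (MvPolynomial.aeval a : MvPolynomial (Fin n) ℂ →ₐ[ℂ] R))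
    (𝔭 : Ideal R) [𝔭.IsPrime] :
    IsPreconnected (AnDensity.coords a '' {x : R →ₐ[ℂ] ℂ | ∀ r ∈ 𝔭, x r = 0}) := by
  let aq : Fin n → R ⧸ 𝔭 := fun i => Ideal.Quotient.mk 𝔭 (a i)
  have haq : Function.Surjective
      (MvPolynomial.aeval aq : MvPolynomial (Fin n) ℂ →ₐ[ℂ] R ⧸ 𝔭) := by
    have e : (MvPolynomial.aeval aq : MvPolynomial (Fin n) ℂ →ₐ[ℂ] R ⧸ 𝔭) =
        (Ideal.Quotient.mkₐ ℂ 𝔭).comp (MvPolynomial.aeval a) :=
      (MvPolynomial.comp_aeval (R := ℂ) (f := a) (Ideal.Quotient.mkₐ ℂ 𝔭)).symm
    rw [e]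
    exact (Ideal.Quotient.mkₐ_surjective ℂ 𝔭).comp ha
  have h := connected_core haq
  have e : AnDensity.coords a '' {x : R →ₐ[ℂ] ℂ | ∀ r ∈ 𝔭, x r = 0} =
      Set.range (AnDensity.coords aq) := by
    ext w
    constructor
    · rintro ⟨x, hx, rfl⟩
      exact ⟨Ideal.Quotient.liftₐ 𝔭 x hx, rfl⟩
    · rintro ⟨xq, rfl⟩
      refine ⟨xq.comp (Ideal.Quotient.mkₐ ℂ 𝔭), fun r hr => ?_, rfl⟩
      simp only [AlgHom.comp_apply, Ideal.Quotient.mkₐ_eq_mk]
      rw [Ideal.Quotient.eq_zero_iff_mem.mpr hr, map_zero]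
  rw [e]
  exact h

end Prime

end Groth.Agent.Lib.helper26.AnConn
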