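import Mathlib

/-!
# A topological criterion for preconnectedness of preimages (helper26)

Let `X` be a locally Noetherian topological space and `π : Q → X` a map such that the preimage
of every irreducible closed subset is preconnected and nonempty. Then the preimage of every closed
preconnected subset is preconnected.
-/

set_option autoImplicit false

open Topology TopologicalSpace

namespace Groth.Agent.Lib.helper26.AnConn

section Top

variable {X : Type*} [TopologicalSpace X]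

/-- In a locally Noetherian space, a subset `S` of a closed set `Y` which contains every
irreducible closed subset of `Y` that it meets is closed. -/
theorem isClosed_of_irreducible_stable
    (hX : ∀ x : X, ∃ W : Set X, IsOpen W ∧ x ∈ W ∧ NoetherianSpace W)
    {Y S : Set X} (hY : IsClosed Y) (hSY : S ⊆ Y)
    (hstab : ∀ Z : Set X, IsClosed Z → IsIrreducible Z → Z ⊆ Y → (Z ∩ S).Nonempty → Z ⊆ S) :
    IsClosed S := by
  apply isClosed_of_closure_subset
  intro x hx
  obtain ⟨W, hWo, hxW, hWn⟩ := hX x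
  have hs : IsClosed (Subtype.val ⁻¹' Y : Set W) := hY.preimage continuous_subtype_val
  obtain ⟨𝒯, h𝒯f, h𝒯c, h𝒯i, h𝒯U⟩ := NoetherianSpace.exists_finite_set_isClosed_irreducible hs
  -- the closures in `X` of the components
  let Zt : Set W → Set X := fun t => closure (Subtype.val '' t)
  have hZc : ∀ t, IsClosed (Zt t) := fun t => isClosed_closure
  have hZi : ∀ t ∈ 𝒯, IsIrreducible (Zt t) := fun t ht =>
    ((h𝒯i t ht).image _ continuous_subtype_val.continuousOn).closure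
  have hZY : ∀ t ∈ 𝒯, Zt t ⊆ Y := by
    intro t ht
    refine hY.closure_subset_iff.mpr ?_
    rintro _ ⟨w, hw, rfl⟩
    have : w ∈ (Subtype.val ⁻¹' Y : Set W) := by
      rw [h𝒯U]
      exact ⟨t, ht, hw⟩
    exact this
  let 𝒯' : Set (Set W) := {t ∈ 𝒯 | (Zt t ∩ S).Nonempty}
  have h𝒯'f : 𝒯'.Finite := h𝒯f.subset fun t ht => ht.1
  let C : Set X := ⋃ t ∈ 𝒯', Zt t
  have hCc : IsClosed C := h𝒯'f.isClosed_biUnion fun t _ => hZc t
  have hCS : C ⊆ S := by
    intro z hz
    obtain ⟨t, ht, hzt⟩ := Set.mem_iUnion₂.mp hz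
    exact hstab (Zt t) (hZc t) (hZi t ht.1) (hZY t ht.1) ht.2 hzt
  have hWS : W ∩ S ⊆ C := by
    rintro p ⟨hpW, hpS⟩
    have hp : (⟨p, hpW⟩ : W) ∈ (Subtype.val ⁻¹' Y : Set W) := hSY hpS
    rw [h𝒯U] at hp
    obtain ⟨t, ht, hpt⟩ := hp
    have hpZ : p ∈ Zt t := subset_closure ⟨⟨p, hpW⟩, hpt, rfl⟩
    exact Set.mem_iUnion₂.mpr ⟨t, ⟨ht, ⟨p, hpZ, hpS⟩⟩, hpZ⟩
  have h1 : x ∈ closure (W ∩ S) := hWo.inter_closure ⟨hxW, hx⟩
  exact hCS (hCc.closure_subset_iff.mpr hWS h1)

variable {Q : Type*} [TopologicalSpace Q]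

/-- **Preconnectedness of preimages.** -/
theorem isPreconnected_preimage_of_irreducible
    (hX : ∀ x : X, ∃ W : Set X, IsOpen W ∧ x ∈ W ∧ NoetherianSpace W)
    (π : Q → X)
    (H : ∀ Z : Set X, IsClosed Z → IsIrreducible Z →
      IsPreconnected (π ⁻¹' Z) ∧ (π ⁻¹' Z).Nonempty)
    {Y : Set X} (hY : IsClosed Y) (hYc : IsPreconnected Y) : IsPreconnected (π ⁻¹' Y) := by
  rw [isPreconnected_iff_subset_of_disjoint]
  intro u v hu hv huv hdisj
  -- dichotomy for irreducible closed subsets of `Y`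
  have hdich : ∀ Z : Set X, IsClosed Z → IsIrreducible Z → Z ⊆ Y →
      (π ⁻¹' Z ⊆ u ∨ π ⁻¹' Z ⊆ v) := by
    intro Z hZc hZi hZY
    have h1 := (H Z hZc hZi).1
    rw [isPreconnected_iff_subset_of_disjoint] at h1
    apply h1 u v hu hv ((Set.preimage_mono hZY).trans huv)
    rw [← Set.subset_empty_iff, ← hdisj]
    exact Set.inter_subset_inter_left _ (Set.preimage_mono hZY)
  have hnot : ∀ Z : Set X, IsClosed Z → IsIrreducible Z → Z ⊆ Y →
      π ⁻¹' Z ⊆ u → π ⁻¹' Z ⊆ v → False := by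
    intro Z hZc hZi hZY h1 h2
    obtain ⟨q, hq⟩ := (H Z hZc hZi).2
    have : q ∈ π ⁻¹' Y ∩ (u ∩ v) := ⟨hZY hq, h1 hq, h2 hq⟩
    rw [hdisj] at this
    exact this
  have hclc : ∀ p : X, IsClosed (closure ({p} : Set X)) := fun p => isClosed_closure
  have hcli : ∀ p : X, IsIrreducible (closure ({p} : Set X)) := fun p =>
    isIrreducible_singleton.closure
  have hclY : ∀ p ∈ Y, closure ({p} : Set X) ⊆ Y := fun p hp =>
    hY.closure_subset_iff.mpr (Set.singleton_subset_iff.mpr hp)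
  -- the two pieces
  let Yu : Set X := {p | p ∈ Y ∧ π ⁻¹' closure {p} ⊆ u}
  let Yv : Set X := {p | p ∈ Y ∧ π ⁻¹' closure {p} ⊆ v}
  have hstab : ∀ (w : Set Q) (w' : Set Q), (∀ Z : Set X, IsClosed Z → IsIrreducible Z → Z ⊆ Y →
        (π ⁻¹' Z ⊆ w ∨ π ⁻¹' Z ⊆ w')) →
      (∀ Z : Set X, IsClosed Z → IsIrreducible Z → Z ⊆ Y → π ⁻¹' Z ⊆ w → π ⁻¹' Z ⊆ w' → False) →
      IsClosed {p | p ∈ Y ∧ π ⁻¹' closure {p} ⊆ w} := by
    intro w w' hd hn
    refine isClosed_of_irreducible_stable hX hY (fun p hp => hp.1) ?_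
    rintro Z hZc hZi hZY ⟨p, hpZ, hpY, hpw⟩
    have hpZ' : closure ({p} : Set X) ⊆ Z :=
      hZc.closure_subset_iff.mpr (Set.singleton_subset_iff.mpr hpZ)
    have hZw : π ⁻¹' Z ⊆ w := by
      rcases hd Z hZc hZi hZY with h | h
      · exact h
      · exact (hn _ (hclc p) (hcli p) (hclY p hpY) hpw ((Set.preimage_mono hpZ').trans h)).elim
    intro z hz
    refine ⟨hZY hz, (Set.preimage_mono ?_).trans hZw⟩
    exact hZc.closure_subset_iff.mpr (Set.singleton_subset_iff.mpr hz)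
  have hYuc : IsClosed Yu := hstab u v hdich hnot
  have hYvc : IsClosed Yv := hstab v u (fun Z h1 h2 h3 => (hdich Z h1 h2 h3).symm)
    (fun Z h1 h2 h3 h4 h5 => hnot Z h1 h2 h3 h5 h4)
  have hcov : Y ⊆ Yu ∪ Yv := by
    intro p hp
    rcases hdich _ (hclc p) (hcli p) (hclY p hp) with h | h
    · exact Or.inl ⟨hp, h⟩
    · exact Or.inr ⟨hp, h⟩
  have hdj : Y ∩ (Yu ∩ Yv) = ∅ := by
    rw [← Set.subset_empty_iff]
    rintro p ⟨hp, ⟨-, h1⟩, ⟨-, h2⟩⟩
    exact (hnot _ (hclc p) (hcli p) (hclY p hp) h1 h2).elim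
  rcases isPreconnected_iff_subset_of_disjoint_closed.mp hYc Yu Yv hYuc hYvc hcov hdj with h | h
  · left
    intro q hq
    exact (h hq).2 (subset_closure rfl)
  · right
    intro q hq
    exact (h hq).2 (subset_closure rfl)

end Top

end Groth.Agent.Lib.helper26.AnConn
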