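import Groth.Agent.Lib.Helper26.AnDensityCor
import Groth.Agent.Lib.Helper26.AnConn8
import Groth.Agent.Lib.Helper26.AnConn9

/-!
# Connectedness of the classical points, scheme level (helper26)

For `X` locally of finite type over `ℂ`:
* `isPreconnected_preimage_of_isIrreducible`: the ℂ-points of an irreducible closed subset form a
  preconnected (and nonempty) subset of `X(ℂ)`;
* `isPreconnected_preimage`: the ℂ-points of a closed preconnected subset form a preconnected
  subset of `X(ℂ)`.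
-/

set_option autoImplicit false

open AlgebraicGeometry CategoryTheory CategoryTheory.Limits TopologicalSpace Opposite Topology

namespace Groth.Agent.Lib.helper26.AnPts

open An

variable {X : Scheme.{0}} [X.Over SC]

/-- Affine case: the ℂ-points of `closure {ξ}` form a preconnected set. -/
theorem isPreconnected_preimage_closure_singleton_affine [IsAffine X]
    [LocallyOfFiniteType (X ↘ SC)] (ξ : X) :
    _root_.IsPreconnected (Pts.pt ⁻¹' closure {ξ} : Set (Pts X)) := by
  obtain ⟨n, s, hs⟩ := exists_generators X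
  let _ : Algebra ℂ Γ(X, ⊤) := (strHom X).toAlgebra
  have hs' : Function.Surjective
      (MvPolynomial.aeval s : MvPolynomial (Fin n) ℂ →ₐ[ℂ] Γ(X, ⊤)) := hs
  -- the prime ideal of `ξ`
  let 𝔭 : Ideal Γ(X, ⊤) := RingHom.ker (X.Γevaluation ξ).hom
  have h𝔭 : 𝔭.IsPrime := RingHom.ker_isPrime _
  have hmem𝔭 : ∀ g : Γ(X, ⊤), g ∈ 𝔭 ↔ ξ ∉ X.basicOpen g := fun g =>
    X.evaluation_eq_zero_iff_notMem_basicOpen (U := ⊤) ξ (Opens.mem_top ξ) g
  have hiff : ∀ x : Pts X, x.pt ∈ closure ({ξ} : Set X) ↔ ∀ g ∈ 𝔭, x.evTop g = 0 := by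
    intro x
    constructor
    · intro hx g hg
      have hx' : ξ ⤳ x.pt := specializes_iff_mem_closure.mpr hx
      by_contra hne
      have h1 : x.pt ∈ X.basicOpen g := (pt_mem_basicOpen_top_iff x g).mpr hne
      exact (hmem𝔭 g).mp hg (hx'.mem_open (X.basicOpen g).2 h1)
    · intro hx
      by_contra hnot
      have hopen : IsOpen (closure ({ξ} : Set X))ᶜ := isClosed_closure.isOpen_compl
      obtain ⟨g, hgle, hxg'⟩ := (isAffineOpen_top X).exists_basicOpen_le
        (V := ⟨(closure ({ξ} : Set X))ᶜ, hopen⟩) ⟨x.pt, hnot⟩ trivial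
      have hξg : ξ ∉ X.basicOpen g := fun h => hgle h (subset_closure rfl)
      have hg𝔭 : g ∈ 𝔭 := (hmem𝔭 g).mpr hξg
      exact ((pt_mem_basicOpen_top_iff x g).mp hxg') (hx g hg𝔭)
  have hce := isClosedEmbedding_coordMap hs
  rw [← hce.isInducing.isPreconnected_image]
  have himg : coordMap s '' (Pts.pt ⁻¹' closure {ξ} : Set (Pts X)) =
      AnDensity.coords s '' {x : Γ(X, ⊤) →ₐ[ℂ] ℂ | ∀ r ∈ 𝔭, x r = 0} := by
    ext w
    constructor
    · rintro ⟨x, hx, rfl⟩
      exact ⟨toAlgHom x, fun r hr => (hiff x).mp hx r hr, rfl⟩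
    · rintro ⟨x, hx, rfl⟩
      have hxid : (x : Γ(X, ⊤) →+* ℂ).comp (strHom X) = RingHom.id ℂ := by
        ext c
        exact x.commutes c
      let xP : Pts X := ofRingHom (x : Γ(X, ⊤) →+* ℂ) hxid
      have hxP : ∀ f : Γ(X, ⊤), xP.evTop f = x f := fun f =>
        congrArg (fun φ : Γ(X, ⊤) →+* ℂ => φ f) (evTopHom_ofRingHom _ hxid)
      refine ⟨xP, (hiff xP).mpr fun g hg => ?_, ?_⟩
      · rw [hxP]
        exact hx g hg
      · funext i
        exact hxP (s i)
  rw [himg]
  exact AnConn.connected_prime hs' 𝔭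

/-- The ℂ-points of an irreducible closed subset form a preconnected set. -/
theorem isPreconnected_preimage_of_isIrreducible [LocallyOfFiniteType (X ↘ SC)]
    (Z : Set ↥X) (hZc : IsClosed Z) (hZi : IsIrreducible Z) :
    _root_.IsPreconnected (Pts.pt ⁻¹' Z : Set (Pts X)) := by
  have : IsLocallyNoetherian X := LocallyOfFiniteType.isLocallyNoetherian (X ↘ SC)
  -- the generic point
  set ξ : X := hZi.genericPoint with hξ
  have hgen : IsGenericPoint ξ Z := hZi.isGenericPoint_genericPoint hZc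
  -- an affine chart around `ξ`
  obtain ⟨U, hU, hξU, -⟩ := exists_isAffineOpen_mem_and_subset (x := ξ) (U := ⊤) trivial
  have : IsAffine U.toScheme := hU
  have : LocallyOfFiniteType (U.toScheme ↘ SC) :=
    inferInstanceAs (LocallyOfFiniteType (U.ι ≫ X ↘ SC))
  let ξ' : U.toScheme := ⟨ξ, hξU⟩
  have h1 := isPreconnected_preimage_closure_singleton_affine (X := U.toScheme) ξ'
  have h2 : _root_.IsPreconnected (Pts.map U.ι '' (Pts.pt ⁻¹' closure {ξ'} : Set (Pts U.toScheme))) :=
    h1.image _ (Pts.continuous_map U.ι).continuousOn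
  -- the image is the set of ℂ-points of `Z ∩ U`
  have himg : Pts.map U.ι '' (Pts.pt ⁻¹' closure {ξ'} : Set (Pts U.toScheme)) =
      (Pts.pt ⁻¹' (Z ∩ (U : Set X)) : Set (Pts X)) := by
    have hcl : closure ({ξ'} : Set U.toScheme) = U.ι ⁻¹' Z := by
      rw [U.ι.isOpenEmbedding.isInducing.closure_eq_preimage_closure_image, Set.image_singleton]
      have : U.ι ξ' = ξ := rfl
      rw [this, hgen.def]
    ext x
    constructor
    · rintro ⟨x₁, hx₁, rfl⟩
      change (Pts.map U.ι x₁).pt ∈ Z ∩ (U : Set X)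
      rw [Pts.pt_map]
      have hx₁' : x₁.pt ∈ closure ({ξ'} : Set U.toScheme) := hx₁
      rw [hcl] at hx₁'
      exact ⟨hx₁', (x₁.pt).2⟩
    · intro hx
      have hx' : x.pt ∈ Z ∩ (U : Set X) := hx
      have hxr : x ∈ Set.range (Pts.map U.ι) := by
        rw [range_map_of_isOpenImmersion]
        change x.pt ∈ (U.ι.opensRange : Set X)
        rw [Scheme.Opens.opensRange_ι]
        exact hx'.2
      obtain ⟨x₁, rfl⟩ := hxr
      refine ⟨x₁, ?_, rfl⟩
      change x₁.pt ∈ closure ({ξ'} : Set U.toScheme)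
      rw [hcl]
      rw [Pts.pt_map] at hx'
      exact hx'.1
  rw [himg] at h2
  -- density
  have hlc : IsLocallyConstructible (Z ∩ (U : Set X)) :=
    isLocallyConstructible_of_isLocallyClosed (hZc.isLocallyClosed.inter U.2.isLocallyClosed)
  have hclZ : closure (Z ∩ (U : Set X)) = Z := by
    apply subset_antisymm
    · exact hZc.closure_subset_iff.mpr Set.inter_subset_left
    · intro z hz
      have hz' : z ∈ closure ({ξ} : Set X) := by rw [hgen.def]; exact hz
      have hsub : ({ξ} : Set X) ⊆ Z ∩ (U : Set X) :=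
        Set.singleton_subset_iff.mpr ⟨hgen.mem, hξU⟩
      exact closure_mono hsub hz'
  have h3 := preimage_closure_eq_closure_preimage (Z ∩ (U : Set X)) hlc
  rw [hclZ] at h3
  rw [h3]
  exact h2.closure

/-- A nonempty closed subset has a ℂ-point. -/
theorem nonempty_preimage_of_isClosed [LocallyOfFiniteType (X ↘ SC)]
    (Z : Set ↥X) (hZc : IsClosed Z) (hZne : Z.Nonempty) :
    (Pts.pt ⁻¹' Z : Set (Pts X)).Nonempty := by
  have : JacobsonSpace ↥X := LocallyOfFiniteType.jacobsonSpace (X ↘ SC)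
  obtain ⟨q, hq, hqc⟩ := nonempty_inter_closedPoints (Z := Z) hZne hZc.isLocallyClosed
  obtain ⟨y, rfl⟩ := exists_pt_eq q hqc
  exact ⟨y, hq⟩

/-- Schemes locally of finite type over `ℂ` are locally Noetherian spaces. -/
lemma exists_noetherian_nhds [LocallyOfFiniteType (X ↘ SC)] (x : X) :
    ∃ W : Set ↥X, IsOpen W ∧ x ∈ W ∧ NoetherianSpace W := by
  have : IsLocallyNoetherian X := LocallyOfFiniteType.isLocallyNoetherian (X ↘ SC)
  obtain ⟨U, hU, hxU, -⟩ := exists_isAffineOpen_mem_and_subset (x := x) (U := ⊤) trivial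
  have : IsNoetherianRing Γ(X, U) := IsLocallyNoetherian.component_noetherian ⟨U, hU⟩
  exact ⟨U, U.2, hxU, noetherianSpace_of_isAffineOpen U hU⟩

/-- **Connectedness**: the ℂ-points of a closed preconnected subset form a preconnected set. -/
theorem isPreconnected_preimage [LocallyOfFiniteType (X ↘ SC)]
    (Y : Set ↥X) (hYc : IsClosed Y) (hY : _root_.IsPreconnected Y) :
    _root_.IsPreconnected (Pts.pt ⁻¹' Y : Set (Pts X)) :=
  AnConn.isPreconnected_preimage_of_irreducible exists_noetherian_nhds Pts.pt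
    (fun Z hZc hZi => ⟨isPreconnected_preimage_of_isIrreducible Z hZc hZi,
      nonempty_preimage_of_isClosed Z hZc hZi.nonempty⟩) hYc hY

end Groth.Agent.Lib.helper26.AnPts
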