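import Groth.Agent.Lib.Helper26.AnDensityScheme

/-!
# Corollaries of the density theorem (helper26)
-/

set_option autoImplicit false

open AlgebraicGeometry CategoryTheory CategoryTheory.Limits TopologicalSpace Opposite Topology

namespace Groth.Agent.Lib.helper26.AnPts

open An

section LC

variable {X : Scheme.{0}}

/-- On a locally Noetherian scheme every open subset is locally constructible. -/
lemma isLocallyConstructible_of_isOpen [IsLocallyNoetherian X] {s : Set ↥X} (hs : IsOpen s) :
    IsLocallyConstructible s := by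
  intro x
  obtain ⟨U, hU, hxU, -⟩ := exists_isAffineOpen_mem_and_subset (x := x) (U := ⊤) trivial
  have : IsNoetherianRing Γ(X, U) := IsLocallyNoetherian.component_noetherian ⟨U, hU⟩
  have : NoetherianSpace ↥U := noetherianSpace_of_isAffineOpen U hU
  refine ⟨U, U.2.mem_nhds hxU, U.2, ?_⟩
  have hopen : IsOpen (Subtype.val ⁻¹' s : Set ↥U) := hs.preimage continuous_subtype_val
  refine IsRetrocompact.isConstructible hopen ?_
  intro V _ _
  exact NoetherianSpace.isCompact _

lemma isLocallyConstructible_of_isClosed [IsLocallyNoetherian X] {s : Set ↥X} (hs : IsClosed s) :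
    IsLocallyConstructible s := by
  have := IsLocallyConstructible.compl' (isLocallyConstructible_of_isOpen hs.isOpen_compl)
  rwa [compl_compl] at this

lemma isLocallyConstructible_of_isLocallyClosed [IsLocallyNoetherian X] {s : Set ↥X}
    (hs : IsLocallyClosed s) : IsLocallyConstructible s := by
  obtain ⟨O, C, hO, hC, rfl⟩ := hs
  exact (isLocallyConstructible_of_isOpen hO).inter (isLocallyConstructible_of_isClosed hC)

end LC

section Dense

variable (X : Scheme.{0}) [X.Over SC] [LocallyOfFiniteType (X ↘ SC)]

/-- Dense iff dense on ℂ-points (locally constructible sets). -/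
theorem dense_iff (T : Set ↥X) (hT : IsLocallyConstructible T) :
    Dense T ↔ Dense (Pts.pt ⁻¹' T : Set (Pts X)) := by
  rw [dense_iff_closure_eq, dense_iff_closure_eq, ← preimage_closure_eq_closure_preimage T hT]
  constructor
  · intro h
    rw [h]
    rfl
  · intro h
    have : JacobsonSpace ↥X := LocallyOfFiniteType.jacobsonSpace (X ↘ SC)
    rw [← Set.compl_empty_iff, ← Set.not_nonempty_iff_eq_empty]
    intro hne
    obtain ⟨q, hq, hqc⟩ := nonempty_inter_closedPoints (Z := (closure T)ᶜ) hne
      isClosed_closure.isOpen_compl.isLocallyClosed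
    obtain ⟨y, rfl⟩ := exists_pt_eq q hqc
    apply hq
    have : y ∈ (Pts.pt ⁻¹' closure T : Set (Pts X)) := by
      rw [h]; trivial
    exact this

/-- Open iff open on ℂ-points (locally constructible sets). -/
theorem isOpen_iff (T : Set ↥X) (hT : IsLocallyConstructible T) :
    IsOpen T ↔ IsOpen (Pts.pt ⁻¹' T : Set (Pts X)) := by
  constructor
  · intro h
    exact h.preimage Pts.continuous_pt
  · intro h
    have : JacobsonSpace ↥X := LocallyOfFiniteType.jacobsonSpace (X ↘ SC)
    have : IsLocallyNoetherian X := LocallyOfFiniteType.isLocallyNoetherian (X ↘ SC)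
    have hC : IsLocallyConstructible Tᶜ := IsLocallyConstructible.compl' hT
    have hcl : IsClosed (Pts.pt ⁻¹' Tᶜ : Set (Pts X)) := by
      rw [Set.preimage_compl]
      exact h.isClosed_compl
    have heq : (Pts.pt ⁻¹' closure Tᶜ : Set (Pts X)) = Pts.pt ⁻¹' Tᶜ := by
      rw [preimage_closure_eq_closure_preimage Tᶜ hC, hcl.closure_eq]
    have hlc : IsLocallyConstructible (closure Tᶜ ∩ T) :=
      (isLocallyConstructible_of_isClosed isClosed_closure).inter hT
    have hempty : closure Tᶜ ∩ T = ∅ := by
      rw [← Set.not_nonempty_iff_eq_empty]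
      intro hne
      obtain ⟨q, hq, hqc⟩ := IsLocallyConstructible.nonempty_inter_closedPoints hlc hne
      obtain ⟨y, rfl⟩ := exists_pt_eq q hqc
      have h1 : y ∈ (Pts.pt ⁻¹' closure Tᶜ : Set (Pts X)) := hq.1
      rw [heq] at h1
      exact h1 hq.2
    rw [← isClosed_compl_iff]
    have : closure Tᶜ = Tᶜ := by
      apply subset_antisymm _ subset_closure
      intro z hz hzT
      have : z ∈ closure Tᶜ ∩ T := ⟨hz, hzT⟩
      rw [hempty] at this
      exact this
    rw [← this]
    exact isClosed_closure

/-- Closed iff closed on ℂ-points (locally constructible sets). -/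
theorem isClosed_iff (T : Set ↥X) (hT : IsLocallyConstructible T) :
    IsClosed T ↔ IsClosed (Pts.pt ⁻¹' T : Set (Pts X)) := by
  rw [← isOpen_compl_iff, ← isOpen_compl_iff, isOpen_iff X Tᶜ (IsLocallyConstructible.compl' hT),
    Set.preimage_compl]

end Dense

section Maps

variable {X Y : Scheme.{0}} [X.Over SC] [Y.Over SC]
  [LocallyOfFiniteType (X ↘ SC)] [LocallyOfFiniteType (Y ↘ SC)] (f : X ⟶ Y) [f.IsOver SC]

/-- The image of `X(ℂ) → Y(ℂ)` consists of the ℂ-points lying in the image of `f`. -/
lemma range_map_eq_preimage : Set.range (Pts.map f) = Pts.pt ⁻¹' Set.range f := by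
  ext y
  constructor
  · rintro ⟨x, rfl⟩
    change (Pts.map f x).pt ∈ Set.range f
    rw [Pts.pt_map]
    exact ⟨x.pt, rfl⟩
  · intro hy
    exact exists_map_eq_of_pt_mem_range f y hy

/-- Dominant iff dense image on ℂ-points (quasi-compact morphisms). -/
theorem denseRange_iff [QuasiCompact f] :
    DenseRange f ↔ DenseRange (Pts.map f) := by
  have : LocallyOfFiniteType f := locallyOfFiniteType_of_isOver f
  have : IsLocallyNoetherian Y := LocallyOfFiniteType.isLocallyNoetherian (Y ↘ SC)
  have hlc : IsLocallyConstructible (Set.range f) := by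
    rw [← Set.image_univ]
    exact f.isLocallyConstructible_image IsLocallyConstructible.univ
  unfold DenseRange
  rw [range_map_eq_preimage f]
  exact dense_iff Y _ hlc

end Maps

section Separated

variable {X Y : Scheme.{0}} [X.Over SC] [Y.Over SC]
  [LocallyOfFiniteType (X ↘ SC)] [LocallyOfFiniteType (Y ↘ SC)] (f : X ⟶ Y) [f.IsOver SC]

instance diagonalIsOver : (pullback.diagonal f).IsOver SC :=
  ⟨by
    change pullback.diagonal f ≫ pullback.fst f f ≫ (X ↘ SC) = X ↘ SC
    rw [pullback.diagonal_fst_assoc]⟩

/-- Separated iff separated on ℂ-points. -/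
theorem isSeparated_iff : IsSeparated f ↔ IsSeparatedMap (Pts.map f) := by
  have : LocallyOfFiniteType f := locallyOfFiniteType_of_isOver f
  have : LocallyOfFiniteType (pullback f f ↘ SC) :=
    inferInstanceAs (LocallyOfFiniteType (pullback.fst f f ≫ X ↘ SC))
  have : IsLocallyNoetherian (pullback f f) :=
    LocallyOfFiniteType.isLocallyNoetherian (pullback f f ↘ SC)
  have hΦ := isHomeomorph_pullback X X Y f f
  rw [isSeparatedMap_iff_isClosed_diagonal, ← hΦ.isQuotientMap.isClosed_preimage]
  have h2 : (fun z : Pts (pullback f f) =>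
      (⟨(Pts.map (pullback.fst f f) z, Pts.map (pullback.snd f f) z),
        Pts.map_pullback_condition f f z⟩ :
        {q : Pts X × Pts X // Pts.map f q.1 = Pts.map f q.2})) ⁻¹'
        (Pts.map f).pullbackDiagonal = Pts.pt ⁻¹' Set.range (pullback.diagonal f) := by
    rw [← range_map_eq_preimage (pullback.diagonal f)]
    ext z
    constructor
    · intro hz
      have hz' : Pts.map (pullback.fst f f) z = Pts.map (pullback.snd f f) z := hz
      have hz'' : z.1 ≫ pullback.fst f f = z.1 ≫ pullback.snd f f := congrArg Subtype.val hz'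
      refine ⟨Pts.map (pullback.fst f f) z, ?_⟩
      apply Subtype.ext
      change (z.1 ≫ pullback.fst f f) ≫ pullback.diagonal f = z.1
      apply pullback.hom_ext
      · rw [Category.assoc, pullback.diagonal_fst, Category.comp_id]
      · rw [Category.assoc, pullback.diagonal_snd, Category.comp_id, hz'']
    · rintro ⟨x, rfl⟩
      change Pts.map (pullback.fst f f) (Pts.map (pullback.diagonal f) x) =
        Pts.map (pullback.snd f f) (Pts.map (pullback.diagonal f) x)
      apply Subtype.ext
      change (x.1 ≫ pullback.diagonal f) ≫ pullback.fst f f =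
        (x.1 ≫ pullback.diagonal f) ≫ pullback.snd f f
      rw [Category.assoc, Category.assoc, pullback.diagonal_fst, pullback.diagonal_snd]
  have h3 : IsSeparated f ↔ IsClosed (Set.range (pullback.diagonal f)) := by
    rw [AlgebraicGeometry.isSeparated_iff]
    constructor
    · intro h
      exact (pullback.diagonal f).isClosedEmbedding.isClosed_range
    · intro h
      exact IsClosedImmersion.of_isPreimmersion _ h
  rw [h3, h2]
  exact isClosed_iff (pullback f f) _
    (isLocallyConstructible_of_isLocallyClosed (pullback.diagonal f).isLocallyClosed_range)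

end Separated

section Hausdorff

variable (X : Scheme.{0}) [X.Over SC] [LocallyOfFiniteType (X ↘ SC)]

/-- Separated over `ℂ` iff the space of ℂ-points is Hausdorff. -/
theorem isSeparated_iff_t2Space : IsSeparated (X ↘ SC) ↔ T2Space (Pts X) := by
  let _ : SC.Over SC := ⟨𝟙 SC⟩
  have : LocallyOfFiniteType (SC ↘ SC) := inferInstanceAs (LocallyOfFiniteType (𝟙 SC))
  have : (X ↘ SC).IsOver SC := ⟨Category.comp_id _⟩
  rw [isSeparated_iff (X ↘ SC)]
  let y₀ : Pts SC := ⟨𝟙 SC, Category.comp_id _⟩
  have : Pts.map (X ↘ SC) = fun _ : Pts X => y₀ := by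
    funext x
    exact Subtype.ext x.2
  rw [this]
  exact (t2space_iff_isSeparatedMap y₀).symm

end Hausdorff

end Groth.Agent.Lib.helper26.AnPts
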