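import Groth.Agent.Lib.Helper26.AnPtsMore
import Groth.Agent.Lib.Helper26.AnDensity

/-!
# Density of Zariski-opens in the classical topology, scheme level (helper26)
-/

set_option autoImplicit false

open AlgebraicGeometry CategoryTheory CategoryTheory.Limits TopologicalSpace Opposite Topology

namespace Groth.Agent.Lib.helper26.AnPts

open An

variable {X : Scheme.{0}} [X.Over SC]

/-- A ℂ-point as an algebra homomorphism (for the algebra structure given by `strHom`). -/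
noncomputable def toAlgHom (x : Pts X) :
    letI : Algebra ℂ Γ(X, ⊤) := (strHom X).toAlgebra
    Γ(X, ⊤) →ₐ[ℂ] ℂ :=
  letI : Algebra ℂ Γ(X, ⊤) := (strHom X).toAlgebra
  { evTopHom x with commutes' := fun c => evTop_strHom x c }

/-- Affine density: for a point `ξ` of an affine scheme of finite type over `ℂ`, the ℂ-points in
`closure {ξ} ∩ O` (`O ∋ ξ` open) accumulate, in the classical topology, at every ℂ-point of
`closure {ξ}`. -/
theorem mem_closure_of_specializes [IsAffine X] [LocallyOfFiniteType (X ↘ SC)] (ξ : X)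
    (O : X.Opens) (hξO : ξ ∈ O) (x₀ : Pts X) (hx₀ : ξ ⤳ x₀.pt) :
    x₀ ∈ closure (Pts.pt ⁻¹' (closure {ξ} ∩ (O : Set X)) : Set (Pts X)) := by
  obtain ⟨n, s, hs⟩ := exists_generators X
  let _ : Algebra ℂ Γ(X, ⊤) := (strHom X).toAlgebra
  have hs' : Function.Surjective
      (MvPolynomial.aeval s : MvPolynomial (Fin n) ℂ →ₐ[ℂ] Γ(X, ⊤)) := hs
  -- the prime ideal of `ξ`
  let 𝔭 : Ideal Γ(X, ⊤) := RingHom.ker (X.Γevaluation ξ).hom
  have h𝔭 : 𝔭.IsPrime := RingHom.ker_isPrime _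
  have hmem𝔭 : ∀ g : Γ(X, ⊤), g ∈ 𝔭 ↔ ξ ∉ X.basicOpen g := fun g =>
    X.evaluation_eq_zero_iff_notMem_basicOpen (U := ⊤) ξ (Opens.mem_top ξ) g
  -- a basic open neighbourhood of `ξ` inside `O`
  obtain ⟨g₀, hg₀O, hξg₀⟩ := (isAffineOpen_top X).exists_basicOpen_le ⟨ξ, hξO⟩ trivial
  have hg₀ : g₀ ∉ 𝔭 := fun h => (hmem𝔭 g₀).mp h hξg₀
  have hvanish : ∀ (x : Pts X), ξ ⤳ x.pt → ∀ g ∈ 𝔭, x.evTop g = 0 := by
    intro x hx g hg
    by_contra hne
    have h1 : x.pt ∈ X.basicOpen g := (pt_mem_basicOpen_top_iff x g).mpr hne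
    exact (hmem𝔭 g).mp hg (hx.mem_open (X.basicOpen g).2 h1)
  -- use the closed embedding into `ℂⁿ`
  have hce := isClosedEmbedding_coordMap hs
  rw [hce.isInducing.closure_eq_preimage_closure_image, Set.mem_preimage, Metric.mem_closure_iff]
  intro ε hε
  obtain ⟨x, hx𝔭, hxg, hxε⟩ := AnDensity.density_prime hs' 𝔭 (toAlgHom x₀)
    (fun r hr => hvanish x₀ hx₀ r hr) g₀ hg₀ ε hε
  have hxid : (x : Γ(X, ⊤) →+* ℂ).comp (strHom X) = RingHom.id ℂ := by
    ext c
    exact x.commutes c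
  let xP : Pts X := ofRingHom (x : Γ(X, ⊤) →+* ℂ) hxid
  have hxP : ∀ f : Γ(X, ⊤), xP.evTop f = x f := fun f =>
    congrArg (fun φ : Γ(X, ⊤) →+* ℂ => φ f) (evTopHom_ofRingHom _ hxid)
  refine ⟨coordMap s xP, ⟨xP, ⟨?_, ?_⟩, rfl⟩, ?_⟩
  · -- `xP.pt ∈ closure {ξ}`
    by_contra hnot
    have hopen : IsOpen (closure ({ξ} : Set X))ᶜ := isClosed_closure.isOpen_compl
    obtain ⟨g, hgle, hxg'⟩ := (isAffineOpen_top X).exists_basicOpen_le
      (V := ⟨(closure ({ξ} : Set X))ᶜ, hopen⟩) ⟨xP.pt, hnot⟩ trivial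
    have hξg : ξ ∉ X.basicOpen g := fun h => hgle h (subset_closure rfl)
    have hg𝔭 : g ∈ 𝔭 := (hmem𝔭 g).mpr hξg
    have : xP.evTop g = 0 := by rw [hxP]; exact hx𝔭 g hg𝔭
    exact ((pt_mem_basicOpen_top_iff xP g).mp hxg') this
  · -- `xP.pt ∈ O`
    apply hg₀O
    rw [pt_mem_basicOpen_top_iff, hxP]
    exact hxg
  · rw [dist_comm, dist_pi_lt_iff hε]
    intro i
    rw [dist_eq_norm]
    change ‖xP.evTop (s i) - x₀.evTop (s i)‖ < ε
    rw [hxP]
    exact hxε i

section TopologicalReduction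

variable {Y : Type*} [TopologicalSpace Y]

/-- In a Noetherian quasi-sober space, a point of the closure of a constructible set `T` is a
specialisation of a point `ξ` having an open neighbourhood `O` with `closure {ξ} ∩ O ⊆ T`. -/
lemma exists_generic_of_mem_closure [NoetherianSpace Y] [QuasiSober Y] {T : Set Y}
    (hT : IsConstructible T) {p : Y} (hp : p ∈ closure T) :
    ∃ (ξ : Y) (O : Set Y), IsOpen O ∧ ξ ∈ O ∧ ξ ⤳ p ∧ closure {ξ} ∩ O ⊆ T := by
  obtain ⟨F, hF, hFl, rfl⟩ := (IsConstructible.finUnionLC_and_compl hT).1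
  rw [hF.closure_sUnion] at hp
  obtain ⟨L, hLF, hpL⟩ := Set.mem_iUnion₂.mp hp
  obtain ⟨O, C, hO, hC, rfl⟩ := hFl L hLF
  have hclC : closure (O ∩ C) ⊆ C := (closure_mono Set.inter_subset_right).trans hC.closure_eq.le
  obtain ⟨S, hSf, hSc, hSi, hSU⟩ :=
    NoetherianSpace.exists_finite_set_isClosed_irreducible (isClosed_closure (s := O ∩ C))
  -- the components meeting `O`
  let S' : Set (Set Y) := {Z ∈ S | (Z ∩ O).Nonempty}
  have hS'f : S'.Finite := hSf.subset fun Z hZ => hZ.1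
  have hsub : O ∩ C ⊆ ⋃₀ S' := by
    intro z hz
    have hz' : z ∈ ⋃₀ S := hSU ▸ subset_closure hz
    obtain ⟨Z, hZ, hzZ⟩ := hz'
    exact ⟨Z, ⟨hZ, ⟨z, hzZ, hz.1⟩⟩, hzZ⟩
  have hclosed : IsClosed (⋃₀ S') := by
    rw [Set.sUnion_eq_biUnion]
    exact hS'f.isClosed_biUnion fun Z hZ => hSc Z hZ.1
  have hp' : p ∈ ⋃₀ S' := hclosed.closure_subset_iff.mpr hsub hpL
  obtain ⟨Z, ⟨hZS, hZO⟩, hpZ⟩ := hp'
  have hgen := (hSi Z hZS).isGenericPoint_genericPoint (hSc Z hZS)
  refine ⟨(hSi Z hZS).genericPoint, O, hO, (hgen.mem_open_set_iff hO).mpr hZO,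
    hgen.specializes hpZ, ?_⟩
  rw [hgen.def]
  intro z hz
  refine Set.mem_sUnion.mpr ⟨O ∩ C, hLF, hz.2, hclC ?_⟩
  rw [hSU]
  exact ⟨Z, hZS, hz.1⟩

end TopologicalReduction

section Global

/-- **Density theorem** (Zariski closure vs. classical closure on ℂ-points). -/
theorem preimage_closure_eq_closure_preimage [LocallyOfFiniteType (X ↘ SC)] (T : Set ↥X)
    (hT : IsLocallyConstructible T) :
    (Pts.pt ⁻¹' closure T : Set (Pts X)) = closure (Pts.pt ⁻¹' T) := by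
  apply subset_antisymm
  · intro x₀ hx₀
    change x₀.pt ∈ closure T at hx₀
    -- an affine chart
    obtain ⟨U, hU, hxU, -⟩ := exists_isAffineOpen_mem_and_subset (x := x₀.pt) (U := ⊤) trivial
    have : IsAffine U.toScheme := hU
    have : LocallyOfFiniteType (U.toScheme ↘ SC) :=
      inferInstanceAs (LocallyOfFiniteType (U.ι ≫ X ↘ SC))
    have : IsLocallyNoetherian U.toScheme :=
      LocallyOfFiniteType.isLocallyNoetherian (U.toScheme ↘ SC)
    have : IsNoetherian U.toScheme := { }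
    -- the restriction of `T` is constructible
    have hTU : IsConstructible (U.ι ⁻¹' T) :=
      (hT.preimage_of_isOpenEmbedding U.ι.isOpenEmbedding).isConstructible
    -- lift the point
    have hx₀r : x₀ ∈ Set.range (Pts.map U.ι) := by
      rw [range_map_of_isOpenImmersion]
      change x₀.pt ∈ (U.ι.opensRange : Set X)
      rw [Scheme.Opens.opensRange_ι]
      exact hxU
    obtain ⟨x₁, rfl⟩ := hx₀r
    have hx₁ : x₁.pt ∈ closure (U.ι ⁻¹' T) := by
      rw [← U.ι.isOpenEmbedding.isOpenMap.preimage_closure_eq_closure_preimage U.ι.continuous]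
      rw [Pts.pt_map] at hx₀
      exact hx₀
    obtain ⟨ξ, O, hO, hξO, hξx₁, hsub⟩ := exists_generic_of_mem_closure hTU hx₁
    have h1 := mem_closure_of_specializes ξ ⟨O, hO⟩ hξO x₁ hξx₁
    have h2 : Pts.map U.ι x₁ ∈ closure (Pts.map U.ι ''
        (Pts.pt ⁻¹' (closure {ξ} ∩ (O : Set U.toScheme)))) :=
      image_closure_subset_closure_image (Pts.continuous_map U.ι) ⟨x₁, h1, rfl⟩
    refine closure_mono ?_ h2
    rintro _ ⟨z, hz, rfl⟩
    change (Pts.map U.ι z).pt ∈ T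
    rw [Pts.pt_map]
    exact hsub hz
  · exact (isClosed_closure.preimage Pts.continuous_pt).closure_subset_iff.mpr
      (Set.preimage_mono subset_closure)

end Global

end Groth.Agent.Lib.helper26.AnPts
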