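import Groth.Agent.Lib.Helper26.AnDensityCor
import Groth.Prelude.Def_AnEps

/-!
# Continuity of the comparison functor `ε` (helper26)
-/

set_option autoImplicit false

open AlgebraicGeometry CategoryTheory CategoryTheory.Limits TopologicalSpace Opposite Topology

namespace Groth.Agent.Lib.helper26.AnPts

open An

variable (X : Scheme.{0}) [X.Over SC] [LocallyOfFiniteType (X ↘ SC)] [Fact EtaleLH]

instance lft_etale (U : X.Etale) : LocallyOfFiniteType (U.left ↘ SC) :=
  inferInstanceAs (LocallyOfFiniteType ((U.left ↘ X) ≫ X ↘ SC))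

lemma eps_coverPreserving :
    CoverPreserving X.smallEtaleTopology (Cl.topology (Pts X)) (eps X) := by
  refine ⟨fun {U S} hS => ?_⟩
  intro a
  have hS' : S ∈ (X.smallPretopology @Etale @Etale).toGrothendieck U := by
    rw [← Scheme.smallGrothendieckTopology_eq_toGrothendieck_smallPretopology X le_rfl]
    exact hS
  obtain ⟨a', rfl⟩ : ∃ a' : Pts U.left, a' = a := ⟨a, rfl⟩
  obtain ⟨V, g, y, hSg, hgE, hy⟩ := (Scheme.mem_toGrothendieck_smallPretopology (S := X)
    (P := @Etale) (Q := @Etale) U S).1 hS' a'.pt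
  obtain ⟨b, hb⟩ := exists_map_eq_of_pt_mem_range g.left a' ⟨y, hy⟩
  have hlh : IsLocalHomeomorph (Pts.map g.left) := (Fact.out : EtaleLH) V.left U.left g.left
  obtain ⟨e, hbe, hfe⟩ := hlh b
  refine ⟨Cl.restrictOpen ((eps X).obj V) e.source e.open_source,
    Cl.restrictOpenι ((eps X).obj V) e.source e.open_source ≫ (eps X).map g,
    ⟨V, g, Cl.restrictOpenι ((eps X).obj V) e.source e.open_source, hSg, rfl⟩, ?_,
    ⟨⟨b, hbe⟩, hb⟩⟩
  change IsOpenEmbedding (e.source.domRestrict (Pts.map g.left))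
  rw [hfe]
  exact e.isOpenEmbedding_restrict

lemma eps_compatiblePreserving :
    CompatiblePreserving.{1} (Cl.topology (Pts X)) (eps X) := by
  refine ⟨?_⟩
  intro ℱ Z P x hx Y₁ Y₂ A f₁ f₂ g₁ g₂ hg₁ hg₂ hcomm
  -- the fibre product in `X.Etale`
  have w₁ : g₁.left ≫ Z.hom = Y₁.hom := CategoryTheory.Over.w g₁.hom
  have w₂ : g₂.left ≫ Z.hom = Y₂.hom := CategoryTheory.Over.w g₂.hom
  let W : X.Etale := Scheme.Etale.mk (pullback.fst g₁.left g₂.left ≫ Y₁.hom)
  let p₁ : W ⟶ Y₁ := MorphismProperty.Over.homMk (pullback.fst g₁.left g₂.left) rfl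
  let p₂ : W ⟶ Y₂ := MorphismProperty.Over.homMk (pullback.snd g₁.left g₂.left) (by
    change pullback.snd g₁.left g₂.left ≫ Y₂.hom = pullback.fst g₁.left g₂.left ≫ Y₁.hom
    rw [← w₁, ← w₂]
    exact (pullback.condition_assoc _).symm)
  have hp : p₁ ≫ g₁ = p₂ ≫ g₂ := by
    apply MorphismProperty.Over.Hom.ext
    exact pullback.condition
  have hΦ := isHomeomorph_pullback Y₁.left Y₂.left Z.left g₁.left g₂.left
  have hc : ∀ a : A.E, Pts.map g₁.left (f₁.toFun a : Pts Y₁.left) =
      Pts.map g₂.left (f₂.toFun a : Pts Y₂.left) := fun a =>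
    congrFun (congrArg Cl.Hom.toFun hcomm) a
  have hc' : ∀ a : A.E, (f₁.toFun a : Pts Y₁.left).1 ≫ g₁.left =
      (f₂.toFun a : Pts Y₂.left).1 ≫ g₂.left := fun a => congrArg Subtype.val (hc a)
  let h'' : A.E → @Pts (pullback g₁.left g₂.left) (pullbackOver g₁.left g₂.left) := fun a =>
    ⟨pullback.lift (f₁.toFun a : Pts Y₁.left).1 (f₂.toFun a : Pts Y₂.left).1 (hc' a), by
      change pullback.lift _ _ _ ≫ pullback.fst _ _ ≫ (Y₁.left ↘ SC) = 𝟙 _
      rw [pullback.lift_fst_assoc]
      exact (f₁.toFun a : Pts Y₁.left).2⟩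
  have hcont : Continuous h'' := by
    rw [hΦ.isInducing.continuous_iff]
    have : Continuous (fun a : A.E =>
        (⟨((f₁.toFun a : Pts Y₁.left), (f₂.toFun a : Pts Y₂.left)), hc a⟩ :
          {q : Pts Y₁.left × Pts Y₂.left // Pts.map g₁.left q.1 = Pts.map g₂.left q.2})) :=
      (f₁.continuous.prodMk f₂.continuous).subtype_mk _
    convert this using 1
    funext a
    exact Subtype.ext (Prod.ext (Subtype.ext (pullback.lift_fst _ _ _))
      (Subtype.ext (pullback.lift_snd _ _ _)))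
  have e : @CategoryTheory.over _ _ (pullback g₁.left g₂.left) SC (pullbackOver g₁.left g₂.left) =
      @CategoryTheory.over _ _ W.left SC (etaleOverLeft X W) := (Category.assoc _ _ _).symm
  let h : A ⟶ (eps X).obj W :=
    ⟨fun a => Pts.cast _ _ e (h'' a), (Pts.cast _ _ e).continuous.comp hcont, fun a => by
      rw [← f₁.over a]
      apply Subtype.ext
      change pullback.lift _ _ _ ≫ pullback.fst g₁.left g₂.left ≫ Y₁.hom = _
      rw [pullback.lift_fst_assoc]
      rfl⟩
  have e1 : f₁ = h ≫ (eps X).map p₁ := by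
    apply Cl.hom_ext
    funext a
    apply Subtype.ext
    exact (pullback.lift_fst _ _ _).symm
  have e2 : f₂ = h ≫ (eps X).map p₂ := by
    apply Cl.hom_ext
    funext a
    apply Subtype.ext
    exact (pullback.lift_snd _ _ _).symm
  have key := hx p₁ p₂ hg₁ hg₂ hp
  rw [e1, e2, op_comp, op_comp, Functor.map_comp, Functor.map_comp]
  change ℱ.obj.map h.op (ℱ.obj.map ((eps X).map p₁).op (x g₁ hg₁)) =
    ℱ.obj.map h.op (ℱ.obj.map ((eps X).map p₂).op (x g₂ hg₂))
  congr 1

/-- `ε` is continuous. -/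
theorem epsCont : EpsCont X :=
  Functor.isContinuous_of_coverPreserving (eps_compatiblePreserving X) (eps_coverPreserving X)

end Groth.Agent.Lib.helper26.AnPts
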