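import Groth.Agent.Lib.Helper26.AnEpsCont
import Groth.Agent.Lib.Helper3.LanFlat
import Mathlib.Algebra.Category.Grp.FilteredColimits
import Mathlib.Algebra.Category.Grp.Limits
import Mathlib.Algebra.Category.Grp.Colimits

/-!
# The comparison functor `ε` preserves finite limits; exactness of `ε^*` (helper26)
-/

set_option autoImplicit false

open AlgebraicGeometry CategoryTheory CategoryTheory.Limits TopologicalSpace Opposite Topology

namespace Groth.Agent.Lib.helper26.AnPts

open An

variable {X : Scheme.{0}} [X.Over SC] [LocallyOfFiniteType (X ↘ SC)] [Fact EtaleLH]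

section Pb

variable {Y₁ Y₂ Z : X.Etale} (g₁ : Y₁ ⟶ Z) (g₂ : Y₂ ⟶ Z)

/-- Explicit fibre product in `X.Etale`. -/
noncomputable def pbObj : X.Etale := Scheme.Etale.mk (pullback.fst g₁.left g₂.left ≫ Y₁.hom)

noncomputable def pbFst : pbObj g₁ g₂ ⟶ Y₁ :=
  MorphismProperty.Over.homMk (pullback.fst g₁.left g₂.left) rfl

noncomputable def pbSnd : pbObj g₁ g₂ ⟶ Y₂ :=
  MorphismProperty.Over.homMk (pullback.snd g₁.left g₂.left) (by
    have w₁ : g₁.left ≫ Z.hom = Y₁.hom := CategoryTheory.Over.w g₁.hom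
    have w₂ : g₂.left ≫ Z.hom = Y₂.hom := CategoryTheory.Over.w g₂.hom
    change pullback.snd g₁.left g₂.left ≫ Y₂.hom = pullback.fst g₁.left g₂.left ≫ Y₁.hom
    rw [← w₁, ← w₂]
    exact (pullback.condition_assoc _).symm)

omit [X.Over SC] [LocallyOfFiniteType (X ↘ SC)] [Fact EtaleLH] in
lemma pb_condition : pbFst g₁ g₂ ≫ g₁ = pbSnd g₁ g₂ ≫ g₂ := by
  apply MorphismProperty.Over.Hom.ext
  exact pullback.condition

noncomputable def pbIsLimit :
    IsLimit (PullbackCone.mk (pbFst g₁ g₂) (pbSnd g₁ g₂) (pb_condition g₁ g₂)) := by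
  refine PullbackCone.IsLimit.mk _ (fun s => MorphismProperty.Over.homMk
    (pullback.lift s.fst.left s.snd.left (by
      have := congrArg (fun k => k.left) s.condition
      exact this)) ?_) ?_ ?_ ?_
  · have w : s.fst.left ≫ Y₁.hom = s.pt.hom := CategoryTheory.Over.w s.fst.hom
    change pullback.lift _ _ _ ≫ pullback.fst g₁.left g₂.left ≫ Y₁.hom = s.pt.hom
    rw [pullback.lift_fst_assoc, w]
  · intro s
    apply MorphismProperty.Over.Hom.ext
    exact pullback.lift_fst _ _ _
  · intro s
    apply MorphismProperty.Over.Hom.ext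
    exact pullback.lift_snd _ _ _
  · intro s m h1 h2
    apply MorphismProperty.Over.Hom.ext
    apply pullback.hom_ext
    · refine Eq.trans ?_ (pullback.lift_fst _ _ _).symm
      exact congrArg (fun k => k.left) h1
    · refine Eq.trans ?_ (pullback.lift_snd _ _ _).symm
      exact congrArg (fun k => k.left) h2

end Pb

section ClLift

variable {Y₁ Y₂ Z : X.Etale} (g₁ : Y₁ ⟶ Z) (g₂ : Y₂ ⟶ Z) {A : Cl (Pts X)}
  (f₁ : A ⟶ (eps X).obj Y₁) (f₂ : A ⟶ (eps X).obj Y₂)
  (hcomm : f₁ ≫ (eps X).map g₁ = f₂ ≫ (eps X).map g₂)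

include hcomm in
lemma clLift_aux (a : A.E) : (f₁.toFun a : Pts Y₁.left).1 ≫ g₁.left =
    (f₂.toFun a : Pts Y₂.left).1 ≫ g₂.left :=
  congrArg Subtype.val (congrFun (congrArg Cl.Hom.toFun hcomm) a :
    Pts.map g₁.left (f₁.toFun a : Pts Y₁.left) = Pts.map g₂.left (f₂.toFun a : Pts Y₂.left))

/-- The induced map into the ℂ-points of the fibre product. -/
noncomputable def clLift : A ⟶ (eps X).obj (pbObj g₁ g₂) := by
  have hΦ := isHomeomorph_pullback Y₁.left Y₂.left Z.left g₁.left g₂.left
  have hc : ∀ a : A.E, Pts.map g₁.left (f₁.toFun a : Pts Y₁.left) =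
      Pts.map g₂.left (f₂.toFun a : Pts Y₂.left) := fun a =>
    congrFun (congrArg Cl.Hom.toFun hcomm) a
  let h'' : A.E → @Pts (pullback g₁.left g₂.left) (pullbackOver g₁.left g₂.left) := fun a =>
    ⟨pullback.lift (f₁.toFun a : Pts Y₁.left).1 (f₂.toFun a : Pts Y₂.left).1
      (clLift_aux g₁ g₂ f₁ f₂ hcomm a), by
      change pullback.lift _ _ _ ≫ pullback.fst _ _ ≫ (Y₁.left ↘ SC) = 𝟙 _
      rw [pullback.lift_fst_assoc]
      exact (f₁.toFun a : Pts Y₁.left).2⟩
  have hcont : Continuous h'' := by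
    rw [hΦ.isInducing.continuous_iff]
    have : Continuous (fun a : A.E =>
        (⟨((f₁.toFun a : Pts Y₁.left), (f₂.toFun a : Pts Y₂.left)), hc a⟩ :
          {q : Pts Y₁.left × Pts Y₂.left // Pts.map g₁.left q.1 = Pts.map g₂.left q.2})) :=
      (f₁.continuous.prodMk f₂.continuous).subtype_mk _
    convert this using 1
    funext a
    exact Subtype.ext (Prod.ext (Subtype.ext (pullback.lift_fst _ _ _))
      (Subtype.ext (pullback.lift_snd _ _ _)))
  have e : @CategoryTheory.over _ _ (pullback g₁.left g₂.left) SC (pullbackOver g₁.left g₂.left) =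
      @CategoryTheory.over _ _ (pbObj g₁ g₂).left SC (etaleOverLeft X (pbObj g₁ g₂)) :=
    (Category.assoc _ _ _).symm
  exact
    ⟨fun a => Pts.cast _ _ e (h'' a), (Pts.cast _ _ e).continuous.comp hcont, fun a => by
      rw [← f₁.over a]
      apply Subtype.ext
      change pullback.lift _ _ _ ≫ pullback.fst g₁.left g₂.left ≫ Y₁.hom = _
      rw [pullback.lift_fst_assoc]
      rfl⟩

lemma clLift_val (a : A.E) :
    ((clLift g₁ g₂ f₁ f₂ hcomm).toFun a : Pts (pbObj g₁ g₂).left).1 =
      pullback.lift (f₁.toFun a : Pts Y₁.left).1 (f₂.toFun a : Pts Y₂.left).1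
        (clLift_aux g₁ g₂ f₁ f₂ hcomm a) := rfl

lemma clLift_fst : clLift g₁ g₂ f₁ f₂ hcomm ≫ (eps X).map (pbFst g₁ g₂) = f₁ := by
  apply Cl.hom_ext
  funext a
  apply Subtype.ext
  exact pullback.lift_fst _ _ _

lemma clLift_snd : clLift g₁ g₂ f₁ f₂ hcomm ≫ (eps X).map (pbSnd g₁ g₂) = f₂ := by
  apply Cl.hom_ext
  funext a
  apply Subtype.ext
  exact pullback.lift_snd _ _ _

lemma clLift_uniq (m : A ⟶ (eps X).obj (pbObj g₁ g₂))
    (h1 : m ≫ (eps X).map (pbFst g₁ g₂) = f₁) (h2 : m ≫ (eps X).map (pbSnd g₁ g₂) = f₂) :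
    m = clLift g₁ g₂ f₁ f₂ hcomm := by
  apply Cl.hom_ext
  funext a
  apply Subtype.ext
  rw [clLift_val]
  apply pullback.hom_ext
  · rw [pullback.lift_fst]
    exact congrArg Subtype.val (congrFun (congrArg Cl.Hom.toFun h1) a)
  · rw [pullback.lift_snd]
    exact congrArg Subtype.val (congrFun (congrArg Cl.Hom.toFun h2) a)

/-- `ε` carries the explicit fibre product to a fibre product. -/
noncomputable def epsPbIsLimit :
    IsLimit (PullbackCone.mk ((eps X).map (pbFst g₁ g₂)) ((eps X).map (pbSnd g₁ g₂))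
      (by rw [← Functor.map_comp, ← Functor.map_comp, pb_condition])) :=
  PullbackCone.IsLimit.mk _ (fun s => clLift g₁ g₂ s.fst s.snd s.condition)
    (fun s => clLift_fst g₁ g₂ s.fst s.snd s.condition)
    (fun s => clLift_snd g₁ g₂ s.fst s.snd s.condition)
    (fun s m h1 h2 => clLift_uniq g₁ g₂ s.fst s.snd s.condition m h1 h2)

end ClLift

section Flat

variable (X)

instance eps_preservesPullbacks : PreservesLimitsOfShape WalkingCospan (eps X) where
  preservesLimit {K} := by
    have : PreservesLimit (cospan (K.map WalkingCospan.Hom.inl) (K.map WalkingCospan.Hom.inr))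
        (eps X) :=
      preservesLimit_of_preserves_limit_cone (pbIsLimit _ _)
        ((isLimitMapConePullbackConeEquiv (eps X) _).symm (epsPbIsLimit _ _))
    exact preservesLimit_of_iso_diagram _ (diagramIsoCospan K).symm

instance eps_preservesTerminal : PreservesLimitsOfShape (Discrete.{0} PEmpty) (eps X) := by
  have : PreservesLimit (Functor.empty.{0} X.Etale) (eps X) :=
    preservesLimit_of_preserves_limit_cone (MorphismProperty.Over.mkIdTerminal @Etale X)
      ((isLimitMapConeEmptyConeEquiv (eps X) _).symm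
        (IsTerminal.ofIso (Cl.selfIsTerminal (Pts X)) (epsTopIso X).symm))
  exact preservesLimitsOfShape_pempty_of_preservesTerminal _

instance eps_preservesFiniteLimits : PreservesFiniteLimits (eps X) :=
  preservesFiniteLimits_of_preservesTerminal_and_pullbacks (eps X)

instance eps_flat : RepresentablyFlat (eps X) := flat_of_preservesFiniteLimits (eps X)

end Flat

section Exact

variable (X)

instance hasColimitsOfShape_costructuredArrow_eps (K : (Cl (Pts X))ᵒᵖ) :
    HasColimitsOfShape (CostructuredArrow (eps X).op K) AddCommGrpCat.{1} := by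
  have : HasColimitsOfSize.{0, 1} AddCommGrpCat.{1} :=
    hasColimitsOfSizeShrink.{0, 1, 1, 1} _
  infer_instance

/-- `ε^*` is exact. -/
theorem epsPull_preservesFiniteLimits [EpsCont X] : PreservesFiniteLimits (epsPull X) := by
  have hfilt : ∀ K : (Cl (Pts X))ᵒᵖ, IsFiltered (CostructuredArrow (eps X).op K) := fun K ↦
    IsFiltered.of_equivalence (structuredArrowOpEquivalence (eps X) (unop K))
  have hcolim : ∀ K : (Cl (Pts X))ᵒᵖ, PreservesFiniteLimits
      (colim : (CostructuredArrow (eps X).op K ⥤ AddCommGrpCat.{1}) ⥤ _) := by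
    intro K
    have := hfilt K
    have : PreservesColimitsOfShape (CostructuredArrow (eps X).op K)
        (forget AddCommGrpCat.{1}) := by
      have h1 : PreservesFilteredColimitsOfSize.{0, 1} (forget AddCommGrpCat.{1}) :=
        preservesFilteredColimitsOfSize_shrink.{1, 1, 0, 1} _
      exact h1.preserves_filtered_colimits _
    infer_instance
  have hlan : PreservesFiniteLimits ((eps X).op.lan :
      ((X.Etale)ᵒᵖ ⥤ AddCommGrpCat.{1}) ⥤ (Cl (Pts X))ᵒᵖ ⥤ AddCommGrpCat.{1}) :=
    Groth.Agent.Lib.helper3.lan_preservesFiniteLimits_of_flat_gen _ (eps X)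
  exact Functor.sheafPullbackConstruction.preservesFiniteLimits (eps X)
    AddCommGrpCat.{1} X.smallEtaleTopology (Cl.topology (Pts X))

end Exact

end Groth.Agent.Lib.helper26.AnPts
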