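import Groth.Prelude.Def_AnPts
import Mathlib

/-!
# Basic API for the complex topology on `An.Pts X` (helper26)

* `evHom` : evaluation at a ℂ-point as a ring hom `Γ(X, U) →+* ℂ`;
* compatibility with restriction, structure map;
* for affine `X`: `Pts X` is a closed subspace of `ℂⁿ` for each choice of generators.
-/

set_option autoImplicit false

open AlgebraicGeometry CategoryTheory TopologicalSpace Opposite

namespace Groth.Agent.Lib.helper26.AnPts

open An

variable {X : Scheme.{0}} [X.Over SC]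

/-- Evaluation at a ℂ-point as a ring homomorphism. -/
noncomputable def evHom (x : Pts X) (U : X.Opens) (h : x.pt ∈ U) : Γ(X, U) →+* ℂ :=
  (Scheme.ΓSpecIso (CommRingCat.of ℂ)).hom.hom.comp
    (x.1.appLE U ⊤ (Pts.top_le_preimage x h)).hom

@[simp] lemma evHom_apply (x : Pts X) (U : X.Opens) (h : x.pt ∈ U) (f : Γ(X, U)) :
    evHom x U h f = x.ev U h f := rfl

lemma ev_res (x : Pts X) {U V : X.Opens} (hVU : V ≤ U) (h : x.pt ∈ V) (f : Γ(X, U)) :
    x.ev V h (X.presheaf.map (homOfLE hVU).op f) = x.ev U (hVU h) f := by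
  unfold Pts.ev
  congr 1
  rw [← CommRingCat.comp_apply, Scheme.Hom.map_appLE]

lemma ev_add (x : Pts X) (U : X.Opens) (h : x.pt ∈ U) (f g : Γ(X, U)) :
    x.ev U h (f + g) = x.ev U h f + x.ev U h g := map_add (evHom x U h) f g

lemma ev_mul (x : Pts X) (U : X.Opens) (h : x.pt ∈ U) (f g : Γ(X, U)) :
    x.ev U h (f * g) = x.ev U h f * x.ev U h g := map_mul (evHom x U h) f g

lemma ev_one (x : Pts X) (U : X.Opens) (h : x.pt ∈ U) :
    x.ev U h 1 = 1 := map_one (evHom x U h)

lemma ev_pow (x : Pts X) (U : X.Opens) (h : x.pt ∈ U) (f : Γ(X, U)) (k : ℕ) :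
    x.ev U h (f ^ k) = x.ev U h f ^ k := map_pow (evHom x U h) f k

lemma appLE_top_top {Y Z : Scheme.{0}} (p : Y ⟶ Z) (e : (⊤ : Y.Opens) ≤ p ⁻¹ᵁ ⊤) :
    p.appLE ⊤ ⊤ e = p.appTop := by
  simp [Scheme.Hom.appLE, Scheme.Hom.appTop]

lemma appTop_comp_appLE_section (p : SC ⟶ X) (hp : p ≫ X ↘ SC = 𝟙 SC)
    (e : (⊤ : SC.Opens) ≤ p ⁻¹ᵁ ⊤) :
    (X ↘ SC).appTop ≫ p.appLE ⊤ ⊤ e = 𝟙 _ := by
  rw [appLE_top_top, ← Scheme.Hom.comp_appTop, hp, Scheme.Hom.id_appTop]

/-- Evaluation of a constant. -/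
lemma evTop_strHom (x : Pts X) (c : ℂ) : x.evTop (strHom X c) = c := by
  have h1 := appTop_comp_appLE_section x.1 x.2 (Pts.top_le_preimage x (Opens.mem_top _))
  change (Scheme.ΓSpecIso (CommRingCat.of ℂ)).hom
    (((X ↘ SC).appTop ≫ x.1.appLE ⊤ ⊤ (Pts.top_le_preimage x (Opens.mem_top _)))
      ((Scheme.ΓSpecIso (CommRingCat.of ℂ)).inv c)) = c
  rw [h1]
  simp

/-- Evaluation of global sections as a ring homomorphism. -/
noncomputable abbrev evTopHom (x : Pts X) : Γ(X, ⊤) →+* ℂ := evHom x ⊤ (Opens.mem_top _)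

lemma evTopHom_eq (x : Pts X) :
    evTopHom x = (Scheme.ΓSpecIso (CommRingCat.of ℂ)).hom.hom.comp x.1.appTop.hom := by
  unfold evTopHom evHom
  rw [appLE_top_top]

lemma evTopHom_comp_strHom (x : Pts X) : (evTopHom x).comp (strHom X) = RingHom.id ℂ := by
  ext c
  exact evTop_strHom x c

/-- For affine `X`, a ℂ-point is determined by its evaluation homomorphism. -/
lemma ext_of_evTopHom [IsAffine X] {x y : Pts X} (h : evTopHom x = evTopHom y) : x = y := by
  apply Subtype.ext
  apply ext_of_isAffine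
  rw [evTopHom_eq, evTopHom_eq] at h
  have h2 : x.1.appTop ≫ (Scheme.ΓSpecIso (CommRingCat.of ℂ)).hom =
      y.1.appTop ≫ (Scheme.ΓSpecIso (CommRingCat.of ℂ)).hom := by
    ext1
    exact h
  exact (cancel_mono _).mp h2

lemma isoSpec_inv_appTop' (Y : Scheme.{0}) [IsAffine Y] :
    Y.isoSpec.inv.appTop = (Scheme.ΓSpecIso Γ(Y, ⊤)).inv := by
  rw [← Iso.hom_comp_eq_id, ← Scheme.toSpecΓ_appTop, ← Scheme.isoSpec_hom,
    ← Scheme.Hom.comp_appTop, Iso.inv_hom_id, Scheme.Hom.id_appTop]

lemma appTop_ofRingHom_aux [IsAffine X] (φ : Γ(X, ⊤) ⟶ CommRingCat.of ℂ) :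
    (Spec.map φ ≫ X.isoSpec.inv).appTop ≫
      (Scheme.ΓSpecIso (CommRingCat.of ℂ)).hom = φ := by
  rw [Scheme.Hom.comp_appTop, Category.assoc, Scheme.ΓSpecIso_naturality,
    isoSpec_inv_appTop', Iso.inv_hom_id_assoc]

/-- The ℂ-point of an affine scheme attached to a ℂ-algebra homomorphism `Γ(X, ⊤) → ℂ`. -/
noncomputable def ofRingHom [IsAffine X] (ψ : Γ(X, ⊤) →+* ℂ)
    (hψ : ψ.comp (strHom X) = RingHom.id ℂ) : Pts X :=
  ⟨Spec.map (CommRingCat.ofHom ψ : Γ(X, ⊤) ⟶ CommRingCat.of ℂ) ≫ X.isoSpec.inv, by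
    apply ext_of_isAffine
    rw [← cancel_mono (Scheme.ΓSpecIso (CommRingCat.of ℂ)).hom, Scheme.Hom.comp_appTop,
      Category.assoc, appTop_ofRingHom_aux, Scheme.Hom.id_appTop, Category.id_comp]
    rw [← cancel_epi (Scheme.ΓSpecIso (CommRingCat.of ℂ)).inv, Iso.inv_hom_id]
    ext c
    exact congrArg (fun φ : ℂ →+* ℂ => φ c) hψ⟩

lemma evTopHom_ofRingHom [IsAffine X] (ψ : Γ(X, ⊤) →+* ℂ)
    (hψ : ψ.comp (strHom X) = RingHom.id ℂ) : evTopHom (ofRingHom ψ hψ) = ψ := by
  rw [evTopHom_eq]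
  have := appTop_ofRingHom_aux (X := X) (CommRingCat.ofHom ψ : Γ(X, ⊤) ⟶ CommRingCat.of ℂ)
  exact congrArg CommRingCat.Hom.hom this

/-- Membership of the unique point of `Spec ℂ` in a basic open. -/
lemma cpt_mem_basicOpen_iff (r : Γ(SC, ⊤)) :
    cpt ∈ SC.basicOpen r ↔ (Scheme.ΓSpecIso (CommRingCat.of ℂ)).hom r ≠ 0 := by
  rw [basicOpen_eq_of_affine']
  have h0 : (cpt : PrimeSpectrum ℂ).asIdeal = ⊥ := rfl
  change _ ∉ (cpt : PrimeSpectrum ℂ).asIdeal ↔ _
  rw [h0, Ideal.mem_bot]

/-- A ℂ-point lies in the basic open of `g` iff `g` does not vanish at it. -/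
lemma pt_mem_basicOpen_iff (x : Pts X) (U : X.Opens) (h : x.pt ∈ U) (g : Γ(X, U)) :
    x.pt ∈ X.basicOpen g ↔ x.ev U h g ≠ 0 := by
  unfold Pts.ev
  rw [← cpt_mem_basicOpen_iff, Scheme.basicOpen_appLE]
  constructor
  · intro hx
    exact ⟨trivial, hx⟩
  · rintro ⟨-, hx⟩
    exact hx

lemma pt_mem_basicOpen_top_iff (x : Pts X) (g : Γ(X, ⊤)) :
    x.pt ∈ X.basicOpen g ↔ x.evTop g ≠ 0 :=
  pt_mem_basicOpen_iff x ⊤ (Opens.mem_top _) g

/-- Evaluation of a global section is continuous on `Pts X`. -/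
lemma continuous_evTop (f : Γ(X, ⊤)) : Continuous (fun x : Pts X => x.evTop f) := by
  refine continuous_def.2 fun V hV => ?_
  have h := Pts.isOpen_basicSet (X := X) ⊤ f hV
  have e : Pts.basicSet (X := X) ⊤ f V = (fun x : Pts X => x.evTop f) ⁻¹' V := by
    ext x
    constructor
    · rintro ⟨_, hx⟩
      exact hx
    · intro hx
      exact ⟨Opens.mem_top _, hx⟩
  rwa [e] at h

/-- Local description of a section near a point of an affine scheme as a fraction of global
sections. -/
lemma exists_local_fraction [IsAffine X] (U : X.Opens) (f : Γ(X, U)) (p : X) (hp : p ∈ U) :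
    ∃ (g a : Γ(X, ⊤)) (k : ℕ) (hgU : X.basicOpen g ≤ U), p ∈ X.basicOpen g ∧
      X.presheaf.map (homOfLE hgU).op f * (X.presheaf.map (homOfLE le_top).op g) ^ k =
        X.presheaf.map (homOfLE le_top).op a := by
  obtain ⟨g, hgU, hpg⟩ := (isAffineOpen_top X).exists_basicOpen_le ⟨p, hp⟩ trivial
  have := IsAffineOpen.isLocalization_basicOpen (isAffineOpen_top X) g
  obtain ⟨⟨a, ⟨_, k, rfl⟩⟩, h⟩ :=
    IsLocalization.surj (Submonoid.powers g) (X.presheaf.map (homOfLE hgU).op f)
  refine ⟨g, a, k, hgU, hpg, ?_⟩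
  simp only [RingHom.algebraMap_toAlgebra, map_pow] at h
  exact h

/-- Evaluation of a local fraction. -/
lemma ev_eq_div_of_local_fraction (U : X.Opens) (f : Γ(X, U)) (g a : Γ(X, ⊤)) (k : ℕ)
    (hgU : X.basicOpen g ≤ U)
    (h : X.presheaf.map (homOfLE hgU).op f * (X.presheaf.map (homOfLE le_top).op g) ^ k =
        X.presheaf.map (homOfLE le_top).op a)
    (x : Pts X) (hx : x.pt ∈ X.basicOpen g) :
    x.ev U (hgU hx) f = x.evTop a / x.evTop g ^ k := by
  have h1 := congrArg (x.ev (X.basicOpen g) hx) h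
  rw [ev_mul, ev_pow, ev_res, ev_res, ev_res] at h1
  have h2 : x.evTop g ≠ 0 := (pt_mem_basicOpen_top_iff x g).mp hx
  rw [eq_div_iff (pow_ne_zero k h2)]
  exact h1

section Affine

variable {σ : Type*} (s : σ → Γ(X, ⊤))

/-- The coordinate map attached to global sections `s₁, …, sₙ`. -/
noncomputable def coordMap (x : Pts X) : σ → ℂ := fun i => x.evTop (s i)

lemma continuous_coordMap : Continuous (coordMap s) :=
  continuous_pi fun i => continuous_evTop (s i)

lemma evTop_eval₂ (x : Pts X) (p : MvPolynomial σ ℂ) :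
    x.evTop (MvPolynomial.eval₂Hom (strHom X) s p) = MvPolynomial.eval (coordMap s x) p := by
  have : (evTopHom x).comp (MvPolynomial.eval₂Hom (strHom X) s) =
      MvPolynomial.eval (coordMap s x) := by
    apply MvPolynomial.ringHom_ext
    · intro c
      simp only [RingHom.comp_apply, MvPolynomial.eval₂Hom_C, MvPolynomial.eval_C]
      exact evTop_strHom x c
    · intro i
      simp only [RingHom.comp_apply, MvPolynomial.eval₂Hom_X', MvPolynomial.eval_X]
      rfl
  exact congrArg (fun φ => φ p) this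

variable {s}

lemma coordMap_injective [IsAffine X]
    (hs : Function.Surjective (MvPolynomial.eval₂Hom (strHom X) s)) :
    Function.Injective (coordMap s) := by
  intro x y hxy
  apply ext_of_evTopHom
  ext f
  obtain ⟨p, rfl⟩ := hs f
  change x.evTop _ = y.evTop _
  rw [evTop_eval₂, evTop_eval₂, hxy]

lemma isInducing_coordMap [IsAffine X]
    (hs : Function.Surjective (MvPolynomial.eval₂Hom (strHom X) s)) :
    Topology.IsInducing (coordMap s) := by
  rw [Topology.isInducing_iff_nhds]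
  intro x₀
  apply le_antisymm
  · exact ((continuous_coordMap s).tendsto x₀).le_comap
  · change _ ≤ @nhds _ (TopologicalSpace.generateFrom _) x₀
    rw [TopologicalSpace.nhds_generateFrom]
    refine le_iInf₂ ?_
    rintro _ ⟨hx₀, U, f, V, hV, rfl⟩
    rw [Filter.le_principal_iff, Filter.mem_comap]
    obtain ⟨hU, hfV⟩ := hx₀
    obtain ⟨g, a, k, hgU, hpg, hfrac⟩ := exists_local_fraction U f x₀.pt hU
    obtain ⟨G, rfl⟩ := hs g
    obtain ⟨A, rfl⟩ := hs a
    set g := MvPolynomial.eval₂Hom (strHom X) s G with hg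
    set a := MvPolynomial.eval₂Hom (strHom X) s A with ha
    refine ⟨{z | MvPolynomial.eval z G ≠ 0} ∩
      (fun z => MvPolynomial.eval z A / MvPolynomial.eval z G ^ k) ⁻¹' V, ?_, ?_⟩
    · apply IsOpen.mem_nhds
      · have hopen : IsOpen {z : σ → ℂ | MvPolynomial.eval z G ≠ 0} :=
          isOpen_ne_fun (MvPolynomial.continuous_eval G) continuous_const
        refine ContinuousOn.isOpen_inter_preimage ?_ hopen hV
        apply ContinuousOn.div
        · exact (MvPolynomial.continuous_eval A).continuousOn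
        · exact ((MvPolynomial.continuous_eval G).pow k).continuousOn
        · intro z hz
          exact pow_ne_zero k hz
      · have h2 : x₀.evTop g ≠ 0 := (pt_mem_basicOpen_top_iff x₀ g).mp hpg
        refine ⟨?_, ?_⟩
        · change MvPolynomial.eval (coordMap s x₀) G ≠ 0
          rw [← evTop_eval₂]
          exact h2
        · change MvPolynomial.eval (coordMap s x₀) A / MvPolynomial.eval (coordMap s x₀) G ^ k ∈ V
          rw [← evTop_eval₂, ← evTop_eval₂,
            ← ev_eq_div_of_local_fraction U f g a k hgU hfrac x₀ hpg]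
          exact hfV
    · rintro x ⟨hx1, hx2⟩
      change MvPolynomial.eval (coordMap s x) G ≠ 0 at hx1
      change MvPolynomial.eval (coordMap s x) A / MvPolynomial.eval (coordMap s x) G ^ k ∈ V
        at hx2
      rw [← evTop_eval₂] at hx1
      rw [← evTop_eval₂, ← evTop_eval₂] at hx2
      have hx : x.pt ∈ X.basicOpen g := (pt_mem_basicOpen_top_iff x g).mpr hx1
      refine ⟨hgU hx, ?_⟩
      rw [ev_eq_div_of_local_fraction U f g a k hgU hfrac x hx]
      exact hx2

lemma range_coordMap [IsAffine X]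
    (hs : Function.Surjective (MvPolynomial.eval₂Hom (strHom X) s)) :
    Set.range (coordMap s) =
      {z | ∀ p ∈ RingHom.ker (MvPolynomial.eval₂Hom (strHom X) s), MvPolynomial.eval z p = 0} := by
  ext z
  constructor
  · rintro ⟨x, rfl⟩ p hp
    rw [← evTop_eval₂, (RingHom.mem_ker).mp hp]
    exact map_zero (evTopHom x)
  · intro hz
    have hker : RingHom.ker (MvPolynomial.eval₂Hom (strHom X) s) ≤
        RingHom.ker (MvPolynomial.eval z) := fun p hp => (RingHom.mem_ker).mpr (hz p hp)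
    set ψ : Γ(X, ⊤) →+* ℂ :=
      (MvPolynomial.eval₂Hom (strHom X) s).liftOfSurjective hs ⟨MvPolynomial.eval z, hker⟩ with hψ
    have hψ1 : ∀ p, ψ (MvPolynomial.eval₂Hom (strHom X) s p) = MvPolynomial.eval z p := fun p =>
      RingHom.liftOfSurjective_comp_apply _ hs ⟨MvPolynomial.eval z, hker⟩ p
    have hψ2 : ψ.comp (strHom X) = RingHom.id ℂ := by
      ext c
      have := hψ1 (MvPolynomial.C c)
      rw [MvPolynomial.eval₂Hom_C, MvPolynomial.eval_C] at this
      exact this
    refine ⟨ofRingHom ψ hψ2, ?_⟩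
    funext i
    change evTopHom (ofRingHom ψ hψ2) (s i) = z i
    rw [evTopHom_ofRingHom]
    have := hψ1 (MvPolynomial.X i)
    rw [MvPolynomial.eval₂Hom_X', MvPolynomial.eval_X] at this
    exact this

lemma isClosed_range_coordMap [IsAffine X]
    (hs : Function.Surjective (MvPolynomial.eval₂Hom (strHom X) s)) :
    IsClosed (Set.range (coordMap s)) := by
  rw [range_coordMap hs]
  have : {z : σ → ℂ | ∀ p ∈ RingHom.ker (MvPolynomial.eval₂Hom (strHom X) s),
      MvPolynomial.eval z p = 0} =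
      ⋂ p ∈ RingHom.ker (MvPolynomial.eval₂Hom (strHom X) s),
        {z : σ → ℂ | MvPolynomial.eval z p = 0} := by
    ext z
    simp only [Set.mem_ofPred_eq, Set.mem_iInter]
  rw [this]
  exact isClosed_biInter fun p _ => isClosed_eq (MvPolynomial.continuous_eval p) continuous_const

/-- **Closed embedding into `ℂⁿ`** attached to a system of generators. -/
theorem isClosedEmbedding_coordMap [IsAffine X]
    (hs : Function.Surjective (MvPolynomial.eval₂Hom (strHom X) s)) :
    Topology.IsClosedEmbedding (coordMap s) :=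
  ⟨⟨isInducing_coordMap hs, coordMap_injective hs⟩, isClosed_range_coordMap hs⟩

end Affine

section OpenImmersion

variable {Y : Scheme.{0}} [Y.Over SC]

lemma basicSet_congr {W W' : X.Opens} (e : W' = W) (f : Γ(X, W)) (V : Set ℂ) :
    Pts.basicSet W' (X.presheaf.map (eqToHom e).op f) V = Pts.basicSet W f V := by
  subst e
  simp

lemma map_injective_of_mono (j : X ⟶ Y) [j.IsOver SC] [Mono j] :
    Function.Injective (Pts.map j) := by
  intro x y h
  apply Subtype.ext
  have h1 : x.1 ≫ j = y.1 ≫ j := congrArg Subtype.val h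
  exact (cancel_mono j).mp h1

lemma range_base_eq (y : Pts Y) : Set.range y.1 = {y.pt} := by
  ext p
  constructor
  · rintro ⟨q, rfl⟩
    rw [eq_cpt q]
    rfl
  · rintro rfl
    exact ⟨cpt, rfl⟩

lemma range_map_of_isOpenImmersion (j : X ⟶ Y) [j.IsOver SC] [IsOpenImmersion j] :
    Set.range (Pts.map j) = Pts.pt ⁻¹' (j.opensRange : Set Y) := by
  ext y
  constructor
  · rintro ⟨x, rfl⟩
    rw [Set.mem_preimage, Pts.pt_map]
    exact ⟨x.pt, rfl⟩
  · intro hy
    have hr : Set.range y.1 ⊆ Set.range j := by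
      rw [range_base_eq]
      rintro _ rfl
      exact hy
    refine ⟨⟨IsOpenImmersion.lift j y.1 hr, ?_⟩, ?_⟩
    · rw [← comp_over j SC, ← Category.assoc, IsOpenImmersion.lift_fac]
      exact y.2
    · apply Subtype.ext
      exact IsOpenImmersion.lift_fac j y.1 hr

/-- An open immersion over `ℂ` induces an open embedding on ℂ-points. -/
theorem isOpenEmbedding_map (j : X ⟶ Y) [j.IsOver SC] [IsOpenImmersion j] :
    Topology.IsOpenEmbedding (Pts.map j) := by
  refine ⟨⟨⟨?_⟩, map_injective_of_mono j⟩, ?_⟩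
  · apply le_antisymm
    · exact (Pts.continuous_map j).le_induced
    · apply le_generateFrom
      rintro _ ⟨W, f, V, hV, rfl⟩
      rw [isOpen_induced_iff]
      refine ⟨Pts.basicSet (j ''ᵁ W) ((j.appIso W).inv f) V, Pts.isOpen_basicSet _ _ hV, ?_⟩
      rw [Pts.preimage_basicSet, ← basicSet_congr (j.preimage_image_eq W) f V,
        ← Scheme.Hom.appIso_inv_app]
      rfl
  · rw [range_map_of_isOpenImmersion]
    exact Pts.isOpen_preimage_pt _

end OpenImmersion

section Charts

/-- An affine scheme of finite type over `ℂ` has a finite system of generators. -/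
lemma exists_generators (X : Scheme.{0}) [X.Over SC] [IsAffine X]
    [LocallyOfFiniteType (X ↘ SC)] :
    ∃ (n : ℕ) (s : Fin n → Γ(X, ⊤)),
      Function.Surjective (MvPolynomial.eval₂Hom (strHom X) s) := by
  have h1 : RingHom.FiniteType (X ↘ SC).appTop.hom :=
    (HasRingHomProperty.iff_of_isAffine (P := @LocallyOfFiniteType)).mp inferInstance
  have h2 : RingHom.FiniteType (strHom X) := by
    unfold strHom
    refine h1.comp (RingHom.FiniteType.of_surjective _ ?_)
    exact (ConcreteCategory.bijective_of_isIso (Scheme.ΓSpecIso (CommRingCat.of ℂ)).inv).2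
  let : Algebra ℂ Γ(X, ⊤) := (strHom X).toAlgebra
  have h3 : Algebra.FiniteType ℂ Γ(X, ⊤) := h2
  obtain ⟨n, f, hf⟩ := Algebra.FiniteType.iff_quotient_mvPolynomial''.mp h3
  refine ⟨n, fun i => f (MvPolynomial.X i), ?_⟩
  have e : ∀ p, MvPolynomial.eval₂Hom (strHom X) (fun i => f (MvPolynomial.X i)) p = f p := by
    intro p
    conv_rhs => rw [MvPolynomial.aeval_unique f]
    rfl
  intro y
  obtain ⟨p, rfl⟩ := hf y
  exact ⟨p, e p⟩

variable (X) in
/-- Around every ℂ-point there is an affine open chart with a closed embedding into `ℂⁿ`. -/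
lemma exists_affine_chart [LocallyOfFiniteType (X ↘ SC)] (p : X) :
    ∃ (U : X.Opens) (_ : IsAffineOpen U) (n : ℕ) (s : Fin n → Γ(U.toScheme, ⊤)),
      p ∈ U ∧ Function.Surjective (MvPolynomial.eval₂Hom (strHom U.toScheme) s) := by
  obtain ⟨U, hU, hpU, -⟩ := exists_isAffineOpen_mem_and_subset (x := p) (U := ⊤) trivial
  have : IsAffine U.toScheme := hU
  have : LocallyOfFiniteType (U.toScheme ↘ SC) :=
    inferInstanceAs (LocallyOfFiniteType (U.ι ≫ X ↘ SC))
  obtain ⟨n, s, hs⟩ := exists_generators U.toScheme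
  exact ⟨U, hU, n, s, hpU, hs⟩

/-- For `X` locally of finite type over `ℂ`, `X(ℂ)` is locally compact. -/
theorem locallyCompactSpace_pts [LocallyOfFiniteType (X ↘ SC)] : LocallyCompactSpace (Pts X) := by
  refine ⟨fun x N hN => ?_⟩
  obtain ⟨U, hU, n, s, hxU, hs⟩ := exists_affine_chart X x.pt
  have : IsAffine U.toScheme := hU
  have hce := isClosedEmbedding_coordMap hs
  have : LocallyCompactSpace (Pts U.toScheme) := hce.locallyCompactSpace
  have hoe := isOpenEmbedding_map U.ι
  have hx : x ∈ Set.range (Pts.map U.ι) := by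
    rw [range_map_of_isOpenImmersion]
    change x.pt ∈ (U.ι.opensRange : Set X)
    rw [Scheme.Opens.opensRange_ι]
    exact hxU
  obtain ⟨y, rfl⟩ := hx
  have hN' : Pts.map U.ι ⁻¹' N ∈ nhds y := hoe.continuous.continuousAt hN
  obtain ⟨K, hK, hKN, hKc⟩ := local_compact_nhds hN'
  exact ⟨Pts.map U.ι '' K, hoe.image_mem_nhds.mpr hK, Set.image_subset_iff.mpr hKN,
    hKc.image hoe.continuous⟩

end Charts

section ClosedPoints

lemma closedPoint_eq_cpt : (IsLocalRing.closedPoint ℂ : ↥SC) = cpt := eq_cpt _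

variable (X) in
/-- ℂ-points correspond bijectively to closed points (Mathlib's `pointEquivClosedPoint`). -/
noncomputable def ptsEquivClosedPoints [LocallyOfFiniteType (X ↘ SC)] :
    Pts X ≃ closedPoints X :=
  pointEquivClosedPoint (K := ℂ) (X ↘ SC)

lemma ptsEquivClosedPoints_apply [LocallyOfFiniteType (X ↘ SC)] (x : Pts X) :
    (ptsEquivClosedPoints X x : X) = x.pt := by
  change x.1 (IsLocalRing.closedPoint ℂ) = x.1 cpt
  rw [closedPoint_eq_cpt]

lemma pt_injective [LocallyOfFiniteType (X ↘ SC)] : Function.Injective (Pts.pt : Pts X → X) := by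
  intro x y h
  apply (ptsEquivClosedPoints X).injective
  apply Subtype.ext
  rw [ptsEquivClosedPoints_apply, ptsEquivClosedPoints_apply, h]

lemma isClosed_singleton_pt [LocallyOfFiniteType (X ↘ SC)] (x : Pts X) : IsClosed {x.pt} := by
  rw [← ptsEquivClosedPoints_apply]
  exact (ptsEquivClosedPoints X x).2

lemma exists_pt_eq [LocallyOfFiniteType (X ↘ SC)] (p : X) (hp : IsClosed {p}) :
    ∃ x : Pts X, x.pt = p := by
  refine ⟨(ptsEquivClosedPoints X).symm ⟨p, hp⟩, ?_⟩
  rw [← ptsEquivClosedPoints_apply, Equiv.apply_symm_apply]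

lemma range_pt [LocallyOfFiniteType (X ↘ SC)] :
    Set.range (Pts.pt : Pts X → X) = closedPoints X := by
  ext p
  constructor
  · rintro ⟨x, rfl⟩
    exact isClosed_singleton_pt x
  · intro hp
    exact exists_pt_eq p hp

end ClosedPoints

section ClosedImmersion

variable {Y : Scheme.{0}} [Y.Over SC]

/-- Criterion for a filter to be finer than the neighbourhood filter of a ℂ-point. -/
lemma le_nhds_of_basicSet {F : Filter (Pts X)} {x : Pts X}
    (h : ∀ (U : X.Opens) (f : Γ(X, U)) (V : Set ℂ), IsOpen V → x ∈ Pts.basicSet U f V →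
      Pts.basicSet U f V ∈ F) : F ≤ nhds x := by
  have e : nhds x = ⨅ s ∈ {s | x ∈ s ∧ s ∈ {S | ∃ (U : X.Opens) (f : Γ(X, U)) (V : Set ℂ),
      IsOpen V ∧ S = Pts.basicSet U f V}}, Filter.principal s :=
    TopologicalSpace.nhds_generateFrom
  rw [e]
  refine le_iInf₂ ?_
  rintro _ ⟨hx, U, f, V, hV, rfl⟩
  rw [Filter.le_principal_iff]
  exact h U f V hV hx

lemma basicSet_res {W W' : X.Opens} (hW : W' ≤ W) (h : Γ(X, W)) (V : Set ℂ) :
    Pts.basicSet W' (X.presheaf.map (homOfLE hW).op h) V =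
      Pts.basicSet W h V ∩ Pts.pt ⁻¹' (W' : Set X) := by
  ext x
  constructor
  · rintro ⟨hx, hv⟩
    rw [ev_res] at hv
    exact ⟨⟨hW hx, hv⟩, hx⟩
  · rintro ⟨⟨hx, hv⟩, hx'⟩
    refine ⟨hx', ?_⟩
    rw [ev_res]
    exact hv

lemma range_map_of_isClosedImmersion [LocallyOfFiniteType (X ↘ SC)]
    [LocallyOfFiniteType (Y ↘ SC)] (f : X ⟶ Y) [f.IsOver SC] [IsClosedImmersion f] :
    Set.range (Pts.map f) = Pts.pt ⁻¹' (Set.range f) := by
  ext y
  constructor
  · rintro ⟨x, rfl⟩
    rw [Set.mem_preimage, Pts.pt_map]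
    exact ⟨x.pt, rfl⟩
  · rintro ⟨p, hp⟩
    have hpc : IsClosed {p} := by
      have : ({p} : Set X) = f ⁻¹' {y.pt} := by
        ext q
        simp only [Set.mem_singleton_iff, Set.mem_preimage]
        constructor
        · rintro rfl
          exact hp
        · intro hq
          exact f.isClosedEmbedding.injective (hq.trans hp.symm)
      rw [this]
      exact (isClosed_singleton_pt y).preimage f.continuous
    obtain ⟨x, rfl⟩ := exists_pt_eq p hpc
    refine ⟨x, pt_injective ?_⟩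
    rw [Pts.pt_map, hp]

/-- A closed immersion over `ℂ` induces a closed embedding on ℂ-points. -/
theorem isClosedEmbedding_map [LocallyOfFiniteType (X ↘ SC)]
    [LocallyOfFiniteType (Y ↘ SC)] (f : X ⟶ Y) [f.IsOver SC] [IsClosedImmersion f] :
    Topology.IsClosedEmbedding (Pts.map f) := by
  refine ⟨⟨?_, map_injective_of_mono f⟩, ?_⟩
  · rw [Topology.isInducing_iff_nhds]
    intro x₀
    apply le_antisymm
    · exact ((Pts.continuous_map f).tendsto x₀).le_comap
    · refine le_nhds_of_basicSet ?_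
      intro W h V hV hx₀
      rw [Filter.mem_comap]
      obtain ⟨W', hW'o, hW'⟩ := f.isClosedEmbedding.isInducing.isOpen_iff.mp W.2
      have hx₀W : f x₀.pt ∈ (⟨W', hW'o⟩ : Y.Opens) := by
        change x₀.pt ∈ f ⁻¹' W'
        rw [hW']
        exact hx₀.1
      obtain ⟨V₀, hV₀, hxV₀, hV₀W⟩ := exists_isAffineOpen_mem_and_subset hx₀W
      have hle : f ⁻¹ᵁ V₀ ≤ W := by
        intro q hq
        have : q ∈ f ⁻¹' W' := hV₀W hq
        rw [hW'] at this
        exact this
      obtain ⟨b, hb⟩ := f.app_surjective V₀ hV₀ (X.presheaf.map (homOfLE hle).op h)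
      have hpre : Pts.map f ⁻¹' Pts.basicSet V₀ b V =
          Pts.basicSet W h V ∩ Pts.pt ⁻¹' ((f ⁻¹ᵁ V₀ : X.Opens) : Set X) := by
        rw [Pts.preimage_basicSet, hb, basicSet_res]
      refine ⟨Pts.basicSet V₀ b V, (Pts.isOpen_basicSet V₀ b hV).mem_nhds ?_, ?_⟩
      · change x₀ ∈ Pts.map f ⁻¹' Pts.basicSet V₀ b V
        rw [hpre]
        exact ⟨hx₀, hxV₀⟩
      · rw [hpre]
        exact Set.inter_subset_left
  · rw [range_map_of_isClosedImmersion]
    exact f.isClosedEmbedding.isClosed_range.preimage Pts.continuous_pt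

end ClosedImmersion

section Immersion

variable {Y : Scheme.{0}} [Y.Over SC]

/-- An immersion over `ℂ` induces an embedding with locally closed range on ℂ-points. -/
theorem isEmbedding_map_of_isImmersion [LocallyOfFiniteType (X ↘ SC)]
    [LocallyOfFiniteType (Y ↘ SC)] (f : X ⟶ Y) [f.IsOver SC] [IsImmersion f] :
    Topology.IsEmbedding (Pts.map f) ∧ IsLocallyClosed (Set.range (Pts.map f)) := by
  let U : Y.Opens := f.coborderRange
  let g : X ⟶ U.toScheme := f.liftCoborder
  have hg : g ≫ U.ι = f := f.liftCoborder_ι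
  have : LocallyOfFiniteType (U.toScheme ↘ SC) :=
    inferInstanceAs (LocallyOfFiniteType (U.ι ≫ Y ↘ SC))
  have : g.IsOver SC := ⟨by
    change g ≫ U.ι ≫ (Y ↘ SC) = X ↘ SC
    rw [← Category.assoc, hg, comp_over f SC]⟩
  have : IsClosedImmersion g := inferInstanceAs (IsClosedImmersion f.liftCoborder)
  have hce := isClosedEmbedding_map g
  have hoe := isOpenEmbedding_map U.ι
  have hcomp : Pts.map f = Pts.map U.ι ∘ Pts.map g := by
    funext x
    apply Subtype.ext
    change x.1 ≫ f = (x.1 ≫ g) ≫ U.ι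
    rw [Category.assoc, hg]
  rw [hcomp]
  refine ⟨hoe.isEmbedding.comp hce.isEmbedding, ?_⟩
  rw [Set.range_comp]
  exact hce.isClosed_range.isLocallyClosed.image hoe.isInducing hoe.isOpen_range.isLocallyClosed

end Immersion

end Groth.Agent.Lib.helper26.AnPts
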