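import Groth.Agent.Lib.Helper26.AnPts

/-!
# Discreteness of `X(ℂ)` versus discreteness of `X` (helper26)
-/

set_option autoImplicit false

open AlgebraicGeometry CategoryTheory TopologicalSpace Opposite

namespace Groth.Agent.Lib.helper26.AnPts

open An

variable {X : Scheme.{0}} [X.Over SC]

/-- A global section which vanishes at no ℂ-point is a unit. -/
lemma exists_evTop_eq_zero_of_not_isUnit [LocallyOfFiniteType (X ↘ SC)] (a : Γ(X, ⊤))
    (ha : ¬ IsUnit a) : ∃ x : Pts X, x.evTop a = 0 := by
  by_contra h
  push Not at h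
  apply ha
  have : JacobsonSpace ↥X := LocallyOfFiniteType.jacobsonSpace (X ↘ SC)
  have htop : ∀ p : X, p ∈ X.basicOpen a := by
    by_contra hp
    push Not at hp
    obtain ⟨p, hp⟩ := hp
    have hZ : ((X.basicOpen a : Set X)ᶜ).Nonempty := ⟨p, hp⟩
    obtain ⟨q, hq, hqc⟩ := nonempty_inter_closedPoints hZ
      (X.basicOpen a).2.isClosed_compl.isLocallyClosed
    obtain ⟨x, rfl⟩ := exists_pt_eq q hqc
    exact hq ((pt_mem_basicOpen_top_iff x a).mpr (h x))
  apply RingedSpace.isUnit_of_isUnit_germ X.toRingedSpace ⊤ a
  intro p hp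
  exact (X.mem_basicOpen_top a p).mp (htop p)

/-- Ring-theoretic input: a finitely generated `ℂ`-algebra which is not finite-dimensional has an
element all of whose translates by constants are non-units. -/
lemma exists_forall_not_isUnit_sub {A : Type} [CommRing A] [Algebra ℂ A]
    [Algebra.FiniteType ℂ A] (h : ¬ Module.Finite ℂ A) :
    ∃ a : A, ∀ c : ℂ, ¬ IsUnit (a - algebraMap ℂ A c) := by
  have hnt : Nontrivial A := by
    by_contra hn
    rw [not_nontrivial_iff_subsingleton] at hn
    exact h inferInstance
  obtain ⟨s, g, hinj, hfin⟩ := exists_finite_inj_algHom_of_fg ℂ A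
  rcases Nat.eq_zero_or_pos s with rfl | hs
  · exfalso
    apply h
    rw [← RingHom.finite_algebraMap]
    have h1 : algebraMap ℂ A = g.toRingHom.comp (algebraMap ℂ (MvPolynomial (Fin 0) ℂ)) := by
      ext c
      simp
    rw [h1]
    refine RingHom.Finite.comp hfin (RingHom.Finite.of_surjective _ ?_)
    exact MvPolynomial.C_surjective (Fin 0)
  · refine ⟨g (MvPolynomial.X ⟨0, hs⟩), fun c hu => ?_⟩
    have e : g (MvPolynomial.X ⟨0, hs⟩) - algebraMap ℂ A c =
        g (MvPolynomial.X ⟨0, hs⟩ - MvPolynomial.C c) := by
      rw [map_sub, ← MvPolynomial.algebraMap_eq, AlgHom.commutes]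
    rw [e] at hu
    have hI : (Ideal.span {(MvPolynomial.X ⟨0, hs⟩ - MvPolynomial.C c :
        MvPolynomial (Fin s) ℂ)}).map g.toRingHom = ⊤ := by
      rw [Ideal.map_span, Set.image_singleton, Ideal.span_singleton_eq_top]
      exact hu
    rw [Ideal.map_eq_top_iff g.toRingHom hinj hfin.to_isIntegral,
      Ideal.span_singleton_eq_top] at hI
    have := hI.map (MvPolynomial.eval (fun _ : Fin s => c))
    simp at this

/-- `strHom` is of finite type for an affine scheme of finite type. -/
lemma finiteType_strHom (X : Scheme.{0}) [X.Over SC] [IsAffine X]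
    [LocallyOfFiniteType (X ↘ SC)] : RingHom.FiniteType (strHom X) := by
  have h1 : RingHom.FiniteType (X ↘ SC).appTop.hom :=
    (HasRingHomProperty.iff_of_isAffine (P := @LocallyOfFiniteType)).mp inferInstance
  unfold strHom
  refine h1.comp (RingHom.FiniteType.of_surjective _ ?_)
  exact (ConcreteCategory.bijective_of_isIso (Scheme.ΓSpecIso (CommRingCat.of ℂ)).inv).2

lemma countable_pts_of_discrete [IsAffine X] [LocallyOfFiniteType (X ↘ SC)]
    [DiscreteTopology (Pts X)] : Countable (Pts X) := by
  obtain ⟨n, s, hs⟩ := exists_generators X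
  have hce := isClosedEmbedding_coordMap hs
  have : SecondCountableTopology (Pts X) := hce.isEmbedding.secondCountableTopology
  exact TopologicalSpace.separableSpace_iff_countable.mp inferInstance

/-- Affine case: if `X(ℂ)` is discrete then `X` is discrete. -/
lemma discreteTopology_of_affine [IsAffine X] [LocallyOfFiniteType (X ↘ SC)]
    [DiscreteTopology (Pts X)] : DiscreteTopology ↥X := by
  have hcount : Countable (Pts X) := countable_pts_of_discrete
  let _ : Algebra ℂ Γ(X, ⊤) := (strHom X).toAlgebra
  have hft : Algebra.FiniteType ℂ Γ(X, ⊤) := finiteType_strHom X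
  have hfin : Module.Finite ℂ Γ(X, ⊤) := by
    by_contra hnf
    obtain ⟨a, ha⟩ := exists_forall_not_isUnit_sub hnf
    have hsurj : Function.Surjective (fun x : Pts X => x.evTop a) := by
      intro c
      obtain ⟨x, hx⟩ := exists_evTop_eq_zero_of_not_isUnit (a - algebraMap ℂ Γ(X, ⊤) c) (ha c)
      refine ⟨x, ?_⟩
      have h1 : x.evTop (a - algebraMap ℂ Γ(X, ⊤) c) = x.evTop a - c := by
        change evTopHom x (a - strHom X c) = evTopHom x a - c
        rw [map_sub]
        congr 1
        exact evTop_strHom x c
      rw [h1, sub_eq_zero] at hx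
      exact hx
    have : Countable ℂ := hsurj.countable
    exact not_countable_complex Set.countable_univ
  have : IsArtinianRing Γ(X, ⊤) := IsArtinianRing.of_finite ℂ Γ(X, ⊤)
  have : DiscreteTopology (Spec Γ(X, ⊤)) := inferInstanceAs (DiscreteTopology (PrimeSpectrum _))
  exact X.isoSpec.hom.homeomorph.symm.discreteTopology

/-- `X` is discrete iff `X(ℂ)` is discrete. -/
theorem discreteTopology_iff [LocallyOfFiniteType (X ↘ SC)] :
    DiscreteTopology ↥X ↔ DiscreteTopology (Pts X) := by
  constructor
  · intro _
    exact DiscreteTopology.of_continuous_injective Pts.continuous_pt pt_injective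
  · intro _
    apply discreteTopology_iff_isOpen_singleton.mpr
    intro p
    obtain ⟨U, hU, hpU, -⟩ := exists_isAffineOpen_mem_and_subset (x := p) (U := ⊤) trivial
    have : IsAffine U.toScheme := hU
    have : LocallyOfFiniteType (U.toScheme ↘ SC) :=
      inferInstanceAs (LocallyOfFiniteType (U.ι ≫ X ↘ SC))
    have : DiscreteTopology (Pts U.toScheme) :=
      (isOpenEmbedding_map U.ι).isEmbedding.discreteTopology
    have : DiscreteTopology U.toScheme := discreteTopology_of_affine
    obtain ⟨z, rfl⟩ : ∃ z : U.toScheme, U.ι z = p := by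
      have : p ∈ U.ι.opensRange := by
        rw [Scheme.Opens.opensRange_ι]
        exact hpU
      exact this
    have h1 : IsOpen ({z} : Set U.toScheme) := isOpen_discrete _
    have h2 := U.ι.isOpenEmbedding.isOpenMap _ h1
    rw [Set.image_singleton] at h2
    exact h2

end Groth.Agent.Lib.helper26.AnPts
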