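import Groth.Agent.Lib.Helper26.AnPts

/-!
# ℂ-points of fibre products (helper26)
-/

set_option autoImplicit false

open AlgebraicGeometry CategoryTheory CategoryTheory.Limits TopologicalSpace Opposite

namespace Groth.Agent.Lib.helper26.AnPts

open An

/-- Global sections of a fibre product of affine schemes are generated, as a ring, by the
pullbacks of the global sections of the two factors. (Proved from the universal property
only.) -/
lemma closure_range_appTop_pullback {X₀ Y₀ S₀ : Scheme.{0}} [IsAffine X₀] [IsAffine Y₀]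
    [IsAffine S₀] (f : X₀ ⟶ S₀) (g : Y₀ ⟶ S₀) :
    Subring.closure (Set.range (pullback.fst f g).appTop ∪ Set.range (pullback.snd f g).appTop)
      = ⊤ := by
  set Q := pullback f g with hQ
  set p : Q ⟶ X₀ := pullback.fst f g with hp
  set q : Q ⟶ Y₀ := pullback.snd f g with hq
  set R' : Subring Γ(Q, ⊤) :=
    Subring.closure (Set.range p.appTop ∪ Set.range q.appTop) with hR'
  let R'c : CommRingCat := CommRingCat.of R'
  let ι : R'c ⟶ Γ(Q, ⊤) := CommRingCat.ofHom R'.subtype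
  let α : Γ(X₀, ⊤) ⟶ R'c := CommRingCat.ofHom
    (p.appTop.hom.codRestrict R' (fun a => Subring.subset_closure (Or.inl ⟨a, rfl⟩)))
  let β : Γ(Y₀, ⊤) ⟶ R'c := CommRingCat.ofHom
    (q.appTop.hom.codRestrict R' (fun a => Subring.subset_closure (Or.inr ⟨a, rfl⟩)))
  have hαι : α ≫ ι = p.appTop := by ext a; rfl
  have hβι : β ≫ ι = q.appTop := by ext a; rfl
  have hαβ : f.appTop ≫ α = g.appTop ≫ β := by
    ext c
    change p.appTop (f.appTop c) = q.appTop (g.appTop c)
    rw [← CommRingCat.comp_apply, ← CommRingCat.comp_apply, ← Scheme.Hom.comp_appTop,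
      ← Scheme.Hom.comp_appTop, pullback.condition]
  let u₁ : Spec R'c ⟶ X₀ := Spec.map α ≫ X₀.isoSpec.inv
  let u₂ : Spec R'c ⟶ Y₀ := Spec.map β ≫ Y₀.isoSpec.inv
  have hcomm : u₁ ≫ f = u₂ ≫ g := by
    apply ext_of_isAffine
    simp only [u₁, u₂, Scheme.Hom.comp_appTop, isoSpec_inv_appTop', Category.assoc]
    rw [← Scheme.ΓSpecIso_inv_naturality, ← Scheme.ΓSpecIso_inv_naturality,
      reassoc_of% hαβ]
  let u : Spec R'c ⟶ Q := pullback.lift u₁ u₂ hcomm
  let j : Q ⟶ Spec R'c := Q.isoSpec.hom ≫ Spec.map ι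
  have hju : j ≫ u = 𝟙 Q := by
    apply pullback.hom_ext
    · simp only [j, u, u₁, Category.assoc, pullback.lift_fst, Category.id_comp]
      rw [← Spec.map_comp_assoc, hαι, Scheme.isoSpec_inv_naturality, Iso.hom_inv_id_assoc]
    · simp only [j, u, u₂, Category.assoc, pullback.lift_snd, Category.id_comp]
      rw [← Spec.map_comp_assoc, hβι, Scheme.isoSpec_inv_naturality, Iso.hom_inv_id_assoc]
  have happ : u.appTop ≫ (Scheme.ΓSpecIso R'c).hom ≫ ι = 𝟙 _ := by
    have h1 := congrArg Scheme.Hom.appTop hju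
    rw [Scheme.Hom.comp_appTop, Scheme.Hom.id_appTop] at h1
    rw [← h1]
    congr 1
    simp only [j, Scheme.Hom.comp_appTop, Scheme.isoSpec_hom, Scheme.toSpecΓ_appTop,
      Scheme.ΓSpecIso_naturality]
  rw [eq_top_iff]
  intro r _
  have h2 := congrArg (fun φ => φ r) happ
  simp only [CommRingCat.comp_apply, CommRingCat.id_apply] at h2
  rw [← h2]
  exact Subtype.property _

section Naturality

variable {X Y : Scheme.{0}} [X.Over SC] [Y.Over SC]

lemma appTop_strHom (h : X ⟶ Y) [h.IsOver SC] (c : ℂ) :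
    h.appTop (strHom Y c) = strHom X c := by
  unfold strHom
  simp only [RingHom.comp_apply]
  rw [← CommRingCat.comp_apply, ← Scheme.Hom.comp_appTop, comp_over h SC]

lemma appTop_comp_strHom (h : X ⟶ Y) [h.IsOver SC] :
    h.appTop.hom.comp (strHom Y) = strHom X := by
  ext c
  exact appTop_strHom h c

lemma evTop_map (h : X ⟶ Y) [h.IsOver SC] (x : Pts X) (a : Γ(Y, ⊤)) :
    (Pts.map h x).evTop a = x.evTop (h.appTop a) :=
  Pts.ev_map h x ⊤ (Opens.mem_top _) a

end Naturality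

/-- Generators for the coordinate ring of a fibre product of affine schemes over `ℂ`. -/
lemma surjective_eval₂Hom_pullback {X₀ Y₀ S₀ : Scheme.{0}} [X₀.Over SC] [Y₀.Over SC]
    [S₀.Over SC] [IsAffine X₀] [IsAffine Y₀] [IsAffine S₀] (f : X₀ ⟶ S₀) (g : Y₀ ⟶ S₀)
    [f.IsOver SC] [g.IsOver SC] {σ τ : Type} (s : σ → Γ(X₀, ⊤)) (t : τ → Γ(Y₀, ⊤))
    (hs : Function.Surjective (MvPolynomial.eval₂Hom (strHom X₀) s))
    (ht : Function.Surjective (MvPolynomial.eval₂Hom (strHom Y₀) t)) :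
    Function.Surjective (MvPolynomial.eval₂Hom (strHom (pullback f g))
      (Sum.elim (fun i => (pullback.fst f g).appTop (s i))
        (fun j => (pullback.snd f g).appTop (t j)))) := by
  rw [← RingHom.range_eq_top, eq_top_iff, ← closure_range_appTop_pullback f g,
    Subring.closure_le]
  rintro r (⟨a, rfl⟩ | ⟨b, rfl⟩)
  · obtain ⟨p, rfl⟩ := hs a
    refine ⟨MvPolynomial.rename Sum.inl p, ?_⟩
    rw [MvPolynomial.eval₂Hom_rename]
    have := MvPolynomial.comp_eval₂Hom (strHom X₀) s (pullback.fst f g).appTop.hom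
    rw [appTop_comp_strHom] at this
    exact (congrArg (fun φ => φ p) this).symm
  · obtain ⟨p, rfl⟩ := ht b
    refine ⟨MvPolynomial.rename Sum.inr p, ?_⟩
    rw [MvPolynomial.eval₂Hom_rename]
    have := MvPolynomial.comp_eval₂Hom (strHom Y₀) t (pullback.snd f g).appTop.hom
    rw [appTop_comp_strHom] at this
    exact (congrArg (fun φ => φ p) this).symm

/-- Affine case: the map `(X₀ ×_{S₀} Y₀)(ℂ) → X₀(ℂ) × Y₀(ℂ)` is inducing. -/
lemma isInducing_prod_of_affine {X₀ Y₀ S₀ : Scheme.{0}} [X₀.Over SC] [Y₀.Over SC]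
    [S₀.Over SC] [IsAffine X₀] [IsAffine Y₀] [IsAffine S₀]
    [LocallyOfFiniteType (X₀ ↘ SC)] [LocallyOfFiniteType (Y₀ ↘ SC)]
    (f : X₀ ⟶ S₀) (g : Y₀ ⟶ S₀) [f.IsOver SC] [g.IsOver SC] :
    Topology.IsInducing (fun z : Pts (pullback f g) =>
      (Pts.map (pullback.fst f g) z, Pts.map (pullback.snd f g) z)) := by
  obtain ⟨n, s, hs⟩ := exists_generators X₀
  obtain ⟨m, t, ht⟩ := exists_generators Y₀
  have hw := surjective_eval₂Hom_pullback f g s t hs ht
  have hind := isInducing_coordMap hw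
  let E : Pts X₀ × Pts Y₀ → (Fin n ⊕ Fin m → ℂ) :=
    fun q => Sum.elim (coordMap s q.1) (coordMap t q.2)
  have hE : Continuous E := by
    refine continuous_pi fun i => ?_
    rcases i with i | j
    · exact (continuous_evTop (s i)).comp continuous_fst
    · exact (continuous_evTop (t j)).comp continuous_snd
  have hcomp : coordMap (Sum.elim (fun i => (pullback.fst f g).appTop (s i))
      (fun j => (pullback.snd f g).appTop (t j))) =
      E ∘ (fun z : Pts (pullback f g) =>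
        (Pts.map (pullback.fst f g) z, Pts.map (pullback.snd f g) z)) := by
    funext z i
    rcases i with i | j
    · exact (evTop_map (pullback.fst f g) z (s i)).symm
    · exact (evTop_map (pullback.snd f g) z (t j)).symm
  rw [hcomp] at hind
  exact Topology.IsInducing.of_comp
    ((Pts.continuous_map _).prodMk (Pts.continuous_map _)) hE hind

/-- Local criterion for a continuous map to be inducing. -/
lemma isInducing_of_local {A B : Type*} [TopologicalSpace A] [TopologicalSpace B] {φ : A → B}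
    (hφ : Continuous φ)
    (h : ∀ a : A, ∃ (E : Type) (_ : TopologicalSpace E) (e : E → A) (B₀ : Set B),
      Topology.IsOpenEmbedding e ∧ a ∈ Set.range e ∧ Topology.IsInducing (φ ∘ e) ∧
        IsOpen B₀ ∧ φ ⁻¹' B₀ = Set.range e) : Topology.IsInducing φ := by
  rw [Topology.isInducing_iff_nhds]
  intro a
  apply le_antisymm
  · exact (hφ.tendsto a).le_comap
  · obtain ⟨E, _, e, B₀, he, ⟨a', rfl⟩, hind, hB₀, hpre⟩ := h a
    intro N hN
    have h1 : e ⁻¹' N ∈ nhds a' := he.continuous.continuousAt hN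
    rw [hind.nhds_eq_comap, Filter.mem_comap] at h1
    obtain ⟨M, hM, hMN⟩ := h1
    rw [Filter.mem_comap]
    have ha' : φ (e a') ∈ B₀ := by
      have : e a' ∈ φ ⁻¹' B₀ := by rw [hpre]; exact ⟨a', rfl⟩
      exact this
    refine ⟨M ∩ B₀, Filter.inter_mem hM (hB₀.mem_nhds ha'), ?_⟩
    rintro w ⟨hwM, hwB⟩
    have : w ∈ Set.range e := by rw [← hpre]; exact hwB
    obtain ⟨w', rfl⟩ := this
    exact hMN hwM

section Pullback

variable (X Y S : Scheme.{0}) [X.Over SC] [Y.Over SC] [S.Over SC]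
  [LocallyOfFiniteType (X ↘ SC)] [LocallyOfFiniteType (Y ↘ SC)]
  (f : X ⟶ S) (g : Y ⟶ S) [f.IsOver SC] [g.IsOver SC]

/-- The canonical map `(X ×_S Y)(ℂ) → X(ℂ) × Y(ℂ)`. -/
noncomputable def prodMap (z : Pts (pullback f g)) : Pts X × Pts Y :=
  (Pts.map (pullback.fst f g) z, Pts.map (pullback.snd f g) z)

lemma continuous_prodMap : Continuous (prodMap X Y S f g) :=
  (Pts.continuous_map _).prodMk (Pts.continuous_map _)

lemma prodMap_injective : Function.Injective (prodMap X Y S f g) := by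
  intro z z' h
  apply Subtype.ext
  apply pullback.hom_ext
  · exact congrArg (fun q : Pts X × Pts Y => q.1.1) h
  · exact congrArg (fun q : Pts X × Pts Y => q.2.1) h

lemma range_prodMap :
    Set.range (prodMap X Y S f g) = {q | Pts.map f q.1 = Pts.map g q.2} := by
  ext q
  constructor
  · rintro ⟨z, rfl⟩
    exact Pts.map_pullback_condition f g z
  · obtain ⟨x, y⟩ := q
    intro hxy
    have h : x.1 ≫ f = y.1 ≫ g := congrArg Subtype.val hxy
    refine ⟨⟨pullback.lift x.1 y.1 h, ?_⟩, ?_⟩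
    · change pullback.lift x.1 y.1 h ≫ pullback.fst f g ≫ (X ↘ SC) = 𝟙 _
      rw [pullback.lift_fst_assoc]
      exact x.2
    · exact Prod.ext (Subtype.ext (pullback.lift_fst _ _ _)) (Subtype.ext (pullback.lift_snd _ _ _))

theorem isInducing_prodMap : Topology.IsInducing (prodMap X Y S f g) := by
  refine isInducing_of_local (continuous_prodMap X Y S f g) fun z₀ => ?_
  set x₀ := Pts.map (pullback.fst f g) z₀ with hx₀
  set y₀ := Pts.map (pullback.snd f g) z₀ with hy₀
  have hfg : f x₀.pt = g y₀.pt := by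
    have := congrArg Pts.pt (Pts.map_pullback_condition f g z₀)
    rwa [Pts.pt_map, Pts.pt_map] at this
  obtain ⟨S₀, hS₀, hsS₀, -⟩ :=
    exists_isAffineOpen_mem_and_subset (x := f x₀.pt) (U := ⊤) trivial
  obtain ⟨X₀, hX₀, hxX₀, hX₀S⟩ :=
    exists_isAffineOpen_mem_and_subset (x := x₀.pt) (U := f ⁻¹ᵁ S₀) hsS₀
  obtain ⟨Y₀, hY₀, hyY₀, hY₀S⟩ :=
    exists_isAffineOpen_mem_and_subset (x := y₀.pt) (U := g ⁻¹ᵁ S₀) (by
      change g y₀.pt ∈ S₀
      rw [← hfg]
      exact hsS₀)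
  have : IsAffine S₀.toScheme := hS₀
  have : IsAffine X₀.toScheme := hX₀
  have : IsAffine Y₀.toScheme := hY₀
  have : LocallyOfFiniteType (X₀.toScheme ↘ SC) :=
    inferInstanceAs (LocallyOfFiniteType (X₀.ι ≫ X ↘ SC))
  have : LocallyOfFiniteType (Y₀.toScheme ↘ SC) :=
    inferInstanceAs (LocallyOfFiniteType (Y₀.ι ≫ Y ↘ SC))
  let f₀ : X₀.toScheme ⟶ S₀.toScheme := f.resLE S₀ X₀ hX₀S
  let g₀ : Y₀.toScheme ⟶ S₀.toScheme := g.resLE S₀ Y₀ hY₀S
  have e₁ : f₀ ≫ S₀.ι = X₀.ι ≫ f := Scheme.Hom.resLE_comp_ι f hX₀S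
  have e₂ : g₀ ≫ S₀.ι = Y₀.ι ≫ g := Scheme.Hom.resLE_comp_ι g hY₀S
  have : f₀.IsOver SC := ⟨by
    change f₀ ≫ S₀.ι ≫ (S ↘ SC) = X₀.ι ≫ (X ↘ SC)
    rw [reassoc_of% e₁, comp_over f SC]⟩
  have : g₀.IsOver SC := ⟨by
    change g₀ ≫ S₀.ι ≫ (S ↘ SC) = Y₀.ι ≫ (Y ↘ SC)
    rw [reassoc_of% e₂, comp_over g SC]⟩
  let j : pullback f₀ g₀ ⟶ pullback f g := pullback.map f₀ g₀ f g X₀.ι Y₀.ι S₀.ι e₁ e₂
  have hjfst : j ≫ pullback.fst f g = pullback.fst f₀ g₀ ≫ X₀.ι := pullback.lift_fst _ _ _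
  have hjsnd : j ≫ pullback.snd f g = pullback.snd f₀ g₀ ≫ Y₀.ι := pullback.lift_snd _ _ _
  have : j.IsOver SC := ⟨by
    change j ≫ pullback.fst f g ≫ (X ↘ SC) = pullback.fst f₀ g₀ ≫ X₀.ι ≫ (X ↘ SC)
    rw [reassoc_of% hjfst]⟩
  have : IsOpenImmersion j := by
    change IsOpenImmersion (pullback.map f₀ g₀ f g X₀.ι Y₀.ι S₀.ι e₁ e₂)
    infer_instance
  have hoe := isOpenEmbedding_map j
  have hrange : Set.range (Pts.map j) =
      prodMap X Y S f g ⁻¹' {q | q.1.pt ∈ X₀ ∧ q.2.pt ∈ Y₀} := by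
    rw [range_map_of_isOpenImmersion]
    ext z
    change z.pt ∈ Set.range j ↔
      (Pts.map (pullback.fst f g) z).pt ∈ X₀ ∧ (Pts.map (pullback.snd f g) z).pt ∈ Y₀
    rw [Scheme.Pullback.range_map, Pts.pt_map, Pts.pt_map, Scheme.Opens.range_ι,
      Scheme.Opens.range_ι]
    rfl
  refine ⟨Pts (pullback f₀ g₀), inferInstance, Pts.map j,
    {q | q.1.pt ∈ X₀ ∧ q.2.pt ∈ Y₀}, hoe, ?_, ?_, ?_, hrange.symm⟩
  · rw [hrange]
    exact ⟨hxX₀, hyY₀⟩
  · have hcomp : prodMap X Y S f g ∘ Pts.map j =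
        Prod.map (Pts.map X₀.ι) (Pts.map Y₀.ι) ∘
          (fun z : Pts (pullback f₀ g₀) =>
            (Pts.map (pullback.fst f₀ g₀) z, Pts.map (pullback.snd f₀ g₀) z)) := by
      funext z
      refine Prod.ext (Subtype.ext ?_) (Subtype.ext ?_)
      · change (z.1 ≫ j) ≫ pullback.fst f g = (z.1 ≫ pullback.fst f₀ g₀) ≫ X₀.ι
        rw [Category.assoc, hjfst, Category.assoc]
      · change (z.1 ≫ j) ≫ pullback.snd f g = (z.1 ≫ pullback.snd f₀ g₀) ≫ Y₀.ι
        rw [Category.assoc, hjsnd, Category.assoc]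
    rw [hcomp]
    exact ((isOpenEmbedding_map X₀.ι).isInducing.prodMap
      (isOpenEmbedding_map Y₀.ι).isInducing).comp (isInducing_prod_of_affine f₀ g₀)
  · exact ((X₀.2.preimage Pts.continuous_pt).preimage continuous_fst).inter
      ((Y₀.2.preimage Pts.continuous_pt).preimage continuous_snd)

/-- ℂ-points of a fibre product form the fibre product of the spaces of ℂ-points. -/
theorem isHomeomorph_pullback :
    IsHomeomorph (fun z : Pts (pullback f g) =>
      (⟨(Pts.map (pullback.fst f g) z, Pts.map (pullback.snd f g) z),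
        Pts.map_pullback_condition f g z⟩ :
        {q : Pts X × Pts Y // Pts.map f q.1 = Pts.map g q.2})) := by
  rw [isHomeomorph_iff_isEmbedding_surjective]
  refine ⟨⟨?_, ?_⟩, ?_⟩
  · refine Topology.IsInducing.of_comp ?_ continuous_subtype_val ?_
    · exact (continuous_prodMap X Y S f g).subtype_mk _
    · exact isInducing_prodMap X Y S f g
  · intro z z' h
    exact prodMap_injective X Y S f g (congrArg Subtype.val h)
  · rintro ⟨q, hq⟩
    have : q ∈ Set.range (prodMap X Y S f g) := by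
      rw [range_prodMap]
      exact hq
    obtain ⟨z, hz⟩ := this
    exact ⟨z, Subtype.ext hz⟩

end Pullback

end Groth.Agent.Lib.helper26.AnPts
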