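import Mathlib

/-!
# Flatness over Artinian local rings from codimension-one data, part 4 (helper26)

The tensor step and an induction principle for ideals of an Artinian local ring.
-/

set_option autoImplicit false
set_option linter.unusedSectionVars false
universe u

open TensorProduct

namespace Groth.Agent.Lib.helper26.ArtFlat

section Tensor

variable {A : Type u} [CommRing A] {L : Type u} [AddCommGroup L] [Module A L]

lemma lid_rTensor_subtype_mem (I : Ideal A) (z : I ⊗[A] L) :
    TensorProduct.lid A L (I.subtype.rTensor L z) ∈ I • (⊤ : Submodule A L) := by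
  induction z using TensorProduct.induction_on with
  | zero => simp
  | tmul y l =>
    simp only [LinearMap.rTensor_tmul, Submodule.subtype_apply, TensorProduct.lid_tmul]
    exact Submodule.smul_mem_smul y.2 Submodule.mem_top
  | add x y hx hy =>
    rw [map_add, map_add]
    exact Submodule.add_mem _ hx hy

/-- the tensor step: from `I` to `I ⊔ (a)`. -/
theorem rTensor_injective_sup_span (I m : Ideal A) (a : A) (ham : ∀ r ∈ m, r * a ∈ I)
    (hinj : Function.Injective (I.subtype.rTensor L))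
    (hC : ∀ b : L, a • b ∈ I • (⊤ : Submodule A L) → b ∈ m • (⊤ : Submodule A L)) :
    Function.Injective ((I ⊔ Ideal.span {a}).subtype.rTensor L) := by
  set I' : Ideal A := I ⊔ Ideal.span {a} with hI'
  let ι : I →ₗ[A] I' := Submodule.inclusion le_sup_left
  have haI' : a ∈ I' := Submodule.mem_sup_right (Ideal.subset_span rfl)
  let a' : I' := ⟨a, haI'⟩
  have hcomp : I'.subtype ∘ₗ ι = I.subtype := by
    ext x; rfl
  -- Claim 1
  have c1 : ∀ z : I' ⊗[A] L, ∃ (z' : I ⊗[A] L) (b : L), z = ι.rTensor L z' + a' ⊗ₜ[A] b := by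
    intro z
    induction z using TensorProduct.induction_on with
    | zero => exact ⟨0, 0, by simp⟩
    | tmul x l =>
      obtain ⟨y, hy, w, hw, hyw⟩ := Submodule.mem_sup.mp x.2
      obtain ⟨r, rfl⟩ := Ideal.mem_span_singleton'.mp hw
      refine ⟨(⟨y, hy⟩ : I) ⊗ₜ[A] l, r • l, ?_⟩
      rw [LinearMap.rTensor_tmul, ← TensorProduct.smul_tmul, ← TensorProduct.add_tmul]
      congr 1
      apply Subtype.ext
      simp only [Submodule.coe_add, Submodule.coe_smul, smul_eq_mul, a', ι,
        Submodule.coe_inclusion]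
      exact hyw.symm
    | add x y hx hy =>
      obtain ⟨z1, b1, h1⟩ := hx
      obtain ⟨z2, b2, h2⟩ := hy
      refine ⟨z1 + z2, b1 + b2, ?_⟩
      rw [h1, h2, map_add, TensorProduct.tmul_add]
      abel
  -- Claim 2
  have c2 : ∀ b ∈ m • (⊤ : Submodule A L), a' ⊗ₜ[A] b ∈ LinearMap.range (ι.rTensor L) := by
    intro b hb
    induction hb using Submodule.smul_induction_on' with
    | smul r hr n hn =>
      refine ⟨(⟨r * a, ham r hr⟩ : I) ⊗ₜ[A] n, ?_⟩
      rw [LinearMap.rTensor_tmul, ← TensorProduct.smul_tmul]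
      congr 1
    | add x hx y hy h1 h2 =>
      rw [TensorProduct.tmul_add]
      exact Submodule.add_mem _ h1 h2
  rw [injective_iff_map_eq_zero]
  intro z hz
  obtain ⟨z', b, rfl⟩ := c1 z
  have h1 : I'.subtype.rTensor L (ι.rTensor L z') = I.subtype.rTensor L z' := by
    rw [← LinearMap.comp_apply, ← LinearMap.rTensor_comp, hcomp]
  have hz0 := hz
  rw [map_add, h1, LinearMap.rTensor_tmul] at hz
  have h2 := congrArg (TensorProduct.lid A L) hz
  rw [map_add, map_zero, TensorProduct.lid_tmul] at h2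
  have h3 : a • b ∈ I • (⊤ : Submodule A L) := by
    have : a • b = - TensorProduct.lid A L (I.subtype.rTensor L z') := by
      rw [eq_neg_iff_add_eq_zero, add_comm]
      exact h2
    rw [this]
    exact Submodule.neg_mem _ (lid_rTensor_subtype_mem I z')
  obtain ⟨z₂, hz₂⟩ := c2 b (hC b h3)
  rw [← hz₂, ← map_add] at hz0 ⊢
  have h4 : I'.subtype.rTensor L (ι.rTensor L (z' + z₂)) = I.subtype.rTensor L (z' + z₂) := by
    rw [← LinearMap.comp_apply, ← LinearMap.rTensor_comp, hcomp]
  rw [h4] at hz0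
  have h5 : z' + z₂ = 0 := (injective_iff_map_eq_zero _).mp hinj _ hz0
  rw [h5, map_zero]

end Tensor

section Induction

variable {A : Type u} [CommRing A] [IsArtinianRing A] [IsLocalRing A]

open IsLocalRing

/-- induction on ideals of an Artinian local ring along socle elements. -/
theorem ideal_induction (P : Ideal A → Prop) (h0 : P ⊥)
    (hstep : ∀ I : Ideal A, I ≤ maximalIdeal A → P I → ∀ a ∈ maximalIdeal A, a ∉ I →
      (∀ r ∈ maximalIdeal A, r * a ∈ I) → P (I ⊔ Ideal.span {a})) :
    P (maximalIdeal A) := by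
  have hN : IsNoetherianRing A := inferInstance
  let S : Set (Ideal A) := {I | I ≤ maximalIdeal A ∧ P I}
  have hS : S.Nonempty := ⟨⊥, bot_le, h0⟩
  obtain ⟨I₀, ⟨hI₀m, hPI₀⟩, hmax⟩ := set_has_maximal_iff_noetherian.mpr hN S hS
  by_cases hI : I₀ = maximalIdeal A
  · rw [← hI]; exact hPI₀
  exfalso
  have hnil : IsNilpotent (maximalIdeal A) := by
    have := IsArtinianRing.isNilpotent_jacobson_bot (R := A)
    rwa [IsLocalRing.jacobson_eq_maximalIdeal ⊥ bot_ne_top] at this
  obtain ⟨N, hN0⟩ := hnil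
  have hex : ∃ n, maximalIdeal A ^ n ≤ I₀ := ⟨N, by rw [hN0]; exact bot_le⟩
  classical
  let n := Nat.find hex
  have hn : maximalIdeal A ^ n ≤ I₀ := Nat.find_spec hex
  have hn0 : n ≠ 0 := by
    intro h
    rw [h, pow_zero, Ideal.one_eq_top] at hn
    have : (⊤ : Ideal A) ≤ maximalIdeal A := hn.trans hI₀m
    exact (maximalIdeal.isMaximal A).ne_top (top_le_iff.mp this)
  have hn1 : n ≠ 1 := by
    intro h
    rw [h, pow_one] at hn
    exact hI (le_antisymm hI₀m hn)
  obtain ⟨k, hk⟩ : ∃ k, n = k + 1 := ⟨n - 1, by omega⟩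
  have hk0 : k ≠ 0 := by omega
  have hnot : ¬ maximalIdeal A ^ k ≤ I₀ := Nat.find_min hex (by omega)
  obtain ⟨a, hak, haI⟩ := SetLike.not_le_iff_exists.mp hnot
  have ham : a ∈ maximalIdeal A := Ideal.pow_le_self hk0 hak
  have hsoc : ∀ r ∈ maximalIdeal A, r * a ∈ I₀ := by
    intro r hr
    apply hn
    rw [hk, pow_succ']
    exact Ideal.mul_mem_mul hr hak
  have hP' := hstep I₀ hI₀m hPI₀ a ham haI hsoc
  have hle : I₀ ⊔ Ideal.span {a} ≤ maximalIdeal A :=
    sup_le hI₀m ((Ideal.span_singleton_le_iff_mem _).mpr ham)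
  have hlt : I₀ < I₀ ⊔ Ideal.span {a} := by
    refine lt_of_le_of_ne le_sup_left ?_
    intro e
    apply haI
    rw [e]
    exact Submodule.mem_sup_right (Ideal.subset_span rfl)
  exact hmax _ ⟨hle, hP'⟩ hlt

end Induction

end Groth.Agent.Lib.helper26.ArtFlat
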