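import Mathlib
import Groth.Prelude.Def_CAlg
import Groth.Agent.Lib.Helper26.ArtFlat1
import Groth.Agent.Lib.Helper26.ArtFlat2
import Groth.Agent.Lib.Helper26.ArtFlat3
import Groth.Agent.Lib.Helper26.ArtFlat4
import Groth.Agent.Lib.Helper26.Depth2

/-!
# Flatness over an Artinian local base from codimension-one data (helper26), part 5:
the inductive step
-/

set_option autoImplicit false
set_option linter.unusedSectionVars false
universe u

open TensorProduct

namespace Groth.Agent.Lib.helper26.ArtFlat

open LocCoh Groth.Agent.Lib.helper26.Depth IsLocalRing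

variable {A : Type u} [CommRing A] [IsArtinianRing A] [IsLocalRing A]
  (B : Type u) [CommRing B] [Algebra A B] [IsNoetherianRing B]

/-- the codimension-one hypotheses, in a convenient form. -/
structure LocHyp : Prop where
  flat : ∀ (q : Ideal B) [q.IsPrime], q.height ≤ 1 → Module.Flat A (Localization.AtPrime q)
  red : ∀ (q : Ideal B) [q.IsPrime], q.height ≤ 1 →
    IsReduced (Localization.AtPrime q ⧸
      ((maximalIdeal A).map (algebraMap A B)).map (algebraMap B (Localization.AtPrime q)))

variable {B}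

lemma maximalIdeal_le_nilradical : maximalIdeal A ≤ nilradical A := by
  have hnil : IsNilpotent (maximalIdeal A) := by
    have := IsArtinianRing.isNilpotent_jacobson_bot (R := A)
    rwa [IsLocalRing.jacobson_eq_maximalIdeal ⊥ bot_ne_top] at this
  obtain ⟨n, hn⟩ := hnil
  intro x hx
  rw [mem_nilradical]
  refine ⟨n, ?_⟩
  have : x ^ n ∈ maximalIdeal A ^ n := Ideal.pow_mem_pow hx n
  rw [hn] at this
  exact this

lemma map_maximalIdeal_le_nilradical :
    (maximalIdeal A).map (algebraMap A B) ≤ nilradical B := by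
  rw [Ideal.map_le_iff_le_comap]
  intro x hx
  obtain ⟨n, hn⟩ := mem_nilradical.mp (maximalIdeal_le_nilradical hx)
  rw [Ideal.mem_comap, mem_nilradical]
  refine ⟨n, ?_⟩
  rw [← map_pow, hn, map_zero]

/-- `a • y ∈ I B` for `y ∈ 𝔪 B` when `a 𝔪 ⊆ I`. -/
lemma smul_mem_map_of_mem_map (I : Ideal A) (a : A)
    (ham : ∀ r ∈ maximalIdeal A, r * a ∈ I) (y : B)
    (hy : y ∈ (maximalIdeal A).map (algebraMap A B)) :
    a • y ∈ I.map (algebraMap A B) := by
  have hy' : y ∈ (maximalIdeal A) • (⊤ : Submodule A B) := by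
    rw [Ideal.smul_top_eq_map]; exact hy
  refine Submodule.smul_induction_on hy' ?_ ?_
  · intro r hr z _
    rw [smul_smul, Algebra.smul_def]
    refine Ideal.mul_mem_right _ _ (Ideal.mem_map_of_mem _ ?_)
    rw [mul_comm]; exact ham r hr
  · intro x y hx hy
    rw [smul_add]; exact Ideal.add_mem _ hx hy

omit [IsArtinianRing A] in
lemma colon_le_maximalIdeal (I : Ideal A) (a : A) (haI : a ∉ I) :
    I.colon ({a} : Set A) ≤ maximalIdeal A := by
  intro x hx
  rw [Submodule.mem_colon_singleton] at hx
  by_contra hxm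
  have hu : IsUnit x := by
    by_contra hnu
    exact hxm ((IsLocalRing.mem_maximalIdeal x).mpr hnu)
  apply haI
  obtain ⟨u, rfl⟩ := hu
  have := Ideal.mul_mem_left I (↑u⁻¹ : A) hx
  rwa [smul_eq_mul, ← mul_assoc, Units.inv_mul, one_mul] at this

/-- multiplication by `a`, from `B` to `B / I B`. -/
noncomputable def phi (I : Ideal A) (a : A) : B →ₗ[B] B ⧸ I.map (algebraMap A B) :=
  (algebraMap A B a) • (I.map (algebraMap A B)).mkQ

lemma phi_apply (I : Ideal A) (a : A) (b : B) :
    phi (B := B) I a b = (I.map (algebraMap A B)).mkQ (a • b) := by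
  rw [phi, LinearMap.smul_apply, ← map_smul, smul_eq_mul, Algebra.smul_def]

lemma mem_ker_phi (I : Ideal A) (a : A) (b : B) :
    b ∈ LinearMap.ker (phi (B := B) I a) ↔ a • b ∈ I.map (algebraMap A B) := by
  rw [LinearMap.mem_ker, phi_apply, Submodule.mkQ_apply, Submodule.Quotient.mk_eq_zero]

section Step

variable (hloc : LocHyp (A := A) B) (I : Ideal A) (a : A)
  (ham : ∀ r ∈ maximalIdeal A, r * a ∈ I) (haI : a ∉ I)
  (hD : DepthCodimTwo 1 B (B ⧸ I.map (algebraMap A B)))
  (hD2 : DepthCodimTwo 2 B (B ⧸ nilradical B))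

include hloc haI hD2 in
/-- step (i), first half: the colon is contained in the nilradical. -/
theorem ker_phi_le_nilradical : LinearMap.ker (phi (B := B) I a) ≤ nilradical B := by
  have hQ : Submodule.map (nilradical B).mkQ (LinearMap.ker (phi (B := B) I a)) = ⊥ := by
    refine eq_bot_of_locally_zero (B ⧸ nilradical B) (hD2.mono (by norm_num)) _ ?_
    intro q hq hht x hx
    obtain ⟨b, hb, rfl⟩ := hx
    rw [SetLike.mem_coe, mem_ker_phi] at hb
    have := hloc.flat q hht
    obtain ⟨s, hs, hsb⟩ := exists_mul_mem_of_smul_mem q I (maximalIdeal A) a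
      (colon_le_maximalIdeal I a haI) b hb
    refine ⟨s, hs, ?_⟩
    rw [← map_smul, Submodule.mkQ_apply, Submodule.Quotient.mk_eq_zero, smul_eq_mul]
    exact map_maximalIdeal_le_nilradical hsb
  intro b hb
  have : (nilradical B).mkQ b ∈
      Submodule.map (nilradical B).mkQ (LinearMap.ker (phi (B := B) I a)) :=
    Submodule.mem_map_of_mem hb
  rw [hQ, Submodule.mem_bot, Submodule.mkQ_apply, Submodule.Quotient.mk_eq_zero] at this
  exact this

include hloc ham hD in
/-- step (i), second half: the nilradical is contained in the colon. -/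
theorem nilradical_le_ker_phi : nilradical B ≤ LinearMap.ker (phi (B := B) I a) := by
  have hQ : Submodule.map (phi (B := B) I a) (nilradical B) = ⊥ := by
    refine eq_bot_of_locally_zero (B ⧸ I.map (algebraMap A B)) hD _ ?_
    intro q hq hht x hx
    obtain ⟨b, hb, rfl⟩ := hx
    have hred := hloc.red q hht
    obtain ⟨s, hs, hsb⟩ := exists_mul_mem_of_mem_nilradical q _ hred b hb
    refine ⟨s, hs, ?_⟩
    rw [← map_smul, smul_eq_mul, ← LinearMap.mem_ker, mem_ker_phi]
    exact smul_mem_map_of_mem_map I a ham _ hsb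
  intro b hb
  have : phi (B := B) I a b ∈ Submodule.map (phi (B := B) I a) (nilradical B) :=
    Submodule.mem_map_of_mem hb
  rw [hQ, Submodule.mem_bot] at this
  exact this

include hloc ham haI hD hD2 in
/-- step (ii): the depth condition passes from `I` to `I ⊔ (a)`. -/
theorem depthCodimTwo_step :
    DepthCodimTwo 1 B (B ⧸ (I ⊔ Ideal.span {a}).map (algebraMap A B)) := by
  set IB : Ideal B := I.map (algebraMap A B) with hIB
  set I'B : Ideal B := (I ⊔ Ideal.span {a}).map (algebraMap A B) with hI'B
  have hI'B' : I'B = IB ⊔ Ideal.span {algebraMap A B a} := by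
    rw [hI'B, Ideal.map_sup, Ideal.map_span, Set.image_singleton]
  have hle1 : nilradical B ≤ LinearMap.ker (phi (B := B) I a) :=
    nilradical_le_ker_phi hloc I a ham hD
  have hle2 : LinearMap.ker (phi (B := B) I a) ≤ nilradical B :=
    ker_phi_le_nilradical hloc I a haI hD2
  let f : (B ⧸ nilradical B) →ₗ[B] (B ⧸ IB) := (nilradical B).liftQ (phi (B := B) I a) hle1
  have hf : Function.Injective f := by
    rw [← LinearMap.ker_eq_bot]
    exact Submodule.ker_liftQ_eq_bot _ _ hle1 hle2
  have hle3 : IB ≤ LinearMap.ker I'B.mkQ := by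
    rw [Submodule.ker_mkQ, hI'B']; exact le_sup_left
  let g : (B ⧸ IB) →ₗ[B] (B ⧸ I'B) := IB.liftQ I'B.mkQ hle3
  have hg : Function.Surjective g := by
    intro y
    obtain ⟨b, rfl⟩ := Submodule.mkQ_surjective I'B y
    exact ⟨IB.mkQ b, Submodule.liftQ_apply _ _ _⟩
  have hfg : Function.Exact f g := by
    intro y
    constructor
    · intro hy
      obtain ⟨b, rfl⟩ := Submodule.mkQ_surjective IB y
      have hb : b ∈ I'B := by
        have : g (IB.mkQ b) = I'B.mkQ b := Submodule.liftQ_apply _ _ _
        rw [this, Submodule.mkQ_apply, Submodule.Quotient.mk_eq_zero] at hy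
        exact hy
      rw [hI'B', Submodule.mem_sup] at hb
      obtain ⟨i, hi, j, hj, rfl⟩ := hb
      obtain ⟨c, rfl⟩ := Ideal.mem_span_singleton'.mp hj
      refine ⟨(nilradical B).mkQ c, ?_⟩
      have h1 : f ((nilradical B).mkQ c) = phi (B := B) I a c := Submodule.liftQ_apply _ _ _
      rw [h1, phi_apply, Submodule.mkQ_apply, Submodule.mkQ_apply, eq_comm,
        Submodule.Quotient.eq]
      have : i + c * algebraMap A B a - a • c = i := by
        rw [Algebra.smul_def]; ring
      rw [this]
      exact hi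
    · rintro ⟨x, rfl⟩
      obtain ⟨c, rfl⟩ := Submodule.mkQ_surjective (nilradical B) x
      have h1 : f ((nilradical B).mkQ c) = phi (B := B) I a c := Submodule.liftQ_apply _ _ _
      rw [h1, phi_apply]
      have h2 : g (IB.mkQ (a • c)) = I'B.mkQ (a • c) := Submodule.liftQ_apply _ _ _
      rw [h2, Submodule.mkQ_apply, Submodule.Quotient.mk_eq_zero, hI'B', Algebra.smul_def]
      exact Ideal.mul_mem_right _ _ (Submodule.mem_sup_right (Ideal.subset_span rfl))
  intro q hq hht
  have h1 := min_le_idealDepth_X₃ q f g hf hg hfg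
  refine le_trans ?_ h1
  rw [le_min_iff]
  refine ⟨hD q hq hht, ?_⟩
  have h2 := hD2 q hq hht
  generalize idealDepth q (B ⧸ nilradical B) = d at h2 ⊢
  induction d with
  | top => simp
  | coe n =>
    have h3 : 2 ≤ n := by exact_mod_cast h2
    have : ((n : ℕ∞) - 1) = ((n - 1 : ℕ) : ℕ∞) := by
      rw [ENat.natCast_sub]; rfl
    rw [this]
    have : 1 ≤ n - 1 := by omega
    exact_mod_cast this

end Step

end Groth.Agent.Lib.helper26.ArtFlat
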