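import Mathlib
import Groth.Prelude.Def_CAlg
import Groth.Prelude.Def_EGA4b
import Groth.Agent.Lib.Helper26.ArtFlat5
import Groth.Agent.Lib.Helper8.LocalFlat

/-!
# Flatness over an Artinian local base from codimension-one data (helper26), part 6:
assembly
-/

set_option autoImplicit false
set_option linter.unusedSectionVars false
universe u

open TensorProduct

namespace Groth.Agent.Lib.helper26.ArtFlat

open LocCoh Groth.Agent.Lib.helper26.Depth IsLocalRing

variable {A : Type u} [CommRing A] [IsArtinianRing A] [IsLocalRing A]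
  {B : Type u} [CommRing B] [Algebra A B] [IsNoetherianRing B]

section Main

variable (hloc : LocHyp (A := A) B) (hS1 : HasSk 1 B B)
  (hD2 : DepthCodimTwo 2 B (B ⧸ nilradical B))

include hS1 in
lemma depthCodimTwo_bot :
    DepthCodimTwo 1 B (B ⧸ (⊥ : Ideal A).map (algebraMap A B)) := by
  have h1 : DepthCodimTwo ((1 : ℕ) : ℕ∞) B B := depthCodimTwo_of_hasSk 1 (by norm_num) hS1
  rw [Nat.cast_one] at h1
  exact h1.congr (Submodule.quotEquivOfEqBot _ Ideal.map_bot).symm

include hloc hS1 hD2 in
/-- phase 1: `B / 𝔪 B` has depth `≥ 1` in codimension `≥ 2`. -/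
theorem depthCodimTwo_maximalIdeal :
    DepthCodimTwo 1 B (B ⧸ (maximalIdeal A).map (algebraMap A B)) := by
  refine ideal_induction (fun I => DepthCodimTwo 1 B (B ⧸ I.map (algebraMap A B)))
    (depthCodimTwo_bot hS1) ?_
  intro I _ hP a _ haI ham
  exact depthCodimTwo_step hloc I a ham haI hP hD2

include hloc hS1 hD2 in
/-- the nilradical of `B` is `𝔪 B`. -/
theorem nilradical_eq_map_maximalIdeal :
    nilradical B = (maximalIdeal A).map (algebraMap A B) := by
  refine le_antisymm ?_ map_maximalIdeal_le_nilradical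
  set mB : Ideal B := (maximalIdeal A).map (algebraMap A B) with hmB
  have hQ : Submodule.map mB.mkQ (nilradical B) = ⊥ := by
    refine eq_bot_of_locally_zero (B ⧸ mB) (depthCodimTwo_maximalIdeal hloc hS1 hD2) _ ?_
    intro q hq hht x hx
    obtain ⟨b, hb, rfl⟩ := hx
    have hred := hloc.red q hht
    obtain ⟨s, hs, hsb⟩ := exists_mul_mem_of_mem_nilradical q _ hred b hb
    refine ⟨s, hs, ?_⟩
    rw [← map_smul, smul_eq_mul, Submodule.mkQ_apply, Submodule.Quotient.mk_eq_zero]
    exact hsb
  intro b hb
  have : mB.mkQ b ∈ Submodule.map mB.mkQ (nilradical B) := Submodule.mem_map_of_mem hb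
  rw [hQ, Submodule.mem_bot, Submodule.mkQ_apply, Submodule.Quotient.mk_eq_zero] at this
  exact this

include hloc hS1 hD2 in
/-- S14071 in library form. -/
theorem isReduced_quotient_map_maximalIdeal :
    IsReduced (B ⧸ (maximalIdeal A).map (algebraMap A B)) := by
  rw [← Ideal.isRadical_iff_quotient_reduced,
    ← nilradical_eq_map_maximalIdeal hloc hS1 hD2]
  exact Ideal.radical_isRadical _

include hloc hS1 hD2 in
/-- phase 2: injectivity of `𝔪 ⊗ B → B`. -/
theorem rTensor_injective_maximalIdeal :
    Function.Injective ((maximalIdeal A).subtype.rTensor B) := by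
  have hN := nilradical_eq_map_maximalIdeal hloc hS1 hD2
  have key := ideal_induction (A := A)
    (fun I => Function.Injective (I.subtype.rTensor B) ∧
      DepthCodimTwo 1 B (B ⧸ I.map (algebraMap A B))) ?_ ?_
  · exact key.1
  · refine ⟨?_, depthCodimTwo_bot hS1⟩
    have : Subsingleton ((⊥ : Ideal A) ⊗[A] B) := by
      have : Subsingleton (⊥ : Ideal A) := inferInstance
      infer_instance
    exact Function.injective_of_subsingleton _
  · intro I _ hP a _ haI ham
    refine ⟨?_, depthCodimTwo_step hloc I a ham haI hP.2 hD2⟩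
    refine rTensor_injective_sup_span I (maximalIdeal A) a ham hP.1 ?_
    intro b hb
    rw [Ideal.smul_top_eq_map, Submodule.restrictScalars_mem] at hb ⊢
    rw [← hN]
    exact ker_phi_le_nilradical hloc I a haI hD2 ((mem_ker_phi I a b).mpr hb)

include hloc hS1 hD2 in
/-- S14072 in library form. -/
theorem flat_of_locHyp : Module.Flat A B := by
  have hnil : IsNilpotent (maximalIdeal A) := by
    have := IsArtinianRing.isNilpotent_jacobson_bot (R := A)
    rwa [IsLocalRing.jacobson_eq_maximalIdeal ⊥ bot_ne_top] at this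
  let _ : Field (A ⧸ maximalIdeal A) := Ideal.Quotient.field (maximalIdeal A)
  have : Module.Flat (A ⧸ maximalIdeal A) ((A ⧸ maximalIdeal A) ⊗[A] B) := inferInstance
  exact Groth.Agent.Lib.helper8.LocalFlat.flat_of_isNilpotent (maximalIdeal A) B
    (rTensor_injective_maximalIdeal hloc hS1 hD2) hnil

end Main

lemma comap_eq_maximalIdeal (q : Ideal B) [q.IsPrime] :
    q.comap (algebraMap A B) = maximalIdeal A := by
  have hp : (q.comap (algebraMap A B)).IsPrime := inferInstance
  have hm : (q.comap (algebraMap A B)).IsMaximal := IsArtinianRing.isMaximal_of_isPrime _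
  exact IsLocalRing.eq_maximalIdeal hm

/-- the hypotheses of the statements give `LocHyp`. -/
theorem locHyp_of_fib
    (hcodim : ∀ (q : Ideal B) [q.IsPrime], q.height ≤ 1 →
      Module.Flat A (Localization.AtPrime q) ∧ IsReduced (EGA4.FibLocRing A B q)) :
    LocHyp (A := A) B := by
  refine ⟨fun q _ h => (hcodim q h).1, fun q _ h => ?_⟩
  have h1 := (hcodim q h).2
  have h2 : (q.comap (algebraMap A B)).map (algebraMap A (Localization.AtPrime q)) =
      ((maximalIdeal A).map (algebraMap A B)).map (algebraMap B (Localization.AtPrime q)) := by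
    rw [comap_eq_maximalIdeal, Ideal.map_map,
      ← IsScalarTower.algebraMap_eq A B (Localization.AtPrime q)]
  unfold EGA4.FibLocRing at h1
  rw [h2] at h1
  exact h1

/-- S14071. -/
theorem isReduced_of_fib (hS1 : HasSk 1 B B)
    (hS2 : HasSk 2 (B ⧸ nilradical B) (B ⧸ nilradical B))
    (hcodim : ∀ (q : Ideal B) [q.IsPrime], q.height ≤ 1 →
      Module.Flat A (Localization.AtPrime q) ∧ IsReduced (EGA4.FibLocRing A B q)) :
    IsReduced (B ⧸ (maximalIdeal A).map (algebraMap A B)) :=
  isReduced_quotient_map_maximalIdeal (locHyp_of_fib hcodim) hS1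
    (depthCodimTwo_quotient_nilradical hS2)

/-- S14072. -/
theorem flat_of_fib (hS1 : HasSk 1 B B)
    (hS2 : HasSk 2 (B ⧸ nilradical B) (B ⧸ nilradical B))
    (hcodim : ∀ (q : Ideal B) [q.IsPrime], q.height ≤ 1 →
      Module.Flat A (Localization.AtPrime q) ∧ IsReduced (EGA4.FibLocRing A B q)) :
    Module.Flat A B :=
  flat_of_locHyp (locHyp_of_fib hcodim) hS1 (depthCodimTwo_quotient_nilradical hS2)

end Groth.Agent.Lib.helper26.ArtFlat
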