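import Mathlib
import Groth.Agent.Lib.Helper26.GrHS3
import Groth.Agent.Lib.Helper26.HilbDiff

/-!
# Hilbert polynomial of a regular hypersurface section; Bézout (helper26)

* `finrank_part_sup_span'`: `dim (J + (f))_m + dim J_{m-e} = dim J_m + dim R_{m-e}` when `f` is a
  homogeneous nonzerodivisor mod the homogeneous ideal `J`;
* `mem_of_mul_mem_of_local`: a homogeneous `f` which is a nonzerodivisor on `R/J` locally at the
  irrelevant ideal is a nonzerodivisor on `R/J`;
* `isHilbPoly_step`: the Hilbert polynomial of `R/(J + (f))`;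
* `isHilbPoly_ofList_take`: Hilbert polynomial of `R/(f_1, …, f_j)` for a homogeneous regular
  sequence.
-/

set_option autoImplicit false
set_option linter.unusedSectionVars false
universe u

open MvPolynomial Module

namespace Groth.Agent.Lib.helper26.Bezout

open Groth.Agent.Lib.helper26.HS Groth.Agent.Lib.helper26.HilbHyper
  Groth.Agent.Lib.helper26.GrHS

attribute [local instance] MvPolynomial.gradedAlgebra

variable {k : Type u} [Field k] {σ : Type} [Finite σ]

theorem part_inf_map' (I : Ideal (MvPolynomial σ k))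
    (f : MvPolynomial σ k) (d : ℕ) (hf : f.IsHomogeneous d)
    (hreg : ∀ g, f * g ∈ I → g ∈ I) (m : ℕ) (hm : d ≤ m) :
    part I m ⊓ (homogeneousSubmodule σ k (m - d)).map (LinearMap.mulLeft k f) =
      (part I (m - d)).map (LinearMap.mulLeft k f) := by
  apply le_antisymm
  · rintro x ⟨hx1, ⟨g, hg, rfl⟩⟩
    rw [SetLike.mem_coe, mem_part] at hx1
    refine Submodule.mem_map.2 ⟨g, ?_, rfl⟩
    rw [mem_part]
    exact ⟨hreg g hx1.1, hg⟩
  · rintro x ⟨g, hg, rfl⟩
    rw [SetLike.mem_coe, mem_part] at hg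
    refine ⟨?_, Submodule.mem_map.2 ⟨g, hg.2, rfl⟩⟩
    rw [SetLike.mem_coe, mem_part]
    refine ⟨I.mul_mem_left f hg.1, ?_⟩
    have := hf.mul hg.2
    rwa [Nat.add_sub_cancel' hm] at this

theorem finrank_part_sup_span' (I : Ideal (MvPolynomial σ k))
    (hIh : I.IsHomogeneous (homogeneousSubmodule σ k))
    (f : MvPolynomial σ k) (d : ℕ) (hf : f.IsHomogeneous d) (hf0 : f ≠ 0)
    (hreg : ∀ g, f * g ∈ I → g ∈ I) (m : ℕ) (hm : d ≤ m) :
    finrank k (part (I ⊔ Ideal.span {f}) m) + finrank k (part I (m - d)) =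
      finrank k (part I m) + finrank k (homogeneousSubmodule σ k (m - d)) := by
  have hinj : Function.Injective (LinearMap.mulLeft k f) := by
    intro a b hab
    exact mul_left_cancel₀ hf0 hab
  have hC : ∀ S : Submodule k (MvPolynomial σ k),
      finrank k (S.map (LinearMap.mulLeft k f)) = finrank k S := fun S =>
    (LinearEquiv.finrank_eq (Submodule.equivMapOfInjective _ hinj S)).symm
  have hD := Submodule.finrank_sup_add_finrank_inf_eq (part I m)
    ((homogeneousSubmodule σ k (m - d)).map (LinearMap.mulLeft k f))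
  rw [← part_sup_span I hIh f d hf m hm, part_inf_map' I f d hf hreg m hm, hC, hC] at hD
  exact hD

omit [Finite σ] in
/-- a homogeneous element which is a nonzerodivisor on `R/J` locally at the irrelevant ideal is a
nonzerodivisor on `R/J` (`J` homogeneous). -/
theorem mem_of_mul_mem_of_local (J : Ideal (MvPolynomial σ k))
    (hJ : J.IsHomogeneous (homogeneousSubmodule σ k))
    (f : MvPolynomial σ k) (e : ℕ) (hf : f.IsHomogeneous e)
    (hloc : ∀ g, f * g ∈ J → ∃ s : MvPolynomial σ k, coeff 0 s ≠ 0 ∧ s * g ∈ J) :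
    ∀ g, f * g ∈ J → g ∈ J := by
  intro g hg
  rw [← sum_homogeneousComponent g]
  refine Ideal.sum_mem _ fun i _ => ?_
  have h1 : f * homogeneousComponent i g ∈ J := by
    have h2 := hJ (e + i) hg
    rw [DirectSum.coe_decompose_mul_of_left_mem_of_le (homogeneousSubmodule σ k)
      ((mem_homogeneousSubmodule e f).2 hf) (Nat.le_add_right e i), Nat.add_sub_cancel_left,
      decompose_eq_homogeneousComponent] at h2
    exact h2
  obtain ⟨s, hs0, hs⟩ := hloc _ h1
  have h3 := hJ i hs
  rw [DirectSum.coe_decompose_mul_of_right_mem_of_le (homogeneousSubmodule σ k)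
    (homogeneousComponent_mem i g) le_rfl, Nat.sub_self,
    decompose_eq_homogeneousComponent, homogeneousComponent_zero] at h3
  have h4 : homogeneousComponent i g =
      C (coeff 0 s)⁻¹ * (C (coeff 0 s) * homogeneousComponent i g) := by
    rw [← mul_assoc, ← C_mul, inv_mul_cancel₀ hs0, C_1, one_mul]
  rw [h4]
  exact J.mul_mem_left _ h3

/-- Hilbert polynomial of a regular hypersurface section. -/
theorem isHilbPoly_step (J : Ideal (MvPolynomial σ k))
    (hJ : J.IsHomogeneous (homogeneousSubmodule σ k))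
    (f : MvPolynomial σ k) (e : ℕ) (he : 0 < e) (hf : f.IsHomogeneous e) (hf0 : f ≠ 0)
    (hreg : ∀ g, f * g ∈ J → g ∈ J) (P : Polynomial ℚ) (hP : IsHilbPoly J P)
    (hdeg : 1 ≤ P.natDegree) :
    ∃ Q : Polynomial ℚ, IsHilbPoly (J ⊔ Ideal.span {f}) Q ∧ Q.natDegree + 1 = P.natDegree ∧
      (Q.natDegree.factorial : ℚ) * Q.leadingCoeff =
        e * ((P.natDegree.factorial : ℚ) * P.leadingCoeff) := by
  obtain ⟨m₁, h₁⟩ := hP
  have he' : (-(e : ℚ)) ≠ 0 := by
    rw [neg_ne_zero]
    exact_mod_cast he.ne'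
  obtain ⟨h1, h2⟩ := natDegree_sub_comp_eq P (-(e : ℚ)) he' hdeg
  refine ⟨P - P.comp (Polynomial.X + Polynomial.C (-(e : ℚ))), ⟨m₁ + e, ?_⟩, h1, ?_⟩
  · intro m hm
    have hcast : (m : ℚ) + -(e : ℚ) = ((m - e : ℕ) : ℚ) := by
      rw [Nat.cast_sub (by omega)]
      ring
    rw [Polynomial.eval_sub, Polynomial.eval_comp, Polynomial.eval_add, Polynomial.eval_X,
      Polynomial.eval_C, hcast, h₁ m (by omega), h₁ (m - e) (by omega)]
    have hfr := finrank_part_sup_span' J hJ f e hf hf0 hreg m (by omega)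
    have hfr' : (finrank k (part (J ⊔ Ideal.span {f}) m) : ℚ) +
        (finrank k (part J (m - e)) : ℚ) =
        (finrank k (part J m) : ℚ) +
          (finrank k (homogeneousSubmodule σ k (m - e)) : ℚ) := by
      exact_mod_cast hfr
    linarith
  · rw [h2]
    obtain ⟨e', he'⟩ : ∃ e', P.natDegree = e' + 1 := ⟨P.natDegree - 1, by omega⟩
    have h3 : (P - P.comp (Polynomial.X + Polynomial.C (-(e : ℚ)))).natDegree = e' := by omega
    rw [h3, he', Nat.factorial_succ]
    push_cast
    ring

end Groth.Agent.Lib.helper26.Bezout
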