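import Mathlib
import Groth.Agent.Lib.Helper26.Bezout1
import Groth.Agent.Lib.Helper20.HomogRank

set_option autoImplicit false
set_option linter.unusedSectionVars false
universe u

open MvPolynomial Module

namespace Groth.Agent.Lib.helper26.Bezout

open Groth.Agent.Lib.helper26.HS Groth.Agent.Lib.helper26.HilbHyper
  Groth.Agent.Lib.helper26.GrHS

attribute [local instance] MvPolynomial.gradedAlgebra

variable {k : Type u} [Field k]

theorem part_bot {σ : Type} (m : ℕ) : part (⊥ : Ideal (MvPolynomial σ k)) m = ⊥ := by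
  unfold part
  rw [Submodule.restrictScalars_bot, bot_inf_eq]

theorem isHilbPoly_bot (n : ℕ) :
    IsHilbPoly (⊥ : Ideal (MvPolynomial (Fin (n + 1)) k)) (Polynomial.preHilbertPoly ℚ n 0) := by
  refine ⟨0, fun m _ => ?_⟩
  rw [part_bot, finrank_bot, Nat.cast_zero, sub_zero,
    Polynomial.preHilbertPoly_eq_choose_sub_add ℚ n (Nat.zero_le m),
    Groth.Agent.Lib.Helper20.HomogRank.finrank_homogeneousSubmodule, Nat.sub_zero]

theorem isHomogeneous_ofList {σ : Type} (fs : List (MvPolynomial σ k))
    (h : ∀ x ∈ fs, ∃ e, x.IsHomogeneous e) :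
    (Ideal.ofList fs).IsHomogeneous (homogeneousSubmodule σ k) := by
  apply Ideal.homogeneous_span
  intro x hx
  obtain ⟨e, he⟩ := h x hx
  exact ⟨e, (mem_homogeneousSubmodule e x).2 he⟩

theorem isHilbPoly_ofList_take (n : ℕ) (fs : List (MvPolynomial (Fin (n + 1)) k)) (ds : List ℕ)
    (hlen : fs.length = ds.length) (hn : fs.length ≤ n)
    (hhom : ∀ i (h : i < fs.length), fs[i].IsHomogeneous (ds[i]'(hlen ▸ h)))
    (hpos : ∀ i (h : i < ds.length), 0 < ds[i])
    (hne : Ideal.ofList fs ≠ ⊤)
    (hreg : ∀ j (h : j < fs.length), ∀ g, fs[j] * g ∈ Ideal.ofList (fs.take j) →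
      g ∈ Ideal.ofList (fs.take j)) :
    ∀ j, j ≤ fs.length → ∃ P : Polynomial ℚ, IsHilbPoly (Ideal.ofList (fs.take j)) P ∧
      P.natDegree = n - j ∧
      ((n - j).factorial : ℚ) * P.leadingCoeff = ((ds.take j).prod : ℚ) := by
  intro j
  induction j with
  | zero =>
    intro _
    refine ⟨Polynomial.preHilbertPoly ℚ n 0, ?_, ?_, ?_⟩
    · rw [List.take_zero, Ideal.ofList_nil]
      exact isHilbPoly_bot n
    · rw [Polynomial.natDegree_preHilbertPoly, Nat.sub_zero]
    · rw [Polynomial.leadingCoeff_preHilbertPoly, Nat.sub_zero, List.take_zero, List.prod_nil,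
        mul_inv_cancel₀, Nat.cast_one]
      exact_mod_cast (Nat.factorial_pos n).ne'
  | succ j ih =>
    intro hj
    have hj' : j < fs.length := hj
    obtain ⟨P, hP, hdeg, hlc⟩ := ih (by omega)
    have hJ : (Ideal.ofList (fs.take j)).IsHomogeneous (homogeneousSubmodule _ k) := by
      apply isHomogeneous_ofList
      intro x hx
      obtain ⟨i, hi, rfl⟩ := List.mem_iff_getElem.1 (List.mem_of_mem_take hx)
      exact ⟨_, hhom i hi⟩
    have hf0 : fs[j] ≠ 0 := by
      intro h0
      have h1 : (1 : MvPolynomial (Fin (n + 1)) k) ∈ Ideal.ofList (fs.take j) := by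
        apply hreg j hj'
        rw [h0, zero_mul]
        exact Ideal.zero_mem _
      apply hne
      rw [Ideal.eq_top_iff_one]
      have hle : Ideal.ofList (fs.take j) ≤ Ideal.ofList fs :=
        Ideal.span_mono fun x hx => List.mem_of_mem_take hx
      exact hle h1
    obtain ⟨Q, hQ, hQdeg, hQlc⟩ := isHilbPoly_step (Ideal.ofList (fs.take j)) hJ fs[j]
      (ds[j]'(hlen ▸ hj')) (hpos j (hlen ▸ hj')) (hhom j hj') hf0 (hreg j hj') P hP
      (by omega)
    refine ⟨Q, ?_, by omega, ?_⟩
    · rw [List.take_succ_eq_append_getElem hj', Ideal.ofList_append, Ideal.ofList_singleton]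
      exact hQ
    · have h1 : Q.natDegree = n - (j + 1) := by omega
      rw [← h1, hQlc, hdeg, hlc, List.take_succ_eq_append_getElem (hlen ▸ hj'),
        List.prod_append, List.prod_singleton]
      push_cast
      ring

end Groth.Agent.Lib.helper26.Bezout
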