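import Mathlib
import Groth.Prelude.Def_GrLC
import Groth.Prelude.Def_GrSeg
import Groth.Agent.Lib.Helper19.GrMod
import Groth.Agent.Lib.Helper26.Seg1
import Groth.Agent.Lib.Helper26.Seg10
import Groth.Agent.Lib.Helper26.GrCM3

/-!
# The *injective envelope of the residue field of a graded `k`-algebra (helper26)

`R` a non-negatively graded `k`-algebra with `R_0 = k`, `m = R_+`, `e : R/m → E'` a *injective
envelope.  Then `E'` lives in degrees `≤ 0`, `E'_0 = k · e(1)` is killed by `R_+`, and every nonzero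
homogeneous element of `E'` of degree `j` is carried onto `e(1)` by some element of `R_{-j}`.
-/

set_option autoImplicit false
set_option linter.unusedSectionVars false
set_option linter.dupNamespace false
universe u

namespace Groth.Agent.Lib.helper26.Can

open GrLC Groth.Agent.Lib.helper19.GrMod Groth.Agent.Lib.helper26.Seg
  Groth.Agent.Lib.helper26.GrCM

section Hull

variable {k : Type u} [Field k] {R : Type u} [CommRing R] [Algebra k R]
  (𝒜 : ℤ → Submodule k R) [GradedAlgebra 𝒜]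
  (hpos : ∀ n : ℤ, n < 0 → 𝒜 n = ⊥) (h0 : 𝒜 0 = Submodule.span k {(1 : R)})
  (m : HomogeneousIdeal 𝒜) (hm : m.toIdeal = irr 𝒜)
  {E' : Type u} [AddCommGroup E'] [Module R E'] (𝓔 : ℤ → AddSubgroup E')
  [DirectSum.Decomposition 𝓔] [SetLike.GradedSMul 𝒜 𝓔]
  (e : (R ⧸ m.toIdeal) →ₗ[R] E') (he : IsStarInjHull 𝒜 (quotGr 𝒜 m) 𝓔 e)

include he in
/-- the socle generator lies in degree zero -/
theorem unit_mem : e 1 ∈ 𝓔 0 :=
  he.grHom 0 1 ⟨1, SetLike.GradedOne.one_mem (A := 𝒜), rfl⟩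

/-- the socle generator is killed by `m` -/
theorem smul_unit_eq_zero {r : R} (hr : r ∈ m.toIdeal) : r • e 1 = 0 := by
  rw [← map_smul]
  have h1 : r • (1 : R ⧸ m.toIdeal) = 0 := by
    rw [Algebra.smul_def, mul_one]
    exact Ideal.Quotient.eq_zero_iff_mem.2 hr
  rw [h1, map_zero]

include hpos hm he in
theorem unit_ne_zero [Nontrivial R] : e 1 ≠ 0 := by
  intro h
  have h1 : (1 : R ⧸ m.toIdeal) = 0 := he.injective (h.trans (map_zero e).symm)
  have h2 : (1 : R) ∈ m.toIdeal := Ideal.Quotient.eq_zero_iff_mem.1 h1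
  rw [hm] at h2
  exact irr_ne_top 𝒜 hpos ((Ideal.eq_top_iff_one _).2 h2)

include hpos h0 hm in
/-- every class of `R/m` is a scalar -/
theorem exists_mk_eq (a : R) : ∃ c : k, (Ideal.Quotient.mk m.toIdeal a) = algebraMap k R c • 1 := by
  obtain ⟨c, hc⟩ := exists_sub_mem_irr 𝒜 hpos h0 a
  refine ⟨c, ?_⟩
  rw [Algebra.smul_def, mul_one]
  apply Ideal.Quotient.eq.2
  rw [hm]
  exact hc

include hpos h0 hm he in
/-- **a nonzero homogeneous element of `E'` of degree `j` is carried onto the socle generator by an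
element of `R_{-j}`** -/
theorem exists_smul_eq_unit {j : ℤ} {x : E'} (hx : x ∈ 𝓔 j) (hx0 : x ≠ 0) :
    ∃ r ∈ 𝒜 (-j), r • x = e 1 := by
  classical
  have hP : (Submodule.span R {x}).IsHomogeneous 𝓔 := span_singleton_isHomogeneous 𝒜 𝓔 hx
  have hne : Submodule.span R {x} ≠ ⊥ := by
    intro h
    have h1 : x ∈ Submodule.span R {x} := Submodule.mem_span_singleton_self x
    rw [h, Submodule.mem_bot] at h1
    exact hx0 h1
  have h1 := he.essential _ hP hne
  obtain ⟨y, hy, hy0⟩ := (Submodule.ne_bot_iff _).1 h1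
  obtain ⟨hy1, hy2⟩ := hy
  obtain ⟨r, rfl⟩ := Submodule.mem_span_singleton.1 hy1
  obtain ⟨abar, ha⟩ := hy2
  obtain ⟨a, rfl⟩ := Ideal.Quotient.mk_surjective abar
  obtain ⟨c, hc⟩ := exists_mk_eq 𝒜 hpos h0 m hm a
  rw [hc, map_smul] at ha
  have hc0 : c ≠ 0 := by
    intro h
    rw [h, map_zero, zero_smul] at ha
    exact hy0 ha.symm
  -- the degree zero component
  have h2 : algebraMap k R c • e 1 ∈ 𝓔 0 := by
    have := smul_mem_add 𝒜 𝓔 (SetLike.algebraMap_mem_graded 𝒜 c) (unit_mem 𝒜 m 𝓔 e he)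
    rwa [add_zero] at this
  have h3 : ((DirectSum.decompose 𝓔 (r • x) 0 : 𝓔 0) : E') = r • x := by
    rw [← ha]
    exact DirectSum.decompose_of_mem_same 𝓔 h2
  rw [decompose_smul_apply' 𝒜 𝓔 r hx 0, zero_sub] at h3
  refine ⟨algebraMap k R c⁻¹ * ((DirectSum.decompose 𝒜 r (-j) : 𝒜 (-j)) : R), ?_, ?_⟩
  · rw [← Algebra.smul_def]
    exact Submodule.smul_mem _ _ (SetLike.coe_mem _)
  · rw [mul_smul, h3, ← ha, ← mul_smul, ← map_mul, inv_mul_cancel₀ hc0, map_one, one_smul]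

include hpos h0 hm he in
/-- `E'` vanishes in positive degrees -/
theorem eq_zero_of_pos [Nontrivial R] {j : ℤ} (hj : 0 < j) {x : E'} (hx : x ∈ 𝓔 j) : x = 0 := by
  by_contra hx0
  obtain ⟨r, hr, hrx⟩ := exists_smul_eq_unit 𝒜 hpos h0 m hm 𝓔 e he hx hx0
  rw [hpos (-j) (by omega), Submodule.mem_bot] at hr
  rw [hr, zero_smul] at hrx
  exact unit_ne_zero 𝒜 hpos m hm 𝓔 e he hrx.symm

include hpos h0 hm he in
/-- `E'_0 = k · e(1)` -/
theorem exists_eq_smul_unit [Nontrivial R] {x : E'} (hx : x ∈ 𝓔 0) :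
    ∃ c : k, x = algebraMap k R c • e 1 := by
  by_cases hx0 : x = 0
  · exact ⟨0, by rw [hx0, map_zero, zero_smul]⟩
  obtain ⟨r, hr, hrx⟩ := exists_smul_eq_unit 𝒜 hpos h0 m hm 𝓔 e he hx hx0
  rw [neg_zero, h0, Submodule.mem_span_singleton] at hr
  obtain ⟨c, rfl⟩ := hr
  have hc0 : c ≠ 0 := by
    intro h
    rw [h, zero_smul, zero_smul] at hrx
    exact unit_ne_zero 𝒜 hpos m hm 𝓔 e he hrx.symm
  refine ⟨c⁻¹, ?_⟩
  rw [← hrx, Algebra.smul_def, mul_one, ← mul_smul, ← map_mul, inv_mul_cancel₀ hc0, map_one,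
    one_smul]

include hpos h0 hm he in
/-- `R_+` kills `E'_0` -/
theorem smul_eq_zero_of_mem_zero [Nontrivial R] {r : R} (hr : r ∈ m.toIdeal) {x : E'}
    (hx : x ∈ 𝓔 0) : r • x = 0 := by
  obtain ⟨c, rfl⟩ := exists_eq_smul_unit 𝒜 hpos h0 m hm 𝓔 e he hx
  rw [smul_comm, smul_unit_eq_zero (𝒜 := 𝒜) m e hr, smul_zero]

end Hull

end Groth.Agent.Lib.helper26.Can
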