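import Mathlib
import Groth.Prelude.Def_GrLC
import Groth.Agent.Lib.Helper19.GrMod
import Groth.Agent.Lib.Helper19.GrConv
import Groth.Agent.Lib.Helper19.GrShift
import Groth.Agent.Lib.Helper19.GrFin1
import Groth.Agent.Lib.Helper26.KunK
import Groth.Agent.Lib.Helper26.Can1

/-!
# Graded Matlis duality for the *injective envelope of the residue field (helper26)

`R` a non-negatively graded `k`-algebra with `R_0 = k`, `E'` a *injective envelope of `R/R_+`, `C` a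
graded `R`-module.  Restriction to the piece of degree `-d` identifies the maps `C → E'` homogeneous
of degree `d` with `Hom_{R_0}(C_{-d}, E'_0)`.
-/

set_option autoImplicit false
set_option linter.unusedSectionVars false
set_option linter.dupNamespace false
universe u

namespace Groth.Agent.Lib.helper26.Can

open GrLC Groth.Agent.Lib.helper19.GrMod Groth.Agent.Lib.helper19.GrConv
  Groth.Agent.Lib.helper19.GrShift
  Groth.Agent.Lib.helper26.Seg Groth.Agent.Lib.helper26.GrCM Groth.Agent.Lib.helper26.Kun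

section Restr

variable {k : Type u} [Field k] {R : Type u} [CommRing R] [Algebra k R]
  (𝒜 : ℤ → Submodule k R) [GradedAlgebra 𝒜]
  (hpos : ∀ n : ℤ, n < 0 → 𝒜 n = ⊥) (h0 : 𝒜 0 = Submodule.span k {(1 : R)})
  (m : HomogeneousIdeal 𝒜) (hm : m.toIdeal = irr 𝒜)
  {E' : Type u} [AddCommGroup E'] [Module R E'] (𝓔 : ℤ → AddSubgroup E')
  [DirectSum.Decomposition 𝓔] [SetLike.GradedSMul 𝒜 𝓔]
  (e : (R ⧸ m.toIdeal) →ₗ[R] E') (he : IsStarInjHull 𝒜 (quotGr 𝒜 m) 𝓔 e)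
  {C : Type u} [AddCommGroup C] [Module R C] (𝒞 : ℤ → AddSubgroup C)
  [DirectSum.Decomposition 𝒞] [SetLike.GradedSMul 𝒜 𝒞]

/-- restriction of a map of degree `d` to the piece of degree `-d` -/
def restr (d : ℤ) :
    ↥(homDeg 𝒜 𝒞 𝓔 d) →ₗ[deg0 𝒜] (↥(comp 𝒜 𝒞 (-d)) →ₗ[deg0 𝒜] ↥(comp 𝒜 𝓔 0)) where
  toFun f :=
    { toFun := fun c => ⟨f.1 c.1, by
        have h := f.2 (-d) c.1 c.2
        rwa [neg_add_cancel] at h⟩
      map_add' := fun c c' => Subtype.ext (map_add f.1 c.1 c'.1)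
      map_smul' := fun a c => Subtype.ext (map_smul f.1 (a : R) c.1) }
  map_add' := fun f g => LinearMap.ext fun c => Subtype.ext rfl
  map_smul' := fun a f => LinearMap.ext fun c => Subtype.ext rfl

theorem restr_apply (d : ℤ) (f : ↥(homDeg 𝒜 𝒞 𝓔 d)) (c : ↥(comp 𝒜 𝒞 (-d))) :
    ((restr 𝒜 𝓔 𝒞 d f c : ↥(comp 𝒜 𝓔 0)) : E') = f.1 c.1 := rfl

include hpos h0 hm he in
theorem restr_injective [Nontrivial R] (d : ℤ) : Function.Injective (restr 𝒜 𝓔 𝒞 d) := by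
  classical
  rw [injective_iff_map_eq_zero]
  intro f hf
  apply Subtype.ext
  apply LinearMap.ext
  intro c
  show f.1 c = 0
  induction c using DirectSum.Decomposition.inductionOn 𝒞 with
  | zero => exact map_zero _
  | @homogeneous j c =>
    by_contra hne
    have hfc : f.1 (c : C) ∈ 𝓔 (j + d) := f.2 j c.1 c.2
    obtain ⟨r, hr, hrx⟩ := exists_smul_eq_unit 𝒜 hpos h0 m hm 𝓔 e he hfc hne
    have hrc : r • (c : C) ∈ 𝒞 (-d) := by
      have h1 := smul_mem_add 𝒜 𝒞 hr c.2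
      have e1 : -(j + d) + j = -d := by ring
      rwa [e1] at h1
    have h2 : f.1 (r • (c : C)) = 0 := by
      have h3 := congrArg (fun t : ↥(comp 𝒜 𝒞 (-d)) →ₗ[deg0 𝒜] ↥(comp 𝒜 𝓔 0) =>
        ((t ⟨r • (c : C), hrc⟩ : ↥(comp 𝒜 𝓔 0)) : E')) hf
      exact h3
    rw [map_smul, hrx] at h2
    exact unit_ne_zero 𝒜 hpos m hm 𝓔 e he h2
  | add a b ha hb => rw [map_add, ha, hb, add_zero]

/-- the projection onto the piece of degree `n` -/
noncomputable def prC (n : ℤ) : C →+ ↥(comp 𝒜 𝒞 n) where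
  toFun c := ⟨((DirectSum.decompose 𝒞 c n : 𝒞 n) : C), SetLike.coe_mem _⟩
  map_zero' := Subtype.ext (by
    show ((DirectSum.decompose 𝒞 (0 : C) n : 𝒞 n) : C) = 0
    rw [DirectSum.decompose_zero]; rfl)
  map_add' a b := Subtype.ext (by
    show ((DirectSum.decompose 𝒞 (a + b) n : 𝒞 n) : C) =
      ((DirectSum.decompose 𝒞 a n : 𝒞 n) : C) + ((DirectSum.decompose 𝒞 b n : 𝒞 n) : C)
    rw [DirectSum.decompose_add, DirectSum.add_apply, AddSubgroup.coe_add])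

theorem coe_prC (n : ℤ) (c : C) :
    ((prC 𝒜 𝒞 n c : ↥(comp 𝒜 𝒞 n)) : C) = ((DirectSum.decompose 𝒞 c n : 𝒞 n) : C) := rfl

theorem prC_smul_zero {r : R} (hr : r ∈ 𝒜 0) (c : C) (n : ℤ) :
    prC 𝒜 𝒞 n (r • c) = (⟨r, hr⟩ : deg0 𝒜) • prC 𝒜 𝒞 n c := by
  apply Subtype.ext
  show ((DirectSum.decompose 𝒞 (r • c) n : 𝒞 n) : C) = r • ((DirectSum.decompose 𝒞 c n : 𝒞 n) : C)
  rw [decompose_smul_apply 𝒜 𝒞 hr c n]
  congr 1
  exact coe_decompose_congr 𝒞 c (sub_zero n)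

/-- elements with no component in degrees `< s`, a submodule when `R` is non-negatively graded -/
def geSub (s : ℤ) : Submodule R C where
  carrier := {y | ∀ j : ℤ, j < s → ((DirectSum.decompose 𝒞 y j : 𝒞 j) : C) = 0}
  add_mem' {x y} hx hy j hj := by
    rw [DirectSum.decompose_add, DirectSum.add_apply, AddSubgroup.coe_add, hx j hj, hy j hj, add_zero]
  zero_mem' j _ := by rw [DirectSum.decompose_zero]; rfl
  smul_mem' r y hy j hj := by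
    classical
    show ((DirectSum.decompose 𝒞 (r • y) j : 𝒞 j) : C) = 0
    have h3 : r • y = ∑ c ∈ (DirectSum.decompose 𝒜 r).support,
        ((DirectSum.decompose 𝒜 r c : 𝒜 c) : R) • y := by
      conv_lhs => rw [← DirectSum.sum_support_decompose 𝒜 r]
      rw [Finset.sum_smul]
    rw [h3, DirectSum.decompose_sum, DFinsupp.finsetSum_apply, AddSubmonoidClass.coe_finsetSum]
    apply Finset.sum_eq_zero
    intro c _
    rw [decompose_smul_apply 𝒜 𝒞 (SetLike.coe_mem _) y j]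
    by_cases hc : c < 0
    · have h' : ∀ z ∈ 𝒜 c, z = 0 := by
        intro z hz
        rwa [hpos c hc, Submodule.mem_bot] at hz
      rw [h' _ (SetLike.coe_mem _), zero_smul]
    · rw [hy (j - c) (by omega), smul_zero]

theorem mem_geSub_of_mem {s n : ℤ} (h : s ≤ n) {y : C} (hy : y ∈ 𝒞 n) :
    y ∈ geSub 𝒜 hpos 𝒞 s := by
  intro j hj
  exact DirectSum.decompose_of_mem_ne 𝒞 hy (by omega)

theorem prC_smul_pos {i : ℤ} (hi : 0 < i) {r : R} (hr : r ∈ 𝒜 i) {n : ℤ} {c : C}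
    (hc : c ∈ geSub 𝒜 hpos 𝒞 n) : prC 𝒜 𝒞 n (r • c) = 0 := by
  apply Subtype.ext
  show ((DirectSum.decompose 𝒞 (r • c) n : 𝒞 n) : C) = 0
  rw [decompose_smul_apply 𝒜 𝒞 hr c n, hc (n - i) (by omega), smul_zero]

theorem prC_of_mem {n : ℤ} {c : C} (hc : c ∈ 𝒞 n) : prC 𝒜 𝒞 n c = ⟨c, hc⟩ :=
  Subtype.ext (DirectSum.decompose_of_mem_same 𝒞 hc)

theorem prC_of_mem_ne {n j : ℤ} {c : C} (hc : c ∈ 𝒞 j) (hj : j ≠ n) : prC 𝒜 𝒞 n c = 0 :=
  Subtype.ext (DirectSum.decompose_of_mem_ne 𝒞 hc hj)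

/-- `C_{≥ s}` is a homogeneous submodule -/
theorem geSub_isHomogeneous (s : ℤ) : (geSub 𝒜 hpos 𝒞 s).IsHomogeneous 𝒞 := by
  intro j y hy n hn
  by_cases hjn : j = n
  · subst hjn
    rw [DirectSum.decompose_of_mem_same 𝒞 (SetLike.coe_mem _)]
    exact hy j hn
  · exact DirectSum.decompose_of_mem_ne 𝒞 (SetLike.coe_mem _) hjn

/-- the map `C_{≥ -d} → E'`, `c ↦ t(c_{-d})` -/
noncomputable def preExt [Nontrivial R] (d : ℤ)
    (t : ↥(comp 𝒜 𝒞 (-d)) →ₗ[deg0 𝒜] ↥(comp 𝒜 𝓔 0)) : ↥(geSub 𝒜 hpos 𝒞 (-d)) →ₗ[R] E' where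
  toFun a := ((t (prC 𝒜 𝒞 (-d) (a : C)) : ↥(comp 𝒜 𝓔 0)) : E')
  map_add' a b := by rw [Submodule.coe_add, map_add, map_add, Submodule.coe_add]
  map_smul' r a := by
    simp only [RingHom.id_apply]
    rw [Submodule.coe_smul]
    induction r using DirectSum.Decomposition.inductionOn 𝒜 with
    | zero => rw [zero_smul, map_zero, map_zero, zero_smul]; rfl
    | @homogeneous i r =>
      rcases lt_trichotomy i 0 with hi | hi | hi
      · have hr0 : (r : R) = 0 := by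
          have h' : ∀ z ∈ 𝒜 i, z = 0 := by
            intro z hz
            rwa [hpos i hi, Submodule.mem_bot] at hz
          exact h' _ r.2
        rw [hr0, zero_smul, zero_smul, map_zero, map_zero]; rfl
      · subst hi
        rw [prC_smul_zero 𝒜 𝒞 r.2, map_smul]; rfl
      · rw [prC_smul_pos 𝒜 hpos 𝒞 hi r.2 a.2, map_zero]
        have h1 := smul_eq_zero_of_mem_zero 𝒜 hpos h0 m hm 𝓔 e he (r := (r : R))
          (by rw [hm]; exact mem_irr_of_mem 𝒜 hi r.2) (t (prC 𝒜 𝒞 (-d) (a : C))).2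
        exact h1.symm
    | add r r' hr hr' => rw [add_smul, map_add, map_add, Submodule.coe_add, hr, hr', add_smul]

theorem preExt_apply [Nontrivial R] (d : ℤ)
    (t : ↥(comp 𝒜 𝒞 (-d)) →ₗ[deg0 𝒜] ↥(comp 𝒜 𝓔 0)) (a : ↥(geSub 𝒜 hpos 𝒞 (-d))) :
    preExt 𝒜 hpos h0 m hm 𝓔 e he 𝒞 d t a = ((t (prC 𝒜 𝒞 (-d) (a : C)) : ↥(comp 𝒜 𝓔 0)) : E') := rfl

attribute [local instance] gsmulAdd

include hpos h0 hm he in
theorem restr_surjective [Nontrivial R] (d : ℤ) : Function.Surjective (restr 𝒜 𝓔 𝒞 d) := by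
  classical
  intro t
  have hA : (geSub 𝒜 hpos 𝒞 (-d)).IsHomogeneous 𝒞 := geSub_isHomogeneous 𝒜 hpos 𝒞 (-d)
  let _ : DirectSum.Decomposition (subPiece 𝒞 (geSub 𝒜 hpos 𝒞 (-d))) :=
    subDecomposition 𝒞 _ hA
  have : SetLike.GradedSMul (addGr 𝒜) (subPiece 𝒞 (geSub 𝒜 hpos 𝒞 (-d))) :=
    sub_gradedSMul (addGr 𝒜) 𝒞 _
  let _ : DirectSum.Decomposition (shiftPiece 𝓔 d) := shiftDecomposition 𝓔 d
  have : SetLike.GradedSMul (addGr 𝒜) (shiftPiece 𝓔 d) := shift_gradedSMul (addGr 𝒜) 𝓔 d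
  have hE : IsStarInj (addGr 𝒜) 𝓔 := isStarInj_toA 𝒜 (GMod.of 𝒜 E' 𝓔) he.starInj
  have hEs := starInj_shift (addGr 𝒜) 𝓔 hE d
  have hg : IsGrHom (subPiece 𝒞 (geSub 𝒜 hpos 𝒞 (-d))) (shiftPiece 𝓔 d)
      (preExt 𝒜 hpos h0 m hm 𝓔 e he 𝒞 d t) := by
    intro j a ha
    show preExt 𝒜 hpos h0 m hm 𝓔 e he 𝒞 d t a ∈ 𝓔 (j + d)
    rw [preExt_apply]
    have ha' : (a : C) ∈ 𝒞 j := ha
    by_cases hj : j = -d
    · subst hj
      rw [neg_add_cancel]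
      exact (t (prC 𝒜 𝒞 (-d) (a : C))).2
    · rw [prC_of_mem_ne 𝒜 𝒞 ha' hj, map_zero]
      exact zero_mem _
  obtain ⟨h, hgr, hcomp⟩ := hEs (GMod.of (addGr 𝒜) _ (subPiece 𝒞 (geSub 𝒜 hpos 𝒞 (-d))))
    (GMod.of (addGr 𝒜) C 𝒞) (geSub 𝒜 hpos 𝒞 (-d)).subtype
    (subtype_isGrHom 𝒞 (geSub 𝒜 hpos 𝒞 (-d))) Subtype.val_injective
    (preExt 𝒜 hpos h0 m hm 𝓔 e he 𝒞 d t) hg
  refine ⟨⟨h, fun g c hc => hgr g c hc⟩, ?_⟩
  apply LinearMap.ext
  intro c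
  apply Subtype.ext
  rw [restr_apply]
  show h (c : C) = _
  have hcA : (c : C) ∈ geSub 𝒜 hpos 𝒞 (-d) := mem_geSub_of_mem 𝒜 hpos 𝒞 le_rfl c.2
  have h1 := LinearMap.congr_fun hcomp ⟨(c : C), hcA⟩
  rw [LinearMap.comp_apply] at h1
  have h2 : h (c : C) = preExt 𝒜 hpos h0 m hm 𝓔 e he 𝒞 d t ⟨(c : C), hcA⟩ := h1
  rw [h2, preExt_apply]
  have h3 : prC 𝒜 𝒞 (-d) (c : C) = c := prC_of_mem 𝒜 𝒞 c.2
  rw [h3]

include h0 in
/-- the degree zero part is a field -/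
theorem isField_deg0 [Nontrivial R] : IsField (deg0 𝒜) :=
  MulEquiv.isField (Field.toIsField k)
    (RingEquiv.ofBijective (kToDeg0 𝒜) (kToDeg0_bijective 𝒜 h0)).symm.toMulEquiv

include hpos h0 hm he in
/-- `E'_0` is one-dimensional -/
theorem finrank_hull_zero [Nontrivial R] : Module.finrank (deg0 𝒜) (comp 𝒜 𝓔 0) = 1 := by
  have hK := isField_deg0 𝒜 h0
  let _ : Field (deg0 𝒜) := hK.toField
  have hv : (⟨e 1, unit_mem 𝒜 m 𝓔 e he⟩ : ↥(comp 𝒜 𝓔 0)) ≠ 0 := by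
    intro h
    exact unit_ne_zero 𝒜 hpos m hm 𝓔 e he (congrArg Subtype.val h)
  refine finrank_eq_one _ hv ?_
  intro w
  obtain ⟨c, hc⟩ := exists_eq_smul_unit 𝒜 hpos h0 m hm 𝓔 e he w.2
  refine ⟨kToDeg0 𝒜 c, ?_⟩
  apply Subtype.ext
  exact hc.symm

include hpos h0 hm he in
/-- **graded Matlis duality, dimension count**: the maps `C → E'` of degree `d` have the dimension
of `C_{-d}` -/
theorem finrank_homDeg [Nontrivial R] [IsNoetherianRing R] [Module.Finite R C] (d : ℤ) :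
    Module.finrank (deg0 𝒜) (homDeg 𝒜 𝒞 𝓔 d) = Module.finrank (deg0 𝒜) (comp 𝒜 𝒞 (-d)) := by
  have hK := isField_deg0 𝒜 h0
  let _ : Field (deg0 𝒜) := hK.toField
  have h1 := finrank_hull_zero 𝒜 hpos h0 m hm 𝓔 e he
  have eq := LinearEquiv.ofBijective (restr 𝒜 𝓔 𝒞 d)
    ⟨restr_injective 𝒜 hpos h0 m hm 𝓔 e he 𝒞 d, restr_surjective 𝒜 hpos h0 m hm 𝓔 e he 𝒞 d⟩
  rw [eq.finrank_eq]
  have hpos' : ∀ n : ℤ, n < 0 → addGr 𝒜 n = ⊥ := by
    intro n hn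
    show (𝒜 n).toAddSubgroup = ⊥
    rw [hpos n hn]
    rfl
  have hfin : Module.Finite (deg0 𝒜) (comp 𝒜 𝒞 (-d)) :=
    Groth.Agent.Lib.helper19.GrFin.finite_comp (addGr 𝒜) hpos' 𝒞 (-d)
  have hfin' : Module.Finite (deg0 𝒜) (comp 𝒜 𝓔 0) :=
    Module.finite_of_finrank_pos (by rw [h1]; exact one_pos)
  rw [Module.finrank_linearMap, h1, mul_one]

end Restr

end Groth.Agent.Lib.helper26.Can
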