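import Mathlib
import Groth.Prelude.Def_GrLC
import Groth.Agent.Lib.Helper26.Can2

/-!
# The evaluation pairing between `C_{-d}` and the maps `C → E'` of degree `d` is perfect (helper26)

`R` a non-negatively graded `k`-algebra with `R_0 = k`, `E'` a *injective envelope of `R/R_+`, `C` a
finitely generated graded `R`-module.
-/

set_option autoImplicit false
set_option linter.unusedSectionVars false
set_option linter.dupNamespace false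
universe u

namespace Groth.Agent.Lib.helper26.Can

open GrLC Groth.Agent.Lib.helper19.GrMod Groth.Agent.Lib.helper19.GrConv
  Groth.Agent.Lib.helper26.Seg Groth.Agent.Lib.helper26.Kun

section Pair

variable {k : Type u} [Field k] {R : Type u} [CommRing R] [Algebra k R]
  (𝒜 : ℤ → Submodule k R) [GradedAlgebra 𝒜]
  (hpos : ∀ n : ℤ, n < 0 → 𝒜 n = ⊥) (h0 : 𝒜 0 = Submodule.span k {(1 : R)})
  (m : HomogeneousIdeal 𝒜) (hm : m.toIdeal = irr 𝒜)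
  {E' : Type u} [AddCommGroup E'] [Module R E'] (𝓔 : ℤ → AddSubgroup E')
  [DirectSum.Decomposition 𝓔] [SetLike.GradedSMul 𝒜 𝓔]
  (e : (R ⧸ m.toIdeal) →ₗ[R] E') (he : IsStarInjHull 𝒜 (quotGr 𝒜 m) 𝓔 e)
  {C : Type u} [AddCommGroup C] [Module R C] (𝒞 : ℤ → AddSubgroup C)
  [DirectSum.Decomposition 𝒞] [SetLike.GradedSMul 𝒜 𝒞]

attribute [local instance] gsmulAdd

include hpos h0 hm he in
/-- an element of `C_{-d}` killed by all maps `C → E'` of degree `d` vanishes -/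
theorem eq_zero_of_forall_homDeg [Nontrivial R] (d : ℤ) (c : C) (hc : c ∈ 𝒞 (-d))
    (h : ∀ ψ : C →ₗ[R] E', ψ ∈ homDeg 𝒜 𝒞 𝓔 d → ψ c = 0) : c = 0 := by
  have hK := isField_deg0 𝒜 h0
  let _ : Field (deg0 𝒜) := hK.toField
  by_contra hne
  have h1 := finrank_hull_zero 𝒜 hpos h0 m hm 𝓔 e he
  obtain ⟨w, hw⟩ : ∃ w : ↥(comp 𝒜 𝓔 0), w ≠ 0 :=
    ⟨⟨e 1, unit_mem 𝒜 m 𝓔 e he⟩, fun h =>
      unit_ne_zero 𝒜 hpos m hm 𝓔 e he (congrArg Subtype.val h)⟩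
  let v : ↥(comp 𝒜 𝒞 (-d)) := ⟨c, hc⟩
  have hv : v ≠ 0 := fun hv0 => hne (congrArg Subtype.val hv0)
  obtain ⟨f0, hf0⟩ : ∃ f0 : Module.Dual (deg0 𝒜) ↥(comp 𝒜 𝒞 (-d)), f0 v ≠ 0 := by
    by_contra hcon
    rw [not_exists] at hcon
    have hcon : ∀ f0 : Module.Dual (deg0 𝒜) ↥(comp 𝒜 𝒞 (-d)), f0 v = 0 :=
      fun f0 => not_not.1 (hcon f0)
    exact hv ((Module.forall_dual_apply_eq_zero_iff (deg0 𝒜) v).1 hcon)
  obtain ⟨ψ, hψ⟩ := restr_surjective 𝒜 hpos h0 m hm 𝓔 e he 𝒞 d (f0.smulRight w)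
  have h2 := h ψ.1 ψ.2
  have h3 : ((restr 𝒜 𝓔 𝒞 d ψ v : ↥(comp 𝒜 𝓔 0)) : E') = ψ.1 c := rfl
  rw [hψ, h2] at h3
  have h4 : (f0.smulRight w) v = 0 := Subtype.ext h3
  rw [LinearMap.smulRight_apply] at h4
  rcases smul_eq_zero.1 h4 with h5 | h5
  · exact hf0 h5
  · exact hw h5

include hpos h0 hm he in
/-- every functional on the maps `C → E'` of degree `d` is the evaluation at an element of
`C_{-d}` -/
theorem exists_eval_eq [Nontrivial R] [IsNoetherianRing R] [Module.Finite R C] (d : ℤ)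
    (lam : ↥(homDeg 𝒜 𝒞 𝓔 d) →ₗ[deg0 𝒜] ↥(comp 𝒜 𝓔 0)) :
    ∃ c ∈ 𝒞 (-d), ∀ ψ : ↥(homDeg 𝒜 𝒞 𝓔 d), ((lam ψ : ↥(comp 𝒜 𝓔 0)) : E') = ψ.1 c := by
  have hK := isField_deg0 𝒜 h0
  let _ : Field (deg0 𝒜) := hK.toField
  have h1 := finrank_hull_zero 𝒜 hpos h0 m hm 𝓔 e he
  have hpos' : ∀ n : ℤ, n < 0 → addGr 𝒜 n = ⊥ := by
    intro n hn
    show (𝒜 n).toAddSubgroup = ⊥
    rw [hpos n hn]
    rfl
  have hfinV : Module.Finite (deg0 𝒜) (comp 𝒜 𝒞 (-d)) :=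
    Groth.Agent.Lib.helper19.GrFin.finite_comp (addGr 𝒜) hpos' 𝒞 (-d)
  have hfinW : Module.Finite (deg0 𝒜) (comp 𝒜 𝓔 0) :=
    Module.finite_of_finrank_pos (by rw [h1]; exact one_pos)
  let cW : ↥(comp 𝒜 𝓔 0) ≃ₗ[deg0 𝒜] (deg0 𝒜) :=
    LinearEquiv.ofFinrankEq _ _ (by rw [h1, Module.finrank_self])
  let ρ := LinearEquiv.ofBijective (restr 𝒜 𝓔 𝒞 d)
    ⟨restr_injective 𝒜 hpos h0 m hm 𝓔 e he 𝒞 d, restr_surjective 𝒜 hpos h0 m hm 𝓔 e he 𝒞 d⟩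
  let lam' : Module.Dual (deg0 𝒜) (Module.Dual (deg0 𝒜) ↥(comp 𝒜 𝒞 (-d))) :=
    { toFun := fun f0 => cW (lam (ρ.symm (cW.symm.toLinearMap ∘ₗ f0)))
      map_add' := fun f0 f1 => by
        rw [LinearMap.comp_add, map_add, map_add, map_add]
      map_smul' := fun a f0 => by
        rw [LinearMap.comp_smul, map_smul, map_smul, map_smul]
        rfl }
  let v := (Module.evalEquiv (deg0 𝒜) ↥(comp 𝒜 𝒞 (-d))).symm lam'
  refine ⟨v.1, v.2, fun ψ => ?_⟩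
  have h2 : (cW.toLinearMap ∘ₗ ρ ψ) v = lam' (cW.toLinearMap ∘ₗ ρ ψ) :=
    Module.apply_evalEquiv_symm_apply _ _ (cW.toLinearMap ∘ₗ ρ ψ) lam'
  have h3 : cW.symm.toLinearMap ∘ₗ (cW.toLinearMap ∘ₗ ρ ψ) = ρ ψ := by
    ext x
    simp
  have h4 : lam' (cW.toLinearMap ∘ₗ ρ ψ) = cW (lam ψ) := by
    show cW (lam (ρ.symm (cW.symm.toLinearMap ∘ₗ (cW.toLinearMap ∘ₗ ρ ψ)))) = _
    rw [h3, LinearEquiv.symm_apply_apply]
  rw [h4] at h2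
  have h5 : ρ ψ v = lam ψ := cW.injective h2
  have h6 : ((ρ ψ v : ↥(comp 𝒜 𝓔 0)) : E') = ψ.1 v.1 := rfl
  rw [← h5, h6]

end Pair

end Groth.Agent.Lib.helper26.Can
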