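import Mathlib
import Groth.Prelude.Def_GrLC
import Groth.Agent.Lib.Helper19.GrMod
import Groth.Agent.Lib.Helper19.GrConv
import Groth.Agent.Lib.Helper19.GrShift
import Groth.Agent.Lib.Helper26.KunK
import Groth.Agent.S13225

/-!
# A homogeneous isomorphism `Hom_R(C, E') ≅ H^n_m(M)` is an isomorphism piece by piece (helper26)

For `C` finitely generated, every `R`-linear map `C → E'` is a finite sum of homogeneous maps, and
the pieces of graded local cohomology are independent; hence a bijection carrying maps of degree `d`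
to classes of degree `d` restricts to bijections of the pieces.
-/

set_option autoImplicit false
set_option linter.unusedSectionVars false
set_option linter.dupNamespace false
universe u

namespace Groth.Agent.Lib.helper26.Can

open GrLC Groth.Agent.Lib.helper19.GrMod Groth.Agent.Lib.helper19.GrConv
  Groth.Agent.Lib.helper26.Kun

section Phi

variable {k : Type u} [Field k] {R : Type u} [CommRing R] [Algebra k R]
  (𝒜 : ℤ → Submodule k R) [GradedAlgebra 𝒜] [IsNoetherianRing R]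
  {M : Type u} [AddCommGroup M] [Module R M] (ℳ : ℤ → AddSubgroup M)
  [DirectSum.Decomposition ℳ] [SetLike.GradedSMul 𝒜 ℳ]
  (EM : StarInjRes 𝒜 ℳ) (m : HomogeneousIdeal 𝒜) (n : ℕ)
  {E' : Type u} [AddCommGroup E'] [Module R E'] (𝓔 : ℤ → AddSubgroup E')
  [DirectSum.Decomposition 𝓔] [SetLike.GradedSMul 𝒜 𝓔]
  {C : Type u} [AddCommGroup C] [Module R C] (𝒞 : ℤ → AddSubgroup C)
  [DirectSum.Decomposition 𝒞] [SetLike.GradedSMul 𝒜 𝒞] [Module.Finite R C]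
  (φ : (C →ₗ[R] E') ≃ₗ[R] EM.H m n)
  (hφ : IsGrHom (fun d => (homDeg 𝒜 𝒞 𝓔 d).toAddSubgroup) (EM.Hgr m n) φ.toLinearMap)

attribute [local instance] gsmulAdd

/-- the restriction of `φ` to the maps of degree `d` -/
def phiD (d : ℤ) : ↥(homDeg 𝒜 𝒞 𝓔 d) →ₗ[deg0 𝒜] ↥(EM.Hcomp m n d) where
  toFun f := ⟨φ f.1, hφ d f.1 f.2⟩
  map_add' f g := Subtype.ext (map_add φ f.1 g.1)
  map_smul' a f := Subtype.ext (map_smul φ (a : R) f.1)

theorem phiD_injective (d : ℤ) : Function.Injective (phiD 𝒜 ℳ EM m n 𝓔 𝒞 φ hφ d) := by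
  intro f g h
  apply Subtype.ext
  apply φ.injective
  exact congrArg Subtype.val h

theorem phiD_surjective (d : ℤ) : Function.Surjective (phiD 𝒜 ℳ EM m n 𝓔 𝒞 φ hφ d) := by
  classical
  intro h
  obtain ⟨T, hT, hspan⟩ := Groth.Agent.Lib.helper19.GrShift.exists_homogeneous_generators (R := R) 𝒞
  obtain ⟨S, hS⟩ := Groth.Agent.Lib.helper19.GrShift.exists_finset_sum_comp (addGr 𝒜) 𝒞 𝓔
    (φ.symm h.1) T hT hspan
  have hint : DirectSum.IsInternal ((resAddG 𝒜 ℳ EM).Hgr (idealAdd 𝒜 m) n) :=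
    Groth.Agent.S13225.result R (addGr 𝒜) (idealAdd 𝒜 m) M ℳ (resAddG 𝒜 ℳ EM) n
  let _ : DirectSum.Decomposition ((resAddG 𝒜 ℳ EM).Hgr (idealAdd 𝒜 m) n) :=
    hint.chooseDecomposition
  have hcomp : ∀ d' : ℤ, Groth.Agent.Lib.helper19.GrShift.comp (addGr 𝒜) 𝒞 𝓔 d' (φ.symm h.1) ∈
      homDeg 𝒜 𝒞 𝓔 d' := fun d' g x hx =>
    Groth.Agent.Lib.helper19.GrShift.comp_isGrHom (addGr 𝒜) 𝒞 𝓔 d' (φ.symm h.1) g x hx
  have hmem : ∀ d' : ℤ, φ (Groth.Agent.Lib.helper19.GrShift.comp (addGr 𝒜) 𝒞 𝓔 d' (φ.symm h.1)) ∈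
      (resAddG 𝒜 ℳ EM).Hgr (idealAdd 𝒜 m) n d' := fun d' => hφ d' _ (hcomp d')
  have hsum0 : (h : EM.H m n) =
      ∑ d' ∈ S, φ (Groth.Agent.Lib.helper19.GrShift.comp (addGr 𝒜) 𝒞 𝓔 d' (φ.symm h.1)) := by
    conv_lhs => rw [← φ.apply_symm_apply h.1, hS, map_sum]
  have hsum : ((h : EM.H m n) : (resAddG 𝒜 ℳ EM).H (idealAdd 𝒜 m) n) =
      (∑ d' ∈ S, φ (Groth.Agent.Lib.helper19.GrShift.comp (addGr 𝒜) 𝒞 𝓔 d' (φ.symm h.1)) :
        (resAddG 𝒜 ℳ EM).H (idealAdd 𝒜 m) n) := hsum0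
  have hdec := decompose_sum_mem ((resAddG 𝒜 ℳ EM).Hgr (idealAdd 𝒜 m) n) S
    (fun d' => φ (Groth.Agent.Lib.helper19.GrShift.comp (addGr 𝒜) 𝒞 𝓔 d' (φ.symm h.1)))
    (fun d' _ => hmem d') d
  have hh : (h : EM.H m n) ∈ (resAddG 𝒜 ℳ EM).Hgr (idealAdd 𝒜 m) n d := h.2
  have hdec' := (congrArg (fun x : (resAddG 𝒜 ℳ EM).H (idealAdd 𝒜 m) n =>
    ((DirectSum.decompose ((resAddG 𝒜 ℳ EM).Hgr (idealAdd 𝒜 m) n) x d :
      (resAddG 𝒜 ℳ EM).Hgr (idealAdd 𝒜 m) n d) : (resAddG 𝒜 ℳ EM).H (idealAdd 𝒜 m) n)) hsum).trans hdec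
  have h5 := decompose_sum_mem ((resAddG 𝒜 ℳ EM).Hgr (idealAdd 𝒜 m) n) {d}
    (fun _ => ((h : EM.H m n) : (resAddG 𝒜 ℳ EM).H (idealAdd 𝒜 m) n))
    (fun g hg => by rw [Finset.mem_singleton.1 hg]; exact hh) d
  rw [Finset.sum_singleton, if_pos (Finset.mem_singleton_self d)] at h5
  replace hdec := h5.symm.trans hdec'
  by_cases hd : d ∈ S
  · rw [if_pos hd] at hdec
    exact ⟨⟨_, hcomp d⟩, Subtype.ext hdec.symm⟩
  · rw [if_neg hd] at hdec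
    refine ⟨0, Subtype.ext ?_⟩
    rw [map_zero]
    exact hdec.symm

include φ hφ in
/-- **the pieces of `Hom_R(C, E')` and of `H^n_m(M)` have the same dimension** -/
theorem finrank_homDeg_eq (d : ℤ) :
    Module.finrank (deg0 𝒜) (homDeg 𝒜 𝒞 𝓔 d) = Module.finrank (deg0 𝒜) (EM.Hcomp m n d) :=
  (LinearEquiv.ofBijective (phiD 𝒜 ℳ EM m n 𝓔 𝒞 φ hφ d)
    ⟨phiD_injective 𝒜 ℳ EM m n 𝓔 𝒞 φ hφ d, phiD_surjective 𝒜 ℳ EM m n 𝓔 𝒞 φ hφ d⟩).finrank_eq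

end Phi

end Groth.Agent.Lib.helper26.Can
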