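import Mathlib
import Groth.Prelude.Def_GrLC
import Groth.Agent.Lib.Helper26.Can2
import Groth.Agent.Lib.Helper26.Can3
import Groth.Agent.Lib.Helper26.KunQ

/-!
# The pieces of a *canonical module (helper26)

`dim (K_R)_j = dim H^n_m(R)_{-j}` for a *canonical module `K_R` of a graded ring `R` defined over a
field.
-/

set_option autoImplicit false
set_option linter.unusedSectionVars false
set_option linter.dupNamespace false
universe u

namespace Groth.Agent.Lib.helper26.Can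

open GrLC Groth.Agent.Lib.helper19.GrMod Groth.Agent.Lib.helper19.GrConv
  Groth.Agent.Lib.helper26.Seg Groth.Agent.Lib.helper26.GrCM Groth.Agent.Lib.helper26.Kun

section Main

variable {k : Type u} [Field k] {R : Type u} [CommRing R] [Algebra k R]
  (𝒜 : ℤ → Submodule k R) [GradedAlgebra 𝒜]
  (hpos : ∀ n : ℤ, n < 0 → 𝒜 n = ⊥) (h0 : 𝒜 0 = Submodule.span k {(1 : R)})
  (m : HomogeneousIdeal 𝒜) (hm : m.toIdeal = irr 𝒜)
  {E' : Type u} [AddCommGroup E'] [Module R E'] (𝓔 : ℤ → AddSubgroup E')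
  [DirectSum.Decomposition 𝓔] [SetLike.GradedSMul 𝒜 𝓔]
  (e : (R ⧸ m.toIdeal) →ₗ[R] E') (he : IsStarInjHull 𝒜 (quotGr 𝒜 m) 𝓔 e)
  {C : Type u} [AddCommGroup C] [Module R C] (𝒞 : ℤ → AddSubgroup C)
  [DirectSum.Decomposition 𝒞] [SetLike.GradedSMul 𝒜 𝒞]

include hpos h0 hm he in
/-- the pieces of a module `C` with a homogeneous isomorphism `Hom_R(C, E') ≅ H^n_m(M)` -/
theorem finrank_comp_of_equiv [Nontrivial R] [IsNoetherianRing R] [Module.Finite R C]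
    {M : Type u} [AddCommGroup M] [Module R M] (ℳ : ℤ → AddSubgroup M)
    [DirectSum.Decomposition ℳ] [SetLike.GradedSMul 𝒜 ℳ] (EM : StarInjRes 𝒜 ℳ) (n : ℕ)
    (φ : (C →ₗ[R] E') ≃ₗ[R] EM.H m n)
    (hφ : IsGrHom (fun d => (homDeg 𝒜 𝒞 𝓔 d).toAddSubgroup) (EM.Hgr m n) φ.toLinearMap) (j : ℤ) :
    Module.finrank (deg0 𝒜) (comp 𝒜 𝒞 j) = Module.finrank (deg0 𝒜) (EM.Hcomp m n (-j)) := by
  have h1 := finrank_homDeg 𝒜 hpos h0 m hm 𝓔 e he 𝒞 (-j)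
  rw [neg_neg] at h1
  rw [← h1]
  exact finrank_homDeg_eq 𝒜 ℳ EM m n 𝓔 𝒞 φ hφ (-j)

include hpos h0 hm he in
/-- **the pieces of a *canonical module**: `dim (K_R)_j = dim H^n_m(R)_{-j}` -/
theorem finrank_comp_canonical [Nontrivial R] [IsNoetherianRing R] (n : ℕ) (I : StarInjRes 𝒜 𝒜)
    (hC : IsStarCanonical 𝒜 𝒞 𝓔 m n I) (j : ℤ) :
    Module.finrank (deg0 𝒜) (comp 𝒜 𝒞 j) = Module.finrank (deg0 𝒜) (I.Hcomp m n (-j)) := by
  obtain ⟨hfin, φ, hφ⟩ := hC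
  have : SetLike.GradedSMul 𝒜 (addGr 𝒜) := gsmulSelf 𝒜
  exact finrank_comp_of_equiv 𝒜 hpos h0 m hm 𝓔 e he 𝒞 (addGr 𝒜) (resSelf 𝒜 I) n φ hφ j

end Main

end Groth.Agent.Lib.helper26.Can
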