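import Mathlib
import Groth.Prelude.Def_GrLC
import Groth.Agent.Lib.Helper19.GrMod
import Groth.Agent.Lib.Helper19.GrConv

/-!
# From gradings by additive subgroups with `R_0` a field to graded algebras over `R_0` (helper26)

For a ring `R` graded by additive subgroups `𝒜 : ℤ → AddSubgroup R`, the pieces are submodules over
the degree zero subring `R_0 = deg0 𝒜`; `subGr 𝒜 : ℤ → Submodule (deg0 𝒜) R` is a graded algebra
over `R_0`, with the same graded modules, *injective modules, resolutions and local cohomology.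
-/

set_option autoImplicit false
set_option linter.unusedSectionVars false
set_option linter.dupNamespace false
universe u

namespace Groth.Agent.Lib.helper26.Can

open GrLC Groth.Agent.Lib.helper19.GrMod Groth.Agent.Lib.helper19.GrConv

section Conv

variable {R : Type u} [CommRing R] (𝒜 : ℤ → AddSubgroup R) [GradedRing 𝒜]

/-- the pieces as submodules over the degree zero part -/
def subGr : ℤ → Submodule (deg0 𝒜) R := fun n =>
  { toAddSubmonoid := (𝒜 n).toAddSubmonoid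
    smul_mem' := fun c x hx => by
      have h := SetLike.GradedMul.mul_mem (A := 𝒜) c.2 hx
      rw [zero_add] at h
      exact h }

theorem mem_subGr {n : ℤ} {x : R} : x ∈ subGr 𝒜 n ↔ x ∈ 𝒜 n := Iff.rfl

theorem addGr_subGr : addGr (subGr 𝒜) = 𝒜 := rfl

/-- the identification of the pieces -/
def pieceHomS (g : ℤ) : 𝒜 g →+ subGr 𝒜 g where
  toFun y := ⟨(y : R), y.2⟩
  map_zero' := rfl
  map_add' _ _ := rfl

noncomputable def decHomS : R →+ DirectSum ℤ (fun g => subGr 𝒜 g) :=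
  (DirectSum.map (pieceHomS 𝒜)).comp (DirectSum.decomposeAddEquiv 𝒜).toAddMonoidHom

theorem decHomS_of_mem {g : ℤ} {y : R} (hy : y ∈ 𝒜 g) :
    decHomS 𝒜 y = DirectSum.of (fun g => subGr 𝒜 g) g ⟨y, hy⟩ := by
  simp only [decHomS, AddMonoidHom.coe_comp, Function.comp_apply, AddEquiv.toAddMonoidHom_eq_coe,
    AddMonoidHom.coe_coe, DirectSum.decomposeAddEquiv_apply]
  rw [DirectSum.decompose_of_mem 𝒜 hy, DirectSum.map_of]
  rfl

/-- the decomposition for the family of submodules -/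
noncomputable instance subDecompositionS : DirectSum.Decomposition (subGr 𝒜) where
  decompose' := decHomS 𝒜
  left_inv x := by
    induction x using DirectSum.Decomposition.inductionOn 𝒜 with
    | zero => simp
    | @homogeneous g y =>
      rw [decHomS_of_mem 𝒜 y.2, DirectSum.coeAddMonoidHom_of]
    | add a b ha hb =>
      rw [map_add, map_add, ha, hb]
  right_inv z := by
    induction z using DirectSum.induction_on with
    | zero => simp
    | of g q =>
      rw [DirectSum.coeAddMonoidHom_of, decHomS_of_mem 𝒜 q.2]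
    | add a b ha hb =>
      rw [map_add, map_add, ha, hb]

theorem coe_decompose_subGr (x : R) (g : ℤ) :
    ((DirectSum.decompose (subGr 𝒜) x g : subGr 𝒜 g) : R) =
      ((DirectSum.decompose 𝒜 x g : 𝒜 g) : R) := by
  show ((decHomS 𝒜 x) g : R) = _
  simp only [decHomS, AddMonoidHom.coe_comp, Function.comp_apply, AddEquiv.toAddMonoidHom_eq_coe,
    AddMonoidHom.coe_coe, DirectSum.decomposeAddEquiv_apply]
  rw [DirectSum.map_apply]
  rfl

noncomputable instance subGradedAlgebra : GradedAlgebra (subGr 𝒜) where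
  one_mem := SetLike.GradedOne.one_mem (A := 𝒜)
  mul_mem := fun _ _ _ _ hi hj => SetLike.GradedMul.mul_mem (A := 𝒜) hi hj
  decompose' := (subDecompositionS 𝒜).decompose'
  left_inv := (subDecompositionS 𝒜).left_inv
  right_inv := (subDecompositionS 𝒜).right_inv

/-- the homogeneous ideal for the family of submodules -/
noncomputable def idealSub (a : HomogeneousIdeal 𝒜) : HomogeneousIdeal (subGr 𝒜) :=
  ⟨a.toIdeal, by
    intro i x hx
    have h1 := a.isHomogeneous i hx
    show ((DirectSum.decompose (subGr 𝒜) x i : subGr 𝒜 i) : R) ∈ a.toIdeal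
    rw [coe_decompose_subGr]
    exact h1⟩

theorem idealSub_toIdeal (a : HomogeneousIdeal 𝒜) : (idealSub 𝒜 a).toIdeal = a.toIdeal := rfl

/-- a module graded over `𝒜` is graded over `subGr 𝒜` -/
theorem gsmulSub {M : Type u} [AddCommGroup M] [Module R M] (ℳ : ℤ → AddSubgroup M)
    [SetLike.GradedSMul 𝒜 ℳ] : SetLike.GradedSMul (subGr 𝒜) ℳ :=
  ⟨fun {_ _ _ _} hi hj => SetLike.GradedSMul.smul_mem (A := 𝒜) (B := ℳ) hi hj⟩

/-- a graded module over `subGr 𝒜` as a graded module over `𝒜` -/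
noncomputable def ofSubG (A : GMod.{u} (subGr 𝒜)) : GMod.{u} 𝒜 :=
  { carrier := A.carrier
    gr := A.gr
    dec := A.dec
    gsmul := ⟨fun _ _ _ _ hi hj => A.gsmul.smul_mem hi hj⟩ }

/-- a graded module over `𝒜` as a graded module over `subGr 𝒜` -/
noncomputable def toSubG (A : GMod.{u} 𝒜) : GMod.{u} (subGr 𝒜) :=
  { carrier := A.carrier
    gr := A.gr
    dec := A.dec
    gsmul := ⟨fun _ _ _ _ hi hj => A.gsmul.smul_mem hi hj⟩ }

theorem isStarInj_toSubG (A : GMod.{u} 𝒜) (hA : IsStarInj 𝒜 A.gr) :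
    IsStarInj (subGr 𝒜) (toSubG 𝒜 A).gr := by
  intro C D f hf hinj g hg
  exact hA (ofSubG 𝒜 C) (ofSubG 𝒜 D) f hf hinj g hg

attribute [local instance] gsmulSub

theorem isStarInj_sub {M : Type u} [AddCommGroup M] [Module R M] (ℳ : ℤ → AddSubgroup M)
    [DirectSum.Decomposition ℳ] [SetLike.GradedSMul 𝒜 ℳ] (h : IsStarInj 𝒜 ℳ) :
    IsStarInj (subGr 𝒜) ℳ :=
  isStarInj_toSubG 𝒜 (GMod.of 𝒜 M ℳ) h

/-- a *injective resolution of the ring over `𝒜` as a *injective resolution over `subGr 𝒜` -/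
noncomputable def resSubSelf (E : StarInjRes 𝒜 𝒜) : StarInjRes (subGr 𝒜) (subGr 𝒜) where
  X n := toSubG 𝒜 (E.X n)
  d := E.d
  ε := E.ε
  d_grHom := E.d_grHom
  ε_grHom := fun g m hm => E.ε_grHom g m hm
  ε_injective := E.ε_injective
  exact_zero := E.exact_zero
  exact_succ := E.exact_succ
  starInj n := isStarInj_toSubG 𝒜 (E.X n) (E.starInj n)

theorem resSubSelf_Hcomp (E : StarInjRes 𝒜 𝒜) (a : HomogeneousIdeal 𝒜) (i : ℕ) (g : ℤ) :
    ((resSubSelf 𝒜 E).Hcomp (idealSub 𝒜 a) i g : Set ((resSubSelf 𝒜 E).H (idealSub 𝒜 a) i)) =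
      (E.Hcomp a i g : Set (E.H a i)) := rfl

theorem quotGr_sub (m : HomogeneousIdeal 𝒜) : quotGr (subGr 𝒜) (idealSub 𝒜 m) = quotGr 𝒜 m := by
  funext g
  ext x
  constructor
  · rintro ⟨y, hy, rfl⟩
    exact ⟨y, hy, rfl⟩
  · rintro ⟨y, hy, rfl⟩
    exact ⟨y, hy, rfl⟩

theorem isStarInjHull_sub (m : HomogeneousIdeal 𝒜) {E' : Type u} [AddCommGroup E'] [Module R E']
    (𝓔 : ℤ → AddSubgroup E') [DirectSum.Decomposition 𝓔] [SetLike.GradedSMul 𝒜 𝓔]
    (e : (R ⧸ m.toIdeal) →ₗ[R] E') (he : IsStarInjHull 𝒜 (quotGr 𝒜 m) 𝓔 e) :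
    IsStarInjHull (subGr 𝒜) (quotGr (subGr 𝒜) (idealSub 𝒜 m)) 𝓔 e where
  injective := he.injective
  grHom := by
    rw [quotGr_sub]
    exact he.grHom
  essential := he.essential
  starInj := isStarInj_sub 𝒜 𝓔 he.starInj

theorem isStarCanonical_sub (m : HomogeneousIdeal 𝒜) {E' : Type u} [AddCommGroup E'] [Module R E']
    (𝓔 : ℤ → AddSubgroup E') [DirectSum.Decomposition 𝓔] [SetLike.GradedSMul 𝒜 𝓔]
    {C : Type u} [AddCommGroup C] [Module R C] (𝒞 : ℤ → AddSubgroup C)
    [DirectSum.Decomposition 𝒞] [SetLike.GradedSMul 𝒜 𝒞] (n : ℕ) (I : StarInjRes 𝒜 𝒜)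
    (hC : IsStarCanonical 𝒜 𝒞 𝓔 m n I) :
    IsStarCanonical (subGr 𝒜) 𝒞 𝓔 (idealSub 𝒜 m) n (resSubSelf 𝒜 I) := by
  obtain ⟨hfin, φ, hφ⟩ := hC
  exact ⟨hfin, φ, fun d f hf => hφ d f hf⟩

end Conv

end Groth.Agent.Lib.helper26.Can
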