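import Mathlib
import Groth.Prelude.Def_GrLC
import Groth.Agent.Lib.Helper26.CanConv
import Groth.Agent.Lib.Helper26.Can4

/-!
# The pieces of a *canonical module, for gradings by additive subgroups with `R_0` a field (helper26)
-/

set_option autoImplicit false
set_option linter.unusedSectionVars false
set_option linter.dupNamespace false
universe u

namespace Groth.Agent.Lib.helper26.Can

open GrLC Groth.Agent.Lib.helper19.GrMod Groth.Agent.Lib.helper19.GrConv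
  Groth.Agent.Lib.helper26.Seg

section Field0

variable {R : Type u} [CommRing R] (𝒜 : ℤ → AddSubgroup R) [GradedRing 𝒜]
  (hpos : ∀ n : ℤ, n < 0 → 𝒜 n = ⊥) (h0 : IsField (deg0 𝒜))

include hpos in
theorem subGr_eq_bot (n : ℤ) (hn : n < 0) : subGr 𝒜 n = ⊥ := by
  rw [eq_bot_iff]
  intro x hx
  have hx' : x ∈ 𝒜 n := hx
  rw [hpos n hn] at hx'
  exact (Submodule.mem_bot _).2 ((AddSubgroup.mem_bot).1 hx')

theorem subGr_zero : subGr 𝒜 0 = Submodule.span (deg0 𝒜) {(1 : R)} := by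
  apply le_antisymm
  · intro x hx
    rw [Submodule.mem_span_singleton]
    refine ⟨⟨x, hx⟩, ?_⟩
    show x * 1 = x
    rw [mul_one]
  · rw [Submodule.span_le]
    intro x hx
    rw [Set.mem_singleton_iff] at hx
    rw [hx]
    exact SetLike.GradedOne.one_mem (A := 𝒜)

attribute [local instance] gsmulSub

include hpos h0 in
/-- **the pieces of a *canonical module**, additive subgroup version -/
theorem finrank_comp_canonical_add [IsNoetherianRing R] [Nontrivial R] (m : HomogeneousIdeal 𝒜)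
    (hmsp : m.toIdeal = Ideal.span (⋃ n ∈ Set.Ioi (0 : ℤ), (𝒜 n : Set R)))
    {E' : Type u} [AddCommGroup E'] [Module R E'] (𝓔 : ℤ → AddSubgroup E')
    [DirectSum.Decomposition 𝓔] [SetLike.GradedSMul 𝒜 𝓔]
    (e : (R ⧸ m.toIdeal) →ₗ[R] E') (he : IsStarInjHull 𝒜 (quotGr 𝒜 m) 𝓔 e)
    {C : Type u} [AddCommGroup C] [Module R C] (𝒞 : ℤ → AddSubgroup C)
    [DirectSum.Decomposition 𝒞] [SetLike.GradedSMul 𝒜 𝒞] (n : ℕ) (I : StarInjRes 𝒜 𝒜)
    (hC : IsStarCanonical 𝒜 𝒞 𝓔 m n I) (j : ℤ) :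
    Module.finrank (deg0 𝒜) (comp 𝒜 𝒞 j) = Module.finrank (deg0 𝒜) (I.Hcomp m n (-j)) := by
  let _ : Field (deg0 𝒜) := h0.toField
  exact finrank_comp_canonical (subGr 𝒜) (subGr_eq_bot 𝒜 hpos) (subGr_zero 𝒜) (idealSub 𝒜 m)
    hmsp 𝓔 e (isStarInjHull_sub 𝒜 m 𝓔 e he) 𝒞 n (resSubSelf 𝒜 I)
    (isStarCanonical_sub 𝒜 m 𝓔 𝒞 n I hC) j

end Field0

end Groth.Agent.Lib.helper26.Can
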