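import Mathlib
import Groth.Prelude.Def_GrLC
import Groth.Agent.Lib.Helper26.Can5
import Groth.Agent.Lib.Helper26.Can10
import Groth.Agent.S13225

/-!
# The evaluation pairing, for gradings by additive subgroups with `R_0` a field (helper26)
-/

set_option autoImplicit false
set_option linter.unusedSectionVars false
set_option linter.dupNamespace false
universe u

namespace Groth.Agent.Lib.helper26.Can

open GrLC Groth.Agent.Lib.helper19.GrMod Groth.Agent.Lib.helper19.GrConv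
  Groth.Agent.Lib.helper26.Seg

section Field0

variable {R : Type u} [CommRing R] (𝒜 : ℤ → AddSubgroup R) [GradedRing 𝒜]
  (hpos : ∀ n : ℤ, n < 0 → 𝒜 n = ⊥) (h0 : IsField (deg0 𝒜))

attribute [local instance] gsmulSub

include hpos h0 in
theorem eq_zero_of_forall_homDeg_add [Nontrivial R] (m : HomogeneousIdeal 𝒜)
    (hmsp : m.toIdeal = Ideal.span (⋃ n ∈ Set.Ioi (0 : ℤ), (𝒜 n : Set R)))
    {E' : Type u} [AddCommGroup E'] [Module R E'] (𝓔 : ℤ → AddSubgroup E')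
    [DirectSum.Decomposition 𝓔] [SetLike.GradedSMul 𝒜 𝓔]
    (e : (R ⧸ m.toIdeal) →ₗ[R] E') (he : IsStarInjHull 𝒜 (quotGr 𝒜 m) 𝓔 e)
    {C : Type u} [AddCommGroup C] [Module R C] (𝒞 : ℤ → AddSubgroup C)
    [DirectSum.Decomposition 𝒞] [SetLike.GradedSMul 𝒜 𝒞] (d : ℤ) (c : C) (hc : c ∈ 𝒞 (-d))
    (h : ∀ ψ : C →ₗ[R] E', ψ ∈ homDeg 𝒜 𝒞 𝓔 d → ψ c = 0) : c = 0 := by
  let _ : Field (deg0 𝒜) := h0.toField
  exact eq_zero_of_forall_homDeg (subGr 𝒜) (subGr_eq_bot 𝒜 hpos) (subGr_zero 𝒜) (idealSub 𝒜 m)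
    hmsp 𝓔 e (isStarInjHull_sub 𝒜 m 𝓔 e he) 𝒞 d c hc h

include hpos h0 in
theorem exists_eval_eq_add [Nontrivial R] [IsNoetherianRing R] (m : HomogeneousIdeal 𝒜)
    (hmsp : m.toIdeal = Ideal.span (⋃ n ∈ Set.Ioi (0 : ℤ), (𝒜 n : Set R)))
    {E' : Type u} [AddCommGroup E'] [Module R E'] (𝓔 : ℤ → AddSubgroup E')
    [DirectSum.Decomposition 𝓔] [SetLike.GradedSMul 𝒜 𝓔]
    (e : (R ⧸ m.toIdeal) →ₗ[R] E') (he : IsStarInjHull 𝒜 (quotGr 𝒜 m) 𝓔 e)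
    {C : Type u} [AddCommGroup C] [Module R C] (𝒞 : ℤ → AddSubgroup C)
    [DirectSum.Decomposition 𝒞] [SetLike.GradedSMul 𝒜 𝒞] [Module.Finite R C] (d : ℤ)
    (lam : ↥(homDeg 𝒜 𝒞 𝓔 d) →ₗ[deg0 𝒜] ↥(comp 𝒜 𝓔 0)) :
    ∃ c ∈ 𝒞 (-d), ∀ ψ : ↥(homDeg 𝒜 𝒞 𝓔 d), ((lam ψ : ↥(comp 𝒜 𝓔 0)) : E') = ψ.1 c := by
  let _ : Field (deg0 𝒜) := h0.toField
  exact exists_eval_eq (subGr 𝒜) (subGr_eq_bot 𝒜 hpos) (subGr_zero 𝒜) (idealSub 𝒜 m)
    hmsp 𝓔 e (isStarInjHull_sub 𝒜 m 𝓔 e he) 𝒞 d lam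

include hpos h0 in
theorem finrank_hull_zero_add [Nontrivial R] (m : HomogeneousIdeal 𝒜)
    (hmsp : m.toIdeal = Ideal.span (⋃ n ∈ Set.Ioi (0 : ℤ), (𝒜 n : Set R)))
    {E' : Type u} [AddCommGroup E'] [Module R E'] (𝓔 : ℤ → AddSubgroup E')
    [DirectSum.Decomposition 𝓔] [SetLike.GradedSMul 𝒜 𝓔]
    (e : (R ⧸ m.toIdeal) →ₗ[R] E') (he : IsStarInjHull 𝒜 (quotGr 𝒜 m) 𝓔 e) :
    Module.finrank (deg0 𝒜) (comp 𝒜 𝓔 0) = 1 := by
  let _ : Field (deg0 𝒜) := h0.toField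
  exact finrank_hull_zero (subGr 𝒜) (subGr_eq_bot 𝒜 hpos) (subGr_zero 𝒜) (idealSub 𝒜 m)
    hmsp 𝓔 e (isStarInjHull_sub 𝒜 m 𝓔 e he)

end Field0

section Symm

variable {R : Type u} [CommRing R] (𝒜 : ℤ → AddSubgroup R) [GradedRing 𝒜] [IsNoetherianRing R]
  {M : Type u} [AddCommGroup M] [Module R M] (ℳ : ℤ → AddSubgroup M)
  [DirectSum.Decomposition ℳ] [SetLike.GradedSMul 𝒜 ℳ]
  (EM : StarInjRes 𝒜 ℳ) (m : HomogeneousIdeal 𝒜) (n : ℕ)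
  {E' : Type u} [AddCommGroup E'] [Module R E'] (𝓔 : ℤ → AddSubgroup E')
  [DirectSum.Decomposition 𝓔] [SetLike.GradedSMul 𝒜 𝓔]
  {C : Type u} [AddCommGroup C] [Module R C] (𝒞 : ℤ → AddSubgroup C)
  [DirectSum.Decomposition 𝒞] [SetLike.GradedSMul 𝒜 𝒞] [Module.Finite R C]
  (φ : (C →ₗ[R] E') ≃ₗ[R] EM.H m n)
  (hφ : IsGrHom (fun d => (homDeg 𝒜 𝒞 𝓔 d).toAddSubgroup) (EM.Hgr m n) φ.toLinearMap)

include hφ in
/-- the inverse of a homogeneous isomorphism `Hom_R(C, E') ≃ H^n_m(M)` is homogeneous -/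
theorem symm_mem_homDeg (d : ℤ) (h : EM.H m n) (hh : h ∈ EM.Hgr m n d) :
    φ.symm h ∈ homDeg 𝒜 𝒞 𝓔 d := by
  classical
  obtain ⟨T, hT, hspan⟩ := Groth.Agent.Lib.helper19.GrShift.exists_homogeneous_generators (R := R) 𝒞
  obtain ⟨S, hS⟩ := Groth.Agent.Lib.helper19.GrShift.exists_finset_sum_comp 𝒜 𝒞 𝓔
    (φ.symm h) T hT hspan
  have hint : DirectSum.IsInternal (EM.Hgr m n) :=
    Groth.Agent.S13225.result R 𝒜 m M ℳ EM n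
  let _ : DirectSum.Decomposition (EM.Hgr m n) := hint.chooseDecomposition
  have hcomp : ∀ d' : ℤ, Groth.Agent.Lib.helper19.GrShift.comp 𝒜 𝒞 𝓔 d' (φ.symm h) ∈
      homDeg 𝒜 𝒞 𝓔 d' := fun d' g x hx =>
    Groth.Agent.Lib.helper19.GrShift.comp_isGrHom 𝒜 𝒞 𝓔 d' (φ.symm h) g x hx
  have hmem : ∀ d' : ℤ, φ (Groth.Agent.Lib.helper19.GrShift.comp 𝒜 𝒞 𝓔 d' (φ.symm h)) ∈
      EM.Hgr m n d' := fun d' => hφ d' _ (hcomp d')
  have hsum : h = ∑ d' ∈ S, φ (Groth.Agent.Lib.helper19.GrShift.comp 𝒜 𝒞 𝓔 d' (φ.symm h)) := by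
    conv_lhs => rw [← φ.apply_symm_apply h, hS, map_sum]
  have hdec := decompose_sum_mem (EM.Hgr m n) S
    (fun d' => φ (Groth.Agent.Lib.helper19.GrShift.comp 𝒜 𝒞 𝓔 d' (φ.symm h)))
    (fun d' _ => hmem d') d
  have hdec' := (congrArg (fun x : EM.H m n =>
    ((DirectSum.decompose (EM.Hgr m n) x d : EM.Hgr m n d) : EM.H m n)) hsum).trans hdec
  have h5 := decompose_sum_mem (EM.Hgr m n) {d} (fun _ => h)
    (fun g hg => by rw [Finset.mem_singleton.1 hg]; exact hh) d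
  rw [Finset.sum_singleton, if_pos (Finset.mem_singleton_self d)] at h5
  replace hdec := h5.symm.trans hdec'
  by_cases hd : d ∈ S
  · rw [if_pos hd] at hdec
    have h6 : φ.symm h = Groth.Agent.Lib.helper19.GrShift.comp 𝒜 𝒞 𝓔 d (φ.symm h) := by
      rw [LinearEquiv.symm_apply_eq]
      exact hdec
    rw [h6]
    exact hcomp d
  · rw [if_neg hd] at hdec
    rw [hdec, map_zero]
    exact zero_mem _

end Symm

end Groth.Agent.Lib.helper26.Can
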