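import Mathlib
import Groth.Prelude.Def_GrLC

/-!
# Transporting graded modules along a semilinear comparison of their Matlis duals (helper26)

Abstract form of the comparison `K_{R^{(q)}} = (K_R)^{(q)}`: `C`, `C'` graded modules over `R`, `R'`
with perfect evaluation pairings against the homogeneous maps into `E'`, `E''`, a `φ`-semilinear
injective map `Θ : Hom_{R'}(C', E'') → Hom_R(C, E')` carrying degree `d` onto degree `dq`, and a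
`φ`-semilinear bijection `ι : E''_0 → E'_0`.  Then there is a `φ`-semilinear injective map `C' → C`
carrying `C'_j` onto `C_{jq}`.
-/

set_option autoImplicit false
set_option linter.unusedSectionVars false
set_option linter.dupNamespace false
universe u

namespace Groth.Agent.Lib.helper26.Can

open GrLC

section Transport

variable {R : Type u} [CommRing R] {R' : Type u} [CommRing R']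
  (𝒜 : ℤ → AddSubgroup R) [GradedRing 𝒜] (𝒜' : ℤ → AddSubgroup R') [GradedRing 𝒜']
  (φ : R' →+* R) (q : ℕ)
  {E' : Type u} [AddCommGroup E'] [Module R E'] (𝓔 : ℤ → AddSubgroup E')
  [DirectSum.Decomposition 𝓔] [SetLike.GradedSMul 𝒜 𝓔]
  {C : Type u} [AddCommGroup C] [Module R C] (𝒞 : ℤ → AddSubgroup C)
  [DirectSum.Decomposition 𝒞] [SetLike.GradedSMul 𝒜 𝒞]
  {E'' : Type u} [AddCommGroup E''] [Module R' E''] (𝓔'' : ℤ → AddSubgroup E'')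
  [DirectSum.Decomposition 𝓔''] [SetLike.GradedSMul 𝒜' 𝓔'']
  {C' : Type u} [AddCommGroup C'] [Module R' C'] (𝒞' : ℤ → AddSubgroup C')
  [DirectSum.Decomposition 𝒞'] [SetLike.GradedSMul 𝒜' 𝒞']

/-- the hypotheses of the transport -/
structure TransportData where
  hq : 0 < q
  hφ0 : ∀ k ∈ 𝒜 0, ∃ k' ∈ 𝒜' 0, φ k' = k
  φ_mem : ∀ (i : ℤ) (r : R'), r ∈ 𝒜' i → φ r ∈ 𝒜 (i * q)
  P1 : ∀ (d : ℤ) (c : C), c ∈ 𝒞 (-d) →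
    (∀ ψ : C →ₗ[R] E', ψ ∈ homDeg 𝒜 𝒞 𝓔 d → ψ c = 0) → c = 0
  P2 : ∀ (d : ℤ) (lam : ↥(homDeg 𝒜 𝒞 𝓔 d) →ₗ[deg0 𝒜] ↥(comp 𝒜 𝓔 0)),
    ∃ c ∈ 𝒞 (-d), ∀ ψ : ↥(homDeg 𝒜 𝒞 𝓔 d), ((lam ψ : ↥(comp 𝒜 𝓔 0)) : E') = ψ.1 c
  P1' : ∀ (d : ℤ) (c : C'), c ∈ 𝒞' (-d) →
    (∀ ψ : C' →ₗ[R'] E'', ψ ∈ homDeg 𝒜' 𝒞' 𝓔'' d → ψ c = 0) → c = 0
  P2' : ∀ (d : ℤ) (lam : ↥(homDeg 𝒜' 𝒞' 𝓔'' d) →ₗ[deg0 𝒜'] ↥(comp 𝒜' 𝓔'' 0)),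
    ∃ c ∈ 𝒞' (-d), ∀ ψ : ↥(homDeg 𝒜' 𝒞' 𝓔'' d), ((lam ψ : ↥(comp 𝒜' 𝓔'' 0)) : E'') = ψ.1 c
  Θ : (C' →ₗ[R'] E'') →ₛₗ[φ] (C →ₗ[R] E')
  Θ_inj : Function.Injective Θ
  Θ_mem : ∀ (d : ℤ) (ψ' : C' →ₗ[R'] E''), ψ' ∈ homDeg 𝒜' 𝒞' 𝓔'' d → Θ ψ' ∈ homDeg 𝒜 𝒞 𝓔 (d * q)
  Θ_surj : ∀ (d : ℤ) (ψ : C →ₗ[R] E'), ψ ∈ homDeg 𝒜 𝒞 𝓔 (d * q) →
    ∃ ψ' : C' →ₗ[R'] E'', ψ' ∈ homDeg 𝒜' 𝒞' 𝓔'' d ∧ Θ ψ' = ψ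
  ι : E'' → E'
  ι_add : ∀ x ∈ 𝓔'' 0, ∀ y ∈ 𝓔'' 0, ι (x + y) = ι x + ι y
  ι_smul : ∀ r ∈ 𝒜' 0, ∀ x ∈ 𝓔'' 0, ι (r • x) = φ r • ι x
  ι_mem : ∀ x ∈ 𝓔'' 0, ι x ∈ 𝓔 0
  ι_inj : ∀ x ∈ 𝓔'' 0, ι x = 0 → x = 0
  ι_surj : ∀ y ∈ 𝓔 0, ∃ x ∈ 𝓔'' 0, ι x = y

variable {𝒜 𝒜' φ q 𝓔 𝒞 𝓔'' 𝒞'} (T : TransportData 𝒜 𝒜' φ q 𝓔 𝒞 𝓔'' 𝒞')

namespace TransportData

theorem ι_zero : T.ι 0 = 0 := by
  have h := T.ι_add 0 (zero_mem _) 0 (zero_mem _)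
  rw [add_zero] at h
  exact left_eq_add.1 h

theorem ι_sub (x : E'') (hx : x ∈ 𝓔'' 0) (y : E'') (hy : y ∈ 𝓔'' 0) :
    T.ι (x - y) = T.ι x - T.ι y := by
  have h := T.ι_add (x - y) (sub_mem hx hy) y hy
  rw [sub_add_cancel] at h
  rw [h, add_sub_cancel_right]

/-- the relation defining the comparison map in degree `j` -/
def Rel (j : ℤ) (c' : C') (c : C) : Prop :=
  ∀ ψ' : C' →ₗ[R'] E'', ψ' ∈ homDeg 𝒜' 𝒞' 𝓔'' (-j) → T.Θ ψ' c = T.ι (ψ' c')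

theorem val_mem' {j : ℤ} {c' : C'} (hc' : c' ∈ 𝒞' j) {ψ' : C' →ₗ[R'] E''}
    (hψ' : ψ' ∈ homDeg 𝒜' 𝒞' 𝓔'' (-j)) : ψ' c' ∈ 𝓔'' 0 := by
  have h := hψ' j c' hc'
  rwa [add_neg_cancel] at h

theorem val_mem {j : ℤ} {c : C} (hc : c ∈ 𝒞 (j * q)) {ψ : C →ₗ[R] E'}
    (hψ : ψ ∈ homDeg 𝒜 𝒞 𝓔 ((-j) * q)) : ψ c ∈ 𝓔 0 := by
  have h := hψ (j * q) c hc
  have e : j * (q : ℤ) + (-j) * q = 0 := by ring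
  rwa [e] at h

theorem rel_add {j : ℤ} {c'₁ c'₂ : C'} (h₁ : c'₁ ∈ 𝒞' j) (h₂ : c'₂ ∈ 𝒞' j) {c₁ c₂ : C}
    (r₁ : T.Rel j c'₁ c₁) (r₂ : T.Rel j c'₂ c₂) : T.Rel j (c'₁ + c'₂) (c₁ + c₂) := by
  intro ψ' hψ'
  rw [map_add, map_add, r₁ ψ' hψ', r₂ ψ' hψ', T.ι_add _ (val_mem' h₁ hψ') _ (val_mem' h₂ hψ')]

theorem rel_sub {j : ℤ} {c'₁ c'₂ : C'} (h₁ : c'₁ ∈ 𝒞' j) (h₂ : c'₂ ∈ 𝒞' j) {c₁ c₂ : C}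
    (r₁ : T.Rel j c'₁ c₁) (r₂ : T.Rel j c'₂ c₂) : T.Rel j (c'₁ - c'₂) (c₁ - c₂) := by
  intro ψ' hψ'
  rw [map_sub, map_sub, r₁ ψ' hψ', r₂ ψ' hψ', T.ι_sub _ (val_mem' h₁ hψ') _ (val_mem' h₂ hψ')]

theorem smul_mem_homDeg' {i d : ℤ} {r : R'} (hr : r ∈ 𝒜' i) {ψ' : C' →ₗ[R'] E''}
    (hψ' : ψ' ∈ homDeg 𝒜' 𝒞' 𝓔'' d) : r • ψ' ∈ homDeg 𝒜' 𝒞' 𝓔'' (d + i) := by
  intro g x hx
  have h := SetLike.GradedSMul.smul_mem (A := 𝒜') (B := 𝓔'') hr (hψ' g x hx)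
  rw [vadd_eq_add] at h
  have e : i + (g + d) = g + (d + i) := by ring
  rw [e] at h
  rw [LinearMap.smul_apply]
  exact h

theorem rel_smul {i j : ℤ} {r : R'} (hr : r ∈ 𝒜' i) {c' : C'} {c : C}
    (h : T.Rel j c' c) : T.Rel (i + j) (r • c') (φ r • c) := by
  intro ψ' hψ'
  have h1 : r • ψ' ∈ homDeg 𝒜' 𝒞' 𝓔'' (-j) := by
    have h2 := smul_mem_homDeg' hr hψ'
    have e : -(i + j) + i = -j := by ring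
    rwa [e] at h2
  have h3 := h (r • ψ') h1
  rw [LinearMap.map_smulₛₗ, LinearMap.smul_apply, LinearMap.smul_apply] at h3
  rw [map_smul, map_smul, h3]

/-- uniqueness on the side of `C` -/
theorem rel_unique {j : ℤ} {c' : C'} {c₁ c₂ : C} (h₁ : c₁ ∈ 𝒞 (j * q)) (h₂ : c₂ ∈ 𝒞 (j * q))
    (r₁ : T.Rel j c' c₁) (r₂ : T.Rel j c' c₂) : c₁ = c₂ := by
  rw [← sub_eq_zero]
  have e : -((-j) * (q : ℤ)) = j * q := by ring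
  refine T.P1 ((-j) * q) (c₁ - c₂) (by rw [e]; exact sub_mem h₁ h₂) ?_
  intro ψ hψ
  obtain ⟨ψ', hψ', rfl⟩ := T.Θ_surj (-j) ψ hψ
  rw [map_sub, r₁ ψ' hψ', r₂ ψ' hψ', sub_self]

/-- uniqueness on the side of `C'` -/
theorem rel_unique' {j : ℤ} {c'₁ c'₂ : C'} {c : C} (h₁ : c'₁ ∈ 𝒞' j) (h₂ : c'₂ ∈ 𝒞' j)
    (r₁ : T.Rel j c'₁ c) (r₂ : T.Rel j c'₂ c) : c'₁ = c'₂ := by
  rw [← sub_eq_zero]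
  refine T.P1' (-j) (c'₁ - c'₂) (by rw [neg_neg]; exact sub_mem h₁ h₂) ?_
  intro ψ' hψ'
  have h3 := T.ι_sub _ (val_mem' h₁ hψ') _ (val_mem' h₂ hψ')
  rw [← r₁ ψ' hψ', ← r₂ ψ' hψ', sub_self, ← map_sub] at h3
  exact T.ι_inj _ (val_mem' (sub_mem h₁ h₂) hψ') h3

/-- existence on the side of `C` -/
theorem exists_rel (j : ℤ) (c' : C') (hc' : c' ∈ 𝒞' j) : ∃ c ∈ 𝒞 (j * q), T.Rel j c' c := by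
  classical
  have hinv : ∀ ψ : ↥(homDeg 𝒜 𝒞 𝓔 ((-j) * q)), ∃ ψ' : C' →ₗ[R'] E'',
      ψ' ∈ homDeg 𝒜' 𝒞' 𝓔'' (-j) ∧ T.Θ ψ' = ψ.1 := fun ψ => T.Θ_surj (-j) ψ.1 ψ.2
  choose Ti hTi_mem hTi_eq using hinv
  let lam : ↥(homDeg 𝒜 𝒞 𝓔 ((-j) * q)) →ₗ[deg0 𝒜] ↥(comp 𝒜 𝓔 0) :=
    { toFun := fun ψ => ⟨T.ι (Ti ψ c'), T.ι_mem _ (val_mem' hc' (hTi_mem ψ))⟩
      map_add' := fun ψ₁ ψ₂ => by
        apply Subtype.ext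
        have h1 : Ti (ψ₁ + ψ₂) = Ti ψ₁ + Ti ψ₂ := T.Θ_inj (by
          rw [map_add, hTi_eq, hTi_eq, hTi_eq]; rfl)
        show T.ι (Ti (ψ₁ + ψ₂) c') = T.ι (Ti ψ₁ c') + T.ι (Ti ψ₂ c')
        rw [h1, LinearMap.add_apply,
          T.ι_add _ (val_mem' hc' (hTi_mem ψ₁)) _ (val_mem' hc' (hTi_mem ψ₂))]
      map_smul' := fun k ψ => by
        apply Subtype.ext
        obtain ⟨k', hk', hkk⟩ := T.hφ0 k.1 k.2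
        have h1 : Ti (k • ψ) = k' • Ti ψ := T.Θ_inj (by
          rw [hTi_eq, LinearMap.map_smulₛₗ, hTi_eq, hkk]; rfl)
        show T.ι (Ti (k • ψ) c') = (k : R) • T.ι (Ti ψ c')
        rw [h1, LinearMap.smul_apply, T.ι_smul k' hk' _ (val_mem' hc' (hTi_mem ψ)), hkk] }
  obtain ⟨c, hc, hlam⟩ := T.P2 ((-j) * q) lam
  have e : -((-j) * (q : ℤ)) = j * q := by ring
  rw [e] at hc
  refine ⟨c, hc, fun ψ' hψ' => ?_⟩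
  have h2 := hlam ⟨T.Θ ψ', T.Θ_mem (-j) ψ' hψ'⟩
  have h3 : Ti ⟨T.Θ ψ', T.Θ_mem (-j) ψ' hψ'⟩ = ψ' := T.Θ_inj (hTi_eq _)
  have h4 : ((lam ⟨T.Θ ψ', T.Θ_mem (-j) ψ' hψ'⟩ : ↥(comp 𝒜 𝓔 0)) : E') =
      T.ι (Ti ⟨T.Θ ψ', T.Θ_mem (-j) ψ' hψ'⟩ c') := rfl
  rw [h4, h3] at h2
  exact h2.symm

/-- existence on the side of `C'` -/
theorem exists_rel' (j : ℤ) (c : C) (hc : c ∈ 𝒞 (j * q)) : ∃ c' ∈ 𝒞' j, T.Rel j c' c := by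
  classical
  have hval : ∀ ψ' : ↥(homDeg 𝒜' 𝒞' 𝓔'' (-j)), T.Θ ψ'.1 c ∈ 𝓔 0 := fun ψ' =>
    val_mem hc (T.Θ_mem (-j) ψ'.1 ψ'.2)
  have hinv : ∀ ψ' : ↥(homDeg 𝒜' 𝒞' 𝓔'' (-j)), ∃ x : E'', x ∈ 𝓔'' 0 ∧ T.ι x = T.Θ ψ'.1 c :=
    fun ψ' => T.ι_surj _ (hval ψ')
  choose Ii hIi_mem hIi_eq using hinv
  let lam : ↥(homDeg 𝒜' 𝒞' 𝓔'' (-j)) →ₗ[deg0 𝒜'] ↥(comp 𝒜' 𝓔'' 0) :=
    { toFun := fun ψ' => ⟨Ii ψ', hIi_mem ψ'⟩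
      map_add' := fun ψ₁ ψ₂ => by
        apply Subtype.ext
        show Ii (ψ₁ + ψ₂) = Ii ψ₁ + Ii ψ₂
        rw [← sub_eq_zero]
        refine T.ι_inj _ (sub_mem (hIi_mem _) (add_mem (hIi_mem _) (hIi_mem _))) ?_
        rw [T.ι_sub _ (hIi_mem _) _ (add_mem (hIi_mem _) (hIi_mem _)),
          T.ι_add _ (hIi_mem _) _ (hIi_mem _), hIi_eq, hIi_eq, hIi_eq, sub_eq_zero]
        show T.Θ (ψ₁.1 + ψ₂.1) c = _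
        rw [map_add, LinearMap.add_apply]
      map_smul' := fun k ψ' => by
        apply Subtype.ext
        show Ii (k • ψ') = (k : R') • Ii ψ'
        rw [← sub_eq_zero]
        have hm : (k : R') • Ii ψ' ∈ 𝓔'' 0 := (comp 𝒜' 𝓔'' 0).smul_mem k (hIi_mem ψ')
        refine T.ι_inj _ (sub_mem (hIi_mem _) hm) ?_
        rw [T.ι_sub _ (hIi_mem _) _ hm, T.ι_smul _ k.2 _ (hIi_mem _), hIi_eq, hIi_eq, sub_eq_zero]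
        show T.Θ ((k : R') • ψ'.1) c = _
        rw [LinearMap.map_smulₛₗ, LinearMap.smul_apply] }
  obtain ⟨c', hc', hlam⟩ := T.P2' (-j) lam
  rw [neg_neg] at hc'
  refine ⟨c', hc', fun ψ' hψ' => ?_⟩
  have h2 := hlam ⟨ψ', hψ'⟩
  have h4 : ((lam ⟨ψ', hψ'⟩ : ↥(comp 𝒜' 𝓔'' 0)) : E'') = Ii ⟨ψ', hψ'⟩ := rfl
  rw [h4] at h2
  show T.Θ ψ' c = T.ι (ψ' c')
  rw [← h2, hIi_eq]

end TransportData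

end Transport

end Groth.Agent.Lib.helper26.Can
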