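import Mathlib
import Groth.Prelude.Def_GrLC
import Groth.Agent.Lib.Helper26.Can12

/-!
# Transporting graded modules along a semilinear comparison of their Matlis duals: the map (helper26)
-/

set_option autoImplicit false
set_option linter.unusedSectionVars false
set_option linter.dupNamespace false
universe u

namespace Groth.Agent.Lib.helper26.Can

open GrLC

section Transport

variable {R : Type u} [CommRing R] {R' : Type u} [CommRing R']
  {𝒜 : ℤ → AddSubgroup R} [GradedRing 𝒜] {𝒜' : ℤ → AddSubgroup R'} [GradedRing 𝒜']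
  {φ : R' →+* R} {q : ℕ}
  {E' : Type u} [AddCommGroup E'] [Module R E'] {𝓔 : ℤ → AddSubgroup E'}
  [DirectSum.Decomposition 𝓔] [SetLike.GradedSMul 𝒜 𝓔]
  {C : Type u} [AddCommGroup C] [Module R C] {𝒞 : ℤ → AddSubgroup C}
  [DirectSum.Decomposition 𝒞] [SetLike.GradedSMul 𝒜 𝒞]
  {E'' : Type u} [AddCommGroup E''] [Module R' E''] {𝓔'' : ℤ → AddSubgroup E''}
  [DirectSum.Decomposition 𝓔''] [SetLike.GradedSMul 𝒜' 𝓔'']
  {C' : Type u} [AddCommGroup C'] [Module R' C'] {𝒞' : ℤ → AddSubgroup C'}
  [DirectSum.Decomposition 𝒞'] [SetLike.GradedSMul 𝒜' 𝒞']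
  (T : TransportData 𝒜 𝒜' φ q 𝓔 𝒞 𝓔'' 𝒞')

namespace TransportData

theorem rel_zero (j : ℤ) : T.Rel j 0 0 := by
  intro ψ' _
  rw [map_zero, map_zero, T.ι_zero]

include T in
/-- **the comparison map** -/
theorem exists_map : ∃ g : C' →ₛₗ[φ] C, Function.Injective g ∧
    ∀ j : ℤ, (𝒞' j).map (g : C' →+ C) = 𝒞 (j * q) := by
  classical
  have hex : ∀ (j : ℤ) (c' : 𝒞' j), ∃ c : C, c ∈ 𝒞 (j * q) ∧ T.Rel j c'.1 c := fun j c' => by
    obtain ⟨c, h1, h2⟩ := T.exists_rel j c'.1 c'.2
    exact ⟨c, h1, h2⟩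
  choose gf hgf_mem hgf_rel using hex
  let gP : ∀ j : ℤ, 𝒞' j →+ C := fun j => AddMonoidHom.mk' (gf j) (fun a b =>
    T.rel_unique (hgf_mem j (a + b)) (add_mem (hgf_mem j a) (hgf_mem j b)) (hgf_rel j (a + b))
      (T.rel_add a.2 b.2 (hgf_rel j a) (hgf_rel j b)))
  have hgP : ∀ (j : ℤ) (x : 𝒞' j), gP j x = gf j x := fun _ _ => rfl
  let G : C' →+ C :=
    (DirectSum.toAddMonoid gP).comp (DirectSum.decomposeAddEquiv 𝒞').toAddMonoidHom
  have hG_of_mem : ∀ (j : ℤ) (c' : C') (h : c' ∈ 𝒞' j), G c' = gf j ⟨c', h⟩ := by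
    intro j c' h
    show DirectSum.toAddMonoid gP (DirectSum.decompose 𝒞' c') = _
    rw [DirectSum.decompose_of_mem 𝒞' h, DirectSum.toAddMonoid_of]
    rfl
  have hG_smul_hom : ∀ (i j : ℤ) (r : R') (_ : r ∈ 𝒜' i) (c' : C') (_ : c' ∈ 𝒞' j),
      G (r • c') = φ r • G c' := by
    intro i j r hr c' hc'
    have hrc : r • c' ∈ 𝒞' (i + j) := SetLike.GradedSMul.smul_mem hr hc'
    rw [hG_of_mem (i + j) _ hrc, hG_of_mem j c' hc']
    refine T.rel_unique (hgf_mem _ _) ?_ (hgf_rel _ _) (T.rel_smul hr (hgf_rel j ⟨c', hc'⟩))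
    have h1 := SetLike.GradedSMul.smul_mem (A := 𝒜) (B := 𝒞) (T.φ_mem i r hr)
      (hgf_mem j ⟨c', hc'⟩)
    rw [vadd_eq_add] at h1
    have e : i * (q : ℤ) + j * q = (i + j) * q := by ring
    rwa [e] at h1
  have hG_smul : ∀ (r : R') (c' : C'), G (r • c') = φ r • G c' := by
    intro r c'
    induction r using DirectSum.Decomposition.inductionOn 𝒜' with
    | zero => rw [zero_smul, map_zero, map_zero, zero_smul]
    | homogeneous r =>
      induction c' using DirectSum.Decomposition.inductionOn 𝒞' with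
      | zero => rw [smul_zero, map_zero, smul_zero]
      | homogeneous c' => exact hG_smul_hom _ _ r.1 r.2 c'.1 c'.2
      | add a b ha hb => rw [smul_add, map_add, map_add, ha, hb, smul_add]
    | add a b ha hb => rw [add_smul, map_add, ha, hb, map_add, add_smul]
  have hG_dec : ∀ (c' : C') (j : ℤ),
      ((DirectSum.decompose 𝒞 (G c') (j * q) : 𝒞 (j * q)) : C) =
        gP j (DirectSum.decompose 𝒞' c' j) := by
    intro c' j
    induction c' using DirectSum.Decomposition.inductionOn 𝒞' with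
    | zero =>
      rw [map_zero, DirectSum.decompose_zero, DirectSum.decompose_zero]
      simp
    | @homogeneous i c' =>
      rw [hG_of_mem i c'.1 c'.2]
      by_cases hij : i = j
      · subst hij
        rw [DirectSum.decompose_of_mem_same 𝒞 (hgf_mem i ⟨c'.1, c'.2⟩), hgP]
        congr 1
        apply Subtype.ext
        rw [DirectSum.decompose_of_mem_same 𝒞' c'.2]
      · have hne : i * (q : ℤ) ≠ j * q := by
          intro h
          apply hij
          have hq0 : (q : ℤ) ≠ 0 := by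
            have := T.hq
            omega
          exact mul_right_cancel₀ hq0 h
        rw [DirectSum.decompose_of_mem_ne 𝒞 (hgf_mem i ⟨c'.1, c'.2⟩) hne]
        have h0 : DirectSum.decompose 𝒞' (c' : C') j = 0 := by
          apply Subtype.ext
          rw [DirectSum.decompose_of_mem_ne 𝒞' c'.2 hij]
          rfl
        rw [h0, map_zero]
    | add a b ha hb =>
      rw [map_add, DirectSum.decompose_add, DirectSum.decompose_add, DirectSum.add_apply,
        DirectSum.add_apply, map_add, ← ha, ← hb]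
      rfl
  refine ⟨{ toFun := G, map_add' := G.map_add, map_smul' := hG_smul }, ?_, ?_⟩
  · rw [injective_iff_map_eq_zero]
    intro c' hc'
    have hc0 : G c' = 0 := hc'
    have hcomp : ∀ j : ℤ, DirectSum.decompose 𝒞' c' j = 0 := by
      intro j
      have h1 := hG_dec c' j
      rw [hc0, DirectSum.decompose_zero, hgP] at h1
      have h2 : gf j (DirectSum.decompose 𝒞' c' j) = 0 := by
        rw [← h1]
        rfl
      apply Subtype.ext
      have h3 := hgf_rel j (DirectSum.decompose 𝒞' c' j)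
      rw [h2] at h3
      exact T.rel_unique' (DirectSum.decompose 𝒞' c' j).2 (zero_mem _) h3 (T.rel_zero j)
    have h4 : DirectSum.decompose 𝒞' c' = 0 := DFinsupp.ext hcomp
    rw [← DirectSum.decompose_zero 𝒞'] at h4
    exact (DirectSum.decompose 𝒞').injective h4
  · intro j
    ext c
    rw [AddSubgroup.mem_map]
    constructor
    · rintro ⟨c', hc', rfl⟩
      show G c' ∈ 𝒞 (j * q)
      rw [hG_of_mem j c' hc']
      exact hgf_mem _ _
    · intro hc
      obtain ⟨c', hc', hrel⟩ := T.exists_rel' j c hc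
      refine ⟨c', hc', ?_⟩
      show G c' = c
      rw [hG_of_mem j c' hc']
      exact T.rel_unique (hgf_mem _ _) hc (hgf_rel _ _) hrel

end TransportData

end Transport

end Groth.Agent.Lib.helper26.Can
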