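import Mathlib
import Groth.Prelude.Def_GrLC
import Groth.Agent.Lib.Helper19.GrMod
import Groth.Agent.Lib.Helper26.Ver2
import Groth.Agent.Lib.Helper26.Acyc1

/-!
# The Veronese of a *injective resolution is a graded resolution (helper26)
-/

set_option autoImplicit false
set_option linter.unusedSectionVars false
set_option linter.dupNamespace false
universe u

namespace Groth.Agent.Lib.helper26.Ver

open GrLC DirectSum Groth.Agent.Lib.helper19.GrMod Groth.Agent.Lib.helper26.Acyc

section Res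

variable {R : Type u} [CommRing R] {R' : Type u} [CommRing R']
variable {𝒜 : ℤ → AddSubgroup R} [GradedRing 𝒜] {𝒜' : ℤ → AddSubgroup R'} [GradedRing 𝒜']
  (D : VerData 𝒜 𝒜')
variable {M : Type u} [AddCommGroup M] [Module R M] {ℳ : ℤ → AddSubgroup M}
  [DirectSum.Decomposition ℳ] [SetLike.GradedSMul 𝒜 ℳ]
variable {M' : Type u} [AddCommGroup M'] [Module R' M'] {ℳ' : ℤ → AddSubgroup M'}
  [DirectSum.Decomposition ℳ'] [SetLike.GradedSMul 𝒜' ℳ']
variable (g : M' →ₛₗ[D.φ] M) (hg : Function.Injective g)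
  (hgdeg : ∀ j : ℤ, (ℳ' j).map (g : M' →+ M) = ℳ (j * D.q))

include hgdeg in
theorem g_mem {j : ℤ} {m : M'} (hm : m ∈ ℳ' j) : g m ∈ ℳ (j * D.q) := by
  rw [← hgdeg j]
  exact ⟨m, hm, rfl⟩

include hgdeg in
theorem g_mem_verSub (m : M') : g m ∈ verSub ℳ D.q := by
  classical
  rw [← DirectSum.sum_support_decompose ℳ' m, map_sum]
  apply AddSubgroup.sum_mem
  intro j _
  exact mem_verSub_of_mem ℳ D.q (g_mem D g hgdeg (SetLike.coe_mem _)) (Dvd.intro_left j rfl)

include hgdeg in
theorem exists_g_eq {m : M} (hm : m ∈ verSub ℳ D.q) : ∃ m' : M', g m' = m := by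
  classical
  have h : ∀ n : ℤ, ∃ m' : M', g m' = ((DirectSum.decompose ℳ m n : ℳ n) : M) := by
    intro n
    by_cases hn : (D.q : ℤ) ∣ n
    · obtain ⟨j, rfl⟩ := hn
      have h1 : ((DirectSum.decompose ℳ m (D.q * j) : ℳ (D.q * j)) : M) ∈ ℳ (j * D.q) := by
        rw [mul_comm j]
        exact SetLike.coe_mem _
      rw [← hgdeg j] at h1
      obtain ⟨m', -, hm'⟩ := h1
      exact ⟨m', hm'⟩
    · exact ⟨0, by rw [map_zero, hm n hn]⟩
  choose m' hm' using h
  refine ⟨∑ n ∈ (DirectSum.decompose ℳ m).support, m' n, ?_⟩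
  rw [map_sum, Finset.sum_congr rfl (fun n _ => hm' n)]
  exact DirectSum.sum_support_decompose ℳ m

include hg hgdeg in
theorem mem_of_g_mem {j : ℤ} {m : M'} (hm : g m ∈ ℳ (j * D.q)) : m ∈ ℳ' j := by
  rw [← hgdeg j] at hm
  obtain ⟨m₁, hm₁, h⟩ := hm
  have : m₁ = m := hg h
  rw [← this]
  exact hm₁

variable (E : StarInjRes 𝒜 ℳ)

/-- the augmentation of the Veronese resolution -/
noncomputable def verε : M' →ₗ[R'] Ver D (E.X 0) where
  toFun m := Ver.mk D (E.ε (g m))
    (map_mem_verSub ℳ (E.X 0).gr D.q E.ε E.ε_grHom (g_mem_verSub D g hgdeg m))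
  map_add' x y := Ver.ext D (by simp)
  map_smul' r x := Ver.ext D (by simp)

@[simp] theorem val_verε (m : M') : Ver.val D (verε D g hgdeg E m) = E.ε (g m) := rfl

/-- the Veronese of a *injective resolution -/
noncomputable def verRes : GRes 𝒜' ℳ' where
  X n := verGMod D (E.X n)
  d n := verMap D (E.d n) (E.d_grHom n)
  ε := verε D g hgdeg E
  d_grHom n := verMap_isGrHom D (E.d n) (E.d_grHom n)
  ε_grHom := by
    intro j m hm
    exact E.ε_grHom (j * D.q) (g m) (g_mem D g hgdeg hm)
  ε_injective := by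
    intro x y h
    have h1 : E.ε (g x) = E.ε (g y) := congrArg (Ver.val D) h
    exact hg (E.ε_injective h1)
  exact_zero := by
    ext x
    constructor
    · intro hx
      have hx' : E.d 0 (Ver.val D x) = 0 := congrArg (Ver.val D) hx
      have h1 : Ver.val D x ∈ LinearMap.range E.ε := by
        rw [← E.exact_zero]; exact hx'
      obtain ⟨m, hm⟩ := h1
      have hmv : m ∈ verSub ℳ D.q := by
        intro n hn
        apply E.ε_injective
        rw [← grHom_decompose ℳ (E.X 0).gr E.ε E.ε_grHom m n, hm, map_zero]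
        exact Ver.val_mem D x n hn
      obtain ⟨m', rfl⟩ := exists_g_eq D g hgdeg hmv
      exact ⟨m', Ver.ext D hm⟩
    · rintro ⟨m', rfl⟩
      apply Ver.ext D
      show E.d 0 (E.ε (g m')) = 0
      exact GRes.d_ε (toGRes E) (g m')
  exact_succ n := by
    ext x
    constructor
    · intro hx
      have hx' : E.d (n + 1) (Ver.val D x) = 0 := congrArg (Ver.val D) hx
      have h1 : Ver.val D x ∈ LinearMap.range (E.d n) := by
        rw [← E.exact_succ n]; exact hx'
      obtain ⟨y, hy⟩ := h1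
      refine ⟨Ver.mk D (verProj (E.X n).gr D.q y) (verProj_mem _ _ y), ?_⟩
      apply Ver.ext D
      show E.d n (verProj (E.X n).gr D.q y) = Ver.val D x
      rw [map_verProj (E.X n).gr (E.X (n + 1)).gr D.q (E.d n) (E.d_grHom n), hy]
      exact verProj_eq_self _ _ (Ver.val_mem D x)
    · rintro ⟨y, rfl⟩
      apply Ver.ext D
      show E.d (n + 1) (E.d n (Ver.val D y)) = 0
      exact GRes.d_d (toGRes E) n (Ver.val D y)

end Res

end Groth.Agent.Lib.helper26.Ver
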