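import Mathlib
import Groth.Prelude.Def_GrLC
import Groth.Agent.Lib.Helper19.GrMod
import Groth.Agent.Lib.Helper26.Ver3
import Groth.Agent.Lib.Helper26.Ver4

/-!
# Comparison of `Γ_{m'}` of the Veronese resolution with `Γ_m` of the resolution (helper26)
-/

set_option autoImplicit false
set_option linter.unusedSectionVars false
set_option linter.dupNamespace false
universe u

namespace Groth.Agent.Lib.helper26.Ver

open GrLC DirectSum Groth.Agent.Lib.helper19.GrMod Groth.Agent.Lib.helper26.Acyc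

section ProjHom

variable {R : Type u} [CommRing R]
variable {X : Type u} [AddCommGroup X] [Module R X] (𝒳 : ℤ → AddSubgroup X)
  [DirectSum.Decomposition 𝒳] (q : ℕ)

theorem verProj_mem_of_isHomogeneous (P : Submodule R X) (hP : P.IsHomogeneous 𝒳) {w : X}
    (hw : w ∈ P) : verProj 𝒳 q w ∈ P := by
  classical
  have h1 : verProj 𝒳 q w = ∑ n ∈ (DirectSum.decompose 𝒳 w).support,
      verProj 𝒳 q ((DirectSum.decompose 𝒳 w n : 𝒳 n) : X) := by
    conv_lhs => rw [← DirectSum.sum_support_decompose 𝒳 w]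
    rw [map_sum]
  rw [h1]
  apply Submodule.sum_mem
  intro n _
  by_cases hn : (q : ℤ) ∣ n
  · rw [verProj_of_mem_dvd 𝒳 q (SetLike.coe_mem _) hn]
    exact hP n hw
  · rw [verProj_of_mem_not_dvd 𝒳 q (SetLike.coe_mem _) hn]
    exact zero_mem _

end ProjHom

section Gam

variable {R : Type u} [CommRing R] {R' : Type u} [CommRing R']
variable {𝒜 : ℤ → AddSubgroup R} [GradedRing 𝒜] {𝒜' : ℤ → AddSubgroup R'} [GradedRing 𝒜']
  (D : VerData 𝒜 𝒜')

/-- `Γ_{m'}` of the Veronese is the Veronese of `Γ_m` -/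
theorem mem_gam_ver_iff [IsNoetherianRing R] (X : GMod.{u} 𝒜) (x : Ver D X) :
    x ∈ gam (irr 𝒜') (Ver D X) ↔ Ver.val D x ∈ gam (irr 𝒜) X.carrier := by
  constructor
  · rintro ⟨n, hn⟩
    -- everything in `(irr 𝒜').map φ ^ n` kills `val x`
    have h1 : ∀ r ∈ ((irr 𝒜') ^ n).map D.φ, r • Ver.val D x = 0 := by
      intro r hr
      refine Submodule.span_induction ?_ ?_ ?_ ?_ hr
      · rintro _ ⟨r', hr', rfl⟩
        have h2 := hn r' hr'
        exact congrArg (Ver.val D) h2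
      · exact zero_smul _ _
      · intro a b _ _ ha hb
        rw [add_smul, ha, hb, add_zero]
      · intro c a _ ha
        rw [smul_eq_mul, mul_smul, ha, smul_zero]
    obtain ⟨k, hk⟩ := Ideal.exists_pow_le_of_le_radical_of_fg D.irr_le_radical
      (IsNoetherian.noetherian (irr 𝒜))
    refine ⟨k * n, fun r hr => h1 r ?_⟩
    rw [Ideal.map_pow]
    rw [pow_mul] at hr
    exact Ideal.pow_right_mono hk n hr
  · rintro ⟨n, hn⟩
    refine ⟨n, fun r' hr' => ?_⟩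
    apply Ver.ext D
    show D.φ r' • Ver.val D x = 0
    apply hn
    have h1 : D.φ r' ∈ ((irr 𝒜') ^ n).map D.φ := Ideal.mem_map_of_mem D.φ hr'
    rw [Ideal.map_pow] at h1
    exact Ideal.pow_right_mono D.map_irr_le n h1

end Gam

section Coh

variable {R : Type u} [CommRing R] {R' : Type u} [CommRing R']
variable {𝒜 : ℤ → AddSubgroup R} [GradedRing 𝒜] {𝒜' : ℤ → AddSubgroup R'} [GradedRing 𝒜']
  (D : VerData 𝒜 𝒜')
variable {M : Type u} [AddCommGroup M] [Module R M] {ℳ : ℤ → AddSubgroup M}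
  [DirectSum.Decomposition ℳ] [SetLike.GradedSMul 𝒜 ℳ]
variable {M' : Type u} [AddCommGroup M'] [Module R' M'] {ℳ' : ℤ → AddSubgroup M'}
  [DirectSum.Decomposition ℳ'] [SetLike.GradedSMul 𝒜' ℳ']
variable (g : M' →ₛₗ[D.φ] M) (hg : Function.Injective g)
  (hgdeg : ∀ j : ℤ, (ℳ' j).map (g : M' →+ M) = ℳ (j * D.q))
variable (E : StarInjRes 𝒜 ℳ)
variable [IsNoetherianRing R] (m : HomogeneousIdeal 𝒜) (hm : m.toIdeal = irr 𝒜)
  (m' : HomogeneousIdeal 𝒜') (hm' : m'.toIdeal = irr 𝒜')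

include hm hm' in
theorem mem_cocyc_iff (i : ℕ) (z : Ver D (E.X i)) :
    z ∈ (verRes D g hg hgdeg E).cocyc m' i ↔ Ver.val D z ∈ E.cocyc m i := by
  have h1 : z ∈ (verRes D g hg hgdeg E).cocyc m' i ↔
      z ∈ gam m'.toIdeal (Ver D (E.X i)) ∧ verMap D (E.d i) (E.d_grHom i) z = 0 := Iff.rfl
  have h2 : Ver.val D z ∈ E.cocyc m i ↔
      Ver.val D z ∈ gam m.toIdeal (E.X i).carrier ∧ E.d i (Ver.val D z) = 0 := Iff.rfl
  rw [h1, h2, hm, hm', mem_gam_ver_iff D (E.X i) z]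
  constructor
  · rintro ⟨h3, h4⟩
    exact ⟨h3, congrArg (Ver.val D) h4⟩
  · rintro ⟨h3, h4⟩
    exact ⟨h3, Ver.ext D h4⟩

include hm hm' in
theorem mem_cobdy_iff (i : ℕ) (z : Ver D (E.X i)) :
    z ∈ (verRes D g hg hgdeg E).cobdy m' i ↔ Ver.val D z ∈ E.cobdy m i := by
  cases i with
  | zero =>
    have h1 : z ∈ (verRes D g hg hgdeg E).cobdy m' 0 ↔ z = 0 := Iff.rfl
    have h2 : Ver.val D z ∈ E.cobdy m 0 ↔ Ver.val D z = 0 := Iff.rfl
    rw [h1, h2]
    constructor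
    · intro h; rw [h]; rfl
    · intro h; exact Ver.ext D h
  | succ n =>
    have h1 : z ∈ (verRes D g hg hgdeg E).cobdy m' (n + 1) ↔
        ∃ w : Ver D (E.X n), w ∈ gam m'.toIdeal (Ver D (E.X n)) ∧
          verMap D (E.d n) (E.d_grHom n) w = z := Iff.rfl
    have h2 : Ver.val D z ∈ E.cobdy m (n + 1) ↔
        ∃ w : (E.X n).carrier, w ∈ gam m.toIdeal (E.X n).carrier ∧ E.d n w = Ver.val D z :=
      Iff.rfl
    rw [h1, h2]
    constructor
    · rintro ⟨w, hw, rfl⟩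
      rw [hm', mem_gam_ver_iff D (E.X n) w] at hw
      rw [hm]
      exact ⟨Ver.val D w, hw, rfl⟩
    · rintro ⟨w, hw, hwz⟩
      refine ⟨Ver.mk D (verProj (E.X n).gr D.q w) (verProj_mem _ _ w), ?_, ?_⟩
      · rw [hm', mem_gam_ver_iff D (E.X n)]
        rw [← hm]
        exact verProj_mem_of_isHomogeneous (E.X n).gr D.q _
          (gam_isHomogeneous 𝒜 m (E.X n).gr) hw
      · apply Ver.ext D
        show E.d n (verProj (E.X n).gr D.q w) = Ver.val D z
        rw [map_verProj (E.X n).gr (E.X (n + 1)).gr D.q (E.d n) (E.d_grHom n), hwz]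
        exact verProj_eq_self _ _ (Ver.val_mem D z)

/-- the underlying-element map as a semilinear map -/
noncomputable def valL (X : GMod.{u} 𝒜) : Ver D X →ₛₗ[D.φ] X.carrier where
  toFun x := Ver.val D x
  map_add' _ _ := rfl
  map_smul' _ _ := rfl

@[simp] theorem valL_apply (X : GMod.{u} 𝒜) (x : Ver D X) : valL D X x = Ver.val D x := rfl

/-- the map on cocycles -/
noncomputable def cocycMap (i : ℕ) :
    ↥((verRes D g hg hgdeg E).cocyc m' i) →ₛₗ[D.φ] ↥(E.cocyc m i) :=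
  LinearMap.codRestrict (E.cocyc m i)
    ((valL D (E.X i)).domRestrict ((verRes D g hg hgdeg E).cocyc m' i))
    (fun z => (mem_cocyc_iff D g hg hgdeg E m hm m' hm' i z.1).1 z.2)

theorem cocycMap_coe (i : ℕ) (z : ↥((verRes D g hg hgdeg E).cocyc m' i)) :
    ((cocycMap D g hg hgdeg E m hm m' hm' i z : ↥(E.cocyc m i)) : (E.X i).carrier) =
      Ver.val D z.1 := rfl

/-- the comparison map on cohomology -/
noncomputable def Hmap (i : ℕ) : (verRes D g hg hgdeg E).H m' i →ₛₗ[D.φ] E.H m i :=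
  Submodule.mapQ _ _ (cocycMap D g hg hgdeg E m hm m' hm' i) (by
    intro z hz
    exact (mem_cobdy_iff D g hg hgdeg E m hm m' hm' i z.1).1 hz)

theorem Hmap_toH (i : ℕ) (z : ↥((verRes D g hg hgdeg E).cocyc m' i)) :
    Hmap D g hg hgdeg E m hm m' hm' i ((verRes D g hg hgdeg E).toH m' i z) =
      E.toH m i (cocycMap D g hg hgdeg E m hm m' hm' i z) := rfl

theorem Hmap_injective (i : ℕ) : Function.Injective (Hmap D g hg hgdeg E m hm m' hm' i) := by
  rw [injective_iff_map_eq_zero]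
  intro x hx
  obtain ⟨z, rfl⟩ := Submodule.mkQ_surjective _ x
  have h1 : E.toH m i (cocycMap D g hg hgdeg E m hm m' hm' i z) = 0 := hx
  rw [Submodule.mkQ_apply, Submodule.Quotient.mk_eq_zero] at h1
  rw [Submodule.mkQ_apply, Submodule.Quotient.mk_eq_zero]
  exact (mem_cobdy_iff D g hg hgdeg E m hm m' hm' i z.1).2 h1

theorem Hmap_mem (i : ℕ) (j : ℤ) (x : (verRes D g hg hgdeg E).H m' i)
    (hx : x ∈ (verRes D g hg hgdeg E).Hcomp m' i j) :
    Hmap D g hg hgdeg E m hm m' hm' i x ∈ E.Hcomp m i (j * D.q) := by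
  obtain ⟨z, hz, rfl⟩ := hx
  exact ⟨cocycMap D g hg hgdeg E m hm m' hm' i z, hz, rfl⟩

theorem Hmap_surjOn (i : ℕ) (j : ℤ) (y : E.H m i) (hy : y ∈ E.Hcomp m i (j * D.q)) :
    ∃ x ∈ (verRes D g hg hgdeg E).Hcomp m' i j, Hmap D g hg hgdeg E m hm m' hm' i x = y := by
  obtain ⟨w, hw, rfl⟩ := hy
  have hwv : (w : (E.X i).carrier) ∈ verSub (E.X i).gr D.q :=
    mem_verSub_of_mem (E.X i).gr D.q hw (Dvd.intro_left j rfl)
  have hz : Ver.mk D (w : (E.X i).carrier) hwv ∈ (verRes D g hg hgdeg E).cocyc m' i :=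
    (mem_cocyc_iff D g hg hgdeg E m hm m' hm' i _).2 w.2
  refine ⟨(verRes D g hg hgdeg E).toH m' i ⟨_, hz⟩, ⟨⟨_, hz⟩, hw, rfl⟩, ?_⟩
  rw [Hmap_toH]
  congr 1

end Coh

end Groth.Agent.Lib.helper26.Ver
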