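import Mathlib
import Groth.Prelude.Def_GrLC
import Groth.Agent.Lib.Helper26.Ver5
import Groth.Agent.Lib.Helper26.Ver6

/-!
# Local cohomology commutes with the Veronese functor (helper26)

`ver_finrank` : `dim H^p_{m'}(M^{(q)})_j = dim H^p_m(M)_{jq}`.
-/

set_option autoImplicit false
set_option linter.unusedSectionVars false
set_option linter.dupNamespace false
universe u

namespace Groth.Agent.Lib.helper26.Ver

open GrLC DirectSum Groth.Agent.Lib.helper19.GrMod Groth.Agent.Lib.helper26.Acyc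

section Main

variable {R : Type u} [CommRing R] {R' : Type u} [CommRing R']
variable {𝒜 : ℤ → AddSubgroup R} [GradedRing 𝒜] {𝒜' : ℤ → AddSubgroup R'} [GradedRing 𝒜']
  (D : VerData 𝒜 𝒜')
variable {M : Type u} [AddCommGroup M] [Module R M] {ℳ : ℤ → AddSubgroup M}
  [DirectSum.Decomposition ℳ] [SetLike.GradedSMul 𝒜 ℳ]
variable {M' : Type u} [AddCommGroup M'] [Module R' M'] {ℳ' : ℤ → AddSubgroup M'}
  [DirectSum.Decomposition ℳ'] [SetLike.GradedSMul 𝒜' ℳ']
variable (g : M' →ₛₗ[D.φ] M) (hg : Function.Injective g)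
  (hgdeg : ∀ j : ℤ, (ℳ' j).map (g : M' →+ M) = ℳ (j * D.q))
variable (E : StarInjRes 𝒜 ℳ)
variable [IsNoetherianRing R] (m : HomogeneousIdeal 𝒜) (hm : m.toIdeal = irr 𝒜)
  (m' : HomogeneousIdeal 𝒜') (hm' : m'.toIdeal = irr 𝒜')

/-- the degree-zero parts correspond -/
def deg0Map : deg0 𝒜' → deg0 𝒜 := fun r =>
  ⟨D.φ r, by
    have h := D.φ_mem (show (r : R') ∈ 𝒜' 0 from r.2)
    rw [zero_mul] at h
    exact h⟩

theorem deg0Map_bijective (hφ : Function.Injective D.φ) : Function.Bijective (deg0Map D) := by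
  constructor
  · intro r s h
    apply Subtype.ext
    apply hφ
    exact congrArg Subtype.val h
  · intro s
    have h1 : (s : R) ∈ 𝒜 (0 * D.q) := by
      rw [zero_mul]; exact s.2
    rw [← D.hdeg 0] at h1
    obtain ⟨r, hr, hrs⟩ := h1
    exact ⟨⟨r, hr⟩, Subtype.ext hrs⟩

include hm hm' in
theorem finrank_verRes (hφ : Function.Injective D.φ) (p : ℕ) (j : ℤ) :
    Module.finrank (deg0 𝒜') ((verRes D g hg hgdeg E).Hcomp m' p j) =
      Module.finrank (deg0 𝒜) (E.Hcomp m p (j * D.q)) := by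
  let f : (verRes D g hg hgdeg E).Hcomp m' p j →+ E.Hcomp m p (j * D.q) :=
    { toFun := fun x => ⟨Hmap D g hg hgdeg E m hm m' hm' p x.1,
        Hmap_mem D g hg hgdeg E m hm m' hm' p j x.1 x.2⟩
      map_zero' := Subtype.ext (map_zero _)
      map_add' := fun x y => Subtype.ext (map_add _ _ _) }
  have hf : Function.Bijective f := by
    constructor
    · intro x y h
      apply Subtype.ext
      apply Hmap_injective D g hg hgdeg E m hm m' hm' p
      exact congrArg Subtype.val h
    · intro y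
      obtain ⟨x, hx, hxy⟩ := Hmap_surjOn D g hg hgdeg E m hm m' hm' p j y.1 y.2
      exact ⟨⟨x, hx⟩, Subtype.ext hxy⟩
  have hrank := rank_eq_of_equiv_equiv (deg0Map D) (AddEquiv.ofBijective f hf)
    (deg0Map_bijective D hφ) (by
      intro r x
      apply Subtype.ext
      show Hmap D g hg hgdeg E m hm m' hm' p ((r : R') • x.1) = D.φ r • _
      rw [LinearMap.map_smulₛₗ]
      rfl)
  unfold Module.finrank
  rw [hrank]

include hm hm' hg hgdeg in
/-- **Local cohomology commutes with the Veronese functor** (dimension form) -/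
theorem ver_finrank (hφ : Function.Injective D.φ) (F : StarInjRes 𝒜' ℳ') (p : ℕ) (j : ℤ) :
    Module.finrank (deg0 𝒜') (F.Hcomp m' p j) =
      Module.finrank (deg0 𝒜) (E.Hcomp m p (j * D.q)) := by
  have hR' : IsNoetherianRing R' := D.isNoetherianRing hφ
  have hA : ∀ n, IsAcyc m' ((verRes D g hg hgdeg E).X n) := fun n =>
    ver_isAcyc D hφ m hm m' hm' (E.X n) (E.starInj n)
  obtain ⟨e⟩ := acyc_Hcomp_equiv m' (verRes D g hg hgdeg E) hA F p j
  rw [e.finrank_eq]
  exact finrank_verRes D g hg hgdeg E m hm m' hm' hφ p j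

end Main

end Groth.Agent.Lib.helper26.Ver
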