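import Mathlib
import Groth.Prelude.Def_GrLC
import Groth.Agent.Lib.Helper26.Ver7

/-!
# Local cohomology commutes with the Veronese functor, as a semilinear map (helper26)

`exists_theta` : an injective map `H^p_{m'}(M^{(q)}) → H^p_m(M)`, semilinear over the inclusion
`R^{(q)} → R`, carrying the piece of degree `j` onto the piece of degree `jq`.
-/

set_option autoImplicit false
set_option linter.unusedSectionVars false
set_option linter.dupNamespace false
universe u

namespace Groth.Agent.Lib.helper26.Ver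

open GrLC DirectSum Groth.Agent.Lib.helper19.GrMod Groth.Agent.Lib.helper26.Acyc

section Theta

variable {R : Type u} [CommRing R] {R' : Type u} [CommRing R']
variable {𝒜 : ℤ → AddSubgroup R} [GradedRing 𝒜] {𝒜' : ℤ → AddSubgroup R'} [GradedRing 𝒜']
  (D : VerData 𝒜 𝒜')
variable {M : Type u} [AddCommGroup M] [Module R M] {ℳ : ℤ → AddSubgroup M}
  [DirectSum.Decomposition ℳ] [SetLike.GradedSMul 𝒜 ℳ]
variable {M' : Type u} [AddCommGroup M'] [Module R' M'] {ℳ' : ℤ → AddSubgroup M'}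
  [DirectSum.Decomposition ℳ'] [SetLike.GradedSMul 𝒜' ℳ']
variable (g : M' →ₛₗ[D.φ] M) (hg : Function.Injective g)
  (hgdeg : ∀ j : ℤ, (ℳ' j).map (g : M' →+ M) = ℳ (j * D.q))
variable (E : StarInjRes 𝒜 ℳ)
variable [IsNoetherianRing R] (m : HomogeneousIdeal 𝒜) (hm : m.toIdeal = irr 𝒜)
  (m' : HomogeneousIdeal 𝒜') (hm' : m'.toIdeal = irr 𝒜')

include hm hm' hg hgdeg in
/-- **Local cohomology commutes with the Veronese functor** (semilinear form) -/
theorem exists_theta (hφ : Function.Injective D.φ) (F : StarInjRes 𝒜' ℳ') (p : ℕ) :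
    ∃ θ : F.H m' p →ₛₗ[D.φ] E.H m p, Function.Injective θ ∧
      (∀ (j : ℤ) (x : F.H m' p), x ∈ F.Hgr m' p j → θ x ∈ E.Hgr m p (j * D.q)) ∧
      (∀ (j : ℤ) (y : E.H m p), y ∈ E.Hgr m p (j * D.q) → ∃ x ∈ F.Hgr m' p j, θ x = y) := by
  have hR' : IsNoetherianRing R' := D.isNoetherianRing hφ
  have hA : ∀ n, IsAcyc m' ((verRes D g hg hgdeg E).X n) := fun n =>
    ver_isAcyc D hφ m hm m' hm' (E.X n) (E.starInj n)
  obtain ⟨e, he⟩ := acyc_grIso m' (verRes D g hg hgdeg E) hA F p
  refine ⟨(Hmap D g hg hgdeg E m hm m' hm' p).comp e.toLinearMap, ?_, ?_, ?_⟩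
  · intro x y hxy
    apply e.injective
    exact Hmap_injective D g hg hgdeg E m hm m' hm' p hxy
  · intro j x hx
    exact Hmap_mem D g hg hgdeg E m hm m' hm' p j (e x) ((he j x).1 hx)
  · intro j y hy
    obtain ⟨x, hx, hxy⟩ := Hmap_surjOn D g hg hgdeg E m hm m' hm' p j y hy
    refine ⟨e.symm x, (he j (e.symm x)).2 ?_, ?_⟩
    · rw [e.apply_symm_apply]
      exact hx
    · show Hmap D g hg hgdeg E m hm m' hm' p (e (e.symm x)) = y
      rw [e.apply_symm_apply]
      exact hxy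

end Theta

end Groth.Agent.Lib.helper26.Ver
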