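import Mathlib
import Groth.Prelude.Def_GrLC
import Groth.Agent.Lib.Helper26.Can11
import Groth.Agent.Lib.Helper26.Can13
import Groth.Agent.Lib.Helper26.Ver8

/-!
# The canonical module of a Veronese subring (helper26)

`K_{R^{(q)}} = (K_R)^{(q)}` for a graded ring `R` defined over a field.
-/

set_option autoImplicit false
set_option linter.unusedSectionVars false
set_option linter.dupNamespace false
universe u

namespace Groth.Agent.Lib.helper26.Can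

open GrLC Groth.Agent.Lib.helper26.Ver

section Aux

variable {R : Type u} [CommRing R] [IsNoetherianRing R] {R' : Type u} [CommRing R']
variable {𝒜 : ℤ → AddSubgroup R} [GradedRing 𝒜] {𝒜' : ℤ → AddSubgroup R'} [GradedRing 𝒜']
  (D : VerData 𝒜 𝒜')

theorem nontrivial_of_isField_deg0 (h0 : IsField (deg0 𝒜)) : Nontrivial R := by
  obtain ⟨a, b, hab⟩ := h0.exists_pair_ne
  exact ⟨⟨a.1, b.1, fun h => hab (Subtype.ext h)⟩⟩

theorem ver_pos' (hφ : Function.Injective D.φ) (hpos : ∀ n : ℤ, n < 0 → 𝒜 n = ⊥) (j : ℤ)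
    (hj : j < 0) : 𝒜' j = ⊥ := by
  rw [eq_bot_iff]
  intro x hx
  have h1 := D.φ_mem hx
  have hq : (0 : ℤ) < D.q := by exact_mod_cast D.hq
  rw [hpos (j * D.q) (mul_neg_of_neg_of_pos hj hq)] at h1
  rw [AddSubgroup.mem_bot] at h1 ⊢
  exact hφ (h1.trans (map_zero D.φ).symm)

/-- the degree zero parts correspond, as a multiplicative isomorphism -/
noncomputable def ver_deg0MulEquiv (hφ : Function.Injective D.φ) : deg0 𝒜' ≃* deg0 𝒜 :=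
  MulEquiv.ofBijective
    ({ toFun := deg0Map D
       map_one' := Subtype.ext (map_one D.φ)
       map_mul' := fun a b => Subtype.ext (map_mul D.φ a.1 b.1) } : deg0 𝒜' →* deg0 𝒜)
    (deg0Map_bijective D hφ)

theorem ver_isField_deg0' (hφ : Function.Injective D.φ) (h0 : IsField (deg0 𝒜)) :
    IsField (deg0 𝒜') :=
  MulEquiv.isField h0 (ver_deg0MulEquiv D hφ)

theorem deg0Map_add (a b : deg0 𝒜') : deg0Map D (a + b) = deg0Map D a + deg0Map D b :=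
  Subtype.ext (map_add D.φ a.1 b.1)

theorem deg0Map_mul (a b : deg0 𝒜') : deg0Map D (a * b) = deg0Map D a * deg0Map D b :=
  Subtype.ext (map_mul D.φ a.1 b.1)

theorem deg0Map_zero : deg0Map D 0 = 0 := Subtype.ext (map_zero D.φ)

theorem deg0Map_coe (a : deg0 𝒜') : ((deg0Map D a : deg0 𝒜) : R) = D.φ a.1 := rfl

end Aux

section Iota

variable {R : Type u} [CommRing R] [IsNoetherianRing R] {R' : Type u} [CommRing R']
variable {𝒜 : ℤ → AddSubgroup R} [GradedRing 𝒜] {𝒜' : ℤ → AddSubgroup R'} [GradedRing 𝒜']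
  (D : VerData 𝒜 𝒜')
  {E' : Type u} [AddCommGroup E'] [Module R E'] (𝓔 : ℤ → AddSubgroup E')
  [DirectSum.Decomposition 𝓔] [SetLike.GradedSMul 𝒜 𝓔]
  {E'' : Type u} [AddCommGroup E''] [Module R' E''] (𝓔'' : ℤ → AddSubgroup E'')
  [DirectSum.Decomposition 𝓔''] [SetLike.GradedSMul 𝒜' 𝓔'']

/-- a semilinear bijection between one-dimensional degree zero parts -/
theorem exists_iota (hφ : Function.Injective D.φ) (h0 : IsField (deg0 𝒜))
    (h1 : Module.finrank (deg0 𝒜) (comp 𝒜 𝓔 0) = 1)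
    (h1' : Module.finrank (deg0 𝒜') (comp 𝒜' 𝓔'' 0) = 1) :
    ∃ ι : E'' → E',
      (∀ x ∈ 𝓔'' 0, ∀ y ∈ 𝓔'' 0, ι (x + y) = ι x + ι y) ∧
      (∀ r ∈ 𝒜' 0, ∀ x ∈ 𝓔'' 0, ι (r • x) = D.φ r • ι x) ∧
      (∀ x ∈ 𝓔'' 0, ι x ∈ 𝓔 0) ∧
      (∀ x ∈ 𝓔'' 0, ι x = 0 → x = 0) ∧
      (∀ y ∈ 𝓔 0, ∃ x ∈ 𝓔'' 0, ι x = y) := by
  classical
  have h0' := ver_isField_deg0' D hφ h0
  let _ : Field (deg0 𝒜) := h0.toField
  let _ : Field (deg0 𝒜') := h0'.toField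
  have hfinW : Module.Finite (deg0 𝒜) (comp 𝒜 𝓔 0) :=
    Module.finite_of_finrank_pos (by rw [h1]; exact one_pos)
  have hfinW' : Module.Finite (deg0 𝒜') (comp 𝒜' 𝓔'' 0) :=
    Module.finite_of_finrank_pos (by rw [h1']; exact one_pos)
  let cW : ↥(comp 𝒜 𝓔 0) ≃ₗ[deg0 𝒜] (deg0 𝒜) :=
    LinearEquiv.ofFinrankEq _ _ (by rw [h1, Module.finrank_self])
  let cW' : ↥(comp 𝒜' 𝓔'' 0) ≃ₗ[deg0 𝒜'] (deg0 𝒜') :=
    LinearEquiv.ofFinrankEq _ _ (by rw [h1', Module.finrank_self])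
  let ι : E'' → E' := fun x =>
    if h : x ∈ 𝓔'' 0 then ((cW.symm (deg0Map D (cW' ⟨x, h⟩)) : ↥(comp 𝒜 𝓔 0)) : E') else 0
  have hι : ∀ (x : E'') (h : x ∈ 𝓔'' 0),
      ι x = ((cW.symm (deg0Map D (cW' ⟨x, h⟩)) : ↥(comp 𝒜 𝓔 0)) : E') := fun x h => dif_pos h
  refine ⟨ι, ?_, ?_, ?_, ?_, ?_⟩
  · intro x hx y hy
    rw [hι x hx, hι y hy, hι (x + y) (add_mem hx hy)]
    have e : (⟨x + y, add_mem hx hy⟩ : ↥(comp 𝒜' 𝓔'' 0)) = ⟨x, hx⟩ + ⟨y, hy⟩ := rfl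
    rw [e, map_add, deg0Map_add, map_add]
    rfl
  · intro r hr x hx
    have hrx : r • x ∈ 𝓔'' 0 := (comp 𝒜' 𝓔'' 0).smul_mem ⟨r, hr⟩ hx
    rw [hι x hx, hι (r • x) hrx]
    have e : (⟨r • x, hrx⟩ : ↥(comp 𝒜' 𝓔'' 0)) = (⟨r, hr⟩ : deg0 𝒜') • ⟨x, hx⟩ := rfl
    rw [e, map_smul, smul_eq_mul, deg0Map_mul, ← smul_eq_mul, map_smul]
    rfl
  · intro x hx
    rw [hι x hx]
    exact (cW.symm (deg0Map D (cW' ⟨x, hx⟩))).2
  · intro x hx h
    rw [hι x hx] at h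
    have h2 : cW.symm (deg0Map D (cW' ⟨x, hx⟩)) = 0 := Subtype.ext h
    rw [LinearEquiv.map_eq_zero_iff] at h2
    have h3 : cW' ⟨x, hx⟩ = 0 := (deg0Map_bijective D hφ).1 (h2.trans (deg0Map_zero D).symm)
    rw [LinearEquiv.map_eq_zero_iff] at h3
    exact congrArg Subtype.val h3
  · intro y hy
    obtain ⟨z', hz'⟩ := (deg0Map_bijective D hφ).2 (cW ⟨y, hy⟩)
    refine ⟨(cW'.symm z').1, (cW'.symm z').2, ?_⟩
    rw [hι _ (cW'.symm z').2]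
    have e : (⟨(cW'.symm z').1, (cW'.symm z').2⟩ : ↥(comp 𝒜' 𝓔'' 0)) = cW'.symm z' := rfl
    rw [e, LinearEquiv.apply_symm_apply, hz', LinearEquiv.symm_apply_apply]

end Iota

end Groth.Agent.Lib.helper26.Can
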