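import Mathlib
import Groth.Prelude.Def_GrLC
import Groth.Agent.Lib.Helper26.Can14

/-!
# The canonical module of a Veronese subring: main theorem (helper26)

`K_{R^{(q)}} = (K_R)^{(q)}` for a graded ring `R` defined over a field.
-/

set_option autoImplicit false
set_option linter.unusedSectionVars false
set_option linter.dupNamespace false
universe u

namespace Groth.Agent.Lib.helper26.Can

open GrLC Groth.Agent.Lib.helper26.Ver

section Main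

variable {R : Type u} [CommRing R] [IsNoetherianRing R] {R' : Type u} [CommRing R']
variable {𝒜 : ℤ → AddSubgroup R} [GradedRing 𝒜] {𝒜' : ℤ → AddSubgroup R'} [GradedRing 𝒜']
  (D : VerData 𝒜 𝒜')

/-- **`K_{R^{(q)}} = (K_R)^{(q)}`** -/
theorem veronese_canonical (hφ : Function.Injective D.φ)
    (hpos : ∀ n : ℤ, n < 0 → 𝒜 n = ⊥) (h0 : IsField (deg0 𝒜))
    (m : HomogeneousIdeal 𝒜)
    (hmsp : m.toIdeal = Ideal.span (⋃ n ∈ Set.Ioi (0 : ℤ), (𝒜 n : Set R)))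
    (n : ℕ) (I : StarInjRes 𝒜 𝒜)
    {E' : Type u} [AddCommGroup E'] [Module R E'] (𝓔 : ℤ → AddSubgroup E')
    [DirectSum.Decomposition 𝓔] [SetLike.GradedSMul 𝒜 𝓔]
    (e : (R ⧸ m.toIdeal) →ₗ[R] E') (he : IsStarInjHull 𝒜 (quotGr 𝒜 m) 𝓔 e)
    {C : Type u} [AddCommGroup C] [Module R C] (𝒞 : ℤ → AddSubgroup C)
    [DirectSum.Decomposition 𝒞] [SetLike.GradedSMul 𝒜 𝒞] (hC : IsStarCanonical 𝒜 𝒞 𝓔 m n I)
    (m' : HomogeneousIdeal 𝒜')
    (hm'sp : m'.toIdeal = Ideal.span (⋃ j ∈ Set.Ioi (0 : ℤ), (𝒜' j : Set R')))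
    (I' : StarInjRes 𝒜' 𝒜')
    {E'' : Type u} [AddCommGroup E''] [Module R' E''] (𝓔'' : ℤ → AddSubgroup E'')
    [DirectSum.Decomposition 𝓔''] [SetLike.GradedSMul 𝒜' 𝓔'']
    (e' : (R' ⧸ m'.toIdeal) →ₗ[R'] E'') (he' : IsStarInjHull 𝒜' (quotGr 𝒜' m') 𝓔'' e')
    {C' : Type u} [AddCommGroup C'] [Module R' C'] (𝒞' : ℤ → AddSubgroup C')
    [DirectSum.Decomposition 𝒞'] [SetLike.GradedSMul 𝒜' 𝒞']
    (hC' : IsStarCanonical 𝒜' 𝒞' 𝓔'' m' n I') :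
    ∃ g : C' →ₛₗ[D.φ] C, Function.Injective g ∧
      ∀ j : ℤ, (𝒞' j).map (g : C' →+ C) = 𝒞 (j * D.q) := by
  have hntR : Nontrivial R := nontrivial_of_isField_deg0 h0
  have h0' := ver_isField_deg0' D hφ h0
  have hNR' : IsNoetherianRing R' := D.isNoetherianRing hφ
  have hntR' : Nontrivial R' := nontrivial_of_isField_deg0 h0'
  have hpos' := ver_pos' D hφ hpos
  have hfinC : Module.Finite R C := hC.1
  have hfinC' : Module.Finite R' C' := hC'.1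
  obtain ⟨_, Φ, hΦ⟩ := hC
  obtain ⟨_, Φ', hΦ'⟩ := hC'
  let g0 : R' →ₛₗ[D.φ] R :=
    { toFun := D.φ
      map_add' := map_add D.φ
      map_smul' := fun r x => by
        rw [smul_eq_mul, map_mul]
        rfl }
  have hg0 : Function.Injective g0 := hφ
  have hg0deg : ∀ j : ℤ, (𝒜' j).map (g0 : R' →+ R) = 𝒜 (j * D.q) := fun j => D.hdeg j
  obtain ⟨θ, hθinj, hθmem, hθsurj⟩ := exists_theta D g0 hg0 hg0deg I m hmsp m' hm'sp hφ I' n
  obtain ⟨ι, hι1, hι2, hι3, hι4, hι5⟩ := exists_iota D 𝓔 𝓔'' hφ h0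
    (finrank_hull_zero_add 𝒜 hpos h0 m hmsp 𝓔 e he)
    (finrank_hull_zero_add 𝒜' hpos' h0' m' hm'sp 𝓔'' e' he')
  let Θ : (C' →ₗ[R'] E'') →ₛₗ[D.φ] (C →ₗ[R] E') :=
    (Φ.symm.toLinearMap).comp (θ.comp Φ'.toLinearMap)
  have hΘ : ∀ ψ' : C' →ₗ[R'] E'', Θ ψ' = Φ.symm (θ (Φ' ψ')) := fun _ => rfl
  exact TransportData.exists_map
    { hq := D.hq
      hφ0 := fun k hk => by
        have h1 : k ∈ 𝒜 ((0 : ℤ) * D.q) := by rw [zero_mul]; exact hk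
        rw [← D.hdeg 0] at h1
        obtain ⟨k', hk', hkk⟩ := h1
        exact ⟨k', hk', hkk⟩
      φ_mem := fun i r hr => D.φ_mem hr
      P1 := fun d c hc h => eq_zero_of_forall_homDeg_add 𝒜 hpos h0 m hmsp 𝓔 e he 𝒞 d c hc h
      P2 := fun d lam => exists_eval_eq_add 𝒜 hpos h0 m hmsp 𝓔 e he 𝒞 d lam
      P1' := fun d c hc h =>
        eq_zero_of_forall_homDeg_add 𝒜' hpos' h0' m' hm'sp 𝓔'' e' he' 𝒞' d c hc h
      P2' := fun d lam => exists_eval_eq_add 𝒜' hpos' h0' m' hm'sp 𝓔'' e' he' 𝒞' d lam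
      Θ := Θ
      Θ_inj := fun a b hab => by
        rw [hΘ, hΘ] at hab
        exact Φ'.injective (hθinj (Φ.symm.injective hab))
      Θ_mem := fun d ψ' hψ' => by
        rw [hΘ]
        exact symm_mem_homDeg 𝒜 𝒜 I m n 𝓔 𝒞 Φ hΦ (d * D.q) _ (hθmem d _ (hΦ' d ψ' hψ'))
      Θ_surj := fun d ψ hψ => by
        obtain ⟨x, hx, hxθ⟩ := hθsurj d (Φ ψ) (hΦ (d * D.q) ψ hψ)
        refine ⟨Φ'.symm x, symm_mem_homDeg 𝒜' 𝒜' I' m' n 𝓔'' 𝒞' Φ' hΦ' d x hx, ?_⟩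
        rw [hΘ, LinearEquiv.apply_symm_apply, hxθ, LinearEquiv.symm_apply_apply]
      ι := ι
      ι_add := hι1
      ι_smul := hι2
      ι_mem := hι3
      ι_inj := hι4
      ι_surj := hι5 }

end Main

end Groth.Agent.Lib.helper26.Can
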