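import Mathlib
import Groth.Prelude.Def_GrLC
import Groth.Agent.Lib.Helper26.Can2

/-!
# The *injective envelope of the residue field cogenerates (helper26)

For a nonzero homogeneous element `z` of a graded module `C` there is an `R`-linear map
`f : C → E'` with `f z ≠ 0`.
-/

set_option autoImplicit false
set_option linter.unusedSectionVars false
set_option linter.dupNamespace false
universe u

namespace Groth.Agent.Lib.helper26.Can

open GrLC Groth.Agent.Lib.helper19.GrMod Groth.Agent.Lib.helper19.GrConv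
  Groth.Agent.Lib.helper26.Seg Groth.Agent.Lib.helper26.GrCM Groth.Agent.Lib.helper26.Kun

section Cogen

variable {k : Type u} [Field k] {R : Type u} [CommRing R] [Algebra k R]
  (𝒜 : ℤ → Submodule k R) [GradedAlgebra 𝒜]
  (hpos : ∀ n : ℤ, n < 0 → 𝒜 n = ⊥) (h0 : 𝒜 0 = Submodule.span k {(1 : R)})
  (m : HomogeneousIdeal 𝒜) (hm : m.toIdeal = irr 𝒜)
  {E' : Type u} [AddCommGroup E'] [Module R E'] (𝓔 : ℤ → AddSubgroup E')
  [DirectSum.Decomposition 𝓔] [SetLike.GradedSMul 𝒜 𝓔]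
  (e : (R ⧸ m.toIdeal) →ₗ[R] E') (he : IsStarInjHull 𝒜 (quotGr 𝒜 m) 𝓔 e)
  {C : Type u} [AddCommGroup C] [Module R C] (𝒞 : ℤ → AddSubgroup C)
  [DirectSum.Decomposition 𝒞] [SetLike.GradedSMul 𝒜 𝒞]

include hpos h0 hm he in
/-- **`E'` cogenerates**: a nonzero homogeneous element is detected by a map to `E'` -/
theorem exists_map_ne_zero [Nontrivial R] {j : ℤ} {z : C} (hz : z ∈ 𝒞 j) (hz0 : z ≠ 0) :
    ∃ f : C →ₗ[R] E', f z ≠ 0 := by
  have hK := isField_deg0 𝒜 h0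
  let _ : Field (deg0 𝒜) := hK.toField
  have hz' : z ∈ 𝒞 (-(-j)) := by rwa [neg_neg]
  have hne : (⟨z, hz'⟩ : ↥(comp 𝒜 𝒞 (-(-j)))) ≠ 0 := fun h => hz0 (congrArg Subtype.val h)
  obtain ⟨ψ, hψ⟩ := Module.Projective.exists_dual_ne_zero (deg0 𝒜) hne
  let u : ↥(comp 𝒜 𝓔 0) := ⟨e 1, unit_mem 𝒜 m 𝓔 e he⟩
  have hu : u ≠ 0 := fun h => unit_ne_zero 𝒜 hpos m hm 𝓔 e he (congrArg Subtype.val h)
  obtain ⟨g, hg⟩ := restr_surjective 𝒜 hpos h0 m hm 𝓔 e he 𝒞 (-j)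
    ((LinearMap.toSpanSingleton (deg0 𝒜) _ u).comp ψ)
  refine ⟨g.1, ?_⟩
  intro h
  have h1 : restr 𝒜 𝓔 𝒞 (-j) g ⟨z, hz'⟩ = ψ ⟨z, hz'⟩ • u := by
    rw [hg]
    rfl
  have h2 : restr 𝒜 𝓔 𝒞 (-j) g ⟨z, hz'⟩ = 0 := Subtype.ext h
  rw [h2] at h1
  rcases smul_eq_zero.1 h1.symm with h3 | h3
  · exact hψ h3
  · exact hu h3

end Cogen

end Groth.Agent.Lib.helper26.Can
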