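import Mathlib
import Groth.Prelude.Def_Wider
import Groth.Agent.Lib.Helper19.LCLes
import Groth.Agent.Lib.Helper19.LCFactor
import Groth.Agent.Lib.Helper19.LCGroth

/-!
# Right exactness of the top local cohomology (helper26)

For a Noetherian ring `R` with `dim R ≤ n` and an ideal `𝔞` with `dim R/𝔞 < n`:
`H^n_I(R) = 𝔞 · H^n_I(R)` (because `H^n_I(R)/𝔞 H^n_I(R) ≅ H^n_I(R/𝔞) = 0`).
-/

set_option autoImplicit false
set_option linter.unusedSectionVars false
set_option linter.dupNamespace false
universe u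

open CategoryTheory

namespace Groth.Agent.Lib.helper26.Can

open Groth.Agent.Lib.helper19.LCLes Groth.Agent.Lib.helper19.LCFactor
  Groth.Agent.Lib.helper19.LCGroth

/-- **right exactness of the top local cohomology**: `H^n_I(R) = 𝔞 H^n_I(R)` if `dim R ≤ n` and
`dim R/𝔞 < n` -/
theorem mem_smul_top_H {R : Type u} [CommRing R] [IsNoetherianRing R] (I 𝔞 : Ideal R) (n : ℕ)
    (hdim : ringKrullDim R ≤ n) (h𝔞 : Module.supportDim R (R ⧸ 𝔞) < (n : WithBot ℕ∞))
    (x : LocCoh.H I n R) : x ∈ 𝔞 • (⊤ : Submodule R (LocCoh.H I n R)) := by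
  classical
  -- first sequence `0 → 𝔞 → R → R/𝔞 → 0`
  let S1 : ShortComplex (ModuleCat.{u} R) :=
    ShortComplex.mk (ModuleCat.ofHom (Submodule.subtype 𝔞)) (ModuleCat.ofHom (Submodule.mkQ 𝔞)) (by
      apply ModuleCat.hom_ext
      apply LinearMap.ext
      intro y
      exact (Submodule.Quotient.mk_eq_zero _).2 y.2)
  have hS1 : S1.ShortExact := ModuleCat.shortComplex_shortExact S1
    (LinearMap.exact_subtype_mkQ _) (Submodule.injective_subtype _) (Submodule.mkQ_surjective _)
  have hv1 : Subsingleton ((localCohomology I n).obj S1.X₃ : ModuleCat.{u} R) :=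
    vanish I (R ⧸ 𝔞) n h𝔞
  have h1 := H_f_surjective_of_vanish I n hS1 hv1
  -- second sequence `0 → K → R^s → 𝔞 → 0`
  obtain ⟨s, π, hπ⟩ := Module.Finite.exists_fin' R 𝔞
  let S2 : ShortComplex (ModuleCat.{u} R) :=
    ShortComplex.mk (ModuleCat.ofHom (LinearMap.ker π).subtype) (ModuleCat.ofHom π) (by
      apply ModuleCat.hom_ext
      apply LinearMap.ext
      intro y
      exact y.2)
  have hS2 : S2.ShortExact := ModuleCat.shortComplex_shortExact S2
    (LinearMap.exact_subtype_ker_map π) (Submodule.injective_subtype _) hπ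
  have hv2 : Subsingleton ((localCohomology I (n + 1)).obj S2.X₁ : ModuleCat.{u} R) := by
    apply vanish I (LinearMap.ker π) (n + 1)
    refine lt_of_le_of_lt (Module.supportDim_le_ringKrullDim R _) (lt_of_le_of_lt hdim ?_)
    exact_mod_cast Nat.lt_succ_self n
  have h2 := H_surjective_of_vanish I n hS2 hv2
  obtain ⟨y1, hy1⟩ := h1 x
  obtain ⟨y2, hy2⟩ := h2 y1
  -- the composite `R^s → R`
  have hcomp : S2.g ≫ S1.f = ∑ j : Fin s,
      (ModuleCat.ofHom (LinearMap.proj (R := R) (φ := fun _ : Fin s => R) j) ≫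
        (((π (Pi.single j 1) : 𝔞) : R) • 𝟙 (ModuleCat.of R R))) := by
    apply ModuleCat.hom_ext
    apply LinearMap.ext
    intro v
    rw [ModuleCat.hom_sum, LinearMap.sum_apply]
    simp only [ModuleCat.hom_comp, ModuleCat.hom_smul, ModuleCat.hom_id, LinearMap.comp_apply,
      LinearMap.smul_apply, LinearMap.id_apply]
    show ((π v : 𝔞) : R) = _
    conv_lhs => rw [← Finset.univ_sum_single v]
    rw [map_sum, Submodule.coe_sum]
    apply Finset.sum_congr rfl
    intro j _
    have e1 : (Pi.single j (v j) : Fin s → R) = v j • Pi.single j 1 := by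
      rw [← Pi.single_smul, smul_eq_mul, mul_one]
    rw [e1, map_smul, Submodule.coe_smul, smul_eq_mul, mul_comm]
    rfl
  have hx : x = ((localCohomology I n).map (S2.g ≫ S1.f)).hom y2 := by
    rw [Functor.map_comp, ModuleCat.hom_comp, LinearMap.comp_apply]
    rw [← hy1, ← hy2]
  rw [hx, hcomp, H_map_sum]
  apply Submodule.sum_mem
  intro j _
  rw [Functor.map_comp, ModuleCat.hom_comp, LinearMap.comp_apply, H_map_smul_id]
  exact Submodule.smul_mem_smul (π (Pi.single j 1)).2 Submodule.mem_top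

end Groth.Agent.Lib.helper26.Can
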