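import Mathlib
import Groth.Prelude.Def_GrLC
import Groth.Agent.Lib.Helper26.CanConv
import Groth.Agent.Lib.Helper26.Can5
import Groth.Agent.Lib.Helper26.Can6
import Groth.Agent.Lib.Helper26.LCTop
import Groth.Agent.S13224

/-!
# The *canonical module is unmixed (helper26)

`R` a Noetherian graded ring with `R_0` a field, `dim R ≤ n`, `C` a *canonical module
(`Hom_R(C, E') ≅ H^n_m(R)`).  A homogeneous element of `C` killed by an ideal `𝔞` with
`dim R/𝔞 < n` is zero.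
-/

set_option autoImplicit false
set_option linter.unusedSectionVars false
set_option linter.dupNamespace false
universe u

namespace Groth.Agent.Lib.helper26.Can

open GrLC Groth.Agent.Lib.helper19.GrMod Groth.Agent.Lib.helper19.GrConv
  Groth.Agent.Lib.helper26.Seg

/-- linear equivalences preserve `𝔞 • ⊤` -/
theorem mem_smul_top_of_equiv {R : Type u} [CommRing R] {A B : Type u} [AddCommGroup A] [Module R A]
    [AddCommGroup B] [Module R B] (Ψ : A ≃ₗ[R] B) (𝔞 : Ideal R) {y : B}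
    (hy : y ∈ 𝔞 • (⊤ : Submodule R B)) : Ψ.symm y ∈ 𝔞 • (⊤ : Submodule R A) := by
  refine Submodule.smul_induction_on (p := fun y => Ψ.symm y ∈ 𝔞 • (⊤ : Submodule R A)) hy ?_ ?_
  · intro a ha b _
    show Ψ.symm (a • b) ∈ _
    rw [map_smul]
    exact Submodule.smul_mem_smul ha Submodule.mem_top
  · intro x y hx hy
    show Ψ.symm (x + y) ∈ _
    rw [map_add]
    exact add_mem hx hy

section Unmixed

variable {R : Type u} [CommRing R] [IsNoetherianRing R] (𝒜 : ℤ → AddSubgroup R) [GradedRing 𝒜]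
  (hpos : ∀ n : ℤ, n < 0 → 𝒜 n = ⊥) (h0 : IsField (deg0 𝒜))
  (m : HomogeneousIdeal 𝒜)
  (hmsp : m.toIdeal = Ideal.span (⋃ n ∈ Set.Ioi (0 : ℤ), (𝒜 n : Set R)))
  {E' : Type u} [AddCommGroup E'] [Module R E'] (𝓔 : ℤ → AddSubgroup E')
  [DirectSum.Decomposition 𝓔] [SetLike.GradedSMul 𝒜 𝓔]
  (e : (R ⧸ m.toIdeal) →ₗ[R] E') (he : IsStarInjHull 𝒜 (quotGr 𝒜 m) 𝓔 e)
  {C : Type u} [AddCommGroup C] [Module R C] (𝒞 : ℤ → AddSubgroup C)
  [DirectSum.Decomposition 𝒞] [SetLike.GradedSMul 𝒜 𝒞] (n : ℕ) (I : StarInjRes 𝒜 𝒜)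
  (hC : IsStarCanonical 𝒜 𝒞 𝓔 m n I)

include hC in
/-- every map `C → E'` lies in `𝔞 · Hom_R(C, E')` if `dim R ≤ n` and `dim R/𝔞 < n` -/
theorem hom_mem_smul_top (hdim : ringKrullDim R ≤ n) (𝔞 : Ideal R)
    (h𝔞 : Module.supportDim R (R ⧸ 𝔞) < (n : WithBot ℕ∞)) (f : C →ₗ[R] E') :
    f ∈ 𝔞 • (⊤ : Submodule R (C →ₗ[R] E')) := by
  obtain ⟨_, φ, _⟩ := hC
  obtain ⟨ε⟩ := Groth.Agent.S13224.result R 𝒜 m R 𝒜 I n
  have h1 := mem_smul_top_H m.toIdeal 𝔞 n hdim h𝔞 ((φ.trans ε) f)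
  have h2 := mem_smul_top_of_equiv (φ.trans ε) 𝔞 h1
  rwa [LinearEquiv.symm_apply_apply] at h2

attribute [local instance] gsmulSub

include hpos h0 hmsp he hC in
/-- **the *canonical module is unmixed**: a homogeneous element killed by an ideal `𝔞` with
`dim R/𝔞 < n` is zero -/
theorem eq_zero_of_smul_eq_zero [Nontrivial R] (hdim : ringKrullDim R ≤ n) (𝔞 : Ideal R)
    (h𝔞 : Module.supportDim R (R ⧸ 𝔞) < (n : WithBot ℕ∞)) {j : ℤ} {z : C} (hz : z ∈ 𝒞 j)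
    (hann : ∀ a ∈ 𝔞, a • z = 0) : z = 0 := by
  by_contra hz0
  let _ : Field (deg0 𝒜) := h0.toField
  obtain ⟨f, hf⟩ := exists_map_ne_zero (subGr 𝒜) (subGr_eq_bot 𝒜 hpos) (subGr_zero 𝒜)
    (idealSub 𝒜 m) hmsp 𝓔 e (isStarInjHull_sub 𝒜 m 𝓔 e he) 𝒞 hz hz0
  have hmem := hom_mem_smul_top 𝒜 m 𝓔 𝒞 n I hC hdim 𝔞 h𝔞 f
  apply hf
  refine Submodule.smul_induction_on (p := fun g : C →ₗ[R] E' => g z = 0) hmem ?_ ?_
  · intro a ha g _
    show (a • g) z = 0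
    rw [LinearMap.smul_apply, ← map_smul, hann a ha, map_zero]
  · intro x y hx hy
    show (x + y) z = 0
    rw [LinearMap.add_apply, hx, hy, add_zero]

end Unmixed

end Groth.Agent.Lib.helper26.Can
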