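import Mathlib
import Groth.Prelude.Def_GrLC
import Groth.Agent.Lib.Helper19.GrMod

/-!
# Standard graded rings modulo a hyperplane of linear forms (helper26)

`R` a non-negatively graded ring with `R_0 = K` a field, generated by `R_1` (in the sense that
`R_+ = (R_1)`).  If `𝔞` is an ideal with `R_1 ⊆ 𝔞 + K ℓ₀` then `dim R/𝔞 ≤ 1`.
-/

set_option autoImplicit false
set_option linter.unusedSectionVars false
set_option linter.dupNamespace false
universe u

namespace Groth.Agent.Lib.helper26.Can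

open GrLC Groth.Agent.Lib.helper19.GrMod Polynomial

section Std

variable {R : Type u} [CommRing R] (𝒜 : ℤ → AddSubgroup R) [GradedRing 𝒜]
  (hpos : ∀ n : ℤ, n < 0 → 𝒜 n = ⊥)
  (hstd : Ideal.span (⋃ n ∈ Set.Ioi (0 : ℤ), (𝒜 n : Set R)) =
    Ideal.span ((𝒜 1 : AddSubgroup R) : Set R))

include hstd in
/-- a homogeneous element of degree `d + 1` is a sum of products `R_d · R_1` -/
theorem mem_closure_mul_of_mem_succ {d : ℤ} {x : R} (hd : 0 ≤ d) (hx : x ∈ 𝒜 (d + 1)) :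
    x ∈ AddSubgroup.closure {y : R | ∃ r ∈ 𝒜 d, ∃ l ∈ 𝒜 1, y = r * l} := by
  classical
  have hx1 : x ∈ Ideal.span ((𝒜 1 : AddSubgroup R) : Set R) := by
    rw [← hstd]
    exact Ideal.subset_span (Set.mem_biUnion (Set.mem_Ioi.2 (by omega : (0 : ℤ) < d + 1)) hx)
  obtain ⟨f, t, ht, _, hsum⟩ := (Submodule.mem_span_iff_exists_finset_subset).1 hx1
  have h1 : x = ((DirectSum.decompose 𝒜 x (d + 1) : 𝒜 (d + 1)) : R) :=
    (DirectSum.decompose_of_mem_same 𝒜 hx).symm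
  rw [h1, ← hsum, DirectSum.decompose_sum, DFinsupp.finsetSum_apply, AddSubmonoidClass.coe_finsetSum]
  refine AddSubgroup.sum_mem (AddSubgroup.closure {y : R | ∃ r ∈ 𝒜 d, ∃ l ∈ 𝒜 1, y = r * l}) ?_
  intro s hs
  have hs1 : s ∈ 𝒜 1 := ht hs
  have h2 := decompose_smul_apply' 𝒜 𝒜 (f s) hs1 (d + 1)
  rw [h2]
  apply AddSubgroup.subset_closure
  refine ⟨((DirectSum.decompose 𝒜 (f s) (d + 1 - 1) : 𝒜 (d + 1 - 1)) : R), ?_, s, hs1, rfl⟩
  have e : d + 1 - 1 = d := by ring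
  rw [coe_decompose_congr 𝒜 (f s) e]
  exact SetLike.coe_mem _

variable (h0 : IsField (deg0 𝒜))

include hpos hstd in
/-- every element of `R` is congruent modulo `𝔞` to a polynomial in `ℓ₀` -/
theorem exists_aeval_sub_mem (𝔞 : Ideal R) (l₀ : R)
    (hl : ∀ l ∈ 𝒜 1, ∃ c : deg0 𝒜, l - c • l₀ ∈ 𝔞) (x : R) :
    ∃ p : (deg0 𝒜)[X], x - aeval l₀ p ∈ 𝔞 := by
  classical
  -- homogeneous elements
  have key : ∀ (d : ℕ) (y : R), y ∈ 𝒜 (d : ℤ) → ∃ c : deg0 𝒜, y - c • l₀ ^ d ∈ 𝔞 := by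
    intro d
    induction d with
    | zero =>
      intro y hy
      refine ⟨⟨y, hy⟩, ?_⟩
      have : y - (⟨y, hy⟩ : deg0 𝒜) • l₀ ^ 0 = 0 := by
        rw [pow_zero]
        show y - y * 1 = 0
        rw [mul_one, sub_self]
      rw [this]
      exact zero_mem _
    | succ d ih =>
      intro y hy
      have hy' : y ∈ 𝒜 ((d : ℤ) + 1) := by
        have e : ((d + 1 : ℕ) : ℤ) = (d : ℤ) + 1 := by push_cast; ring
        rwa [e] at hy
      have hcl := mem_closure_mul_of_mem_succ 𝒜 hstd (Int.natCast_nonneg d) hy'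
      refine AddSubgroup.closure_induction (p := fun y _ => ∃ c : deg0 𝒜, y - c • l₀ ^ (d + 1) ∈ 𝔞)
        ?_ ?_ ?_ ?_ hcl
      · rintro _ ⟨r, hr, l, hl1, rfl⟩
        obtain ⟨c, hc⟩ := ih r hr
        obtain ⟨c', hc'⟩ := hl l hl1
        refine ⟨c * c', ?_⟩
        have e : r * l - (c * c') • l₀ ^ (d + 1) =
            (r - c • l₀ ^ d) * l + (c • l₀ ^ d) * (l - c' • l₀) := by
          rw [Subring.smul_def, Subring.smul_def, Subring.smul_def, smul_eq_mul, smul_eq_mul,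
            smul_eq_mul, Subring.coe_mul, pow_succ]
          ring
        rw [e]
        exact add_mem (Ideal.mul_mem_right _ _ hc) (Ideal.mul_mem_left _ _ hc')
      · exact ⟨0, by rw [zero_smul, sub_zero]; exact zero_mem _⟩
      · rintro a b _ _ ⟨c, hc⟩ ⟨c', hc'⟩
        refine ⟨c + c', ?_⟩
        have e : a + b - (c + c') • l₀ ^ (d + 1) =
            (a - c • l₀ ^ (d + 1)) + (b - c' • l₀ ^ (d + 1)) := by
          rw [add_smul]; ring
        rw [e]
        exact add_mem hc hc'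
      · rintro a _ ⟨c, hc⟩
        refine ⟨-c, ?_⟩
        have e : -a - (-c) • l₀ ^ (d + 1) = -(a - c • l₀ ^ (d + 1)) := by
          rw [neg_smul]; ring
        rw [e]
        exact neg_mem hc
  induction x using DirectSum.Decomposition.inductionOn 𝒜 with
  | zero => exact ⟨0, by rw [map_zero, sub_zero]; exact zero_mem _⟩
  | @homogeneous i y =>
    by_cases hi : i < 0
    · have hy0 : (y : R) = 0 := by
        have h' : ∀ w ∈ 𝒜 i, w = 0 := by
          intro w hw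
          rw [hpos i hi] at hw
          exact (AddSubgroup.mem_bot).1 hw
        exact h' _ y.2
      exact ⟨0, by rw [hy0, map_zero, sub_zero]; exact zero_mem _⟩
    · obtain ⟨d, rfl⟩ := Int.eq_ofNat_of_zero_le (not_lt.1 hi)
      obtain ⟨c, hc⟩ := key d y y.2
      refine ⟨C c * X ^ d, ?_⟩
      have e : aeval l₀ (C c * X ^ d : (deg0 𝒜)[X]) = c • l₀ ^ d := by
        rw [map_mul, aeval_C, map_pow, aeval_X, Algebra.smul_def]
      rw [e]
      exact hc
  | add a b ha hb =>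
    obtain ⟨p, hp⟩ := ha
    obtain ⟨q, hq⟩ := hb
    refine ⟨p + q, ?_⟩
    have e : a + b - aeval l₀ (p + q) = (a - aeval l₀ p) + (b - aeval l₀ q) := by
      rw [map_add]; ring
    rw [e]
    exact add_mem hp hq

include hpos hstd h0 in
/-- **`dim R/𝔞 ≤ 1`** when the linear forms are spanned modulo `𝔞` by a single one -/
theorem ringKrullDim_quotient_le_one (𝔞 : Ideal R) (l₀ : R)
    (hl : ∀ l ∈ 𝒜 1, ∃ c : deg0 𝒜, l - c • l₀ ∈ 𝔞) : ringKrullDim (R ⧸ 𝔞) ≤ 1 := by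
  let _ : Field (deg0 𝒜) := h0.toField
  let φ : (deg0 𝒜)[X] →+* R ⧸ 𝔞 := (Ideal.Quotient.mk 𝔞).comp (aeval l₀ : (deg0 𝒜)[X] →ₐ[deg0 𝒜] R).toRingHom
  have hφ : Function.Surjective φ := by
    intro y
    obtain ⟨x, rfl⟩ := Ideal.Quotient.mk_surjective y
    obtain ⟨p, hp⟩ := exists_aeval_sub_mem 𝒜 hpos hstd 𝔞 l₀ hl x
    refine ⟨p, ?_⟩
    exact (Ideal.Quotient.eq.2 hp).symm
  refine (ringKrullDim_le_of_surjective φ hφ).trans ?_
  rw [Polynomial.ringKrullDim_of_isNoetherianRing, ringKrullDim_eq_zero_of_field, zero_add]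

end Std

end Groth.Agent.Lib.helper26.Can
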