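import Mathlib
import Groth.Prelude.Def_GrLC
import Groth.Agent.Lib.Helper19.GrFin4
import Groth.Agent.Lib.Helper26.Can7
import Groth.Agent.Lib.Helper26.Can8

/-!
# The Hilbert function of the *canonical module of a standard graded ring (helper26)

`R` Noetherian standard graded over the field `R_0`, `dim R = n ≥ 2`, `K_R` a *canonical module,
`a = a(R)`.  Then `(K_R)_j ≠ 0` for `j ≥ -a` and `dim (K_R)_j ≥ 2` for `j > -a`.
-/

set_option autoImplicit false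
set_option linter.unusedSectionVars false
set_option linter.dupNamespace false
universe u

namespace Groth.Agent.Lib.helper26.Can

open GrLC Groth.Agent.Lib.helper19.GrMod Groth.Agent.Lib.helper19.GrConv

/-- the top degree of a graded object with finite end is attained -/
theorem piece_ne_bot_of_endDeg_eq {H : Type u} [AddCommGroup H] (ℋ : ℤ → AddSubgroup H) (a : ℤ)
    (ha : endDeg ℋ = ((a : WithTop ℤ) : WithBot (WithTop ℤ))) : ℋ a ≠ ⊥ := by
  intro hbot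
  have h1 : endDeg ℋ ≤ (((a - 1 : ℤ) : WithTop ℤ) : WithBot (WithTop ℤ)) := by
    unfold endDeg
    refine iSup₂_le fun n hne => ?_
    have h2 : ((n : WithTop ℤ) : WithBot (WithTop ℤ)) ≤ endDeg ℋ :=
      le_iSup₂ (f := fun (n : ℤ) (_ : ℋ n ≠ ⊥) => ((n : WithTop ℤ) : WithBot (WithTop ℤ))) n hne
    rw [ha, WithBot.coe_le_coe, WithTop.coe_le_coe] at h2
    rw [WithBot.coe_le_coe, WithTop.coe_le_coe]
    have : n ≠ a := fun h => hne (h ▸ hbot)
    omega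
  rw [ha, WithBot.coe_le_coe, WithTop.coe_le_coe] at h1
  omega

section Main

variable {R : Type u} [CommRing R] [IsNoetherianRing R] (𝒜 : ℤ → AddSubgroup R) [GradedRing 𝒜]
  (hpos : ∀ n : ℤ, n < 0 → 𝒜 n = ⊥) (h0 : IsField (deg0 𝒜))
  (m : HomogeneousIdeal 𝒜)
  (hmsp : m.toIdeal = Ideal.span (⋃ n ∈ Set.Ioi (0 : ℤ), (𝒜 n : Set R)))
  (hstd : Ideal.span (⋃ n ∈ Set.Ioi (0 : ℤ), (𝒜 n : Set R)) =
    Ideal.span ((𝒜 1 : AddSubgroup R) : Set R))
  (n : ℕ) (hn : ringKrullDim R = n) (h2 : 2 ≤ n) (I : StarInjRes 𝒜 𝒜)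
  {E' : Type u} [AddCommGroup E'] [Module R E'] (𝓔 : ℤ → AddSubgroup E')
  [DirectSum.Decomposition 𝓔] [SetLike.GradedSMul 𝒜 𝓔]
  (e : (R ⧸ m.toIdeal) →ₗ[R] E') (he : IsStarInjHull 𝒜 (quotGr 𝒜 m) 𝓔 e)
  {C : Type u} [AddCommGroup C] [Module R C] (𝒞 : ℤ → AddSubgroup C)
  [DirectSum.Decomposition 𝒞] [SetLike.GradedSMul 𝒜 𝒞]
  (hC : IsStarCanonical 𝒜 𝒞 𝓔 m n I)

include hpos h0 hmsp hstd hn h2 he hC in
/-- a homogeneous element of `K_R` killed by all linear forms up to multiples of one of them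
vanishes -/
theorem eq_zero_of_linear_forms [Nontrivial R] {i : ℤ} {z : C} (hz : z ∈ 𝒞 i) (l₀ : R)
    (hl : ∀ l ∈ 𝒜 1, ∃ c : deg0 𝒜, (l - c • l₀) • z = 0) : z = 0 := by
  have hle := ringKrullDim_quotient_le_one 𝒜 hpos hstd h0
    (LinearMap.ker (LinearMap.toSpanSingleton R C z)) l₀ (fun l hl1 => by
      obtain ⟨c, hc⟩ := hl l hl1
      exact ⟨c, LinearMap.mem_ker.2 (by rw [LinearMap.toSpanSingleton_apply]; exact hc)⟩)
  apply eq_zero_of_smul_eq_zero 𝒜 hpos h0 m hmsp 𝓔 e he 𝒞 n I hC hn.le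
    (LinearMap.ker (LinearMap.toSpanSingleton R C z)) _ hz
  · intro a ha
    have := LinearMap.mem_ker.1 ha
    rwa [LinearMap.toSpanSingleton_apply] at this
  · rw [Module.supportDim_quotient_eq_ringKrullDim]
    refine lt_of_le_of_lt hle ?_
    exact_mod_cast h2

include hpos h0 hmsp hstd hn h2 he hC in
/-- nonvanishing propagates upwards -/
theorem exists_ne_zero_succ [Nontrivial R] {i : ℤ} (h : ∃ z ∈ 𝒞 i, z ≠ 0) :
    ∃ z ∈ 𝒞 (i + 1), z ≠ 0 := by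
  obtain ⟨z, hz, hz0⟩ := h
  by_contra hcon
  push Not at hcon
  apply hz0
  apply eq_zero_of_linear_forms 𝒜 hpos h0 m hmsp hstd n hn h2 I 𝓔 e he 𝒞 hC hz 0
  intro l hl1
  refine ⟨0, ?_⟩
  rw [zero_smul, sub_zero]
  apply hcon
  have h1 := smul_mem_add 𝒜 𝒞 hl1 hz
  rwa [add_comm] at h1

include hpos h0 hmsp hstd hn h2 he hC in
/-- **`dim (K_R)_j ≥ 2` for `j > -a(R)`** -/
theorem two_le_finrank_canonical (a : ℤ)
    (ha : endDeg (I.Hgr m n) = ((a : WithTop ℤ) : WithBot (WithTop ℤ))) (j : ℤ) (hj : -a < j) :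
    2 ≤ Module.finrank (deg0 𝒜) (comp 𝒜 𝒞 j) := by
  classical
  have hntR : Nontrivial R := by
    by_contra hcon
    rw [not_nontrivial_iff_subsingleton] at hcon
    rw [ringKrullDim_eq_bot_of_subsingleton] at hn
    exact absurd hn (by simp)
  let _ : Field (deg0 𝒜) := h0.toField
  have hfinC : Module.Finite R C := hC.1
  have hfin : ∀ i, Module.Finite (deg0 𝒜) (comp 𝒜 𝒞 i) := fun i =>
    Groth.Agent.Lib.helper19.GrFin.finite_comp 𝒜 hpos 𝒞 i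
  -- `C_{-a} ≠ 0`
  have hHa : I.Hgr m n a ≠ ⊥ := piece_ne_bot_of_endDeg_eq _ a ha
  have hstart : ∃ z ∈ 𝒞 (-a), z ≠ 0 := by
    have hA := finrank_comp_canonical_add 𝒜 hpos h0 m hmsp 𝓔 e he 𝒞 n I hC (-a)
    rw [neg_neg] at hA
    have hfg : (I.Hcomp m n a).FG :=
      (Groth.Agent.Lib.helper19.GrFin.main 𝒜 hpos m hmsp n R 𝒜 I).1 a
    have hfinH : Module.Finite (deg0 𝒜) (I.Hcomp m n a) := Module.Finite.iff_fg.2 hfg
    have hntH : Nontrivial (I.Hcomp m n a) := by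
      rw [Submodule.nontrivial_iff_ne_bot]
      intro hb
      apply hHa
      rw [eq_bot_iff]
      intro x hx
      have hx' : x ∈ I.Hcomp m n a := hx
      rw [hb] at hx'
      exact (AddSubgroup.mem_bot).2 ((Submodule.mem_bot _).1 hx')
    have hpos' : 0 < Module.finrank (deg0 𝒜) (I.Hcomp m n a) := Module.finrank_pos
    rw [← hA] at hpos'
    have hnt : Nontrivial (comp 𝒜 𝒞 (-a)) := Module.finrank_pos_iff.1 hpos'
    obtain ⟨z, hz⟩ := exists_ne (0 : ↥(comp 𝒜 𝒞 (-a)))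
    exact ⟨z.1, z.2, fun h => hz (Subtype.ext h)⟩
  -- all pieces in degrees `≥ -a` are nonzero
  have hall : ∀ i : ℤ, -a ≤ i → ∃ z ∈ 𝒞 i, z ≠ 0 := by
    intro i hi
    induction i, hi using Int.le_induction with
    | base => exact hstart
    | succ i _ ih =>
      exact exists_ne_zero_succ 𝒜 hpos h0 m hmsp hstd n hn h2 I 𝓔 e he 𝒞 hC ih
  obtain ⟨z, hz, hz0⟩ := hall (j - 1) (by omega)
  by_contra hlt
  have hle : Module.finrank (deg0 𝒜) (comp 𝒜 𝒞 j) ≤ 1 := by omega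
  have := hfin j
  obtain ⟨v, hv⟩ := finrank_le_one_iff.1 hle
  have hmem : ∀ l ∈ 𝒜 1, l • z ∈ 𝒞 j := by
    intro l hl1
    have h1 := smul_mem_add 𝒜 𝒞 hl1 hz
    have e1 : 1 + (j - 1) = j := by ring
    rwa [e1] at h1
  apply hz0
  by_cases hex : ∃ l₀ ∈ 𝒜 1, l₀ • z ≠ 0
  · obtain ⟨l₀, hl₀, hne⟩ := hex
    obtain ⟨c₀, hc₀⟩ := hv ⟨l₀ • z, hmem l₀ hl₀⟩
    have hc₀ne : c₀ ≠ 0 := by
      intro h
      rw [h, zero_smul] at hc₀
      exact hne (congrArg Subtype.val hc₀).symm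
    apply eq_zero_of_linear_forms 𝒜 hpos h0 m hmsp hstd n hn h2 I 𝓔 e he 𝒞 hC hz l₀
    intro l hl1
    obtain ⟨c, hc⟩ := hv ⟨l • z, hmem l hl1⟩
    refine ⟨c * c₀⁻¹, ?_⟩
    have h3 : (l • z : C) = ((c * c₀⁻¹ : deg0 𝒜) : R) • (l₀ • z) := by
      have h4 : (⟨l • z, hmem l hl1⟩ : ↥(comp 𝒜 𝒞 j)) =
          (c * c₀⁻¹) • (⟨l₀ • z, hmem l₀ hl₀⟩ : ↥(comp 𝒜 𝒞 j)) := by
        rw [← hc, ← hc₀, smul_smul, mul_assoc, inv_mul_cancel₀ hc₀ne, mul_one]
      exact congrArg Subtype.val h4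
    rw [sub_smul, h3, Subring.smul_def, smul_eq_mul, mul_smul, sub_self]
  · push Not at hex
    apply eq_zero_of_linear_forms 𝒜 hpos h0 m hmsp hstd n hn h2 I 𝓔 e he 𝒞 hC hz 0
    intro l hl1
    refine ⟨0, ?_⟩
    rw [zero_smul, sub_zero]
    exact hex l hl1

end Main

end Groth.Agent.Lib.helper26.Can
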