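import Mathlib
import Groth.Prelude.Def_Dyn

/-!
# The triple convolution product `Dyn.conv3` (helper26)
-/

universe u

namespace Groth.Agent.Lib.helper26.Conv3

open TensorProduct Coalgebra

variable {k : Type u} [CommRing k] {A : Type u} [CommRing A] [HopfAlgebra k A]

/-- The algebra map `(A ⊗ A) ⊗ A → C`, `(a ⊗ b) ⊗ c ↦ f a * g b * h c`. -/
noncomputable def F {C : Type u} [CommRing C] [Algebra k C] (f g h : A →ₐ[k] C) :
    (A ⊗[k] A) ⊗[k] A →ₐ[k] C :=
  (Algebra.TensorProduct.lmul' (S := C) k).comp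
    (Algebra.TensorProduct.map ((Algebra.TensorProduct.lmul' (S := C) k).comp
        (Algebra.TensorProduct.map f g)) h)

theorem F_tmul {C : Type u} [CommRing C] [Algebra k C] (f g h : A →ₐ[k] C) (a b c : A) :
    F f g h ((a ⊗ₜ b) ⊗ₜ c) = f a * g b * h c := by
  simp [F]

theorem conv3_eq {C : Type u} [CommRing C] [Algebra k C] (f g h : A →ₐ[k] C) :
    Dyn.conv3 k A f g h = (F f g h).comp
      ((Algebra.TensorProduct.map (Bialgebra.comulAlgHom k A) (AlgHom.id k A)).comp
        (Bialgebra.comulAlgHom k A)) := rfl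

theorem comp_F {C C' : Type u} [CommRing C] [Algebra k C] [CommRing C'] [Algebra k C']
    (θ : C →ₐ[k] C') (f g h : A →ₐ[k] C) :
    θ.comp (F f g h) = F (θ.comp f) (θ.comp g) (θ.comp h) := by
  apply Algebra.TensorProduct.ext
  · apply Algebra.TensorProduct.ext'
    intro a b
    show θ (F f g h ((a ⊗ₜ b) ⊗ₜ 1)) = F (θ.comp f) (θ.comp g) (θ.comp h) ((a ⊗ₜ b) ⊗ₜ 1)
    rw [F_tmul, F_tmul]
    simp
  · apply AlgHom.ext
    intro c
    show θ (F f g h (1 ⊗ₜ c)) = F (θ.comp f) (θ.comp g) (θ.comp h) (1 ⊗ₜ c)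
    rw [Algebra.TensorProduct.one_def, F_tmul, F_tmul]
    simp

theorem comp_conv3 {C C' : Type u} [CommRing C] [Algebra k C] [CommRing C'] [Algebra k C']
    (θ : C →ₐ[k] C') (f g h : A →ₐ[k] C) :
    θ.comp (Dyn.conv3 k A f g h) = Dyn.conv3 k A (θ.comp f) (θ.comp g) (θ.comp h) := by
  rw [conv3_eq, conv3_eq, ← AlgHom.comp_assoc, comp_F]

/-- `id * (η ε) * S = η ε`. -/
theorem conv3_id_unit_antipode :
    Dyn.conv3 k A (AlgHom.id k A) ((Algebra.ofId k A).comp (Bialgebra.counitAlgHom k A))
      (HopfAlgebra.antipodeAlgHom k A) = (Algebra.ofId k A).comp (Bialgebra.counitAlgHom k A) := by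
  -- `P ∘ Δ = id`
  have hP : ((Algebra.TensorProduct.lmul' (S := A) k).comp
        (Algebra.TensorProduct.map (AlgHom.id k A)
          ((Algebra.ofId k A).comp (Bialgebra.counitAlgHom k A)))).comp
      (Bialgebra.comulAlgHom k A) = AlgHom.id k A := by
    apply AlgHom.ext
    intro a
    let 𝓡 := Coalgebra.Repr.arbitrary k a
    show (Algebra.TensorProduct.lmul' (S := A) k)
      ((Algebra.TensorProduct.map (AlgHom.id k A)
        ((Algebra.ofId k A).comp (Bialgebra.counitAlgHom k A))) (comul (R := k) a)) = a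
    rw [← 𝓡.eq, map_sum, map_sum]
    simp only [Algebra.TensorProduct.map_tmul, AlgHom.id_apply, AlgHom.comp_apply,
      Bialgebra.counitAlgHom_apply, Algebra.TensorProduct.lmul'_apply_tmul, Algebra.ofId_apply]
    have h := Coalgebra.sum_tmul_counit_eq 𝓡
    have h2 := congrArg (fun z => (Algebra.TensorProduct.lmul' (S := A) k)
      ((Algebra.TensorProduct.map (AlgHom.id k A) (Algebra.ofId k A)) z)) h
    simp only [map_sum, Algebra.TensorProduct.map_tmul, AlgHom.id_apply, Algebra.ofId_apply,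
      Algebra.TensorProduct.lmul'_apply_tmul, map_one, mul_one] at h2
    exact h2
  show (Algebra.TensorProduct.lmul' (S := A) k).comp
    ((Algebra.TensorProduct.map ((Algebra.TensorProduct.lmul' (S := A) k).comp
        (Algebra.TensorProduct.map (AlgHom.id k A)
          ((Algebra.ofId k A).comp (Bialgebra.counitAlgHom k A))))
        (HopfAlgebra.antipodeAlgHom k A)).comp
      ((Algebra.TensorProduct.map (Bialgebra.comulAlgHom k A) (AlgHom.id k A)).comp
        (Bialgebra.comulAlgHom k A))) = _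
  have hin : (Algebra.TensorProduct.map ((Algebra.TensorProduct.lmul' (S := A) k).comp
        (Algebra.TensorProduct.map (AlgHom.id k A)
          ((Algebra.ofId k A).comp (Bialgebra.counitAlgHom k A))))
        (HopfAlgebra.antipodeAlgHom k A)).comp
      ((Algebra.TensorProduct.map (Bialgebra.comulAlgHom k A) (AlgHom.id k A)).comp
        (Bialgebra.comulAlgHom k A)) =
      (Algebra.TensorProduct.map (AlgHom.id k A) (HopfAlgebra.antipodeAlgHom k A)).comp
        (Bialgebra.comulAlgHom k A) := by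
    rw [← AlgHom.comp_assoc, ← Algebra.TensorProduct.map_comp, hP, AlgHom.comp_id]
  rw [hin]
  apply AlgHom.ext
  intro a
  show (Algebra.TensorProduct.lmul' (S := A) k)
    ((Algebra.TensorProduct.map (AlgHom.id k A) (HopfAlgebra.antipodeAlgHom k A))
      (comul (R := k) a)) = algebraMap k A (counit (R := k) a)
  rw [← HopfAlgebra.mul_antipode_lTensor_comul_apply]
  rfl

end Groth.Agent.Lib.helper26.Conv3
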