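/-
Helper library (helper26): towards geometric irreducibility of fibres after an elementary étale
localisation.  Part 1: field theory — the base field is algebraically closed in a purely
transcendental extension.
-/
import Mathlib

set_option autoImplicit false
set_option linter.style.haveILetI false

namespace Groth.Agent.Lib.helper26.GeomIrr

open IntermediateField

/-- The base field is algebraically closed in a purely transcendental extension. -/
theorem algebraicClosure_eq_bot_of_adjoin {k E : Type*} [Field k] [Field E] [Algebra k E]
    {ι : Type*} (x : ι → E) (hx : AlgebraicIndependent k x)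
    (hadj : IntermediateField.adjoin k (Set.range x) = ⊤) : algebraicClosure k E = ⊥ := by
  rw [eq_bot_iff]
  intro a ha
  have ha' : a ∈ IntermediateField.adjoin k (Set.range x) := by rw [hadj]; trivial
  obtain ⟨r, s, hrs⟩ := (IntermediateField.mem_adjoin_range_iff k x a).mp ha'
  have hxF : AlgebraicIndependent (algebraicClosure k E) x := hx.algebraicClosure
  by_cases hs : MvPolynomial.aeval x s = 0
  · rw [hs, div_zero] at hrs
    rw [hrs]; exact zero_mem _
  · have h1 : a * MvPolynomial.aeval x s = MvPolynomial.aeval x r := by
      rw [hrs]; field_simp
    let a' : algebraicClosure k E := ⟨a, ha⟩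
    let P : MvPolynomial ι (algebraicClosure k E) :=
      MvPolynomial.C a' * MvPolynomial.map (algebraMap k (algebraicClosure k E)) s -
        MvPolynomial.map (algebraMap k (algebraicClosure k E)) r
    have hP : MvPolynomial.aeval x P = 0 := by
      have e1 : MvPolynomial.aeval x (MvPolynomial.map (algebraMap k (algebraicClosure k E)) s) =
          MvPolynomial.aeval x s := MvPolynomial.aeval_map_algebraMap _ _ _
      have e2 : MvPolynomial.aeval x (MvPolynomial.map (algebraMap k (algebraicClosure k E)) r) =
          MvPolynomial.aeval x r := MvPolynomial.aeval_map_algebraMap _ _ _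
      have e3 : MvPolynomial.aeval x (MvPolynomial.C a' : MvPolynomial ι (algebraicClosure k E)) = a := by
        rw [MvPolynomial.aeval_C]; rfl
      simp only [P, map_sub, map_mul, e1, e2, e3, h1, sub_self]
    have hP0 : P = 0 := (injective_iff_map_eq_zero _).mp hxF P hP
    have hs0 : s ≠ 0 := by
      rintro rfl
      simp at hs
    obtain ⟨m, hm⟩ := MvPolynomial.ne_zero_iff.mp hs0
    have hc := congrArg (MvPolynomial.coeff m) hP0
    simp only [P, MvPolynomial.coeff_sub, MvPolynomial.coeff_C_mul, MvPolynomial.coeff_map,
      MvPolynomial.coeff_zero] at hc
    have hc' : a * algebraMap k E (MvPolynomial.coeff m s) = algebraMap k E (MvPolynomial.coeff m r) := by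
      have := congrArg (algebraMap (algebraicClosure k E) E) hc
      simp only [map_sub, map_mul, map_zero, sub_eq_zero] at this
      simpa [a', ← IsScalarTower.algebraMap_apply] using this
    rw [IntermediateField.mem_bot]
    refine ⟨MvPolynomial.coeff m r / MvPolynomial.coeff m s, ?_⟩
    rw [map_div₀]
    have hne : algebraMap k E (MvPolynomial.coeff m s) ≠ 0 := by
      simpa using hm
    field_simp
    rw [← hc']
    ring

/-- The base field is separably closed in a purely transcendental extension. -/
theorem separableClosure_eq_bot_of_adjoin {k E : Type*} [Field k] [Field E] [Algebra k E]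
    {ι : Type*} (x : ι → E) (hx : AlgebraicIndependent k x)
    (hadj : IntermediateField.adjoin k (Set.range x) = ⊤) : separableClosure k E = ⊥ := by
  rw [eq_bot_iff, ← algebraicClosure_eq_bot_of_adjoin x hx hadj]
  intro a ha
  exact mem_algebraicClosure_iff.mpr (mem_separableClosure_iff.mp ha).isIntegral.isAlgebraic

end Groth.Agent.Lib.helper26.GeomIrr
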