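/-
Helper library (helper26): towards geometric irreducibility of fibres after an elementary étale
localisation.  Part 2: schemes over fields — section components over a field, irreducibility of
connected components of smooth schemes over a field, and connectedness of the base change of the
connected component of a point with geometrically connected residue field.
-/
import Mathlib
import Groth.Prelude.Def_MoreMor
import Groth.Agent.S2502
import Groth.Agent.Lib.Helper3.SecCompDim
import Groth.Agent.Lib.Helper14.AbVarComm

set_option autoImplicit false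
set_option linter.style.haveILetI false

namespace Groth.Agent.Lib.helper26.GeomIrr

open AlgebraicGeometry CategoryTheory Limits TopologicalSpace

universe u

/-- points of an abstract pullback square -/
theorem exists_preimage_of_isPullback {P X Y S : Scheme.{u}} {fst : P ⟶ X} {snd : P ⟶ Y}
    {f : X ⟶ S} {g : Y ⟶ S} (H : IsPullback fst snd f g) (x : X) (y : Y)
    (h : f x = g y) : ∃ z : P, fst z = x ∧ snd z = y := by
  obtain ⟨z, hz1, hz2⟩ := Scheme.Pullback.exists_preimage_pullback (f := f) (g := g) x y h
  refine ⟨H.isoPullback.inv z, ?_, ?_⟩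
  · rw [← Scheme.Hom.comp_apply, H.isoPullback_inv_fst]; exact hz1
  · rw [← Scheme.Hom.comp_apply, H.isoPullback_inv_snd]; exact hz2

/-- Over a field, the section components of a section are the connected component of the
rational point. -/
theorem sectionComponents_field {K : Type u} [Field K] {Z : Scheme.{u}}
    (h : Z ⟶ Spec (CommRingCat.of K)) (s : Spec (CommRingCat.of K) ⟶ Z) :
    MoreMor.sectionComponents h s = connectedComponent (s (IsLocalRing.closedPoint K)) := by
  haveI : Subsingleton ↥(Spec (CommRingCat.of K)) :=
    inferInstanceAs (Subsingleton (PrimeSpectrum K))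
  ext z
  have h1 : h ⁻¹' {h z} = Set.univ := by
    ext w
    simp only [Set.mem_preimage, Set.mem_singleton_iff, Set.mem_univ, iff_true]
    exact Subsingleton.elim _ _
  have h2 : h z = IsLocalRing.closedPoint K := Subsingleton.elim _ _
  change z ∈ connectedComponentIn (h ⁻¹' {h z}) (s (h z)) ↔ _
  rw [h1, connectedComponentIn_univ, h2]

/-- Connected components of a Noetherian scheme smooth over a field are irreducible. -/
theorem isIrreducible_connectedComponent_of_smooth {K : Type u} [Field K] {Z : Scheme.{u}}
    (h : Z ⟶ Spec (CommRingCat.of K)) [Smooth h] [NoetherianSpace Z] (z : Z) :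
    IsIrreducible (connectedComponent z) := by
  let U : Z.Opens := ⟨connectedComponent z,
    Groth.Agent.Lib.helper3.SecCompDim.isOpen_connectedComponent_of_noetherian z⟩
  haveI hc : ConnectedSpace U :=
    isConnected_iff_connectedSpace.mp (isConnected_connectedComponent (x := z))
  haveI : ConnectedSpace ↥(U : Scheme.{u}) := hc
  haveI : CompactSpace ↥(U : Scheme.{u}) :=
    isCompact_iff_compactSpace.mp (NoetherianSpace.isCompact (U : Set Z))
  haveI : QuasiCompact (U.ι ≫ h) := (quasiCompact_iff_compactSpace _).mpr inferInstance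
  haveI : IsIntegral (U : Scheme.{u}) :=
    Groth.Agent.Lib.Helper14.AbVarComm.isIntegral_of_smooth_connected (U.ι ≫ h)
  haveI : IrreducibleSpace U := inferInstanceAs (IrreducibleSpace ↥(U : Scheme.{u}))
  exact isIrreducible_iff_irreducibleSpace.mpr (inferInstanceAs (IrreducibleSpace U))

/-- Let `X₀` be a Noetherian scheme over a field `k` and `y₀` a point whose residue field is
geometrically connected over `k`.  In any base change `Z` of `X₀` to a field, two points lying over
the connected component of `y₀` lie in the same connected component. -/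
theorem mem_connectedComponent_of_geometricallyConnected {k K : Type u} [Field k] [Field K]
    {X₀ Z : Scheme.{u}} [NoetherianSpace X₀] (f₀ : X₀ ⟶ Spec (CommRingCat.of k)) (y₀ : X₀)
    [hgc : GeometricallyConnected (X₀.fromSpecResidueField y₀ ≫ f₀)]
    (β : Z ⟶ X₀) (h : Z ⟶ Spec (CommRingCat.of K))
    (j : Spec (CommRingCat.of K) ⟶ Spec (CommRingCat.of k)) (hpb : IsPullback β h f₀ j)
    (a b : Z) (ha : β a ∈ connectedComponent y₀) (hb : β b ∈ connectedComponent y₀) :
    b ∈ connectedComponent a := by
  let U : X₀.Opens := ⟨connectedComponent y₀,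
    Groth.Agent.Lib.helper3.SecCompDim.isOpen_connectedComponent_of_noetherian y₀⟩
  haveI hc : ConnectedSpace U :=
    isConnected_iff_connectedSpace.mp (isConnected_connectedComponent (x := y₀))
  haveI : ConnectedSpace ↥(U : Scheme.{u}) := hc
  -- the residue field point factors through `U`
  have hrange : Set.range (X₀.fromSpecResidueField y₀) ⊆ Set.range U.ι := by
    rw [Scheme.range_fromSpecResidueField, Scheme.Opens.range_ι]
    intro w hw
    rw [Set.mem_singleton_iff] at hw
    rw [hw]
    exact mem_connectedComponent
  let g : Spec (X₀.residueField y₀) ⟶ (U : Scheme.{u}) :=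
    IsOpenImmersion.lift U.ι (X₀.fromSpecResidueField y₀) hrange
  have hg : g ≫ U.ι = X₀.fromSpecResidueField y₀ := IsOpenImmersion.lift_fac _ _ _
  haveI : GeometricallyConnected (g ≫ U.ι ≫ f₀) := by
    rw [← Category.assoc, hg]; exact hgc
  haveI : Nonempty ↥(Spec (X₀.residueField y₀)) :=
    inferInstanceAs (Nonempty (PrimeSpectrum (X₀.residueField y₀)))
  haveI hU : GeometricallyConnected (U.ι ≫ f₀) := Groth.Agent.S2502.result g (U.ι ≫ f₀)
  -- base change of `U`
  have hpb1 : IsPullback (β ∣_ U) (β ⁻¹ᵁ U).ι U.ι β := isPullback_morphismRestrict β U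
  have hpb2 : IsPullback (β ∣_ U) ((β ⁻¹ᵁ U).ι ≫ h) (U.ι ≫ f₀) j := hpb1.paste_vert hpb
  haveI hV : ConnectedSpace ↥((β ⁻¹ᵁ U : Z.Opens) : Scheme.{u}) :=
    hU.geometrically_connectedSpace j (β ∣_ U) ((β ⁻¹ᵁ U).ι ≫ h) hpb2
  have hV' : _root_.IsPreconnected ((β ⁻¹ᵁ U : Z.Opens) : Set Z) := by
    have : ConnectedSpace ((β ⁻¹ᵁ U : Z.Opens) : Set Z) := hV
    exact (isConnected_iff_connectedSpace.mpr this).isPreconnected
  exact hV'.subset_connectedComponent (show a ∈ ((β ⁻¹ᵁ U : Z.Opens) : Set Z) from ha)
    (show b ∈ ((β ⁻¹ᵁ U : Z.Opens) : Set Z) from hb)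

end Groth.Agent.Lib.helper26.GeomIrr
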