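/-
Helper library (helper26): towards geometric irreducibility of fibres after an elementary étale
localisation.  Part 3: a multisection `φ : B → A₁` of a smooth `R`-algebra `B`; the open set `V1` of
section components of `A₁ ⊗ B` over `A₁`, and its preimage in `K ⊗ B` for a field `K` over `A₁`.
-/
import Mathlib
import Groth.Agent.Lib.Helper26.GeomIrrNbhd2
import Groth.Agent.S1324
import Groth.Agent.S15351

set_option autoImplicit false
set_option linter.style.haveILetI false

namespace Groth.Agent.Lib.helper26.GeomIrr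

open AlgebraicGeometry CategoryTheory Limits TopologicalSpace TensorProduct

universe u

section Setup

variable {R : Type u} [CommRing R] (A₁ B : Type u) [CommRing A₁] [CommRing B] [Algebra R A₁]
  [Algebra R B] (φ : B →ₐ[R] A₁)

/-- the retraction `A₁ ⊗ B → A₁` given by the multisection -/
noncomputable def sec : A₁ ⊗[R] B →ₐ[A₁] A₁ :=
  Algebra.TensorProduct.productLeftAlgHom (AlgHom.id A₁ A₁) φ

@[simp] theorem sec_tmul (a : A₁) (b : B) : sec A₁ B φ (a ⊗ₜ b) = a * φ b := by
  simp [sec]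

/-- the structure morphism `Spec (A₁ ⊗ B) ⟶ Spec A₁` -/
noncomputable def f1 : Spec (CommRingCat.of (A₁ ⊗[R] B)) ⟶ Spec (CommRingCat.of A₁) :=
  Spec.map (CommRingCat.ofHom (algebraMap A₁ (A₁ ⊗[R] B)))

/-- the section `Spec A₁ ⟶ Spec (A₁ ⊗ B)` -/
noncomputable def s1 : Spec (CommRingCat.of A₁) ⟶ Spec (CommRingCat.of (A₁ ⊗[R] B)) :=
  Spec.map (CommRingCat.ofHom (sec A₁ B φ).toRingHom)

theorem s1_f1 : s1 A₁ B φ ≫ f1 (R := R) A₁ B = 𝟙 _ := by
  unfold s1 f1
  rw [← Spec.map_comp, ← CommRingCat.ofHom_comp]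
  have : (sec A₁ B φ).toRingHom.comp (algebraMap A₁ (A₁ ⊗[R] B)) = RingHom.id A₁ := by
    ext a
    simp
  rw [this]
  exact Spec.map_id _

/-- the section components of `Spec (A₁ ⊗ B) ⟶ Spec A₁` -/
def V1 : Set (PrimeSpectrum (A₁ ⊗[R] B)) :=
  MoreMor.sectionComponents (f1 (R := R) A₁ B) (s1 A₁ B φ)

theorem smooth_f1 [Algebra.Smooth R B] : Smooth (f1 (R := R) A₁ B) :=
  (HasRingHomProperty.Spec_iff (P := @Smooth)).mpr
    (RingHom.smooth_algebraMap.mpr inferInstance)

theorem isOpen_V1 [Algebra.Smooth R B] : IsOpen (V1 A₁ B φ) := by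
  haveI := smooth_f1 (R := R) A₁ B
  exact Groth.Agent.S15351.result (f1 (R := R) A₁ B) (s1 A₁ B φ) (s1_f1 A₁ B φ)

end Setup

section Field

variable {R : Type u} [CommRing R] (A₁ B : Type u) [CommRing A₁] [CommRing B] [Algebra R A₁]
  [Algebra R B] (φ : B →ₐ[R] A₁)
  (K : Type u) [Field K] [Algebra A₁ K] [Algebra R K] [IsScalarTower R A₁ K]

/-- the base change map `A₁ ⊗ B → K ⊗ B` -/
noncomputable def mapK : A₁ ⊗[R] B →ₐ[A₁] K ⊗[R] B :=
  Algebra.TensorProduct.map (Algebra.ofId A₁ K) (AlgHom.id R B)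

@[simp] theorem mapK_tmul (a : A₁) (b : B) :
    mapK (R := R) A₁ B K (a ⊗ₜ b) = algebraMap A₁ K a ⊗ₜ b := by
  simp [mapK, Algebra.ofId_apply]

/-- the rational point of `K ⊗ B` given by the multisection -/
noncomputable def secK : K ⊗[R] B →ₐ[K] K :=
  Algebra.TensorProduct.productLeftAlgHom (AlgHom.id K K)
    ((IsScalarTower.toAlgHom R A₁ K).comp φ)

@[simp] theorem secK_tmul (c : K) (b : B) :
    secK A₁ B φ K (c ⊗ₜ b) = c * algebraMap A₁ K (φ b) := by
  simp [secK]

/-- the structure morphism `Spec (K ⊗ B) ⟶ Spec K` -/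
noncomputable def fK : Spec (CommRingCat.of (K ⊗[R] B)) ⟶ Spec (CommRingCat.of K) :=
  Spec.map (CommRingCat.ofHom (algebraMap K (K ⊗[R] B)))

/-- the rational point as a morphism -/
noncomputable def sK : Spec (CommRingCat.of K) ⟶ Spec (CommRingCat.of (K ⊗[R] B)) :=
  Spec.map (CommRingCat.ofHom (secK A₁ B φ K).toRingHom)

/-- the rational point as a point -/
noncomputable def xK : PrimeSpectrum (K ⊗[R] B) :=
  sK A₁ B φ K (IsLocalRing.closedPoint K)

theorem sK_fK : sK A₁ B φ K ≫ fK (R := R) B K = 𝟙 _ := by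
  unfold sK fK
  rw [← Spec.map_comp, ← CommRingCat.ofHom_comp]
  have : (secK A₁ B φ K).toRingHom.comp (algebraMap K (K ⊗[R] B)) = RingHom.id K := by
    ext a
    simp
  rw [this]
  exact Spec.map_id _

theorem smooth_fK [Algebra.Smooth R B] : Smooth (fK (R := R) B K) :=
  (HasRingHomProperty.Spec_iff (P := @Smooth)).mpr
    (RingHom.smooth_algebraMap.mpr inferInstance)

theorem isPullback_mapK :
    IsPullback (Spec.map (CommRingCat.ofHom (mapK (R := R) A₁ B K).toRingHom)) (fK (R := R) B K)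
      (f1 (R := R) A₁ B) (Spec.map (CommRingCat.ofHom (algebraMap A₁ K))) := by
  letI : Algebra (A₁ ⊗[R] B) (K ⊗[R] B) := (mapK (R := R) A₁ B K).toRingHom.toAlgebra
  haveI : IsScalarTower A₁ (A₁ ⊗[R] B) (K ⊗[R] B) :=
    IsScalarTower.of_algebraMap_eq fun a => ((mapK (R := R) A₁ B K).commutes a).symm
  haveI : Algebra.IsPushout A₁ K (A₁ ⊗[R] B) (K ⊗[R] B) := by
    refine Algebra.IsPushout.tensorProduct_tensorProduct R B A₁ K ?_
    ext b
    simp [RingHom.algebraMap_toAlgebra]
  have h := CommRingCat.isPushout_of_isPushout A₁ K (A₁ ⊗[R] B) (K ⊗[R] B)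
  exact (isPullback_SpecMap_of_isPushout _ _ _ _ h).flip

theorem sK_mapK :
    sK A₁ B φ K ≫ Spec.map (CommRingCat.ofHom (mapK (R := R) A₁ B K).toRingHom) =
      Spec.map (CommRingCat.ofHom (algebraMap A₁ K)) ≫ s1 A₁ B φ := by
  unfold sK s1
  rw [← Spec.map_comp, ← Spec.map_comp, ← CommRingCat.ofHom_comp, ← CommRingCat.ofHom_comp]
  congr 2
  refine RingHom.ext fun x => ?_
  induction x using TensorProduct.induction_on with
  | zero => simp
  | tmul a b => simp
  | add x y hx hy =>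
    simp only [map_add]
    rw [hx, hy]

/-- the preimage of the section components in `Spec (K ⊗ B)` is the connected component of the
rational point -/
theorem preimage_V1 :
    PrimeSpectrum.comap (mapK (R := R) A₁ B K).toRingHom ⁻¹' V1 A₁ B φ =
      connectedComponent (xK A₁ B φ K) := by
  have h := Groth.Agent.S1324.result (f1 (R := R) A₁ B) (s1 A₁ B φ) (s1_f1 A₁ B φ)
    (fK (R := R) B K) (Spec.map (CommRingCat.ofHom (mapK (R := R) A₁ B K).toRingHom))
    (Spec.map (CommRingCat.ofHom (algebraMap A₁ K))) (isPullback_mapK A₁ B K)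
    (sK A₁ B φ K) (sK_fK A₁ B φ K) (sK_mapK A₁ B φ K)
  rw [sectionComponents_field] at h
  exact h.symm

theorem isIrreducible_preimage_V1 [Algebra.Smooth R B] :
    IsIrreducible (PrimeSpectrum.comap (mapK (R := R) A₁ B K).toRingHom ⁻¹' V1 A₁ B φ) := by
  rw [preimage_V1]
  haveI := smooth_fK (R := R) B K
  haveI : Algebra.FiniteType K (K ⊗[R] B) := inferInstance
  haveI : IsNoetherianRing (K ⊗[R] B) := Algebra.FiniteType.isNoetherianRing K _
  haveI : NoetherianSpace ↥(Spec (CommRingCat.of (K ⊗[R] B))) :=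
    inferInstanceAs (NoetherianSpace (PrimeSpectrum (K ⊗[R] B)))
  exact isIrreducible_connectedComponent_of_smooth (fK (R := R) B K) _

end Field

end Groth.Agent.Lib.helper26.GeomIrr
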