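/-
Helper library (helper26): towards geometric irreducibility of fibres after an elementary étale
localisation.  Part 4: the fibre `κ(p) ⊗ B` of `B` over a prime `p`, a point `y` of it with purely
transcendental residue field, and connectedness of the base change to a field of the connected
component of `y`.
-/
import Mathlib
import Groth.Prelude.Def_FlatCA
import Groth.Agent.Lib.Helper26.GeomIrrNbhd1
import Groth.Agent.Lib.Helper26.GeomIrrNbhd3
import Groth.Agent.Lib.Helper3.SepClosedIn

set_option autoImplicit false
set_option linter.style.haveILetI false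

namespace Groth.Agent.Lib.helper26.GeomIrr

open AlgebraicGeometry CategoryTheory Limits TopologicalSpace TensorProduct

universe u

/-- a specialization lies in the connected component -/
theorem mem_connectedComponent_of_specializes {X : Type*} [TopologicalSpace X] {x y : X}
    (h : x ⤳ y) : y ∈ connectedComponent x := by
  have h1 : _root_.IsPreconnected (closure ({x} : Set X)) := isPreconnected_singleton.closure
  exact h1.subset_connectedComponent (subset_closure rfl) (specializes_iff_mem_closure.mp h)

/-- transport of "separably closed in" along a surjective homomorphism of extensions -/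
theorem separableClosure_eq_bot_of_surjective {k L L₀ : Type*} [Field k] [Field L] [Field L₀]
    [Algebra k L] [Algebra k L₀] (j : L →ₐ[k] L₀) (hj : Function.Surjective j)
    (h : separableClosure k L = ⊥) : separableClosure k L₀ = ⊥ := by
  rw [eq_bot_iff]
  intro a ha
  obtain ⟨b, rfl⟩ := hj a
  have hb : _root_.IsSeparable k b := by
    have h1 : _root_.IsSeparable k (j b) := mem_separableClosure_iff.mp ha
    unfold _root_.IsSeparable at h1 ⊢
    rwa [minpoly.algHom_eq j j.injective] at h1
  have hb' : b ∈ separableClosure k L := mem_separableClosure_iff.mpr hb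
  rw [h, IntermediateField.mem_bot] at hb'
  obtain ⟨c, rfl⟩ := hb'
  rw [IntermediateField.mem_bot]
  exact ⟨c, (j.commutes c).symm⟩

section Fibre

variable {R : Type u} [CommRing R] (B : Type u) [CommRing B] [Algebra R B]
  (p : Ideal R) [p.IsPrime] (y : Ideal B) [y.IsPrime] [hy : y.LiesOver p]

/-- the point of the fibre `κ(p) ⊗ B` given by a prime `y` of `B` over `p` -/
noncomputable def fibPt : PrimeSpectrum (p.Fiber B) :=
  PrimeSpectrum.primesOverOrderIsoFiber R B p ⟨y, inferInstance, hy⟩

theorem fibPt_comap :
    (fibPt B p y).asIdeal.comap (Algebra.TensorProduct.includeRight : B →ₐ[R] p.Fiber B) = y := by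
  have h := (PrimeSpectrum.primesOverOrderIsoFiber R B p).symm_apply_apply ⟨y, inferInstance, hy⟩
  have h2 := congrArg Subtype.val h
  rw [PrimeSpectrum.coe_primesOverOrderIsoFiber_symm_apply] at h2
  exact h2

/-- a prime of the fibre is determined by its contraction to `B` -/
theorem fibre_prime_ext (a b : PrimeSpectrum (p.Fiber B))
    (h : a.asIdeal.comap (Algebra.TensorProduct.includeRight : B →ₐ[R] p.Fiber B) =
      b.asIdeal.comap (Algebra.TensorProduct.includeRight : B →ₐ[R] p.Fiber B)) : a = b := by
  apply (PrimeSpectrum.primesOverOrderIsoFiber R B p).symm.injective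
  apply Subtype.ext
  rw [PrimeSpectrum.coe_primesOverOrderIsoFiber_symm_apply,
    PrimeSpectrum.coe_primesOverOrderIsoFiber_symm_apply]
  exact h

/-- order comparison in the fibre through contractions -/
theorem fibre_le_of_comap_le (a b : PrimeSpectrum (p.Fiber B))
    (h : a.asIdeal.comap (Algebra.TensorProduct.includeRight : B →ₐ[R] p.Fiber B) ≤
      b.asIdeal.comap (Algebra.TensorProduct.includeRight : B →ₐ[R] p.Fiber B)) : a ≤ b := by
  rw [← (PrimeSpectrum.primesOverOrderIsoFiber R B p).symm.le_iff_le]
  change ((PrimeSpectrum.primesOverOrderIsoFiber R B p).symm a : Ideal B) ≤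
    ((PrimeSpectrum.primesOverOrderIsoFiber R B p).symm b : Ideal B)
  rw [PrimeSpectrum.coe_primesOverOrderIsoFiber_symm_apply,
    PrimeSpectrum.coe_primesOverOrderIsoFiber_symm_apply]
  exact h

end Fibre

section Res

variable {R : Type u} [CommRing R] (B : Type u) [CommRing B] [Algebra R B]
  (p : Ideal R) [p.IsPrime] (y : Ideal B) [y.IsPrime] [hy : y.LiesOver p]

/-- the comparison `κ(y) → κ(y₀)` of residue fields, `y₀` the point of the fibre given by `y` -/
noncomputable def resJ : y.ResidueField →+* (fibPt B p y).asIdeal.ResidueField :=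
  Ideal.ResidueField.map y (fibPt B p y).asIdeal
    (Algebra.TensorProduct.includeRight : B →ₐ[R] p.Fiber B).toRingHom (fibPt_comap B p y).symm

theorem resJ_algebraMap (b : B) :
    resJ B p y (algebraMap B y.ResidueField b) =
      algebraMap (p.Fiber B) (fibPt B p y).asIdeal.ResidueField (1 ⊗ₜ b) := by
  unfold resJ
  rw [Ideal.ResidueField.map_algebraMap]
  rfl

/-- the map `κ(p) → κ(y)` used in the definition of `PurelyTranscendental` -/
noncomputable def resI : p.ResidueField →+* y.ResidueField :=
  (Ideal.ResidueField.mapₐ p y (Algebra.ofId R B) hy.over).toRingHom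

/-- the structure map `κ(p) → κ(y₀)` -/
noncomputable def resC : p.ResidueField →+* (fibPt B p y).asIdeal.ResidueField :=
  (algebraMap (p.Fiber B) (fibPt B p y).asIdeal.ResidueField).comp
    (algebraMap p.ResidueField (p.Fiber B))

theorem resJ_resI (c : p.ResidueField) :
    resJ B p y (resI B p y c) = resC B p y c := by
  have : (resJ B p y).comp (resI B p y) = resC B p y := by
    apply Ideal.ResidueField.ringHom_ext
    ext r
    simp only [RingHom.comp_apply, resC]
    have h1 : resI B p y (algebraMap R p.ResidueField r) =
        algebraMap B y.ResidueField (algebraMap R B r) := by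
      unfold resI
      change Ideal.ResidueField.mapₐ p y (Algebra.ofId R B) hy.over (algebraMap R _ r) = _
      rw [Ideal.ResidueField.mapₐ_apply, Ideal.ResidueField.map_algebraMap]
      rfl
    rw [h1, resJ_algebraMap]
    congr 1
    rw [Algebra.TensorProduct.algebraMap_apply, Algebra.algebraMap_self, RingHom.id_apply]
    exact (Algebra.TensorProduct.tmul_one_eq_one_tmul r).symm
  exact congrArg (fun f => f c) this

theorem resJ_surjective : Function.Surjective (resJ B p y) := by
  intro x
  have hE : ∀ e : p.Fiber B,
      algebraMap (p.Fiber B) (fibPt B p y).asIdeal.ResidueField e ∈ (resJ B p y).fieldRange := by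
    intro e
    induction e using TensorProduct.induction_on with
    | zero => rw [map_zero]; exact zero_mem _
    | tmul c b =>
      have h1 : (c ⊗ₜ[R] b : p.Fiber B) = algebraMap p.ResidueField (p.Fiber B) c * (1 ⊗ₜ b) := by
        rw [Algebra.TensorProduct.algebraMap_apply, Algebra.algebraMap_self, RingHom.id_apply,
          Algebra.TensorProduct.tmul_mul_tmul, mul_one, one_mul]
      have h2 : algebraMap (p.Fiber B) (fibPt B p y).asIdeal.ResidueField
          (algebraMap p.ResidueField (p.Fiber B) c) = resC B p y c := rfl
      rw [h1, map_mul, h2, ← resJ_resI, ← resJ_algebraMap]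
      exact mul_mem ⟨_, rfl⟩ ⟨_, rfl⟩
    | add e₁ e₂ h₁ h₂ => rw [map_add]; exact add_mem h₁ h₂
  obtain ⟨a, b, -, rfl⟩ := IsFractionRing.div_surjective
    (A := p.Fiber B ⧸ (fibPt B p y).asIdeal) x
  obtain ⟨a, rfl⟩ := Ideal.Quotient.mk_surjective a
  obtain ⟨b, rfl⟩ := Ideal.Quotient.mk_surjective b
  rw [Ideal.algebraMap_quotient_residueField_mk, Ideal.algebraMap_quotient_residueField_mk]
  exact div_mem (hE a) (hE b)

/-- The residue field of the point of the fibre is separably closed over `κ(p)` when `κ(y)` is
purely transcendental over `κ(p)`. -/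
theorem separableClosure_fibPt (hPT : FlatCA.PurelyTranscendental p y) :
    letI : Algebra p.ResidueField (fibPt B p y).asIdeal.ResidueField := (resC B p y).toAlgebra
    separableClosure p.ResidueField (fibPt B p y).asIdeal.ResidueField = ⊥ := by
  letI : Algebra p.ResidueField (fibPt B p y).asIdeal.ResidueField := (resC B p y).toAlgebra
  unfold FlatCA.PurelyTranscendental at hPT
  letI : Algebra p.ResidueField y.ResidueField :=
    (Ideal.ResidueField.mapₐ p y (Algebra.ofId R B) hy.over).toRingHom.toAlgebra
  obtain ⟨ι, x, hx, hadj⟩ := hPT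
  have h1 : separableClosure p.ResidueField y.ResidueField = ⊥ :=
    separableClosure_eq_bot_of_adjoin x hx.1 hadj
  let j : y.ResidueField →ₐ[p.ResidueField] (fibPt B p y).asIdeal.ResidueField :=
    { toRingHom := resJ B p y
      commutes' := fun c => resJ_resI B p y c }
  exact separableClosure_eq_bot_of_surjective j (resJ_surjective B p y) h1

/-- The residue field point of the fibre is geometrically connected over `κ(p)`. -/
theorem geometricallyConnected_fibPt (hPT : FlatCA.PurelyTranscendental p y) :
    GeometricallyConnected
      ((Spec (CommRingCat.of (p.Fiber B))).fromSpecResidueField (fibPt B p y) ≫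
        f1 (R := R) p.ResidueField B) := by
  letI : Algebra p.ResidueField (fibPt B p y).asIdeal.ResidueField := (resC B p y).toAlgebra
  have hsep := separableClosure_fibPt B p y hPT
  have hgi : GeometricallyIrreducible (Spec.map (CommRingCat.ofHom
      (algebraMap p.ResidueField (fibPt B p y).asIdeal.ResidueField))) :=
    Groth.Agent.Lib.helper3.SepClosedIn.geometricallyIrreducible_specMap_of_separableClosure_eq_bot
      hsep
  have hgc : GeometricallyConnected (Spec.map (CommRingCat.ofHom
      (algebraMap p.ResidueField (fibPt B p y).asIdeal.ResidueField))) := by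
    refine ⟨(geometrically_iff_of_isClosedUnderIsomorphisms).mpr fun K _ z => ?_⟩
    have : IrreducibleSpace ↥(Limits.pullback (Spec.map (CommRingCat.ofHom
        (algebraMap p.ResidueField (fibPt B p y).asIdeal.ResidueField))) z) :=
      pullback_of_geometrically hgi.geometrically_irreducibleSpace K z
    infer_instance
  have key : (Spec (CommRingCat.of (p.Fiber B))).fromSpecResidueField (fibPt B p y) ≫
      f1 (R := R) p.ResidueField B =
      Spec.map (Scheme.Spec.residueFieldIso (CommRingCat.of (p.Fiber B)) (fibPt B p y)).inv ≫
        Spec.map (CommRingCat.ofHom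
          (algebraMap p.ResidueField (fibPt B p y).asIdeal.ResidueField)) := by
    rw [← Scheme.Spec.map_residueFieldIso_inv_eq_fromSpecResidueField, Category.assoc]
    congr 1
    unfold f1
    rw [← Spec.map_comp, ← CommRingCat.ofHom_comp]
    rfl
  rw [key]
  exact (MorphismProperty.cancel_left_of_respectsIso @GeometricallyConnected _ _).mpr hgc

end Res

section Conn

variable {R : Type u} [CommRing R] (B : Type u) [CommRing B] [Algebra R B] [Algebra.FiniteType R B]
  (p : Ideal R) [p.IsPrime] (y : Ideal B) [y.IsPrime] [hy : y.LiesOver p]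

/-- Let `y` be a prime of `B` over `p` with `κ(y)` purely transcendental over `κ(p)`, and `K` a
field over `R` with kernel `p`.  Two points of `Spec (K ⊗ B)` whose images in `Spec B` are
specializations of `y` lie in the same connected component. -/
theorem mem_connectedComponent_tensor (hPT : FlatCA.PurelyTranscendental p y)
    (K : Type u) [Field K] [Algebra R K] (hK : RingHom.ker (algebraMap R K) = p)
    (a b : PrimeSpectrum (K ⊗[R] B))
    (ha : y ≤ a.asIdeal.comap (Algebra.TensorProduct.includeRight : B →ₐ[R] K ⊗[R] B))
    (hb : y ≤ b.asIdeal.comap (Algebra.TensorProduct.includeRight : B →ₐ[R] K ⊗[R] B)) :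
    b ∈ connectedComponent a := by
  have hunit : p.primeCompl ≤ (IsUnit.submonoid K).comap (algebraMap R K) := by
    intro r hr
    rw [Submonoid.mem_comap, IsUnit.mem_submonoid_iff, isUnit_iff_ne_zero]
    intro h0
    exact hr (hK ▸ (RingHom.mem_ker.mpr h0))
  letI algkK : Algebra p.ResidueField K :=
    (Ideal.ResidueField.lift p (algebraMap R K) hK.ge hunit).toAlgebra
  haveI : IsScalarTower R p.ResidueField K := IsScalarTower.of_algebraMap_eq fun r =>
    (Ideal.ResidueField.lift_algebraMap p (algebraMap R K) hK.ge hunit r).symm
  haveI : Algebra.FiniteType p.ResidueField (p.Fiber B) := inferInstance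
  haveI : IsNoetherianRing (p.Fiber B) := Algebra.FiniteType.isNoetherianRing p.ResidueField _
  haveI : NoetherianSpace ↥(Spec (CommRingCat.of (p.Fiber B))) :=
    inferInstanceAs (NoetherianSpace (PrimeSpectrum (p.Fiber B)))
  haveI := geometricallyConnected_fibPt B p y hPT
  have hcomp : ∀ c : PrimeSpectrum (K ⊗[R] B),
      (PrimeSpectrum.comap (mapK (R := R) p.ResidueField B K).toRingHom c).asIdeal.comap
        (Algebra.TensorProduct.includeRight : B →ₐ[R] p.Fiber B) =
      c.asIdeal.comap (Algebra.TensorProduct.includeRight : B →ₐ[R] K ⊗[R] B) := by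
    intro c
    ext x
    simp only [Ideal.mem_comap, PrimeSpectrum.comap_asIdeal, AlgHom.toRingHom_eq_coe,
      RingHom.coe_coe, Algebra.TensorProduct.includeRight_apply, mapK_tmul, map_one]
  have hmem : ∀ c : PrimeSpectrum (K ⊗[R] B),
      y ≤ c.asIdeal.comap (Algebra.TensorProduct.includeRight : B →ₐ[R] K ⊗[R] B) →
      PrimeSpectrum.comap (mapK (R := R) p.ResidueField B K).toRingHom c ∈
        connectedComponent (fibPt B p y) := by
    intro c hc
    apply mem_connectedComponent_of_specializes
    rw [← PrimeSpectrum.le_iff_specializes]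
    apply fibre_le_of_comap_le
    rw [fibPt_comap, hcomp]
    exact hc
  exact mem_connectedComponent_of_geometricallyConnected (k := p.ResidueField) (K := K)
    (X₀ := Spec (CommRingCat.of (p.Fiber B))) (f1 (R := R) p.ResidueField B) (fibPt B p y)
    (Spec.map (CommRingCat.ofHom (mapK (R := R) p.ResidueField B K).toRingHom))
    (fK (R := R) B K) (Spec.map (CommRingCat.ofHom (algebraMap p.ResidueField K)))
    (isPullback_mapK p.ResidueField B K) a b (hmem a ha) (hmem b hb)

end Conn

end Groth.Agent.Lib.helper26.GeomIrr
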