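/-
Helper library (helper26): towards geometric irreducibility of fibres after an elementary étale
localisation.  Part 5: the core statement.  `B` smooth over `R`, `y` a prime of `B` over `p` with
purely transcendental residue field, `A₁` an integral `R`-algebra with exactly one prime `P'` over
`p` and a multisection `φ : B → A₁` through a specialization of `y`.  Then there is an open
neighbourhood `W` of `y` in `Spec B` whose preimage in `Spec (K ⊗ B)` is irreducible or empty for
every field `K` over `R` admitting an `R`-algebra map `A₁ → K`.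
-/
import Mathlib
import Groth.Agent.Lib.Helper26.GeomIrrNbhd4

set_option autoImplicit false
set_option linter.style.haveILetI false

namespace Groth.Agent.Lib.helper26.GeomIrr

open AlgebraicGeometry CategoryTheory Limits TopologicalSpace TensorProduct

universe u

section Core

variable {R : Type u} [CommRing R] (A₁ B : Type u) [CommRing A₁] [CommRing B] [Algebra R A₁]
  [Algebra R B] (φ : B →ₐ[R] A₁)

theorem includeRight_isIntegral [Algebra.IsIntegral R A₁] :
    (Algebra.TensorProduct.includeRight : B →ₐ[R] A₁ ⊗[R] B).toRingHom.IsIntegral := by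
  have h1 : (algebraMap B (B ⊗[R] A₁)).IsIntegral := algebraMap_isIntegral_iff.mpr inferInstance
  have h2 : ((Algebra.TensorProduct.comm R B A₁).toRingEquiv.toRingHom).IsIntegral :=
    RingHom.isIntegral_of_surjective _ (Algebra.TensorProduct.comm R B A₁).toRingEquiv.surjective
  have h3 : (Algebra.TensorProduct.includeRight : B →ₐ[R] A₁ ⊗[R] B).toRingHom =
      ((Algebra.TensorProduct.comm R B A₁).toRingEquiv.toRingHom).comp
        (algebraMap B (B ⊗[R] A₁)) := by
    ext b
    simp [Algebra.TensorProduct.algebraMap_apply]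
  rw [h3]
  exact h1.trans _ _ h2

/-- the projection `Spec (A₁ ⊗ B) → Spec B` -/
noncomputable def piB : PrimeSpectrum (A₁ ⊗[R] B) → PrimeSpectrum B :=
  PrimeSpectrum.comap (Algebra.TensorProduct.includeRight : B →ₐ[R] A₁ ⊗[R] B).toRingHom

/-- the open set: points all of whose preimages in `Spec (A₁ ⊗ B)` lie in the section components -/
def W1 : Set (PrimeSpectrum B) := (piB (R := R) A₁ B '' (V1 A₁ B φ)ᶜ)ᶜ

theorem isOpen_W1 [Algebra.Smooth R B] [Algebra.IsIntegral R A₁] : IsOpen (W1 A₁ B φ) := by
  unfold W1
  rw [isOpen_compl_iff]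
  exact PrimeSpectrum.isClosedMap_comap_of_isIntegral _ (includeRight_isIntegral A₁ B) _
    (isOpen_V1 A₁ B φ).isClosed_compl

variable {A₁ B φ} in
theorem mem_W1_iff {w : PrimeSpectrum B} :
    w ∈ W1 A₁ B φ ↔ ∀ v : PrimeSpectrum (A₁ ⊗[R] B), piB (R := R) A₁ B v = w → v ∈ V1 A₁ B φ := by
  unfold W1
  simp only [Set.mem_compl_iff, Set.mem_image, not_exists, not_and]
  constructor
  · intro h v hv
    by_contra hc
    exact h v hc hv
  · intro h v hv hvw
    exact hv (h v hvw)

/-- the preimage of `W1` in `Spec (K ⊗ B)` is irreducible or empty -/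
theorem isPreirreducible_preimage_W1 [Algebra.Smooth R B] [Algebra.IsIntegral R A₁]
    (K : Type u) [Field K] [Algebra R K] (τ : A₁ →ₐ[R] K) :
    IsPreirreducible (PrimeSpectrum.comap
      (Algebra.TensorProduct.includeRight : B →ₐ[R] K ⊗[R] B).toRingHom ⁻¹' W1 A₁ B φ) := by
  letI : Algebra A₁ K := τ.toRingHom.toAlgebra
  haveI : IsScalarTower R A₁ K := IsScalarTower.of_algebraMap_eq fun r => (τ.commutes r).symm
  have hirr := isIrreducible_preimage_V1 A₁ B φ K
  refine hirr.isPreirreducible.open_subset ?_ ?_
  · exact (isOpen_W1 A₁ B φ).preimage (PrimeSpectrum.continuous_comap _)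
  · intro w hw
    rw [Set.mem_preimage, mem_W1_iff] at hw
    rw [Set.mem_preimage]
    apply hw
    unfold piB
    rw [← PrimeSpectrum.comap_comp_apply]
    congr 1
    ext b
    simp

/-- the point `y` lies in `W1` -/
theorem mem_W1 [Algebra.Smooth R B] (p : Ideal R) [p.IsPrime] (y : Ideal B) [y.IsPrime]
    [hy : y.LiesOver p] (hPT : FlatCA.PurelyTranscendental p y) (P' : Ideal A₁) [P'.IsPrime]
    [hP' : P'.LiesOver p]
    (huniq : ∀ P'' : Ideal A₁, P''.IsPrime → P''.LiesOver p → P'' = P')
    (hyφ : y ≤ P'.comap φ) :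
    (⟨y, inferInstance⟩ : PrimeSpectrum B) ∈ W1 A₁ B φ := by
  haveI : Algebra.FiniteType R B := inferInstance
  rw [mem_W1_iff]
  intro v hv
  have hvB : v.asIdeal.comap
      (Algebra.TensorProduct.includeRight : B →ₐ[R] A₁ ⊗[R] B).toRingHom = y :=
    congrArg PrimeSpectrum.asIdeal hv
  -- the contraction of `v` to `A₁` is `P'`
  have hP₁ : (v.asIdeal.comap (algebraMap A₁ (A₁ ⊗[R] B))).LiesOver p := by
    refine ⟨?_⟩
    rw [Ideal.under, Ideal.comap_comap, ← IsScalarTower.algebraMap_eq]
    have h1 : algebraMap R (A₁ ⊗[R] B) =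
        (Algebra.TensorProduct.includeRight : B →ₐ[R] A₁ ⊗[R] B).toRingHom.comp
          (algebraMap R B) := by
      ext r
      simp
    rw [h1, ← Ideal.comap_comap, hvB]
    exact hy.over
  have hvA : v.asIdeal.comap (algebraMap A₁ (A₁ ⊗[R] B)) = P' := huniq _ inferInstance hP₁
  -- pass to the residue field of `P'`
  have hK : RingHom.ker (algebraMap R P'.ResidueField) = p := by
    rw [IsScalarTower.algebraMap_eq R A₁ P'.ResidueField, ← RingHom.comap_ker,
      Ideal.ker_algebraMap_residueField]
    exact hP'.over.symm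
  have hpt : f1 (R := R) A₁ B v =
      Spec.map (CommRingCat.ofHom (algebraMap A₁ P'.ResidueField))
        (IsLocalRing.closedPoint P'.ResidueField) := by
    apply PrimeSpectrum.ext
    change v.asIdeal.comap (algebraMap A₁ (A₁ ⊗[R] B)) =
      (IsLocalRing.maximalIdeal P'.ResidueField).comap (algebraMap A₁ P'.ResidueField)
    rw [hvA, IsLocalRing.maximalIdeal_eq_bot, ← RingHom.ker_eq_comap_bot,
      Ideal.ker_algebraMap_residueField]
  obtain ⟨vK, hvK, -⟩ := exists_preimage_of_isPullback (isPullback_mapK A₁ B P'.ResidueField)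
    v (IsLocalRing.closedPoint P'.ResidueField) hpt
  have hvK' : PrimeSpectrum.comap (mapK (R := R) A₁ B P'.ResidueField).toRingHom vK = v := hvK
  have hmem : vK ∈ PrimeSpectrum.comap (mapK (R := R) A₁ B P'.ResidueField).toRingHom ⁻¹'
      V1 A₁ B φ := by
    rw [preimage_V1]
    refine mem_connectedComponent_tensor B p y hPT P'.ResidueField hK _ _ ?_ ?_
    · -- the rational point lies over a specialization of `y`
      intro b hb
      rw [Ideal.mem_comap]
      change (Algebra.TensorProduct.includeRight b : P'.ResidueField ⊗[R] B) ∈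
        (IsLocalRing.maximalIdeal P'.ResidueField).comap (secK A₁ B φ P'.ResidueField).toRingHom
      rw [Ideal.mem_comap, IsLocalRing.maximalIdeal_eq_bot, Ideal.mem_bot]
      change secK A₁ B φ P'.ResidueField (1 ⊗ₜ b) = 0
      rw [secK_tmul, one_mul, Ideal.algebraMap_residueField_eq_zero]
      exact hyφ hb
    · -- `vK` lies over `y`
      intro b hb
      rw [Ideal.mem_comap]
      have h2 : (Algebra.TensorProduct.includeRight b : P'.ResidueField ⊗[R] B) =
          mapK (R := R) A₁ B P'.ResidueField (Algebra.TensorProduct.includeRight b) := by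
        simp
      rw [h2]
      change Algebra.TensorProduct.includeRight b ∈
        (PrimeSpectrum.comap (mapK (R := R) A₁ B P'.ResidueField).toRingHom vK).asIdeal
      rw [hvK', ← hvB] at *
      exact hb
  have hmem' : PrimeSpectrum.comap (mapK (R := R) A₁ B P'.ResidueField).toRingHom vK ∈
      V1 A₁ B φ := hmem
  rwa [hvK'] at hmem'

end Core

end Groth.Agent.Lib.helper26.GeomIrr
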