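/-
Helper library (helper26): towards geometric irreducibility of fibres after an elementary étale
localisation.  Part 6: a criterion for geometric irreducibility of the restriction of a morphism
to an open subscheme over an open of the base, tested on algebraically closed fields.
-/
import Mathlib
import Groth.Agent.Lib.Helper26.GeomIrrNbhd2

set_option autoImplicit false
set_option linter.style.haveILetI false

namespace Groth.Agent.Lib.helper26.GeomIrr

open AlgebraicGeometry CategoryTheory Limits TopologicalSpace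

universe u

/-- a pullback square over `S'` is a pullback square over `S` when `S' ⟶ S` is a monomorphism -/
theorem isPullback_comp_mono {Z U T S' S : Scheme.{u}} {fst : Z ⟶ U} {snd : Z ⟶ T} {f' : U ⟶ S'}
    {s : T ⟶ S'} (h : IsPullback fst snd f' s) (j : S' ⟶ S) [Mono j] :
    IsPullback fst snd (f' ≫ j) (s ≫ j) := by
  refine ⟨⟨by rw [← Category.assoc, h.w, Category.assoc]⟩, ⟨PullbackCone.IsLimit.mk _
    (fun c => h.lift c.fst c.snd (by
      have := c.condition
      rw [← Category.assoc, ← Category.assoc] at this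
      exact (cancel_mono j).mp this))
    (fun c => h.lift_fst _ _ _) (fun c => h.lift_snd _ _ _)
    (fun c m h1 h2 => h.hom_ext (by rw [h1, h.lift_fst]) (by rw [h2, h.lift_snd]))⟩⟩

/-- The algebraically closed case of the criterion. -/
theorem irreducibleSpace_of_open {X S U S' : Scheme.{u}} (f : X ⟶ S) (ι : U ⟶ X)
    [IsOpenImmersion ι] (j : S' ⟶ S) [Mono j] (f' : U ⟶ S') (hf' : f' ≫ j = ι ≫ f)
    (hsurj : Function.Surjective f')
    {K : Type u} [Field K] (s : Spec (CommRingCat.of K) ⟶ S')
    (H : ∃ (XK : Scheme.{u}) (a : XK ⟶ X) (b : XK ⟶ Spec (CommRingCat.of K)),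
      IsPullback a b f (s ≫ j) ∧ IsPreirreducible (a ⁻¹' Set.range ι))
    {Z : Scheme.{u}} (fst : Z ⟶ U) (snd : Z ⟶ Spec (CommRingCat.of K))
    (hZ : IsPullback fst snd f' s) : IrreducibleSpace Z := by
  obtain ⟨XK, a, b, hXK, hirr⟩ := H
  have hZ' : IsPullback fst snd (ι ≫ f) (s ≫ j) := by
    rw [← hf']; exact isPullback_comp_mono hZ j
  let c : Z ⟶ XK := hXK.lift (fst ≫ ι) snd (by rw [Category.assoc]; exact hZ'.w)
  have hc1 : c ≫ a = fst ≫ ι := hXK.lift_fst _ _ _
  have hc2 : c ≫ b = snd := hXK.lift_snd _ _ _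
  have htop : IsPullback fst c ι a := by
    refine IsPullback.of_bot ?_ hc1.symm hXK
    rw [hc2]; exact hZ'
  haveI : IsOpenImmersion c := MorphismProperty.of_isPullback htop inferInstance
  have hrange : Set.range c = a ⁻¹' Set.range ι := by
    ext x
    constructor
    · rintro ⟨z, rfl⟩
      refine ⟨fst z, ?_⟩
      rw [← Scheme.Hom.comp_apply, ← hc1, Scheme.Hom.comp_apply]
    · rintro ⟨u, hu⟩
      obtain ⟨z, -, hz⟩ := exists_preimage_of_isPullback htop u x hu
      exact ⟨z, hz⟩
  have hpre : IsPreirreducible (c ⁻¹' Set.range c) :=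
    (hrange ▸ hirr).preimage c.isOpenEmbedding
  rw [Set.preimage_range] at hpre
  haveI : PreirreducibleSpace Z := ⟨hpre⟩
  -- nonempty
  obtain ⟨u, hu⟩ := hsurj (s (IsLocalRing.closedPoint K))
  obtain ⟨z, -, -⟩ := exists_preimage_of_isPullback hZ u (IsLocalRing.closedPoint K) hu
  haveI : Nonempty Z := ⟨z⟩
  exact { toPreirreducibleSpace := inferInstance, toNonempty := inferInstance }

/-- **Criterion.**  `f : X ⟶ S`, `U ⊆ X` open, `S' ⟶ S` a monomorphism, `f' : U ⟶ S'` surjective and
compatible with `f`.  If for every algebraically closed field `K` and every `K`-point of `S'` the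
preimage of `U` in some base change of `X` to `K` is irreducible or empty, then `f'` is
geometrically irreducible. -/
theorem geometricallyIrreducible_of_open {X S U S' : Scheme.{u}} (f : X ⟶ S) (ι : U ⟶ X)
    [IsOpenImmersion ι] (j : S' ⟶ S) [Mono j] (f' : U ⟶ S') (hf' : f' ≫ j = ι ≫ f)
    (hsurj : Function.Surjective f')
    (H : ∀ (K : Type u) [Field K] [IsAlgClosed K] (s : Spec (CommRingCat.of K) ⟶ S'),
      ∃ (XK : Scheme.{u}) (a : XK ⟶ X) (b : XK ⟶ Spec (CommRingCat.of K)),
      IsPullback a b f (s ≫ j) ∧ IsPreirreducible (a ⁻¹' Set.range ι)) :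
    GeometricallyIrreducible f' := by
  refine ⟨fun K _ s Z fst snd hZ => ?_⟩
  let e : Spec (CommRingCat.of (AlgebraicClosure K)) ⟶ Spec (CommRingCat.of K) :=
    Spec.map (CommRingCat.ofHom (algebraMap K (AlgebraicClosure K)))
  have hZb : IsPullback (pullback.fst snd e ≫ fst) (pullback.snd snd e) f' (e ≫ s) :=
    (IsPullback.of_hasPullback snd e).paste_horiz hZ
  haveI : IrreducibleSpace ↥(pullback snd e) :=
    irreducibleSpace_of_open f ι j f' hf' hsurj (e ≫ s) (H (AlgebraicClosure K) (e ≫ s)) _ _ hZb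
  haveI : Subsingleton ↥(Spec (CommRingCat.of K)) :=
    inferInstanceAs (Subsingleton (PrimeSpectrum K))
  haveI : Surjective e :=
    ⟨fun x => ⟨IsLocalRing.closedPoint (AlgebraicClosure K), Subsingleton.elim _ _⟩⟩
  have hs : Function.Surjective (pullback.fst snd e) := (pullback.fst snd e).surjective
  exact hs.irreducibleSpace (pullback.fst snd e).continuous

end Groth.Agent.Lib.helper26.GeomIrr
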