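import Mathlib
import Groth.Prelude.Def_FlatCA

/-!
# Purity (Raynaud–Gruson) in ring form: basic lemmas (helper26)

* `comap_fiberIdeal`: for a prime `P` of `S` over the prime `p` of `R`, the contraction of the
  extension of `P` to the fibre ring `κ(p) ⊗ S` is `P`.
* `mem_of_fiberIdeal_mem_associatedPrimes`: if the extension of `P` to the fibre ring is an
  associated prime of the fibre module of `N`, then `P` contains the annihilator of `N`.
* `not_isImpurity_of_integral`: there is no impurity when `B'/P` is integral over `A'`
  (going-up).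
-/

set_option autoImplicit false
set_option linter.style.haveILetI false
universe u

namespace Groth.Agent.Lib.helper26.Purity

open TensorProduct FlatCA

section Fiber

variable {R : Type u} [CommRing R] (p : Ideal R) [p.IsPrime] {S : Type u} [CommRing S]
  [Algebra R S]

/-- the contraction of the extension of a prime `P` over `p` to the fibre ring is `P`. -/
theorem comap_fiberIdeal (P : Ideal S) [P.IsPrime] [hP : P.LiesOver p] :
    (fiberIdeal p P).comap
      (Algebra.TensorProduct.includeRight (R := R) (A := p.ResidueField) (B := S)).toRingHom =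
      P := by
  apply le_antisymm
  · let x : PrimeSpectrum.comap (algebraMap R S) ⁻¹' {(⟨p, inferInstance⟩ : PrimeSpectrum R)} :=
      ⟨⟨P, inferInstance⟩, by
        rw [Set.mem_preimage, Set.mem_singleton_iff]
        apply PrimeSpectrum.ext
        exact (hP.over).symm⟩
    have h1 := (PrimeSpectrum.preimageEquivFiber R S ⟨p, inferInstance⟩).left_inv x
    have h2 : ((PrimeSpectrum.preimageEquivFiber R S ⟨p, inferInstance⟩ x).asIdeal).comap
        (Algebra.TensorProduct.includeRight (R := R) (A := p.ResidueField) (B := S)).toRingHom =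
        P := by
      have := congrArg (fun y => y.1.asIdeal) h1
      exact this
    have h3 : fiberIdeal p P ≤ (PrimeSpectrum.preimageEquivFiber R S ⟨p, inferInstance⟩ x).asIdeal := by
      unfold fiberIdeal
      rw [Ideal.map_le_iff_le_comap, h2]
    calc (fiberIdeal p P).comap _ ≤ ((PrimeSpectrum.preimageEquivFiber R S
          ⟨p, inferInstance⟩ x).asIdeal).comap _ := Ideal.comap_mono h3
      _ = P := h2
  · exact Ideal.le_comap_map

attribute [local instance] Algebra.TensorProduct.rightAlgebra

theorem includeRight_smul_eq_zero (N : Type u) [AddCommGroup N] [Module S N]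
    (b : S) (hb : ∀ n : N, b • n = 0) (y : (p.Fiber S) ⊗[S] N) :
    (Algebra.TensorProduct.includeRight (R := R) (A := p.ResidueField) (B := S)) b • y = 0 := by
  induction y using TensorProduct.induction_on with
  | zero => rw [smul_zero]
  | add x y hx hy => rw [smul_add, hx, hy, add_zero]
  | tmul c n =>
    rw [TensorProduct.smul_tmul', smul_eq_mul]
    have h2 : (Algebra.TensorProduct.includeRight (R := R) (A := p.ResidueField) (B := S)) b * c
        = b • c := by
      rw [Algebra.smul_def]
      rfl
    rw [h2, TensorProduct.smul_tmul, hb, TensorProduct.tmul_zero]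

/-- an element of `S` killing `N` lies in every prime `P` over `p` whose extension to the fibre
ring is an associated prime of the fibre module. -/
theorem mem_of_fiberIdeal_mem_associatedPrimes (N : Type u) [AddCommGroup N] [Module S N]
    [Module R N] [IsScalarTower R S N] (P : Ideal S) [P.IsPrime] [hP : P.LiesOver p]
    (hass : fiberIdeal p P ∈ associatedPrimes (p.Fiber S) (fiberMod p S N))
    (b : S) (hb : ∀ n : N, b • n = 0) : b ∈ P := by
  have h1 : (Algebra.TensorProduct.includeRight (R := R) (A := p.ResidueField) (B := S)) b ∈
      (⊤ : Submodule (p.Fiber S) (fiberMod p S N)).annihilator := by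
    rw [Submodule.mem_annihilator]
    intro y _
    exact includeRight_smul_eq_zero p N b hb y
  have h3 := hass.annihilator_le h1
  rw [← comap_fiberIdeal p P]
  exact h3

end Fiber

section GoingUp

variable {A' B' : Type u} [CommRing A'] [CommRing B'] [Algebra A' B']

/-- going-up: if `B'/P` is integral over `A'`, every prime `t ⊇ t' = P ∩ A'` has a prime
`P' ⊇ P` over it. -/
theorem exists_prime_ge_liesOver_of_isIntegral (t' t : Ideal A') [t'.IsPrime] [t.IsPrime]
    (hle : t' ≤ t) (P : Ideal B') [P.IsPrime] [hP : P.LiesOver t']
    (hint : ∀ x : B', IsIntegral A' (Ideal.Quotient.mk P x)) :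
    ∃ P' : Ideal B', P'.IsPrime ∧ P ≤ P' ∧ P'.LiesOver t := by
  haveI : Algebra.IsIntegral A' (B' ⧸ P) := ⟨fun y => by
    obtain ⟨x, rfl⟩ := Ideal.Quotient.mk_surjective y
    exact hint x⟩
  have hker : RingHom.ker (algebraMap A' (B' ⧸ P)) ≤ t := by
    intro a ha
    rw [RingHom.mem_ker] at ha
    have ha' : Ideal.Quotient.mk P (algebraMap A' B' a) = 0 := ha
    rw [Ideal.Quotient.eq_zero_iff_mem] at ha'
    apply hle
    rw [hP.over]
    exact ha'
  obtain ⟨Q, hQ, hQt⟩ := Ideal.exists_ideal_over_prime_of_isIntegral_of_isDomain t hker
  refine ⟨Q.comap (Ideal.Quotient.mk P), Ideal.comap_isPrime _ _, ?_, ⟨?_⟩⟩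
  · intro x hx
    rw [Ideal.mem_comap, Ideal.Quotient.eq_zero_iff_mem.2 hx]
    exact Q.zero_mem
  · rw [Ideal.under_def, Ideal.comap_comap, ← hQt]
    rfl

end GoingUp

section Finite

variable {A B : Type u} [CommRing A] [CommRing B] [Algebra A B]

/-- a module whose scheme-theoretic support is integral over the base is universally pure
(going-up). -/
theorem isUnivPure_of_support_integral (N : Type u) [AddCommGroup N] [Module B N]
    [Algebra.IsIntegral A (B ⧸ Module.annihilator B N)] : FlatCA.IsUnivPure A B N := by
  intro p _ A' B' N' _ _ _ _ _ _ _ _ _ _ _ _ _ _ f t' t _ _ P _ himp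
  obtain ⟨hpush, hbc, hle, htp, hPt', hass, hno⟩ := himp
  have hann : ∀ b ∈ Module.annihilator B N, algebraMap B B' b ∈ P := by
    intro b hb
    apply mem_of_fiberIdeal_mem_associatedPrimes t' N' P hass
    intro n'
    induction n' using hbc.inductionOn with
    | zero => exact smul_zero _
    | tmul n =>
      rw [algebraMap_smul, ← f.map_smul, Module.mem_annihilator.1 hb n, map_zero]
    | smul s n' h => rw [smul_comm, h, smul_zero]
    | add x y hx hy => rw [smul_add, hx, hy, add_zero]
  let φ : (B ⧸ Module.annihilator B N) →ₐ[A] (B' ⧸ P) :=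
    Ideal.Quotient.liftₐ (Module.annihilator B N)
      ((Ideal.Quotient.mkₐ A P).comp (IsScalarTower.toAlgHom A B B')) (by
        intro b hb
        change Ideal.Quotient.mk P (algebraMap B B' b) = 0
        rw [Ideal.Quotient.eq_zero_iff_mem]
        exact hann b hb)
  have hint : ∀ x : B', IsIntegral A' (Ideal.Quotient.mk P x) := by
    intro x
    induction x using hpush.symm.out.inductionOn with
    | zero => rw [map_zero]; exact isIntegral_zero
    | tmul b =>
      have h1 : IsIntegral A (Ideal.Quotient.mk (Module.annihilator B N) b) :=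
        Algebra.IsIntegral.isIntegral _
      have h2 : IsIntegral A (φ (Ideal.Quotient.mk (Module.annihilator B N) b)) := h1.map φ
      exact h2.tower_top
    | smul a x h =>
      rw [Algebra.smul_def, map_mul]
      exact IsIntegral.mul (isIntegral_algebraMap (R := A') (A := B' ⧸ P) (x := a)) h
    | add x y hx hy => rw [map_add]; exact hx.add hy
  obtain ⟨P', hP', hPP', hP't⟩ := exists_prime_ge_liesOver_of_isIntegral t' t hle P hint
  exact hno P' hPP' hP't

end Finite

end Groth.Agent.Lib.helper26.Purity
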