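/-
Helper library (helper26): towards geometric irreducibility of fibres after an elementary étale
localisation.  Part 7: points of integral algebras in algebraically closed fields, and the
assembly of the open neighbourhood with geometrically irreducible fibres over a principal open of
the base.
-/
import Mathlib
import Groth.Agent.Lib.Helper26.GeomIrrNbhd5
import Groth.Agent.Lib.Helper26.GeomIrrNbhd6
import Groth.Agent.Lib.Helper3.Shrink4
import Groth.Agent.Lib.Helper3.OneStep1

set_option autoImplicit false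
set_option linter.style.haveILetI false

namespace Groth.Agent.Lib.helper26.GeomIrr

open AlgebraicGeometry CategoryTheory Limits TopologicalSpace TensorProduct

universe u

/-- the pullback square of spectra for a tensor product -/
theorem isPullback_tensor (R₁ K B₁ : Type u) [CommRing R₁] [CommRing K] [CommRing B₁]
    [Algebra R₁ K] [Algebra R₁ B₁] :
    IsPullback
      (Spec.map (CommRingCat.ofHom
        (Algebra.TensorProduct.includeRight : B₁ →ₐ[R₁] K ⊗[R₁] B₁).toRingHom))
      (Spec.map (CommRingCat.ofHom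
        (Algebra.TensorProduct.includeLeft : K →ₐ[R₁] K ⊗[R₁] B₁).toRingHom))
      (Spec.map (CommRingCat.ofHom (algebraMap R₁ B₁)))
      (Spec.map (CommRingCat.ofHom (algebraMap R₁ K))) :=
  (isPullback_SpecMap_of_isPushout _ _ _ _ (CommRingCat.isPushout_tensorProduct R₁ K B₁)).flip

/-- An integral algebra with a prime over the kernel of `R₁ → K`, `K` algebraically closed, has a
`K`-point. -/
theorem nonempty_algHom_of_isAlgClosed {R₁ A₁ : Type u} [CommRing R₁] [CommRing A₁]
    [Algebra R₁ A₁] [Algebra.IsIntegral R₁ A₁] (K : Type u) [Field K] [IsAlgClosed K]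
    [Algebra R₁ K]
    (h : ∃ P : PrimeSpectrum A₁, (PrimeSpectrum.comap (algebraMap R₁ A₁) P).asIdeal =
      RingHom.ker (algebraMap R₁ K)) : Nonempty (A₁ →ₐ[R₁] K) := by
  obtain ⟨P, hP⟩ := h
  -- `K ⊗ A₁` is nontrivial
  have hpt : (Spec.map (CommRingCat.ofHom (algebraMap R₁ A₁))) P =
      (Spec.map (CommRingCat.ofHom (algebraMap R₁ K))) (IsLocalRing.closedPoint K) := by
    apply PrimeSpectrum.ext
    change (PrimeSpectrum.comap (algebraMap R₁ A₁) P).asIdeal =
      (IsLocalRing.maximalIdeal K).comap (algebraMap R₁ K)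
    rw [hP, IsLocalRing.maximalIdeal_eq_bot, ← RingHom.ker_eq_comap_bot]
  obtain ⟨z, -, -⟩ := exists_preimage_of_isPullback (isPullback_tensor R₁ K A₁) P
    (IsLocalRing.closedPoint K) hpt
  haveI : Nontrivial (K ⊗[R₁] A₁) :=
    PrimeSpectrum.nonempty_iff_nontrivial.mp ⟨z⟩
  obtain ⟨m, hm⟩ := Ideal.exists_maximal (K ⊗[R₁] A₁)
  letI : Field ((K ⊗[R₁] A₁) ⧸ m) := Ideal.Quotient.field m
  haveI : Algebra.IsIntegral K ((K ⊗[R₁] A₁) ⧸ m) := inferInstance
  have hbij : Function.Bijective (algebraMap K ((K ⊗[R₁] A₁) ⧸ m)) :=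
    IsAlgClosed.algebraMap_bijective_of_isIntegral
  let e : K ≃ₐ[K] ((K ⊗[R₁] A₁) ⧸ m) := AlgEquiv.ofBijective (Algebra.ofId K _) hbij
  exact ⟨((e.symm.toAlgHom.restrictScalars R₁).comp
    ((Ideal.Quotient.mkₐ K m).restrictScalars R₁)).comp
      (Algebra.TensorProduct.includeRight : A₁ →ₐ[R₁] K ⊗[R₁] A₁)⟩

section Asm

variable {R₁ : Type u} [CommRing R₁] (A₁ B₁ : Type u) [CommRing A₁] [CommRing B₁] [Algebra R₁ A₁]
  [Algebra R₁ B₁] (φ₁ : B₁ →ₐ[R₁] A₁)

/-- **Assembly over a principal open.**  In the situation of the core statement, with `A₁` moreover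
flat and finitely presented over `R₁`, there are `f ∉ P₁` and `g ∉ y₁` such that
`(B₁)_{fg}` is smooth of relative dimension `n` with geometrically irreducible fibres over
`(R₁)_f`. -/
theorem exists_loc_geomIrred [Algebra.IsIntegral R₁ A₁] [Module.Flat R₁ A₁]
    [Algebra.FinitePresentation R₁ A₁] (n : ℕ) (hsm : FlatCA.SmoothRelDim n R₁ B₁)
    (P₁ : Ideal R₁) [P₁.IsPrime] (y₁ : Ideal B₁) [y₁.IsPrime] [hy : y₁.LiesOver P₁]
    (hPT : FlatCA.PurelyTranscendental P₁ y₁) (P' : Ideal A₁) [P'.IsPrime] [hP' : P'.LiesOver P₁]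
    (huniq : ∀ P'' : Ideal A₁, P''.IsPrime → P''.LiesOver P₁ → P'' = P')
    (hyφ : y₁ ≤ P'.comap φ₁) :
    ∃ (f : R₁) (g : B₁), f ∉ P₁ ∧ g ∉ y₁ ∧
      ∀ (R' D : Type u) [CommRing R'] [CommRing D] [Algebra R₁ R'] [IsLocalization.Away f R']
        [Algebra B₁ D] [IsLocalization.Away (algebraMap R₁ B₁ f * g) D] [Algebra R₁ D]
        [IsScalarTower R₁ B₁ D] [Algebra R' D] [IsScalarTower R₁ R' D],
        FlatCA.SmoothRelDim n R' D ∧ FlatCA.GeomIrredFibres R' D := by
  haveI : Algebra.Smooth R₁ B₁ := Groth.Agent.Lib.helper3.OneStep.algebra_smooth n hsm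
  have hWo := isOpen_W1 A₁ B₁ φ₁
  have hyW := mem_W1 A₁ B₁ φ₁ P₁ y₁ hPT P' huniq hyφ
  -- a basic open neighbourhood of `y₁` inside `W1`
  obtain ⟨_, ⟨_, ⟨g, rfl⟩, rfl⟩, hyg, hgW⟩ := PrimeSpectrum.isBasis_basic_opens.exists_subset_of_mem_open
    hyW hWo
  have hgy : g ∉ y₁ := hyg
  -- the two open images in `Spec R₁`
  have hUB : IsOpen (PrimeSpectrum.comap (algebraMap R₁ B₁) ''
      (PrimeSpectrum.basicOpen g : Set (PrimeSpectrum B₁))) :=
    PrimeSpectrum.isOpenMap_comap_of_hasGoingDown_of_finitePresentation _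
      (PrimeSpectrum.basicOpen g).isOpen
  have hUA : IsOpen (Set.range (PrimeSpectrum.comap (algebraMap R₁ A₁))) :=
    (PrimeSpectrum.isOpenMap_comap_of_hasGoingDown_of_finitePresentation
      (R := R₁) (S := A₁)).isOpen_range
  have hP₁B : (⟨P₁, inferInstance⟩ : PrimeSpectrum R₁) ∈
      PrimeSpectrum.comap (algebraMap R₁ B₁) ''
        (PrimeSpectrum.basicOpen g : Set (PrimeSpectrum B₁)) :=
    ⟨⟨y₁, inferInstance⟩, hyg, PrimeSpectrum.ext hy.over.symm⟩
  have hP₁A : (⟨P₁, inferInstance⟩ : PrimeSpectrum R₁) ∈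
      Set.range (PrimeSpectrum.comap (algebraMap R₁ A₁)) :=
    ⟨⟨P', inferInstance⟩, PrimeSpectrum.ext hP'.over.symm⟩
  obtain ⟨_, ⟨_, ⟨f, rfl⟩, rfl⟩, hPf, hfU⟩ := PrimeSpectrum.isBasis_basic_opens.exists_subset_of_mem_open
    (show (⟨P₁, inferInstance⟩ : PrimeSpectrum R₁) ∈
      (PrimeSpectrum.comap (algebraMap R₁ B₁) ''
        (PrimeSpectrum.basicOpen g : Set (PrimeSpectrum B₁))) ∩
      Set.range (PrimeSpectrum.comap (algebraMap R₁ A₁)) from ⟨hP₁B, hP₁A⟩) (hUB.inter hUA)
  have hfP : f ∉ P₁ := hPf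
  refine ⟨f, g, hfP, hgy, ?_⟩
  intro R' D _ _ _ _ _ _ _ _ _ _
  refine ⟨Groth.Agent.Lib.helper3.Shrink.smoothRelDim_loc R' f (algebraMap R₁ B₁ f * g) D n hsm, ?_⟩
  -- geometric irreducibility through the criterion
  haveI : IsOpenImmersion (Spec.map (CommRingCat.ofHom (algebraMap B₁ D))) :=
    IsOpenImmersion.of_isLocalization (algebraMap R₁ B₁ f * g)
  haveI : IsOpenImmersion (Spec.map (CommRingCat.ofHom (algebraMap R₁ R'))) :=
    IsOpenImmersion.of_isLocalization f
  have hrange : Set.range (Spec.map (CommRingCat.ofHom (algebraMap B₁ D))) =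
      (PrimeSpectrum.basicOpen (algebraMap R₁ B₁ f * g) : Set (PrimeSpectrum B₁)) :=
    PrimeSpectrum.localization_away_comap_range D (algebraMap R₁ B₁ f * g)
  refine geometricallyIrreducible_of_open (Spec.map (CommRingCat.ofHom (algebraMap R₁ B₁)))
    (Spec.map (CommRingCat.ofHom (algebraMap B₁ D)))
    (Spec.map (CommRingCat.ofHom (algebraMap R₁ R')))
    (Spec.map (CommRingCat.ofHom (algebraMap R' D))) ?_ ?_ ?_
  · rw [← Spec.map_comp, ← Spec.map_comp, ← CommRingCat.ofHom_comp, ← CommRingCat.ofHom_comp,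
      ← IsScalarTower.algebraMap_eq, ← IsScalarTower.algebraMap_eq]
  · -- surjectivity
    intro P
    obtain ⟨Q, hQ⟩ := Groth.Agent.Lib.helper3.Shrink.comap_surjective_loc R' f
      (algebraMap R₁ B₁ f * g) D (by
        intro P hP hfP'
        haveI := hP
        obtain ⟨Q, hQg, hQP⟩ := (hfU (show (⟨P, hP⟩ : PrimeSpectrum R₁) ∈
          (PrimeSpectrum.basicOpen f : Set (PrimeSpectrum R₁)) from hfP')).1
        have hQP' : Q.asIdeal.comap (algebraMap R₁ B₁) = P := congrArg PrimeSpectrum.asIdeal hQP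
        refine ⟨Q.asIdeal, Q.isPrime, ?_, hQP'⟩
        intro hmem
        rcases Q.isPrime.mem_or_mem hmem with h1 | h1
        · exact hfP' (hQP' ▸ (Ideal.mem_comap.mpr h1))
        · exact hQg h1) P
    exact ⟨Q, hQ⟩
  · -- the fibres over algebraically closed fields
    intro K _ _ s
    obtain ⟨ψ, rfl⟩ := Spec.map_surjective s
    letI : Algebra R' K := ψ.hom.toAlgebra
    letI : Algebra R₁ K := (ψ.hom.comp (algebraMap R₁ R')).toAlgebra
    haveI : IsScalarTower R₁ R' K := IsScalarTower.of_algebraMap_eq fun _ => rfl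
    refine ⟨Spec (CommRingCat.of (K ⊗[R₁] B₁)),
      Spec.map (CommRingCat.ofHom
        (Algebra.TensorProduct.includeRight : B₁ →ₐ[R₁] K ⊗[R₁] B₁).toRingHom),
      Spec.map (CommRingCat.ofHom
        (Algebra.TensorProduct.includeLeft : K →ₐ[R₁] K ⊗[R₁] B₁).toRingHom), ?_, ?_⟩
    · have := isPullback_tensor R₁ K B₁
      have e : Spec.map ψ ≫ Spec.map (CommRingCat.ofHom (algebraMap R₁ R')) =
          Spec.map (CommRingCat.ofHom (algebraMap R₁ K)) := by
        rw [← Spec.map_comp]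
        rfl
      rw [e]
      exact this
    · -- a `K`-point of `A₁`
      have hker : (⟨RingHom.ker (algebraMap R₁ K), RingHom.ker_isPrime _⟩ : PrimeSpectrum R₁) ∈
          (PrimeSpectrum.basicOpen f : Set (PrimeSpectrum R₁)) := by
        intro hf0
        have h0 : algebraMap R₁ K f = 0 := hf0
        rw [IsScalarTower.algebraMap_apply R₁ R' K] at h0
        have hu : IsUnit (algebraMap R' K (algebraMap R₁ R' f)) :=
          (IsLocalization.Away.algebraMap_isUnit f).map _
        exact hu.ne_zero h0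
      obtain ⟨PA, hPA⟩ := (hfU hker).2
      obtain ⟨τ⟩ := nonempty_algHom_of_isAlgClosed (R₁ := R₁) (A₁ := A₁) K
        ⟨PA, congrArg PrimeSpectrum.asIdeal hPA⟩
      have hirr := isPreirreducible_preimage_W1 A₁ B₁ φ₁ K τ
      refine hirr.open_subset ?_ ?_
      · rw [hrange]
        exact (PrimeSpectrum.basicOpen (algebraMap R₁ B₁ f * g)).isOpen.preimage
          (PrimeSpectrum.continuous_comap _)
      · rw [hrange]
        intro w hw
        apply hgW
        intro hgw
        exact hw (Ideal.mul_mem_left _ _ hgw)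

end Asm

end Groth.Agent.Lib.helper26.GeomIrr
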