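/-
Helper library (helper26): towards geometric irreducibility of fibres after an elementary étale
localisation.  Part 8: the statement over an elementary étale neighbourhood `R₁` of `(R, p)`
carrying a finite flat multisection.
-/
import Mathlib
import Groth.Agent.Lib.Helper26.GeomIrrNbhd7
import Groth.Agent.Lib.Helper3.BijRes4

set_option autoImplicit false
set_option linter.style.haveILetI false

namespace Groth.Agent.Lib.helper26.GeomIrr

open AlgebraicGeometry CategoryTheory Limits TopologicalSpace TensorProduct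

universe u

attribute [local instance] Algebra.TensorProduct.rightAlgebra

section BaseChange

variable {R : Type u} [CommRing R] (p : Ideal R) [p.IsPrime] (B : Type u) [CommRing B] [Algebra R B]
  (y : Ideal B) [y.IsPrime] [hy : y.LiesOver p]
  (R₁ : Type u) [CommRing R₁] [Algebra R R₁] (P₁ : Ideal R₁) [P₁.IsPrime]
  [hP₁ : P₁.LiesOver p]
  (hbij : Function.Bijective (Ideal.ResidueField.mapₐ p P₁ (Algebra.ofId R R₁) (P₁.over_def p)))

/-- the prime of `R₁ ⊗ B` over `P₁` and `y` -/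
noncomputable def bcPrime : Ideal (R₁ ⊗[R] B) :=
  ((Ideal.fiberIsoOfBijectiveResidueField (S := B) hbij).symm ⟨y, inferInstance, hy⟩).1

instance bcPrime_isPrime : (bcPrime p B y R₁ P₁ hbij).IsPrime :=
  ((Ideal.fiberIsoOfBijectiveResidueField (S := B) hbij).symm ⟨y, inferInstance, hy⟩).2.1

instance bcPrime_liesOver : (bcPrime p B y R₁ P₁ hbij).LiesOver P₁ :=
  ((Ideal.fiberIsoOfBijectiveResidueField (S := B) hbij).symm ⟨y, inferInstance, hy⟩).2.2

theorem bcPrime_comap :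
    (bcPrime p B y R₁ P₁ hbij).comap
      (Algebra.TensorProduct.includeRight : B →ₐ[R] R₁ ⊗[R] B).toRingHom = y :=
  Ideal.comap_fiberIsoOfBijectiveResidueField_symm hbij ⟨y, inferInstance, hy⟩

instance bcPrime_liesOver' : (bcPrime p B y R₁ P₁ hbij).LiesOver y :=
  ⟨(bcPrime_comap p B y R₁ P₁ hbij).symm⟩

/-- a prime of `R₁ ⊗ B` over `P₁` whose contraction to `B` contains `y` contains `bcPrime` -/
theorem bcPrime_le (x₁ : Ideal (R₁ ⊗[R] B)) [x₁.IsPrime] [x₁.LiesOver P₁]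
    (h : y ≤ x₁.comap (Algebra.TensorProduct.includeRight : B →ₐ[R] R₁ ⊗[R] B).toRingHom) :
    bcPrime p B y R₁ P₁ hbij ≤ x₁ := by
  have h1 : (⟨bcPrime p B y R₁ P₁ hbij, inferInstance, inferInstance⟩ :
      P₁.primesOver (R₁ ⊗[R] B)) ≤ ⟨x₁, inferInstance, inferInstance⟩ := by
    rw [← (Ideal.fiberIsoOfBijectiveResidueField (S := B) hbij).le_iff_le]
    change ((Ideal.fiberIsoOfBijectiveResidueField (S := B) hbij) _).1 ≤
      ((Ideal.fiberIsoOfBijectiveResidueField (S := B) hbij) _).1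
    rw [Ideal.comap_fiberIsoOfBijectiveResidueField_apply,
      Ideal.comap_fiberIsoOfBijectiveResidueField_apply]
    change (bcPrime p B y R₁ P₁ hbij).comap
      (Algebra.TensorProduct.includeRight : B →ₐ[R] R₁ ⊗[R] B).toRingHom ≤ _
    rw [bcPrime_comap]
    exact h
  exact h1

end BaseChange

section E0a

variable {R : Type u} [CommRing R] (p : Ideal R) [p.IsPrime] (B : Type u) [CommRing B] [Algebra R B]
  (n : ℕ) (hsm : FlatCA.SmoothRelDim n R B) (y : Ideal B) [y.IsPrime] [hy : y.LiesOver p]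
  (hPT : FlatCA.PurelyTranscendental p y)
  (R₁ : Type u) [CommRing R₁] [Algebra R R₁] (P₁ : Ideal R₁) [P₁.IsPrime]
  [hP₁ : P₁.LiesOver p]
  (hbij : Function.Bijective (Ideal.ResidueField.mapₐ p P₁ (Algebra.ofId R R₁) (P₁.over_def p)))
  (A₁ : Type u) [CommRing A₁] [Algebra R₁ A₁] [Algebra R A₁] [IsScalarTower R R₁ A₁]
  [Algebra.IsIntegral R₁ A₁] [Module.Flat R₁ A₁] [Algebra.FinitePresentation R₁ A₁]
  (P' : Ideal A₁) [P'.IsPrime] [hP' : P'.LiesOver P₁]
  (huniq : ∀ P'' : Ideal A₁, P''.IsPrime → P''.LiesOver P₁ → P'' = P')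
  (φ : B →ₐ[R] A₁) (hyφ : y ≤ P'.comap φ)

include hsm hPT huniq hyφ in
/-- the statement over `R₁`, before packaging -/
theorem exists_loc_geomIrred_bc :
    ∃ (f : R₁) (g : R₁ ⊗[R] B), f ∉ P₁ ∧ g ∉ bcPrime p B y R₁ P₁ hbij ∧
      ∀ (R' D : Type u) [CommRing R'] [CommRing D] [Algebra R₁ R'] [IsLocalization.Away f R']
        [Algebra (R₁ ⊗[R] B) D]
        [IsLocalization.Away (algebraMap R₁ (R₁ ⊗[R] B) f * g) D] [Algebra R₁ D]
        [IsScalarTower R₁ (R₁ ⊗[R] B) D] [Algebra R' D] [IsScalarTower R₁ R' D],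
        FlatCA.SmoothRelDim n R' D ∧ FlatCA.GeomIrredFibres R' D := by
  have hsm₁ : FlatCA.SmoothRelDim n R₁ (R₁ ⊗[R] B) :=
    Groth.Agent.Lib.helper3.BijRes.smoothRelDim_baseChange n R R₁ B (R₁ ⊗[R] B) hsm
  have hPT₁ : FlatCA.PurelyTranscendental P₁ (bcPrime p B y R₁ P₁ hbij) :=
    Groth.Agent.Lib.helper3.BijRes.purelyTranscendental_baseChange p P₁ hbij.2 B (R₁ ⊗[R] B) y
      (bcPrime p B y R₁ P₁ hbij) hPT
  let φ₁ : R₁ ⊗[R] B →ₐ[R₁] A₁ :=
    Algebra.TensorProduct.productLeftAlgHom (Algebra.ofId R₁ A₁) φ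
  haveI : (P'.comap φ₁).LiesOver P₁ := P'.comap_liesOver P₁ φ₁
  have hyφ₁ : bcPrime p B y R₁ P₁ hbij ≤ P'.comap φ₁ := by
    apply bcPrime_le
    intro b hb
    rw [Ideal.mem_comap, Ideal.mem_comap]
    have : φ₁ (Algebra.TensorProduct.includeRight b) = φ b := by
      simp [φ₁]
    change φ₁ (Algebra.TensorProduct.includeRight b) ∈ P'
    rw [this]
    exact hyφ hb
  exact exists_loc_geomIrred A₁ (R₁ ⊗[R] B) φ₁ n hsm₁ P₁ (bcPrime p B y R₁ P₁ hbij) hPT₁ P' huniq
    hyφ₁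

end E0a

end Groth.Agent.Lib.helper26.GeomIrr
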