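/-
Helper library (helper26): towards geometric irreducibility of fibres after an elementary étale
localisation.  Part 9: packaging of the localisations `R' = (R₁)_f`, `D = (B₁)_{fg}`.
-/
import Mathlib
import Groth.Agent.Lib.Helper26.GeomIrrNbhd8

set_option autoImplicit false
set_option linter.style.haveILetI false

namespace Groth.Agent.Lib.helper26.GeomIrr

open TensorProduct

universe u

/-- composition of bijective residue field maps -/
theorem bijective_mapₐ_comp {A B C : Type u} [CommRing A] [CommRing B] [CommRing C] [Algebra A B]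
    [Algebra B C] [Algebra A C] [IsScalarTower A B C] (a : Ideal A) (b : Ideal B) (c : Ideal C)
    [a.IsPrime] [b.IsPrime] [c.IsPrime] [hba : b.LiesOver a] [hcb : c.LiesOver b]
    [hca : c.LiesOver a]
    (h1 : Function.Bijective (Ideal.ResidueField.mapₐ a b (Algebra.ofId A B) hba.over))
    (h2 : Function.Bijective (Ideal.ResidueField.mapₐ b c (Algebra.ofId B C) hcb.over)) :
    Function.Bijective (Ideal.ResidueField.mapₐ a c (Algebra.ofId A C) hca.over) := by
  have key : (Ideal.ResidueField.mapₐ a c (Algebra.ofId A C) hca.over).toRingHom =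
      (Ideal.ResidueField.mapₐ b c (Algebra.ofId B C) hcb.over).toRingHom.comp
        (Ideal.ResidueField.mapₐ a b (Algebra.ofId A B) hba.over).toRingHom := by
    apply Ideal.ResidueField.ringHom_ext
    ext r
    simp only [AlgHom.toRingHom_eq_coe, RingHom.comp_apply, RingHom.coe_coe,
      Ideal.ResidueField.mapₐ_apply, Ideal.ResidueField.map_algebraMap, Algebra.ofId_apply]
    rw [← IsScalarTower.algebraMap_apply A B C]
  have h3 : (⇑(Ideal.ResidueField.mapₐ a c (Algebra.ofId A C) hca.over) : _ → _) =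
      ⇑(Ideal.ResidueField.mapₐ b c (Algebra.ofId B C) hcb.over) ∘
        ⇑(Ideal.ResidueField.mapₐ a b (Algebra.ofId A B) hba.over) := by
    funext x
    exact congrArg (fun f : a.ResidueField →+* c.ResidueField => f x) key
  rw [h3]
  exact h2.comp h1

/-- the residue field map of a localisation away from an element is bijective -/
theorem bijective_mapₐ_away {A : Type u} [CommRing A] (h : A) (T : Type u) [CommRing T]
    [Algebra A T] [IsLocalization.Away h T] (a : Ideal A) [a.IsPrime] (t : Ideal T) [t.IsPrime]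
    [hta : t.LiesOver a] :
    Function.Bijective (Ideal.ResidueField.mapₐ a t (Algebra.ofId A T) hta.over) :=
  (RingHom.surjectiveOnStalks_of_isLocalization (.powers h) T).residueFieldMap_bijective a t
    hta.over

/-- the conclusion: an elementary étale neighbourhood `(R', p')` of `(R, p)` and an elementary
étale neighbourhood `(D, yD)` of `(B, y)` over it, smooth of relative dimension `n` with
geometrically irreducible fibres over `R'`. -/
def Concl {R : Type u} [CommRing R] (p : Ideal R) [p.IsPrime] (B : Type u) [CommRing B]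
    [Algebra R B] (n : ℕ) (y : Ideal B) [y.IsPrime] : Prop :=
  ∃ (R' : Type u) (_ : CommRing R') (_ : Algebra R R') (p' : Ideal R') (_ : p'.IsPrime)
    (D : Type u) (_ : CommRing D) (_ : Algebra R' D) (_ : Algebra B D) (_ : Algebra R D)
    (_ : IsScalarTower R R' D) (_ : IsScalarTower R B D)
    (yD : Ideal D) (_ : yD.IsPrime) (_ : yD.LiesOver p'),
    FlatCA.IsEtaleNhd R R' p p' ∧ FlatCA.IsEtaleNhd B D y yD ∧
    FlatCA.SmoothRelDim n R' D ∧ FlatCA.GeomIrredFibres R' D ∧ FlatCA.PurelyTranscendental p' yD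

section Pack

variable {R : Type u} [CommRing R] (p : Ideal R) [p.IsPrime] (B : Type u) [CommRing B] [Algebra R B]
  (n : ℕ) (y : Ideal B) [y.IsPrime] [hy : y.LiesOver p]
  (R₁ : Type u) [CommRing R₁] [Algebra R R₁] [Algebra.Etale R R₁] (P₁ : Ideal R₁) [P₁.IsPrime]
  [hP₁ : P₁.LiesOver p]
  (hbij : Function.Bijective (Ideal.ResidueField.mapₐ p P₁ (Algebra.ofId R R₁) hP₁.over))
  (B₁ : Type u) [CommRing B₁] [Algebra R₁ B₁] [Algebra B B₁] [Algebra R B₁]
  [IsScalarTower R R₁ B₁] [IsScalarTower R B B₁] [Algebra.IsPushout R R₁ B B₁]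
  (y₁ : Ideal B₁) [y₁.IsPrime] [hy₁ : y₁.LiesOver P₁] [hy₁y : y₁.LiesOver y]
  (hPT₁ : FlatCA.PurelyTranscendental P₁ y₁)
  (f : R₁) (g : B₁) (hf : f ∉ P₁) (hg : g ∉ y₁)
  (H : ∀ (R' D : Type u) [CommRing R'] [CommRing D] [Algebra R₁ R'] [IsLocalization.Away f R']
        [Algebra B₁ D] [IsLocalization.Away (algebraMap R₁ B₁ f * g) D] [Algebra R₁ D]
        [IsScalarTower R₁ B₁ D] [Algebra R' D] [IsScalarTower R₁ R' D],
        FlatCA.SmoothRelDim n R' D ∧ FlatCA.GeomIrredFibres R' D)

omit hy in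
include hbij hPT₁ hf hg H in
theorem concl_of_loc : Concl p B n y := by
  -- the element we localise `B₁` at
  set h : B₁ := algebraMap R₁ B₁ f * g with hh
  have hhy : h ∉ y₁ := by
    intro hmem
    rcases (inferInstance : y₁.IsPrime).mem_or_mem hmem with h1 | h1
    · exact hf (by rw [hy₁.over]; exact Ideal.mem_comap.mpr h1)
    · exact hg h1
  -- the rings
  let R' := Localization.Away f
  let D := Localization.Away h
  have hunit : IsUnit (algebraMap R₁ D f) := by
    rw [IsScalarTower.algebraMap_apply R₁ B₁ D]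
    have hu : IsUnit (algebraMap B₁ D h) := IsLocalization.Away.algebraMap_isUnit h
    have e : algebraMap B₁ D h = algebraMap B₁ D (algebraMap R₁ B₁ f) * algebraMap B₁ D g := by
      rw [← map_mul]
    rw [e] at hu
    exact isUnit_of_mul_isUnit_left hu
  letI algR'D : Algebra R' D := (IsLocalization.Away.lift f hunit).toAlgebra
  haveI tw1 : IsScalarTower R₁ R' D := IsScalarTower.of_algebraMap_eq fun r =>
    (IsLocalization.Away.lift_eq f hunit r).symm
  haveI tw2 : IsScalarTower R R' D := IsScalarTower.of_algebraMap_eq fun r => by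
    rw [IsScalarTower.algebraMap_apply R R₁ D, IsScalarTower.algebraMap_apply R₁ R' D,
      ← IsScalarTower.algebraMap_apply R R₁ R']
  haveI tw4 : IsScalarTower R B D := IsScalarTower.of_algebraMap_eq fun r => by
    rw [IsScalarTower.algebraMap_apply B B₁ D, ← IsScalarTower.algebraMap_apply R B B₁,
      ← IsScalarTower.algebraMap_apply R B₁ D]
  obtain ⟨hsmD, hgiD⟩ := H R' D
  -- the primes
  haveI hp'prime : (P₁.map (algebraMap R₁ R')).IsPrime :=
    Groth.Agent.Lib.helper3.Shrink.isPrime_map_away f R' P₁ hf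
  haveI hyDprime : (y₁.map (algebraMap B₁ D)).IsPrime :=
    Groth.Agent.Lib.helper3.Shrink.isPrime_map_away h D y₁ hhy
  haveI hp'P₁ : (P₁.map (algebraMap R₁ R')).LiesOver P₁ :=
    ⟨(Groth.Agent.Lib.helper3.Shrink.under_map_away f R' P₁ hf).symm⟩
  haveI hyDy₁ : (y₁.map (algebraMap B₁ D)).LiesOver y₁ :=
    ⟨(Groth.Agent.Lib.helper3.Shrink.under_map_away h D y₁ hhy).symm⟩
  haveI hyDp' : (y₁.map (algebraMap B₁ D)).LiesOver (P₁.map (algebraMap R₁ R')) :=
    Groth.Agent.Lib.helper3.Shrink.liesOver_map_map f h R' D P₁ y₁ hf hhy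
  haveI hp'p : (P₁.map (algebraMap R₁ R')).LiesOver p := Ideal.LiesOver.trans _ P₁ _
  haveI hyDy : (y₁.map (algebraMap B₁ D)).LiesOver y := Ideal.LiesOver.trans _ y₁ _
  -- residue fields
  have hb1 : Function.Bijective (Ideal.ResidueField.mapₐ P₁ (P₁.map (algebraMap R₁ R'))
      (Algebra.ofId R₁ R') hp'P₁.over) := bijective_mapₐ_away f R' P₁ _
  have hb2 : Function.Bijective (Ideal.ResidueField.mapₐ y₁ (y₁.map (algebraMap B₁ D))
      (Algebra.ofId B₁ D) hyDy₁.over) := bijective_mapₐ_away h D y₁ _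
  have hb3 : Function.Bijective (Ideal.ResidueField.mapₐ y y₁ (Algebra.ofId B B₁) hy₁y.over) :=
    Groth.Agent.Lib.helper3.BijRes.residueField_map_bijective p P₁ hbij.2 B B₁ y y₁
  have hbR : Function.Bijective (Ideal.ResidueField.mapₐ p (P₁.map (algebraMap R₁ R'))
      (Algebra.ofId R R') hp'p.over) := bijective_mapₐ_comp p P₁ _ hbij hb1
  have hbB : Function.Bijective (Ideal.ResidueField.mapₐ y (y₁.map (algebraMap B₁ D))
      (Algebra.ofId B D) hyDy.over) := bijective_mapₐ_comp y y₁ _ hb3 hb2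
  -- étaleness
  haveI : Algebra.Etale R₁ R' := Algebra.Etale.of_isLocalizationAway f
  haveI : Algebra.Etale R R' := Algebra.Etale.comp R R₁ R'
  haveI : Algebra.IsPushout R B R₁ B₁ := Algebra.IsPushout.symm inferInstance
  haveI : Algebra.Etale B B₁ := Algebra.Etale.of_equiv (Algebra.IsPushout.equiv R B R₁ B₁)
  haveI : Algebra.Etale B₁ D := Algebra.Etale.of_isLocalizationAway h
  haveI : Algebra.Etale B D := Algebra.Etale.comp B B₁ D
  -- purely transcendental
  have hPTD : FlatCA.PurelyTranscendental (P₁.map (algebraMap R₁ R')) (y₁.map (algebraMap B₁ D)) :=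
    Groth.Agent.Lib.helper3.Shrink.purelyTranscendental_of_bijective P₁ (P₁.map (algebraMap R₁ R'))
      B₁ D y₁ (y₁.map (algebraMap B₁ D)) hb1.2 hb2 hPT₁
  exact ⟨R', inferInstance, inferInstance, P₁.map (algebraMap R₁ R'), inferInstance,
    D, inferInstance, algR'D, inferInstance, inferInstance, tw2, tw4,
    y₁.map (algebraMap B₁ D), inferInstance, hyDp',
    ⟨inferInstance, hp'p, hbR⟩, ⟨inferInstance, hyDy, hbB⟩, hsmD, hgiD, hPTD⟩

end Pack

section E0

attribute [local instance] Algebra.TensorProduct.rightAlgebra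

variable {R : Type u} [CommRing R] (p : Ideal R) [p.IsPrime] (B : Type u) [CommRing B] [Algebra R B]
  (n : ℕ) (hsm : FlatCA.SmoothRelDim n R B) (y : Ideal B) [y.IsPrime] [hy : y.LiesOver p]
  (hPT : FlatCA.PurelyTranscendental p y)
  (R₁ : Type u) [CommRing R₁] [Algebra R R₁] [Algebra.Etale R R₁] (P₁ : Ideal R₁) [P₁.IsPrime]
  [hP₁ : P₁.LiesOver p]
  (hbij : Function.Bijective (Ideal.ResidueField.mapₐ p P₁ (Algebra.ofId R R₁) (P₁.over_def p)))
  (A₁ : Type u) [CommRing A₁] [Algebra R₁ A₁] [Algebra R A₁] [IsScalarTower R R₁ A₁]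
  [Algebra.IsIntegral R₁ A₁] [Module.Flat R₁ A₁] [Algebra.FinitePresentation R₁ A₁]
  (P' : Ideal A₁) [P'.IsPrime] [hP' : P'.LiesOver P₁]
  (huniq : ∀ P'' : Ideal A₁, P''.IsPrime → P''.LiesOver P₁ → P'' = P')
  (φ : B →ₐ[R] A₁) (hyφ : y ≤ P'.comap φ)

include hsm hPT hbij huniq hyφ in
/-- **Geometrically irreducible fibres after elementary étale localisation, given a finite flat
multisection over an elementary étale neighbourhood.** -/
theorem concl_of_multisection : Concl p B n y := by
  obtain ⟨f, g, hf, hg, H⟩ := exists_loc_geomIrred_bc p B n hsm y hPT R₁ P₁ hbij A₁ P' huniq φ hyφ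
  have hPT₁ : FlatCA.PurelyTranscendental P₁ (bcPrime p B y R₁ P₁ hbij) :=
    Groth.Agent.Lib.helper3.BijRes.purelyTranscendental_baseChange p P₁ hbij.2 B (R₁ ⊗[R] B) y
      (bcPrime p B y R₁ P₁ hbij) hPT
  exact concl_of_loc p B n y R₁ P₁ hbij (R₁ ⊗[R] B) (bcPrime p B y R₁ P₁ hbij) hPT₁ f g hf hg H

end E0

end Groth.Agent.Lib.helper26.GeomIrr
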