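/-
Helper library (helper26): existence of complete dévissages after étale localisation (S1252).
Part 2: general lemmas — local dimensions are natural numbers, points outside the support,
elementary étale neighbourhoods compose, geometric irreducibility of fibres and open immersions.
-/
import Mathlib
import Groth.Agent.Lib.Helper26.GeomIrrNbhd9
import Groth.Agent.Lib.Helper26.Purity1
import Groth.Agent.Lib.Helper3.TopDim
import Groth.Agent.Lib.Helper3.OneStep1
import Groth.Agent.Lib.Helper3.UnivInjAss1
import Groth.Agent.Lib.Helper3.CDevBC13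
import Groth.Agent.Lib.Helper3.BijRes3
import Groth.Agent.Lib.Helper3.Shrink4

set_option autoImplicit false
set_option linter.style.haveILetI false
set_option linter.unusedSectionVars false

namespace Groth.Agent.Lib.helper26.DevMain

open TensorProduct AlgebraicGeometry CategoryTheory CategoryTheory.Limits

universe u

/-- a local dimension bounded by a natural number is a natural number -/
theorem exists_nat_localDim_lt {T : Type u} [TopologicalSpace T] (t : T) (n : ℕ)
    (h : topologicalKrullDim T < (n : WithBot ℕ∞)) :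
    ∃ m : ℕ, m < n ∧ FlatMor.localDim T t = (m : WithBot ℕ∞) := by
  have h0 : 0 ≤ FlatMor.localDim T t := by
    obtain ⟨U, htU, hU⟩ := Groth.Agent.Lib.helper3.TopDim.exists_open_dim_eq_localDim t
    rw [← hU]
    haveI : Nonempty ↥(U.1 : Set T) := ⟨⟨t, htU⟩⟩
    exact Groth.Agent.Lib.helper3.TopDim.dim_nonneg
  have h1 : FlatMor.localDim T t < (n : WithBot ℕ∞) :=
    lt_of_le_of_lt (Groth.Agent.Lib.helper3.TopDim.localDim_le_dim t) h
  generalize FlatMor.localDim T t = v at h0 h1
  induction v using WithBot.recBotCoe with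
  | bot => exact absurd h0 (by simp)
  | coe a =>
    induction a using ENat.recTopCoe with
    | top =>
      exfalso
      have : ((⊤ : ℕ∞) : WithBot ℕ∞) < ((n : ℕ∞) : WithBot ℕ∞) := h1
      rw [WithBot.coe_lt_coe] at this
      exact absurd this (by simp)
    | coe m =>
      refine ⟨m, ?_, rfl⟩
      have : (((m : ℕ) : ℕ∞) : WithBot ℕ∞) < ((n : ℕ∞) : WithBot ℕ∞) := h1
      rw [WithBot.coe_lt_coe] at this
      exact_mod_cast this

/-- a point of the fibre outside the support of the fibre module: some element of the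
annihilator does not vanish at the point. -/
theorem exists_annihilator_notMem {R : Type u} [CommRing R] (p : Ideal R) [p.IsPrime]
    {D : Type u} [CommRing D] [Algebra R D] (K : Type u) [AddCommGroup K] [Module D K]
    [Module R K] [IsScalarTower R D K] [Module.Finite D K] (y : Ideal D) [y.IsPrime]
    [y.LiesOver p]
    (hns : ¬ ∃ x ∈ Module.support (p.Fiber D) (FlatCA.fiberMod p D K),
      x.asIdeal = FlatCA.fiberIdeal p y) :
    ∃ h ∈ Module.annihilator D K, h ∉ y := by
  by_contra hcon
  push Not at hcon
  apply hns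
  haveI hprime : (FlatCA.fiberIdeal p y).IsPrime :=
    Groth.Agent.Lib.helper3.UnivInjAss.fiberIdeal_isPrime p y
  refine ⟨⟨FlatCA.fiberIdeal p y, hprime⟩, ?_, rfl⟩
  rw [Groth.Agent.Lib.helper3.OneStep.mem_support_fiberMod_iff p D K]
  have hcomap : (FlatCA.fiberIdeal p y).comap
      (Algebra.TensorProduct.includeRight (R := R) (A := p.ResidueField) (B := D)).toRingHom = y :=
    Groth.Agent.Lib.helper26.Purity.comap_fiberIdeal p y
  intro h hh
  show h ∈ (FlatCA.fiberIdeal p y).comap
      (Algebra.TensorProduct.includeRight (R := R) (A := p.ResidueField) (B := D)).toRingHom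
  rw [hcomap]
  exact hcon h hh

/-- the point of a complete dévissage lies over the base point -/
theorem liesOver_of_hasCompleteDevissageAt {R S : Type u} [CommRing R] [CommRing S] [Algebra R S]
    {N : Type u} [AddCommGroup N] [Module S N] {p : Ideal R} [p.IsPrime] {q : Ideal S} [q.IsPrime]
    (h : FlatCA.HasCompleteDevissageAt R S N p q) : q.LiesOver p := by
  obtain ⟨𝒟, ⟨𝒜⟩⟩ := h
  refine ⟨?_⟩
  ext g
  rw [Ideal.under_def, Ideal.mem_comap]
  exact (Groth.Agent.Lib.helper3.CDevBC.LocChoice.algebraMap_mem_q_iff 𝒟 𝒜 g).symm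

section Nhd

/-- elementary étale neighbourhoods compose -/
theorem isEtaleNhd_trans {A B C : Type u} [CommRing A] [CommRing B] [CommRing C] [Algebra A B]
    [Algebra B C] [Algebra A C] [IsScalarTower A B C] (a : Ideal A) (b : Ideal B) (c : Ideal C)
    [a.IsPrime] [b.IsPrime] [c.IsPrime]
    (h1 : FlatCA.IsEtaleNhd A B a b) (h2 : FlatCA.IsEtaleNhd B C b c) :
    FlatCA.IsEtaleNhd A C a c := by
  obtain ⟨et1, hba, hb1⟩ := h1
  obtain ⟨et2, hcb, hb2⟩ := h2
  haveI := et1
  haveI := et2
  haveI := hba
  haveI := hcb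
  haveI hca : c.LiesOver a := Ideal.LiesOver.trans c b a
  exact ⟨Algebra.Etale.comp A B C, hca,
    Groth.Agent.Lib.helper26.GeomIrr.bijective_mapₐ_comp a b c hb1 hb2⟩

/-- a principal localisation is an elementary étale neighbourhood -/
theorem isEtaleNhd_away {A : Type u} [CommRing A] (h : A) (T : Type u) [CommRing T]
    [Algebra A T] [IsLocalization.Away h T] (a : Ideal A) [a.IsPrime] (t : Ideal T) [t.IsPrime]
    [hta : t.LiesOver a] : FlatCA.IsEtaleNhd A T a t :=
  ⟨Algebra.Etale.of_isLocalizationAway h, hta,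
    Groth.Agent.Lib.helper26.GeomIrr.bijective_mapₐ_away h T a t⟩

/-- the base change of an elementary étale neighbourhood is one -/
theorem isEtaleNhd_pushout {R R' : Type u} [CommRing R] [CommRing R'] [Algebra R R']
    (p : Ideal R) [p.IsPrime] (p' : Ideal R') [p'.IsPrime] (hR' : FlatCA.IsEtaleNhd R R' p p')
    (B T : Type u) [CommRing B] [CommRing T] [Algebra R B] [Algebra R' T] [Algebra R T]
    [Algebra B T] [IsScalarTower R R' T] [IsScalarTower R B T] [Algebra.IsPushout R R' B T]
    (y : Ideal B) [y.IsPrime] [y.LiesOver p] (yT : Ideal T) [yT.IsPrime] [hyTy : yT.LiesOver y]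
    [yT.LiesOver p'] : FlatCA.IsEtaleNhd B T y yT := by
  obtain ⟨et, hp'p, hb⟩ := hR'
  haveI := et
  haveI := hp'p
  haveI : Algebra.IsPushout R B R' T := Algebra.IsPushout.symm inferInstance
  haveI : Algebra.Etale B T := Algebra.Etale.of_equiv (Algebra.IsPushout.equiv R B R' T)
  exact ⟨inferInstance, hyTy,
    Groth.Agent.Lib.helper3.BijRes.residueField_map_bijective p p' hb.2 B T y yT⟩

/-- purely transcendental residue field extensions pass to elementary étale neighbourhoods -/
theorem purelyTranscendental_of_isEtaleNhd {R R' : Type u} [CommRing R] [CommRing R']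
    [Algebra R R'] (p : Ideal R) [p.IsPrime] (p' : Ideal R') [p'.IsPrime]
    (D D' : Type u) [CommRing D] [CommRing D'] [Algebra R D] [Algebra R' D'] [Algebra R D']
    [Algebra D D'] [IsScalarTower R R' D'] [IsScalarTower R D D']
    (y : Ideal D) [y.IsPrime] [hy : y.LiesOver p] (y' : Ideal D') [y'.IsPrime]
    [hy' : y'.LiesOver p'] (hR' : FlatCA.IsEtaleNhd R R' p p') (hD' : FlatCA.IsEtaleNhd D D' y y')
    (h4 : FlatCA.PurelyTranscendental p y) : FlatCA.PurelyTranscendental p' y' := by
  obtain ⟨-, hp'p, hb1⟩ := hR'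
  obtain ⟨-, hy'y, hb2⟩ := hD'
  haveI := hp'p
  haveI := hy'y
  exact Groth.Agent.Lib.helper3.Shrink.purelyTranscendental_of_bijective p p' D D' y y' hb1.2 hb2 h4

end Nhd

section GI

variable {R R' D D' : Type u} [CommRing R] [CommRing R'] [CommRing D] [CommRing D']
  [Algebra R R'] [Algebra R D] [Algebra D D'] [Algebra R' D'] [Algebra R D']
  [IsScalarTower R R' D'] [IsScalarTower R D D']

/-- geometric irreducibility of the fibres passes to compatible opens, given surjectivity -/
theorem geomIrred_of_isOpenImmersion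
    (hoR : IsOpenImmersion (Spec.map (CommRingCat.ofHom (algebraMap R R'))))
    (hoD : IsOpenImmersion (Spec.map (CommRingCat.ofHom (algebraMap D D'))))
    (hgi : FlatCA.GeomIrredFibres R D)
    (hsurj : ∀ P' : PrimeSpectrum R', ∃ Q' : PrimeSpectrum D',
      PrimeSpectrum.comap (algebraMap R' D') Q' = P') :
    FlatCA.GeomIrredFibres R' D' := by
  let fD := Spec.map (CommRingCat.ofHom (algebraMap R D))
  let fR := Spec.map (CommRingCat.ofHom (algebraMap R R'))
  haveI : GeometricallyIrreducible fD := hgi
  haveI : IsOpenImmersion fR := hoR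
  let f₀ : Spec (CommRingCat.of D') ⟶ pullback fD fR :=
    pullback.lift (Spec.map (CommRingCat.ofHom (algebraMap D D')))
      (Spec.map (CommRingCat.ofHom (algebraMap R' D'))) (by
        rw [← Spec.map_comp, ← Spec.map_comp, ← CommRingCat.ofHom_comp, ← CommRingCat.ofHom_comp,
          ← IsScalarTower.algebraMap_eq, ← IsScalarTower.algebraMap_eq])
  haveI : IsOpenImmersion (f₀ ≫ pullback.fst fD fR) := by
    rw [pullback.lift_fst]
    exact hoD
  haveI : IsOpenImmersion f₀ := IsOpenImmersion.of_comp f₀ (pullback.fst fD fR)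
  have e : f₀ ≫ pullback.snd fD fR = Spec.map (CommRingCat.ofHom (algebraMap R' D')) :=
    pullback.lift_snd _ _ _
  haveI : Surjective (f₀ ≫ pullback.snd fD fR) := by
    rw [e]
    refine ⟨fun P' => ?_⟩
    obtain ⟨Q', hQ'⟩ := hsurj P'
    exact ⟨Q', hQ'⟩
  have : GeometricallyIrreducible (f₀ ≫ pullback.snd fD fR) := inferInstance
  rw [e] at this
  exact this

end GI

end Groth.Agent.Lib.helper26.DevMain
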