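/-
Helper library (helper26): existence of complete dévissages after étale localisation (S1252).
Part 3: the Zariski shrinking used when the cokernel vanishes near the point.
-/
import Mathlib
import Groth.Agent.Lib.Helper26.DevMain2
import Groth.Agent.Lib.Helper3.Shrink6

set_option autoImplicit false
set_option linter.style.haveILetI false
set_option linter.unusedSectionVars false

namespace Groth.Agent.Lib.helper26.DevMain

open TensorProduct AlgebraicGeometry

universe u

theorem exists_zariski_nbhd {R D : Type u} [CommRing R] [CommRing D] [Algebra R D] (n : ℕ)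
    (hsm : FlatCA.SmoothRelDim n R D) (hgi : FlatCA.GeomIrredFibres R D)
    (p : Ideal R) [p.IsPrime] (y : Ideal D) [y.IsPrime] [hyp : y.LiesOver p]
    (w : D) (hw : w ∉ y) :
    ∃ (R'' D'' : Type u) (_ : CommRing R'') (_ : CommRing D'') (_ : Algebra R R'')
      (_ : Algebra D D'') (_ : Algebra R'' D'') (_ : Algebra R D'') (_ : IsScalarTower R R'' D'')
      (_ : IsScalarTower R D D'') (p'' : Ideal R'') (y'' : Ideal D'') (_ : p''.IsPrime)
      (_ : y''.IsPrime) (_ : y''.LiesOver p''),
      FlatCA.IsEtaleNhd R R'' p p'' ∧ FlatCA.IsEtaleNhd D D'' y y'' ∧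
      FlatCA.GeomIrredFibres R'' D'' ∧ IsUnit (algebraMap D D'' w) := by
  haveI : Algebra.Smooth R D := Groth.Agent.Lib.helper3.OneStep.algebra_smooth n hsm
  obtain ⟨g, hg, hsurj⟩ := Groth.Agent.Lib.helper3.Shrink.exists_basicOpen_subset_image p y w hw
  have hgy : algebraMap R D g ∉ y := fun hmem =>
    hg (by rw [hyp.over]; exact Ideal.mem_comap.mpr hmem)
  obtain ⟨hY, hhY⟩ : ∃ hY : D, hY = algebraMap R D g * w := ⟨_, rfl⟩
  have hYy : hY ∉ y := by
    intro hmem
    rw [hhY] at hmem
    rcases (inferInstance : y.IsPrime).mem_or_mem hmem with h1 | h1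
    · exact hgy h1
    · exact hw h1
  let R'' := Localization.Away g
  let D'' := Localization.Away hY
  have hunitY : IsUnit (algebraMap D D'' hY) := IsLocalization.Away.algebraMap_isUnit hY
  have hYe : algebraMap D D'' hY = algebraMap D D'' (algebraMap R D g) * algebraMap D D'' w := by
    rw [← map_mul]
    exact congrArg _ hhY
  rw [hYe] at hunitY
  have hunitg : IsUnit (algebraMap R D'' g) := by
    rw [IsScalarTower.algebraMap_apply R D D'']
    exact isUnit_of_mul_isUnit_left hunitY
  have hunitw : IsUnit (algebraMap D D'' w) := isUnit_of_mul_isUnit_right hunitY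
  letI algR''D'' : Algebra R'' D'' := (IsLocalization.Away.lift g hunitg).toAlgebra
  haveI twRR''D'' : IsScalarTower R R'' D'' := IsScalarTower.of_algebraMap_eq fun r =>
    (IsLocalization.Away.lift_eq g hunitg r).symm
  haveI hp''prime : (p.map (algebraMap R R'')).IsPrime :=
    Groth.Agent.Lib.helper3.Shrink.isPrime_map_away g R'' p hg
  haveI hy''prime : (y.map (algebraMap D D'')).IsPrime :=
    Groth.Agent.Lib.helper3.Shrink.isPrime_map_away hY D'' y hYy
  haveI hp''p : (p.map (algebraMap R R'')).LiesOver p :=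
    ⟨(Groth.Agent.Lib.helper3.Shrink.under_map_away g R'' p hg).symm⟩
  haveI hy''y : (y.map (algebraMap D D'')).LiesOver y :=
    ⟨(Groth.Agent.Lib.helper3.Shrink.under_map_away hY D'' y hYy).symm⟩
  haveI hy''p'' : (y.map (algebraMap D D'')).LiesOver (p.map (algebraMap R R'')) :=
    Groth.Agent.Lib.helper3.Shrink.liesOver_map_map g hY R'' D'' p y hg hYy
  have hsurj' : ∀ P : Ideal R, P.IsPrime → g ∉ P →
      ∃ Q : Ideal D, Q.IsPrime ∧ hY ∉ Q ∧ Q.under R = P := by
    intro P hP hgP
    obtain ⟨Q, hQ, hwQ, hQP⟩ := hsurj P hP hgP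
    refine ⟨Q, hQ, ?_, hQP⟩
    intro hmem
    rw [hhY] at hmem
    rcases hQ.mem_or_mem hmem with h1 | h1
    · apply hgP
      rw [← hQP]
      exact Ideal.mem_comap.mpr h1
    · exact hwQ h1
  have hgi'' : FlatCA.GeomIrredFibres R'' D'' :=
    Groth.Agent.Lib.helper3.Shrink.geomIrred_loc R'' g hY D'' hgi
      (Groth.Agent.Lib.helper3.Shrink.comap_surjective_loc R'' g hY D'' hsurj')
  exact ⟨R'', D'', inferInstance, inferInstance, inferInstance, inferInstance, algR''D'',
    inferInstance, twRR''D'', inferInstance, p.map (algebraMap R R''), y.map (algebraMap D D''),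
    hp''prime, hy''prime, hy''p'', isEtaleNhd_away g R'' p _, isEtaleNhd_away hY D'' y _, hgi'',
    hunitw⟩

end Groth.Agent.Lib.helper26.DevMain
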