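/-
Helper library (helper26): étale localisation of a one-step dévissage (towards S12245).
Part 1: the fibre support dimension bound, and cancellation for residue field maps.
-/
import Mathlib
import Groth.Agent.Lib.Helper3.OneStep2
import Groth.Agent.Lib.Helper26.GeomIrrNbhd9

set_option autoImplicit false
set_option linter.style.haveILetI false
set_option linter.unusedSectionVars false

namespace Groth.Agent.Lib.helper26.DevEt

open TensorProduct

universe u

/-- the dimension bound in a one-step dévissage: the fibre module of `N ≅ G` has support of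
dimension at most the relative dimension of the smooth algebra `D`. -/
theorem supportDim_le_of_finite {R : Type u} [CommRing R] (p : Ideal R) [p.IsPrime]
    {S C D : Type u} [CommRing S] [CommRing C] [CommRing D] [Algebra R S] [Algebra R C]
    [Algebra R D] [Algebra S C] [Algebra D C] [IsScalarTower R S C] [IsScalarTower R D C]
    (N G : Type u) [AddCommGroup N] [Module S N] [Module R N] [IsScalarTower R S N]
    [Module.Finite S N] [AddCommGroup G] [Module C G] [Module S G] [IsScalarTower S C G]
    (e : N ≃ₗ[S] G) (hsurj : Function.Surjective (algebraMap S C)) [Module.Finite D C]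
    [Module.Finite C G] (n : ℕ) (hsm : FlatCA.SmoothRelDim n R D) :
    Module.supportDim (p.Fiber S) (FlatCA.fiberMod p S N) ≤ (n : WithBot ℕ∞) := by
  letI modDG : Module D G := Module.compHom G (algebraMap D C)
  haveI twDCG : IsScalarTower D C G := ⟨fun d c g => by
    show (d • c) • g = (algebraMap D C d) • (c • g)
    rw [Algebra.smul_def, mul_smul]⟩
  letI modRG : Module R G := Module.compHom G (algebraMap R D)
  haveI twRDG : IsScalarTower R D G := ⟨fun r d g => by
    show (r • d) • g = (algebraMap R D r) • (d • g)
    rw [Algebra.smul_def, mul_smul]⟩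
  haveI : Module.Finite D G := Module.Finite.trans C G
  have hdimD : ringKrullDim (p.Fiber D) ≤ (n : WithBot ℕ∞) :=
    Groth.Agent.Lib.helper3.OneStep.ringKrullDim_fiber_le p n hsm
  have h1 : Module.supportDim (p.Fiber D) (FlatCA.fiberMod p D G) ≤ ringKrullDim (p.Fiber D) :=
    Module.supportDim_le_ringKrullDim _ _
  rw [Groth.Agent.Lib.helper3.OneStep.supportDim_fiberMod_eq p D G] at h1
  rw [Groth.Agent.Lib.helper3.OneStep.supportDim_fiberMod_eq p S N]
  have hT : Groth.Agent.Lib.helper3.OneStep.T p S N = Groth.Agent.Lib.helper3.OneStep.T p S G := by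
    unfold Groth.Agent.Lib.helper3.OneStep.T
    rw [e.annihilator_eq]
  rw [hT]
  exact (Groth.Agent.Lib.helper3.OneStep.krullDim_T_le p G hsurj).trans (h1.trans hdimD)

/-- cancellation for bijective residue field maps -/
theorem bijective_mapₐ_of_comp {A B C : Type u} [CommRing A] [CommRing B] [CommRing C]
    [Algebra A B] [Algebra B C] [Algebra A C] [IsScalarTower A B C] (a : Ideal A) (b : Ideal B)
    (c : Ideal C) [a.IsPrime] [b.IsPrime] [c.IsPrime] [hba : b.LiesOver a] [hcb : c.LiesOver b]
    [hca : c.LiesOver a]
    (h1 : Function.Bijective (Ideal.ResidueField.mapₐ a c (Algebra.ofId A C) hca.over))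
    (h2 : Function.Bijective (Ideal.ResidueField.mapₐ b c (Algebra.ofId B C) hcb.over)) :
    Function.Bijective (Ideal.ResidueField.mapₐ a b (Algebra.ofId A B) hba.over) := by
  have key : (Ideal.ResidueField.mapₐ a c (Algebra.ofId A C) hca.over).toRingHom =
      (Ideal.ResidueField.mapₐ b c (Algebra.ofId B C) hcb.over).toRingHom.comp
        (Ideal.ResidueField.mapₐ a b (Algebra.ofId A B) hba.over).toRingHom := by
    apply Ideal.ResidueField.ringHom_ext
    ext r
    simp only [AlgHom.toRingHom_eq_coe, RingHom.comp_apply, RingHom.coe_coe,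
      Ideal.ResidueField.mapₐ_apply, Ideal.ResidueField.map_algebraMap, Algebra.ofId_apply]
    rw [← IsScalarTower.algebraMap_apply A B C]
  have h3 : (⇑(Ideal.ResidueField.mapₐ a c (Algebra.ofId A C) hca.over) : _ → _) =
      ⇑(Ideal.ResidueField.mapₐ b c (Algebra.ofId B C) hcb.over) ∘
        ⇑(Ideal.ResidueField.mapₐ a b (Algebra.ofId A B) hba.over) := by
    funext x
    exact congrArg (fun f : a.ResidueField →+* c.ResidueField => f x) key
  rw [h3] at h1
  refine ⟨(Ideal.ResidueField.mapₐ a b (Algebra.ofId A B) hba.over).toRingHom.injective, ?_⟩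
  intro y
  obtain ⟨x, hx⟩ := h1.2 (Ideal.ResidueField.mapₐ b c (Algebra.ofId B C) hcb.over y)
  exact ⟨x, h2.1 hx⟩

/-- the residue field map of a surjective ring map is bijective -/
theorem bijective_mapₐ_of_surjective {A B : Type u} [CommRing A] [CommRing B] [Algebra A B]
    (hsurj : Function.Surjective (algebraMap A B)) (a : Ideal A) [a.IsPrime] (b : Ideal B)
    [b.IsPrime] [hba : b.LiesOver a] :
    Function.Bijective (Ideal.ResidueField.mapₐ a b (Algebra.ofId A B) hba.over) :=
  (RingHom.surjectiveOnStalks_of_surjective hsurj).residueFieldMap_bijective a b hba.over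

end Groth.Agent.Lib.helper26.DevEt
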