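/-
Helper library (helper26): étale localisation of a one-step dévissage (towards S12245).
Part 3: the identification `N'' ≃ G''` of the base-changed modules; primes.
-/
import Mathlib
import Groth.Agent.Lib.Helper3.BijRes4
import Groth.Agent.Lib.Helper26.DevEt1

set_option autoImplicit false
set_option linter.style.haveILetI false
set_option linter.unusedSectionVars false

namespace Groth.Agent.Lib.helper26.DevEt

open TensorProduct

universe u

/-- the base change of `N ≅ G` along `S → S''` is the base change of `G` along `C → C''`, when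
`C'' = S'' ⊗[S] C`. -/
theorem nonempty_equiv_of_isPushout {S S'' C C'' : Type u} [CommRing S] [CommRing S'']
    [CommRing C] [CommRing C''] [Algebra S S''] [Algebra S C] [Algebra S'' C''] [Algebra C C'']
    [Algebra S C''] [IsScalarTower S C C''] [IsScalarTower S S'' C'']
    [Algebra.IsPushout S S'' C C'']
    {N G N'' G'' : Type u} [AddCommGroup N] [Module S N] [AddCommGroup G] [Module C G] [Module S G]
    [IsScalarTower S C G]
    [AddCommGroup G''] [Module C'' G''] [Module C G''] [IsScalarTower C C'' G''] [Module S'' G'']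
    [IsScalarTower S'' C'' G'']
    [AddCommGroup N''] [Module S'' N''] [Module S N''] [IsScalarTower S S'' N'']
    (e : N ≃ₗ[S] G) (gG : G →ₗ[C] G'') (hgG : IsBaseChange C'' gG) (gN : N →ₗ[S] N'')
    (hgN : IsBaseChange S'' gN) : Nonempty (N'' ≃ₗ[S''] G'') := by
  letI modSG'' : Module S G'' := Module.compHom G'' (algebraMap S C'')
  have hsmul : ∀ (s : S) (g : G''), s • g = (algebraMap S C'' s) • g := fun _ _ => rfl
  haveI tw1 : IsScalarTower S S'' G'' := ⟨fun s x g => by
    rw [hsmul, ← algebraMap_smul C'' (s • x) g, ← algebraMap_smul C'' x g, Algebra.smul_def,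
      map_mul, mul_smul, ← IsScalarTower.algebraMap_apply S S'' C'']⟩
  haveI tw2 : IsScalarTower S C G'' := ⟨fun s c g => by
    rw [hsmul, ← algebraMap_smul C'' (s • c) g, ← algebraMap_smul C'' c g, Algebra.smul_def,
      map_mul, mul_smul, ← IsScalarTower.algebraMap_apply S C C'']⟩
  have hb : IsBaseChange S'' (gG.restrictScalars S) :=
    Groth.Agent.Lib.helper3.BijRes.isBaseChange_restrictScalars_of_isPushout S S'' C C'' G G'' gG hgG
  have hb' : IsBaseChange S'' ((gG.restrictScalars S) ∘ₗ e.toLinearMap) :=
    IsBaseChange.comp_equiv e _ hb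
  exact ⟨hgN.equiv.symm ≪≫ₗ hb'.equiv⟩

/-- lying over along a tower -/
theorem liesOver_of_tower {A B C : Type u} [CommRing A] [CommRing B] [CommRing C] [Algebra A B]
    [Algebra B C] [Algebra A C] [IsScalarTower A B C] (a : Ideal A) (b : Ideal B) (c : Ideal C)
    [hcb : c.LiesOver b] [hba : b.LiesOver a] : c.LiesOver a :=
  Ideal.LiesOver.trans c b a

/-- contraction along a tower: if `c` lies over `a` and `b = c ∩ B` then `b` lies over `a`. -/
theorem under_liesOver_of_tower {A B C : Type u} [CommRing A] [CommRing B] [CommRing C]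
    [Algebra A B] [Algebra B C] [Algebra A C] [IsScalarTower A B C] (a : Ideal A) (c : Ideal C)
    [hca : c.LiesOver a] : (c.under B).LiesOver a :=
  ⟨by rw [Ideal.under_under]; exact hca.over⟩

end Groth.Agent.Lib.helper26.DevEt
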