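/-
Helper library (helper26): étale localisation of a one-step dévissage (towards S12245).
Part 5: smoothness of relative dimension `n` of `R' → D'` for compatible étale maps
`R → R'`, `D → D'` with `R → D` smooth of relative dimension `n`.
-/
import Mathlib
import Groth.Agent.Lib.Helper3.BijRes4

set_option autoImplicit false
set_option linter.style.haveILetI false
set_option linter.unusedSectionVars false

namespace Groth.Agent.Lib.helper26.DevEt

open TensorProduct AlgebraicGeometry CategoryTheory

universe u

attribute [local instance] Algebra.TensorProduct.rightAlgebra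

theorem smoothRelDim_of_etale_etale {R R' D D' : Type u} [CommRing R] [CommRing R'] [CommRing D]
    [CommRing D'] [Algebra R R'] [Algebra.Etale R R'] [Algebra R D] [Algebra D D']
    [Algebra.Etale D D'] [Algebra R' D'] [Algebra R D'] [IsScalarTower R R' D']
    [IsScalarTower R D D'] (n : ℕ) (hsm : FlatCA.SmoothRelDim n R D) :
    FlatCA.SmoothRelDim n R' D' := by
  -- `R → D'` is smooth of relative dimension `n`
  have h1 : FlatCA.SmoothRelDim n R D' := by
    have e : Spec.map (CommRingCat.ofHom (algebraMap R D')) =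
        Spec.map (CommRingCat.ofHom (algebraMap D D')) ≫
          Spec.map (CommRingCat.ofHom (algebraMap R D)) := by
      rw [← Spec.map_comp, ← CommRingCat.ofHom_comp, ← IsScalarTower.algebraMap_eq]
    haveI : Etale (Spec.map (CommRingCat.ofHom (algebraMap D D'))) := by
      rw [HasRingHomProperty.Spec_iff (P := @Etale)]
      exact RingHom.etale_algebraMap.mpr inferInstance
    haveI : SmoothOfRelativeDimension n (Spec.map (CommRingCat.ofHom (algebraMap R D))) := hsm
    have h0 : SmoothOfRelativeDimension (0 + n) (Spec.map (CommRingCat.ofHom (algebraMap D D')) ≫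
        Spec.map (CommRingCat.ofHom (algebraMap R D))) := inferInstance
    rw [zero_add] at h0
    show SmoothOfRelativeDimension n _
    rw [e]
    exact h0
  -- base change to `R'`
  have h2 : FlatCA.SmoothRelDim n R' (R' ⊗[R] D') :=
    Groth.Agent.Lib.helper3.BijRes.smoothRelDim_baseChange n R R' D' (R' ⊗[R] D') h1
  -- the étale map `R' ⊗[R] D' → D'`
  let φ : R' ⊗[R] D' →ₐ[R'] D' :=
    Algebra.TensorProduct.lift (Algebra.ofId R' D') (AlgHom.id R D') (fun _ _ => .all _ _)
  letI algTD' : Algebra (R' ⊗[R] D') D' := φ.toRingHom.toAlgebra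
  have hφ : ∀ x : R' ⊗[R] D', algebraMap (R' ⊗[R] D') D' x = φ x := fun _ => rfl
  haveI tw1 : IsScalarTower R' (R' ⊗[R] D') D' :=
    IsScalarTower.of_algebraMap_eq (R := R') (S := R' ⊗[R] D') (A := D') fun r => by
      rw [hφ, AlgHom.commutes]
  haveI tw2 : IsScalarTower D' (R' ⊗[R] D') D' :=
    IsScalarTower.of_algebraMap_eq (R := D') (S := R' ⊗[R] D') (A := D') fun d => by
      rw [hφ]
      show algebraMap D' D' d = φ ((1 : R') ⊗ₜ[R] d)
      simp [φ]
  haveI : Algebra.IsPushout R D' R' (R' ⊗[R] D') := Algebra.IsPushout.symm inferInstance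
  haveI : Algebra.Etale D' (R' ⊗[R] D') :=
    Algebra.Etale.of_equiv (Algebra.IsPushout.equiv R D' R' (R' ⊗[R] D'))
  haveI : Algebra.Etale (R' ⊗[R] D') D' := Algebra.Etale.of_restrictScalars D' (R' ⊗[R] D') D'
  have e : Spec.map (CommRingCat.ofHom (algebraMap R' D')) =
      Spec.map (CommRingCat.ofHom (algebraMap (R' ⊗[R] D') D')) ≫
        Spec.map (CommRingCat.ofHom (algebraMap R' (R' ⊗[R] D'))) := by
    rw [← Spec.map_comp, ← CommRingCat.ofHom_comp, ← IsScalarTower.algebraMap_eq]
  haveI : Etale (Spec.map (CommRingCat.ofHom (algebraMap (R' ⊗[R] D') D'))) := by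
    rw [HasRingHomProperty.Spec_iff (P := @Etale)]
    exact RingHom.etale_algebraMap.mpr inferInstance
  haveI : SmoothOfRelativeDimension n
      (Spec.map (CommRingCat.ofHom (algebraMap R' (R' ⊗[R] D')))) := h2
  have h0 : SmoothOfRelativeDimension (0 + n)
      (Spec.map (CommRingCat.ofHom (algebraMap (R' ⊗[R] D') D')) ≫
        Spec.map (CommRingCat.ofHom (algebraMap R' (R' ⊗[R] D')))) := inferInstance
  rw [zero_add] at h0
  show SmoothOfRelativeDimension n _
  rw [e]
  exact h0

end Groth.Agent.Lib.helper26.DevEt
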