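/-
Helper library (helper26): transport of complete dévissages (towards S1252).
Part 1: base change of a complete dévissage at a point along `R → R'` with bijective residue field
extension (helper3's S12243 construction, together with the condition on the unconstrained tail
needed for S12244).
-/
import Mathlib
import Groth.Agent.Lib.Helper3.CDevBC5
import Groth.Agent.Lib.Helper3.BijRes4
import Groth.Agent.S12244

set_option autoImplicit false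
set_option linter.style.haveILetI false
set_option linter.unusedSectionVars false

universe u

namespace Groth.Agent.Lib.helper26.DevTr

open Groth.Agent.Lib.helper3 TensorProduct
attribute [local instance] Algebra.TensorProduct.rightAlgebra

theorem exists_baseChange_with_tail
    (R S : Type u) [CommRing R] [CommRing S] [Algebra R S] [Algebra.FiniteType R S]
    (N : Type u) [AddCommGroup N] [Module S N] [Module.Finite S N]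
    (p : Ideal R) [p.IsPrime] (q : Ideal S) [q.IsPrime] (𝒟 : FlatCA.CompleteDevissage R S N p)
    (𝒜 : FlatCA.CompleteDevissageAt R S N p q 𝒟)
    (R' : Type u) [CommRing R'] [Algebra R R'] (p' : Ideal R') [p'.IsPrime] [hp' : p'.LiesOver p]
    (hκ : Function.Bijective (Ideal.ResidueField.mapₐ p p' (Algebra.ofId R R') hp'.over))
    (S' : Type u) [CommRing S'] [Algebra R' S'] [Algebra R S'] [Algebra S S'] [IsScalarTower R R' S']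
    [IsScalarTower R S S'] [Algebra.IsPushout R R' S S']
    (N' : Type u) [AddCommGroup N'] [Module S' N'] [Module S N'] [IsScalarTower S S' N']
    (f : N →ₗ[S] N') (hf : IsBaseChange S' f) :
    ∃ (𝒟' : FlatCA.CompleteDevissage R' S' N' p')
      (aA : ∀ i : Fin 𝒟.n, Algebra (𝒟.A i) (𝒟'.A i)) (rA : ∀ i : Fin 𝒟.n, Algebra R (𝒟'.A i))
      (_t1 : ∀ i : Fin 𝒟.n, IsScalarTower R (R') (𝒟'.A i)) (_t2 : ∀ i : Fin 𝒟.n, IsScalarTower R (𝒟.A i) (𝒟'.A i))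
      (aB : ∀ i : Fin 𝒟.n, Algebra (𝒟.B i) (𝒟'.B i)) (rB : ∀ i : Fin 𝒟.n, Algebra R (𝒟'.B i))
      (_t3 : ∀ i : Fin 𝒟.n, IsScalarTower R (R') (𝒟'.B i)) (_t4 : ∀ i : Fin 𝒟.n, IsScalarTower R (𝒟.B i) (𝒟'.B i))
      (bA : ∀ i : Fin 𝒟.n, Algebra (𝒟.B i) (𝒟'.A i)) (_t5 : ∀ i : Fin 𝒟.n, IsScalarTower (𝒟.B i) (𝒟.A i) (𝒟'.A i))
      (_t6 : ∀ i : Fin 𝒟.n, IsScalarTower (𝒟.B i) (𝒟'.B i) (𝒟'.A i))
      (bA' : ∀ i : Fin 𝒟.n, Algebra (𝒟.B i) (𝒟'.A (i + 1)))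
      (_t7 : ∀ i : Fin 𝒟.n, IsScalarTower (𝒟.B i) (𝒟'.B i) (𝒟'.A (i + 1)))
      (sA : Algebra S (𝒟'.A 0)) (_t8 : IsScalarTower S (S') (𝒟'.A 0))
      (mA : ∀ i : Fin 𝒟.n, Module (𝒟.A i) (𝒟'.M i)) (_t9 : ∀ i : Fin 𝒟.n, IsScalarTower (𝒟.A i) (𝒟'.A i) (𝒟'.M i))
      (gM : ∀ i : Fin 𝒟.n, 𝒟.M i →ₗ[𝒟.A i] 𝒟'.M i),
      𝒟'.n = 𝒟.n ∧ 𝒟'.r = 𝒟.r ∧
      (letI := aA ⟨0, 𝒟.pos⟩; IsScalarTower S (𝒟.A 0) (𝒟'.A 0)) ∧
      (∀ x : N, 𝒟'.isoN (f x) = gM ⟨0, 𝒟.pos⟩ (𝒟.isoN x)) ∧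
      (∀ (i : Fin 𝒟.n) (h : (i : ℕ) + 1 < 𝒟.n),
        letI := aA ⟨i + 1, h⟩; IsScalarTower (𝒟.B i) (𝒟.A (i + 1)) (𝒟'.A (i + 1))) ∧
      (∀ i : Fin 𝒟.n,
        Algebra.IsPushout R R' (𝒟.A i) (𝒟'.A i) ∧ Algebra.IsPushout R R' (𝒟.B i) (𝒟'.B i) ∧
        IsBaseChange (𝒟'.A i) (gM i) ∧
        LinearMap.range (𝒟'.α i) =
          Submodule.span (𝒟'.B i) ((gM i) '' (LinearMap.range (𝒟.α i) : Set (𝒟.M i)))) ∧
      (∀ i, 𝒟.n ≤ i → ∃ (Q : Ideal (𝒟'.B i)) (P : Ideal (𝒟'.A i)),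
        Q.IsPrime ∧ P.IsPrime ∧ Q.LiesOver p' ∧ P.LiesOver Q) := by
  classical
  have hρ : ∀ (i : Fin 𝒟.n) (x : (CDevBC.BCFam.preDev 𝒟 R' S' N' f hf p').B i),
      (CDevBC.BCFam.preDev 𝒟 R' S' N' f hf p').ρ i (((CDevBC.BCFam.preDev 𝒟 R' S' N' f hf p').ρe i.2).symm x) = x := fun i x => ((CDevBC.BCFam.preDev 𝒟 R' S' N' f hf p').ρe i.2).apply_symm_apply x
  refine ⟨(CDevBC.BCFam.preDev 𝒟 R' S' N' f hf p').toDev,
    fun i => (Algebra.TensorProduct.rightAlgebra : Algebra (𝒟.A i) (R' ⊗[R] 𝒟.A i)),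
    fun i => (Algebra.TensorProduct.leftAlgebra : Algebra R (R' ⊗[R] 𝒟.A i)),
    fun i => (TensorProduct.isScalarTower_left : IsScalarTower R R' (R' ⊗[R] 𝒟.A i)),
    fun i => (Algebra.TensorProduct.right_isScalarTower : IsScalarTower R (𝒟.A i) (R' ⊗[R] 𝒟.A i)),
    fun i => (RingHom.comp (((CDevBC.BCFam.preDev 𝒟 R' S' N' f hf p').ρe i.2).symm : (CDevBC.BCFam.preDev 𝒟 R' S' N' f hf p').B i →+* (CDevBC.BCFam.preDev 𝒟 R' S' N' f hf p').BB i)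
      (algebraMap (𝒟.B i) (R' ⊗[R] 𝒟.B i))).toAlgebra,
    fun i => ((algebraMap R' ((CDevBC.BCFam.preDev 𝒟 R' S' N' f hf p').BB i)).comp (algebraMap R R')).toAlgebra,
    fun i => ?_, fun i => ?_,
    fun i => CDevBC.BCFam.instAlgBA 𝒟 R' i,
    fun i => CDevBC.BCFam.instTowerBAA 𝒟 R' i,
    fun i => ?_,
    fun i => CDevBC.BCFam.instAlgBA' 𝒟 R' i,
    fun i => ?_,
    CDevBC.BCFam.instAlgSA 𝒟 R',
    CDevBC.BCFam.instTowerSS'A 𝒟 R' S',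
    fun i => CDevBC.BCFam.instModA0MM 𝒟 R' i,
    fun i => CDevBC.BCFam.instTowerAAMM 𝒟 R' i,
    fun i => CDevBC.BCFam.g 𝒟 R' i,
    rfl, rfl, CDevBC.BCFam.instTowerSAA 𝒟 R',
    fun x => CDevBC.BCFam.isoN'_apply 𝒟 R' S' N' f hf x,
    fun i h => CDevBC.BCFam.instTowerBAA' 𝒟 R' i, fun i => ⟨?_, ?_, ?_, ?_⟩, ?_⟩
  · -- t3
    exact @IsScalarTower.of_algebraMap_eq R R' ((CDevBC.BCFam.preDev 𝒟 R' S' N' f hf p').BB i) _ _ _ _ _
      (((algebraMap R' ((CDevBC.BCFam.preDev 𝒟 R' S' N' f hf p').BB i)).comp (algebraMap R R')).toAlgebra) (fun _ => rfl)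
  · -- t4
    letI : Algebra (𝒟.B i) ((CDevBC.BCFam.preDev 𝒟 R' S' N' f hf p').toDev.B i) := (RingHom.comp (((CDevBC.BCFam.preDev 𝒟 R' S' N' f hf p').ρe i.2).symm : (CDevBC.BCFam.preDev 𝒟 R' S' N' f hf p').B i →+* (CDevBC.BCFam.preDev 𝒟 R' S' N' f hf p').BB i)
      (algebraMap (𝒟.B i) (R' ⊗[R] 𝒟.B i))).toAlgebra
    letI : Algebra R ((CDevBC.BCFam.preDev 𝒟 R' S' N' f hf p').toDev.B i) := ((algebraMap R' ((CDevBC.BCFam.preDev 𝒟 R' S' N' f hf p').BB i)).comp (algebraMap R R')).toAlgebra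
    refine IsScalarTower.of_algebraMap_eq fun r => ?_
    show algebraMap R' ((CDevBC.BCFam.preDev 𝒟 R' S' N' f hf p').BB i) (algebraMap R R' r) = ((CDevBC.BCFam.preDev 𝒟 R' S' N' f hf p').ρe i.2).symm
      (algebraMap (𝒟.B i) (R' ⊗[R] 𝒟.B i) (algebraMap R (𝒟.B i) r))
    rw [← IsScalarTower.algebraMap_apply R (𝒟.B i) (R' ⊗[R] 𝒟.B i),
      IsScalarTower.algebraMap_apply R R' (R' ⊗[R] 𝒟.B i)]
    exact (((CDevBC.BCFam.preDev 𝒟 R' S' N' f hf p').ρe i.2).symm.commutes _).symm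
  · -- t6
    letI : Algebra (𝒟.B i) ((CDevBC.BCFam.preDev 𝒟 R' S' N' f hf p').toDev.B i) := (RingHom.comp (((CDevBC.BCFam.preDev 𝒟 R' S' N' f hf p').ρe i.2).symm : (CDevBC.BCFam.preDev 𝒟 R' S' N' f hf p').B i →+* (CDevBC.BCFam.preDev 𝒟 R' S' N' f hf p').BB i)
      (algebraMap (𝒟.B i) (R' ⊗[R] 𝒟.B i))).toAlgebra
    letI : Algebra (𝒟.B i) ((CDevBC.BCFam.preDev 𝒟 R' S' N' f hf p').toDev.A i) := CDevBC.BCFam.instAlgBA 𝒟 R' i
    refine IsScalarTower.of_algebraMap_eq fun b => ?_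
    show algebraMap (R' ⊗[R] 𝒟.B i) (R' ⊗[R] 𝒟.A i) (algebraMap (𝒟.B i) (R' ⊗[R] 𝒟.B i) b) =
      algebraMap (R' ⊗[R] 𝒟.B i) (R' ⊗[R] 𝒟.A i)
        ((CDevBC.BCFam.preDev 𝒟 R' S' N' f hf p').ρ i (((CDevBC.BCFam.preDev 𝒟 R' S' N' f hf p').ρe i.2).symm (algebraMap (𝒟.B i) (R' ⊗[R] 𝒟.B i) b)))
    rw [hρ]
  · -- t7
    letI : Algebra (𝒟.B i) ((CDevBC.BCFam.preDev 𝒟 R' S' N' f hf p').toDev.B i) := (RingHom.comp (((CDevBC.BCFam.preDev 𝒟 R' S' N' f hf p').ρe i.2).symm : (CDevBC.BCFam.preDev 𝒟 R' S' N' f hf p').B i →+* (CDevBC.BCFam.preDev 𝒟 R' S' N' f hf p').BB i)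
      (algebraMap (𝒟.B i) (R' ⊗[R] 𝒟.B i))).toAlgebra
    letI : Algebra (𝒟.B i) ((CDevBC.BCFam.preDev 𝒟 R' S' N' f hf p').toDev.A (i + 1)) := CDevBC.BCFam.instAlgBA' 𝒟 R' i
    refine IsScalarTower.of_algebraMap_eq fun b => ?_
    show algebraMap (R' ⊗[R] 𝒟.B i) (R' ⊗[R] 𝒟.A (i + 1))
        (algebraMap (𝒟.B i) (R' ⊗[R] 𝒟.B i) b) =
      algebraMap (R' ⊗[R] 𝒟.B i) (R' ⊗[R] 𝒟.A (i + 1))
        ((CDevBC.BCFam.preDev 𝒟 R' S' N' f hf p').ρ i (((CDevBC.BCFam.preDev 𝒟 R' S' N' f hf p').ρe i.2).symm (algebraMap (𝒟.B i) (R' ⊗[R] 𝒟.B i) b)))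
    rw [hρ]
  · exact (TensorProduct.isPushout : Algebra.IsPushout R R' (𝒟.A i) (R' ⊗[R] 𝒟.A i))
  · letI : Algebra (𝒟.B i) ((CDevBC.BCFam.preDev 𝒟 R' S' N' f hf p').toDev.B i) := (RingHom.comp (((CDevBC.BCFam.preDev 𝒟 R' S' N' f hf p').ρe i.2).symm : (CDevBC.BCFam.preDev 𝒟 R' S' N' f hf p').B i →+* (CDevBC.BCFam.preDev 𝒟 R' S' N' f hf p').BB i)
      (algebraMap (𝒟.B i) (R' ⊗[R] 𝒟.B i))).toAlgebra
    letI : Algebra R ((CDevBC.BCFam.preDev 𝒟 R' S' N' f hf p').toDev.B i) := ((algebraMap R' ((CDevBC.BCFam.preDev 𝒟 R' S' N' f hf p').BB i)).comp (algebraMap R R')).toAlgebra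
    haveI : IsScalarTower R R' ((CDevBC.BCFam.preDev 𝒟 R' S' N' f hf p').toDev.B i) := IsScalarTower.of_algebraMap_eq (fun _ => rfl)
    haveI : IsScalarTower R (𝒟.B i) ((CDevBC.BCFam.preDev 𝒟 R' S' N' f hf p').toDev.B i) := by
      refine IsScalarTower.of_algebraMap_eq fun r => ?_
      show algebraMap R' ((CDevBC.BCFam.preDev 𝒟 R' S' N' f hf p').BB i) (algebraMap R R' r) = ((CDevBC.BCFam.preDev 𝒟 R' S' N' f hf p').ρe i.2).symm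
        (algebraMap (𝒟.B i) (R' ⊗[R] 𝒟.B i) (algebraMap R (𝒟.B i) r))
      rw [← IsScalarTower.algebraMap_apply R (𝒟.B i) (R' ⊗[R] 𝒟.B i),
        IsScalarTower.algebraMap_apply R R' (R' ⊗[R] 𝒟.B i)]
      exact (((CDevBC.BCFam.preDev 𝒟 R' S' N' f hf p').ρe i.2).symm.commutes _).symm
    exact Algebra.IsPushout.of_equiv
      (h := (TensorProduct.isPushout : Algebra.IsPushout R R' (𝒟.B i) (R' ⊗[R] 𝒟.B i)))
      (((CDevBC.BCFam.preDev 𝒟 R' S' N' f hf p').ρe i.2).symm : (R' ⊗[R] 𝒟.B i) ≃ₐ[R'] (CDevBC.BCFam.preDev 𝒟 R' S' N' f hf p').toDev.B i) rfl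
  · exact CDevBC.BCFam.isBaseChange_g 𝒟 R' i
  · apply SetLike.coe_injective
    have h1 := (CDevBC.BCFam.preDev 𝒟 R' S' N' f hf p').coe_range_α' i.2
    have h2 := congrArg (fun U : Submodule (R' ⊗[R] 𝒟.B i) (CDevBC.BCFam.MM 𝒟 R' i) =>
      (U : Set (CDevBC.BCFam.MM 𝒟 R' i))) (CDevBC.BCFam.range_α' 𝒟 R' i)
    have h3 := (CDevBC.BCFam.preDev 𝒟 R' S' N' f hf p').coe_span_BB i.2 ((CDevBC.BCFam.g 𝒟 R' i : 𝒟.M i → CDevBC.BCFam.MM 𝒟 R' i) ''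
      (LinearMap.range (𝒟.α i) : Set (𝒟.M i)))
    exact h1.trans (h2.trans h3.symm)

  · -- the tail
    intro i hi
    let Pd := CDevBC.BCFam.preDev 𝒟 R' S' N' f hf p'
    have hnot : ¬ i < Pd.n := not_lt.mpr hi
    have hbij : Function.Bijective (algebraMap R' (Pd.BB i)) :=
      Pd.algebraMap_bijective_of_not_lt hnot
    haveI := 𝒜.hqA i
    haveI := 𝒜.hqB i
    haveI := 𝒜.overA i
    haveI := 𝒜.overB i
    haveI : (𝒜.qA i).LiesOver p := Ideal.LiesOver.trans (𝒜.qA i) (𝒜.qB i) p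
    obtain ⟨P, hP, hPp', hPq⟩ :=
      BijRes.exists_prime_over p p' hκ (𝒟.A i) (R' ⊗[R] 𝒟.A i) (𝒜.qA i)
    let P' : Ideal (Pd.A i) := P
    have hP' : P'.IsPrime := hP
    have hP'p' : Ideal.comap (algebraMap R' (Pd.A i)) P' = p' := hPp'.over.symm
    refine ⟨p'.map (algebraMap R' (Pd.BB i)), P', Pd.hpBB i, hP', ⟨?_⟩, ⟨?_⟩⟩
    · exact (Ideal.comap_map_of_bijective _ hbij).symm
    · have h1 : Ideal.comap (algebraMap R' (Pd.BB i))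
          (Ideal.comap (algebraMap (Pd.BB i) (Pd.A i)) P') = p' := by
        rw [Ideal.comap_comap, ← IsScalarTower.algebraMap_eq R' (Pd.BB i) (Pd.A i)]
        exact hP'p'
      have h3 : Ideal.comap (algebraMap (Pd.BB i) (Pd.A i)) P' =
          Ideal.map (algebraMap R' (Pd.BB i)) (Ideal.comap (algebraMap R' (Pd.BB i))
            (Ideal.comap (algebraMap (Pd.BB i) (Pd.A i)) P')) :=
        (Ideal.map_comap_of_surjective _ hbij.2 _).symm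
      have h4 : Ideal.map (algebraMap R' (Pd.BB i)) p' =
          Ideal.comap (algebraMap (Pd.BB i) (Pd.A i)) P' := by
        rw [h3]
        congr 1
        exact h1.symm
      exact h4

end Groth.Agent.Lib.helper26.DevTr
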