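/-
Helper library (helper26): transport of complete dévissages (towards S1252).
Part 2: `HasCompleteDevissageAt` is stable under base change along `R → R'` with bijective residue
field extension at the point.
-/
import Mathlib
import Groth.Agent.Lib.Helper26.DevTr1

set_option autoImplicit false
set_option linter.style.haveILetI false
set_option linter.unusedSectionVars false

universe u

namespace Groth.Agent.Lib.helper26.DevTr

open TensorProduct

theorem hasCompleteDevissageAt_baseChange
    (R S : Type u) [CommRing R] [CommRing S] [Algebra R S] [Algebra.FiniteType R S]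
    (N : Type u) [AddCommGroup N] [Module S N] [Module.Finite S N]
    (p : Ideal R) [p.IsPrime] (q : Ideal S) [q.IsPrime]
    (h : FlatCA.HasCompleteDevissageAt R S N p q)
    (R' : Type u) [CommRing R'] [Algebra R R'] (p' : Ideal R') [p'.IsPrime] [hp' : p'.LiesOver p]
    (hκ : Function.Bijective (Ideal.ResidueField.mapₐ p p' (Algebra.ofId R R') hp'.over))
    (S' : Type u) [CommRing S'] [Algebra R' S'] [Algebra R S'] [Algebra S S'] [IsScalarTower R R' S']
    [IsScalarTower R S S'] [Algebra.IsPushout R R' S S']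
    (N' : Type u) [AddCommGroup N'] [Module S' N'] [Module S N'] [IsScalarTower S S' N']
    (f : N →ₗ[S] N') (hf : IsBaseChange S' f)
    (q' : Ideal S') [q'.IsPrime] [q'.LiesOver q] [q'.LiesOver p'] :
    FlatCA.HasCompleteDevissageAt R' S' N' p' q' := by
  obtain ⟨𝒟, ⟨𝒜⟩⟩ := h
  obtain ⟨𝒟', aA, rA, t1, t2, aB, rB, t3, t4, bA, t5, t6, bA', t7, sA, t8, mA, t9, gM, hn, hr, hb1,
    hb2, hb3, hb4, htail⟩ := exists_baseChange_with_tail R S N p q 𝒟 𝒜 R' p' hκ S' N' f hf
  obtain ⟨𝒜', -⟩ := Groth.Agent.S12244.result R S N p q 𝒟 𝒜 R' p' hκ S' N' f hf q' 𝒟' hn htail gM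
    ⟨hb1, hb2, hb3, fun i => ⟨(hb4 i).1, (hb4 i).2.1, (hb4 i).2.2.1⟩⟩
  exact ⟨𝒟', ⟨𝒜'⟩⟩

end Groth.Agent.Lib.helper26.DevTr
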