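/-
Helper library (helper26): existence of complete dévissages after étale localisation (S1252).
Part 4: a complete dévissage over a smooth algebra can be moved to an étale neighbourhood with
geometrically irreducible fibres (stages 3 and 4: étale neighbourhood, base change, shrinking).
-/
import Mathlib
import Groth.Agent.Lib.Helper26.DevMain2
import Groth.Agent.Lib.Helper26.DevEt3
import Groth.Agent.Lib.Helper26.DevEt5
import Groth.Agent.Lib.Helper26.DevTr2
import Groth.Agent.Lib.Helper26.GeomIrrNbhd19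
import Groth.Agent.Lib.Helper3.Shrink6
import Groth.Agent.S12246

set_option autoImplicit false
set_option linter.style.haveILetI false
set_option linter.unusedSectionVars false

namespace Groth.Agent.Lib.helper26.DevMain

open TensorProduct AlgebraicGeometry

universe u

/-- Stage 4 datum: over `(R₃, T)` with the open `D₃ = T[1/u]`, elements `g`, `hX` and a complete
dévissage over `(R₃[1/g], T[1/hX])`. -/
theorem exists_stage4
    (A B : Type u) [CommRing A] [CommRing B] [Algebra A B] [Algebra.FiniteType A B]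
    (K : Type u) [AddCommGroup K] [Module B K] [Module.Finite B K]
    (pA : Ideal A) [pA.IsPrime] (yB : Ideal B) [yB.IsPrime] [yB.LiesOver pA]
    (hK : FlatCA.HasCompleteDevissageAt A B K pA yB)
    (R₃ : Type u) [CommRing R₃] [Algebra A R₃] (p₃ : Ideal R₃) [p₃.IsPrime]
    (hEtR₃ : FlatCA.IsEtaleNhd A R₃ pA p₃)
    (T : Type u) [CommRing T] [Algebra A T] [Algebra R₃ T] [Algebra B T] [IsScalarTower A R₃ T]
    [IsScalarTower A B T] [Algebra.IsPushout A R₃ B T]
    (yT : Ideal T) [yT.IsPrime] [yT.LiesOver p₃] [yT.LiesOver yB] (u : T) (hu : u ∉ yT) :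
    ∃ (g : R₃) (hX : T), g ∉ p₃ ∧ hX ∉ yT ∧ IsUnit (algebraMap T (Localization.Away hX) u) ∧
      ∃ (_ : Algebra (Localization.Away g) (Localization.Away hX))
        (_ : IsScalarTower R₃ (Localization.Away g) (Localization.Away hX))
        (_ : (Ideal.map (algebraMap R₃ (Localization.Away g)) p₃).IsPrime)
        (_ : (Ideal.map (algebraMap T (Localization.Away hX)) yT).IsPrime),
        FlatCA.HasCompleteDevissageAt (Localization.Away g) (Localization.Away hX)
          (LocalizedModule (Submonoid.powers hX) (T ⊗[B] K))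
          (Ideal.map (algebraMap R₃ (Localization.Away g)) p₃)
          (Ideal.map (algebraMap T (Localization.Away hX)) yT) := by
  obtain ⟨etR₃, hp₃pA, hκ₃⟩ := hEtR₃
  haveI := etR₃
  haveI := hp₃pA
  have hK₃ : FlatCA.HasCompleteDevissageAt R₃ T (T ⊗[B] K) p₃ yT :=
    Groth.Agent.Lib.helper26.DevTr.hasCompleteDevissageAt_baseChange A B K pA yB hK R₃ p₃ hκ₃ T
      (T ⊗[B] K) (TensorProduct.mk B T K 1) (TensorProduct.isBaseChange B K T) yT
  haveI : Algebra.FiniteType R₃ T :=
    Algebra.FiniteType.equiv (inferInstance : Algebra.FiniteType R₃ (R₃ ⊗[A] B))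
      (Algebra.IsPushout.equiv A R₃ B T)
  obtain ⟨𝒟, ⟨𝒜⟩⟩ := hK₃
  obtain ⟨g, hX, hg, hXy, hunit, alg, tw, mod, twmod, hp₄, hy₄, 𝒟', 𝒜', -⟩ :=
    Groth.Agent.S12246.result R₃ T (T ⊗[B] K) p₃ yT 𝒟 𝒜 u hu
  exact ⟨g, hX, hg, hXy, hunit, alg, tw, hp₄, hy₄, 𝒟', ⟨𝒜'⟩⟩

end Groth.Agent.Lib.helper26.DevMain
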