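/-
Helper library (helper26): existence of complete dévissages after étale localisation (S1252).
Part 5: stage 5 — shrinking the base once more to make the structure morphism surjective, hence
with geometrically irreducible fibres, and base-changing the complete dévissage.
-/
import Mathlib
import Groth.Agent.Lib.Helper26.DevMain2
import Groth.Agent.Lib.Helper26.DevTr2
import Groth.Agent.Lib.Helper3.Shrink6

set_option autoImplicit false
set_option linter.style.haveILetI false
set_option linter.unusedSectionVars false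

namespace Groth.Agent.Lib.helper26.DevMain

open TensorProduct AlgebraicGeometry CategoryTheory

universe u

set_option maxHeartbeats 1600000 in
theorem exists_stage5
    (R T : Type u) [CommRing R] [CommRing T] [Algebra R T] [Algebra.FiniteType R T]
    (K : Type u) [AddCommGroup K] [Module T K] [Module.Finite T K]
    (p : Ideal R) [p.IsPrime] (yT : Ideal T) [yT.IsPrime] [yT.LiesOver p]
    (D₃ : Type u) [CommRing D₃] [Algebra T D₃] [Algebra R D₃] [IsScalarTower R T D₃] (u : T)
    [IsLocalization.Away u D₃] (hgi₃ : FlatCA.GeomIrredFibres R D₃)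
    (g : R) (hX : T) (hg : g ∉ p) (hXy : hX ∉ yT)
    (hunit : IsUnit (algebraMap T (Localization.Away hX) u))
    [Algebra (Localization.Away g) (Localization.Away hX)]
    [IsScalarTower R (Localization.Away g) (Localization.Away hX)]
    [hp₄ : (p.map (algebraMap R (Localization.Away g))).IsPrime]
    [hy₄ : (yT.map (algebraMap T (Localization.Away hX))).IsPrime]
    (hsm₄ : Algebra.Smooth R (Localization.Away hX))
    (hK₄ : FlatCA.HasCompleteDevissageAt (Localization.Away g) (Localization.Away hX)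
      (LocalizedModule (Submonoid.powers hX) K) (p.map (algebraMap R (Localization.Away g)))
      (yT.map (algebraMap T (Localization.Away hX)))) :
    ∃ (R₅ D₅ : Type u) (_ : CommRing R₅) (_ : CommRing D₅) (_ : Algebra R R₅) (_ : Algebra T D₅)
      (_ : Algebra R₅ D₅) (_ : Algebra R D₅) (_ : IsScalarTower R R₅ D₅)
      (_ : IsScalarTower R T D₅) (p₅ : Ideal R₅) (y₅ : Ideal D₅) (_ : p₅.IsPrime)
      (_ : y₅.IsPrime) (_ : y₅.LiesOver p₅),
      FlatCA.IsEtaleNhd R R₅ p p₅ ∧ FlatCA.IsEtaleNhd T D₅ yT y₅ ∧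
      FlatCA.GeomIrredFibres R₅ D₅ ∧
      ∃ (K₅ : Type u) (_ : AddCommGroup K₅) (_ : Module D₅ K₅) (_ : Module T K₅)
        (_ : IsScalarTower T D₅ K₅) (f : K →ₗ[T] K₅), IsBaseChange D₅ f ∧
        FlatCA.HasCompleteDevissageAt R₅ D₅ K₅ p₅ y₅ := by
  classical
  -- primes at stage 4
  haveI hp₄p : (p.map (algebraMap R (Localization.Away g))).LiesOver p :=
    ⟨(Groth.Agent.Lib.helper3.Shrink.under_map_away g (Localization.Away g) p hg).symm⟩
  haveI hy₄yT : (yT.map (algebraMap T (Localization.Away hX))).LiesOver yT :=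
    ⟨(Groth.Agent.Lib.helper3.Shrink.under_map_away hX (Localization.Away hX) yT hXy).symm⟩
  haveI hy₄p₄ : (yT.map (algebraMap T (Localization.Away hX))).LiesOver
      (p.map (algebraMap R (Localization.Away g))) := liesOver_of_hasCompleteDevissageAt hK₄
  haveI hy₄p : (yT.map (algebraMap T (Localization.Away hX))).LiesOver p :=
    Ideal.LiesOver.trans _ yT p
  haveI := hsm₄
  have hone : (1 : Localization.Away hX) ∉ yT.map (algebraMap T (Localization.Away hX)) :=
    fun h => hy₄.ne_top ((Ideal.eq_top_iff_one _).mpr h)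
  obtain ⟨a₀, ha₀, hsurj⟩ := Groth.Agent.Lib.helper3.Shrink.exists_basicOpen_subset_image
    (R := R) (D := Localization.Away hX) p (yT.map (algebraMap T (Localization.Away hX))) 1 hone
  obtain ⟨a₄, ha₄⟩ : ∃ a₄ : Localization.Away g, a₄ = algebraMap R (Localization.Away g) a₀ :=
    ⟨_, rfl⟩
  have ha₄p : a₄ ∉ p.map (algebraMap R (Localization.Away g)) := by
    intro hmem
    apply ha₀
    rw [hp₄p.over]
    rw [ha₄] at hmem
    exact Ideal.mem_comap.mpr hmem
  obtain ⟨b₄, hb₄⟩ : ∃ b₄ : Localization.Away hX,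
      b₄ = algebraMap (Localization.Away g) (Localization.Away hX) a₄ := ⟨_, rfl⟩
  have hb₄y : b₄ ∉ yT.map (algebraMap T (Localization.Away hX)) := by
    intro hmem
    apply ha₄p
    rw [hy₄p₄.over]
    rw [hb₄] at hmem
    exact Ideal.mem_comap.mpr hmem
  let R₄ := Localization.Away g
  let D₄ := Localization.Away hX
  let K₄ := LocalizedModule (Submonoid.powers hX) K
  let R₅ := Localization.Away a₄
  let D₅ := Localization.Away b₄
  have hunitb : IsUnit (algebraMap R₄ D₅ a₄) := by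
    rw [IsScalarTower.algebraMap_apply R₄ D₄ D₅, ← hb₄]
    exact IsLocalization.Away.algebraMap_isUnit b₄
  letI algR₅D₅ : Algebra R₅ D₅ := (IsLocalization.Away.lift a₄ hunitb).toAlgebra
  haveI twR₄R₅D₅ : IsScalarTower R₄ R₅ D₅ :=
    IsScalarTower.of_algebraMap_eq (R := R₄) (S := R₅) (A := D₅) fun r =>
    (IsLocalization.Away.lift_eq a₄ hunitb r).symm
  haveI hpo : Algebra.IsPushout R₄ R₅ D₄ D₅ := by
    haveI : IsLocalization (Algebra.algebraMapSubmonoid D₄ (Submonoid.powers a₄)) D₅ := by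
      have e : Algebra.algebraMapSubmonoid D₄ (Submonoid.powers a₄) = Submonoid.powers b₄ := by
        show (Submonoid.powers a₄).map (algebraMap R₄ D₄) = Submonoid.powers b₄
        rw [Submonoid.map_powers, hb₄]
      rw [e]
      infer_instance
    exact Algebra.IsPushout.symm (Algebra.isPushout_of_isLocalization (Submonoid.powers a₄) R₅ D₄ D₅)
  -- primes at stage 5
  haveI hp₅prime : ((p.map (algebraMap R R₄)).map (algebraMap R₄ R₅)).IsPrime :=
    Groth.Agent.Lib.helper3.Shrink.isPrime_map_away a₄ R₅ _ ha₄p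
  haveI hy₅prime : ((yT.map (algebraMap T D₄)).map (algebraMap D₄ D₅)).IsPrime :=
    Groth.Agent.Lib.helper3.Shrink.isPrime_map_away b₄ D₅ _ hb₄y
  haveI hp₅p₄ : ((p.map (algebraMap R R₄)).map (algebraMap R₄ R₅)).LiesOver
      (p.map (algebraMap R R₄)) :=
    ⟨(Groth.Agent.Lib.helper3.Shrink.under_map_away a₄ R₅ _ ha₄p).symm⟩
  haveI hy₅y₄ : ((yT.map (algebraMap T D₄)).map (algebraMap D₄ D₅)).LiesOver
      (yT.map (algebraMap T D₄)) :=
    ⟨(Groth.Agent.Lib.helper3.Shrink.under_map_away b₄ D₅ _ hb₄y).symm⟩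
  haveI hy₅p₅ : ((yT.map (algebraMap T D₄)).map (algebraMap D₄ D₅)).LiesOver
      ((p.map (algebraMap R R₄)).map (algebraMap R₄ R₅)) :=
    Groth.Agent.Lib.helper3.Shrink.liesOver_map_map a₄ b₄ R₅ D₅ _ _ ha₄p hb₄y
  have hκ₅ : Function.Bijective (Ideal.ResidueField.mapₐ (p.map (algebraMap R R₄))
      ((p.map (algebraMap R R₄)).map (algebraMap R₄ R₅)) (Algebra.ofId R₄ R₅) hp₅p₄.over) :=
    Groth.Agent.Lib.helper26.GeomIrr.bijective_mapₐ_away a₄ R₅ _ _
  -- finiteness
  haveI : Algebra.FiniteType T D₄ :=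
    Algebra.FiniteType.of_finitePresentation
  haveI : Algebra.FiniteType R D₄ := Algebra.FiniteType.trans (S := T) inferInstance inferInstance
  haveI : Algebra.FiniteType R₄ D₄ := Algebra.FiniteType.of_restrictScalars_finiteType R R₄ D₄
  haveI : Module.Finite D₄ K₄ := inferInstance
  have hK₅ : FlatCA.HasCompleteDevissageAt R₅ D₅ (D₅ ⊗[D₄] K₄)
      ((p.map (algebraMap R R₄)).map (algebraMap R₄ R₅))
      ((yT.map (algebraMap T D₄)).map (algebraMap D₄ D₅)) := by
    have hbc : IsBaseChange D₅ (TensorProduct.mk D₄ D₅ K₄ 1) := TensorProduct.isBaseChange D₄ K₄ D₅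
    have key := @Groth.Agent.Lib.helper26.DevTr.hasCompleteDevissageAt_baseChange R₄ D₄ _ _ _ _ K₄ _ _ _
      (p.map (algebraMap R R₄)) _ (yT.map (algebraMap T D₄)) _ hK₄ R₅ _ _
      ((p.map (algebraMap R R₄)).map (algebraMap R₄ R₅)) _ hp₅p₄ hκ₅ D₅ _ _ _ _ _ _ hpo
    have key2 := @key (D₅ ⊗[D₄] K₄) _ _ _ _
    have key3 := key2 (TensorProduct.mk D₄ D₅ K₄ 1) hbc
    exact @key3 ((yT.map (algebraMap T D₄)).map (algebraMap D₄ D₅)) hy₅prime hy₅y₄ hy₅p₅
  -- towers
  haveI twRR₄D₅ : IsScalarTower R R₄ D₅ :=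
    IsScalarTower.of_algebraMap_eq (R := R) (S := R₄) (A := D₅) fun r => by
    rw [IsScalarTower.algebraMap_apply R₄ D₄ D₅, ← IsScalarTower.algebraMap_apply R R₄ D₄,
      ← IsScalarTower.algebraMap_apply R D₄ D₅]
  haveI twRR₅D₅ : IsScalarTower R R₅ D₅ :=
    IsScalarTower.of_algebraMap_eq (R := R) (S := R₅) (A := D₅) fun r => by
    rw [IsScalarTower.algebraMap_apply R R₄ R₅, ← IsScalarTower.algebraMap_apply R₄ R₅ D₅,
      ← IsScalarTower.algebraMap_apply R R₄ D₅]
  haveI twRTD₅ : IsScalarTower R T D₅ := inferInstance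
  -- étale neighbourhoods
  have hEtR : FlatCA.IsEtaleNhd R R₅ p ((p.map (algebraMap R R₄)).map (algebraMap R₄ R₅)) :=
    isEtaleNhd_trans p (p.map (algebraMap R R₄)) _ (isEtaleNhd_away g R₄ p _)
      (isEtaleNhd_away a₄ R₅ _ _)
  have hEtD : FlatCA.IsEtaleNhd T D₅ yT ((yT.map (algebraMap T D₄)).map (algebraMap D₄ D₅)) :=
    isEtaleNhd_trans yT (yT.map (algebraMap T D₄)) _ (isEtaleNhd_away hX D₄ yT _)
      (isEtaleNhd_away b₄ D₅ _ _)
  -- the map `D₃ → D₅`
  have hunit₅ : IsUnit (algebraMap T D₅ u) := by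
    rw [IsScalarTower.algebraMap_apply T D₄ D₅]
    exact hunit.map (algebraMap D₄ D₅)
  letI algD₃D₅ : Algebra D₃ D₅ := (IsLocalization.Away.lift u hunit₅).toAlgebra
  haveI twTD₃D₅ : IsScalarTower T D₃ D₅ :=
    IsScalarTower.of_algebraMap_eq (R := T) (S := D₃) (A := D₅) fun r =>
    (IsLocalization.Away.lift_eq u hunit₅ r).symm
  haveI twRD₃D₅ : IsScalarTower R D₃ D₅ :=
    IsScalarTower.of_algebraMap_eq (R := R) (S := D₃) (A := D₅) fun r => by
    rw [IsScalarTower.algebraMap_apply R T D₃, ← IsScalarTower.algebraMap_apply T D₃ D₅,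
      ← IsScalarTower.algebraMap_apply R T D₅]
  -- open immersions
  have hoR : IsOpenImmersion (Spec.map (CommRingCat.ofHom (algebraMap R R₅))) := by
    have e : Spec.map (CommRingCat.ofHom (algebraMap R R₅)) =
        Spec.map (CommRingCat.ofHom (algebraMap R₄ R₅)) ≫
          Spec.map (CommRingCat.ofHom (algebraMap R R₄)) := by
      rw [← Spec.map_comp, ← CommRingCat.ofHom_comp, ← IsScalarTower.algebraMap_eq]
    rw [e]
    haveI : IsOpenImmersion (Spec.map (CommRingCat.ofHom (algebraMap R₄ R₅))) :=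
      IsOpenImmersion.of_isLocalization a₄
    haveI : IsOpenImmersion (Spec.map (CommRingCat.ofHom (algebraMap R R₄))) :=
      IsOpenImmersion.of_isLocalization g
    infer_instance
  have hoT : IsOpenImmersion (Spec.map (CommRingCat.ofHom (algebraMap T D₅))) := by
    have e : Spec.map (CommRingCat.ofHom (algebraMap T D₅)) =
        Spec.map (CommRingCat.ofHom (algebraMap D₄ D₅)) ≫
          Spec.map (CommRingCat.ofHom (algebraMap T D₄)) := by
      rw [← Spec.map_comp, ← CommRingCat.ofHom_comp, ← IsScalarTower.algebraMap_eq]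
    rw [e]
    haveI : IsOpenImmersion (Spec.map (CommRingCat.ofHom (algebraMap D₄ D₅))) :=
      IsOpenImmersion.of_isLocalization b₄
    haveI : IsOpenImmersion (Spec.map (CommRingCat.ofHom (algebraMap T D₄))) :=
      IsOpenImmersion.of_isLocalization hX
    infer_instance
  have hoD : IsOpenImmersion (Spec.map (CommRingCat.ofHom (algebraMap D₃ D₅))) := by
    haveI : IsOpenImmersion (Spec.map (CommRingCat.ofHom (algebraMap T D₃))) :=
      IsOpenImmersion.of_isLocalization u
    have e : Spec.map (CommRingCat.ofHom (algebraMap T D₅)) =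
        Spec.map (CommRingCat.ofHom (algebraMap D₃ D₅)) ≫
          Spec.map (CommRingCat.ofHom (algebraMap T D₃)) := by
      rw [← Spec.map_comp, ← CommRingCat.ofHom_comp, ← IsScalarTower.algebraMap_eq]
    haveI : IsOpenImmersion (Spec.map (CommRingCat.ofHom (algebraMap D₃ D₅)) ≫
        Spec.map (CommRingCat.ofHom (algebraMap T D₃))) := by
      rw [← e]
      exact hoT
    exact IsOpenImmersion.of_comp _ (Spec.map (CommRingCat.ofHom (algebraMap T D₃)))
  -- surjectivity
  have hsurj₄ : ∀ P : Ideal R₄, P.IsPrime → a₄ ∉ P →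
      ∃ Q : Ideal D₄, Q.IsPrime ∧ b₄ ∉ Q ∧ Q.under R₄ = P := by
    intro P hP haP
    haveI := hP
    have haP' : a₀ ∉ P.under R := fun hmem => haP (by rw [ha₄]; exact Ideal.mem_comap.mp hmem)
    obtain ⟨Q, hQ, -, hQP⟩ := hsurj (P.under R) (Ideal.IsPrime.under R P) haP'
    haveI := hQ
    have hQP' : Q.under R₄ = P := by
      apply Groth.Agent.Lib.helper3.Shrink.eq_of_under_eq_loc (Submonoid.powers g) R₄
      rw [Ideal.under_under, hQP]
    refine ⟨Q, hQ, ?_, hQP'⟩
    intro hmem
    apply haP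
    rw [← hQP']
    rw [hb₄] at hmem
    exact Ideal.mem_comap.mpr hmem
  have hsurj₅ := Groth.Agent.Lib.helper3.Shrink.comap_surjective_loc R₅ a₄ b₄ D₅ hsurj₄
  have hgi₅ : FlatCA.GeomIrredFibres R₅ D₅ :=
    geomIrred_of_isOpenImmersion (R := R) (R' := R₅) (D := D₃) (D' := D₅) hoR hoD hgi₃ hsurj₅
  -- the module
  have hbc : IsBaseChange D₅ (((TensorProduct.mk D₄ D₅ K₄ 1).restrictScalars T).comp
      (LocalizedModule.mkLinearMap (Submonoid.powers hX) K)) :=
    IsBaseChange.comp (LocalizedModule.isBaseChange (Submonoid.powers hX) K)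
      (TensorProduct.isBaseChange D₄ K₄ D₅)
  exact ⟨R₅, D₅, inferInstance, inferInstance, inferInstance, inferInstance, algR₅D₅, inferInstance,
    twRR₅D₅, twRTD₅, (p.map (algebraMap R R₄)).map (algebraMap R₄ R₅),
    (yT.map (algebraMap T D₄)).map (algebraMap D₄ D₅), hp₅prime, hy₅prime, hy₅p₅, hEtR, hEtD, hgi₅,
    D₅ ⊗[D₄] K₄, inferInstance, inferInstance, inferInstance, inferInstance, _, hbc, hK₅⟩

end Groth.Agent.Lib.helper26.DevMain
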