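/-
Helper library (helper26): existence of complete dévissages after étale localisation (S1252).
Part 6: a complete dévissage over a smooth algebra can be moved to an elementary étale
neighbourhood with geometrically irreducible fibres.
-/
import Mathlib
import Groth.Agent.Lib.Helper26.DevMain4
import Groth.Agent.Lib.Helper26.DevMain5

set_option autoImplicit false
set_option linter.style.haveILetI false
set_option linter.unusedSectionVars false

namespace Groth.Agent.Lib.helper26.DevMain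

open TensorProduct AlgebraicGeometry

universe u

set_option maxHeartbeats 1600000 in
theorem exists_good_nbhd
    (A B : Type u) [CommRing A] [CommRing B] [Algebra A B] [Algebra.FiniteType A B]
    (K : Type u) [AddCommGroup K] [Module B K] [Module.Finite B K]
    (pA : Ideal A) [pA.IsPrime] (yB : Ideal B) [yB.IsPrime] [hyBpA : yB.LiesOver pA] (n : ℕ)
    (hsm : FlatCA.SmoothRelDim n A B) (hPT : FlatCA.PurelyTranscendental pA yB)
    (hK : FlatCA.HasCompleteDevissageAt A B K pA yB) :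
    ∃ (R'' D'' : Type u) (_ : CommRing R'') (_ : CommRing D'') (_ : Algebra A R'')
      (_ : Algebra B D'') (_ : Algebra R'' D'') (_ : Algebra A D'') (_ : IsScalarTower A R'' D'')
      (_ : IsScalarTower A B D'') (p'' : Ideal R'') (y'' : Ideal D'') (_ : p''.IsPrime)
      (_ : y''.IsPrime) (_ : y''.LiesOver p''),
      FlatCA.IsEtaleNhd A R'' pA p'' ∧ FlatCA.IsEtaleNhd B D'' yB y'' ∧
      FlatCA.GeomIrredFibres R'' D'' ∧
      ∃ (K'' : Type u) (_ : AddCommGroup K'') (_ : Module D'' K'') (_ : Module B K'')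
        (_ : IsScalarTower B D'' K'') (f : K →ₗ[B] K''), IsBaseChange D'' f ∧
        FlatCA.HasCompleteDevissageAt R'' D'' K'' p'' y'' := by
  obtain ⟨R₃, _, algAR₃, p₃, hp₃, T, _, algAT, algR₃T, algBT, twAR₃T, twABT, D₃, _, algTD₃,
    algR₃D₃, algBD₃, algAD₃, twBTD₃, twR₃TD₃, twAR₃D₃, twABD₃, y₃, hy₃, hy₃p₃, u, hu, hpo, hopen,
    hEtR₃, hEtD₃, hsm₃, hgi₃, hPT₃⟩ :=
    Groth.Agent.Lib.helper26.GeomIrr.concl3_of_smooth pA B n hsm yB hPT
  haveI := hpo
  haveI := hu
  haveI hy₃yB : y₃.LiesOver yB := hEtD₃.2.1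
  haveI hp₃pA : p₃.LiesOver pA := hEtR₃.2.1
  haveI : Algebra.Etale A R₃ := hEtR₃.1
  -- the point of `T`
  haveI hyTprime : (y₃.under T).IsPrime := Ideal.IsPrime.under T y₃
  haveI hyTp₃ : (y₃.under T).LiesOver p₃ :=
    Groth.Agent.Lib.helper26.DevEt.under_liesOver_of_tower p₃ y₃
  haveI hyTyB : (y₃.under T).LiesOver yB :=
    Groth.Agent.Lib.helper26.DevEt.under_liesOver_of_tower yB y₃
  have huy : u ∉ y₃.under T := by
    intro hmem
    exact hy₃.ne_top (Ideal.eq_top_of_isUnit_mem _ (Ideal.mem_comap.mp hmem)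
      (IsLocalization.Away.algebraMap_isUnit u))
  obtain ⟨g, hX, hg, hXy, hunit, alg, tw, hp₄, hy₄, hK₄⟩ :=
    exists_stage4 A B K pA yB hK R₃ p₃ hEtR₃ T (y₃.under T) u huy
  -- smoothness of `R₃ → T[1/hX]`
  haveI : Algebra.IsPushout A B R₃ T := Algebra.IsPushout.symm inferInstance
  haveI : Algebra.Etale B T := Algebra.Etale.of_equiv (Algebra.IsPushout.equiv A B R₃ T)
  haveI : Algebra.Etale T (Localization.Away hX) := Algebra.Etale.of_isLocalizationAway hX
  haveI : Algebra.Etale B (Localization.Away hX) := Algebra.Etale.comp B T (Localization.Away hX)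
  have hsm₄ : FlatCA.SmoothRelDim n R₃ (Localization.Away hX) :=
    Groth.Agent.Lib.helper26.DevEt.smoothRelDim_of_etale_etale (R := A) (R' := R₃) (D := B)
      (D' := Localization.Away hX) n hsm
  have hsm₄' : Algebra.Smooth R₃ (Localization.Away hX) :=
    Groth.Agent.Lib.helper3.OneStep.algebra_smooth n hsm₄
  haveI : Algebra.FiniteType R₃ T :=
    Algebra.FiniteType.equiv (inferInstance : Algebra.FiniteType R₃ (R₃ ⊗[A] B))
      (Algebra.IsPushout.equiv A R₃ B T)
  obtain ⟨R₅, D₅, _, _, algR₃R₅, algTD₅, algR₅D₅, algR₃D₅, twR₃R₅D₅, twR₃TD₅, p₅, y₅, hp₅, hy₅,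
    hy₅p₅, hEtR₅, hEtD₅, hgi₅, K₅, _, modD₅K₅, modTK₅, twTD₅K₅, f₅, hf₅, hK₅⟩ :=
    exists_stage5 R₃ T (T ⊗[B] K) p₃ (y₃.under T) D₃ u hgi₃ g hX hg hXy hunit hsm₄' hK₄
  -- composite structures
  letI algAR₅ : Algebra A R₅ := ((algebraMap R₃ R₅).comp (algebraMap A R₃)).toAlgebra
  haveI twAR₃R₅ : IsScalarTower A R₃ R₅ := IsScalarTower.of_algebraMap_eq fun _ => rfl
  letI algBD₅ : Algebra B D₅ := ((algebraMap T D₅).comp (algebraMap B T)).toAlgebra
  haveI twBTD₅ : IsScalarTower B T D₅ := IsScalarTower.of_algebraMap_eq fun _ => rfl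
  letI algAD₅ : Algebra A D₅ := ((algebraMap R₃ D₅).comp (algebraMap A R₃)).toAlgebra
  haveI twAR₃D₅ : IsScalarTower A R₃ D₅ := IsScalarTower.of_algebraMap_eq fun _ => rfl
  haveI twAR₅D₅ : IsScalarTower A R₅ D₅ := IsScalarTower.of_algebraMap_eq fun a => by
    show algebraMap R₃ D₅ (algebraMap A R₃ a) = algebraMap R₅ D₅ (algebraMap R₃ R₅ (algebraMap A R₃ a))
    rw [← IsScalarTower.algebraMap_apply R₃ R₅ D₅]
  haveI twABD₅ : IsScalarTower A B D₅ := IsScalarTower.of_algebraMap_eq fun a => by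
    show algebraMap R₃ D₅ (algebraMap A R₃ a) = algebraMap T D₅ (algebraMap B T (algebraMap A B a))
    rw [← IsScalarTower.algebraMap_apply A B T, IsScalarTower.algebraMap_apply A R₃ T,
      ← IsScalarTower.algebraMap_apply R₃ T D₅]
  have hEtA : FlatCA.IsEtaleNhd A R₅ pA p₅ := isEtaleNhd_trans pA p₃ p₅ hEtR₃ hEtR₅
  have hEtB : FlatCA.IsEtaleNhd B D₅ yB y₅ :=
    isEtaleNhd_trans yB (y₃.under T) y₅ (isEtaleNhd_pushout pA p₃ hEtR₃ B T yB (y₃.under T)) hEtD₅
  -- the module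
  letI modBK₅ : Module B K₅ := Module.compHom K₅ (algebraMap B T)
  haveI twBTK₅ : IsScalarTower B T K₅ := IsScalarTower.of_algebraMap_smul fun _ _ => rfl
  haveI twBD₅K₅ : IsScalarTower B D₅ K₅ := IsScalarTower.of_algebraMap_smul fun b x => by
    show algebraMap T D₅ (algebraMap B T b) • x = algebraMap B T b • x
    rw [algebraMap_smul]
  have hbc : IsBaseChange D₅ ((f₅.restrictScalars B).comp (TensorProduct.mk B T K 1)) :=
    IsBaseChange.comp (TensorProduct.isBaseChange B K T) hf₅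
  exact ⟨R₅, D₅, inferInstance, inferInstance, algAR₅, algBD₅, algR₅D₅, algAD₅, twAR₅D₅, twABD₅,
    p₅, y₅, hp₅, hy₅, hy₅p₅, hEtA, hEtB, hgi₅, K₅, inferInstance, modD₅K₅, modBK₅, twBD₅K₅, _,
    hbc, hK₅⟩

end Groth.Agent.Lib.helper26.DevMain
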