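/-
Helper library (helper26): existence of complete dévissages after étale localisation (S1252).
Part 7: the conclusions `MainConcl`, `KeyConcl`, and the two ways of producing `KeyConcl`.
-/
import Mathlib
import Groth.Agent.Lib.Helper26.DevMain3
import Groth.Agent.Lib.Helper26.DevMain6

set_option autoImplicit false
set_option linter.style.haveILetI false
set_option linter.unusedSectionVars false

namespace Groth.Agent.Lib.helper26.DevMain

open TensorProduct AlgebraicGeometry

universe u

/-- the conclusion of the main theorem: elementary étale neighbourhoods with a complete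
dévissage of a base change. -/
def MainConcl (R S : Type u) [CommRing R] [CommRing S] [Algebra R S] (N : Type u)
    [AddCommGroup N] [Module S N] (p : Ideal R) [p.IsPrime] (q : Ideal S) [q.IsPrime] : Prop :=
  ∃ (R' S' : Type u) (_ : CommRing R') (_ : CommRing S') (_ : Algebra R R') (_ : Algebra S S')
    (_ : Algebra R' S') (_ : Algebra R S') (_ : IsScalarTower R R' S') (_ : IsScalarTower R S S')
    (p' : Ideal R') (q' : Ideal S') (_ : p'.IsPrime) (_ : q'.IsPrime),
    FlatCA.IsEtaleNhd R R' p p' ∧ FlatCA.IsEtaleNhd S S' q q' ∧ q'.LiesOver p' ∧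
    ∃ (N' : Type u) (_ : AddCommGroup N') (_ : Module S' N') (_ : Module S N')
      (_ : IsScalarTower S S' N') (f : N →ₗ[S] N'), IsBaseChange S' f ∧
      FlatCA.HasCompleteDevissageAt R' S' N' p' q'

/-- the key intermediate conclusion: elementary étale neighbourhoods `(R'', p'')`, `(D'', y'')`
with geometrically irreducible fibres over which the base change of `K` vanishes or has a complete
dévissage. -/
def KeyConcl (R D : Type u) [CommRing R] [CommRing D] [Algebra R D] (K : Type u)
    [AddCommGroup K] [Module D K] (p : Ideal R) [p.IsPrime] (y : Ideal D) [y.IsPrime] : Prop :=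
  ∃ (R'' D'' : Type u) (_ : CommRing R'') (_ : CommRing D'') (_ : Algebra R R'')
    (_ : Algebra D D'') (_ : Algebra R'' D'') (_ : Algebra R D'') (_ : IsScalarTower R R'' D'')
    (_ : IsScalarTower R D D'') (p'' : Ideal R'') (y'' : Ideal D'') (_ : p''.IsPrime)
    (_ : y''.IsPrime) (_ : y''.LiesOver p''),
    FlatCA.IsEtaleNhd R R'' p p'' ∧ FlatCA.IsEtaleNhd D D'' y y'' ∧
    FlatCA.GeomIrredFibres R'' D'' ∧
    ∃ (K'' : Type u) (_ : AddCommGroup K'') (_ : Module D'' K'') (_ : Module D K'')
      (_ : IsScalarTower D D'' K'') (gK : K →ₗ[D] K''), IsBaseChange D'' gK ∧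
      (Subsingleton K'' ∨ FlatCA.HasCompleteDevissageAt R'' D'' K'' p'' y'')

/-- Case A: the point is not in the support of the fibre module. -/
theorem keyConcl_of_not_mem_support {R D : Type u} [CommRing R] [CommRing D] [Algebra R D] (n : ℕ)
    (hsm : FlatCA.SmoothRelDim n R D) (hgi : FlatCA.GeomIrredFibres R D)
    (K : Type u) [AddCommGroup K] [Module D K] [Module R K] [IsScalarTower R D K]
    [Module.Finite D K] (p : Ideal R) [p.IsPrime] (y : Ideal D) [y.IsPrime] [y.LiesOver p]
    (hns : ¬ ∃ x ∈ Module.support (p.Fiber D) (FlatCA.fiberMod p D K),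
      x.asIdeal = FlatCA.fiberIdeal p y) : KeyConcl R D K p y := by
  obtain ⟨w, hwann, hwy⟩ := exists_annihilator_notMem p K y hns
  obtain ⟨R'', D'', _, _, algRR'', algDD'', algR''D'', algRD'', twRR''D'', twRDD'', p'', y'', hp'',
    hy'', hy''p'', hEtR, hEtD, hgi'', hunitw⟩ := exists_zariski_nbhd n hsm hgi p y w hwy
  have hsub : Subsingleton (D'' ⊗[D] K) := by
    refine subsingleton_of_forall_eq 0 fun t => ?_
    induction t using TensorProduct.induction_on with
    | zero => rfl
    | tmul d k =>
      obtain ⟨v, hv⟩ := hunitw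
      have h1 : d = (d * ↑v⁻¹) * algebraMap D D'' w := by
        rw [← hv, mul_assoc, Units.inv_mul, mul_one]
      have h2 : w • k = 0 := Module.mem_annihilator.mp hwann k
      rw [h1, mul_comm, ← Algebra.smul_def, TensorProduct.smul_tmul, h2, TensorProduct.tmul_zero]
    | add a b ha hb => rw [ha, hb, add_zero]
  exact ⟨R'', D'', inferInstance, inferInstance, algRR'', algDD'', algR''D'', algRD'', twRR''D'',
    twRDD'', p'', y'', hp'', hy'', hy''p'', hEtR, hEtD, hgi'', D'' ⊗[D] K, inferInstance,
    inferInstance, inferInstance, inferInstance, TensorProduct.mk D D'' K 1,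
    TensorProduct.isBaseChange D K D'', Or.inl hsub⟩

end Groth.Agent.Lib.helper26.DevMain
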