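/-
Helper library (helper26): assembling complete dévissages (towards S1252).
Part 4: invariance of `HasCompleteDevissageAt` under isomorphisms of the module.
-/
import Mathlib
import Groth.Prelude.Def_FlatCA

set_option autoImplicit false
set_option linter.style.haveILetI false
set_option linter.unusedSectionVars false

namespace Groth.Agent.Lib.helper26.DevCons

universe u

theorem hasCompleteDevissageAt_of_linearEquiv {R S : Type u} [CommRing R] [CommRing S]
    [Algebra R S] {N N' : Type u} [AddCommGroup N] [Module S N] [AddCommGroup N'] [Module S N']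
    (p : Ideal R) [p.IsPrime] (q : Ideal S) [q.IsPrime] (e : N ≃ₗ[S] N')
    (h : FlatCA.HasCompleteDevissageAt R S N p q) : FlatCA.HasCompleteDevissageAt R S N' p q := by
  obtain ⟨𝒟, ⟨𝒜⟩⟩ := h
  let 𝒟' : FlatCA.CompleteDevissage R S N' p :=
    { 𝒟 with isoN := e.symm.trans 𝒟.isoN }
  let 𝒜' : FlatCA.CompleteDevissageAt R S N' p q 𝒟' :=
    { 𝒜 with }
  exact ⟨𝒟', ⟨𝒜'⟩⟩

end Groth.Agent.Lib.helper26.DevCons
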