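/-
Helper library (helper26): towards the existence of elementary dévissages (S1249).
Part A3: the fibre of `S ⧸ J₀` over `p` as a closed subspace of the fibre of `S`; local
dimensions.
-/
import Mathlib
import Groth.Prelude.Def_FlatCA
import Groth.Agent.Lib.Helper3.DimCriteria

set_option autoImplicit false
set_option linter.style.haveILetI false

namespace Groth.Agent.Lib.helper26.ElemDevA

open TensorProduct

universe u

section

variable {R S : Type u} [CommRing R] [CommRing S] [Algebra R S] (p : Ideal R) [p.IsPrime]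
  (J₀ : Ideal S)

/-- the surjection of fibre rings induced by `S → S ⧸ J₀` -/
noncomputable def fibQuot : p.Fiber S →ₐ[R] p.Fiber (S ⧸ J₀) :=
  Algebra.TensorProduct.map (AlgHom.id R p.ResidueField) (Ideal.Quotient.mkₐ R J₀)

theorem fibQuot_tmul (c : p.ResidueField) (s : S) :
    fibQuot p J₀ (c ⊗ₜ s) = c ⊗ₜ (Ideal.Quotient.mk J₀ s) := rfl

theorem fibQuot_surjective : Function.Surjective (fibQuot p J₀) :=
  Algebra.TensorProduct.map_surjective (AlgHom.id R p.ResidueField) (Ideal.Quotient.mkₐ R J₀)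
    Function.surjective_id Ideal.Quotient.mk_surjective

theorem ker_fibQuot : RingHom.ker (fibQuot p J₀) =
    J₀.map (Algebra.TensorProduct.includeRight (R := R) (A := p.ResidueField) (B := S)) := by
  have h := Algebra.TensorProduct.lTensor_ker (A := p.ResidueField) (Ideal.Quotient.mkₐ R J₀)
    Ideal.Quotient.mk_surjective
  have h2 : RingHom.ker (Ideal.Quotient.mkₐ R J₀) = J₀ := Ideal.Quotient.mkₐ_ker R J₀
  rw [h2] at h
  exact h

theorem mem_range_comap_fibQuot (Q : PrimeSpectrum (p.Fiber S)) :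
    Q ∈ Set.range (PrimeSpectrum.comap (fibQuot p J₀).toRingHom) ↔
      J₀ ≤ Q.asIdeal.comap
        (Algebra.TensorProduct.includeRight (R := R) (A := p.ResidueField) (B := S)) := by
  rw [range_comap_of_surjective _ _ (fibQuot_surjective p J₀),
    PrimeSpectrum.mem_zeroLocus, SetLike.coe_subset_coe]
  change RingHom.ker (fibQuot p J₀) ≤ _ ↔ _
  rw [ker_fibQuot, Ideal.map_le_iff_le_comap]

/-- local dimension of the fibre of `S ⧸ J₀` in terms of the closed subset `V(J₀)` of the fibre
of `S` -/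
theorem localDim_fiber_quotient (Z : Set (PrimeSpectrum (p.Fiber S)))
    (hZ : ∀ Q : PrimeSpectrum (p.Fiber S), Q ∈ Z ↔ J₀ ≤ Q.asIdeal.comap
      (Algebra.TensorProduct.includeRight (R := R) (A := p.ResidueField) (B := S)))
    (x : PrimeSpectrum (p.Fiber S)) (hx : x ∈ Z) (Qb : PrimeSpectrum (p.Fiber (S ⧸ J₀)))
    (hQb : PrimeSpectrum.comap (fibQuot p J₀).toRingHom Qb = x) :
    FlatMor.localDim (PrimeSpectrum (p.Fiber (S ⧸ J₀))) Qb = FlatMor.localDim Z ⟨x, hx⟩ := by
  refine Groth.Agent.Lib.helper3.DimCriteria.localDim_eq_of_range_eq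
    (PrimeSpectrum.comap (fibQuot p J₀).toRingHom) (Subtype.val : Z → PrimeSpectrum (p.Fiber S))
    (PrimeSpectrum.isClosedEmbedding_comap_of_surjective _ _ (fibQuot_surjective p J₀)).isEmbedding
    Topology.IsEmbedding.subtypeVal ?_ Qb ⟨x, hx⟩ hQb
  ext Q
  rw [mem_range_comap_fibQuot, Subtype.range_coe, hZ]

end

end Groth.Agent.Lib.helper26.ElemDevA
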