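/-
Helper library (helper26): local fibre dimension is invariant under étale maps.
Part 1: scheme-level statement for affine schemes.
-/
import Mathlib
import Groth.Prelude.Def_FlatCA
import Groth.Agent.Lib.Helper3.FibreComp
import Groth.Agent.Lib.Helper3.QFinAffineSpace3

set_option autoImplicit false
set_option linter.style.haveILetI false

namespace Groth.Agent.Lib.helper26.EtDim

open AlgebraicGeometry CategoryTheory

universe u

/-- for `R → A → B` with `A` of finite type over `R` and `B` étale over `A`, the local dimension of
the fibre of `Spec B → Spec R` at a point equals that of `Spec A → Spec R` at its image. -/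
theorem fibreDimAt_etale_comp {R A B : Type u} [CommRing R] [CommRing A] [CommRing B] [Algebra R A]
    [Algebra A B] [Algebra R B] [IsScalarTower R A B] [Algebra.FiniteType R A] [Algebra.Etale A B]
    (qB : PrimeSpectrum B) :
    FlatMor.fibreDimAt (Spec.map (CommRingCat.ofHom (algebraMap R B))) qB =
      FlatMor.fibreDimAt (Spec.map (CommRingCat.ofHom (algebraMap R A)))
        (PrimeSpectrum.comap (algebraMap A B) qB) := by
  have hcomp : Spec.map (CommRingCat.ofHom (algebraMap R B)) =
      Spec.map (CommRingCat.ofHom (algebraMap A B)) ≫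
        Spec.map (CommRingCat.ofHom (algebraMap R A)) := by
    rw [← Spec.map_comp, ← CommRingCat.ofHom_comp, ← IsScalarTower.algebraMap_eq]
  haveI : LocallyOfFiniteType (Spec.map (CommRingCat.ofHom (algebraMap R A))) :=
    (HasRingHomProperty.Spec_iff (P := @LocallyOfFiniteType)).mpr
      (RingHom.finiteType_algebraMap.mpr inferInstance)
  haveI : LocallyOfFiniteType (Spec.map (CommRingCat.ofHom (algebraMap A B))) :=
    (HasRingHomProperty.Spec_iff (P := @LocallyOfFiniteType)).mpr
      (RingHom.finiteType_algebraMap.mpr inferInstance)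
  haveI : LocallyQuasiFinite (Spec.map (CommRingCat.ofHom (algebraMap A B))) :=
    (HasRingHomProperty.Spec_iff (P := @LocallyQuasiFinite)).mpr
      (RingHom.quasiFinite_algebraMap.mpr inferInstance)
  haveI : Flat (Spec.map (CommRingCat.ofHom (algebraMap A B))) :=
    (HasRingHomProperty.Spec_iff (P := @Flat)).mpr
      (RingHom.flat_algebraMap_iff.mpr inferInstance)
  have h1 := (Groth.Agent.Lib.helper3.FibreComp.fibreDimAt_comp
    (Spec.map (CommRingCat.ofHom (algebraMap A B)))
    (Spec.map (CommRingCat.ofHom (algebraMap R A))) qB).2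
    (Flat.stalkMap (Spec.map (CommRingCat.ofHom (algebraMap A B))) qB)
  have h2 := (Groth.Agent.Lib.helper3.QFinAffineSpace.fibreDimAt_eq_zero_of_lqf
    (Spec.map (CommRingCat.ofHom (algebraMap A B))) qB).1
  rw [hcomp, h1, h2, zero_add]
  rfl

end Groth.Agent.Lib.helper26.EtDim
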