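/-
Helper library (helper26): local fibre dimension is invariant under étale maps.
Part 2: the local dimension of a closed subset `V(J)` of a fibre as a `fibreDimAt`.
-/
import Mathlib
import Groth.Agent.Lib.Helper26.EtDim1
import Groth.Agent.Lib.Helper26.ElemDevA3
import Groth.Agent.Lib.Helper3.OneStep1
import Groth.Agent.Lib.Helper26.Purity1

set_option autoImplicit false
set_option linter.style.haveILetI false

namespace Groth.Agent.Lib.helper26.EtDim

open AlgebraicGeometry CategoryTheory TensorProduct

universe u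

section

variable {R : Type u} [CommRing R] (p : Ideal R) [p.IsPrime]
  {A : Type u} [CommRing A] [Algebra R A]

/-- the local dimension at the point `q` of the closed subset `V(J)` of the fibre of `Spec A` over
`p` is the local fibre dimension of `Spec (A ⧸ J) → Spec R` at `q`. -/
theorem localDim_eq_fibreDimAt_quotient (J : Ideal A) (Z : Set (PrimeSpectrum (p.Fiber A)))
    (hZ : ∀ Q : PrimeSpectrum (p.Fiber A), Q ∈ Z ↔ J ≤ Q.asIdeal.comap
      (Algebra.TensorProduct.includeRight (R := R) (A := p.ResidueField) (B := A)))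
    (q : Ideal A) [q.IsPrime] [hq : q.LiesOver p]
    (x : PrimeSpectrum (p.Fiber A)) (hxq : x.asIdeal = FlatCA.fiberIdeal p q) (hx : x ∈ Z)
    (qb : PrimeSpectrum (A ⧸ J)) (hqb : qb.asIdeal.comap (Ideal.Quotient.mk J) = q) :
    FlatMor.localDim Z ⟨x, hx⟩ =
      FlatMor.fibreDimAt (Spec.map (CommRingCat.ofHom (algebraMap R (A ⧸ J)))) qb := by
  have hxc : x.asIdeal.comap
      (Algebra.TensorProduct.includeRight (R := R) (A := p.ResidueField) (B := A)).toRingHom = q := by
    rw [hxq]
    exact Groth.Agent.Lib.helper26.Purity.comap_fiberIdeal p q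
  have hJq : J ≤ q := by
    have := (hZ x).mp hx
    rw [← hxc]
    exact this
  have hxr : x ∈ Set.range (PrimeSpectrum.comap (ElemDevA.fibQuot p J).toRingHom) := by
    rw [ElemDevA.mem_range_comap_fibQuot]
    exact (hZ x).mp hx
  obtain ⟨Qb, hQb⟩ := hxr
  rw [← ElemDevA.localDim_fiber_quotient p J Z hZ x hx Qb hQb]
  have hunder : qb.asIdeal.under R = p := by
    have h1 : qb.asIdeal.under R = (qb.asIdeal.comap (Ideal.Quotient.mk J)).under R := by
      rw [Ideal.under, Ideal.under, Ideal.comap_comap]
      rfl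
    rw [h1, hqb]
    exact hq.over.symm
  refine Groth.Agent.Lib.helper3.OneStep.localDim_aux (R := R) (D := A ⧸ J) qb p hunder Qb ?_
  apply Ideal.comap_injective_of_surjective (Ideal.Quotient.mk J) Ideal.Quotient.mk_surjective
  rw [hqb, ← hxc, ← hQb]
  ext a
  simp only [Ideal.mem_comap]
  rfl

end

end Groth.Agent.Lib.helper26.EtDim
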