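/-
Helper library (helper26): local fibre dimension is invariant under étale maps.
Part 3: supports of fibre modules under an étale map over a fixed base.
-/
import Mathlib
import Groth.Agent.Lib.Helper26.EtDim2
import Groth.Agent.Lib.Helper3.UnivInjAss1
import Groth.Agent.Lib.Helper22.StrEtale

set_option autoImplicit false
set_option linter.style.haveILetI false
set_option linter.unusedSectionVars false

namespace Groth.Agent.Lib.helper26.EtDim

open AlgebraicGeometry CategoryTheory TensorProduct

universe u

section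

variable {R : Type u} [CommRing R] (p : Ideal R) [p.IsPrime]
  {A B : Type u} [CommRing A] [CommRing B] [Algebra R A] [Algebra A B] [Algebra R B]
  [IsScalarTower R A B]
  {M M' : Type u} [AddCommGroup M] [Module A M] [Module R M] [IsScalarTower R A M]
  [Module.Finite A M]
  [AddCommGroup M'] [Module B M'] [Module R M'] [IsScalarTower R B M'] [Module A M']
  [IsScalarTower A B M'] (f : M →ₗ[A] M') (hf : IsBaseChange B f)

include hf in
/-- the support of the fibre module of a base change `M' = B ⊗[A] M` is `V(Ann(M) B)`. -/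
theorem mem_support_fiberMod_baseChange_iff (Q : PrimeSpectrum (p.Fiber B)) :
    Q ∈ Module.support (p.Fiber B) (FlatCA.fiberMod p B M') ↔
      (Module.annihilator A M).map (algebraMap A B) ≤ Q.asIdeal.comap
        (Algebra.TensorProduct.includeRight (R := R) (A := p.ResidueField) (B := B)) := by
  haveI : Module.Finite B M' := Module.Finite.equiv hf.equiv
  rw [Groth.Agent.Lib.helper3.OneStep.mem_support_fiberMod_iff p B M' Q, Ideal.map_le_iff_le_comap]
  let q' : PrimeSpectrum B := ⟨Q.asIdeal.comap (Algebra.TensorProduct.includeRight (R := R)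
    (A := p.ResidueField) (B := B)), inferInstance⟩
  show Module.annihilator B M' ≤ q'.asIdeal ↔ Module.annihilator A M ≤ q'.asIdeal.comap _
  rw [← Module.mem_support_iff_of_finite, ← hf.equiv.support_eq,
    Groth.Agent.Lib.Helper18.PullbackStalk.mem_support_baseChange_iff A B M q',
    Module.mem_support_iff_of_finite]
  rfl

variable [Algebra.FiniteType R A] [Algebra.Etale A B]

include hf in
/-- **Étale invariance of the local dimension of the fibre support.** -/
theorem localDim_support_etale (qA : Ideal A) [qA.IsPrime] [hqA : qA.LiesOver p]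
    (qB : Ideal B) [qB.IsPrime] [hqBA : qB.LiesOver qA] [hqB : qB.LiesOver p]
    (ξ : PrimeSpectrum (p.Fiber A))
    (hξ : ξ ∈ Module.support (p.Fiber A) (FlatCA.fiberMod p A M))
    (hξq : ξ.asIdeal = FlatCA.fiberIdeal p qA) :
    ∃ (ξ' : PrimeSpectrum (p.Fiber B))
      (hξ' : ξ' ∈ Module.support (p.Fiber B) (FlatCA.fiberMod p B M')),
      ξ'.asIdeal = FlatCA.fiberIdeal p qB ∧
      FlatMor.localDim (Module.support (p.Fiber B) (FlatCA.fiberMod p B M')) ⟨ξ', hξ'⟩ =
        FlatMor.localDim (Module.support (p.Fiber A) (FlatCA.fiberMod p A M)) ⟨ξ, hξ⟩ := by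
  set J : Ideal A := Module.annihilator A M with hJ
  -- `J ≤ qA`
  have hJqA : J ≤ qA := by
    have h1 := (Groth.Agent.Lib.helper3.OneStep.mem_support_fiberMod_iff p A M ξ).mp hξ
    rw [hξq] at h1
    have h2 := Groth.Agent.Lib.helper26.Purity.comap_fiberIdeal p qA
    rw [← h2]
    exact h1
  have hJBqB : J.map (algebraMap A B) ≤ qB := by
    rw [Ideal.map_le_iff_le_comap]
    have : qB.comap (algebraMap A B) = qA := hqBA.over.symm
    rw [this]
    exact hJqA
  -- the point `ξ'`
  haveI hprime : (FlatCA.fiberIdeal p qB).IsPrime :=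
    Groth.Agent.Lib.helper3.UnivInjAss.fiberIdeal_isPrime p qB
  let ξ' : PrimeSpectrum (p.Fiber B) := ⟨FlatCA.fiberIdeal p qB, hprime⟩
  have hξ' : ξ' ∈ Module.support (p.Fiber B) (FlatCA.fiberMod p B M') := by
    rw [mem_support_fiberMod_baseChange_iff p f hf ξ']
    have h2 := Groth.Agent.Lib.helper26.Purity.comap_fiberIdeal p qB
    show J.map (algebraMap A B) ≤ (FlatCA.fiberIdeal p qB).comap _
    rw [show (FlatCA.fiberIdeal p qB).comap (Algebra.TensorProduct.includeRight (R := R)
      (A := p.ResidueField) (B := B)) = qB from h2]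
    exact hJBqB
  refine ⟨ξ', hξ', rfl, ?_⟩
  -- the points of the quotients
  haveI hqbBprime : (qB.map (Ideal.Quotient.mk (J.map (algebraMap A B)))).IsPrime :=
    Ideal.map_isPrime_of_surjective Ideal.Quotient.mk_surjective (by rwa [Ideal.mk_ker])
  let qbB : PrimeSpectrum (B ⧸ J.map (algebraMap A B)) :=
    ⟨qB.map (Ideal.Quotient.mk (J.map (algebraMap A B))), hqbBprime⟩
  have hqbB : qbB.asIdeal.comap (Ideal.Quotient.mk (J.map (algebraMap A B))) = qB := by
    show (qB.map _).comap _ = qB
    rw [Ideal.comap_map_of_surjective _ Ideal.Quotient.mk_surjective, sup_eq_left]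
    intro b hb
    rw [Ideal.mem_comap, Submodule.mem_bot, Ideal.Quotient.eq_zero_iff_mem] at hb
    exact hJBqB hb
  let qbA : PrimeSpectrum (A ⧸ J) :=
    PrimeSpectrum.comap (algebraMap (A ⧸ J) (B ⧸ J.map (algebraMap A B))) qbB
  have hqbA : qbA.asIdeal.comap (Ideal.Quotient.mk J) = qA := by
    show (qbB.asIdeal.comap (algebraMap (A ⧸ J) (B ⧸ J.map (algebraMap A B)))).comap
      (Ideal.Quotient.mk J) = qA
    rw [Ideal.comap_comap]
    have hcomm : (algebraMap (A ⧸ J) (B ⧸ J.map (algebraMap A B))).comp (Ideal.Quotient.mk J) =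
        (Ideal.Quotient.mk (J.map (algebraMap A B))).comp (algebraMap A B) := by
      ext a
      rfl
    rw [hcomm, ← Ideal.comap_comap, hqbB]
    exact hqBA.over.symm
  haveI : Algebra.Etale (A ⧸ J) (B ⧸ J.map (algebraMap A B)) :=
    Groth.Agent.Lib.helper22.StrEtale.etale_quotient_map J
  haveI : Algebra.FiniteType R (A ⧸ J) :=
    Algebra.FiniteType.of_surjective (Ideal.Quotient.mkₐ R J) Ideal.Quotient.mk_surjective
  haveI : IsScalarTower R (A ⧸ J) (B ⧸ J.map (algebraMap A B)) :=
    IsScalarTower.of_algebraMap_eq fun r => by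
      rw [IsScalarTower.algebraMap_apply R A (A ⧸ J),
        IsScalarTower.algebraMap_apply R B (B ⧸ J.map (algebraMap A B)),
        IsScalarTower.algebraMap_apply R A B]
      rfl
  rw [localDim_eq_fibreDimAt_quotient p (J.map (algebraMap A B))
      (Module.support (p.Fiber B) (FlatCA.fiberMod p B M'))
      (mem_support_fiberMod_baseChange_iff p f hf) qB ξ' rfl hξ' qbB hqbB,
    localDim_eq_fibreDimAt_quotient p J (Module.support (p.Fiber A) (FlatCA.fiberMod p A M))
      (Groth.Agent.Lib.helper3.OneStep.mem_support_fiberMod_iff p A M) qA ξ hξq hξ qbA hqbA]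
  exact fibreDimAt_etale_comp (R := R) (A := A ⧸ J) (B := B ⧸ J.map (algebraMap A B)) qbB

end

end Groth.Agent.Lib.helper26.EtDim
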