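/-
Helper library (helper26): local fibre dimension is invariant under étale maps.
Part 4: étale maps `S → S₂` covering an elementary étale neighbourhood `(R, p) → (R₂, p₂)`.
-/
import Mathlib
import Groth.Agent.Lib.Helper26.EtDim3
import Groth.Agent.Lib.Helper3.BijRes4

set_option autoImplicit false
set_option linter.style.haveILetI false
set_option linter.unusedSectionVars false

namespace Groth.Agent.Lib.helper26.EtDim

open AlgebraicGeometry CategoryTheory TensorProduct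

universe u

attribute [local instance] Algebra.TensorProduct.rightAlgebra

section

variable {R R₂ : Type u} [CommRing R] [CommRing R₂] [Algebra R R₂] [Algebra.Etale R R₂]
  (p : Ideal R) [p.IsPrime] (p₂ : Ideal R₂) [p₂.IsPrime] [hp₂ : p₂.LiesOver p]
  (hκ : Function.Bijective (Ideal.ResidueField.mapₐ p p₂ (Algebra.ofId R R₂) hp₂.over))
  {S S₂ : Type u} [CommRing S] [CommRing S₂] [Algebra R S] [Algebra.FiniteType R S] [Algebra S S₂]
  [Algebra R₂ S₂] [Algebra R S₂] [IsScalarTower R S S₂] [IsScalarTower R R₂ S₂]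
  [Algebra.Etale S S₂]
  {N N₂ : Type u} [AddCommGroup N] [Module S N] [Module R N] [IsScalarTower R S N]
  [Module.Finite S N]
  [AddCommGroup N₂] [Module S₂ N₂] [Module R₂ N₂] [IsScalarTower R₂ S₂ N₂] [Module S N₂]
  [IsScalarTower S S₂ N₂] (f : N →ₗ[S] N₂) (hf : IsBaseChange S₂ f)

include hκ hf in
/-- **Invariance of the local dimension of the fibre support under elementary étale
localisation.** -/
theorem exists_localDim_eq_of_etale (q : Ideal S) [q.IsPrime] [hq : q.LiesOver p]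
    (q₂ : Ideal S₂) [q₂.IsPrime] [hq₂q : q₂.LiesOver q] [hq₂ : q₂.LiesOver p₂]
    (ξ : PrimeSpectrum (p.Fiber S))
    (hξ : ξ ∈ Module.support (p.Fiber S) (FlatCA.fiberMod p S N))
    (hξq : ξ.asIdeal = FlatCA.fiberIdeal p q) :
    ∃ (ξ₂ : PrimeSpectrum (p₂.Fiber S₂))
      (hξ₂ : ξ₂ ∈ Module.support (p₂.Fiber S₂) (FlatCA.fiberMod p₂ S₂ N₂)),
      ξ₂.asIdeal = FlatCA.fiberIdeal p₂ q₂ ∧
      FlatMor.localDim (Module.support (p₂.Fiber S₂) (FlatCA.fiberMod p₂ S₂ N₂)) ⟨ξ₂, hξ₂⟩ =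
        FlatMor.localDim (Module.support (p.Fiber S) (FlatCA.fiberMod p S N)) ⟨ξ, hξ⟩ := by
  -- the intermediate ring `S_b = R₂ ⊗[R] S`
  let φ : R₂ ⊗[R] S →ₐ[R₂] S₂ :=
    Algebra.TensorProduct.lift (Algebra.ofId R₂ S₂) (IsScalarTower.toAlgHom R S S₂)
      (fun _ _ => .all _ _)
  letI algSbS₂ : Algebra (R₂ ⊗[R] S) S₂ := φ.toRingHom.toAlgebra
  have hφ : ∀ x : R₂ ⊗[R] S, algebraMap (R₂ ⊗[R] S) S₂ x = φ x := fun _ => rfl
  haveI tw1 : IsScalarTower R₂ (R₂ ⊗[R] S) S₂ := IsScalarTower.of_algebraMap_eq fun r => by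
    rw [hφ, AlgHom.commutes]
  haveI tw2 : IsScalarTower S (R₂ ⊗[R] S) S₂ := IsScalarTower.of_algebraMap_eq fun s => by
    rw [hφ]
    show algebraMap S S₂ s = φ ((1 : R₂) ⊗ₜ[R] s)
    simp [φ]
  haveI : Algebra.IsPushout R S R₂ (R₂ ⊗[R] S) := Algebra.IsPushout.symm inferInstance
  haveI : Algebra.Etale S (R₂ ⊗[R] S) :=
    Algebra.Etale.of_equiv (Algebra.IsPushout.equiv R S R₂ (R₂ ⊗[R] S))
  haveI : Algebra.Etale (R₂ ⊗[R] S) S₂ := Algebra.Etale.of_restrictScalars S (R₂ ⊗[R] S) S₂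
  -- the intermediate module
  letI modSbN₂ : Module (R₂ ⊗[R] S) N₂ := Module.compHom N₂ (algebraMap (R₂ ⊗[R] S) S₂)
  haveI tw3 : IsScalarTower (R₂ ⊗[R] S) S₂ N₂ := ⟨fun x y z => by
    show (x • y) • z = (algebraMap (R₂ ⊗[R] S) S₂ x) • (y • z)
    rw [Algebra.smul_def, mul_smul]⟩
  haveI tw4 : IsScalarTower S (R₂ ⊗[R] S) N₂ := ⟨fun s x z => by
    show (algebraMap (R₂ ⊗[R] S) S₂ (s • x)) • z = s • ((algebraMap (R₂ ⊗[R] S) S₂ x) • z)
    rw [Algebra.smul_def, map_mul, mul_smul, ← IsScalarTower.algebraMap_apply S (R₂ ⊗[R] S) S₂,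
      algebraMap_smul]⟩
  have hbc : IsBaseChange (R₂ ⊗[R] S) (TensorProduct.mk S (R₂ ⊗[R] S) N 1) :=
    TensorProduct.isBaseChange S N (R₂ ⊗[R] S)
  let g : (R₂ ⊗[R] S) ⊗[S] N →ₗ[R₂ ⊗[R] S] N₂ := hbc.lift f
  have hg : IsBaseChange S₂ g := by
    apply IsBaseChange.of_comp hbc
    have : (g : (R₂ ⊗[R] S) ⊗[S] N →ₗ[S] N₂) ∘ₗ (TensorProduct.mk S (R₂ ⊗[R] S) N 1) = f :=
      hbc.lift_comp f
    rw [this]
    exact hf
  -- the intermediate prime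
  haveI hqbprime : (q₂.under (R₂ ⊗[R] S)).IsPrime := Ideal.IsPrime.under _ q₂
  haveI hq₂qb : q₂.LiesOver (q₂.under (R₂ ⊗[R] S)) := ⟨rfl⟩
  haveI hqbp₂ : (q₂.under (R₂ ⊗[R] S)).LiesOver p₂ := ⟨by
    rw [Ideal.under_under]
    exact hq₂.over⟩
  haveI hqbq : (q₂.under (R₂ ⊗[R] S)).LiesOver q := ⟨by
    rw [Ideal.under_under]
    exact hq₂q.over⟩
  -- step 1: from `S` to `S_b`
  obtain ⟨Ψ, hΨ⟩ := Groth.Agent.Lib.helper3.BijRes.exists_fiberEquiv p p₂ hκ S (R₂ ⊗[R] S)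
  haveI hprime : (FlatCA.fiberIdeal p₂ (q₂.under (R₂ ⊗[R] S))).IsPrime :=
    Groth.Agent.Lib.helper3.UnivInjAss.fiberIdeal_isPrime p₂ (q₂.under (R₂ ⊗[R] S))
  let ξb : PrimeSpectrum (p₂.Fiber (R₂ ⊗[R] S)) :=
    ⟨FlatCA.fiberIdeal p₂ (q₂.under (R₂ ⊗[R] S)), hprime⟩
  have hcomap : ξ.asIdeal = ξb.asIdeal.comap Ψ.toRingHom := by
    show ξ.asIdeal = (FlatCA.fiberIdeal p₂ (q₂.under (R₂ ⊗[R] S))).comap Ψ.toRingHom
    rw [Groth.Agent.Lib.helper3.BijRes.comap_fiberIdeal p p₂ Ψ hΨ (q₂.under (R₂ ⊗[R] S)), hξq]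
    congr 1
    exact hqbq.over
  have hξb : ξb ∈ Module.support (p₂.Fiber (R₂ ⊗[R] S))
      (FlatCA.fiberMod p₂ (R₂ ⊗[R] S) ((R₂ ⊗[R] S) ⊗[S] N)) := by
    rw [Groth.Agent.Lib.helper3.BijRes.mem_support_iff p p₂ (TensorProduct.mk S (R₂ ⊗[R] S) N 1)
      hbc Ψ hΨ ξb]
    have : PrimeSpectrum.homeomorphOfRingEquiv Ψ.symm ξb = ξ := by
      apply PrimeSpectrum.ext
      exact hcomap.symm
    rw [this]
    exact hξ
  have hstep1 := Groth.Agent.Lib.helper3.BijRes.localDim_support_eq p p₂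
    (TensorProduct.mk S (R₂ ⊗[R] S) N 1) hbc Ψ hΨ ξb hξb ξ hξ hcomap
  -- step 2: from `S_b` to `S₂`
  obtain ⟨ξ₂, hξ₂, hξ₂q, hstep2⟩ := localDim_support_etale p₂ g hg (q₂.under (R₂ ⊗[R] S)) q₂
    ξb hξb rfl
  exact ⟨ξ₂, hξ₂, hξ₂q, hstep2.trans hstep1⟩

end

end Groth.Agent.Lib.helper26.EtDim
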