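/-
Helper library (helper26): existence of complete dévissages after étale localisation (S1252).
Part 1: an elementary dévissage gives a one-step dévissage at the point over the étale
neighbourhoods.
-/
import Mathlib
import Groth.Agent.Lib.Helper26.DevEt1
import Groth.Agent.Lib.Helper26.EtDim4
import Groth.Agent.Lib.Helper3.Shrink1
import Groth.Agent.Lib.Helper3.OneStep2

set_option autoImplicit false
set_option linter.style.haveILetI false
set_option linter.unusedSectionVars false

namespace Groth.Agent.Lib.helper26.DevMain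

open TensorProduct AlgebraicGeometry

universe u

set_option maxHeartbeats 800000 in
theorem oneStep_of_data {R S : Type u} [CommRing R] [CommRing S] [Algebra R S]
    [Algebra.FiniteType R S]
    (N : Type u) [AddCommGroup N] [Module S N] [Module R N] [IsScalarTower R S N]
    [Module.Finite S N]
    (p : Ideal R) [p.IsPrime] (q : Ideal S) [q.IsPrime] [q.LiesOver p] (n : ℕ)
    (x : PrimeSpectrum (p.Fiber S)) (hxq : x.asIdeal = FlatCA.fiberIdeal p q)
    (hx : x ∈ Module.support (p.Fiber S) (FlatCA.fiberMod p S N))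
    (hn : FlatMor.localDim (Module.support (p.Fiber S) (FlatCA.fiberMod p S N)) ⟨x, hx⟩ = n)
    (R' S' : Type u) [CommRing R'] [CommRing S'] [Algebra R R'] [Algebra S S'] [Algebra R' S']
    [Algebra R S'] [IsScalarTower R R' S'] [IsScalarTower R S S']
    (p' : Ideal R') [p'.IsPrime] (q' : Ideal S') [q'.IsPrime]
    (hR' : FlatCA.IsEtaleNhd R R' p p') (hS' : FlatCA.IsEtaleNhd S S' q q') [q'.LiesOver p']
    (N' : Type u) [AddCommGroup N'] [Module S' N'] [Module S N'] [IsScalarTower S S' N']
    [Module R' N'] [IsScalarTower R' S' N']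
    (f : N →ₗ[S] N') (hf : IsBaseChange S' f)
    (C D G : Type u) [CommRing C] [CommRing D] [Algebra S' C] [Algebra R' C] [IsScalarTower R' S' C]
    [Algebra R' D] [Algebra D C] [IsScalarTower R' D C] [AddCommGroup G] [Module C G] [Module S' G]
    [IsScalarTower S' C G]
    (hsurj : Function.Surjective (algebraMap S' C)) (hfp : Algebra.FinitePresentation S' C)
    (iso : N' ≃ₗ[S'] G) (hfinDC : Module.Finite D C) (hfinCG : Module.Finite C G)
    (hsm : FlatCA.SmoothRelDim n R' D) (hgi : FlatCA.GeomIrredFibres R' D) :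
    Algebra.FiniteType R' S' ∧ Module.Finite S' N' ∧
    FlatCA.IsOneStepDevissage R' S' N' p' C D G n ∧
    ∃ (ξ : PrimeSpectrum (p'.Fiber S'))
      (hξ : ξ ∈ Module.support (p'.Fiber S') (FlatCA.fiberMod p' S' N')),
      ξ.asIdeal = FlatCA.fiberIdeal p' q' ∧
      FlatMor.localDim (Module.support (p'.Fiber S') (FlatCA.fiberMod p' S' N')) ⟨ξ, hξ⟩ = n := by
  obtain ⟨etR, hp'p, hbijR⟩ := hR'
  obtain ⟨etS, hq'q, hbijS⟩ := hS'
  haveI := etR
  haveI := etS
  haveI := hp'p
  haveI := hq'q
  haveI := hfinDC
  haveI := hfinCG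
  haveI hft' : Algebra.FiniteType R' S' := by
    haveI : Algebra.FiniteType S S' := inferInstance
    haveI : Algebra.FiniteType R S' := Algebra.FiniteType.trans (S := S) inferInstance inferInstance
    exact Algebra.FiniteType.of_restrictScalars_finiteType R R' S'
  haveI hfin' : Module.Finite S' N' := Module.Finite.equiv hf.equiv
  obtain ⟨ξ', hξ', hξ'q, hloc⟩ :=
    Groth.Agent.Lib.helper26.EtDim.exists_localDim_eq_of_etale p p' hbijR f hf q q' x hx hxq
  rw [hn] at hloc
  have hdim' : Module.supportDim (p'.Fiber S') (FlatCA.fiberMod p' S' N') = n := by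
    apply le_antisymm
    · exact Groth.Agent.Lib.helper26.DevEt.supportDim_le_of_finite p' N' G iso hsurj n hsm
    · haveI : Module.Finite (p'.Fiber S') (FlatCA.fiberMod p' S' N') :=
        Groth.Agent.Lib.helper3.OneStep.finite_fiberMod p' N'
      rw [← Groth.Agent.Lib.helper3.Shrink.topologicalKrullDim_support, ← hloc]
      exact Groth.Agent.Lib.helper3.TopDim.localDim_le_dim _
  exact ⟨hft', hfin', ⟨⟨iso⟩, hsurj, hfp, hfinDC, hfinCG, hsm, hgi, hdim'⟩, ξ', hξ', hξ'q, hloc⟩

end Groth.Agent.Lib.helper26.DevMain
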