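/-
Helper library (helper26): existence of complete dévissages after étale localisation (S1252).
Part 8: Case B — from the main conclusion for the cokernel over the smooth algebra to the key
conclusion.
-/
import Mathlib
import Groth.Agent.Lib.Helper26.DevMain7

set_option autoImplicit false
set_option linter.style.haveILetI false
set_option linter.unusedSectionVars false

namespace Groth.Agent.Lib.helper26.DevMain

open TensorProduct AlgebraicGeometry

universe u

set_option maxHeartbeats 1600000 in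
theorem keyConcl_of_mainConcl {R D : Type u} [CommRing R] [CommRing D] [Algebra R D] (n : ℕ)
    (hsm : FlatCA.SmoothRelDim n R D)
    (K : Type u) [AddCommGroup K] [Module D K] [Module.Finite D K]
    (p : Ideal R) [p.IsPrime] (y : Ideal D) [y.IsPrime] [y.LiesOver p]
    (hPT : FlatCA.PurelyTranscendental p y)
    (hM : MainConcl R D K p y) : KeyConcl R D K p y := by
  obtain ⟨R₂, D₂, _, _, algRR₂, algDD₂, algR₂D₂, algRD₂, twRR₂D₂, twRDD₂, p₂, y₂, hp₂, hy₂, hEtR₂,
    hEtD₂, hy₂p₂, K₂, _, modD₂K₂, modDK₂, twDD₂K₂, f₂, hf₂, hK₂⟩ := hM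
  haveI : Algebra.Etale R R₂ := hEtR₂.1
  haveI : Algebra.Etale D D₂ := hEtD₂.1
  haveI : Algebra.Smooth R D := Groth.Agent.Lib.helper3.OneStep.algebra_smooth n hsm
  have hsm₂ : FlatCA.SmoothRelDim n R₂ D₂ :=
    Groth.Agent.Lib.helper26.DevEt.smoothRelDim_of_etale_etale (R := R) (R' := R₂) (D := D)
      (D' := D₂) n hsm
  have hPT₂ : FlatCA.PurelyTranscendental p₂ y₂ :=
    purelyTranscendental_of_isEtaleNhd p p₂ D D₂ y y₂ hEtR₂ hEtD₂ hPT
  haveI : Algebra.FiniteType R₂ D₂ := by
    haveI : Algebra.FiniteType R D := inferInstance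
    haveI : Algebra.FiniteType D D₂ := inferInstance
    haveI : Algebra.FiniteType R D₂ := Algebra.FiniteType.trans (S := D) inferInstance inferInstance
    exact Algebra.FiniteType.of_restrictScalars_finiteType R R₂ D₂
  haveI : Module.Finite D₂ K₂ := Module.Finite.equiv hf₂.equiv
  obtain ⟨R'', D'', _, _, algR₂R'', algD₂D'', algR''D'', algR₂D'', twR₂R''D'', twR₂D₂D'', p'', y'',
    hp'', hy'', hy''p'', hEtR'', hEtD'', hgi'', K'', _, modD''K'', modD₂K'', twD₂D''K'', f'', hf'',
    hK''⟩ := exists_good_nbhd R₂ D₂ K₂ p₂ y₂ n hsm₂ hPT₂ hK₂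
  -- composite structures
  letI algRR'' : Algebra R R'' := ((algebraMap R₂ R'').comp (algebraMap R R₂)).toAlgebra
  haveI twRR₂R'' : IsScalarTower R R₂ R'' := IsScalarTower.of_algebraMap_eq fun _ => rfl
  letI algDD'' : Algebra D D'' := ((algebraMap D₂ D'').comp (algebraMap D D₂)).toAlgebra
  haveI twDD₂D'' : IsScalarTower D D₂ D'' := IsScalarTower.of_algebraMap_eq fun _ => rfl
  letI algRD'' : Algebra R D'' := ((algebraMap R₂ D'').comp (algebraMap R R₂)).toAlgebra
  haveI twRR₂D'' : IsScalarTower R R₂ D'' := IsScalarTower.of_algebraMap_eq fun _ => rfl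
  haveI twRR''D'' : IsScalarTower R R'' D'' := IsScalarTower.of_algebraMap_eq fun a => by
    show algebraMap R₂ D'' (algebraMap R R₂ a) =
      algebraMap R'' D'' (algebraMap R₂ R'' (algebraMap R R₂ a))
    rw [← IsScalarTower.algebraMap_apply R₂ R'' D'']
  haveI twRDD'' : IsScalarTower R D D'' := IsScalarTower.of_algebraMap_eq fun a => by
    show algebraMap R₂ D'' (algebraMap R R₂ a) =
      algebraMap D₂ D'' (algebraMap D D₂ (algebraMap R D a))
    rw [← IsScalarTower.algebraMap_apply R D D₂, IsScalarTower.algebraMap_apply R R₂ D₂,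
      ← IsScalarTower.algebraMap_apply R₂ D₂ D'']
  have hEtR : FlatCA.IsEtaleNhd R R'' p p'' := isEtaleNhd_trans p p₂ p'' hEtR₂ hEtR''
  have hEtD : FlatCA.IsEtaleNhd D D'' y y'' := isEtaleNhd_trans y y₂ y'' hEtD₂ hEtD''
  -- the module
  letI modDK'' : Module D K'' := Module.compHom K'' (algebraMap D D₂)
  haveI twDD₂K'' : IsScalarTower D D₂ K'' := IsScalarTower.of_algebraMap_smul fun _ _ => rfl
  haveI twDD''K'' : IsScalarTower D D'' K'' := IsScalarTower.of_algebraMap_smul fun d x => by
    show algebraMap D₂ D'' (algebraMap D D₂ d) • x = algebraMap D D₂ d • x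
    rw [algebraMap_smul]
  have hbc : IsBaseChange D'' ((f''.restrictScalars D).comp f₂) := IsBaseChange.comp hf₂ hf''
  exact ⟨R'', D'', inferInstance, inferInstance, algRR'', algDD'', algR''D'', algRD'', twRR''D'',
    twRDD'', p'', y'', hp'', hy'', hy''p'', hEtR, hEtD, hgi'', K'', inferInstance, modD''K'',
    modDK'', twDD''K'', _, hbc, Or.inr hK''⟩

end Groth.Agent.Lib.helper26.DevMain
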