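/-
Helper library (helper26): assembling complete dévissages (towards S1252).
Part 1: the local dimension datum of the first step: for a one-step dévissage `(C, D, G, n)` the
support of the fibre module of `G` over `D` is the whole fibre of `D`, of local dimension `n`
everywhere.
-/
import Mathlib
import Groth.Agent.Lib.Helper3.OneStep2
import Groth.Agent.Lib.Helper3.FibreDimBC
import Groth.Agent.Lib.Helper26.Purity1
import Groth.Agent.Lib.Helper3.UnivInjAss1

set_option autoImplicit false
set_option linter.style.haveILetI false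
set_option linter.unusedSectionVars false

namespace Groth.Agent.Lib.helper26.DevCons

open TensorProduct AlgebraicGeometry

universe u

theorem locDim_of_oneStep {R S : Type u} [CommRing R] [CommRing S] [Algebra R S]
    (N : Type u) [AddCommGroup N] [Module S N] [Module R N] [IsScalarTower R S N]
    [Module.Finite S N] (p : Ideal R) [p.IsPrime]
    (C D G : Type u) [CommRing C] [CommRing D] [Algebra S C] [Algebra R C] [IsScalarTower R S C]
    [Algebra R D] [Algebra D C] [IsScalarTower R D C] [AddCommGroup G] [Module C G] [Module S G]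
    [IsScalarTower S C G] [Module D G] [IsScalarTower D C G] [Module R G] [IsScalarTower R D G]
    (n : ℕ) (h : FlatCA.IsOneStepDevissage R S N p C D G n)
    (y : Ideal D) [y.IsPrime] [hy : y.LiesOver p] :
    ∃ (x : PrimeSpectrum (p.Fiber D))
      (hx : x ∈ Module.support (p.Fiber D) (FlatCA.fiberMod p D G)),
      x.asIdeal = FlatCA.fiberIdeal p y ∧
      FlatMor.localDim (Module.support (p.Fiber D) (FlatCA.fiberMod p D G)) ⟨x, hx⟩ = n := by
  obtain ⟨⟨e⟩, hsurj, hfp, hfinDC, hfinCG, hsm, hgi, hdim⟩ := h
  haveI := hfinDC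
  haveI := hfinCG
  haveI : Module.Finite D G := Module.Finite.trans C G
  haveI : IsDomain (p.Fiber D) := Groth.Agent.Lib.helper3.OneStep.isDomain_fiber p n hsm hgi
  have hdimD : ringKrullDim (p.Fiber D) ≤ (n : WithBot ℕ∞) :=
    Groth.Agent.Lib.helper3.OneStep.ringKrullDim_fiber_le p n hsm
  -- the support dimension over `D` is at least `n`
  have h2 : (n : WithBot ℕ∞) ≤ Module.supportDim (p.Fiber D) (FlatCA.fiberMod p D G) := by
    haveI : Module.Finite S C := Module.Finite.of_surjective (Algebra.linearMap S C) hsurj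
    haveI : Module.Finite S G := Module.Finite.trans C G
    rw [← hdim, Groth.Agent.Lib.helper3.OneStep.supportDim_fiberMod_eq p S N,
      Groth.Agent.Lib.helper3.OneStep.supportDim_fiberMod_eq p D G]
    have hT : Groth.Agent.Lib.helper3.OneStep.T p S N = Groth.Agent.Lib.helper3.OneStep.T p S G := by
      unfold Groth.Agent.Lib.helper3.OneStep.T
      rw [e.annihilator_eq]
    rw [hT]
    exact Groth.Agent.Lib.helper3.OneStep.krullDim_T_le p G hsurj
  -- hence the support is everything
  have hall : ∀ (P : Ideal D) [P.IsPrime] [P.LiesOver p], Module.annihilator D G ≤ P := by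
    intro P _ _
    by_contra hP
    have h3 := Groth.Agent.Lib.helper3.OneStep.supportDim_succ_le p G P hP
    have h4 : (n : WithBot ℕ∞) + 1 ≤ (n : WithBot ℕ∞) :=
      (add_le_add_left h2 1).trans (h3.trans hdimD)
    have h5 : ((n + 1 : ℕ) : WithBot ℕ∞) ≤ ((n : ℕ) : WithBot ℕ∞) := by exact_mod_cast h4
    have h6 : n + 1 ≤ n := by exact_mod_cast h5
    omega
  have hsupp : ∀ Q : PrimeSpectrum (p.Fiber D),
      Q ∈ Module.support (p.Fiber D) (FlatCA.fiberMod p D G) := by
    intro Q
    rw [Groth.Agent.Lib.helper3.OneStep.mem_support_fiberMod_iff p D G Q]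
    haveI : (Q.asIdeal.comap (Algebra.TensorProduct.includeRight (R := R) (A := p.ResidueField)
        (B := D))).LiesOver p :=
      ⟨(Groth.Agent.Lib.helper3.OneStep.under_comap_eq p D Q.asIdeal).symm⟩
    exact hall _
  haveI hprime : (FlatCA.fiberIdeal p y).IsPrime :=
    Groth.Agent.Lib.helper3.UnivInjAss.fiberIdeal_isPrime p y
  let x : PrimeSpectrum (p.Fiber D) := ⟨FlatCA.fiberIdeal p y, hprime⟩
  refine ⟨x, hsupp x, rfl, ?_⟩
  -- the local dimension
  have huniv : Module.support (p.Fiber D) (FlatCA.fiberMod p D G) = Set.univ :=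
    Set.eq_univ_of_forall hsupp
  let e1 : ↥(Module.support (p.Fiber D) (FlatCA.fiberMod p D G)) ≃ₜ PrimeSpectrum (p.Fiber D) :=
    (Homeomorph.setCongr huniv).trans (Homeomorph.Set.univ _)
  rw [Groth.Agent.Lib.helper3.FibreDimBC.localDim_homeo e1 ⟨x, hsupp x⟩]
  have hx1 : e1 ⟨x, hsupp x⟩ = x := rfl
  rw [hx1]
  have hcomap : x.asIdeal.comap (Algebra.TensorProduct.includeRight.toRingHom) = y :=
    Groth.Agent.Lib.helper26.Purity.comap_fiberIdeal p y
  have h7 := Groth.Agent.Lib.helper3.OneStep.localDim_aux (R := R) (D := D) ⟨y, inferInstance⟩ p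
    hy.over.symm x hcomap
  rw [h7]
  haveI : SmoothOfRelativeDimension n (Spec.map (CommRingCat.ofHom (algebraMap R D))) := hsm
  exact Groth.Agent.Lib.helper5.SmoothFibreDim.fibreDimAt_of_smoothOfRelativeDimension n _ _

end Groth.Agent.Lib.helper26.DevCons
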