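/-
Helper library (helper26): assembling complete dévissages (towards S1252).
Part 2: a one-step dévissage at a point with `α` surjective is a complete dévissage of length one.
-/
import Mathlib
import Groth.Agent.Lib.Helper26.DevCons1

set_option autoImplicit false
set_option linter.style.haveILetI false
set_option linter.unusedSectionVars false

namespace Groth.Agent.Lib.helper26.DevCons

open TensorProduct AlgebraicGeometry

universe u

theorem hasCompleteDevissageAt_of_surjective
    (R S : Type u) [CommRing R] [CommRing S] [Algebra R S]
    (N : Type u) [AddCommGroup N] [Module S N] [Module R N] [IsScalarTower R S N]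
    [Module.Finite S N]
    (p : Ideal R) [p.IsPrime] (q : Ideal S) [q.IsPrime]
    (C D G : Type u) [CommRing C] [CommRing D] [Algebra S C] [Algebra R C] [IsScalarTower R S C]
    [Algebra R D] [Algebra D C] [IsScalarTower R D C] [AddCommGroup G] [Module C G] [Module S G]
    [IsScalarTower S C G] [Module D G] [IsScalarTower D C G] [Module R G] [IsScalarTower R D G]
    (n : ℕ) (h : FlatCA.IsOneStepDevissage R S N p C D G n)
    (z : Ideal C) [z.IsPrime] (y : Ideal D) [y.IsPrime] [hzq : z.LiesOver q] [hzy : z.LiesOver y]
    [hyp : y.LiesOver p]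
    (h3 : ∀ (z₁ : Ideal C) [z₁.IsPrime], z₁.LiesOver y → z₁ = z)
    (h4 : FlatCA.PurelyTranscendental p y)
    [hpD : (p.map (algebraMap R D)).IsPrime]
    (r : ℕ) (α : (Fin r → D) →ₗ[D] G)
    (hα : Function.Bijective (α.baseChange (p.map (algebraMap R D)).ResidueField))
    (hsurjα : Function.Surjective α) :
    FlatCA.HasCompleteDevissageAt R S N p q := by
  have hloc := locDim_of_oneStep N p C D G n h y
  obtain ⟨⟨e⟩, hsurj, hfp, hfinDC, hfinCG, hsm, hgi, hdim⟩ := h
  have hsmooth : Algebra.Smooth R D := Groth.Agent.Lib.helper3.OneStep.algebra_smooth n hsm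
  let 𝒟 : FlatCA.CompleteDevissage R S N p :=
    { n := 1
      pos := Nat.one_pos
      A := fun _ => C
      B := fun _ => D
      M := fun _ => G
      r := fun _ => r
      hp := fun _ => hpD
      α := fun _ => α
      surjSA := hsurj
      fpSA := hfp
      surjBA' := fun i hi => absurd hi (by omega)
      fpBA' := fun i hi => absurd hi (by omega)
      finiteBA := fun _ _ => hfinDC
      smooth := fun _ _ => hsmooth
      geomIrred := fun _ _ => hgi
      finiteM := fun _ _ => hfinCG
      isoN := e
      isoCoker := fun i hi => absurd hi (by omega)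
      fibreIso := fun _ _ => hα
      cokerLast := hsurjα }
  let 𝒜 : FlatCA.CompleteDevissageAt R S N p q 𝒟 :=
    { qB := fun _ => y
      qA := fun _ => z
      hqB := fun _ => inferInstance
      hqA := fun _ => inferInstance
      overB := fun _ => hyp
      overA := fun _ => hzy
      pureTrans := fun _ _ => h4
      uniq := fun _ _ Q _ hQ => h3 Q hQ
      q0 := hzq.over.symm
      qStep := fun i hi => absurd hi (by
        show ¬ i + 1 < 1
        omega)
      d := fun _ => n
      relDim := fun _ _ => hsm
      locDim := fun _ _ => hloc }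
  exact ⟨𝒟, ⟨𝒜⟩⟩

end Groth.Agent.Lib.helper26.DevCons
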