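/-
Helper library (helper26): étale algebras lift along arbitrary surjections of rings.
-/
import Mathlib
import Groth.Agent.Lib.Helper8.EtaleLift

set_option autoImplicit false
set_option linter.style.haveILetI false

namespace Groth.Agent.Lib.helper26.EtLiftSurj

open TensorProduct

universe u

attribute [local instance] Algebra.TensorProduct.rightAlgebra

/-- **Étale algebras lift along surjections**: for `A → Ab` surjective and `Bb` étale over `Ab`
there is an étale `A`-algebra `B` with a surjection `B → Bb` exhibiting `Bb` as `Ab ⊗[A] B`. -/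
theorem exists_etale_lift_of_surjective (A Ab Bb : Type u) [CommRing A] [CommRing Ab] [CommRing Bb]
    [Algebra A Ab] [Algebra Ab Bb] [Algebra A Bb] [IsScalarTower A Ab Bb] [Algebra.Etale Ab Bb]
    (hsurj : Function.Surjective (algebraMap A Ab)) :
    ∃ (B : Type u) (_ : CommRing B) (_ : Algebra A B) (_ : Algebra B Bb) (_ : IsScalarTower A B Bb),
      Algebra.Etale A B ∧ Algebra.IsPushout A Ab B Bb ∧ Function.Surjective (algebraMap B Bb) := by
  set I : Ideal A := RingHom.ker (algebraMap A Ab) with hI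
  let e : (A ⧸ I) ≃ₐ[A] Ab := Ideal.quotientKerAlgEquivOfSurjective (f := Algebra.ofId A Ab) hsurj
  have he : ∀ a : A, e (Ideal.Quotient.mk I a) = algebraMap A Ab a := fun a => rfl
  letI algQAb : Algebra (A ⧸ I) Ab := (e : (A ⧸ I) →+* Ab).toAlgebra
  letI algQBb : Algebra (A ⧸ I) Bb := ((algebraMap Ab Bb).comp (e : (A ⧸ I) →+* Ab)).toAlgebra
  haveI tw1 : IsScalarTower (A ⧸ I) Ab Bb := IsScalarTower.of_algebraMap_eq fun _ => rfl
  haveI tw2 : IsScalarTower A (A ⧸ I) Ab := IsScalarTower.of_algebraMap_eq fun a => (he a).symm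
  haveI tw3 : IsScalarTower A (A ⧸ I) Bb := IsScalarTower.of_algebraMap_eq fun a => by
    rw [IsScalarTower.algebraMap_apply A Ab Bb, IsScalarTower.algebraMap_apply (A ⧸ I) Ab Bb]
    congr 1
  haveI : Algebra.Etale (A ⧸ I) Ab := by
    let e' : (A ⧸ I) ≃ₐ[A ⧸ I] Ab := AlgEquiv.ofRingEquiv (f := e.toRingEquiv) (fun _ => rfl)
    exact Algebra.Etale.of_equiv e'
  haveI : Algebra.Etale (A ⧸ I) Bb := Algebra.Etale.comp (A ⧸ I) Ab Bb
  obtain ⟨B, _, _, hEt, ⟨ε⟩⟩ := Groth.Agent.Lib.helper8.EtLift.exists_etale_lift A I Bb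
  letI algBBb : Algebra B Bb := ((ε : ((A ⧸ I) ⊗[A] B) →+* Bb).comp
    (algebraMap B ((A ⧸ I) ⊗[A] B))).toAlgebra
  have hBBb : ∀ b : B, algebraMap B Bb b = ε ((1 : A ⧸ I) ⊗ₜ[A] b) := fun _ => rfl
  haveI tw4 : IsScalarTower A B Bb := IsScalarTower.of_algebraMap_eq fun a => by
    rw [hBBb, IsScalarTower.algebraMap_apply A (A ⧸ I) Bb, ← ε.commutes]
    congr 1
    have h1 : (algebraMap A (A ⧸ I) a) ⊗ₜ[A] (1 : B) = (1 : A ⧸ I) ⊗ₜ[A] (algebraMap A B a) := by
      rw [Algebra.algebraMap_eq_smul_one (R := A) (A := A ⧸ I) a, TensorProduct.smul_tmul,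
        ← Algebra.algebraMap_eq_smul_one]
    rw [Algebra.TensorProduct.algebraMap_apply, Algebra.algebraMap_self_apply]
    exact h1
  have hall : ∀ t : (A ⧸ I) ⊗[A] B, ∃ b : B, t = (1 : A ⧸ I) ⊗ₜ[A] b := by
    intro t
    induction t using TensorProduct.induction_on with
    | zero => exact ⟨0, (TensorProduct.tmul_zero _ _).symm⟩
    | tmul x b =>
      obtain ⟨a, rfl⟩ := Ideal.Quotient.mk_surjective x
      refine ⟨a • b, ?_⟩
      rw [TensorProduct.tmul_smul, TensorProduct.smul_tmul', ← Algebra.algebraMap_eq_smul_one]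
      rfl
    | add x y hx hy =>
      obtain ⟨b₁, rfl⟩ := hx
      obtain ⟨b₂, rfl⟩ := hy
      exact ⟨b₁ + b₂, (TensorProduct.tmul_add _ _ _).symm⟩
  have hsurjB : Function.Surjective (algebraMap B Bb) := by
    intro x
    obtain ⟨b, hb⟩ := hall (ε.symm x)
    refine ⟨b, ?_⟩
    rw [hBBb, ← hb, AlgEquiv.apply_symm_apply]
  refine ⟨B, inferInstance, inferInstance, algBBb, tw4, hEt, ?_, hsurjB⟩
  -- the pushout
  let E₀ : Ab ⊗[A] B ≃ₐ[A] Bb :=
    (Algebra.TensorProduct.congr e.symm (AlgEquiv.refl : B ≃ₐ[A] B)).trans (ε.restrictScalars A)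
  have hE₀ : ∀ (x : Ab) (b : B), E₀ (x ⊗ₜ[A] b) = ε (e.symm x ⊗ₜ[A] b) := fun x b => rfl
  let E : Ab ⊗[A] B ≃ₗ[Ab] Bb :=
    { E₀.toLinearEquiv with
      map_smul' := fun x t => by
        obtain ⟨a, rfl⟩ := hsurj x
        simp only [AlgEquiv.toLinearEquiv_toLinearMap, AddHom.toFun_eq_coe, LinearMap.coe_toAddHom,
          AlgEquiv.toLinearMap_apply, RingHom.id_apply]
        rw [algebraMap_smul, algebraMap_smul, map_smul] }
  constructor
  refine IsBaseChange.of_equiv E fun b => ?_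
  show E₀ ((1 : Ab) ⊗ₜ[A] b) = algebraMap B Bb b
  rw [hE₀, map_one, hBBb]

end Groth.Agent.Lib.helper26.EtLiftSurj
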