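/-
Helper library (helper26): étale localisation of a one-step dévissage (towards S12245).
Part 2: lifting the étale map `C → C'' = D'' ⊗[D] C` along the surjection `S → C`.
-/
import Mathlib
import Groth.Agent.Lib.Helper26.EtLiftSurj

set_option autoImplicit false
set_option linter.style.haveILetI false
set_option linter.unusedSectionVars false

namespace Groth.Agent.Lib.helper26.DevEt

open TensorProduct

universe u

attribute [local instance] Algebra.TensorProduct.rightAlgebra

set_option maxHeartbeats 800000 in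
/-- **Lifting the étale localisation to `S`.**  `S → C` a finitely presented surjection of
`R`-algebras, `D → C` a map of `R`-algebras, `R → R''` and `D → D''` étale with `D''` an
`R''`-algebra compatibly, `C'' = D'' ⊗[D] C`.  Then there is an étale `S`-algebra `S''`, which is
an `R''`-algebra, with a finitely presented surjection `S'' → C''` such that
`C'' = S'' ⊗[S] C`. -/
theorem exists_etale_lift_pushout
    {R S C D : Type u} [CommRing R] [CommRing S] [CommRing C] [CommRing D]
    [Algebra R S] [Algebra R C] [Algebra S C] [IsScalarTower R S C] [Algebra R D] [Algebra D C]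
    [IsScalarTower R D C]
    (hsurj : Function.Surjective (algebraMap S C)) [Algebra.FinitePresentation S C]
    {R'' D'' C'' : Type u} [CommRing R''] [CommRing D''] [CommRing C'']
    [Algebra R R''] [Algebra.Etale R R''] [Algebra D D''] [Algebra.Etale D D''] [Algebra R'' D'']
    [Algebra R D''] [IsScalarTower R R'' D''] [IsScalarTower R D D'']
    [Algebra C C''] [Algebra D'' C''] [Algebra D C''] [Algebra R'' C''] [IsScalarTower D D'' C'']
    [IsScalarTower D C C''] [IsScalarTower R'' D'' C''] [Algebra.IsPushout D D'' C C''] :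
    ∃ (S'' : Type u) (_ : CommRing S'') (_ : Algebra S S'') (_ : Algebra R'' S'')
      (_ : Algebra R S'') (_ : IsScalarTower R S S'') (_ : IsScalarTower R R'' S'')
      (_ : Algebra S'' C'') (_ : Algebra S C'') (_ : IsScalarTower S S'' C'')
      (_ : IsScalarTower S C C'') (_ : IsScalarTower R'' S'' C''),
      Algebra.Etale S S'' ∧ Function.Surjective (algebraMap S'' C'') ∧
        Algebra.FinitePresentation S'' C'' ∧ Algebra.IsPushout S S'' C C'' := by
  -- `R`- and `S`-algebra structures on `C''`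
  letI algRC'' : Algebra R C'' := ((algebraMap C C'').comp (algebraMap R C)).toAlgebra
  haveI twRCC'' : IsScalarTower R C C'' := IsScalarTower.of_algebraMap_eq fun _ => rfl
  letI algSC'' : Algebra S C'' := ((algebraMap C C'').comp (algebraMap S C)).toAlgebra
  haveI twSCC'' : IsScalarTower S C C'' := IsScalarTower.of_algebraMap_eq fun _ => rfl
  haveI twRSC'' : IsScalarTower R S C'' := IsScalarTower.of_algebraMap_eq fun r => by
    rw [IsScalarTower.algebraMap_apply R C C'', IsScalarTower.algebraMap_apply S C C'',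
      ← IsScalarTower.algebraMap_apply R S C]
  haveI twRR''C'' : IsScalarTower R R'' C'' := IsScalarTower.of_algebraMap_eq fun r => by
    rw [IsScalarTower.algebraMap_apply R C C'', IsScalarTower.algebraMap_apply R D C,
      ← IsScalarTower.algebraMap_apply D C C'', IsScalarTower.algebraMap_apply D D'' C'',
      ← IsScalarTower.algebraMap_apply R D D'', IsScalarTower.algebraMap_apply R R'' D'',
      ← IsScalarTower.algebraMap_apply R'' D'' C'']
  -- the map `S_b = R'' ⊗[R] S → C''`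
  let ψ : R'' ⊗[R] S →ₐ[R''] C'' :=
    Algebra.TensorProduct.lift (Algebra.ofId R'' C'') (IsScalarTower.toAlgHom R S C'')
      (fun _ _ => .all _ _)
  letI algSbC'' : Algebra (R'' ⊗[R] S) C'' := ψ.toRingHom.toAlgebra
  have hψ : ∀ x : R'' ⊗[R] S, algebraMap (R'' ⊗[R] S) C'' x = ψ x := fun _ => rfl
  haveI twR''SbC'' : IsScalarTower R'' (R'' ⊗[R] S) C'' :=
    IsScalarTower.of_algebraMap_eq (R := R'') (S := R'' ⊗[R] S) (A := C'') fun r => by
    rw [hψ, AlgHom.commutes]
  haveI twSSbC'' : IsScalarTower S (R'' ⊗[R] S) C'' :=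
    IsScalarTower.of_algebraMap_eq (R := S) (S := R'' ⊗[R] S) (A := C'') fun s => by
    rw [hψ]
    show algebraMap S C'' s = ψ ((1 : R'') ⊗ₜ[R] s)
    simp [ψ]
  -- the map `C_b = S_b ⊗[S] C → C''`
  let χ : (R'' ⊗[R] S) ⊗[S] C →ₐ[R'' ⊗[R] S] C'' :=
    Algebra.TensorProduct.lift (Algebra.ofId (R'' ⊗[R] S) C'') (IsScalarTower.toAlgHom S C C'')
      (fun _ _ => .all _ _)
  letI algCbC'' : Algebra ((R'' ⊗[R] S) ⊗[S] C) C'' := χ.toRingHom.toAlgebra
  have hχ : ∀ x : (R'' ⊗[R] S) ⊗[S] C, algebraMap ((R'' ⊗[R] S) ⊗[S] C) C'' x = χ x := fun _ => rfl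
  haveI twSbCbC'' : IsScalarTower (R'' ⊗[R] S) ((R'' ⊗[R] S) ⊗[S] C) C'' :=
    IsScalarTower.of_algebraMap_eq (R := R'' ⊗[R] S) (S := (R'' ⊗[R] S) ⊗[S] C) (A := C'')
      fun r => by
      rw [hχ, AlgHom.commutes]
  haveI twCCbC'' : IsScalarTower C ((R'' ⊗[R] S) ⊗[S] C) C'' :=
    IsScalarTower.of_algebraMap_eq (R := C) (S := (R'' ⊗[R] S) ⊗[S] C) (A := C'') fun c => by
      rw [hχ]
      show algebraMap C C'' c = χ ((1 : R'' ⊗[R] S) ⊗ₜ[S] c)
      simp [χ]
  -- étaleness
  haveI : Algebra.IsPushout R S R'' (R'' ⊗[R] S) := Algebra.IsPushout.symm inferInstance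
  haveI etSSb : Algebra.Etale S (R'' ⊗[R] S) :=
    Algebra.Etale.of_equiv (Algebra.IsPushout.equiv R S R'' (R'' ⊗[R] S))
  haveI : Algebra.IsPushout S C (R'' ⊗[R] S) ((R'' ⊗[R] S) ⊗[S] C) :=
    Algebra.IsPushout.symm inferInstance
  haveI etCCb : Algebra.Etale C ((R'' ⊗[R] S) ⊗[S] C) :=
    Algebra.Etale.of_equiv (Algebra.IsPushout.equiv S C (R'' ⊗[R] S) ((R'' ⊗[R] S) ⊗[S] C))
  haveI : Algebra.IsPushout D C D'' C'' := Algebra.IsPushout.symm inferInstance
  haveI etCC'' : Algebra.Etale C C'' :=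
    Algebra.Etale.of_equiv (Algebra.IsPushout.equiv D C D'' C'')
  haveI etCbC'' : Algebra.Etale ((R'' ⊗[R] S) ⊗[S] C) C'' :=
    Algebra.Etale.of_restrictScalars C ((R'' ⊗[R] S) ⊗[S] C) C''
  -- surjectivity of `S_b → C_b`
  have hsurjb : Function.Surjective (algebraMap (R'' ⊗[R] S) ((R'' ⊗[R] S) ⊗[S] C)) := by
    intro x
    obtain ⟨a, ha⟩ := Algebra.TensorProduct.includeLeft_surjective (R := S) (T := C)
      (R'' ⊗[R] S) (R'' ⊗[R] S) hsurj x
    exact ⟨a, ha⟩
  -- the lift
  obtain ⟨S'', _, _, algS''C'', twSbS''C'', etSbS'', hpo, hsurj''⟩ :=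
    Groth.Agent.Lib.helper26.EtLiftSurj.exists_etale_lift_of_surjective (R'' ⊗[R] S)
      ((R'' ⊗[R] S) ⊗[S] C) C'' hsurjb
  letI := algS''C''
  haveI := twSbS''C''
  haveI := etSbS''
  letI algSS'' : Algebra S S'' :=
    ((algebraMap (R'' ⊗[R] S) S'').comp (algebraMap S (R'' ⊗[R] S))).toAlgebra
  haveI twSSbS'' : IsScalarTower S (R'' ⊗[R] S) S'' :=
    IsScalarTower.of_algebraMap_eq (R := S) (S := R'' ⊗[R] S) (A := S'') fun _ => rfl
  letI algR''S'' : Algebra R'' S'' :=
    ((algebraMap (R'' ⊗[R] S) S'').comp (algebraMap R'' (R'' ⊗[R] S))).toAlgebra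
  haveI twR''SbS'' : IsScalarTower R'' (R'' ⊗[R] S) S'' :=
    IsScalarTower.of_algebraMap_eq (R := R'') (S := R'' ⊗[R] S) (A := S'') fun _ => rfl
  letI algRS'' : Algebra R S'' := ((algebraMap S S'').comp (algebraMap R S)).toAlgebra
  haveI twRSS'' : IsScalarTower R S S'' := IsScalarTower.of_algebraMap_eq fun _ => rfl
  haveI twRR''S'' : IsScalarTower R R'' S'' :=
    IsScalarTower.of_algebraMap_eq (R := R) (S := R'') (A := S'') fun r => by
    rw [IsScalarTower.algebraMap_apply R S S'', IsScalarTower.algebraMap_apply S (R'' ⊗[R] S) S'',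
      ← IsScalarTower.algebraMap_apply R S (R'' ⊗[R] S),
      IsScalarTower.algebraMap_apply R R'' (R'' ⊗[R] S),
      ← IsScalarTower.algebraMap_apply R'' (R'' ⊗[R] S) S'']
  haveI twSS''C'' : IsScalarTower S S'' C'' :=
    IsScalarTower.of_algebraMap_eq (R := S) (S := S'') (A := C'') fun s => by
    rw [IsScalarTower.algebraMap_apply S (R'' ⊗[R] S) C'',
      IsScalarTower.algebraMap_apply (R'' ⊗[R] S) S'' C'',
      ← IsScalarTower.algebraMap_apply S (R'' ⊗[R] S) S'']
  haveI twR''S''C'' : IsScalarTower R'' S'' C'' :=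
    IsScalarTower.of_algebraMap_eq (R := R'') (S := S'') (A := C'') fun r => by
    rw [IsScalarTower.algebraMap_apply R'' (R'' ⊗[R] S) C'',
      IsScalarTower.algebraMap_apply (R'' ⊗[R] S) S'' C'',
      ← IsScalarTower.algebraMap_apply R'' (R'' ⊗[R] S) S'']
  haveI etSS'' : Algebra.Etale S S'' := Algebra.Etale.comp S (R'' ⊗[R] S) S''
  -- finite presentation
  haveI : Algebra.FinitePresentation (R'' ⊗[R] S) C'' :=
    Algebra.FinitePresentation.trans (R'' ⊗[R] S) ((R'' ⊗[R] S) ⊗[S] C) C''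
  have hfp : Algebra.FinitePresentation S'' C'' :=
    Algebra.FinitePresentation.of_restrict_scalars_finitePresentation (R'' ⊗[R] S) S'' C''
  -- the pushout
  haveI twSCbC'' : IsScalarTower S ((R'' ⊗[R] S) ⊗[S] C) C'' :=
    IsScalarTower.of_algebraMap_eq (R := S) (S := (R'' ⊗[R] S) ⊗[S] C) (A := C'') fun s => by
      rw [IsScalarTower.algebraMap_apply S (R'' ⊗[R] S) ((R'' ⊗[R] S) ⊗[S] C),
        ← IsScalarTower.algebraMap_apply (R'' ⊗[R] S) ((R'' ⊗[R] S) ⊗[S] C) C'',
        ← IsScalarTower.algebraMap_apply S (R'' ⊗[R] S) C'']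
  have hpo' : Algebra.IsPushout (R'' ⊗[R] S) S'' ((R'' ⊗[R] S) ⊗[S] C) C'' :=
    Algebra.IsPushout.symm hpo
  have hpo'' : Algebra.IsPushout S S'' C C'' :=
    (Algebra.IsPushout.comp_iff (R := S) (S := R'' ⊗[R] S) (T := S'') (R' := C)
      (S' := (R'' ⊗[R] S) ⊗[S] C) (T' := C'')).mpr hpo'
  exact ⟨S'', inferInstance, algSS'', algR''S'', algRS'', twRSS'', twRR''S'', algS''C'', algSC'',
    twSS''C'', twSCC'', twR''S''C'', etSS'', hsurj'', hfp, hpo''⟩

end Groth.Agent.Lib.helper26.DevEt
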