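/-
Helper library (helper26): étale localisation of a one-step dévissage (towards S12245).
Part 4: the core statement — given elementary étale neighbourhoods `(R'', p'')` of `(R, p)` and
`(D'', y'')` of `(D, y)` with `D''` smooth of relative dimension `n` over `R''` with geometrically
irreducible fibres, the one-step dévissage lifts.
-/
import Mathlib
import Groth.Agent.Lib.Helper26.DevEt2
import Groth.Agent.Lib.Helper26.DevEt3
import Groth.Agent.Lib.Helper26.EtDim4
import Groth.Agent.Lib.Helper3.Shrink1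

set_option autoImplicit false
set_option linter.style.haveILetI false
set_option linter.unusedSectionVars false

namespace Groth.Agent.Lib.helper26.DevEt

open TensorProduct AlgebraicGeometry

universe u

attribute [local instance] Algebra.TensorProduct.rightAlgebra

set_option maxHeartbeats 1600000 in
theorem exists_etale_localization_core
    (R S : Type u) [CommRing R] [CommRing S] [Algebra R S] [Algebra.FiniteType R S]
    (N : Type u) [AddCommGroup N] [Module S N] [Module R N] [IsScalarTower R S N] [Module.Finite S N]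
    (p : Ideal R) [p.IsPrime] (q : Ideal S) [q.IsPrime] [q.LiesOver p]
    (C D G : Type u) [CommRing C] [CommRing D] [Algebra S C] [Algebra R C] [IsScalarTower R S C]
    [Algebra R D] [Algebra D C] [IsScalarTower R D C] [AddCommGroup G] [Module C G] [Module S G]
    [IsScalarTower S C G] (n : ℕ)
    (h : FlatCA.IsOneStepDevissage R S N p C D G n)
    (z : Ideal C) [z.IsPrime] (y : Ideal D) [y.IsPrime] [z.LiesOver q] [z.LiesOver y] [y.LiesOver p]
    (h1 : ∃ (ξ : PrimeSpectrum (p.Fiber S)) (hξ : ξ ∈ Module.support (p.Fiber S) (FlatCA.fiberMod p S N)),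
      ξ.asIdeal = FlatCA.fiberIdeal p q ∧
      FlatMor.localDim (Module.support (p.Fiber S) (FlatCA.fiberMod p S N)) ⟨ξ, hξ⟩ = n)
    (h3 : ∀ (z₁ : Ideal C) [z₁.IsPrime], z₁.LiesOver y → z₁ = z)
    (R'' : Type u) [CommRing R''] [Algebra R R''] (p'' : Ideal R'') [p''.IsPrime]
    (hR'' : FlatCA.IsEtaleNhd R R'' p p'')
    (D'' : Type u) [CommRing D''] [Algebra D D''] [Algebra R'' D''] [Algebra R D'']
    [IsScalarTower R R'' D''] [IsScalarTower R D D''] (y'' : Ideal D'') [y''.IsPrime]
    (hD'' : FlatCA.IsEtaleNhd D D'' y y'') [y''.LiesOver p'']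
    (hsm : FlatCA.SmoothRelDim n R'' D'') (hgi : FlatCA.GeomIrredFibres R'' D'')
    (hPT : FlatCA.PurelyTranscendental p'' y'') :
    ∃ (C'' : Type u) (_ : CommRing C'') (_ : Algebra C C'') (_ : Algebra D'' C'') (_ : Algebra D C'')
      (_ : Algebra R'' C'') (_ : IsScalarTower D D'' C'') (_ : IsScalarTower D C C'') (_ : IsScalarTower R'' D'' C'')
      (z'' : Ideal C'') (_ : z''.IsPrime) (_ : z''.LiesOver z) (_ : z''.LiesOver y''),
      Algebra.IsPushout D D'' C C'' ∧
    ∃ (G'' : Type u) (_ : AddCommGroup G'') (_ : Module C'' G'') (_ : Module C G'') (_ : IsScalarTower C C'' G'')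
      (gG : G →ₗ[C] G''), IsBaseChange C'' gG ∧
    ∃ (S'' : Type u) (_ : CommRing S'') (_ : Algebra S S'') (_ : Algebra R'' S'') (_ : Algebra R S'')
      (_ : IsScalarTower R S S'') (_ : IsScalarTower R R'' S'') (q'' : Ideal S'') (_ : q''.IsPrime)
      (_ : Algebra S'' C'') (_ : Algebra S C'') (_ : IsScalarTower S S'' C'') (_ : IsScalarTower S C C'')
      (_ : IsScalarTower R'' S'' C'') (_ : Module S'' G'') (_ : IsScalarTower S'' C'' G''),
      FlatCA.IsEtaleNhd S S'' q q'' ∧ z''.LiesOver q'' ∧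
    ∃ (N'' : Type u) (_ : AddCommGroup N'') (_ : Module S'' N'') (_ : Module S N'') (_ : IsScalarTower S S'' N'')
      (_ : Module R'' N'') (_ : IsScalarTower R'' S'' N'') (gN : N →ₗ[S] N''), IsBaseChange S'' gN ∧
      FlatCA.IsOneStepDevissage R'' S'' N'' p'' C'' D'' G'' n ∧
      (∃ (ξ : PrimeSpectrum (p''.Fiber S'')) (hξ : ξ ∈ Module.support (p''.Fiber S'') (FlatCA.fiberMod p'' S'' N'')),
        ξ.asIdeal = FlatCA.fiberIdeal p'' q'' ∧
        FlatMor.localDim (Module.support (p''.Fiber S'') (FlatCA.fiberMod p'' S'' N'')) ⟨ξ, hξ⟩ = n) ∧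
      (∀ (z₂ : Ideal C'') [z₂.IsPrime], z₂.LiesOver y'' → z₂ = z'') ∧
      FlatCA.PurelyTranscendental p'' y'' := by
  obtain ⟨⟨e⟩, hsurj, hfp, hfinDC, hfinCG, hsm0, hgi0, hdim⟩ := h
  obtain ⟨etR, hp''p, hbijR⟩ := hR''
  obtain ⟨etD, hy''y, hbijD⟩ := hD''
  obtain ⟨ξ, hξ, hξq, hξn⟩ := h1
  haveI := hfp
  haveI := hfinDC
  haveI := hfinCG
  haveI := etR
  haveI := etD
  haveI := hp''p
  haveI := hy''y
  -- the prime `z''`
  obtain ⟨z'', hz''prime, hz''y'', hz''z⟩ :=
    Groth.Agent.Lib.helper3.BijRes.exists_prime_over y y'' hbijD C (D'' ⊗[D] C) z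
  haveI := hz''prime
  haveI := hz''y''
  haveI := hz''z
  -- the lift
  obtain ⟨S'', _, algSS'', algR''S'', algRS'', twRSS'', twRR''S'', algS''C'', algSC'', twSS''C'',
    twSCC'', twR''S''C'', etSS'', hsurj'', hfp'', hpo''⟩ :=
    exists_etale_lift_pushout (R := R) (S := S) (C := C) (D := D) hsurj (R'' := R'') (D'' := D'')
      (C'' := D'' ⊗[D] C)
  letI := algSS''
  letI := algR''S''
  letI := algRS''
  haveI := twRSS''
  haveI := twRR''S''
  letI := algS''C''
  letI := algSC''
  haveI := twSS''C''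
  haveI := twSCC''
  haveI := twR''S''C''
  haveI := etSS''
  haveI := hfp''
  haveI := hpo''
  -- the prime `q''`
  haveI hq''prime : (z''.under S'').IsPrime := Ideal.IsPrime.under _ z''
  haveI hz''q'' : z''.LiesOver (z''.under S'') := ⟨rfl⟩
  haveI hz''q : z''.LiesOver q := Ideal.LiesOver.trans z'' z q
  haveI hq''q : (z''.under S'').LiesOver q := under_liesOver_of_tower q z''
  haveI hz''p'' : z''.LiesOver p'' := Ideal.LiesOver.trans z'' y'' p''
  haveI hq''p'' : (z''.under S'').LiesOver p'' := under_liesOver_of_tower p'' z''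
  -- residue fields
  have hb1 : Function.Bijective (Ideal.ResidueField.mapₐ q z (Algebra.ofId S C)
      (Ideal.LiesOver.over (p := q) (P := z))) := bijective_mapₐ_of_surjective hsurj q z
  have hb2 : Function.Bijective (Ideal.ResidueField.mapₐ z z'' (Algebra.ofId C (D'' ⊗[D] C))
      hz''z.over) :=
    Groth.Agent.Lib.helper3.BijRes.residueField_map_bijective y y'' hbijD.2 C (D'' ⊗[D] C) z z''
  have hb3 : Function.Bijective (Ideal.ResidueField.mapₐ q z'' (Algebra.ofId S (D'' ⊗[D] C))
      hz''q.over) := Groth.Agent.Lib.helper26.GeomIrr.bijective_mapₐ_comp q z z'' hb1 hb2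
  have hb4 : Function.Bijective (Ideal.ResidueField.mapₐ (z''.under S'') z''
      (Algebra.ofId S'' (D'' ⊗[D] C)) hz''q''.over) :=
    bijective_mapₐ_of_surjective hsurj'' (z''.under S'') z''
  have hb5 : Function.Bijective (Ideal.ResidueField.mapₐ q (z''.under S'') (Algebra.ofId S S'')
      hq''q.over) := bijective_mapₐ_of_comp q (z''.under S'') z'' hb3 hb4
  -- modules
  haveI twS''C''G'' : IsScalarTower S'' (D'' ⊗[D] C) ((D'' ⊗[D] C) ⊗[C] G) := inferInstance
  haveI twR''S''N'' : IsScalarTower R'' S'' (S'' ⊗[S] N) := inferInstance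
  have hgG : IsBaseChange (D'' ⊗[D] C) (TensorProduct.mk C (D'' ⊗[D] C) G 1) :=
    TensorProduct.isBaseChange C G (D'' ⊗[D] C)
  have hgN : IsBaseChange S'' (TensorProduct.mk S S'' N 1) := TensorProduct.isBaseChange S N S''
  obtain ⟨e''⟩ := nonempty_equiv_of_isPushout (S := S) (S'' := S'') (C := C) (C'' := D'' ⊗[D] C) e
    (TensorProduct.mk C (D'' ⊗[D] C) G 1) hgG (TensorProduct.mk S S'' N 1) hgN
  -- the local dimension
  obtain ⟨ξ'', hξ'', hξ''q, hloc⟩ :=
    Groth.Agent.Lib.helper26.EtDim.exists_localDim_eq_of_etale p p'' hbijR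
      (TensorProduct.mk S S'' N 1) hgN q (z''.under S'') ξ hξ hξq
  rw [hξn] at hloc
  -- the support dimension
  haveI : Module.Finite S'' (S'' ⊗[S] N) := inferInstance
  have hdim'' : Module.supportDim (p''.Fiber S'') (FlatCA.fiberMod p'' S'' (S'' ⊗[S] N)) = n := by
    apply le_antisymm
    · exact supportDim_le_of_finite p'' (S'' ⊗[S] N) ((D'' ⊗[D] C) ⊗[C] G) e'' hsurj'' n hsm
    · haveI : Module.Finite (p''.Fiber S'') (FlatCA.fiberMod p'' S'' (S'' ⊗[S] N)) :=
        Groth.Agent.Lib.helper3.OneStep.finite_fiberMod p'' (S'' ⊗[S] N)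
      rw [← Groth.Agent.Lib.helper3.Shrink.topologicalKrullDim_support, ← hloc]
      exact Groth.Agent.Lib.helper3.TopDim.localDim_le_dim _
  -- uniqueness
  have huniq : ∀ (z₂ : Ideal (D'' ⊗[D] C)) [z₂.IsPrime], z₂.LiesOver y'' → z₂ = z'' := by
    intro z₂ hz₂ hz₂y''
    haveI : (z₂.under C).IsPrime := Ideal.IsPrime.under _ z₂
    haveI : z₂.LiesOver y := Ideal.LiesOver.trans z₂ y'' y
    haveI : (z₂.under C).LiesOver y := under_liesOver_of_tower y z₂
    have h4 : z₂.under C = z := h3 (z₂.under C) inferInstance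
    refine Groth.Agent.Lib.helper3.BijRes.eq_of_under_eq y y'' hbijD.2 C (D'' ⊗[D] C) z₂ z''
      hz₂y''.over.symm hz''y''.over.symm ?_
    rw [h4]
    exact hz''z.over
  exact ⟨D'' ⊗[D] C, inferInstance, inferInstance, inferInstance, inferInstance, inferInstance,
    inferInstance, inferInstance, inferInstance, z'', hz''prime, hz''z, hz''y'', inferInstance,
    (D'' ⊗[D] C) ⊗[C] G, inferInstance, inferInstance, inferInstance, inferInstance,
    TensorProduct.mk C (D'' ⊗[D] C) G 1, hgG,
    S'', inferInstance, algSS'', algR''S'', algRS'', twRSS'', twRR''S'', z''.under S'', hq''prime,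
    algS''C'', algSC'', twSS''C'', twSCC'', twR''S''C'', inferInstance, twS''C''G'',
    ⟨etSS'', hq''q, hb5⟩, hz''q'',
    S'' ⊗[S] N, inferInstance, inferInstance, inferInstance, inferInstance, inferInstance, twR''S''N'',
    TensorProduct.mk S S'' N 1, hgN,
    ⟨⟨e''⟩, hsurj'', hfp'', inferInstance, inferInstance, hsm, hgi, hdim''⟩,
    ⟨ξ'', hξ'', hξ''q, hloc⟩, huniq, hPT⟩

end Groth.Agent.Lib.helper26.DevEt
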