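/-
Helper library (helper26): assembling complete dévissages after étale localisation (towards S1252).
Part 1: the base change of a map from a finite free module, in general form; the prime `p''D''`
lies over `pD`.
-/
import Mathlib
import Groth.Agent.Lib.Helper3.CDevBC2

set_option autoImplicit false
set_option linter.style.haveILetI false
set_option linter.unusedSectionVars false

namespace Groth.Agent.Lib.helper26.DevStep

open TensorProduct

universe u

section Alpha

variable {B B' : Type u} [CommRing B] [CommRing B'] [Algebra B B']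
  {M M' : Type u} [AddCommGroup M] [AddCommGroup M'] [Module B M] [Module B' M'] [Module B M']
  [IsScalarTower B B' M'] (g : M →ₗ[B] M') {r : ℕ} (α : (Fin r → B) →ₗ[B] M)

/-- the base-changed map from the finite free module -/
noncomputable def bcAlpha : (Fin r → B') →ₗ[B'] M' :=
  (Pi.basisFun B' (Fin r)).constr ℕ (fun j => g (α (Pi.single j 1)))

theorem bcAlpha_apply (v : Fin r → B') :
    bcAlpha g α v = ∑ j, v j • g (α (Pi.single j 1)) := by
  simp [bcAlpha, Module.Basis.constr_apply_fintype]

theorem bcAlpha_comp (v : Fin r → B) :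
    bcAlpha g α (fun j => algebraMap B B' (v j)) = g (α v) := by
  classical
  have hv : v = ∑ j, v j • (Pi.single j (1 : B) : Fin r → B) := by
    ext k
    simp [Finset.sum_apply, Pi.single_apply]
  conv_rhs => rw [hv]
  rw [map_sum, map_sum, bcAlpha_apply]
  refine Finset.sum_congr rfl fun j _ => ?_
  rw [LinearMap.map_smul α, LinearMap.map_smul g, algebraMap_smul B']

theorem range_bcAlpha : LinearMap.range (bcAlpha (B' := B') g α) =
    Submodule.span B' ((g : M → M') '' (LinearMap.range α : Set M)) := by
  apply le_antisymm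
  · rintro _ ⟨v, rfl⟩
    rw [bcAlpha_apply]
    refine Submodule.sum_mem _ fun j _ => Submodule.smul_mem _ _ (Submodule.subset_span ?_)
    exact ⟨_, ⟨_, rfl⟩, rfl⟩
  · rw [Submodule.span_le]
    rintro _ ⟨_, ⟨v, rfl⟩, rfl⟩
    exact ⟨_, bcAlpha_comp g α v⟩

theorem bcAlpha_surjective (hg : IsBaseChange B' g) (h : Function.Surjective α) :
    Function.Surjective (bcAlpha (B' := B') g α) := by
  have h1 : LinearMap.range (bcAlpha (B' := B') g α) = ⊤ := by
    rw [range_bcAlpha g α, LinearMap.range_eq_top.mpr h, Submodule.top_coe, Set.image_univ]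
    exact Groth.Agent.Lib.helper3.CDevBC.span_range_eq_top _ hg
  exact LinearMap.range_eq_top.mp h1

end Alpha

section Lies

variable {R R'' D D'' : Type u} [CommRing R] [CommRing R''] [CommRing D] [CommRing D'']
  [Algebra R R''] [Algebra R D] [Algebra D D''] [Algebra R'' D''] [Algebra R D'']
  [IsScalarTower R R'' D''] [IsScalarTower R D D'']

/-- for étale `R → R''` and flat `D → D''`, the prime `p''D''` lies over `pD`. -/
theorem liesOver_map_map [Algebra.Etale R R''] [Module.Flat D D'']
    (p : Ideal R) [p.IsPrime] (p'' : Ideal R'') [p''.IsPrime] [hp''p : p''.LiesOver p]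
    [hP : (p.map (algebraMap R D)).IsPrime] [hP'' : (p''.map (algebraMap R'' D'')).IsPrime]
    [hPp : (p.map (algebraMap R D)).LiesOver p]
    [hP''p'' : (p''.map (algebraMap R'' D'')).LiesOver p''] :
    (p''.map (algebraMap R'' D'')).LiesOver (p.map (algebraMap R D)) := by
  -- `pD ≤ p''D'' ∩ D`
  have hle : p.map (algebraMap R D) ≤ (p''.map (algebraMap R'' D'')).under D := by
    rw [Ideal.map_le_iff_le_comap]
    intro a ha
    rw [Ideal.mem_comap, Ideal.under_def, Ideal.mem_comap,
      ← IsScalarTower.algebraMap_apply R D D'', IsScalarTower.algebraMap_apply R R'' D'']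
    apply Ideal.mem_map_of_mem
    have : a ∈ p''.under R := by rw [← hp''p.over]; exact ha
    exact this
  haveI : ((p''.map (algebraMap R'' D'')).under D).IsPrime := Ideal.IsPrime.under D _
  haveI : (p''.map (algebraMap R'' D'')).LiesOver ((p''.map (algebraMap R'' D'')).under D) := ⟨rfl⟩
  obtain ⟨Q', hQ'le, hQ'prime, hQ'P⟩ :=
    Ideal.exists_ideal_le_liesOver_of_le (S := D'') (p := p.map (algebraMap R D))
      (q := (p''.map (algebraMap R'' D'')).under D) (p''.map (algebraMap R'' D'')) hle
  haveI := hQ'prime
  -- `Q' ∩ R'' = p''`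
  haveI : (Q'.under R'').IsPrime := Ideal.IsPrime.under R'' Q'
  have h1 : Q'.under R'' ≤ p'' := by
    have : Q'.under R'' ≤ (p''.map (algebraMap R'' D'')).under R'' := Ideal.comap_mono hQ'le
    rwa [← hP''p''.over] at this
  have h2 : (Q'.under R'').under R = p''.under R := by
    rw [Ideal.under_under, ← hp''p.over, ← Ideal.under_under (B := D) Q', ← hQ'P.over, ← hPp.over]
  have h3 : Q'.under R'' = p'' := Algebra.QuasiFinite.eq_of_le_of_under_eq (R := R) _ _ h1 h2
  have h4 : p''.map (algebraMap R'' D'') ≤ Q' := by
    rw [Ideal.map_le_iff_le_comap, ← h3]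
  have h5 : Q' = p''.map (algebraMap R'' D'') := le_antisymm hQ'le h4
  rw [h5] at hQ'P
  exact hQ'P

end Lies

end Groth.Agent.Lib.helper26.DevStep
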