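/-
Helper library (helper26): assembling complete dévissages after étale localisation (towards S1252).
Part 2: the assembly step — a one-step dévissage at a point, a map `α`, good étale neighbourhoods
`(R'', p'')`, `(D'', y'')` and a complete dévissage of the base change of `Coker α` (or its
vanishing) give a complete dévissage of a base change of `N` after étale localisation.
-/
import Mathlib
import Groth.Agent.Lib.Helper26.DevStep1
import Groth.Agent.Lib.Helper26.DevCons2
import Groth.Agent.Lib.Helper26.DevCons3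
import Groth.Agent.Lib.Helper26.DevCons4
import Groth.Agent.Lib.Helper26.DevEt4
import Groth.Agent.Lib.Helper3.CDevBC1
import Groth.Agent.Lib.Helper3.CDevBC8
import Groth.Agent.Lib.Helper3.BijRes4

set_option autoImplicit false
set_option linter.style.haveILetI false
set_option linter.unusedSectionVars false

namespace Groth.Agent.Lib.helper26.DevStep

open TensorProduct AlgebraicGeometry

universe u

set_option maxHeartbeats 1600000 in
theorem step
    (R S : Type u) [CommRing R] [CommRing S] [Algebra R S] [Algebra.FiniteType R S]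
    (N : Type u) [AddCommGroup N] [Module S N] [Module R N] [IsScalarTower R S N] [Module.Finite S N]
    (p : Ideal R) [p.IsPrime] (q : Ideal S) [q.IsPrime] [q.LiesOver p]
    (C D G : Type u) [CommRing C] [CommRing D] [Algebra S C] [Algebra R C] [IsScalarTower R S C]
    [Algebra R D] [Algebra D C] [IsScalarTower R D C] [AddCommGroup G] [Module C G] [Module S G]
    [IsScalarTower S C G] [Module D G] [IsScalarTower D C G] [Module R G] [IsScalarTower R D G]
    (n : ℕ)
    (h : FlatCA.IsOneStepDevissage R S N p C D G n)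
    (z : Ideal C) [z.IsPrime] (y : Ideal D) [y.IsPrime] [z.LiesOver q] [z.LiesOver y] [y.LiesOver p]
    (h1 : ∃ (ξ : PrimeSpectrum (p.Fiber S)) (hξ : ξ ∈ Module.support (p.Fiber S) (FlatCA.fiberMod p S N)),
      ξ.asIdeal = FlatCA.fiberIdeal p q ∧
      FlatMor.localDim (Module.support (p.Fiber S) (FlatCA.fiberMod p S N)) ⟨ξ, hξ⟩ = n)
    (h3 : ∀ (z₁ : Ideal C) [z₁.IsPrime], z₁.LiesOver y → z₁ = z)
    [hpD : (p.map (algebraMap R D)).IsPrime]
    (r : ℕ) (α : (Fin r → D) →ₗ[D] G)
    (hα : Function.Bijective (α.baseChange (p.map (algebraMap R D)).ResidueField))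
    (R'' : Type u) [CommRing R''] [Algebra R R''] (p'' : Ideal R'') [p''.IsPrime]
    (hR'' : FlatCA.IsEtaleNhd R R'' p p'')
    (D'' : Type u) [CommRing D''] [Algebra D D''] [Algebra R'' D''] [Algebra R D'']
    [IsScalarTower R R'' D''] [IsScalarTower R D D''] (y'' : Ideal D'') [y''.IsPrime]
    (hD'' : FlatCA.IsEtaleNhd D D'' y y'') [hy''p'' : y''.LiesOver p'']
    (hsm : FlatCA.SmoothRelDim n R'' D'') (hgi : FlatCA.GeomIrredFibres R'' D'')
    (hPT : FlatCA.PurelyTranscendental p'' y'')
    (K'' : Type u) [AddCommGroup K''] [Module D'' K''] [Module D K''] [IsScalarTower D D'' K'']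
    (gK : (G ⧸ LinearMap.range α) →ₗ[D] K'') (hgK : IsBaseChange D'' gK)
    (hK : Subsingleton K'' ∨ FlatCA.HasCompleteDevissageAt R'' D'' K'' p'' y'') :
    ∃ (S'' : Type u) (_ : CommRing S'') (_ : Algebra S S'') (_ : Algebra R'' S'') (_ : Algebra R S'')
      (_ : IsScalarTower R S S'') (_ : IsScalarTower R R'' S'') (q'' : Ideal S'') (_ : q''.IsPrime),
      FlatCA.IsEtaleNhd S S'' q q'' ∧ q''.LiesOver p'' ∧
      ∃ (N'' : Type u) (_ : AddCommGroup N'') (_ : Module S'' N'') (_ : Module S N'')
        (_ : IsScalarTower S S'' N'') (gN : N →ₗ[S] N''), IsBaseChange S'' gN ∧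
        FlatCA.HasCompleteDevissageAt R'' S'' N'' p'' q'' := by
  obtain ⟨C'', _, algCC'', algD''C'', algDC'', algR''C'', twDD''C'', twDCC'', twR''D''C'', z'',
    hz''prime, hz''z, hz''y'', hpo, G'', _, modC''G'', modCG'', twCC''G'', gG, hgG,
    S'', _, algSS'', algR''S'', algRS'', twRSS'', twRR''S'', q'', hq''prime, algS''C'', algSC'',
    twSS''C'', twSCC'', twR''S''C'', modS''G'', twS''C''G'', hEtS, hz''q'',
    N'', _, modS''N'', modSN'', twSS''N'', modR''N'', twR''S''N'', gN, hgN, hone'', h1'', h3'',
    hPT''⟩ :=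
    Groth.Agent.Lib.helper26.DevEt.exists_etale_localization_core R S N p q C D G n h z y h1 h3
      R'' p'' hR'' D'' y'' hD'' hsm hgi hPT
  obtain ⟨⟨e⟩, hsurj, hfp, hfinDC, hfinCG, hsm0, hgi0, hdim⟩ := h
  obtain ⟨etR, hp''p, hbijR⟩ := hR''
  obtain ⟨etD, hy''y, hbijD⟩ := hD''
  haveI := etR
  haveI := etD
  haveI := hp''p
  haveI := hy''y
  haveI := hpo
  -- module structures on `G''`
  letI modD''G'' : Module D'' G'' := Module.compHom G'' (algebraMap D'' C'')
  haveI twD''C''G'' : IsScalarTower D'' C'' G'' := IsScalarTower.of_algebraMap_smul fun _ _ => rfl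
  letI modR''G'' : Module R'' G'' := Module.compHom G'' (algebraMap R'' C'')
  haveI twR''D''G'' : IsScalarTower R'' D'' G'' := IsScalarTower.of_algebraMap_smul fun a x => by
    show algebraMap D'' C'' (algebraMap R'' D'' a) • x = algebraMap R'' C'' a • x
    rw [← IsScalarTower.algebraMap_apply]
  letI modDG'' : Module D G'' := Module.compHom G'' (algebraMap D C'')
  haveI twDD''G'' : IsScalarTower D D'' G'' := IsScalarTower.of_algebraMap_smul fun d x => by
    show algebraMap D'' C'' (algebraMap D D'' d) • x = algebraMap D C'' d • x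
    rw [← IsScalarTower.algebraMap_apply]
  haveI twDCG'' : IsScalarTower D C G'' := IsScalarTower.of_algebraMap_smul fun d x => by
    show algebraMap D C d • x = algebraMap D C'' d • x
    rw [IsScalarTower.algebraMap_apply D C C'', algebraMap_smul C'' (algebraMap D C d) x]
  have hgG' : IsBaseChange D'' (gG.restrictScalars D) :=
    Groth.Agent.Lib.helper3.BijRes.isBaseChange_restrictScalars_of_isPushout D D'' C C'' G G'' gG hgG
  -- the primes `pD`, `p''D''`
  haveI smD : Algebra.Smooth R D := Groth.Agent.Lib.helper3.OneStep.algebra_smooth n hsm0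
  haveI smD'' : Algebra.Smooth R'' D'' := Groth.Agent.Lib.helper3.OneStep.algebra_smooth n hsm
  haveI hPp : (p.map (algebraMap R D)).LiesOver p :=
    Groth.Agent.Lib.helper3.CDevBC.liesOver_map_of_smooth_geomIrred hgi0 p
  haveI hP''prime : (p''.map (algebraMap R'' D'')).IsPrime :=
    Groth.Agent.Lib.helper3.CDevBC.isPrime_map_of_smooth_geomIrred hgi p''
  haveI hP''p'' : (p''.map (algebraMap R'' D'')).LiesOver p'' :=
    Groth.Agent.Lib.helper3.CDevBC.liesOver_map_of_smooth_geomIrred hgi p''
  haveI : Module.Flat D D'' := inferInstance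
  haveI hLO : (p''.map (algebraMap R'' D'')).LiesOver (p.map (algebraMap R D)) :=
    liesOver_map_map p p''
  -- the map `α''`
  let α'' : (Fin r → D'') →ₗ[D''] G'' := bcAlpha (B' := D'') (gG.restrictScalars D) α
  have hα'' : Function.Bijective (α''.baseChange (p''.map (algebraMap R'' D'')).ResidueField) :=
    Groth.Agent.Lib.helper3.CDevBC.bijective_baseChange_residueField (p.map (algebraMap R D))
      (p''.map (algebraMap R'' D'')) (gG.restrictScalars D) hgG' α α''
      (bcAlpha_comp (gG.restrictScalars D) α) hα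
  -- the cokernel
  obtain ⟨eK⟩ := Groth.Agent.Lib.helper3.CDevBC.nonempty_cokerEquiv_baseChange
    (gG.restrictScalars D) hgG' gK hgK (LinearMap.range α) (LinearEquiv.refl D _)
    (LinearMap.range α'') (range_bcAlpha (B' := D'') (gG.restrictScalars D) α)
  haveI : Module.Finite S'' N'' := Module.Finite.equiv hgN.equiv
  have hq''p'' : q''.LiesOver p'' := by
    refine ⟨?_⟩
    rw [hz''q''.over, Ideal.under_under, ← Ideal.under_under (B := D'') z'', ← hz''y''.over]
    exact hy''p''.over
  have hfinal : FlatCA.HasCompleteDevissageAt R'' S'' N'' p'' q'' := by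
    rcases hK with hK | hK
    · -- `α''` is surjective
      have hsurjα : Function.Surjective α'' := by
        haveI : Subsingleton (G'' ⧸ LinearMap.range α'') := eK.toEquiv.subsingleton
        have := Submodule.Quotient.subsingleton_iff.mp this
        exact LinearMap.range_eq_top.mp this
      exact Groth.Agent.Lib.helper26.DevCons.hasCompleteDevissageAt_of_surjective R'' S'' N'' p'' q''
        C'' D'' G'' n hone'' z'' y'' h3'' hPT'' r α'' hα'' hsurjα
    · have hK' : FlatCA.HasCompleteDevissageAt R'' D'' (G'' ⧸ LinearMap.range α'') p'' y'' :=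
        Groth.Agent.Lib.helper26.DevCons.hasCompleteDevissageAt_of_linearEquiv p'' y'' eK.symm hK
      exact Groth.Agent.Lib.helper26.DevCons.hasCompleteDevissageAt_cons R'' S'' N'' p'' q''
        C'' D'' G'' n hone'' z'' y'' h3'' hPT'' r α'' hα'' hK'
  exact ⟨S'', inferInstance, algSS'', algR''S'', algRS'', twRSS'', twRR''S'', q'', hq''prime,
    hEtS, hq''p'', N'', inferInstance, modS''N'', modSN'', twSS''N'', gN, hgN, hfinal⟩

end Groth.Agent.Lib.helper26.DevStep
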