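/-
Helper library (helper26): existence of complete dévissages after étale localisation (S1252).
Part 9: from the key conclusion to the main conclusion (the assembly step), and transitivity of
the main conclusion along elementary étale neighbourhoods.
-/
import Mathlib
import Groth.Agent.Lib.Helper26.DevMain7
import Groth.Agent.Lib.Helper26.DevStep2

set_option autoImplicit false
set_option linter.style.haveILetI false
set_option linter.unusedSectionVars false

namespace Groth.Agent.Lib.helper26.DevMain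

open TensorProduct AlgebraicGeometry

universe u

set_option maxHeartbeats 1600000 in
theorem mainConcl_of_keyConcl
    (R S : Type u) [CommRing R] [CommRing S] [Algebra R S] [Algebra.FiniteType R S]
    (N : Type u) [AddCommGroup N] [Module S N] [Module R N] [IsScalarTower R S N] [Module.Finite S N]
    (p : Ideal R) [p.IsPrime] (q : Ideal S) [q.IsPrime] [q.LiesOver p]
    (C D G : Type u) [CommRing C] [CommRing D] [Algebra S C] [Algebra R C] [IsScalarTower R S C]
    [Algebra R D] [Algebra D C] [IsScalarTower R D C] [AddCommGroup G] [Module C G] [Module S G]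
    [IsScalarTower S C G] [Module D G] [IsScalarTower D C G] [Module R G] [IsScalarTower R D G]
    (n : ℕ)
    (h : FlatCA.IsOneStepDevissage R S N p C D G n)
    (z : Ideal C) [z.IsPrime] (y : Ideal D) [y.IsPrime] [z.LiesOver q] [z.LiesOver y] [y.LiesOver p]
    (h1 : ∃ (ξ : PrimeSpectrum (p.Fiber S)) (hξ : ξ ∈ Module.support (p.Fiber S) (FlatCA.fiberMod p S N)),
      ξ.asIdeal = FlatCA.fiberIdeal p q ∧
      FlatMor.localDim (Module.support (p.Fiber S) (FlatCA.fiberMod p S N)) ⟨ξ, hξ⟩ = n)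
    (h3 : ∀ (z₁ : Ideal C) [z₁.IsPrime], z₁.LiesOver y → z₁ = z)
    (h4 : FlatCA.PurelyTranscendental p y)
    [hpD : (p.map (algebraMap R D)).IsPrime]
    (r : ℕ) (α : (Fin r → D) →ₗ[D] G)
    (hα : Function.Bijective (α.baseChange (p.map (algebraMap R D)).ResidueField))
    (hKey : KeyConcl R D (G ⧸ LinearMap.range α) p y) : MainConcl R S N p q := by
  obtain ⟨R'', D'', _, _, algRR'', algDD'', algR''D'', algRD'', twRR''D'', twRDD'', p'', y'', hp'',
    hy'', hy''p'', hEtR, hEtD, hgi'', K'', _, modD''K'', modDK'', twDD''K'', gK, hgK, hK⟩ := hKey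
  have hsm0 : FlatCA.SmoothRelDim n R D := h.2.2.2.2.2.1
  haveI : Algebra.Etale R R'' := hEtR.1
  haveI : Algebra.Etale D D'' := hEtD.1
  have hsm'' : FlatCA.SmoothRelDim n R'' D'' :=
    Groth.Agent.Lib.helper26.DevEt.smoothRelDim_of_etale_etale (R := R) (R' := R'') (D := D)
      (D' := D'') n hsm0
  have hPT'' : FlatCA.PurelyTranscendental p'' y'' :=
    purelyTranscendental_of_isEtaleNhd p p'' D D'' y y'' hEtR hEtD h4
  obtain ⟨S'', _, algSS'', algR''S'', algRS'', twRSS'', twRR''S'', q'', hq'', hEtS, hq''p'', N'', _,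
    modS''N'', modSN'', twSS''N'', gN, hgN, hfinal⟩ :=
    Groth.Agent.Lib.helper26.DevStep.step R S N p q C D G n h z y h1 h3 r α hα R'' p'' hEtR D'' y''
      hEtD hsm'' hgi'' hPT'' K'' gK hgK hK
  exact ⟨R'', S'', inferInstance, inferInstance, algRR'', algSS'', algR''S'', algRS'', twRR''S'',
    twRSS'', p'', q'', hp'', hq'', hEtR, hEtS, hq''p'', N'', inferInstance, modS''N'', modSN'',
    twSS''N'', gN, hgN, hfinal⟩

set_option maxHeartbeats 1600000 in
theorem mainConcl_trans {R S : Type u} [CommRing R] [CommRing S] [Algebra R S]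
    (N : Type u) [AddCommGroup N] [Module S N] (p : Ideal R) [p.IsPrime] (q : Ideal S) [q.IsPrime]
    (R₁ S₁ : Type u) [CommRing R₁] [CommRing S₁] [Algebra R R₁] [Algebra S S₁] [Algebra R₁ S₁]
    [Algebra R S₁] [IsScalarTower R R₁ S₁] [IsScalarTower R S S₁]
    (p₁ : Ideal R₁) [p₁.IsPrime] (q₁ : Ideal S₁) [q₁.IsPrime]
    (hR₁ : FlatCA.IsEtaleNhd R R₁ p p₁) (hS₁ : FlatCA.IsEtaleNhd S S₁ q q₁)
    (N₁ : Type u) [AddCommGroup N₁] [Module S₁ N₁] [Module S N₁] [IsScalarTower S S₁ N₁]
    (f₁ : N →ₗ[S] N₁) (hf₁ : IsBaseChange S₁ f₁)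
    (hM : MainConcl R₁ S₁ N₁ p₁ q₁) : MainConcl R S N p q := by
  obtain ⟨R'', S'', _, _, algR₁R'', algS₁S'', algR''S'', algR₁S'', twR₁R''S'', twR₁S₁S'', p'', q'',
    hp'', hq'', hEtR'', hEtS'', hq''p'', N'', _, modS''N'', modS₁N'', twS₁S''N'', f'', hf'', hK''⟩ :=
    hM
  letI algRR'' : Algebra R R'' := ((algebraMap R₁ R'').comp (algebraMap R R₁)).toAlgebra
  haveI twRR₁R'' : IsScalarTower R R₁ R'' := IsScalarTower.of_algebraMap_eq fun _ => rfl
  letI algSS'' : Algebra S S'' := ((algebraMap S₁ S'').comp (algebraMap S S₁)).toAlgebra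
  haveI twSS₁S'' : IsScalarTower S S₁ S'' := IsScalarTower.of_algebraMap_eq fun _ => rfl
  letI algRS'' : Algebra R S'' := ((algebraMap R₁ S'').comp (algebraMap R R₁)).toAlgebra
  haveI twRR₁S'' : IsScalarTower R R₁ S'' := IsScalarTower.of_algebraMap_eq fun _ => rfl
  haveI twRR''S'' : IsScalarTower R R'' S'' := IsScalarTower.of_algebraMap_eq fun a => by
    show algebraMap R₁ S'' (algebraMap R R₁ a) =
      algebraMap R'' S'' (algebraMap R₁ R'' (algebraMap R R₁ a))
    rw [← IsScalarTower.algebraMap_apply R₁ R'' S'']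
  haveI twRSS'' : IsScalarTower R S S'' := IsScalarTower.of_algebraMap_eq fun a => by
    show algebraMap R₁ S'' (algebraMap R R₁ a) =
      algebraMap S₁ S'' (algebraMap S S₁ (algebraMap R S a))
    rw [← IsScalarTower.algebraMap_apply R S S₁, IsScalarTower.algebraMap_apply R R₁ S₁,
      ← IsScalarTower.algebraMap_apply R₁ S₁ S'']
  have hEtR : FlatCA.IsEtaleNhd R R'' p p'' := isEtaleNhd_trans p p₁ p'' hR₁ hEtR''
  have hEtS : FlatCA.IsEtaleNhd S S'' q q'' := isEtaleNhd_trans q q₁ q'' hS₁ hEtS''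
  letI modSN'' : Module S N'' := Module.compHom N'' (algebraMap S S₁)
  haveI twSS₁N'' : IsScalarTower S S₁ N'' := IsScalarTower.of_algebraMap_smul fun _ _ => rfl
  haveI twSS''N'' : IsScalarTower S S'' N'' := IsScalarTower.of_algebraMap_smul fun d x => by
    show algebraMap S₁ S'' (algebraMap S S₁ d) • x = algebraMap S S₁ d • x
    rw [algebraMap_smul]
  have hbc : IsBaseChange S'' ((f''.restrictScalars S).comp f₁) := IsBaseChange.comp hf₁ hf''
  exact ⟨R'', S'', inferInstance, inferInstance, algRR'', algSS'', algR''S'', algRS'', twRR''S'',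
    twRSS'', p'', q'', hp'', hq'', hEtR, hEtS, hq''p'', N'', inferInstance, modS''N'', modSN'',
    twSS''N'', _, hbc, hK''⟩

end Groth.Agent.Lib.helper26.DevMain
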