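/-
Helper library (helper26): towards the existence of elementary dévissages (S1249).
Part A2: a finitely generated ideal inside the annihilator cutting out the support of the fibre
module.
-/
import Mathlib
import Groth.Prelude.Def_FlatCA
import Groth.Agent.Lib.Helper3.OneStep1

set_option autoImplicit false
set_option linter.style.haveILetI false

namespace Groth.Agent.Lib.helper26.ElemDevA

open TensorProduct

universe u

/-- over a noetherian target, the extension of an ideal is the extension of a finitely generated
subideal -/
theorem exists_fg_le_map_eq {S T : Type u} [CommRing S] [CommRing T] [IsNoetherianRing T]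
    (f : S →+* T) (I : Ideal S) : ∃ J : Ideal S, J.FG ∧ J ≤ I ∧ J.map f = I.map f := by
  classical
  have hfg : (Ideal.span (f '' (I : Set S))).FG := IsNoetherian.noetherian _
  obtain ⟨s', hs', hspan⟩ := (Submodule.fg_span_iff_fg_span_finset_subset _).mp hfg
  obtain ⟨s'', hs'', himg⟩ := Finset.subset_set_image_iff.mp hs'
  refine ⟨Ideal.span (s'' : Set S), ⟨s'', rfl⟩, Ideal.span_le.mpr hs'', ?_⟩
  rw [Ideal.map_span]
  have h1 : (f '' (s'' : Set S)) = (s' : Set T) := by
    rw [← himg]
    simp
  rw [h1]
  exact hspan.symm

/-- a finitely generated ideal `J₀` inside the annihilator of `N` whose vanishing locus in the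
fibre over `p` is the support of the fibre module -/
theorem exists_fg_le_annihilator {R S : Type u} [CommRing R] [CommRing S] [Algebra R S]
    [Algebra.FiniteType R S] (N : Type u) [AddCommGroup N] [Module S N] [Module R N]
    [IsScalarTower R S N] [Module.Finite S N] (p : Ideal R) [p.IsPrime] :
    ∃ J₀ : Ideal S, J₀.FG ∧ J₀ ≤ Module.annihilator S N ∧
      ∀ Q : PrimeSpectrum (p.Fiber S),
        Q ∈ Module.support (p.Fiber S) (FlatCA.fiberMod p S N) ↔
          J₀ ≤ Q.asIdeal.comap
            (Algebra.TensorProduct.includeRight (R := R) (A := p.ResidueField) (B := S)) := by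
  haveI : IsNoetherianRing (p.Fiber S) :=
    Algebra.FiniteType.isNoetherianRing p.ResidueField (p.Fiber S)
  obtain ⟨J₀, hfg, hle, hmap⟩ := exists_fg_le_map_eq
    (Algebra.TensorProduct.includeRight (R := R) (A := p.ResidueField) (B := S)).toRingHom
    (Module.annihilator S N)
  refine ⟨J₀, hfg, hle, fun Q => ?_⟩
  rw [Groth.Agent.Lib.helper3.OneStep.mem_support_fiberMod_iff p S N Q]
  constructor
  · intro h
    exact hle.trans h
  · intro h
    have h1 : J₀.map (Algebra.TensorProduct.includeRight (R := R) (A := p.ResidueField)
        (B := S)).toRingHom ≤ Q.asIdeal := Ideal.map_le_iff_le_comap.mpr h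
    rw [hmap] at h1
    exact Ideal.map_le_iff_le_comap.mp h1

end Groth.Agent.Lib.helper26.ElemDevA
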