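/-
Helper library (helper26): towards the existence of elementary dévissages (S1249).
Part A4: quasi-finite coordinates on the support of the module.
-/
import Mathlib
import Groth.Agent.Lib.Helper26.ElemDevA2
import Groth.Agent.Lib.Helper26.ElemDevA3
import Groth.Agent.Lib.Helper26.Purity1
import Groth.Agent.Lib.Helper3.QFinRing2

set_option autoImplicit false
set_option linter.style.haveILetI false

namespace Groth.Agent.Lib.helper26.ElemDevA

open TensorProduct Groth.Agent.Lib.helper3.DimIneq

universe u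

/-- **Quasi-finite coordinates on the support.**  `J₀` is a finitely generated ideal inside the
annihilator of `N` contained in `q`; `s` are `n` elements of `S` making `S ⧸ J₀` quasi-finite at
`q` over `R[x₁,…,xₙ]`, the contraction of `q` being `(p, x_{r+1}, …, x_n)`. -/
theorem exists_coordinates {R S : Type u} [CommRing R] [CommRing S] [Algebra R S]
    [Algebra.FiniteType R S] (N : Type u) [AddCommGroup N] [Module S N] [Module R N]
    [IsScalarTower R S N] [Module.Finite S N] (p : Ideal R) [p.IsPrime] (q : Ideal S) [q.IsPrime]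
    [q.LiesOver p] (n : ℕ) (x : PrimeSpectrum (p.Fiber S)) (hxq : x.asIdeal = FlatCA.fiberIdeal p q)
    (hx : x ∈ Module.support (p.Fiber S) (FlatCA.fiberMod p S N))
    (hn : FlatMor.localDim (Module.support (p.Fiber S) (FlatCA.fiberMod p S N)) ⟨x, hx⟩ = n) :
    ∃ (J₀ : Ideal S) (r : ℕ) (s : Fin n → S), J₀.FG ∧ J₀ ≤ Module.annihilator S N ∧ J₀ ≤ q ∧
      (∀ [(q.map (Ideal.Quotient.mk J₀)).IsPrime],
        (MvPolynomial.aeval (R := R) (fun i => Ideal.Quotient.mk J₀ (s i))).toRingHom.QuasiFiniteAt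
          (q.map (Ideal.Quotient.mk J₀))) ∧
      q.comap (MvPolynomial.aeval (R := R) s).toRingHom =
        p.map (MvPolynomial.C : R →+* MvPolynomial (Fin n) R) ⊔
          Ideal.span (Set.range fun i : {i : Fin n // r ≤ (i : ℕ)} =>
            (MvPolynomial.X (i : Fin n) : MvPolynomial (Fin n) R)) := by
  obtain ⟨J₀, hfg, hle, hZ⟩ := exists_fg_le_annihilator (R := R) (S := S) N p
  have hxcomap : x.asIdeal.comap (Algebra.TensorProduct.includeRight (R := R)
      (A := p.ResidueField) (B := S)).toRingHom = q := by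
    rw [hxq]
    exact Groth.Agent.Lib.helper26.Purity.comap_fiberIdeal p q
  have hJq : J₀ ≤ q := by
    have := (hZ x).mp hx
    rw [← hxcomap]
    exact this
  have hker : RingHom.ker (Ideal.Quotient.mk J₀) ≤ q := by
    rw [Ideal.mk_ker]
    exact hJq
  haveI hqbprime : (q.map (Ideal.Quotient.mk J₀)).IsPrime :=
    Ideal.map_isPrime_of_surjective Ideal.Quotient.mk_surjective hker
  have hqbcomap : (q.map (Ideal.Quotient.mk J₀)).comap (Ideal.Quotient.mk J₀) = q := by
    rw [Ideal.comap_map_of_surjective _ Ideal.Quotient.mk_surjective, sup_eq_left]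
    exact hker
  have hqbp : (q.map (Ideal.Quotient.mk J₀)).comap (algebraMap R (S ⧸ J₀)) = p := by
    have h1 : algebraMap R (S ⧸ J₀) = (Ideal.Quotient.mk J₀).comp (algebraMap R S) := rfl
    rw [h1, ← Ideal.comap_comap, hqbcomap]
    exact ((inferInstance : q.LiesOver p).over).symm
  haveI hqbover : (q.map (Ideal.Quotient.mk J₀)).LiesOver p := ⟨hqbp.symm⟩
  -- the point of the fibre of `S ⧸ J₀`
  obtain ⟨Qb, hQb⟩ := (mem_range_comap_fibQuot p J₀ x).mpr ((hZ x).mp hx)
  have hdim : FlatMor.localDim (PrimeSpectrum (p.Fiber (S ⧸ J₀))) Qb = (n : WithBot ℕ∞) := by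
    rw [localDim_fiber_quotient p J₀ _ hZ x hx Qb hQb]
    exact hn
  have hQbq : Qb.asIdeal.comap (Algebra.TensorProduct.includeRight (R := R)
      (A := p.ResidueField) (B := S ⧸ J₀)).toRingHom = q.map (Ideal.Quotient.mk J₀) := by
    apply Ideal.comap_injective_of_surjective (Ideal.Quotient.mk J₀) Ideal.Quotient.mk_surjective
    rw [hqbcomap, ← hxcomap, ← hQb]
    ext a
    simp only [Ideal.mem_comap]
    rfl
  have H := Groth.Agent.Lib.helper3.QFinRing2.td_le_of_localDim p (q.map (Ideal.Quotient.mk J₀))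
    Qb hQbq n hdim
  have hle_n := H (q.map (Ideal.Quotient.mk J₀)) inferInstance le_rfl hqbp
  obtain ⟨r, hr⟩ := Cardinal.lt_aleph0.mp (lt_of_le_of_lt hle_n (Cardinal.natCast_lt_aleph0))
  obtain ⟨sb, hqf, hcomap⟩ := Groth.Agent.Lib.helper3.QFinRing2.exists_aeval_quasiFiniteAt p
    (q.map (Ideal.Quotient.mk J₀)) hqbp n r hr H
  choose s hs using fun i => Ideal.Quotient.mk_surjective (sb i)
  have hsb : (fun i => Ideal.Quotient.mk J₀ (s i)) = sb := funext hs
  refine ⟨J₀, r, s, hfg, hle, hJq, ?_, ?_⟩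
  · intro _
    rw [hsb]
    exact hqf
  · rw [← hcomap, ← hsb]
    have h1 : (MvPolynomial.aeval (R := R) (fun i => Ideal.Quotient.mk J₀ (s i))).toRingHom =
        (Ideal.Quotient.mk J₀).comp (MvPolynomial.aeval (R := R) s).toRingHom := by
      apply MvPolynomial.ringHom_ext
      · intro c
        simp
      · intro i
        simp
    rw [h1, ← Ideal.comap_comap, hqbcomap]

end Groth.Agent.Lib.helper26.ElemDevA
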