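/-
Helper library (helper26): towards the existence of elementary dévissages (S1249).
Part A5: the residue field of the prime `(p, x_{r+1}, …, x_n)` of `R[x₁,…,xₙ]` is purely
transcendental over `κ(p)`.
-/
import Mathlib
import Groth.Prelude.Def_FlatCA

set_option autoImplicit false
set_option linter.style.haveILetI false

namespace Groth.Agent.Lib.helper26.ElemDevA

open TensorProduct

universe u

section Poly

variable {R : Type u} [CommRing R] (n r : ℕ)

/-- kill the variables of index `≥ r` -/
noncomputable def killHi : MvPolynomial (Fin n) R →ₐ[R] MvPolynomial (Fin n) R :=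
  MvPolynomial.aeval (fun i : Fin n => if (i : ℕ) < r then MvPolynomial.X i else 0)

/-- the ideal generated by the variables of index `≥ r` -/
noncomputable def hiIdeal : Ideal (MvPolynomial (Fin n) R) :=
  Ideal.span (Set.range fun i : {i : Fin n // r ≤ (i : ℕ)} =>
    (MvPolynomial.X (i : Fin n) : MvPolynomial (Fin n) R))

theorem killHi_X_of_lt (i : Fin n) (h : (i : ℕ) < r) :
    killHi (R := R) n r (MvPolynomial.X i) = MvPolynomial.X i := by
  simp [killHi, h]

theorem killHi_X_of_le (i : Fin n) (h : r ≤ (i : ℕ)) :
    killHi (R := R) n r (MvPolynomial.X i) = 0 := by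
  simp [killHi, not_lt.mpr h]

theorem sub_killHi_mem (a : MvPolynomial (Fin n) R) : a - killHi n r a ∈ hiIdeal (R := R) n r := by
  induction a using MvPolynomial.induction_on with
  | C c =>
    have : killHi (R := R) n r (MvPolynomial.C c) = MvPolynomial.C c := by
      rw [← MvPolynomial.algebraMap_eq, AlgHom.commutes]
    rw [this, sub_self]
    exact Ideal.zero_mem _
  | add a b ha hb =>
    rw [map_add]
    have : a + b - (killHi n r a + killHi n r b) = (a - killHi n r a) + (b - killHi n r b) := by
      ring
    rw [this]
    exact Ideal.add_mem _ ha hb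
  | mul_X a i ha =>
    rw [map_mul]
    have : a * MvPolynomial.X i - killHi n r a * killHi n r (MvPolynomial.X i) =
        (a - killHi n r a) * MvPolynomial.X i +
          killHi n r a * (MvPolynomial.X i - killHi n r (MvPolynomial.X i)) := by ring
    rw [this]
    refine Ideal.add_mem _ (Ideal.mul_mem_right _ _ ha) (Ideal.mul_mem_left _ _ ?_)
    by_cases h : (i : ℕ) < r
    · rw [killHi_X_of_lt n r i h, sub_self]
      exact Ideal.zero_mem _
    · rw [killHi_X_of_le n r i (not_lt.mp h), sub_zero]
      exact Ideal.subset_span ⟨⟨i, not_lt.mp h⟩, rfl⟩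

theorem hiIdeal_le_ker : hiIdeal (R := R) n r ≤ RingHom.ker (killHi (R := R) n r).toRingHom := by
  unfold hiIdeal
  rw [Ideal.span_le]
  rintro _ ⟨i, rfl⟩
  exact killHi_X_of_le n r i.1 i.2

variable (p : Ideal R) [p.IsPrime]

/-- evaluation in `κ(p)[x₁,…,xₙ]` after killing the variables of index `≥ r` -/
noncomputable def evK : MvPolynomial (Fin n) R →+* MvPolynomial (Fin n) p.ResidueField :=
  (MvPolynomial.map (algebraMap R p.ResidueField)).comp (killHi (R := R) n r).toRingHom

theorem evK_C (c : R) : evK n r p (MvPolynomial.C c) =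
    MvPolynomial.C (algebraMap R p.ResidueField c) := by
  unfold evK
  rw [RingHom.comp_apply]
  have : (killHi (R := R) n r).toRingHom (MvPolynomial.C c) = MvPolynomial.C c := by
    change killHi (R := R) n r (MvPolynomial.C c) = _
    rw [← MvPolynomial.algebraMap_eq, AlgHom.commutes]
  rw [this, MvPolynomial.map_C]

theorem evK_X_of_lt (i : Fin n) (h : (i : ℕ) < r) :
    evK n r p (MvPolynomial.X i) = MvPolynomial.X i := by
  unfold evK
  rw [RingHom.comp_apply]
  change MvPolynomial.map _ (killHi (R := R) n r (MvPolynomial.X i)) = _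
  rw [killHi_X_of_lt n r i h, MvPolynomial.map_X]

theorem ker_evK : RingHom.ker (evK n r p) =
    p.map (MvPolynomial.C : R →+* MvPolynomial (Fin n) R) ⊔ hiIdeal (R := R) n r := by
  apply le_antisymm
  · intro a ha
    rw [RingHom.mem_ker] at ha
    unfold evK at ha
    rw [RingHom.comp_apply] at ha
    have h1 : (killHi (R := R) n r).toRingHom a ∈
        RingHom.ker (MvPolynomial.map (σ := Fin n) (algebraMap R p.ResidueField)) := ha
    rw [MvPolynomial.ker_map, Ideal.ker_algebraMap_residueField] at h1
    have h2 : a = (killHi (R := R) n r).toRingHom a + (a - killHi n r a) := by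
      change a = killHi n r a + (a - killHi n r a)
      ring
    rw [h2]
    exact Ideal.add_mem _ (Ideal.mem_sup_left h1) (Ideal.mem_sup_right (sub_killHi_mem n r a))
  · refine sup_le ?_ ?_
    · rw [Ideal.map_le_iff_le_comap]
      intro c hc
      rw [Ideal.mem_comap, RingHom.mem_ker, evK_C,
        Ideal.algebraMap_residueField_eq_zero.mpr hc, map_zero]
    · intro a ha
      rw [RingHom.mem_ker]
      unfold evK
      rw [RingHom.comp_apply, RingHom.mem_ker.mp (hiIdeal_le_ker n r ha), map_zero]

end Poly

end Groth.Agent.Lib.helper26.ElemDevA
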