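/-
Helper library (helper26): towards the existence of elementary dévissages (S1249).
Part A6: the residue field of the prime `(p, x_{r+1}, …, x_n)` of `R[x₁,…,xₙ]` is purely
transcendental over `κ(p)`.
-/
import Mathlib
import Groth.Agent.Lib.Helper26.ElemDevA5

set_option autoImplicit false
set_option linter.style.haveILetI false

namespace Groth.Agent.Lib.helper26.ElemDevA

open TensorProduct

universe u

/-- the residue field of `(p, x_{r+1}, …, x_n)` is purely transcendental over `κ(p)` -/
theorem purelyTranscendental_polyPrime {R : Type u} [CommRing R] (p : Ideal R) [p.IsPrime]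
    (n r : ℕ) (y : Ideal (MvPolynomial (Fin n) R)) [y.IsPrime] [hyp : y.LiesOver p]
    (hy : y = p.map (MvPolynomial.C : R →+* MvPolynomial (Fin n) R) ⊔
      Ideal.span (Set.range fun i : {i : Fin n // r ≤ (i : ℕ)} =>
        (MvPolynomial.X (i : Fin n) : MvPolynomial (Fin n) R))) :
    FlatCA.PurelyTranscendental p y := by
  letI algky : Algebra p.ResidueField y.ResidueField :=
    (Ideal.ResidueField.mapₐ p y (Algebra.ofId R (MvPolynomial (Fin n) R)) hyp.over).toRingHom.toAlgebra
  have halg : ∀ c : R, algebraMap p.ResidueField y.ResidueField (algebraMap R p.ResidueField c) =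
      algebraMap (MvPolynomial (Fin n) R) y.ResidueField (MvPolynomial.C c) := by
    intro c
    change Ideal.ResidueField.mapₐ p y (Algebra.ofId R (MvPolynomial (Fin n) R)) hyp.over
      (algebraMap R p.ResidueField c) = _
    rw [Ideal.ResidueField.mapₐ_apply, Ideal.ResidueField.map_algebraMap]
    rfl
  have hker : RingHom.ker (evK n r p) = y := by
    rw [ker_evK, hy]
    rfl
  -- the embedding of `κ(y)` into the fraction field of `κ(p)[x]`
  let K₀ := FractionRing (MvPolynomial (Fin n) p.ResidueField)
  let f₀ : MvPolynomial (Fin n) R →+* K₀ :=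
    (algebraMap (MvPolynomial (Fin n) p.ResidueField) K₀).comp (evK n r p)
  have hf₁ : y ≤ RingHom.ker f₀ := by
    intro a ha
    rw [← hker, RingHom.mem_ker] at ha
    rw [RingHom.mem_ker, RingHom.comp_apply, ha, map_zero]
  have hf₂ : y.primeCompl ≤ (IsUnit.submonoid K₀).comap f₀ := by
    intro a ha
    rw [Submonoid.mem_comap, IsUnit.mem_submonoid_iff, isUnit_iff_ne_zero]
    intro h0
    apply ha
    rw [RingHom.comp_apply, map_eq_zero_iff _ (IsFractionRing.injective _ K₀)] at h0
    rw [← hker]
    exact h0
  let ι₀ : y.ResidueField →+* K₀ := Ideal.ResidueField.lift y f₀ hf₁ hf₂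
  have hι₀ : ∀ a, ι₀ (algebraMap _ y.ResidueField a) = f₀ a :=
    fun a => Ideal.ResidueField.lift_algebraMap y f₀ hf₁ hf₂ a
  have hcomm : ι₀.comp (algebraMap p.ResidueField y.ResidueField) =
      algebraMap p.ResidueField K₀ := by
    apply Ideal.ResidueField.ringHom_ext
    ext c
    rw [RingHom.comp_apply, RingHom.comp_apply, RingHom.comp_apply, halg, hι₀]
    change algebraMap (MvPolynomial (Fin n) p.ResidueField) K₀ (evK n r p (MvPolynomial.C c)) = _
    rw [evK_C, IsScalarTower.algebraMap_apply p.ResidueField
      (MvPolynomial (Fin n) p.ResidueField) K₀, MvPolynomial.algebraMap_eq]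
  let ι : y.ResidueField →ₐ[p.ResidueField] K₀ :=
    { ι₀ with commutes' := fun c => congrArg (fun g : p.ResidueField →+* K₀ => g c) hcomm }
  -- the transcendence basis
  let x : ULift.{u} {i : Fin n // (i : ℕ) < r} → y.ResidueField := fun i =>
    algebraMap (MvPolynomial (Fin n) R) y.ResidueField (MvPolynomial.X i.down.1)
  have hind : AlgebraicIndependent p.ResidueField x := by
    apply AlgebraicIndependent.of_comp ι
    have h1 : (ι ∘ x) = (IsScalarTower.toAlgHom p.ResidueField
        (MvPolynomial (Fin n) p.ResidueField) K₀) ∘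
        ((MvPolynomial.X : Fin n → MvPolynomial (Fin n) p.ResidueField) ∘
          fun i : ULift.{u} {i : Fin n // (i : ℕ) < r} => i.down.1) := by
      funext i
      change ι₀ (algebraMap _ y.ResidueField (MvPolynomial.X i.down.1)) = _
      rw [hι₀]
      change algebraMap (MvPolynomial (Fin n) p.ResidueField) K₀
        (evK n r p (MvPolynomial.X i.down.1)) = _
      rw [evK_X_of_lt n r p i.down.1 i.down.2]
      rfl
    rw [h1]
    refine AlgebraicIndependent.map' ?_ (IsFractionRing.injective _ K₀)
    refine (MvPolynomial.algebraicIndependent_X (Fin n) p.ResidueField).comp _ ?_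
    intro i j hij
    exact ULift.ext _ _ (Subtype.ext hij)
  -- generation
  have hmem : ∀ a : MvPolynomial (Fin n) R, algebraMap _ y.ResidueField a ∈
      Algebra.adjoin p.ResidueField (Set.range x) := by
    intro a
    induction a using MvPolynomial.induction_on with
    | C c =>
      rw [← halg]
      exact Subalgebra.algebraMap_mem _ _
    | add a b ha hb =>
      rw [map_add]
      exact Subalgebra.add_mem _ ha hb
    | mul_X a i ha =>
      rw [map_mul]
      refine Subalgebra.mul_mem _ ha ?_
      by_cases h : (i : ℕ) < r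
      · exact Algebra.subset_adjoin ⟨⟨⟨i, h⟩⟩, rfl⟩
      · have : (MvPolynomial.X i : MvPolynomial (Fin n) R) ∈ y := by
          rw [hy]
          exact Ideal.mem_sup_right (Ideal.subset_span ⟨⟨i, not_lt.mp h⟩, rfl⟩)
        rw [Ideal.algebraMap_residueField_eq_zero.mpr this]
        exact Subalgebra.zero_mem _
  have hfrac : ∀ z : y.ResidueField, ∃ a b : MvPolynomial (Fin n) R,
      algebraMap _ y.ResidueField b ≠ 0 ∧
        z * algebraMap _ y.ResidueField b = algebraMap _ y.ResidueField a := by
    intro z
    obtain ⟨a', b', hb', rfl⟩ := IsFractionRing.div_surjective (A := MvPolynomial (Fin n) R ⧸ y) z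
    obtain ⟨a, rfl⟩ := Ideal.Quotient.mk_surjective a'
    obtain ⟨b, rfl⟩ := Ideal.Quotient.mk_surjective b'
    have hb0 : algebraMap (MvPolynomial (Fin n) R ⧸ y) y.ResidueField (Ideal.Quotient.mk y b) ≠ 0 :=
      fun h => (nonZeroDivisors.ne_zero hb')
        ((map_eq_zero_iff _ (IsFractionRing.injective _ _)).mp h)
    refine ⟨a, b, hb0, ?_⟩
    change _ * algebraMap (MvPolynomial (Fin n) R ⧸ y) y.ResidueField (Ideal.Quotient.mk y b) =
      algebraMap (MvPolynomial (Fin n) R ⧸ y) y.ResidueField (Ideal.Quotient.mk y a)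
    rw [div_mul_cancel₀ _ hb0]
  refine ⟨ULift.{u} {i : Fin n // (i : ℕ) < r}, x, ?_, ?_⟩
  · rw [hind.isTranscendenceBasis_iff_isAlgebraic]
    refine ⟨fun z => ?_⟩
    obtain ⟨a, b, hb0, hab⟩ := hfrac z
    let a' : Algebra.adjoin p.ResidueField (Set.range x) := ⟨_, hmem a⟩
    let b' : Algebra.adjoin p.ResidueField (Set.range x) := ⟨_, hmem b⟩
    refine ⟨Polynomial.C b' * Polynomial.X - Polynomial.C a', ?_, ?_⟩
    · intro h0
      have h1 := congrArg (fun P => Polynomial.coeff P 1) h0
      simp only [Polynomial.coeff_sub, Polynomial.coeff_C_mul, Polynomial.coeff_X_one, mul_one,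
        Polynomial.coeff_C_succ, sub_zero, Polynomial.coeff_zero] at h1
      exact hb0 (congrArg Subtype.val h1)
    · rw [map_sub, map_mul, Polynomial.aeval_C, Polynomial.aeval_C, Polynomial.aeval_X]
      change algebraMap _ y.ResidueField b * z - algebraMap _ y.ResidueField a = 0
      rw [← hab]
      ring
  · rw [eq_top_iff]
    intro z _
    obtain ⟨a, b, hb0, hab⟩ := hfrac z
    have hz : z = algebraMap _ y.ResidueField a / algebraMap _ y.ResidueField b := by
      rw [eq_div_iff hb0, hab]
    rw [hz]
    refine div_mem ?_ ?_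
    · exact IntermediateField.algebra_adjoin_le_adjoin _ _ (hmem a)
    · exact IntermediateField.algebra_adjoin_le_adjoin _ _ (hmem b)

end Groth.Agent.Lib.helper26.ElemDevA
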