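/-
Helper library (helper26): geometric irreducibility of fibres after an elementary étale
localisation.  Part 10: from a flat, finitely presented, quasi-finite multisection `B → C` to the
conclusion, through the étale local structure of quasi-finite algebras (Stacks 00UJ).
-/
import Mathlib
import Groth.Agent.Lib.Helper26.GeomIrrNbhd9

set_option autoImplicit false
set_option linter.style.haveILetI false

namespace Groth.Agent.Lib.helper26.GeomIrr

open TensorProduct

universe u

/-- **Geometrically irreducible fibres after elementary étale localisation** (cf. Stacks, More on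
Flatness, Lemma 38.4.x / EGA IV 17.16.3-type argument).  `B` smooth of relative dimension `n` over
`R`, `y` a prime of `B` over `p` with `κ(y)` purely transcendental over `κ(p)`, and `C` a flat,
finitely presented `R`-algebra, quasi-finite at a prime `q` over `p`, with an `R`-algebra map
`B → C` under which `q` contracts to a specialization of `y`.  Then there are elementary étale
neighbourhoods `(R', p')` of `(R, p)` and `(D, yD)` of `(B, y)`, with `D` an `R'`-algebra, smooth
of relative dimension `n` with geometrically irreducible fibres. -/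
theorem concl_of_quasiFinite {R : Type u} [CommRing R] (p : Ideal R) [p.IsPrime] (B : Type u)
    [CommRing B] [Algebra R B] (n : ℕ) (hsm : FlatCA.SmoothRelDim n R B) (y : Ideal B) [y.IsPrime]
    [hy : y.LiesOver p] (hPT : FlatCA.PurelyTranscendental p y)
    (C : Type u) [CommRing C] [Algebra R C] [Algebra.FinitePresentation R C] [Module.Flat R C]
    (q : Ideal C) [q.IsPrime] [q.LiesOver p] [Algebra.QuasiFiniteAt R q] (φ₀ : B →ₐ[R] C)
    (hyq : y ≤ q.comap φ₀) : Concl p B n y := by
  obtain ⟨R₁, _, _, _, P₁, _, _, e, he, Q', _, _, hQ'q, heQ', hbij, hfin, huniq⟩ :=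
    Algebra.exists_etale_isIdempotentElem_forall_liesOver_eq p q
  haveI : Module.Finite R₁ (Localization.Away e) := hfin
  haveI : Module.Flat R₁ (Localization.Away e) :=
    Module.Flat.trans R₁ (R₁ ⊗[R] C) (Localization.Away e)
  haveI : Algebra.FinitePresentation R₁ (Localization.Away e) :=
    Algebra.FinitePresentation.trans R₁ (R₁ ⊗[R] C) (Localization.Away e)
  haveI hP'prime : (Q'.map (algebraMap (R₁ ⊗[R] C) (Localization.Away e))).IsPrime :=
    Groth.Agent.Lib.helper3.Shrink.isPrime_map_away e (Localization.Away e) Q' heQ'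
  have hP'under : (Q'.map (algebraMap (R₁ ⊗[R] C) (Localization.Away e))).under (R₁ ⊗[R] C) = Q' :=
    Groth.Agent.Lib.helper3.Shrink.under_map_away e (Localization.Away e) Q' heQ'
  haveI hP'Q' : (Q'.map (algebraMap (R₁ ⊗[R] C) (Localization.Away e))).LiesOver Q' :=
    ⟨hP'under.symm⟩
  haveI hP'P₁ : (Q'.map (algebraMap (R₁ ⊗[R] C) (Localization.Away e))).LiesOver P₁ :=
    Ideal.LiesOver.trans _ Q' _
  have huniq' : ∀ P'' : Ideal (Localization.Away e), P''.IsPrime → P''.LiesOver P₁ →
      P'' = Q'.map (algebraMap (R₁ ⊗[R] C) (Localization.Away e)) := by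
    intro P'' hP'' hP''P₁
    haveI := hP''
    haveI : (P''.under (R₁ ⊗[R] C)).IsPrime := Ideal.IsPrime.under _ P''
    haveI : (P''.under (R₁ ⊗[R] C)).LiesOver P₁ := by
      refine ⟨?_⟩
      rw [Ideal.under_under]
      exact hP''P₁.over
    have heP'' : e ∉ P''.under (R₁ ⊗[R] C) := fun hmem =>
      hP''.ne_top (Ideal.eq_top_of_isUnit_mem _ (Ideal.mem_comap.mp hmem)
        (IsLocalization.Away.algebraMap_isUnit e))
    have h1 := huniq (P''.under (R₁ ⊗[R] C)) inferInstance inferInstance heP''
    apply Groth.Agent.Lib.helper3.Shrink.eq_of_under_eq_loc (Submonoid.powers e)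
    rw [h1, hP'under]
  let φ : B →ₐ[R] Localization.Away e :=
    ((IsScalarTower.toAlgHom R (R₁ ⊗[R] C) (Localization.Away e)).comp
      (Algebra.TensorProduct.includeRight : C →ₐ[R] R₁ ⊗[R] C)).comp φ₀
  have hyφ : y ≤ (Q'.map (algebraMap (R₁ ⊗[R] C) (Localization.Away e))).comap φ := by
    intro b hb
    rw [Ideal.mem_comap]
    have h1 : φ₀ b ∈ q := hyq hb
    rw [← hQ'q, Ideal.mem_comap] at h1
    exact Ideal.mem_map_of_mem _ h1
  exact concl_of_multisection p B n hsm y hPT R₁ P₁ hbij (Localization.Away e)
    (Q'.map (algebraMap (R₁ ⊗[R] C) (Localization.Away e))) huniq' φ hyφ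

end Groth.Agent.Lib.helper26.GeomIrr
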