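/-
Helper library (helper26): geometric irreducibility of fibres after an elementary étale
localisation.  Part 11: a finite free algebra carrying roots of finitely many monic polynomials
(an iterated `AdjoinRoot`), with its mapping property.
-/
import Mathlib

set_option autoImplicit false
set_option linter.style.haveILetI false

namespace Groth.Agent.Lib.helper26.GeomIrr

open Polynomial

universe u

/-- For monic polynomials `h 0, …, h (n-1)` over `R₀` there is a finite free `R₀`-algebra `F` with
elements `r i` such that `h i (r i) = 0`, mapping to any `R₀`-algebra with such roots. -/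
theorem exists_tower (R₀ : Type u) [CommRing R₀] : ∀ (n : ℕ) (h : Fin n → R₀[X]),
    (∀ i, (h i).Monic) →
    ∃ (F : Type u) (_ : CommRing F) (_ : Algebra R₀ F) (r : Fin n → F),
      Module.Finite R₀ F ∧ Module.Free R₀ F ∧ (∀ i, aeval (r i) (h i) = 0) ∧
      ∀ (L : Type u) [CommRing L] [Algebra R₀ L] (l : Fin n → L),
        (∀ i, aeval (l i) (h i) = 0) → ∃ ψ : F →ₐ[R₀] L, ∀ i, ψ (r i) = l i := by
  intro n
  induction n with
  | zero =>
    intro h _
    exact ⟨R₀, inferInstance, inferInstance, Fin.elim0, inferInstance, inferInstance,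
      fun i => i.elim0, fun L _ _ l _ => ⟨Algebra.ofId R₀ L, fun i => i.elim0⟩⟩
  | succ n ih =>
    intro h hm
    obtain ⟨F', _, _, r', hfin, hfree, hr', huniv⟩ :=
      ih (fun i => h i.castSucc) (fun i => hm i.castSucc)
    let hn : F'[X] := (h (Fin.last n)).map (algebraMap R₀ F')
    have hnm : hn.Monic := (hm (Fin.last n)).map _
    haveI := hnm.finite_adjoinRoot
    haveI := hnm.free_adjoinRoot
    haveI : Module.Finite R₀ (AdjoinRoot hn) := Module.Finite.trans F' _
    haveI : Module.Free R₀ (AdjoinRoot hn) := Module.Free.trans (S := F')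
    refine ⟨AdjoinRoot hn, inferInstance, inferInstance,
      Fin.snoc (fun i => algebraMap F' (AdjoinRoot hn) (r' i)) (AdjoinRoot.root hn),
      inferInstance, inferInstance, ?_, ?_⟩
    · intro i
      refine Fin.lastCases ?_ (fun j => ?_) i
      · rw [Fin.snoc_last]
        rw [aeval_def, IsScalarTower.algebraMap_eq R₀ F' (AdjoinRoot hn), ← eval₂_map]
        exact AdjoinRoot.eval₂_root hn
      · rw [Fin.snoc_castSucc, aeval_algebraMap_apply, hr' j, map_zero]
    · intro L _ _ l hl
      obtain ⟨ψ', hψ'⟩ := huniv L (fun i => l i.castSucc) (fun i => hl i.castSucc)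
      have h0 : hn.eval₂ (ψ' : F' →+* L) (l (Fin.last n)) = 0 := by
        rw [eval₂_map]
        have : (ψ' : F' →+* L).comp (algebraMap R₀ F') = algebraMap R₀ L := ψ'.comp_algebraMap
        rw [this]
        exact hl (Fin.last n)
      refine ⟨AdjoinRoot.liftAlgHom hn ψ' (l (Fin.last n)) h0, fun i => ?_⟩
      refine Fin.lastCases ?_ (fun j => ?_) i
      · rw [Fin.snoc_last, AdjoinRoot.liftAlgHom_root]
      · rw [Fin.snoc_castSucc]
        change AdjoinRoot.liftAlgHom hn ψ' (l (Fin.last n)) h0 (AdjoinRoot.of hn (r' j)) = _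
        rw [AdjoinRoot.liftAlgHom_of, hψ']

end Groth.Agent.Lib.helper26.GeomIrr
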