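/-
Helper library (helper26): geometric irreducibility of fibres after an elementary étale
localisation.  Part 12: elements of a field algebraic over `κ(p)` become integral over a principal
localisation `R_s`, `s ∉ p`.
-/
import Mathlib

set_option autoImplicit false
set_option linter.style.haveILetI false

namespace Groth.Agent.Lib.helper26.GeomIrr

open Polynomial

universe u

/-- Finitely many elements of a field `L` algebraic over `κ(p)` are integral over `R_s` for a
suitable `s ∉ p`. -/
theorem exists_away_isIntegral {R : Type u} [CommRing R] (p : Ideal R) [p.IsPrime]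
    (L : Type u) [Field L] [Algebra R L] [Algebra p.ResidueField L]
    [IsScalarTower R p.ResidueField L] [Algebra.IsAlgebraic p.ResidueField L]
    {n : ℕ} (t : Fin n → L) :
    ∃ s : R, s ∉ p ∧ ∀ (R₀ : Type u) [CommRing R₀] [Algebra R R₀] [IsLocalization.Away s R₀]
      [Algebra R₀ L] [IsScalarTower R R₀ L], ∀ i, IsIntegral R₀ (t i) := by
  letI algRL : Algebra (R ⧸ p) L :=
    ((algebraMap p.ResidueField L).comp (algebraMap (R ⧸ p) p.ResidueField)).toAlgebra
  haveI : IsScalarTower (R ⧸ p) p.ResidueField L := IsScalarTower.of_algebraMap_eq fun _ => rfl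
  haveI : IsScalarTower R (R ⧸ p) L := IsScalarTower.of_algebraMap_eq fun r => by
    rw [IsScalarTower.algebraMap_apply R p.ResidueField L,
      IsScalarTower.algebraMap_apply R (R ⧸ p) p.ResidueField]
    rfl
  haveI : Algebra.IsAlgebraic (R ⧸ p) L := Algebra.IsAlgebraic.trans (R ⧸ p) p.ResidueField L
  have h1 : ∀ i, ∃ s : R, s ∉ p ∧ IsIntegral R (s • t i) := by
    intro i
    obtain ⟨yb, hyb, hint⟩ := (Algebra.IsAlgebraic.isAlgebraic (R := R ⧸ p) (t i)).exists_integral_multiple
    obtain ⟨s, rfl⟩ := Ideal.Quotient.mk_surjective yb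
    refine ⟨s, fun hs => hyb (Ideal.Quotient.eq_zero_iff_mem.mpr hs), ?_⟩
    have e : (Ideal.Quotient.mk p s) • t i = s • t i := by
      rw [Algebra.smul_def, Algebra.smul_def, IsScalarTower.algebraMap_apply R (R ⧸ p) L]
      rfl
    rw [e] at hint
    haveI : Algebra.IsIntegral R (R ⧸ p) :=
      Algebra.IsIntegral.of_surjective (Ideal.Quotient.mkₐ R p) Ideal.Quotient.mk_surjective
    exact isIntegral_trans (A := R ⧸ p) _ hint
  choose s hs hint using h1
  refine ⟨∏ i, s i, ?_, ?_⟩
  · intro hmem
    obtain ⟨i, -, hi⟩ := (Ideal.IsPrime.prod_mem_iff.mp hmem)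
    exact hs i hi
  · intro R₀ _ _ _ _ _ i
    have hu : IsUnit (algebraMap R R₀ (s i)) := by
      have h2 : IsUnit (algebraMap R R₀ (∏ j, s j)) := IsLocalization.Away.algebraMap_isUnit _
      rw [← Finset.mul_prod_erase Finset.univ s (Finset.mem_univ i), map_mul] at h2
      exact isUnit_of_mul_isUnit_left h2
    have e : t i = algebraMap R₀ L (↑hu.unit⁻¹ : R₀) * (s i • t i) := by
      rw [Algebra.smul_def, IsScalarTower.algebraMap_apply R R₀ L, ← mul_assoc, ← map_mul]
      have : (↑hu.unit⁻¹ : R₀) * algebraMap R R₀ (s i) = 1 := by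
        rw [mul_comm]
        exact hu.mul_val_inv
      rw [this, map_one, one_mul]
    rw [e]
    exact IsIntegral.mul isIntegral_algebraMap (hint i).tower_top

end Groth.Agent.Lib.helper26.GeomIrr
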