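/-
Helper library (helper26): geometric irreducibility of fibres after an elementary étale
localisation.  Part 13: a closed point of the fibre specialising a given point, with residue
field finite over `κ(p)`.
-/
import Mathlib
import Groth.Agent.Lib.Helper26.GeomIrrNbhd4

set_option autoImplicit false
set_option linter.style.haveILetI false

namespace Groth.Agent.Lib.helper26.GeomIrr

open TensorProduct

universe u

/-- For a finite type `R`-algebra `B` and a prime `y` over `p` there is a field `L`, finite over
`κ(p)`, and an `R`-algebra map `B → L` killing `y` (a closed point of the fibre over `p` in the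
closure of `y`). -/
theorem exists_finite_field_point {R : Type u} [CommRing R] (p : Ideal R) [p.IsPrime]
    (B : Type u) [CommRing B] [Algebra R B] [Algebra.FiniteType R B] (y : Ideal B) [y.IsPrime]
    [y.LiesOver p] :
    ∃ (L : Type u) (_ : Field L) (_ : Algebra R L) (_ : Algebra p.ResidueField L)
      (_ : IsScalarTower R p.ResidueField L) (_ : Module.Finite p.ResidueField L)
      (β : B →ₐ[R] L), y ≤ RingHom.ker β := by
  obtain ⟨m, hm, hle⟩ := Ideal.exists_le_maximal (fibPt B p y).asIdeal (fibPt B p y).2.ne_top
  haveI := hm
  letI : Field (p.Fiber B ⧸ m) := Ideal.Quotient.field m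
  haveI : Algebra.FiniteType p.ResidueField (p.Fiber B ⧸ m) :=
    Algebra.FiniteType.of_surjective (Ideal.Quotient.mkₐ p.ResidueField m)
      Ideal.Quotient.mk_surjective
  haveI : Module.Finite p.ResidueField (p.Fiber B ⧸ m) :=
    finite_of_finite_type_of_isJacobsonRing _ _
  refine ⟨p.Fiber B ⧸ m, inferInstance, inferInstance, inferInstance, inferInstance, inferInstance,
    (Ideal.Quotient.mkₐ R m).comp (Algebra.TensorProduct.includeRight : B →ₐ[R] p.Fiber B), ?_⟩
  intro b hb
  rw [RingHom.mem_ker]
  change Ideal.Quotient.mk m ((1 : p.ResidueField) ⊗ₜ[R] b) = 0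
  rw [Ideal.Quotient.eq_zero_iff_mem]
  apply hle
  have : b ∈ (fibPt B p y).asIdeal.comap
      (Algebra.TensorProduct.includeRight : B →ₐ[R] p.Fiber B) := by
    rw [fibPt_comap]
    exact hb
  exact this

end Groth.Agent.Lib.helper26.GeomIrr
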