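/-
Helper library (helper26): geometric irreducibility of fibres after an elementary étale
localisation.  Part 14: existence of a flat, finitely presented, quasi-finite multisection through
a specialisation of a given point of an algebra étale over a polynomial ring.
-/
import Mathlib
import Groth.Agent.Lib.Helper26.GeomIrrNbhd11
import Groth.Agent.Lib.Helper26.GeomIrrNbhd12
import Groth.Agent.Lib.Helper26.GeomIrrNbhd13

set_option autoImplicit false
set_option linter.style.haveILetI false

namespace Groth.Agent.Lib.helper26.GeomIrr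

open TensorProduct Polynomial

universe u

/-- the kernel of `R → L` is `p` when `L` is a field over `κ(p)` -/
theorem ker_algebraMap_of_residueField {R : Type u} [CommRing R] (p : Ideal R) [p.IsPrime]
    (L : Type u) [Field L] [Algebra R L] [Algebra p.ResidueField L]
    [IsScalarTower R p.ResidueField L] (a : R) : algebraMap R L a = 0 ↔ a ∈ p := by
  rw [IsScalarTower.algebraMap_apply R p.ResidueField L,
    map_eq_zero_iff _ (algebraMap p.ResidueField L).injective,
    Ideal.algebraMap_residueField_eq_zero]

/-- The abstract multisection: given a finite free `R₀`-algebra `F` (with `R₀` a principal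
localisation of `R`), an `R`-algebra map `A → F` and compatible maps to a field `L` over `κ(p)`,
the base change `F ⊗[A] B` of an étale `A`-algebra `B` is a flat, finitely presented,
quasi-finite `R`-algebra with a prime over `p` contracting to the kernel of `B → L`. -/
theorem multisection_aux {R : Type u} [CommRing R] (p : Ideal R) [p.IsPrime]
    (A : Type u) [CommRing A] [Algebra R A]
    (B : Type u) [CommRing B] [Algebra A B] [Algebra R B] [IsScalarTower R A B] [Algebra.Etale A B]
    (L : Type u) [Field L] [Algebra R L] [Algebra p.ResidueField L]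
    [IsScalarTower R p.ResidueField L] (β : B →ₐ[R] L)
    (s : R) (R₀ : Type u) [CommRing R₀] [Algebra R R₀] [IsLocalization.Away s R₀]
    (F : Type u) [CommRing F] [Algebra R₀ F] [Algebra R F] [IsScalarTower R R₀ F]
    [Module.Finite R₀ F] [Module.Free R₀ F] [Algebra A F] [IsScalarTower R A F]
    (ψ : F →ₐ[R] L) (hψ : ∀ a : A, ψ (algebraMap A F a) = β (algebraMap A B a)) :
    ∃ (C : Type u) (_ : CommRing C) (_ : Algebra R C) (_ : Algebra.FinitePresentation R C)
      (_ : Module.Flat R C) (q : Ideal C) (_ : q.IsPrime) (_ : q.LiesOver p)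
      (_ : Algebra.QuasiFiniteAt R q) (φ₀ : B →ₐ[R] C), q.comap φ₀ = RingHom.ker β := by
  -- the algebra
  haveI : Algebra.FinitePresentation R R₀ := IsLocalization.Away.finitePresentation s
  haveI : Module.Flat R R₀ := IsLocalization.flat R₀ (Submonoid.powers s)
  haveI : Module.FinitePresentation R₀ F := Module.finitePresentation_of_projective R₀ F
  haveI : Algebra.FinitePresentation R₀ F := inferInstance
  haveI : Algebra.FinitePresentation R F := Algebra.FinitePresentation.trans R R₀ F
  haveI : Module.Flat R F := Module.Flat.trans R R₀ F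
  haveI : Algebra.Etale F (F ⊗[A] B) := inferInstance
  haveI : Algebra.FinitePresentation R (F ⊗[A] B) :=
    Algebra.FinitePresentation.trans R F (F ⊗[A] B)
  haveI : Module.Flat F (F ⊗[A] B) := inferInstance
  haveI : Module.Flat R (F ⊗[A] B) := Module.Flat.trans R F (F ⊗[A] B)
  haveI : Algebra.QuasiFinite R R₀ :=
    Algebra.QuasiFinite.of_isLocalization (R := R) (S := R) (Submonoid.powers s)
  haveI : Algebra.QuasiFinite R₀ F := inferInstance
  haveI : Algebra.QuasiFinite R F := Algebra.QuasiFinite.trans R R₀ F
  haveI : Algebra.QuasiFinite F (F ⊗[A] B) := inferInstance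
  haveI : Algebra.QuasiFinite R (F ⊗[A] B) := Algebra.QuasiFinite.trans R F (F ⊗[A] B)
  -- the map to `L`
  letI : Algebra A L := ((β : B →+* L).comp (algebraMap A B)).toAlgebra
  haveI : IsScalarTower R A L := IsScalarTower.of_algebraMap_eq fun a => by
    change algebraMap R L a = β (algebraMap A B (algebraMap R A a))
    rw [← IsScalarTower.algebraMap_apply R A B, β.commutes]
  let ψA : F →ₐ[A] L := { (ψ : F →+* L) with commutes' := fun a => hψ a }
  let βA : B →ₐ[A] L := { (β : B →+* L) with commutes' := fun a => rfl }
  let γ : F ⊗[A] B →ₐ[A] L := Algebra.TensorProduct.lift ψA βA (fun _ _ => Commute.all _ _)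
  have hγ1 : ∀ b : B, γ (1 ⊗ₜ b) = β b := by
    intro b
    rw [Algebra.TensorProduct.lift_tmul, map_one, one_mul]
    rfl
  have hγR : ∀ a : R, γ (algebraMap R (F ⊗[A] B) a) = algebraMap R L a := by
    intro a
    rw [IsScalarTower.algebraMap_apply R A (F ⊗[A] B), γ.commutes,
      ← IsScalarTower.algebraMap_apply R A L]
  haveI hqprime : (RingHom.ker (γ : F ⊗[A] B →+* L)).IsPrime := RingHom.ker_isPrime _
  haveI hqp : (RingHom.ker (γ : F ⊗[A] B →+* L)).LiesOver p := by
    refine ⟨?_⟩
    ext a
    rw [Ideal.under_def, Ideal.mem_comap, RingHom.mem_ker]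
    change _ ↔ γ (algebraMap R (F ⊗[A] B) a) = 0
    rw [hγR, ker_algebraMap_of_residueField p]
  refine ⟨F ⊗[A] B, inferInstance, inferInstance, inferInstance, inferInstance,
    RingHom.ker (γ : F ⊗[A] B →+* L), hqprime, hqp, inferInstance,
    (Algebra.TensorProduct.includeRight : B →ₐ[A] F ⊗[A] B).restrictScalars R, ?_⟩
  ext b
  rw [Ideal.mem_comap, RingHom.mem_ker, RingHom.mem_ker]
  change γ (1 ⊗ₜ b) = 0 ↔ _
  rw [hγ1]

end Groth.Agent.Lib.helper26.GeomIrr
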