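/-
Helper library (helper26): geometric irreducibility of fibres after an elementary étale
localisation.  Part 15: existence of a flat, finitely presented, quasi-finite multisection through
a specialisation of a given point of an algebra étale over a polynomial ring.
-/
import Mathlib
import Groth.Agent.Lib.Helper26.GeomIrrNbhd14

set_option autoImplicit false
set_option linter.style.haveILetI false

namespace Groth.Agent.Lib.helper26.GeomIrr

open TensorProduct Polynomial

universe u

/-- **Quasi-finite flat multisections** (cf. EGA IV 17.16.3): for `B` étale over `R[x₁,…,xₙ]` and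
a prime `y` of `B` over `p`, there is a flat finitely presented `R`-algebra `C`, quasi-finite over
`R`, an `R`-algebra map `B → C` and a prime `q` of `C` over `p` contracting to a specialisation
of `y`. -/
theorem exists_multisection {R : Type u} [CommRing R] (p : Ideal R) [p.IsPrime] (n : ℕ)
    (B : Type u) [CommRing B] [Algebra (MvPolynomial (Fin n) R) B] [Algebra R B]
    [IsScalarTower R (MvPolynomial (Fin n) R) B] [Algebra.Etale (MvPolynomial (Fin n) R) B]
    (y : Ideal B) [y.IsPrime] [y.LiesOver p] :
    ∃ (C : Type u) (_ : CommRing C) (_ : Algebra R C) (_ : Algebra.FinitePresentation R C)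
      (_ : Module.Flat R C) (q : Ideal C) (_ : q.IsPrime) (_ : q.LiesOver p)
      (_ : Algebra.QuasiFiniteAt R q) (φ₀ : B →ₐ[R] C), y ≤ q.comap φ₀ := by
  haveI : Algebra.FiniteType R B := Algebra.FiniteType.trans (S := MvPolynomial (Fin n) R)
    inferInstance inferInstance
  obtain ⟨L, _, _, _, _, _, β, hβ⟩ := exists_finite_field_point p B y
  haveI : Algebra.IsAlgebraic p.ResidueField L := Algebra.IsAlgebraic.of_finite _ _
  obtain ⟨s, hs, hint⟩ := exists_away_isIntegral p L
    (fun i : Fin n => β (algebraMap (MvPolynomial (Fin n) R) B (MvPolynomial.X i)))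
  have hunit : IsUnit (algebraMap R L s) := by
    rw [isUnit_iff_ne_zero, Ne, ker_algebraMap_of_residueField p]
    exact hs
  letI : Algebra (Localization.Away s) L := (IsLocalization.Away.lift s hunit).toAlgebra
  haveI : IsScalarTower R (Localization.Away s) L := IsScalarTower.of_algebraMap_eq fun a =>
    (IsLocalization.Away.lift_eq s hunit a).symm
  have hint' := hint (Localization.Away s)
  choose h hm hh using fun i => hint' i
  obtain ⟨F, _, _, r, hfin, hfree, hr, huniv⟩ := exists_tower (Localization.Away s) n h hm
  obtain ⟨ψ, hψ⟩ := huniv L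
    (fun i : Fin n => β (algebraMap (MvPolynomial (Fin n) R) B (MvPolynomial.X i))) hh
  letI : Algebra R F := ((algebraMap (Localization.Away s) F).comp
    (algebraMap R (Localization.Away s))).toAlgebra
  haveI : IsScalarTower R (Localization.Away s) F := IsScalarTower.of_algebraMap_eq fun _ => rfl
  let α : MvPolynomial (Fin n) R →ₐ[R] F := MvPolynomial.aeval r
  letI : Algebra (MvPolynomial (Fin n) R) F := α.toRingHom.toAlgebra
  haveI : IsScalarTower R (MvPolynomial (Fin n) R) F := IsScalarTower.of_algebraMap_eq fun a =>
    (α.commutes a).symm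
  have hcomp : ((ψ.restrictScalars R : F →ₐ[R] L) : F →+* L).comp
      (algebraMap (MvPolynomial (Fin n) R) F) =
      (β : B →+* L).comp (algebraMap (MvPolynomial (Fin n) R) B) := by
    apply MvPolynomial.ringHom_ext
    · intro a
      change ψ (α (MvPolynomial.C a)) = β (algebraMap (MvPolynomial (Fin n) R) B (MvPolynomial.C a))
      rw [← MvPolynomial.algebraMap_eq, α.commutes,
        ← IsScalarTower.algebraMap_apply R (MvPolynomial (Fin n) R) B, β.commutes,
        IsScalarTower.algebraMap_apply R (Localization.Away s) F, ψ.commutes,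
        ← IsScalarTower.algebraMap_apply R (Localization.Away s) L]
    · intro i
      change ψ (α (MvPolynomial.X i)) = _
      rw [MvPolynomial.aeval_X, hψ]
      rfl
  obtain ⟨C, _, _, hfp, hflat, q, hq, hqp, hqf, φ₀, hφ₀⟩ := multisection_aux p
    (MvPolynomial (Fin n) R) B L β s (Localization.Away s) F (ψ.restrictScalars R)
    (fun a => congrArg (fun f : MvPolynomial (Fin n) R →+* L => f a) hcomp)
  exact ⟨C, inferInstance, inferInstance, hfp, hflat, q, hq, hqp, hqf, φ₀, hφ₀ ▸ hβ⟩

end Groth.Agent.Lib.helper26.GeomIrr
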