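/-
Helper library (helper26): towards the existence of elementary dévissages (S1249).
Part A1: algebras étale over a polynomial ring in `n` variables are smooth of relative
dimension `n`; lemma (E) for them.
-/
import Mathlib
import Groth.Agent.Lib.Helper26.GeomIrrNbhd10
import Groth.Agent.Lib.Helper26.GeomIrrNbhd15

set_option autoImplicit false
set_option linter.style.haveILetI false

namespace Groth.Agent.Lib.helper26.ElemDevA

open AlgebraicGeometry CategoryTheory TensorProduct

universe u

/-- the polynomial ring is standard smooth of relative dimension the number of variables. -/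
theorem isStandardSmoothOfRelativeDimension_mvPolynomial (A : Type u) [CommRing A] [Nontrivial A]
    (r : ℕ) : Algebra.IsStandardSmoothOfRelativeDimension r A (MvPolynomial (Fin r) A) := by
  haveI : Algebra.IsStandardSmooth A (MvPolynomial (Fin r) A) := by
    rw [Algebra.IsStandardSmooth.iff_exists_basis_kaehlerDifferential]
    refine ⟨inferInstance, ⟨Fin r, KaehlerDifferential.mvPolynomialBasis A (Fin r), ?_⟩⟩
    rintro _ ⟨i, rfl⟩
    exact ⟨MvPolynomial.X i, (KaehlerDifferential.mvPolynomialBasis_apply A (Fin r) i).symm⟩
  rw [Algebra.IsStandardSmoothOfRelativeDimension.iff_of_isStandardSmooth]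
  rw [rank_eq_card_basis (KaehlerDifferential.mvPolynomialBasis A (Fin r))]
  simp

/-- affine space is smooth of relative dimension `n` -/
theorem smoothRelDim_mvPolynomial (R : Type u) [CommRing R] [Nontrivial R] (n : ℕ) :
    FlatCA.SmoothRelDim n R (MvPolynomial (Fin n) R) := by
  haveI := isStandardSmoothOfRelativeDimension_mvPolynomial R n
  change SmoothOfRelativeDimension n _
  rw [HasRingHomProperty.Spec_iff (P := @SmoothOfRelativeDimension n)]
  apply RingHom.locally_of (RingHom.isStandardSmoothOfRelativeDimension_respectsIso (n := n))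
  change (algebraMap R (MvPolynomial (Fin n) R)).IsStandardSmoothOfRelativeDimension n
  rw [RingHom.isStandardSmoothOfRelativeDimension_algebraMap]
  infer_instance

/-- an algebra étale over the polynomial ring in `n` variables is smooth of relative dimension
`n` -/
theorem smoothRelDim_of_etale_mvPolynomial (R : Type u) [CommRing R] [Nontrivial R] (n : ℕ)
    (B : Type u) [CommRing B] [Algebra (MvPolynomial (Fin n) R) B] [Algebra R B]
    [IsScalarTower R (MvPolynomial (Fin n) R) B] [Algebra.Etale (MvPolynomial (Fin n) R) B] :
    FlatCA.SmoothRelDim n R B := by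
  have e : Spec.map (CommRingCat.ofHom (algebraMap R B)) =
      Spec.map (CommRingCat.ofHom (algebraMap (MvPolynomial (Fin n) R) B)) ≫
        Spec.map (CommRingCat.ofHom (algebraMap R (MvPolynomial (Fin n) R))) := by
    rw [← Spec.map_comp, ← CommRingCat.ofHom_comp, ← IsScalarTower.algebraMap_eq]
  haveI : Etale (Spec.map (CommRingCat.ofHom (algebraMap (MvPolynomial (Fin n) R) B))) := by
    rw [HasRingHomProperty.Spec_iff (P := @Etale)]
    change (algebraMap (MvPolynomial (Fin n) R) B).Etale
    rw [RingHom.etale_algebraMap]
    infer_instance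
  haveI : SmoothOfRelativeDimension n
      (Spec.map (CommRingCat.ofHom (algebraMap R (MvPolynomial (Fin n) R)))) :=
    smoothRelDim_mvPolynomial R n
  have h0 : SmoothOfRelativeDimension (0 + n)
      (Spec.map (CommRingCat.ofHom (algebraMap (MvPolynomial (Fin n) R) B)) ≫
        Spec.map (CommRingCat.ofHom (algebraMap R (MvPolynomial (Fin n) R)))) := inferInstance
  rw [zero_add] at h0
  change SmoothOfRelativeDimension n _
  rw [e]
  exact h0

/-- **Lemma (E)** for algebras étale over a polynomial ring: after elementary étale localisations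
of the base and of the algebra, the fibres become geometrically irreducible. -/
theorem concl_of_etale_mvPolynomial {R : Type u} [CommRing R] (p : Ideal R) [p.IsPrime] (n : ℕ)
    (B : Type u) [CommRing B] [Algebra (MvPolynomial (Fin n) R) B] [Algebra R B]
    [IsScalarTower R (MvPolynomial (Fin n) R) B] [Algebra.Etale (MvPolynomial (Fin n) R) B]
    (y : Ideal B) [y.IsPrime] [y.LiesOver p] (hPT : FlatCA.PurelyTranscendental p y) :
    Groth.Agent.Lib.helper26.GeomIrr.Concl p B n y := by
  haveI : Nontrivial R := ⟨⟨0, 1, fun h => (inferInstance : p.IsPrime).ne_top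
    (p.eq_top_iff_one.mpr (h ▸ p.zero_mem))⟩⟩
  obtain ⟨C, _, _, hfp, hflat, q, hq, hqp, hqf, φ₀, hφ₀⟩ :=
    Groth.Agent.Lib.helper26.GeomIrr.exists_multisection p n B y
  exact Groth.Agent.Lib.helper26.GeomIrr.concl_of_quasiFinite p B n
    (smoothRelDim_of_etale_mvPolynomial R n B) y hPT C q φ₀ hφ₀

end Groth.Agent.Lib.helper26.ElemDevA
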