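/-
Helper library (helper26): towards the existence of elementary dévissages (S1249).
Part B1: base change of the étale local structure of a quasi-finite algebra (Stacks 00UJ) along a
further elementary étale neighbourhood.
-/
import Mathlib
import Groth.Agent.Lib.Helper3.BijRes1

set_option autoImplicit false
set_option linter.style.haveILetI false

namespace Groth.Agent.Lib.helper26.ElemDevB

open TensorProduct

universe u

attribute [local instance] Algebra.TensorProduct.rightAlgebra

section BC

variable {A : Type u} [CommRing A] (T : Type u) [CommRing T] [Algebra A T]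
  (A' : Type u) [CommRing A'] [Algebra A A']
  (D : Type u) [CommRing D] [Algebra A' D] [Algebra A D] [IsScalarTower A A' D]

/-- the base change map `A' ⊗ T → D ⊗ T` -/
noncomputable def bcMap : A' ⊗[A] T →ₐ[A'] D ⊗[A] T :=
  Algebra.TensorProduct.rTensor T (Algebra.ofId A' D)

theorem bcMap_tmul (a : A') (t : T) :
    bcMap T A' D (a ⊗ₜ[A] t) = algebraMap A' D a ⊗ₜ[A] t := rfl

theorem bcMap_includeRight (t : T) :
    bcMap T A' D ((Algebra.TensorProduct.includeRight : T →ₐ[A] A' ⊗[A] T) t) =
      (Algebra.TensorProduct.includeRight : T →ₐ[A] D ⊗[A] T) t := by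
  change bcMap T A' D (1 ⊗ₜ[A] t) = 1 ⊗ₜ[A] t
  rw [bcMap_tmul, map_one]

variable {T A'}

theorem isIdempotentElem_bcMap {e : A' ⊗[A] T} (he : IsIdempotentElem e) :
    IsIdempotentElem (bcMap T A' D e) := he.map (bcMap T A' D)

/-- finiteness of the open-closed piece passes to the base change -/
theorem finite_quot {e : A' ⊗[A] T} (he : IsIdempotentElem e)
    (hfin : Module.Finite A' (Localization.Away e)) :
    Module.Finite D ((D ⊗[A] T) ⧸ Ideal.span {1 - bcMap T A' D e}) := by
  haveI := hfin
  haveI : IsLocalization.Away e (A' ⊗[A] T ⧸ Ideal.span {1 - e}) :=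
    IsLocalization.Away.quotient_of_isIdempotentElem he
  let ε : Localization.Away e ≃ₐ[A' ⊗[A] T] (A' ⊗[A] T ⧸ Ideal.span {1 - e}) :=
    IsLocalization.algEquiv (Submonoid.powers e) _ _
  haveI : Module.Finite A' (A' ⊗[A] T ⧸ Ideal.span {1 - e}) :=
    Module.Finite.equiv (ε.toLinearEquiv.restrictScalars A')
  have h1 : Algebra.TensorProduct.rTensor T (Algebra.ofId A' D) (1 - e) = 1 - bcMap T A' D e := by
    rw [map_sub, map_one]
    rfl
  let ε₂ := Algebra.tensorQuotientTensorEquiv (R := A) (S := T) D (1 - e)
  haveI : Module.Finite D (D ⊗[A] T ⧸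
      Ideal.span {Algebra.TensorProduct.rTensor T (Algebra.ofId A' D) (1 - e)}) :=
    Module.Finite.equiv ε₂.toLinearEquiv
  rw [← h1]
  infer_instance

end BC

end Groth.Agent.Lib.helper26.ElemDevB
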