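/-
Helper library (helper26): towards the existence of elementary dévissages (S1249).
Part B2: primes of the base change `D ⊗ T` of the étale local structure of a quasi-finite algebra.
-/
import Mathlib
import Groth.Agent.Lib.Helper26.ElemDevB1

set_option autoImplicit false
set_option linter.style.haveILetI false
set_option linter.unusedSectionVars false

namespace Groth.Agent.Lib.helper26.ElemDevB

open TensorProduct

universe u

attribute [local instance] Algebra.TensorProduct.rightAlgebra

section Primes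

variable {A : Type u} [CommRing A] (T : Type u) [CommRing T] [Algebra A T]
  (yA : Ideal A) [yA.IsPrime] (qb : Ideal T) [qb.IsPrime]
  (A' : Type u) [CommRing A'] [Algebra A A'] (y' : Ideal A') [y'.IsPrime] [hy' : y'.LiesOver yA]
  (hbij' : Function.Bijective (Ideal.ResidueField.mapₐ yA y' (Algebra.ofId A A') hy'.over))
  (e : A' ⊗[A] T)
  (Q' : Ideal (A' ⊗[A] T)) [Q'.IsPrime] [hQ'y' : Q'.LiesOver y']
  (hQ' : Q'.comap (Algebra.TensorProduct.includeRight : T →ₐ[A] A' ⊗[A] T).toRingHom = qb)
  (heQ' : e ∉ Q')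
  (huniq : ∀ P'' : Ideal (A' ⊗[A] T), P''.IsPrime → P''.LiesOver y' → e ∉ P'' → P'' = Q')
  (D : Type u) [CommRing D] [Algebra A' D] [Algebra A D] [IsScalarTower A A' D]
  (yD : Ideal D) [yD.IsPrime] [hyD : yD.LiesOver y']

theorem comap_bcMap_comap (P : Ideal (D ⊗[A] T)) :
    (P.comap (bcMap T A' D).toRingHom).comap
      (Algebra.TensorProduct.includeRight : T →ₐ[A] A' ⊗[A] T).toRingHom =
    P.comap (Algebra.TensorProduct.includeRight : T →ₐ[A] D ⊗[A] T).toRingHom := by
  ext t
  simp only [Ideal.mem_comap]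
  have := bcMap_includeRight (A := A) T A' D t
  change bcMap T A' D ((Algebra.TensorProduct.includeRight : T →ₐ[A] A' ⊗[A] T) t) ∈ P ↔ _
  rw [this]
  rfl

include hQ' huniq in
omit [yA.IsPrime] [qb.IsPrime] hy' [Q'.IsPrime] hQ'y' in
/-- a prime of `D ⊗ T` over `yD` not containing the idempotent contracts to `qb` -/
theorem comap_eq_of_notMem (P : Ideal (D ⊗[A] T)) [P.IsPrime] [hP : P.LiesOver yD]
    (h : bcMap T A' D e ∉ P) :
    P.comap (Algebra.TensorProduct.includeRight : T →ₐ[A] D ⊗[A] T).toRingHom = qb := by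
  haveI : (P.comap (bcMap T A' D).toRingHom).IsPrime := Ideal.comap_isPrime _ _
  haveI : P.LiesOver y' := Ideal.LiesOver.trans P yD y'
  haveI : (P.comap (bcMap T A' D).toRingHom).LiesOver y' := P.comap_liesOver y' (bcMap T A' D)
  have h1 := huniq (P.comap (bcMap T A' D).toRingHom) inferInstance inferInstance h
  rw [← comap_bcMap_comap T A' D P, h1, hQ']

include hbij' hQ' heQ' in
omit [qb.IsPrime] in
/-- a prime of `D ⊗ T` over `yD` contracting to `qb` does not contain the idempotent -/
theorem notMem_of_comap_eq (P : Ideal (D ⊗[A] T)) [P.IsPrime] [hP : P.LiesOver yD]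
    (h : P.comap (Algebra.TensorProduct.includeRight : T →ₐ[A] D ⊗[A] T).toRingHom = qb) :
    bcMap T A' D e ∉ P := by
  haveI : (P.comap (bcMap T A' D).toRingHom).IsPrime := Ideal.comap_isPrime _ _
  haveI : P.LiesOver y' := Ideal.LiesOver.trans P yD y'
  haveI hP'' : (P.comap (bcMap T A' D).toRingHom).LiesOver y' :=
    P.comap_liesOver y' (bcMap T A' D)
  have h1 : P.comap (bcMap T A' D).toRingHom = Q' := by
    refine Groth.Agent.Lib.helper3.BijRes.eq_of_under_eq yA y' hbij'.2 T (A' ⊗[A] T) _ _
      hP''.over.symm hQ'y'.over.symm ?_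
    change (P.comap (bcMap T A' D).toRingHom).comap
      (Algebra.TensorProduct.includeRight : T →ₐ[A] A' ⊗[A] T).toRingHom =
      Q'.comap (Algebra.TensorProduct.includeRight : T →ₐ[A] A' ⊗[A] T).toRingHom
    rw [comap_bcMap_comap, h, hQ']
  intro hmem
  apply heQ'
  rw [← h1]
  exact hmem

end Primes

end Groth.Agent.Lib.helper26.ElemDevB
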