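/-
Helper library (helper26): towards the existence of elementary dévissages (S1249).
Part C1: an elementary étale neighbourhood of `(S, q)` from an elementary étale neighbourhood
`(D, yD)` of `(A, yA)` by base change and localisation.
-/
import Mathlib
import Groth.Prelude.Def_FlatCA
import Groth.Agent.Lib.Helper3.BijRes3
import Groth.Agent.Lib.Helper3.Shrink3
import Groth.Agent.Lib.Helper26.GeomIrrNbhd9

set_option autoImplicit false
set_option linter.style.haveILetI false
set_option linter.unusedSectionVars false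

namespace Groth.Agent.Lib.helper26.ElemDevC

open TensorProduct

universe u

attribute [local instance] Algebra.TensorProduct.rightAlgebra

section C1

variable {A : Type u} [CommRing A] (S : Type u) [CommRing S] [Algebra A S]
  (yA : Ideal A) [yA.IsPrime] (q : Ideal S) [q.IsPrime]
  (D : Type u) [CommRing D] [Algebra A D] [Algebra.Etale A D] (yD : Ideal D) [yD.IsPrime]
  [hyD : yD.LiesOver yA]
  (hbijD : Function.Bijective (Ideal.ResidueField.mapₐ yA yD (Algebra.ofId A D) hyD.over))
  (P₁ : Ideal (D ⊗[A] S)) [P₁.IsPrime] [hP₁D : P₁.LiesOver yD] [hP₁q : P₁.LiesOver q]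
  (et : D ⊗[A] S)
  (q' : Ideal (Localization.Away et)) [q'.IsPrime] [hq'P₁ : q'.LiesOver P₁]

include hbijD hP₁D hP₁q hq'P₁ in
theorem isEtaleNhd_away : FlatCA.IsEtaleNhd S (Localization.Away et) q q' := by
  haveI : q'.LiesOver q := Ideal.LiesOver.trans q' P₁ q
  have hb1 : Function.Bijective (Ideal.ResidueField.mapₐ q P₁ (Algebra.ofId S (D ⊗[A] S))
      hP₁q.over) :=
    Groth.Agent.Lib.helper3.BijRes.residueField_map_bijective yA yD hbijD.2 S (D ⊗[A] S) q P₁
  have hb2 : Function.Bijective (Ideal.ResidueField.mapₐ P₁ q'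
      (Algebra.ofId (D ⊗[A] S) (Localization.Away et)) hq'P₁.over) :=
    Groth.Agent.Lib.helper26.GeomIrr.bijective_mapₐ_away et (Localization.Away et) P₁ q'
  have hb : Function.Bijective (Ideal.ResidueField.mapₐ q q'
      (Algebra.ofId S (Localization.Away et)) (Ideal.LiesOver.over (p := q) (P := q'))) :=
    Groth.Agent.Lib.helper26.GeomIrr.bijective_mapₐ_comp q P₁ q' hb1 hb2
  haveI : Algebra.IsPushout A S D (D ⊗[A] S) := Algebra.IsPushout.symm inferInstance
  haveI : Algebra.Etale S (D ⊗[A] S) :=
    Algebra.Etale.of_equiv (Algebra.IsPushout.equiv A S D (D ⊗[A] S))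
  haveI : Algebra.Etale (D ⊗[A] S) (Localization.Away et) := Algebra.Etale.of_isLocalizationAway et
  haveI : Algebra.Etale S (Localization.Away et) := Algebra.Etale.comp S (D ⊗[A] S) _
  exact ⟨inferInstance, inferInstance, hb⟩

end C1

end Groth.Agent.Lib.helper26.ElemDevC
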