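/-
Helper library (helper26): towards the existence of elementary dévissages (S1249).
Part C2: the closed subscheme `C = S' ⧸ J₀ S'` of the étale neighbourhood `S' = (D ⊗ S)[1/ẽ]` and
its finiteness over `D`.
-/
import Mathlib

set_option autoImplicit false
set_option linter.style.haveILetI false
set_option linter.unusedSectionVars false

namespace Groth.Agent.Lib.helper26.ElemDevC

open TensorProduct

universe u

attribute [local instance] Algebra.TensorProduct.rightAlgebra

section C2

variable (A : Type u) [CommRing A] (S : Type u) [CommRing S] [Algebra A S] (J₀ : Ideal S)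
  (D : Type u) [CommRing D] [Algebra A D]

/-- the reduction map `D ⊗ S → D ⊗ (S ⧸ J₀)` -/
noncomputable def rho : D ⊗[A] S →ₐ[D] D ⊗[A] (S ⧸ J₀) :=
  Algebra.TensorProduct.map (AlgHom.id D D) (Ideal.Quotient.mkₐ A J₀)

theorem rho_tmul (d : D) (s : S) : rho A S J₀ D (d ⊗ₜ[A] s) = d ⊗ₜ[A] Ideal.Quotient.mk J₀ s := rfl

theorem rho_surjective : Function.Surjective (rho A S J₀ D) :=
  Algebra.TensorProduct.map_surjective (AlgHom.id D D) (Ideal.Quotient.mkₐ A J₀)
    Function.surjective_id Ideal.Quotient.mk_surjective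

variable (et : D ⊗[A] S)

/-- the ring of the closed subscheme -/
abbrev Cq : Type u := Localization.Away et ⧸ J₀.map (algebraMap S (Localization.Away et))

/-- the map `S ⧸ J₀ → C` -/
noncomputable def psi : (S ⧸ J₀) →ₐ[A] Cq A S J₀ D et :=
  Ideal.Quotient.liftₐ J₀ (IsScalarTower.toAlgHom A S (Cq A S J₀ D et)) (by
    intro a ha
    change algebraMap S (Cq A S J₀ D et) a = 0
    rw [IsScalarTower.algebraMap_apply S (Localization.Away et) (Cq A S J₀ D et)]
    exact Ideal.Quotient.eq_zero_iff_mem.mpr (Ideal.mem_map_of_mem _ ha))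

theorem psi_mk (s : S) : psi A S J₀ D et (Ideal.Quotient.mk J₀ s) = algebraMap S (Cq A S J₀ D et) s :=
  rfl

/-- the map `D ⊗ (S ⧸ J₀) → C` -/
noncomputable def theta : D ⊗[A] (S ⧸ J₀) →ₐ[D] Cq A S J₀ D et :=
  Algebra.TensorProduct.lift (Algebra.ofId D (Cq A S J₀ D et)) (psi A S J₀ D et)
    (fun _ _ => Commute.all _ _)

theorem theta_tmul (d : D) (t : S ⧸ J₀) :
    theta A S J₀ D et (d ⊗ₜ[A] t) = algebraMap D (Cq A S J₀ D et) d * psi A S J₀ D et t := by
  unfold theta
  rw [Algebra.TensorProduct.lift_tmul]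
  rfl

theorem theta_rho (x : D ⊗[A] S) :
    theta A S J₀ D et (rho A S J₀ D x) = algebraMap (D ⊗[A] S) (Cq A S J₀ D et) x := by
  induction x with
  | zero => simp
  | add x y hx hy => rw [map_add, map_add, map_add, hx, hy]
  | tmul d s =>
    rw [rho_tmul, theta_tmul, psi_mk]
    have h1 : (d ⊗ₜ[A] s : D ⊗[A] S) = algebraMap D (D ⊗[A] S) d * algebraMap S (D ⊗[A] S) s := by
      change _ = (d ⊗ₜ[A] (1 : S)) * ((1 : D) ⊗ₜ[A] s)
      rw [Algebra.TensorProduct.tmul_mul_tmul, mul_one, one_mul]
    rw [h1, map_mul, ← IsScalarTower.algebraMap_apply D (D ⊗[A] S) (Cq A S J₀ D et),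
      ← IsScalarTower.algebraMap_apply S (D ⊗[A] S) (Cq A S J₀ D et)]

theorem isUnit_algebraMap_et : IsUnit (algebraMap (D ⊗[A] S) (Cq A S J₀ D et) et) := by
  rw [IsScalarTower.algebraMap_apply (D ⊗[A] S) (Localization.Away et) (Cq A S J₀ D et)]
  exact (IsLocalization.Away.algebraMap_isUnit et).map _

variable {A S J₀ D et}
variable {eb : D ⊗[A] (S ⧸ J₀)} (heb : IsIdempotentElem eb) (het : rho A S J₀ D et = eb)

include heb het in
theorem theta_eb : theta A S J₀ D et eb = 1 := by
  have hu : IsUnit (theta A S J₀ D et eb) := by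
    rw [← het, theta_rho]
    exact isUnit_algebraMap_et A S J₀ D et
  have hi : IsIdempotentElem (theta A S J₀ D et eb) := heb.map (theta A S J₀ D et)
  have h1 : theta A S J₀ D et eb * theta A S J₀ D et eb = theta A S J₀ D et eb * 1 := by
    rw [mul_one]
    exact hi
  exact hu.mul_left_cancel h1

include heb het in
theorem theta_surjective : Function.Surjective (theta A S J₀ D et) := by
  intro c
  obtain ⟨s', rfl⟩ := Ideal.Quotient.mk_surjective c
  obtain ⟨x, ⟨_, k, rfl⟩, rfl⟩ := IsLocalization.exists_mk'_eq (Submonoid.powers et) s'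
  refine ⟨rho A S J₀ D x, ?_⟩
  rw [theta_rho]
  have h1 : algebraMap (D ⊗[A] S) (Cq A S J₀ D et) et = 1 := by
    rw [← theta_rho, het]
    exact theta_eb heb het
  have h2 : IsLocalization.mk' (Localization.Away et) x
      (⟨et ^ k, k, rfl⟩ : Submonoid.powers et) * algebraMap _ (Localization.Away et) (et ^ k) =
      algebraMap _ (Localization.Away et) x := IsLocalization.mk'_spec _ _ _
  have h3 := congrArg (Ideal.Quotient.mk (J₀.map (algebraMap S (Localization.Away et)))) h2
  rw [map_mul] at h3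
  have h4 : Ideal.Quotient.mk (J₀.map (algebraMap S (Localization.Away et)))
      (algebraMap _ (Localization.Away et) (et ^ k)) = 1 := by
    change algebraMap (Localization.Away et) (Cq A S J₀ D et)
      (algebraMap _ (Localization.Away et) (et ^ k)) = 1
    rw [← IsScalarTower.algebraMap_apply, map_pow, h1, one_pow]
  rw [h4, mul_one] at h3
  rw [h3]
  rfl

include heb het in
/-- `C` is finite over `D` -/
theorem finite_Cq (hfin : Module.Finite D ((D ⊗[A] (S ⧸ J₀)) ⧸ Ideal.span {1 - eb})) :
    Module.Finite D (Cq A S J₀ D et) := by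
  haveI := hfin
  have hker : ∀ a ∈ Ideal.span {1 - eb}, theta A S J₀ D et a = 0 := by
    intro a ha
    obtain ⟨b, rfl⟩ := Ideal.mem_span_singleton'.mp ha
    rw [map_mul, map_sub, map_one, theta_eb heb het, sub_self, mul_zero]
  let θb : ((D ⊗[A] (S ⧸ J₀)) ⧸ Ideal.span {1 - eb}) →ₐ[D] Cq A S J₀ D et :=
    Ideal.Quotient.liftₐ _ (theta A S J₀ D et) hker
  have hsurj : Function.Surjective θb := by
    intro c
    obtain ⟨x, rfl⟩ := theta_surjective heb het c
    exact ⟨Ideal.Quotient.mk _ x, rfl⟩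
  exact Module.Finite.of_surjective θb.toLinearMap hsurj

end C2

end Groth.Agent.Lib.helper26.ElemDevC
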