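/-
Helper library (helper26): towards the existence of elementary dévissages (S1249).
Part C3: the primes of the closed subscheme `C = S' ⧸ J₀ S'` over the chosen prime of `D`.
-/
import Mathlib
import Groth.Agent.Lib.Helper26.ElemDevC2
import Groth.Agent.Lib.Helper3.BijRes1
import Groth.Agent.Lib.Helper3.Shrink3

set_option autoImplicit false
set_option linter.style.haveILetI false
set_option linter.unusedSectionVars false

namespace Groth.Agent.Lib.helper26.ElemDevC

open TensorProduct

universe u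

attribute [local instance] Algebra.TensorProduct.rightAlgebra

section C3

variable (A : Type u) [CommRing A] (S : Type u) [CommRing S] [Algebra A S] (J₀ : Ideal S)
  (D : Type u) [CommRing D] [Algebra A D] (et : D ⊗[A] S)
  (yA : Ideal A) [yA.IsPrime] (yD : Ideal D) [yD.IsPrime] [hyD : yD.LiesOver yA]
  (hκ : Function.Surjective (Ideal.ResidueField.mapₐ yA yD (Algebra.ofId A D) hyD.over))
  (q : Ideal S) [q.IsPrime] (hJq : J₀ ≤ q)
  (q' : Ideal (Localization.Away et)) [q'.IsPrime] [hq'q : q'.LiesOver q] [hq'D : q'.LiesOver yD]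

/-- the prime of `C` -/
noncomputable def zq : Ideal (Cq A S J₀ D et) :=
  q'.map (Ideal.Quotient.mk (J₀.map (algebraMap S (Localization.Away et))))

include hJq hq'q in
theorem map_le : J₀.map (algebraMap S (Localization.Away et)) ≤ q' := by
  rw [Ideal.map_le_iff_le_comap]
  have h1 : q'.comap (algebraMap S (Localization.Away et)) = q := hq'q.over.symm
  rw [h1]
  exact hJq

include hJq hq'q in
theorem zq_isPrime : (zq A S J₀ D et q').IsPrime := by
  refine Ideal.map_isPrime_of_surjective Ideal.Quotient.mk_surjective ?_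
  rw [Ideal.mk_ker]
  exact map_le A S J₀ D et q hJq q'

include hJq hq'q in
theorem zq_comap : (zq A S J₀ D et q').comap
    (Ideal.Quotient.mk (J₀.map (algebraMap S (Localization.Away et)))) = q' := by
  unfold zq
  rw [Ideal.comap_map_of_surjective _ Ideal.Quotient.mk_surjective, sup_eq_left,
    ← RingHom.ker_eq_comap_bot, Ideal.mk_ker]
  exact map_le A S J₀ D et q hJq q'

include hJq hq'q in
theorem zq_liesOver : (zq A S J₀ D et q').LiesOver q' :=
  ⟨(zq_comap A S J₀ D et q hJq q').symm⟩

include hJq hq'q hq'D in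
theorem zq_liesOver_yD : (zq A S J₀ D et q').LiesOver yD := by
  haveI := zq_liesOver A S J₀ D et q hJq q'
  exact Ideal.LiesOver.trans (zq A S J₀ D et q') q' yD

variable {eb : D ⊗[A] (S ⧸ J₀)} (heb : IsIdempotentElem eb) (het : rho A S J₀ D et = eb)
  (hP2 : ∀ P : Ideal (D ⊗[A] (S ⧸ J₀)), P.IsPrime → P.LiesOver yD → eb ∉ P →
    P.comap (Algebra.TensorProduct.includeRight : (S ⧸ J₀) →ₐ[A] D ⊗[A] (S ⧸ J₀)).toRingHom =
      q.map (Ideal.Quotient.mk J₀))

include hκ hJq hq'q hq'D heb het hP2 in
/-- the prime `z` is the only prime of `C` over `yD` -/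
theorem zq_uniq (z₁ : Ideal (Cq A S J₀ D et)) [z₁.IsPrime] (hz₁ : z₁.LiesOver yD) :
    z₁ = zq A S J₀ D et q' := by
  -- contraction to `D ⊗ (S ⧸ J₀)`
  haveI : (z₁.comap (theta A S J₀ D et).toRingHom).IsPrime := Ideal.comap_isPrime _ _
  haveI hPD : (z₁.comap (theta A S J₀ D et).toRingHom).LiesOver yD :=
    z₁.comap_liesOver yD (theta A S J₀ D et)
  have hebP : eb ∉ z₁.comap (theta A S J₀ D et).toRingHom := by
    intro hmem
    have h1 : theta A S J₀ D et eb ∈ z₁ := hmem
    rw [theta_eb heb het] at h1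
    exact (inferInstance : z₁.IsPrime).ne_top (Ideal.eq_top_iff_one _ |>.mpr h1)
  have h1 := hP2 _ inferInstance hPD hebP
  -- contraction to `S`
  have hker : RingHom.ker (Ideal.Quotient.mk J₀) ≤ q := by
    rw [Ideal.mk_ker]
    exact hJq
  have h2 : z₁.comap (algebraMap S (Cq A S J₀ D et)) = q := by
    have h3 : (q.map (Ideal.Quotient.mk J₀)).comap (Ideal.Quotient.mk J₀) = q := by
      rw [Ideal.comap_map_of_surjective _ Ideal.Quotient.mk_surjective, sup_eq_left,
        ← RingHom.ker_eq_comap_bot]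
      exact hker
    rw [← h3, ← h1]
    ext s
    simp only [Ideal.mem_comap]
    have h4 : (theta A S J₀ D et).toRingHom
        ((Algebra.TensorProduct.includeRight : (S ⧸ J₀) →ₐ[A] D ⊗[A] (S ⧸ J₀)).toRingHom
          (Ideal.Quotient.mk J₀ s)) = algebraMap S (Cq A S J₀ D et) s := by
      change theta A S J₀ D et ((1 : D) ⊗ₜ[A] Ideal.Quotient.mk J₀ s) = _
      rw [theta_tmul, map_one, one_mul, psi_mk]
    rw [h4]
  -- the primes of `S'`
  set Z₁ : Ideal (Localization.Away et) :=
    z₁.comap (Ideal.Quotient.mk (J₀.map (algebraMap S (Localization.Away et)))) with hZ₁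
  haveI : Z₁.IsPrime := Ideal.comap_isPrime _ _
  have hZ₁S : Z₁.under S = q := by
    rw [← h2]
    change (z₁.comap (algebraMap (Localization.Away et) (Cq A S J₀ D et))).comap
      (algebraMap S (Localization.Away et)) = _
    rw [Ideal.comap_comap, ← IsScalarTower.algebraMap_eq]
  have hZ₁D : Z₁.under D = yD := by
    rw [hz₁.over]
    change (z₁.comap (algebraMap (Localization.Away et) (Cq A S J₀ D et))).comap
      (algebraMap D (Localization.Away et)) = _
    rw [Ideal.comap_comap, ← IsScalarTower.algebraMap_eq]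
  haveI : (Z₁.under (D ⊗[A] S)).IsPrime := Ideal.IsPrime.under _ Z₁
  haveI : (q'.under (D ⊗[A] S)).IsPrime := Ideal.IsPrime.under _ q'
  have hU : Z₁.under (D ⊗[A] S) = q'.under (D ⊗[A] S) := by
    refine Groth.Agent.Lib.helper3.BijRes.eq_of_under_eq yA yD hκ S (D ⊗[A] S) _ _ ?_ ?_ ?_
    · rw [Ideal.under_under, hZ₁D]
    · rw [Ideal.under_under]
      exact hq'D.over.symm
    · rw [Ideal.under_under, Ideal.under_under, hZ₁S]
      exact hq'q.over
  have hZ : Z₁ = q' :=
    Groth.Agent.Lib.helper3.Shrink.eq_of_under_eq_loc (Submonoid.powers et) _ Z₁ q' hU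
  unfold zq
  rw [← hZ, hZ₁, Ideal.map_comap_of_surjective _ Ideal.Quotient.mk_surjective]

end C3

end Groth.Agent.Lib.helper26.ElemDevC
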