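/-
Helper library (helper26): towards the existence of elementary dévissages (S1249).
Part C4: the base change of the module lives on the closed subscheme `C = S' ⧸ J₀ S'`.
-/
import Mathlib

set_option autoImplicit false
set_option linter.style.haveILetI false
set_option linter.unusedSectionVars false

namespace Groth.Agent.Lib.helper26.ElemDevC

open TensorProduct

universe u

section C4

variable {S : Type u} [CommRing S] (N : Type u) [AddCommGroup N] [Module S N] (J₀ : Ideal S)
  (hJN : J₀ ≤ Module.annihilator S N) (S' : Type u) [CommRing S'] [Algebra S S']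

include hJN in
theorem map_le_annihilator :
    J₀.map (algebraMap S S') ≤ Module.annihilator S' (S' ⊗[S] N) := by
  rw [Ideal.map_le_iff_le_comap]
  intro j hj
  rw [Ideal.mem_comap, Module.mem_annihilator]
  intro x
  induction x with
  | zero => rw [smul_zero]
  | add x y hx hy => rw [smul_add, hx, hy, add_zero]
  | tmul s' n =>
    rw [TensorProduct.smul_tmul', smul_eq_mul, ← Algebra.smul_def, ← TensorProduct.smul_tmul',
      ← TensorProduct.tmul_smul, Module.mem_annihilator.mp (hJN hj) n, tmul_zero]

include hJN in
theorem smul_top_eq_bot :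
    (J₀.map (algebraMap S S')) • (⊤ : Submodule S' (S' ⊗[S] N)) = ⊥ := by
  rw [eq_bot_iff, Submodule.smul_le]
  intro r hr x _
  rw [Submodule.mem_bot]
  exact Module.mem_annihilator.mp (map_le_annihilator N J₀ hJN S' hr) x

/-- the base change `N'` of `N` to `S'` is the restriction of scalars of `C ⊗ N'` -/
noncomputable def isoG : (S' ⊗[S] N) ≃ₗ[S']
    (S' ⧸ J₀.map (algebraMap S S')) ⊗[S'] (S' ⊗[S] N) :=
  ((TensorProduct.quotTensorEquivQuotSMul (S' ⊗[S] N) (J₀.map (algebraMap S S'))).trans
    (Submodule.quotEquivOfEqBot _ (smul_top_eq_bot N J₀ hJN S'))).symm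

end C4

end Groth.Agent.Lib.helper26.ElemDevC
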