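/-
Helper library (helper26): towards the existence of elementary dévissages (S1249).
Part C5: assembly of the elementary dévissage from the data.
-/
import Mathlib
import Groth.Prelude.Def_FlatCA
import Groth.Agent.Lib.Helper26.ElemDevC1
import Groth.Agent.Lib.Helper26.ElemDevC3
import Groth.Agent.Lib.Helper26.ElemDevC4
import Groth.Agent.Lib.Helper3.BijRes4
import Groth.Agent.Lib.Helper3.CDev1
import Groth.Agent.Lib.Helper3.OneStep1

set_option autoImplicit false
set_option linter.style.haveILetI false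
set_option linter.unusedSectionVars false

namespace Groth.Agent.Lib.helper26.ElemDevC

open TensorProduct

universe u

attribute [local instance] Algebra.TensorProduct.rightAlgebra

set_option maxHeartbeats 1600000 in
theorem nonempty_elemDevissage_of_data
    {R S : Type u} [CommRing R] [CommRing S] [Algebra R S]
    (N : Type u) [AddCommGroup N] [Module S N] [Module.Finite S N]
    (p : Ideal R) [p.IsPrime] (q : Ideal S) [q.IsPrime] (n : ℕ)
    (J₀ : Ideal S) (hJfg : J₀.FG) (hJN : J₀ ≤ Module.annihilator S N) (hJq : J₀ ≤ q)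
    (A : Type u) [CommRing A] [Algebra R A] [Algebra A S] [IsScalarTower R A S]
    (yA : Ideal A) [yA.IsPrime] [hqyA : q.LiesOver yA]
    (D : Type u) [CommRing D] [Algebra A D] [Algebra.Etale A D] (yD : Ideal D) [yD.IsPrime]
    [hyD : yD.LiesOver yA]
    (hbijD : Function.Bijective (Ideal.ResidueField.mapₐ yA yD (Algebra.ofId A D) hyD.over))
    (eb : D ⊗[A] (S ⧸ J₀)) (heb : IsIdempotentElem eb)
    (hfin : Module.Finite D ((D ⊗[A] (S ⧸ J₀)) ⧸ Ideal.span {1 - eb}))
    (hP2 : ∀ P : Ideal (D ⊗[A] (S ⧸ J₀)), P.IsPrime → P.LiesOver yD → eb ∉ P →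
      P.comap (Algebra.TensorProduct.includeRight : (S ⧸ J₀) →ₐ[A] D ⊗[A] (S ⧸ J₀)).toRingHom =
        q.map (Ideal.Quotient.mk J₀))
    (hP3 : ∀ P : Ideal (D ⊗[A] (S ⧸ J₀)), P.IsPrime → P.LiesOver yD →
      P.comap (Algebra.TensorProduct.includeRight : (S ⧸ J₀) →ₐ[A] D ⊗[A] (S ⧸ J₀)).toRingHom =
        q.map (Ideal.Quotient.mk J₀) → eb ∉ P)
    (R' : Type u) [CommRing R'] [Algebra R R'] [Algebra R' D] [Algebra R D] [IsScalarTower R R' D]
    [IsScalarTower R A D] (p' : Ideal R') [p'.IsPrime] [hyDp' : yD.LiesOver p']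
    (hetR : FlatCA.IsEtaleNhd R R' p p') (hsm : FlatCA.SmoothRelDim n R' D)
    (hgi : FlatCA.GeomIrredFibres R' D) (hPT : FlatCA.PurelyTranscendental p' yD) :
    Nonempty (FlatCA.ElemDevissage R S N p q n) := by
  -- the prime of `S ⧸ J₀`
  have hker : RingHom.ker (Ideal.Quotient.mk J₀) ≤ q := by
    rw [Ideal.mk_ker]
    exact hJq
  haveI hqbprime : (q.map (Ideal.Quotient.mk J₀)).IsPrime :=
    Ideal.map_isPrime_of_surjective Ideal.Quotient.mk_surjective hker
  have hqbcomap : (q.map (Ideal.Quotient.mk J₀)).comap (Ideal.Quotient.mk J₀) = q := by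
    rw [Ideal.comap_map_of_surjective _ Ideal.Quotient.mk_surjective, sup_eq_left,
      ← RingHom.ker_eq_comap_bot]
    exact hker
  haveI hqbyA : (q.map (Ideal.Quotient.mk J₀)).LiesOver yA := by
    refine ⟨?_⟩
    have h1 : algebraMap A (S ⧸ J₀) = (Ideal.Quotient.mk J₀).comp (algebraMap A S) := rfl
    rw [Ideal.under_def, h1, ← Ideal.comap_comap, hqbcomap]
    exact hqyA.over
  -- the prime of `D ⊗ (S ⧸ J₀)`
  obtain ⟨Pb, hPbprime, hPbD, hPbq⟩ :=
    Groth.Agent.Lib.helper3.BijRes.exists_prime_over yA yD hbijD (S ⧸ J₀) (D ⊗[A] (S ⧸ J₀))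
      (q.map (Ideal.Quotient.mk J₀))
  haveI := hPbprime
  have hebPb : eb ∉ Pb := hP3 Pb hPbprime hPbD hPbq.over.symm
  obtain ⟨et, het⟩ := rho_surjective A S J₀ D eb
  -- the prime of `D ⊗ S`
  haveI hP₁prime : (Pb.comap (rho A S J₀ D).toRingHom).IsPrime := Ideal.comap_isPrime _ _
  haveI hP₁D : (Pb.comap (rho A S J₀ D).toRingHom).LiesOver yD :=
    Pb.comap_liesOver yD (rho A S J₀ D)
  haveI hP₁q : (Pb.comap (rho A S J₀ D).toRingHom).LiesOver q := by
    refine ⟨?_⟩
    rw [← hqbcomap, hPbq.over]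
    ext s
    simp only [Ideal.under_def, Ideal.mem_comap]
    rfl
  have hetP₁ : et ∉ Pb.comap (rho A S J₀ D).toRingHom := by
    intro hmem
    apply hebPb
    rw [← het]
    exact hmem
  -- the étale neighbourhood of `S`
  haveI hq'prime : ((Pb.comap (rho A S J₀ D).toRingHom).map
      (algebraMap (D ⊗[A] S) (Localization.Away et))).IsPrime :=
    Groth.Agent.Lib.helper3.Shrink.isPrime_map_away et (Localization.Away et) _ hetP₁
  haveI hq'P₁ : ((Pb.comap (rho A S J₀ D).toRingHom).map
      (algebraMap (D ⊗[A] S) (Localization.Away et))).LiesOver (Pb.comap (rho A S J₀ D).toRingHom) :=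
    ⟨(Groth.Agent.Lib.helper3.Shrink.under_map_away et (Localization.Away et) _ hetP₁).symm⟩
  haveI hq'q : ((Pb.comap (rho A S J₀ D).toRingHom).map
      (algebraMap (D ⊗[A] S) (Localization.Away et))).LiesOver q :=
    Ideal.LiesOver.trans _ (Pb.comap (rho A S J₀ D).toRingHom) q
  haveI hq'D : ((Pb.comap (rho A S J₀ D).toRingHom).map
      (algebraMap (D ⊗[A] S) (Localization.Away et))).LiesOver yD :=
    Ideal.LiesOver.trans _ (Pb.comap (rho A S J₀ D).toRingHom) yD
  haveI hq'p' : ((Pb.comap (rho A S J₀ D).toRingHom).map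
      (algebraMap (D ⊗[A] S) (Localization.Away et))).LiesOver p' :=
    Ideal.LiesOver.trans _ yD p'
  have hetS : FlatCA.IsEtaleNhd S (Localization.Away et) q
      ((Pb.comap (rho A S J₀ D).toRingHom).map (algebraMap (D ⊗[A] S) (Localization.Away et))) :=
    isEtaleNhd_away S yA q D yD hbijD (Pb.comap (rho A S J₀ D).toRingHom) et _
  set q' : Ideal (Localization.Away et) := (Pb.comap (rho A S J₀ D).toRingHom).map
      (algebraMap (D ⊗[A] S) (Localization.Away et)) with hq'def
  -- the prime of `C`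
  haveI hzprime : (zq A S J₀ D et q').IsPrime := zq_isPrime A S J₀ D et q hJq q'
  haveI hzq' : (zq A S J₀ D et q').LiesOver q' := zq_liesOver A S J₀ D et q hJq q'
  haveI hzD : (zq A S J₀ D et q').LiesOver yD := zq_liesOver_yD A S J₀ D et yD q hJq q'
  have huniq : ∀ (z₁ : Ideal (Cq A S J₀ D et)) [z₁.IsPrime], z₁.LiesOver yD →
      z₁ = zq A S J₀ D et q' := fun z₁ _ hz₁ =>
    zq_uniq A S J₀ D et yA yD hbijD.2 q hJq q' heb het hP2 z₁ hz₁
  -- the tower `R → S → S'`
  haveI tRSS' : IsScalarTower R S (Localization.Away et) := IsScalarTower.of_algebraMap_eq fun r => by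
    rw [IsScalarTower.algebraMap_apply R A (Localization.Away et),
      IsScalarTower.algebraMap_apply R A S,
      ← IsScalarTower.algebraMap_apply A S (Localization.Away et)]
  -- finiteness
  have hfinDC : Module.Finite D (Cq A S J₀ D et) := finite_Cq heb het hfin
  have hsurjC : Function.Surjective (algebraMap (Localization.Away et) (Cq A S J₀ D et)) :=
    Ideal.Quotient.mk_surjective
  have hfpC : Algebra.FinitePresentation (Localization.Away et) (Cq A S J₀ D et) :=
    Algebra.FinitePresentation.quotient (hJfg.map _)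
  haveI : Algebra.Smooth R' D := Groth.Agent.Lib.helper3.OneStep.algebra_smooth n hsm
  have hgint : FlatCA.GeomIntegralFibres R' D :=
    Groth.Agent.Lib.helper3.CDev.geomIntegralFibres_of_smooth hgi
  haveI : Module.Finite (Localization.Away et) (Localization.Away et ⊗[S] N) := inferInstance
  have hfinG : Module.Finite (Cq A S J₀ D et)
      (Cq A S J₀ D et ⊗[Localization.Away et] (Localization.Away et ⊗[S] N)) := inferInstance
  exact ⟨{
    R' := R'
    S' := Localization.Away et
    C := Cq A S J₀ D et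
    D := D
    N' := Localization.Away et ⊗[S] N
    G := Cq A S J₀ D et ⊗[Localization.Away et] (Localization.Away et ⊗[S] N)
    p' := p'
    q' := q'
    z := zq A S J₀ D et q'
    y := yD
    etaleR := hetR
    etaleS := hetS
    f := TensorProduct.mk S (Localization.Away et) N 1
    isBaseChange := TensorProduct.isBaseChange S N (Localization.Away et)
    surjC := hsurjC
    fpC := hfpC
    iso := isoG N J₀ hJN (Localization.Away et)
    finiteDC := hfinDC
    finiteG := hfinG
    uniq := huniq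
    pureTrans := hPT
    smooth := hsm
    geomInt := hgint }⟩

end Groth.Agent.Lib.helper26.ElemDevC
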