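/-
Helper library (helper26): towards the existence of elementary dévissages (S1249).
Part C6: the elementary dévissage from quasi-finite coordinates on the support.
-/
import Mathlib
import Groth.Prelude.Def_FlatCA
import Groth.Agent.Lib.Helper26.ElemDevA1
import Groth.Agent.Lib.Helper26.ElemDevB2
import Groth.Agent.Lib.Helper26.ElemDevC5
import Groth.Agent.Lib.Helper3.Shrink4

set_option autoImplicit false
set_option linter.style.haveILetI false
set_option linter.unusedSectionVars false

namespace Groth.Agent.Lib.helper26.ElemDevC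

open TensorProduct

universe u

attribute [local instance] Algebra.TensorProduct.rightAlgebra

/-- the residue field map of the identity is surjective -/
theorem surjective_mapₐ_self {R : Type u} [CommRing R] (p : Ideal R) [p.IsPrime]
    (h : p = p.comap (algebraMap R R)) :
    Function.Surjective (Ideal.ResidueField.mapₐ p p (Algebra.ofId R R) h) := by
  have h1 : Ideal.ResidueField.mapₐ p p (Algebra.ofId R R) h = AlgHom.id R p.ResidueField := by
    apply Ideal.ResidueField.algHom_ext
    ext
  rw [h1]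
  exact Function.surjective_id

set_option maxHeartbeats 1600000 in
theorem nonempty_elemDevissage_of_coordinates
    {R S : Type u} [CommRing R] [CommRing S] [Algebra R S] [Algebra.FiniteType R S]
    (N : Type u) [AddCommGroup N] [Module S N] [Module.Finite S N]
    (p : Ideal R) [p.IsPrime] (q : Ideal S) [q.IsPrime] [hqp : q.LiesOver p] (n : ℕ)
    (J₀ : Ideal S) (hJfg : J₀.FG) (hJN : J₀ ≤ Module.annihilator S N) (hJq : J₀ ≤ q)
    [Algebra (MvPolynomial (Fin n) R) S] [IsScalarTower R (MvPolynomial (Fin n) R) S]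
    (hqf : ∀ [(q.map (Ideal.Quotient.mk J₀)).IsPrime],
      Algebra.QuasiFiniteAt (MvPolynomial (Fin n) R) (q.map (Ideal.Quotient.mk J₀)))
    (hPT : ∀ [(q.under (MvPolynomial (Fin n) R)).IsPrime]
      [(q.under (MvPolynomial (Fin n) R)).LiesOver p],
      FlatCA.PurelyTranscendental p (q.under (MvPolynomial (Fin n) R))) :
    Nonempty (FlatCA.ElemDevissage R S N p q n) := by
  -- the prime of the polynomial ring
  haveI hyAprime : (q.under (MvPolynomial (Fin n) R)).IsPrime := Ideal.IsPrime.under _ q
  haveI hqyA : q.LiesOver (q.under (MvPolynomial (Fin n) R)) := ⟨rfl⟩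
  haveI hyAp : (q.under (MvPolynomial (Fin n) R)).LiesOver p := by
    refine ⟨?_⟩
    rw [Ideal.under_under]
    exact hqp.over
  -- the prime of `S ⧸ J₀`
  have hker : RingHom.ker (Ideal.Quotient.mk J₀) ≤ q := by
    rw [Ideal.mk_ker]
    exact hJq
  haveI hqbprime : (q.map (Ideal.Quotient.mk J₀)).IsPrime :=
    Ideal.map_isPrime_of_surjective Ideal.Quotient.mk_surjective hker
  have hqbcomap : (q.map (Ideal.Quotient.mk J₀)).comap (Ideal.Quotient.mk J₀) = q := by
    rw [Ideal.comap_map_of_surjective _ Ideal.Quotient.mk_surjective, sup_eq_left,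
      ← RingHom.ker_eq_comap_bot]
    exact hker
  haveI hqbyA : (q.map (Ideal.Quotient.mk J₀)).LiesOver (q.under (MvPolynomial (Fin n) R)) := by
    refine ⟨?_⟩
    have h1 : algebraMap (MvPolynomial (Fin n) R) (S ⧸ J₀) =
        (Ideal.Quotient.mk J₀).comp (algebraMap (MvPolynomial (Fin n) R) S) := rfl
    change _ = (q.map (Ideal.Quotient.mk J₀)).comap
      (algebraMap (MvPolynomial (Fin n) R) (S ⧸ J₀))
    rw [h1, ← Ideal.comap_comap, hqbcomap]
  haveI : Algebra.QuasiFiniteAt (MvPolynomial (Fin n) R) (q.map (Ideal.Quotient.mk J₀)) := hqf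
  haveI : Algebra.FiniteType (MvPolynomial (Fin n) R) (S ⧸ J₀) :=
    Algebra.FiniteType.of_restrictScalars_finiteType R (MvPolynomial (Fin n) R) (S ⧸ J₀)
  -- the étale local structure of `S ⧸ J₀` over the polynomial ring
  obtain ⟨A', _, _, _, y', _, hy'yA, e, he, Q', _, _, hQ'q, heQ', hbij', hfin, huniq⟩ :=
    Algebra.exists_etale_isIdempotentElem_forall_liesOver_eq
      (q.under (MvPolynomial (Fin n) R)) (q.map (Ideal.Quotient.mk J₀))
  letI algRA' : Algebra R A' :=
    ((algebraMap (MvPolynomial (Fin n) R) A').comp (algebraMap R (MvPolynomial (Fin n) R))).toAlgebra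
  haveI twRAA' : IsScalarTower R (MvPolynomial (Fin n) R) A' :=
    IsScalarTower.of_algebraMap_eq fun _ => rfl
  haveI hy'p : y'.LiesOver p := Ideal.LiesOver.trans y' (q.under (MvPolynomial (Fin n) R)) p
  haveI hpp : p.LiesOver p := ⟨rfl⟩
  have hPT' : FlatCA.PurelyTranscendental p y' :=
    Groth.Agent.Lib.helper3.Shrink.purelyTranscendental_of_bijective p p (MvPolynomial (Fin n) R) A'
      (q.under (MvPolynomial (Fin n) R)) y' (surjective_mapₐ_self p _) hbij' hPT
  -- lemma (E)
  obtain ⟨R', _, _, p', _, D, _, _, _, _, tw1, tw2, yD, _, hyDp', hetR, hetD, hsm, hgi, hPTD⟩ :=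
    Groth.Agent.Lib.helper26.ElemDevA.concl_of_etale_mvPolynomial p n A' y' hPT'
  obtain ⟨hetD1, hyDy', hbijD'⟩ := hetD
  letI algAD : Algebra (MvPolynomial (Fin n) R) D :=
    ((algebraMap A' D).comp (algebraMap (MvPolynomial (Fin n) R) A')).toAlgebra
  haveI twAA'D : IsScalarTower (MvPolynomial (Fin n) R) A' D :=
    IsScalarTower.of_algebraMap_eq fun _ => rfl
  haveI twRAD : IsScalarTower R (MvPolynomial (Fin n) R) D :=
    IsScalarTower.of_algebraMap_eq fun r => by
      rw [IsScalarTower.algebraMap_apply R A' D,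
        IsScalarTower.algebraMap_apply R (MvPolynomial (Fin n) R) A',
        ← IsScalarTower.algebraMap_apply (MvPolynomial (Fin n) R) A' D]
  haveI : Algebra.Etale (MvPolynomial (Fin n) R) D := Algebra.Etale.comp _ A' D
  haveI hyDyA : yD.LiesOver (q.under (MvPolynomial (Fin n) R)) :=
    Ideal.LiesOver.trans yD y' (q.under (MvPolynomial (Fin n) R))
  have hbijD : Function.Bijective (Ideal.ResidueField.mapₐ (q.under (MvPolynomial (Fin n) R)) yD
      (Algebra.ofId (MvPolynomial (Fin n) R) D) hyDyA.over) :=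
    Groth.Agent.Lib.helper26.GeomIrr.bijective_mapₐ_comp (q.under (MvPolynomial (Fin n) R)) y' yD
      hbij' hbijD'
  exact nonempty_elemDevissage_of_data N p q n J₀ hJfg hJN hJq (MvPolynomial (Fin n) R)
    (q.under (MvPolynomial (Fin n) R)) D yD hbijD
    (Groth.Agent.Lib.helper26.ElemDevB.bcMap (S ⧸ J₀) A' D e)
    (Groth.Agent.Lib.helper26.ElemDevB.isIdempotentElem_bcMap D he)
    (Groth.Agent.Lib.helper26.ElemDevB.finite_quot D he hfin)
    (fun P hP hPD h => by
      haveI := hP
      haveI := hPD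
      exact Groth.Agent.Lib.helper26.ElemDevB.comap_eq_of_notMem (S ⧸ J₀)
        (q.map (Ideal.Quotient.mk J₀)) A' y' e Q' hQ'q huniq D yD P h)
    (fun P hP hPD h => by
      haveI := hP
      haveI := hPD
      exact Groth.Agent.Lib.helper26.ElemDevB.notMem_of_comap_eq (S ⧸ J₀)
        (q.under (MvPolynomial (Fin n) R)) (q.map (Ideal.Quotient.mk J₀)) A' y' hbij' e Q' hQ'q
        heQ' D yD P h)
    R' p' hetR hsm hgi hPTD

end Groth.Agent.Lib.helper26.ElemDevC
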