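/-
Helper library (helper26): existence of complete dévissages after étale localisation (S1252).
Part 10: the main induction on the local dimension of the support of the fibre module.
-/
import Mathlib
import Groth.Agent.Lib.Helper26.DevMain1
import Groth.Agent.Lib.Helper26.DevMain8
import Groth.Agent.Lib.Helper26.DevMain9
import Groth.Agent.S1249
import Groth.Agent.S1285

set_option autoImplicit false
set_option linter.style.haveILetI false
set_option linter.unusedSectionVars false

namespace Groth.Agent.Lib.helper26.DevMain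

open TensorProduct AlgebraicGeometry

universe u

set_option maxHeartbeats 1600000 in
theorem mainConcl_of_localDim : ∀ (n : ℕ) {R S : Type u} [CommRing R] [CommRing S] [Algebra R S]
    [Algebra.FiniteType R S]
    (N : Type u) [AddCommGroup N] [Module S N] [Module R N] [IsScalarTower R S N]
    [Module.Finite S N]
    (p : Ideal R) [p.IsPrime] (q : Ideal S) [q.IsPrime] [q.LiesOver p]
    (x : PrimeSpectrum (p.Fiber S)) (_hxq : x.asIdeal = FlatCA.fiberIdeal p q)
    (hx : x ∈ Module.support (p.Fiber S) (FlatCA.fiberMod p S N))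
    (_hn : FlatMor.localDim (Module.support (p.Fiber S) (FlatCA.fiberMod p S N)) ⟨x, hx⟩ = n),
    MainConcl R S N p q := by
  intro n
  induction n using Nat.strong_induction_on with
  | _ n ih =>
  intro R S _ _ _ _ N _ _ _ _ _ p _ q _ _ x hxq hx hn
  obtain ⟨E⟩ := Groth.Agent.S1249.result N p q n x hxq hx hn
  letI modR'N' : Module E.R' E.N' := Module.compHom E.N' (algebraMap E.R' E.S')
  haveI twR'S'N' : IsScalarTower E.R' E.S' E.N' := IsScalarTower.of_algebraMap_smul fun _ _ => rfl
  have hgi₁ : FlatCA.GeomIrredFibres E.R' E.D := by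
    haveI : GeometricallyIntegral (Spec.map (CommRingCat.ofHom (algebraMap E.R' E.D))) := E.geomInt
    exact (inferInstance : GeometricallyIrreducible
      (Spec.map (CommRingCat.ofHom (algebraMap E.R' E.D))))
  obtain ⟨hft₁, hfin₁, hone₁, h1₁⟩ := oneStep_of_data N p q n x hxq hx hn E.R' E.S' E.p' E.q'
    E.etaleR E.etaleS E.N' E.f E.isBaseChange E.C E.D E.G E.surjC E.fpC E.iso E.finiteDC E.finiteG
    E.smooth hgi₁
  haveI := hft₁
  haveI := hfin₁
  haveI smD : Algebra.Smooth E.R' E.D := Groth.Agent.Lib.helper3.OneStep.algebra_smooth n E.smooth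
  haveI hpD : (E.p'.map (algebraMap E.R' E.D)).IsPrime :=
    Groth.Agent.Lib.helper3.CDevBC.isPrime_map_of_smooth_geomIrred hgi₁ E.p'
  obtain ⟨⟨r, α, hr, hα⟩, hdimK⟩ := Groth.Agent.S1285.result E.N' E.p' E.C E.D E.G n hone₁
  have hdimK' := hdimK r α hα
  haveI := E.finiteDC
  haveI := E.finiteG
  haveI : Module.Finite E.D E.G := Module.Finite.trans E.C E.G
  haveI : Module.Finite E.D (E.G ⧸ LinearMap.range α) := inferInstance
  -- the key conclusion
  have hKey : KeyConcl E.R' E.D (E.G ⧸ LinearMap.range α) E.p' E.y := by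
    by_cases hy : ∃ ξ ∈ Module.support (E.p'.Fiber E.D)
        (FlatCA.fiberMod E.p' E.D (E.G ⧸ LinearMap.range α)), ξ.asIdeal = FlatCA.fiberIdeal E.p' E.y
    · obtain ⟨ξ, hξ, hξy⟩ := hy
      haveI : Module.Finite (E.p'.Fiber E.D) (FlatCA.fiberMod E.p' E.D (E.G ⧸ LinearMap.range α)) :=
        Groth.Agent.Lib.helper3.OneStep.finite_fiberMod E.p' (E.G ⧸ LinearMap.range α)
      have hlt : topologicalKrullDim ↥(Module.support (E.p'.Fiber E.D)
          (FlatCA.fiberMod E.p' E.D (E.G ⧸ LinearMap.range α))) < (n : WithBot ℕ∞) := by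
        rw [Groth.Agent.Lib.helper3.Shrink.topologicalKrullDim_support]
        exact hdimK'
      obtain ⟨m, hm, hloc⟩ := exists_nat_localDim_lt
        (T := ↥(Module.support (E.p'.Fiber E.D)
          (FlatCA.fiberMod E.p' E.D (E.G ⧸ LinearMap.range α)))) ⟨ξ, hξ⟩ n hlt
      haveI : Algebra.FiniteType E.R' E.D := inferInstance
      have hM := ih m hm (E.G ⧸ LinearMap.range α) E.p' E.y ξ hξy hξ hloc
      exact keyConcl_of_mainConcl n E.smooth (E.G ⧸ LinearMap.range α) E.p' E.y E.pureTrans hM
    · exact keyConcl_of_not_mem_support n E.smooth hgi₁ (E.G ⧸ LinearMap.range α) E.p' E.y hy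
  have hM₁ : MainConcl E.R' E.S' E.N' E.p' E.q' :=
    mainConcl_of_keyConcl E.R' E.S' E.N' E.p' E.q' E.C E.D E.G n hone₁ E.z E.y h1₁ E.uniq
      E.pureTrans r α hα hKey
  exact mainConcl_trans N p q E.R' E.S' E.p' E.q' E.etaleR E.etaleS E.N' E.f E.isBaseChange hM₁

end Groth.Agent.Lib.helper26.DevMain
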