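/-
Helper library (helper26): flatness and freeness after étale localisation (Raynaud–Gruson).
Part 1: the core statement — for `N` flat at `q` there are elementary étale neighbourhoods
`(R', p')`, `(S', q')` such that the base change of `N` to `R'_{p'} ⊗ S'` is finitely presented and
free over the local ring `R'_{p'}`.
-/
import Mathlib
import Groth.Agent.S1252
import Groth.Agent.Lib.Helper26.DevTr2
import Groth.Agent.Lib.Helper26.DevMain7
import Groth.Agent.Lib.Helper3.CDev2
import Groth.Agent.Lib.Helper3.ElemDev1

set_option autoImplicit false
set_option linter.style.haveILetI false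
set_option linter.unusedSectionVars false

namespace Groth.Agent.Lib.helper26.RGFlat

open TensorProduct IsLocalRing

universe u

/-- the residue field of the local ring at a prime -/
theorem bijective_mapₐ_atPrime {R : Type u} [CommRing R] (p : Ideal R) [p.IsPrime] :
    Function.Bijective (Ideal.ResidueField.mapₐ p (maximalIdeal (Localization.AtPrime p))
      (Algebra.ofId R (Localization.AtPrime p))
      (Ideal.LiesOver.over (p := p) (P := maximalIdeal (Localization.AtPrime p)))) :=
  (RingHom.surjectiveOnStalks_of_isLocalization p.primeCompl
    (Localization.AtPrime p)).residueFieldMap_bijective p _ _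

set_option maxHeartbeats 1600000 in
/-- the main case of the core statement, given a complete dévissage after étale localisation -/
theorem core_of_devissage {R' S' : Type u} [CommRing R'] [CommRing S'] [Algebra R' S']
    [Algebra.FiniteType R' S']
    (N' : Type u) [AddCommGroup N'] [Module S' N'] [Module R' N'] [IsScalarTower R' S' N']
    [Module.Finite S' N']
    (p' : Ideal R') [p'.IsPrime] (q' : Ideal S') [q'.IsPrime] [q'.LiesOver p']
    (hfl' : FlatCA.FlatAt R' q' N') (hK' : FlatCA.HasCompleteDevissageAt R' S' N' p' q')
    (C : Type u) [CommRing C] [Algebra (Localization.AtPrime p') C] [Algebra S' C] [Algebra R' C]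
    [IsScalarTower R' (Localization.AtPrime p') C] [IsScalarTower R' S' C]
    [Algebra.IsPushout R' (Localization.AtPrime p') S' C]
    (NC : Type u) [AddCommGroup NC] [Module C NC] [Module S' NC] [IsScalarTower S' C NC]
    [Module (Localization.AtPrime p') NC] [IsScalarTower (Localization.AtPrime p') C NC]
    (f : N' →ₗ[S'] NC) (hf : IsBaseChange C f) :
    Module.FinitePresentation C NC ∧ Module.Free (Localization.AtPrime p') NC := by
  have hκ := bijective_mapₐ_atPrime p'
  obtain ⟨x', hx'prime, hx'𝔪, hx'q'⟩ :=
    Groth.Agent.Lib.helper3.BijRes.exists_prime_over p' (maximalIdeal (Localization.AtPrime p')) hκ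
      S' C q'
  haveI := hx'prime
  haveI := hx'𝔪
  haveI := hx'q'
  have hKC : FlatCA.HasCompleteDevissageAt (Localization.AtPrime p') C NC
      (maximalIdeal (Localization.AtPrime p')) x' :=
    Groth.Agent.Lib.helper26.DevTr.hasCompleteDevissageAt_baseChange R' S' N' p' q' hK'
      (Localization.AtPrime p') (maximalIdeal (Localization.AtPrime p')) hκ C NC f hf x'
  -- flatness
  letI modR'NC : Module R' NC := Module.compHom NC (algebraMap R' C)
  haveI twR'CNC : IsScalarTower R' C NC := IsScalarTower.of_algebraMap_smul fun _ _ => rfl
  haveI twR'ANC : IsScalarTower R' (Localization.AtPrime p') NC :=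
    IsScalarTower.of_algebraMap_smul fun r x => by
      show algebraMap R' (Localization.AtPrime p') r • x = algebraMap R' C r • x
      rw [IsScalarTower.algebraMap_apply R' (Localization.AtPrime p') C,
        algebraMap_smul C (algebraMap R' (Localization.AtPrime p') r) x]
  haveI : Module.Flat R' (Localization.AtPrime p') := IsLocalization.flat _ p'.primeCompl
  haveI : Algebra.IsPushout R' S' (Localization.AtPrime p') C := Algebra.IsPushout.symm inferInstance
  haveI : Module.Flat S' C :=
    Module.Flat.of_linearEquiv
      (Algebra.IsPushout.equiv R' S' (Localization.AtPrime p') C).symm.toLinearEquiv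
  have hflC : FlatCA.FlatAt R' x' NC :=
    (Groth.Agent.Lib.helper3.FlatAtLib.flatAt_iff_of_isBaseChange (A := R') q' x' f hf).mp hfl'
  have hflA : FlatCA.FlatAt (Localization.AtPrime p') x' NC := by
    unfold FlatCA.FlatAt at hflC ⊢
    haveI : IsScalarTower R' (Localization.AtPrime p') (LocalizedModule x'.primeCompl NC) :=
      IsScalarTower.of_algebraMap_smul (fun r x => by
        induction x using LocalizedModule.induction_on with
        | h m s =>
          rw [LocalizedModule.smul'_mk, LocalizedModule.smul'_mk, algebraMap_smul])
    exact (Module.flat_iff_of_isLocalization (Localization.AtPrime p') p'.primeCompl _).mpr hflC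
  obtain ⟨D, ⟨DA⟩⟩ := hKC
  have h := Groth.Agent.Lib.helper3.CDev.main D DA hflA
  exact ⟨h.1, h.2.1⟩

end Groth.Agent.Lib.helper26.RGFlat
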