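/-
Helper library (helper26): flatness and freeness after étale localisation (Raynaud–Gruson).
Part 3: the model lemma — for elementary étale neighbourhoods `(R', p')`, `(S', q')` and a model
`SA` of `S ⊗[R] A`, `A = R'_{p'}`, an étale `SA`-algebra `C` which is a pushout of `A` and `S'`
over `R'`.
-/
import Mathlib
import Groth.Prelude.Def_FlatCA

set_option autoImplicit false
set_option linter.style.haveILetI false
set_option linter.unusedSectionVars false

namespace Groth.Agent.Lib.helper26.RGFlat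

open TensorProduct IsLocalRing

universe u

attribute [local instance] Algebra.TensorProduct.rightAlgebra

set_option maxHeartbeats 1600000 in
theorem exists_model {R S R' S' : Type u} [CommRing R] [CommRing S] [CommRing R'] [CommRing S']
    [Algebra R S] [Algebra R R'] [Algebra S S'] [Algebra R' S'] [Algebra R S']
    [IsScalarTower R R' S'] [IsScalarTower R S S'] [Algebra.Etale R R'] [Algebra.Etale S S']
    (A : Type u) [CommRing A] [Algebra R' A] [Algebra R A] [IsScalarTower R R' A]
    (SA : Type u) [CommRing SA] [Algebra R SA] [Algebra S SA] [Algebra A SA]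
    [IsScalarTower R S SA] [IsScalarTower R A SA] [Algebra.IsPushout R S A SA] :
    ∃ (C : Type u) (_ : CommRing C) (_ : Algebra SA C) (_ : Algebra A C)
      (_ : IsScalarTower A SA C) (_ : Algebra S C) (_ : IsScalarTower S SA C) (_ : Algebra S' C)
      (_ : Algebra R' C) (_ : IsScalarTower R' A C) (_ : IsScalarTower R' S' C)
      (_ : IsScalarTower S S' C), Algebra.IsPushout R' A S' C ∧ Algebra.Etale SA C := by
  -- the ring `W = R' ⊗[R] S`
  let φ : R' ⊗[R] S →ₐ[R'] S' :=
    Algebra.TensorProduct.lift (Algebra.ofId R' S') (IsScalarTower.toAlgHom R S S')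
      (fun _ _ => .all _ _)
  letI algWS' : Algebra (R' ⊗[R] S) S' := φ.toRingHom.toAlgebra
  have hφ : ∀ x : R' ⊗[R] S, algebraMap (R' ⊗[R] S) S' x = φ x := fun _ => rfl
  haveI twR'WS' : IsScalarTower R' (R' ⊗[R] S) S' := IsScalarTower.of_algebraMap_eq fun r => by
    rw [hφ, AlgHom.commutes]
  haveI twSWS' : IsScalarTower S (R' ⊗[R] S) S' := IsScalarTower.of_algebraMap_eq fun s => by
    rw [hφ]
    show algebraMap S S' s = φ ((1 : R') ⊗ₜ[R] s)
    simp [φ]
  haveI : Algebra.IsPushout R S R' (R' ⊗[R] S) := Algebra.IsPushout.symm inferInstance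
  haveI : Algebra.Etale S (R' ⊗[R] S) :=
    Algebra.Etale.of_equiv (Algebra.IsPushout.equiv R S R' (R' ⊗[R] S))
  haveI : Algebra.Etale (R' ⊗[R] S) S' := Algebra.Etale.of_restrictScalars S (R' ⊗[R] S) S'
  -- `SA` over `R'` and `W`
  letI algR'SA : Algebra R' SA := ((algebraMap A SA).comp (algebraMap R' A)).toAlgebra
  haveI twR'ASA : IsScalarTower R' A SA := IsScalarTower.of_algebraMap_eq fun _ => rfl
  haveI twRR'SA : IsScalarTower R R' SA := IsScalarTower.of_algebraMap_eq fun r => by
    show algebraMap R SA r = algebraMap A SA (algebraMap R' A (algebraMap R R' r))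
    rw [← IsScalarTower.algebraMap_apply R R' A, ← IsScalarTower.algebraMap_apply R A SA]
  let ψ : R' ⊗[R] S →ₐ[R'] SA :=
    Algebra.TensorProduct.lift (Algebra.ofId R' SA) (IsScalarTower.toAlgHom R S SA)
      (fun _ _ => .all _ _)
  letI algWSA : Algebra (R' ⊗[R] S) SA := ψ.toRingHom.toAlgebra
  have hψ : ∀ x : R' ⊗[R] S, algebraMap (R' ⊗[R] S) SA x = ψ x := fun _ => rfl
  haveI twR'WSA : IsScalarTower R' (R' ⊗[R] S) SA := IsScalarTower.of_algebraMap_eq fun r => by
    rw [hψ, AlgHom.commutes]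
  haveI twSWSA : IsScalarTower S (R' ⊗[R] S) SA := IsScalarTower.of_algebraMap_eq fun s => by
    rw [hψ]
    show algebraMap S SA s = ψ ((1 : R') ⊗ₜ[R] s)
    simp [ψ]
  haveI twRWSA : IsScalarTower R (R' ⊗[R] S) SA := IsScalarTower.of_algebraMap_eq fun r => by
    rw [IsScalarTower.algebraMap_apply R R' (R' ⊗[R] S),
      ← IsScalarTower.algebraMap_apply R' (R' ⊗[R] S) SA, ← IsScalarTower.algebraMap_apply R R' SA]
  -- first pasting
  haveI hpo1 : Algebra.IsPushout R' A (R' ⊗[R] S) SA := by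
    haveI : Algebra.IsPushout R A S SA := Algebra.IsPushout.symm inferInstance
    exact (Algebra.IsPushout.comp_iff (R := R) (S := R') (T := A) (R' := S) (S' := R' ⊗[R] S)
      (T' := SA)).mp inferInstance
  -- the ring `C`
  haveI twR'S'C : IsScalarTower R' S' (SA ⊗[R' ⊗[R] S] S') :=
    IsScalarTower.of_algebraMap_eq (R := R') (S := S') (A := SA ⊗[R' ⊗[R] S] S') fun r => by
    show (algebraMap R' SA r) ⊗ₜ[R' ⊗[R] S] (1 : S') = (1 : SA) ⊗ₜ[R' ⊗[R] S] (algebraMap R' S' r)
    rw [IsScalarTower.algebraMap_apply R' (R' ⊗[R] S) SA,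
      IsScalarTower.algebraMap_apply R' (R' ⊗[R] S) S', Algebra.algebraMap_eq_smul_one,
      Algebra.algebraMap_eq_smul_one (A := S'), TensorProduct.smul_tmul]
  haveI twSS'C : IsScalarTower S S' (SA ⊗[R' ⊗[R] S] S') :=
    IsScalarTower.of_algebraMap_eq (R := S) (S := S') (A := SA ⊗[R' ⊗[R] S] S') fun r => by
    show (algebraMap S SA r) ⊗ₜ[R' ⊗[R] S] (1 : S') = (1 : SA) ⊗ₜ[R' ⊗[R] S] (algebraMap S S' r)
    rw [IsScalarTower.algebraMap_apply S (R' ⊗[R] S) SA,
      IsScalarTower.algebraMap_apply S (R' ⊗[R] S) S', Algebra.algebraMap_eq_smul_one,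
      Algebra.algebraMap_eq_smul_one (A := S'), TensorProduct.smul_tmul]
  have hpo2 : Algebra.IsPushout R' A S' (SA ⊗[R' ⊗[R] S] S') := by
    haveI : Algebra.IsPushout R' (R' ⊗[R] S) A SA := Algebra.IsPushout.symm hpo1
    haveI : Algebra.IsPushout (R' ⊗[R] S) S' SA (SA ⊗[R' ⊗[R] S] S') :=
      Algebra.IsPushout.symm inferInstance
    exact Algebra.IsPushout.symm ((Algebra.IsPushout.comp_iff (R := R') (S := R' ⊗[R] S) (T := S')
      (R' := A) (S' := SA) (T' := SA ⊗[R' ⊗[R] S] S')).mpr inferInstance)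
  exact ⟨SA ⊗[R' ⊗[R] S] S', inferInstance, inferInstance, inferInstance, inferInstance,
    inferInstance, inferInstance, inferInstance, inferInstance, inferInstance, twR'S'C, twSS'C,
    hpo2, inferInstance⟩

end Groth.Agent.Lib.helper26.RGFlat
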