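/-
Helper library (helper26): flatness and freeness after étale localisation (Raynaud–Gruson).
Part 4: for a model `SA` of `S ⊗[R] A`, `A = R'_{p'}`: an étale `SA`-algebra `C` with a point over
`q` with trivial residue field extension, the base change of `N` to `C` finitely presented and free
over `A`, and a basic open neighbourhood of the point of `SA` over `q` and `𝔪_A` inside the image of
`Spec C`.
-/
import Mathlib
import Groth.Agent.Lib.Helper26.RGFlat2
import Groth.Agent.Lib.Helper26.RGFlat3

set_option autoImplicit false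
set_option linter.style.haveILetI false
set_option linter.unusedSectionVars false

namespace Groth.Agent.Lib.helper26.RGFlat

open TensorProduct IsLocalRing

universe u

set_option maxHeartbeats 1600000 in
theorem exists_open_data {R S R' S' : Type u} [CommRing R] [CommRing S] [CommRing R'] [CommRing S']
    [Algebra R S] [Algebra R R'] [Algebra S S'] [Algebra R' S'] [Algebra R S']
    [IsScalarTower R R' S'] [IsScalarTower R S S']
    (N : Type u) [AddCommGroup N] [Module S N]
    (p : Ideal R) [p.IsPrime] (q : Ideal S) [q.IsPrime] [hqp : q.LiesOver p]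
    (p' : Ideal R') [p'.IsPrime] (q' : Ideal S') [q'.IsPrime]
    (hEtR : FlatCA.IsEtaleNhd R R' p p') (hEtS : FlatCA.IsEtaleNhd S S' q q') [hq'p' : q'.LiesOver p']
    (hcore : ∀ (C : Type u) [CommRing C] [Algebra (Localization.AtPrime p') C] [Algebra S' C]
      [Algebra R' C] [Algebra S C] [IsScalarTower R' (Localization.AtPrime p') C]
      [IsScalarTower R' S' C] [IsScalarTower S S' C]
      [Algebra.IsPushout R' (Localization.AtPrime p') S' C]
      (NC : Type u) [AddCommGroup NC] [Module C NC] [Module S NC] [IsScalarTower S C NC]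
      [Module (Localization.AtPrime p') NC] [IsScalarTower (Localization.AtPrime p') C NC]
      (f : N →ₗ[S] NC), IsBaseChange C f →
      Module.FinitePresentation C NC ∧ Module.Free (Localization.AtPrime p') NC)
    (SA NA : Type u) [CommRing SA] [Algebra R SA] [Algebra S SA] [Algebra (Localization.AtPrime p') SA]
    [IsScalarTower R S SA] [IsScalarTower R (Localization.AtPrime p') SA]
    [Algebra.IsPushout R S (Localization.AtPrime p') SA]
    [AddCommGroup NA] [Module SA NA] [Module S NA] [IsScalarTower S SA NA]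
    (f : N →ₗ[S] NA) (hf : IsBaseChange SA f) :
    ∃ (C : Type u) (_ : CommRing C) (_ : Algebra SA C) (_ : Algebra (Localization.AtPrime p') C)
      (_ : IsScalarTower (Localization.AtPrime p') SA C) (_ : Algebra S C)
      (_ : IsScalarTower S SA C),
      Algebra.Etale SA C ∧ Module.FinitePresentation C (C ⊗[SA] NA) ∧
      Module.Free (Localization.AtPrime p') (C ⊗[SA] NA) ∧
      (∃ (x' : Ideal C) (_ : x'.IsPrime) (hx : x'.LiesOver q),
        x'.LiesOver (maximalIdeal (Localization.AtPrime p')) ∧
        Function.Bijective (Ideal.ResidueField.mapₐ q x' (Algebra.ofId S C) hx.over)) ∧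
      ∃ g : SA, (∀ (Q : Ideal SA) [Q.IsPrime], Q.LiesOver q →
          Q.LiesOver (maximalIdeal (Localization.AtPrime p')) → g ∉ Q) ∧
        ∀ (P : Ideal SA) [P.IsPrime], g ∉ P → ∃ (Q' : Ideal C) (_ : Q'.IsPrime), Q'.under SA = P := by
  obtain ⟨etR, hp'p, hbijR⟩ := hEtR
  obtain ⟨etS, hq'q, hbijS⟩ := hEtS
  haveI := etR
  haveI := etS
  haveI := hp'p
  haveI := hq'q
  obtain ⟨C, _, algSAC, algAC, twASAC, algSC, twSSAC, algS'C, algR'C, twR'AC, twR'S'C, twSS'C, hpoC,
    hEtC⟩ := exists_model (R := R) (S := S) (R' := R') (S' := S') (Localization.AtPrime p') SA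
  haveI := hpoC
  haveI := hEtC
  -- the module
  have hfC : IsBaseChange C (((TensorProduct.mk SA C NA 1).restrictScalars S).comp f) :=
    IsBaseChange.comp hf (TensorProduct.isBaseChange SA NA C)
  obtain ⟨hfp, hfree⟩ := hcore C (C ⊗[SA] NA) _ hfC
  -- the point
  have hκ := bijective_mapₐ_atPrime p'
  obtain ⟨x', hx'prime, hx'𝔪, hx'q'⟩ :=
    Groth.Agent.Lib.helper3.BijRes.exists_prime_over p' (maximalIdeal (Localization.AtPrime p')) hκ
      S' C q'
  haveI := hx'prime
  haveI := hx'𝔪
  haveI := hx'q'
  haveI hx'q : x'.LiesOver q := Ideal.LiesOver.trans x' q' q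
  have hb2 : Function.Bijective (Ideal.ResidueField.mapₐ q' x' (Algebra.ofId S' C) hx'q'.over) :=
    Groth.Agent.Lib.helper3.BijRes.residueField_map_bijective p'
      (maximalIdeal (Localization.AtPrime p')) hκ.2 S' C q' x'
  have hb3 : Function.Bijective (Ideal.ResidueField.mapₐ q x' (Algebra.ofId S C) hx'q.over) :=
    Groth.Agent.Lib.helper26.GeomIrr.bijective_mapₐ_comp q q' x' hbijS hb2
  -- the open image
  haveI : Module.Flat SA C := inferInstance
  haveI : Algebra.FinitePresentation SA C := inferInstance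
  have hopen : IsOpenMap (PrimeSpectrum.comap (algebraMap SA C)) :=
    PrimeSpectrum.isOpenMap_comap_of_hasGoingDown_of_finitePresentation
  have hU : IsOpen (Set.range (PrimeSpectrum.comap (algebraMap SA C))) := hopen.isOpen_range
  haveI hQ₀prime : (x'.under SA).IsPrime := Ideal.IsPrime.under SA x'
  have hQ₀U : (⟨x'.under SA, hQ₀prime⟩ : PrimeSpectrum SA) ∈
      Set.range (PrimeSpectrum.comap (algebraMap SA C)) := ⟨⟨x', hx'prime⟩, rfl⟩
  obtain ⟨_, ⟨g, rfl⟩, hQ₀g, hgU⟩ :=
    PrimeSpectrum.isTopologicalBasis_basic_opens.exists_subset_of_mem_open hQ₀U hU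
  -- residue fields of `R → A`
  haveI h𝔪p : (maximalIdeal (Localization.AtPrime p')).LiesOver p :=
    Ideal.LiesOver.trans (maximalIdeal (Localization.AtPrime p')) p' p
  have hκRA : Function.Bijective (Ideal.ResidueField.mapₐ p (maximalIdeal (Localization.AtPrime p'))
      (Algebra.ofId R (Localization.AtPrime p')) h𝔪p.over) :=
    Groth.Agent.Lib.helper26.GeomIrr.bijective_mapₐ_comp p p' _ hbijR hκ
  haveI : Algebra.IsPushout R (Localization.AtPrime p') S SA := Algebra.IsPushout.symm inferInstance
  refine ⟨C, inferInstance, algSAC, algAC, twASAC, algSC, twSSAC, hEtC, hfp, hfree,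
    ⟨x', hx'prime, hx'q, hx'𝔪, hb3⟩, g, ?_, ?_⟩
  · intro Q hQ hQq hQ𝔪
    have h₂ : (x'.under SA).under (Localization.AtPrime p') =
        maximalIdeal (Localization.AtPrime p') := by
      rw [Ideal.under_under]
      exact hx'𝔪.over.symm
    have h₃ : Q.under S = (x'.under SA).under S := by
      rw [Ideal.under_under, ← hQq.over]
      exact hx'q.over
    have hQeq : Q = x'.under SA :=
      Groth.Agent.Lib.helper3.BijRes.eq_of_under_eq p (maximalIdeal (Localization.AtPrime p'))
        hκRA.2 S SA Q (x'.under SA) hQ𝔪.over.symm h₂ h₃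
    rw [hQeq]
    exact hQ₀g
  · intro P hP hgP
    obtain ⟨Q', hQ'⟩ := hgU (show (⟨P, hP⟩ : PrimeSpectrum SA) ∈ _ from hgP)
    exact ⟨Q'.asIdeal, Q'.2, congrArg PrimeSpectrum.asIdeal hQ'⟩

end Groth.Agent.Lib.helper26.RGFlat
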