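/-
Helper library (helper26): flatness and freeness after étale localisation (Raynaud–Gruson).
Part 5: existence of an abstract model of the pushout `S ⊗[R] A` (to keep instance problems on
concrete tensor products out of the applications).
-/
import Mathlib

set_option autoImplicit false
set_option linter.style.haveILetI false
set_option linter.unusedSectionVars false

namespace Groth.Agent.Lib.helper26.RGFlat

open TensorProduct

universe u

attribute [local instance] Algebra.TensorProduct.rightAlgebra in
/-- an abstract model of the pushout of `S` and `A` over `R` -/
theorem exists_pushout_model (R S A : Type u) [CommRing R] [CommRing S] [CommRing A]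
    [Algebra R S] [Algebra R A] :
    ∃ (SA : Type u) (_ : CommRing SA) (_ : Algebra R SA) (_ : Algebra S SA) (_ : Algebra A SA)
      (_ : IsScalarTower R S SA) (_ : IsScalarTower R A SA), Algebra.IsPushout R S A SA :=
  ⟨S ⊗[R] A, inferInstance, inferInstance, inferInstance, inferInstance, inferInstance,
    inferInstance, inferInstance⟩

end Groth.Agent.Lib.helper26.RGFlat
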