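/-
Helper library (helper26): covering a fibre by elementary étale neighbourhoods (Raynaud–Gruson).
Part 1: isolating a point of the fibre of an étale neighbourhood; open sets of points "hit" by an
étale neighbourhood; flatness in a neighbourhood (in the fibre) of a point of flatness.
-/
import Mathlib
import Groth.Agent.Lib.Helper26.RGFlat4
import Groth.Agent.Lib.Helper26.RGFlat5

set_option autoImplicit false
set_option linter.style.haveILetI false
set_option linter.unusedSectionVars false

namespace Groth.Agent.Lib.helper26.FibCov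

open TensorProduct IsLocalRing

universe u

/-- in an elementary étale neighbourhood `(R', p')` of `(R, p)` the point `p'` is isolated in its
fibre: some `e ∉ p'` lies in all other primes over `p` -/
theorem exists_isolating {R R' : Type u} [CommRing R] [CommRing R'] [Algebra R R']
    (p : Ideal R) [p.IsPrime] (p' : Ideal R') [p'.IsPrime] (h : FlatCA.IsEtaleNhd R R' p p') :
    ∃ e : R', e ∉ p' ∧ ∀ (p'' : Ideal R') [p''.IsPrime], p''.LiesOver p → p'' ≠ p' → e ∈ p'' := by
  obtain ⟨et, hp'p, -⟩ := h
  haveI := et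
  haveI := hp'p
  haveI : Algebra.EssFiniteType R R' := inferInstance
  haveI : Algebra.QuasiFinite R R' := inferInstance
  haveI : Algebra.QuasiFiniteAt R p' := inferInstance
  obtain ⟨s, hs, hall⟩ := Ideal.exists_not_mem_forall_mem_of_ne_of_liesOver p p'
  exact ⟨s, hs, fun p'' hp'' hover hne => hall p'' hp'' hne hover⟩

/-- the points of the fibre over `p` hit by the fibre over `p'` of an elementary étale
neighbourhood `(S', q')` contain an open neighbourhood of `q` -/
theorem exists_open_hit {R S R' S' : Type u} [CommRing R] [CommRing S] [CommRing R']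
    [CommRing S'] [Algebra R S] [Algebra R R'] [Algebra S S'] [Algebra R' S'] [Algebra R S']
    [IsScalarTower R R' S'] [IsScalarTower R S S']
    (p : Ideal R) [p.IsPrime] (q : Ideal S) [hq : q.IsPrime] (p' : Ideal R') [p'.IsPrime]
    (q' : Ideal S') [hq' : q'.IsPrime]
    (hEtR : FlatCA.IsEtaleNhd R R' p p') (hEtS : FlatCA.IsEtaleNhd S S' q q')
    [hq'p' : q'.LiesOver p'] :
    ∃ U : Set (PrimeSpectrum S), IsOpen U ∧ (⟨q, hq⟩ : PrimeSpectrum S) ∈ U ∧
      ∀ (q₂ : Ideal S) [hq₂ : q₂.IsPrime], q₂.LiesOver p → (⟨q₂, hq₂⟩ : PrimeSpectrum S) ∈ U →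
        ∃ (y : Ideal S') (_ : y.IsPrime), y.LiesOver q₂ ∧ y.LiesOver p' := by
  obtain ⟨e, hep', he⟩ := exists_isolating p p' hEtR
  obtain ⟨etS, hq'q, -⟩ := hEtS
  haveI := etS
  haveI := hq'q
  haveI : Module.Flat S S' := inferInstance
  haveI : Algebra.FinitePresentation S S' := inferInstance
  have hopen : IsOpenMap (PrimeSpectrum.comap (algebraMap S S')) :=
    PrimeSpectrum.isOpenMap_comap_of_hasGoingDown_of_finitePresentation
  refine ⟨PrimeSpectrum.comap (algebraMap S S') ''
    (PrimeSpectrum.basicOpen (algebraMap R' S' e) : Set (PrimeSpectrum S')),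
    hopen _ (PrimeSpectrum.basicOpen (algebraMap R' S' e)).isOpen, ?_, ?_⟩
  · refine ⟨⟨q', hq'⟩, ?_, ?_⟩
    · show algebraMap R' S' e ∉ q'
      intro hmem
      apply hep'
      rw [hq'p'.over]
      exact hmem
    · apply PrimeSpectrum.ext
      exact hq'q.over.symm
  · intro q₂ hq₂ hq₂p hq₂U
    obtain ⟨y, hyU, hyq₂⟩ := hq₂U
    have hyq₂' : y.asIdeal.under S = q₂ := congrArg PrimeSpectrum.asIdeal hyq₂
    haveI hyover : y.asIdeal.LiesOver q₂ := ⟨hyq₂'.symm⟩
    refine ⟨y.asIdeal, y.isPrime, hyover, ?_⟩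
    haveI hp''prime : (y.asIdeal.under R').IsPrime := Ideal.IsPrime.under R' y.asIdeal
    have hp''p : (y.asIdeal.under R').LiesOver p := by
      constructor
      rw [Ideal.under_under, ← Ideal.under_under (B := S), hyq₂']
      exact hq₂p.over
    have hene : e ∉ y.asIdeal.under R' := fun h => hyU h
    by_contra hcon
    apply hene
    apply he (y.asIdeal.under R') hp''p
    intro heq
    exact hcon ⟨heq.symm⟩

/-- a flat module is flat at every prime -/
theorem flatAt_of_flat {A C : Type u} [CommRing A] [CommRing C] [Algebra A C]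
    (M : Type u) [AddCommGroup M] [Module C M] [Module A M] [IsScalarTower A C M]
    [Module.Flat A M] (x : Ideal C) [hx : x.IsPrime] : FlatCA.FlatAt A x M := by
  rw [Groth.Agent.Lib.helper3.FlatAtLib.flatAt_iff_forall_eq_zero]
  intro P₁ Q₁ _ _ _ _ u hu z hz
  have hinj : Function.Injective (u.lTensor M) :=
    Module.Flat.lTensor_preserves_injective_linearMap u hu
  have hz0 : z = 0 := hinj (hz.trans (map_zero _).symm)
  refine ⟨1, fun h1 => hx.ne_top ((Ideal.eq_top_iff_one _).mpr h1), ?_⟩
  rw [hz0, smul_zero]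

set_option maxHeartbeats 1600000 in
/-- flatness at a point of the fibre spreads to an open neighbourhood (in the fibre) -/
theorem flatAt_nhd {R S : Type u} [CommRing R] [CommRing S] [Algebra R S]
    [Algebra.FiniteType R S]
    (N : Type u) [AddCommGroup N] [Module S N] [Module R N] [IsScalarTower R S N]
    [Module.Finite S N]
    (p : Ideal R) [p.IsPrime] (q : Ideal S) [hq : q.IsPrime] [hqp : q.LiesOver p]
    (hflat : FlatCA.FlatAt R q N) :
    ∃ U : Set (PrimeSpectrum S), IsOpen U ∧ (⟨q, hq⟩ : PrimeSpectrum S) ∈ U ∧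
      ∀ (q₂ : Ideal S) [hq₂ : q₂.IsPrime], q₂.LiesOver p → (⟨q₂, hq₂⟩ : PrimeSpectrum S) ∈ U →
        FlatCA.FlatAt R q₂ N := by
  obtain ⟨R', S', _, _, algRR', algSS', algR'S', algRS', twRR'S', twRSS', p', q', hp', hq', hEtR,
    hEtS, hq'p', hcore⟩ := Groth.Agent.Lib.helper26.RGFlat.core N p q hflat
  obtain ⟨U, hUopen, hqU, hU⟩ := exists_open_hit p q p' q' hEtR hEtS
  refine ⟨U, hUopen, hqU, ?_⟩
  intro q₂ hq₂ hq₂p hq₂U
  obtain ⟨y, hyprime, hyq₂, hyp'⟩ := hU q₂ hq₂p hq₂U
  haveI : Algebra.Etale R R' := hEtR.1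
  haveI : Algebra.Etale S S' := hEtS.1
  -- the pushout of `A = R'_{p'}` and `S'` over `R'`
  obtain ⟨C, _, algR'C, algS'C, algAC, twR'S'C, twR'AC, hpo⟩ :=
    Groth.Agent.Lib.helper26.RGFlat.exists_pushout_model R' S' (Localization.AtPrime p')
  haveI hpo' : Algebra.IsPushout R' (Localization.AtPrime p') S' C := Algebra.IsPushout.symm hpo
  letI algSC : Algebra S C := ((algebraMap S' C).comp (algebraMap S S')).toAlgebra
  haveI twSS'C : IsScalarTower S S' C := IsScalarTower.of_algebraMap_eq fun _ => rfl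
  -- the module
  obtain ⟨hfp, hfree⟩ := hcore C (C ⊗[S] N) (TensorProduct.mk S C N 1)
    (TensorProduct.isBaseChange S N C)
  -- the point
  have hκ := Groth.Agent.Lib.helper26.RGFlat.bijective_mapₐ_atPrime p'
  obtain ⟨x', hx'prime, hx'𝔪, hx'y⟩ :=
    Groth.Agent.Lib.helper3.BijRes.exists_prime_over p' (maximalIdeal (Localization.AtPrime p')) hκ
      S' C y
  haveI := hx'prime
  haveI := hx'y
  haveI := hfree
  haveI : Module.Flat (Localization.AtPrime p') (C ⊗[S] N) := inferInstance
  have h1 : FlatCA.FlatAt (Localization.AtPrime p') x' (C ⊗[S] N) :=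
    flatAt_of_flat (C ⊗[S] N) x'
  -- down to `R'`
  haveI twR'ANC : IsScalarTower R' (Localization.AtPrime p') (C ⊗[S] N) :=
    IsScalarTower.of_algebraMap_smul fun r z => by
      rw [← algebraMap_smul C (algebraMap R' (Localization.AtPrime p') r) z,
        ← IsScalarTower.algebraMap_apply R' (Localization.AtPrime p') C, algebraMap_smul]
  have h2 : FlatCA.FlatAt R' x' (C ⊗[S] N) := by
    unfold FlatCA.FlatAt at h1 ⊢
    haveI : IsScalarTower R' (Localization.AtPrime p') (LocalizedModule x'.primeCompl (C ⊗[S] N)) :=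
      IsScalarTower.of_algebraMap_smul (fun r z => by
        induction z using LocalizedModule.induction_on with
        | h m s =>
          rw [LocalizedModule.smul'_mk, LocalizedModule.smul'_mk, algebraMap_smul])
    exact (Module.flat_iff_of_isLocalization (Localization.AtPrime p') p'.primeCompl _).mp h1
  -- down to `S'`
  haveI : Module.Flat R' (Localization.AtPrime p') := IsLocalization.flat _ p'.primeCompl
  haveI : Module.Flat S' C :=
    Module.Flat.of_linearEquiv
      (Algebra.IsPushout.equiv R' S' (Localization.AtPrime p') C).symm.toLinearEquiv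
  let h : S' ⊗[S] N →ₗ[S'] C ⊗[S] N :=
    (TensorProduct.isBaseChange S N S').lift (TensorProduct.mk S C N 1)
  have hcomp : (h.restrictScalars S).comp (TensorProduct.mk S S' N 1) = TensorProduct.mk S C N 1 := by
    ext n
    exact (TensorProduct.isBaseChange S N S').lift_eq (TensorProduct.mk S C N 1) n
  have hh : IsBaseChange C h := by
    apply IsBaseChange.of_comp (TensorProduct.isBaseChange S N S')
    rw [hcomp]
    exact TensorProduct.isBaseChange S N C
  have h3 : FlatCA.FlatAt R' y (S' ⊗[S] N) :=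
    (Groth.Agent.Lib.helper3.FlatAtLib.flatAt_iff_of_isBaseChange (A := R') y x' h hh).mpr h2
  -- down to `S`
  haveI := hyq₂
  exact (Groth.Agent.Lib.helper3.ElemDev.chain₁ (R := R) (R' := R') (TensorProduct.mk S S' N 1)
    (TensorProduct.isBaseChange S N S') (LinearEquiv.refl S' (S' ⊗[S] N)) q₂ y).mpr h3

end Groth.Agent.Lib.helper26.FibCov
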