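/-
Helper library (helper26): fibrewise regular elements for finite modules over finite type algebras
(Raynaud–Gruson, finite type versions).
Part 1: the weakly regular version of EGA IV 11.3.8 with a local finite presentation hypothesis;
change of rings for localizations along a surjection.
-/
import Mathlib
import Groth.Agent.Lib.Helper3.RegFib5
import Groth.Agent.Lib.Helper3.UnivInjGlobal2

set_option autoImplicit false
set_option linter.style.haveILetI false
set_option linter.unusedSectionVars false

namespace Groth.Agent.Lib.helper26.FtReg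

open TensorProduct IsLocalRing RingTheory.Sequence Groth.Agent.Lib.helper3.RegFib
open scoped Pointwise

universe u

section Main

variable {A B : Type u} [CommRing A] [CommRing B] [Algebra A B] (q : Ideal B) [q.IsPrime]
  (M : Type u) [AddCommGroup M] [Module B M] [Module A M] [IsScalarTower A B M]

/-- `RegFib.main_weak` with finite presentation assumed only for the localization at `q` -/
theorem main_weak' [Algebra.FinitePresentation A B]
    [Module.FinitePresentation (Localization.AtPrime q) (LocalizedModule q.primeCompl M)]
    (g : List B)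
    (hflat : Module.Flat A (LocalizedModule q.primeCompl M))
    (hreg : RingTheory.Sequence.IsWeaklyRegular
      (LocalizedModule q.primeCompl (M ⊗[A] (q.comap (algebraMap A B)).ResidueField)) g) :
    RingTheory.Sequence.IsWeaklyRegular (LocalizedModule q.primeCompl M) g ∧
      ∀ i, Module.Flat A
        (LocalizedModule q.primeCompl (M ⧸ (Ideal.span {b | b ∈ g.take i} • (⊤ : Submodule B M)))) := by
  haveI := flat_Rp (A := A) q M hflat
  have hQ : IsWeaklyRegular (Qq (A := A) q M) g :=
    ((eTQ (A := A) q M).isWeaklyRegular_congr g).1 hreg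
  have hQ' : IsWeaklyRegular (Qq (A := A) q M) (g.map (algebraMap B (Sq q))) :=
    (isWeaklyRegular_map_algebraMap_iff (Sq q) (Qq (A := A) q M) g).2 hQ
  have hN0 := ((eNQ (A := A) q M).isWeaklyRegular_congr (g.map (algebraMap B (Sq q)))).2 hQ'
  obtain ⟨h1, h2⟩ := AL (R := Rp (A := A) q) (S := Sq q) (hS_Sq (A := A) q)
    (g.map (algebraMap B (Sq q))) (Nq q M) hN0
  refine ⟨(isWeaklyRegular_map_algebraMap_iff (Sq q) (Nq q M) g).1 h1, ?_⟩
  intro i
  have hloc := localized_ofList_smul_top q M (g.take i)
  have h2i := h2 i
  rw [← List.map_take, ← hloc] at h2i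
  haveI : Module.Flat A (Nq q M ⧸ (Ideal.span {b | b ∈ g.take i} •
      (⊤ : Submodule B M)).localized q.primeCompl) :=
    (Module.flat_iff_of_isLocalization (Rp (A := A) q) (pp (A := A) q).primeCompl _).1 h2i
  exact Module.Flat.of_linearEquiv
    ((localizedQuotientEquiv q.primeCompl (Ideal.span {b | b ∈ g.take i} •
      (⊤ : Submodule B M))).restrictScalars A).symm

end Main

section Smul

variable {R S : Type u} [CommRing R] [CommRing S] [Algebra R S]
  (N : Type u) [AddCommGroup N] [Module S N] [Module R N] [IsScalarTower R S N]
  (q : Ideal S) [q.IsPrime]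

open Groth.Agent.Lib.helper3.UnivInjGlobal in
/-- `UnivInjGlobal.smul_eq_zero_localized_tensor` with finite presentation and flatness assumed
only for the localization at `q` -/
theorem smul_eq_zero_localized_tensor' [Algebra.FinitePresentation R S]
    [Module.FinitePresentation (Localization.AtPrime q) (LocalizedModule q.primeCompl N)]
    (hflat : Module.Flat R (LocalizedModule q.primeCompl N))
    (s : S) (hs : IsSMulRegular
      (LocalizedModule q.primeCompl (N ⊗[R] (q.comap (algebraMap R S)).ResidueField)) s)
    (Q : Type u) [AddCommGroup Q] [Module R Q]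
    (z : LocalizedModule q.primeCompl N ⊗[R] Q) (hz : s • z = 0) : z = 0 := by
  obtain ⟨h1, h2⟩ := main_weak' q N [s] hflat
    ((RingTheory.Sequence.isWeaklyRegular_singleton_iff _ s).2 hs)
  have hsreg : IsSMulRegular (LocalizedModule q.primeCompl N) s :=
    (RingTheory.Sequence.isWeaklyRegular_singleton_iff _ s).1 h1
  have hfl := h2 1
  set K : Submodule S N := Ideal.span {b | b ∈ [s].take 1} • (⊤ : Submodule S N) with hK
  have hKs : K = s • (⊤ : Submodule S N) := by
    rw [hK]
    have : {b | b ∈ [s].take 1} = ({s} : Set S) := by
      ext b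
      simp
    rw [this, Submodule.ideal_span_singleton_smul]
  have hex : Function.Exact (LinearMap.lsmul S N s) (Submodule.mkQ K) := by
    intro n
    rw [Submodule.mkQ_apply, Submodule.Quotient.mk_eq_zero, hKs]
    constructor
    · intro hn
      obtain ⟨x, -, rfl⟩ := (Submodule.mem_smul_pointwise_iff_exists _ _ _).mp hn
      exact ⟨x, rfl⟩
    · rintro ⟨x, rfl⟩
      exact Submodule.smul_mem_pointwise_smul _ _ _ Submodule.mem_top
  have hex' := LocalizedModule.map_exact q.primeCompl _ _ hex
  let f₀ : LocalizedModule q.primeCompl N →ₗ[R] LocalizedModule q.primeCompl N :=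
    (LinearMap.lsmul S (LocalizedModule q.primeCompl N) s).restrictScalars R
  let g₀ : LocalizedModule q.primeCompl N →ₗ[R] LocalizedModule q.primeCompl (N ⧸ K) :=
    (IsLocalizedModule.map q.primeCompl (LocalizedModule.mkLinearMap q.primeCompl N)
      (LocalizedModule.mkLinearMap q.primeCompl (N ⧸ K)) (Submodule.mkQ K)).restrictScalars R
  have hfg : Function.Exact f₀ g₀ := by
    intro x
    have := hex' x
    constructor
    · intro hx
      obtain ⟨w, hw⟩ := this.mp hx
      exact ⟨w, by rw [← hw, map_lsmul_apply]; rfl⟩
    · rintro ⟨w, hw⟩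
      apply this.mpr
      exact ⟨w, by rw [map_lsmul_apply]; exact hw⟩
  have hg : Function.Surjective g₀ :=
    IsLocalizedModule.map_surjective q.primeCompl _ _ _ (Submodule.mkQ_surjective K)
  have hinj := Groth.Agent.Lib.helper25.rTensor_injective_of_flat_coker f₀ g₀ hfg hg hsreg Q
  have key : ∀ w : LocalizedModule q.primeCompl N ⊗[R] Q, f₀.rTensor Q w = s • w := by
    intro w
    induction w using TensorProduct.induction_on with
    | zero => simp
    | tmul n q => rfl
    | add a b ha hb => rw [map_add, smul_add, ha, hb]
  apply hinj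
  rw [key, hz, map_zero]

end Smul

end Groth.Agent.Lib.helper26.FtReg
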