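/-
Helper library (helper26): fibrewise regular elements for finite modules over finite type algebras
(Raynaud–Gruson, finite type versions).
Part 2: change of rings for localizations along a surjection `P → B`.
-/
import Mathlib
import Groth.Agent.Lib.Helper26.FtReg1

set_option autoImplicit false
set_option linter.style.haveILetI false
set_option linter.unusedSectionVars false

namespace Groth.Agent.Lib.helper26.FtReg

open TensorProduct IsLocalRing
open scoped Pointwise

universe u

section ChangeRing

variable {P B : Type u} [CommRing P] [CommRing B] [Algebra P B]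
  (X : Type u) [AddCommGroup X] [Module B X] [Module P X] [IsScalarTower P B X]
  (q : Ideal B) [q.IsPrime]

instance towerPBLoc : IsScalarTower P B (LocalizedModule q.primeCompl X) :=
  IsScalarTower.of_algebraMap_smul fun c y => by
    induction y using LocalizedModule.induction_on with
    | h x t => rw [LocalizedModule.smul'_mk, LocalizedModule.smul'_mk, algebraMap_smul]

/-- the localization map of `X` at `q`, as a `P`-linear map -/
noncomputable def mkP : X →ₗ[P] LocalizedModule q.primeCompl X :=
  (LocalizedModule.mkLinearMap q.primeCompl X).restrictScalars P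

theorem mkP_apply (x : X) : mkP (P := P) X q x = LocalizedModule.mk x 1 := rfl

variable (hsurj : Function.Surjective (algebraMap P B))

include hsurj in
theorem isLocalizedModule_mkP :
    IsLocalizedModule (q.comap (algebraMap P B)).primeCompl (mkP (P := P) X q) := by
  refine ⟨?_, ?_, ?_⟩
  · rintro ⟨t, ht⟩
    have hb : algebraMap P B t ∈ q.primeCompl := ht
    have hu := IsLocalizedModule.map_units (LocalizedModule.mkLinearMap q.primeCompl X)
      ⟨algebraMap P B t, hb⟩
    rw [Module.End.isUnit_iff] at hu ⊢
    have hfun : ⇑((algebraMap P (Module.End P (LocalizedModule q.primeCompl X))) t) =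
        ⇑((algebraMap B (Module.End B (LocalizedModule q.primeCompl X))) (algebraMap P B t)) := by
      funext y
      show t • y = algebraMap P B t • y
      rw [algebraMap_smul]
    rw [hfun]
    exact hu
  · intro y
    obtain ⟨⟨x, ⟨b, hb⟩⟩, hxy⟩ := IsLocalizedModule.surj q.primeCompl
      (LocalizedModule.mkLinearMap q.primeCompl X) y
    obtain ⟨t, rfl⟩ := hsurj b
    refine ⟨⟨x, ⟨t, hb⟩⟩, ?_⟩
    show t • y = _
    rw [← algebraMap_smul B t y]
    exact hxy
  · intro x₁ x₂ h
    obtain ⟨⟨b, hb⟩, hbx⟩ := IsLocalizedModule.exists_of_eq (S := q.primeCompl)
      (f := LocalizedModule.mkLinearMap q.primeCompl X) h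
    obtain ⟨t, rfl⟩ := hsurj b
    refine ⟨⟨t, hb⟩, ?_⟩
    show t • x₁ = t • x₂
    rw [← algebraMap_smul B t x₁, ← algebraMap_smul B t x₂]
    exact hbx

/-- the localization of `X` at the contraction of `q` as a `P`-module is the localization at `q` -/
noncomputable def locEquiv :
    LocalizedModule (q.comap (algebraMap P B)).primeCompl X ≃ₗ[P] LocalizedModule q.primeCompl X :=
  haveI := isLocalizedModule_mkP X q hsurj
  IsLocalizedModule.iso (q.comap (algebraMap P B)).primeCompl (mkP (P := P) X q)

include hsurj in
/-- regularity on the two localizations -/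
theorem isSMulRegular_loc_iff (s : P) :
    IsSMulRegular (LocalizedModule (q.comap (algebraMap P B)).primeCompl X) s ↔
      IsSMulRegular (LocalizedModule q.primeCompl X) (algebraMap P B s) := by
  let e := locEquiv X q hsurj
  constructor
  · intro h a b hab
    apply e.symm.injective
    apply h
    show s • e.symm a = s • e.symm b
    rw [← map_smul, ← map_smul, ← algebraMap_smul B s a, ← algebraMap_smul B s b]
    exact congrArg e.symm hab
  · intro h a b hab
    apply e.injective
    apply h
    show algebraMap P B s • e a = algebraMap P B s • e b
    rw [algebraMap_smul, algebraMap_smul, ← map_smul, ← map_smul]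
    exact congrArg e hab

end ChangeRing

end Groth.Agent.Lib.helper26.FtReg
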