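/-
Helper library (helper26): projectivity after étale localisation (Raynaud–Gruson), part 1.
* `flat_of_isBaseChange` : a flat base change of an `R`-flat module stays `R`-flat.
* `exists_flat_away` : for `S` and `N` finitely presented, flatness at `q` spreads to a basic open.
* `ProjConcl` : the conclusion "there are elementary étale neighbourhoods with `S' ⊗ N`
  projective over `R'`".
* `projConcl_of_annihilator` : the case where `N` vanishes near `q`.
* `projConcl_trans` : the conclusion passes down along elementary étale neighbourhoods.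
-/
import Mathlib
import Groth.Agent.S0387
import Groth.Agent.Lib.Helper26.DevMain7
import Groth.Agent.Lib.Helper3.FlatAtLib2

set_option autoImplicit false
set_option linter.style.haveILetI false
set_option linter.unusedSectionVars false

namespace Groth.Agent.Lib.helper26.RGProj

open TensorProduct

universe u

/-- a flat base change of an `R`-flat module is `R`-flat (tensor product model) -/
theorem flat_tensor {R S S₁ : Type u} [CommRing R] [CommRing S] [CommRing S₁] [Algebra R S]
    [Algebra S S₁] [Algebra R S₁] [IsScalarTower R S S₁] [Module.Flat S S₁]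
    (N : Type u) [AddCommGroup N] [Module S N] [Module R N] [IsScalarTower R S N]
    [Module.Flat R N] : Module.Flat R (S₁ ⊗[S] N) := by
  rw [Module.Flat.iff_lTensor_preserves_injective_linearMap]
  intro P Q _ _ _ _ u hu
  let aP := AlgebraTensorModule.assoc R S S₁ S₁ N P
  let aQ := AlgebraTensorModule.assoc R S S₁ S₁ N Q
  let u' : N ⊗[R] P →ₗ[S] N ⊗[R] Q := AlgebraTensorModule.lTensor S N u
  have hu' : Function.Injective u' :=
    Module.Flat.lTensor_preserves_injective_linearMap (M := N) u hu
  have hu'' : Function.Injective (u'.lTensor S₁) :=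
    Module.Flat.lTensor_preserves_injective_linearMap (M := S₁) u' hu'
  have hcomm : ∀ x, aQ (u.lTensor (S₁ ⊗[S] N) x) = (u'.lTensor S₁) (aP x) := by
    intro x
    induction x using TensorProduct.induction_on with
    | zero => simp
    | tmul y p =>
      induction y using TensorProduct.induction_on with
      | zero => simp
      | tmul s n => rfl
      | add a b ha hb =>
        simp only [TensorProduct.add_tmul, map_add] at ha hb ⊢
        rw [ha, hb]
    | add a b ha hb =>
      simp only [map_add] at ha hb ⊢
      rw [ha, hb]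
  intro x y hxy
  have h1 : (u'.lTensor S₁) (aP x) = (u'.lTensor S₁) (aP y) := by
    rw [← hcomm, ← hcomm, hxy]
  exact aP.injective (hu'' h1)

/-- a flat base change of an `R`-flat module is `R`-flat -/
theorem flat_of_isBaseChange {R S S₁ : Type u} [CommRing R] [CommRing S] [CommRing S₁]
    [Algebra R S] [Algebra S S₁] [Algebra R S₁] [IsScalarTower R S S₁] [Module.Flat S S₁]
    (N : Type u) [AddCommGroup N] [Module S N] [Module R N] [IsScalarTower R S N]
    [Module.Flat R N]
    (X : Type u) [AddCommGroup X] [Module S₁ X] [Module S X] [IsScalarTower S S₁ X] [Module R X]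
    [IsScalarTower R S₁ X] (h : N →ₗ[S] X) (hh : IsBaseChange S₁ h) : Module.Flat R X := by
  haveI := flat_tensor (R := R) (S := S) (S₁ := S₁) N
  exact Module.Flat.of_linearEquiv (hh.equiv.symm.restrictScalars R)

/-- for finitely presented data, flatness at a prime spreads out to a basic open neighbourhood -/
theorem exists_flat_away {R S : Type u} [CommRing R] [CommRing S] [Algebra R S]
    [Algebra.FinitePresentation R S]
    (N : Type u) [AddCommGroup N] [Module S N] [Module R N] [IsScalarTower R S N]
    [Module.FinitePresentation S N]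
    (q : Ideal S) [q.IsPrime] (hflat : FlatCA.FlatAt R q N) :
    ∃ g : S, g ∉ q ∧ Module.Flat R (LocalizedModule (Submonoid.powers g) N) := by
  have hopen := Groth.Agent.S0387.result (R := R) (S := S) (M := N)
  have hq : (⟨q, inferInstance⟩ : PrimeSpectrum S) ∈
      {q : PrimeSpectrum S | Module.Flat R (LocalizedModule q.asIdeal.primeCompl N)} := hflat
  obtain ⟨_, ⟨g, rfl⟩, hqg, hsub⟩ :=
    PrimeSpectrum.isTopologicalBasis_basic_opens.exists_subset_of_mem_open hq hopen
  refine ⟨g, hqg, ?_⟩
  rw [Groth.Agent.Lib.helper3.FlatAtLib.flat_away_iff]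
  intro P hP hgP
  exact hsub (show (⟨P, hP⟩ : PrimeSpectrum S) ∈ (PrimeSpectrum.basicOpen g : Set _) from hgP)

/-- The conclusion: there are elementary étale neighbourhoods `(R', p')` of `(R, p)` and
`(S', q')` of `(S, q)`, compatible, such that `S' ⊗_S N` is projective over `R'`. -/
def ProjConcl (R S : Type u) [CommRing R] [CommRing S] [Algebra R S] (N : Type u)
    [AddCommGroup N] [Module S N] (p : Ideal R) [p.IsPrime] (q : Ideal S) [q.IsPrime] : Prop :=
  ∃ (R' S' : Type u) (_ : CommRing R') (_ : CommRing S') (_ : Algebra R R') (_ : Algebra S S')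
    (_ : Algebra R' S') (_ : Algebra R S') (_ : IsScalarTower R R' S') (_ : IsScalarTower R S S')
    (p' : Ideal R') (q' : Ideal S') (_ : p'.IsPrime) (_ : q'.IsPrime),
    FlatCA.IsEtaleNhd R R' p p' ∧ FlatCA.IsEtaleNhd S S' q q' ∧ q'.LiesOver p' ∧
    Module.Projective R' (RestrictScalars R' S' (S' ⊗[S] N))

/-- the case where the module vanishes near `q` -/
theorem projConcl_of_annihilator {R S : Type u} [CommRing R] [CommRing S] [Algebra R S]
    (N : Type u) [AddCommGroup N] [Module S N]
    (p : Ideal R) [p.IsPrime] (q : Ideal S) [q.IsPrime] [q.LiesOver p]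
    (g : S) (hgann : g ∈ Module.annihilator S N) (hgq : g ∉ q) : ProjConcl R S N p q := by
  haveI hq'prime : (q.map (algebraMap S (Localization.Away g))).IsPrime :=
    Groth.Agent.Lib.helper3.Shrink.isPrime_map_away g (Localization.Away g) q hgq
  haveI hq'q : (q.map (algebraMap S (Localization.Away g))).LiesOver q :=
    ⟨(Groth.Agent.Lib.helper3.Shrink.under_map_away g (Localization.Away g) q hgq).symm⟩
  haveI hq'p : (q.map (algebraMap S (Localization.Away g))).LiesOver p :=
    Ideal.LiesOver.trans _ q p
  haveI : IsLocalization.Away (1 : R) R :=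
    IsLocalization.away_of_isUnit_of_bijective R isUnit_one Function.bijective_id
  haveI hpp : p.LiesOver p := ⟨rfl⟩
  refine ⟨R, Localization.Away g, inferInstance, inferInstance, inferInstance, inferInstance,
    inferInstance, inferInstance, inferInstance, inferInstance, p,
    q.map (algebraMap S (Localization.Away g)), inferInstance, inferInstance,
    Groth.Agent.Lib.helper26.DevMain.isEtaleNhd_away (1 : R) R p p,
    Groth.Agent.Lib.helper26.DevMain.isEtaleNhd_away g (Localization.Away g) q _, hq'p, ?_⟩
  have hunit : IsUnit (algebraMap S (Localization.Away g) g) :=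
    IsLocalization.Away.algebraMap_isUnit g
  haveI hsub : Subsingleton (Localization.Away g ⊗[S] N) := by
    refine subsingleton_of_forall_eq 0 fun x => ?_
    induction x using TensorProduct.induction_on with
    | zero => rfl
    | tmul s n =>
      obtain ⟨v, hv⟩ := hunit
      have h1 : g • n = 0 := Module.mem_annihilator.mp hgann n
      have h2 : s = (s * ↑v⁻¹) * algebraMap S (Localization.Away g) g := by
        rw [← hv, mul_assoc, Units.inv_mul, mul_one]
      have h3 : (s * ↑v⁻¹ * algebraMap S (Localization.Away g) g) = g • (s * ↑v⁻¹) := by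
        rw [Algebra.smul_def, mul_comm]
      rw [h2, h3, TensorProduct.smul_tmul, h1, TensorProduct.tmul_zero]
    | add a b ha hb => rw [ha, hb, add_zero]
  haveI : Subsingleton (RestrictScalars R (Localization.Away g) (Localization.Away g ⊗[S] N)) :=
    hsub
  infer_instance

attribute [local instance] RestrictScalars.moduleOrig in
/-- the conclusion passes down along elementary étale neighbourhoods -/
theorem projConcl_trans {R S R₁ S₁ : Type u} [CommRing R] [CommRing S] [CommRing R₁]
    [CommRing S₁] [Algebra R S] [Algebra R R₁] [Algebra S S₁] [Algebra R₁ S₁] [Algebra R S₁]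
    [IsScalarTower R R₁ S₁] [IsScalarTower R S S₁]
    (N : Type u) [AddCommGroup N] [Module S N]
    (N₁ : Type u) [AddCommGroup N₁] [Module S₁ N₁] [Module S N₁] [IsScalarTower S S₁ N₁]
    (h : N →ₗ[S] N₁) (hh : IsBaseChange S₁ h)
    (p : Ideal R) [p.IsPrime] (q : Ideal S) [q.IsPrime]
    (p₁ : Ideal R₁) [p₁.IsPrime] (q₁ : Ideal S₁) [q₁.IsPrime]
    (hEtR : FlatCA.IsEtaleNhd R R₁ p p₁) (hEtS : FlatCA.IsEtaleNhd S S₁ q q₁)
    (H : ProjConcl R₁ S₁ N₁ p₁ q₁) : ProjConcl R S N p q := by
  obtain ⟨R', S', _, _, algR₁R', algS₁S', algR'S', algR₁S', twR₁R'S', twR₁S₁S', p', q', hp', hq',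
    hEtR', hEtS', hq'p', hproj⟩ := H
  letI algRR' : Algebra R R' := ((algebraMap R₁ R').comp (algebraMap R R₁)).toAlgebra
  haveI twRR₁R' : IsScalarTower R R₁ R' := IsScalarTower.of_algebraMap_eq fun _ => rfl
  letI algSS' : Algebra S S' := ((algebraMap S₁ S').comp (algebraMap S S₁)).toAlgebra
  haveI twSS₁S' : IsScalarTower S S₁ S' := IsScalarTower.of_algebraMap_eq fun _ => rfl
  letI algRS' : Algebra R S' := ((algebraMap R₁ S').comp (algebraMap R R₁)).toAlgebra
  haveI twRR₁S' : IsScalarTower R R₁ S' := IsScalarTower.of_algebraMap_eq fun _ => rfl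
  haveI twRR'S' : IsScalarTower R R' S' := IsScalarTower.of_algebraMap_eq fun r => by
    show algebraMap R₁ S' (algebraMap R R₁ r) =
      algebraMap R' S' (algebraMap R₁ R' (algebraMap R R₁ r))
    rw [← IsScalarTower.algebraMap_apply R₁ R' S']
  haveI twRSS' : IsScalarTower R S S' := IsScalarTower.of_algebraMap_eq fun r => by
    show algebraMap R₁ S' (algebraMap R R₁ r) =
      algebraMap S₁ S' (algebraMap S S₁ (algebraMap R S r))
    rw [← IsScalarTower.algebraMap_apply R S S₁, IsScalarTower.algebraMap_apply R R₁ S₁,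
      ← IsScalarTower.algebraMap_apply R₁ S₁ S']
  refine ⟨R', S', inferInstance, inferInstance, algRR', algSS', algR'S', algRS', twRR'S', twRSS',
    p', q', hp', hq',
    Groth.Agent.Lib.helper26.DevMain.isEtaleNhd_trans p p₁ p' hEtR hEtR',
    Groth.Agent.Lib.helper26.DevMain.isEtaleNhd_trans q q₁ q' hEtS hEtS', hq'p', ?_⟩
  let e : S' ⊗[S₁] N₁ ≃ₗ[S'] S' ⊗[S] N :=
    (AlgebraTensorModule.congr (LinearEquiv.refl S' S') hh.equiv.symm) ≪≫ₗ
      AlgebraTensorModule.cancelBaseChange S S₁ S' S' N
  let e' : RestrictScalars R' S' (S' ⊗[S₁] N₁) ≃ₗ[R'] RestrictScalars R' S' (S' ⊗[S] N) :=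
    LinearEquiv.restrictScalars R'
      (e : RestrictScalars R' S' (S' ⊗[S₁] N₁) ≃ₗ[S'] RestrictScalars R' S' (S' ⊗[S] N))
  haveI := hproj
  exact Module.Projective.of_equiv e'

end Groth.Agent.Lib.helper26.RGProj
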