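/-
Helper library (helper26): openness of the flat locus over a base with finitely many weakly
associated primes (Raynaud–Gruson).
Part 1: general lemmas: finitely presented covers of a finite module which are isomorphisms at
a prime; localizing a surjection with locally trivial kernel; prime avoidance.
-/
import Mathlib
import Groth.Prelude.Def_FlatCA
import Groth.Agent.Lib.Helper3.UnivInjGlobal1

set_option autoImplicit false
set_option linter.style.haveILetI false
set_option linter.unusedSectionVars false

namespace Groth.Agent.Lib.helper26.WeakAssFin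

open TensorProduct IsLocalRing FlatCA

universe u

section FgKer

variable {A M : Type*} [CommRing A] [AddCommGroup M] [Module A M]
  {r : ℕ} (π : (Fin r → A) →ₗ[A] M)

/-- finite presentation of the localization of `M` at `T` gives a finitely generated
`K' ⊆ ker π` agreeing with `ker π` after localization at `T` (after helper3's
`FpLocal.exists_fg_le_ker_of_fp_localized`). -/
theorem exists_fg_le_ker_of_fp_localized' (hπ : Function.Surjective π) (T : Submonoid A)
    (h : Module.FinitePresentation (Localization T) (LocalizedModule T M)) :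
    ∃ K' : Submodule A (Fin r → A), K' ≤ LinearMap.ker π ∧ K'.FG ∧
      ∀ z ∈ LinearMap.ker π, ∃ t ∈ T, t • z ∈ K' := by
  classical
  set f := LocalizedModule.mkLinearMap T (Fin r → A) with hf
  set f' := LocalizedModule.mkLinearMap T M with hf'
  let πT : LocalizedModule T (Fin r → A) →ₗ[Localization T] LocalizedModule T M :=
    (IsLocalizedModule.map T f f' π).extendScalarsOfIsLocalization T (Localization T)
  have hsurj : Function.Surjective πT := IsLocalizedModule.map_surjective T f f' π hπ
  have hker : (LinearMap.ker πT).FG := Module.FinitePresentation.fg_ker πT hsurj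
  have hkeq : (LinearMap.ker π).localized' (Localization T) T f = LinearMap.ker πT :=
    LinearMap.localized'_ker_eq_ker_localizedMap (Localization T) T f f' π
  obtain ⟨G, hG⟩ := hker
  have hGmem : ∀ g ∈ G, ∃ m ∈ LinearMap.ker π, ∃ v : T, IsLocalizedModule.mk' f m v = g := by
    intro g hg
    have : g ∈ LinearMap.ker πT := hG ▸ Submodule.subset_span hg
    rw [← hkeq] at this
    exact this
  choose! m hm v hv using hGmem
  refine ⟨Submodule.span A (m '' (G : Set _)), ?_, ?_, ?_⟩
  · rw [Submodule.span_le]
    rintro _ ⟨g, hg, rfl⟩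
    exact hm g hg
  · exact Submodule.fg_span (G.finite_toSet.image m)
  · intro z hz
    have h1 : f z ∈ (Submodule.span A (m '' (G : Set _))).localized' (Localization T) T f := by
      have h2 : f z ∈ LinearMap.ker πT := by
        rw [← hkeq]
        exact ⟨z, hz, 1, by simp⟩
      rw [← hG] at h2
      refine (Submodule.span_le.mpr ?_) h2
      intro g hg
      exact ⟨m g, Submodule.subset_span ⟨g, hg, rfl⟩, v g, hv g hg⟩
    obtain ⟨k, hk, w, hkw⟩ := h1
    rw [IsLocalizedModule.mk'_eq_iff, Submonoid.smul_def, ← map_smul] at hkw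
    obtain ⟨c, hc⟩ := IsLocalizedModule.exists_of_eq (S := T) hkw
    refine ⟨((c * w : T) : A), (c * w).2, ?_⟩
    rw [Submonoid.coe_mul, mul_smul]
    have : (c : A) • (w : A) • z = (c : A) • k := hc.symm
    rw [this]
    exact Submodule.smul_mem _ _ hk

end FgKer

section Cover

variable {S : Type u} [CommRing S] (N : Type u) [AddCommGroup N] [Module S N] [Module.Finite S N]

/-- a finite module whose localization at `T` is finitely presented is the quotient of a
finitely presented module by a submodule which vanishes after localization at `T`. -/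
theorem exists_fp_cover (T : Submonoid S)
    (h : Module.FinitePresentation (Localization T) (LocalizedModule T N)) :
    ∃ (r : ℕ) (K' : Submodule S (Fin r → S)) (π : ((Fin r → S) ⧸ K') →ₗ[S] N), K'.FG ∧
      Function.Surjective π ∧ ∀ x ∈ LinearMap.ker π, ∃ t ∈ T, t • x = 0 := by
  obtain ⟨r, ψ, hψ⟩ := Module.Finite.exists_fin' S N
  obtain ⟨K', hK'le, hK'fg, hK'⟩ := exists_fg_le_ker_of_fp_localized' ψ hψ T h
  refine ⟨r, K', K'.liftQ ψ hK'le, hK'fg, ?_, ?_⟩
  · intro y
    obtain ⟨z, hz⟩ := hψ y
    exact ⟨K'.mkQ z, by rw [Submodule.mkQ_apply, Submodule.liftQ_apply, hz]⟩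
  · intro x hx
    obtain ⟨z, rfl⟩ := K'.mkQ_surjective x
    rw [LinearMap.mem_ker, Submodule.mkQ_apply, Submodule.liftQ_apply] at hx
    obtain ⟨t, ht, htz⟩ := hK' z hx
    refine ⟨t, ht, ?_⟩
    rw [← map_smul, Submodule.mkQ_apply, Submodule.Quotient.mk_eq_zero]
    exact htz

end Cover

section LocIso

variable {S : Type u} [CommRing S] {F N : Type u} [AddCommGroup F] [Module S F] [AddCommGroup N]
  [Module S N] (T : Submonoid S) (π : F →ₗ[S] N)

/-- a surjection whose kernel is killed elementwise by `T` becomes bijective after localization at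
`T`. -/
theorem bijective_map_of_ker (hπ : Function.Surjective π)
    (hker : ∀ x ∈ LinearMap.ker π, ∃ t ∈ T, t • x = 0) :
    Function.Bijective (IsLocalizedModule.map T (LocalizedModule.mkLinearMap T F)
      (LocalizedModule.mkLinearMap T N) π) := by
  refine ⟨?_, IsLocalizedModule.map_surjective T _ _ π hπ⟩
  rw [injective_iff_map_eq_zero]
  intro z hz
  induction z using LocalizedModule.induction_on with
  | h x t =>
    rw [IsLocalizedModule.map_LocalizedModules,
      Groth.Agent.Lib.helper3.UnivInjGlobal.mk_eq_zero_iff] at hz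
    obtain ⟨u, hu⟩ := hz
    rw [Submonoid.smul_def, ← map_smul] at hu
    obtain ⟨t', ht', h0⟩ := hker _ hu
    rw [Groth.Agent.Lib.helper3.UnivInjGlobal.mk_eq_zero_iff]
    refine ⟨⟨t', ht'⟩ * u, ?_⟩
    rw [Submonoid.smul_def, Submonoid.coe_mul, mul_smul]
    exact h0

end LocIso

section Avoid

variable {S : Type u} [CommRing S]

/-- prime avoidance: an element outside `q` lying in all primes of a finite set which are not
contained in `q`. -/
theorem exists_notMem_forall_mem (Φ : Set (Ideal S)) (hΦ : Φ.Finite) (q : Ideal S) [hq : q.IsPrime] :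
    ∃ h : S, h ∉ q ∧ ∀ q₁ ∈ Φ, ¬ q₁ ≤ q → h ∈ q₁ := by
  classical
  induction Φ, hΦ using Set.Finite.induction_on with
  | empty => exact ⟨1, fun h => hq.ne_top ((Ideal.eq_top_iff_one q).2 h), fun _ h => absurd h (by simp)⟩
  | @insert a Φ' haΦ hfin ih =>
    obtain ⟨h, hhq, hh⟩ := ih
    by_cases hle : a ≤ q
    · refine ⟨h, hhq, ?_⟩
      intro q₁ hq₁ hnle
      rcases Set.mem_insert_iff.1 hq₁ with rfl | hq₁
      · exact absurd hle hnle
      · exact hh q₁ hq₁ hnle
    · obtain ⟨b, hba, hbq⟩ := Set.not_subset.1 hle
      refine ⟨h * b, fun hm => (hq.mem_or_mem hm).elim hhq hbq, ?_⟩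
      intro q₁ hq₁ hnle
      rcases Set.mem_insert_iff.1 hq₁ with rfl | hq₁
      · exact Ideal.mul_mem_left _ _ hba
      · exact Ideal.mul_mem_right _ _ (hh q₁ hq₁ hnle)

end Avoid

end Groth.Agent.Lib.helper26.WeakAssFin
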