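/-
Helper library (helper26): fibrewise regular elements for finite modules over finite type algebras
(Raynaud–Gruson, finite type versions).
Part 3: a fibrewise regular element at a point of flatness is universally regular (finite type
algebras, finite modules).
-/
import Mathlib
import Groth.Agent.Lib.Helper26.FtReg2
import Groth.Agent.S1208

set_option autoImplicit false
set_option linter.style.haveILetI false
set_option linter.unusedSectionVars false

namespace Groth.Agent.Lib.helper26.FtReg

open TensorProduct IsLocalRing
open scoped Pointwise

universe u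

section Smul

variable {R S : Type u} [CommRing R] [CommRing S] [Algebra R S]
  (N : Type u) [AddCommGroup N] [Module S N] [Module R N] [IsScalarTower R S N]
  (q : Ideal S) [q.IsPrime]

/-- `smul_eq_zero_localized_tensor'` with the residue field of a prime given up to equality -/
theorem smul_eq_zero_localized_tensor'' [Algebra.FinitePresentation R S]
    [Module.FinitePresentation (Localization.AtPrime q) (LocalizedModule q.primeCompl N)]
    (hflat : Module.Flat R (LocalizedModule q.primeCompl N))
    (p : Ideal R) [p.IsPrime] (hp : q.comap (algebraMap R S) = p)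
    (s : S) (hs : IsSMulRegular (LocalizedModule q.primeCompl (N ⊗[R] p.ResidueField)) s)
    (Q : Type u) [AddCommGroup Q] [Module R Q]
    (z : LocalizedModule q.primeCompl N ⊗[R] Q) (hz : s • z = 0) : z = 0 := by
  subst hp
  exact smul_eq_zero_localized_tensor' N q hflat s hs Q z hz

set_option maxHeartbeats 1600000 in
/-- finite type version: a fibrewise regular element at a point of flatness is universally
regular on the localization -/
theorem smul_eq_zero_localized_tensor_ft [Algebra.FiniteType R S] [Module.Finite S N]
    (hflat : Module.Flat R (LocalizedModule q.primeCompl N))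
    (s : S) (hs : IsSMulRegular
      (LocalizedModule q.primeCompl (N ⊗[R] (q.comap (algebraMap R S)).ResidueField)) s)
    (Q : Type u) [AddCommGroup Q] [Module R Q]
    (z : LocalizedModule q.primeCompl N ⊗[R] Q) (hz : s • z = 0) : z = 0 := by
  obtain ⟨n, f, hf⟩ := Algebra.FiniteType.iff_quotient_mvPolynomial''.mp
    (inferInstance : Algebra.FiniteType R S)
  letI algPS : Algebra (MvPolynomial (Fin n) R) S := f.toRingHom.toAlgebra
  haveI twRPS : IsScalarTower R (MvPolynomial (Fin n) R) S :=
    IsScalarTower.of_algebraMap_eq fun r => (f.commutes r).symm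
  have hsurj : Function.Surjective (algebraMap (MvPolynomial (Fin n) R) S) := hf
  letI modPN : Module (MvPolynomial (Fin n) R) N := Module.compHom N f.toRingHom
  haveI twPSN : IsScalarTower (MvPolynomial (Fin n) R) S N :=
    IsScalarTower.of_algebraMap_smul fun _ _ => rfl
  haveI twRPN : IsScalarTower R (MvPolynomial (Fin n) R) N :=
    IsScalarTower.of_algebraMap_smul fun r x => by
      rw [← algebraMap_smul S (algebraMap R (MvPolynomial (Fin n) R) r) x,
        ← IsScalarTower.algebraMap_apply R (MvPolynomial (Fin n) R) S, algebraMap_smul]
  haveI : Module.Finite (MvPolynomial (Fin n) R) S :=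
    Module.Finite.of_surjective (Algebra.linearMap (MvPolynomial (Fin n) R) S) hsurj
  haveI : Module.Finite (MvPolynomial (Fin n) R) N := Module.Finite.trans S N
  -- the point of `P`
  haveI hqPprime : (q.comap (algebraMap (MvPolynomial (Fin n) R) S)).IsPrime :=
    Ideal.comap_isPrime _ _
  -- the comparison of localizations
  let e := locEquiv (P := MvPolynomial (Fin n) R) N q hsurj
  haveI twRPloc : IsScalarTower R (MvPolynomial (Fin n) R) (LocalizedModule q.primeCompl N) :=
    IsScalarTower.of_algebraMap_smul fun r y => by
      induction y using LocalizedModule.induction_on with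
      | h x t => rw [LocalizedModule.smul'_mk, LocalizedModule.smul'_mk, algebraMap_smul]
  haveI twRPlocP : IsScalarTower R (MvPolynomial (Fin n) R)
      (LocalizedModule (q.comap (algebraMap (MvPolynomial (Fin n) R) S)).primeCompl N) :=
    IsScalarTower.of_algebraMap_smul fun r y => by
      induction y using LocalizedModule.induction_on with
      | h x t => rw [LocalizedModule.smul'_mk, LocalizedModule.smul'_mk, algebraMap_smul]
  let eR : LocalizedModule (q.comap (algebraMap (MvPolynomial (Fin n) R) S)).primeCompl N ≃ₗ[R]
      LocalizedModule q.primeCompl N := e.restrictScalars R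
  have hflatP : Module.Flat R
      (LocalizedModule (q.comap (algebraMap (MvPolynomial (Fin n) R) S)).primeCompl N) :=
    Module.Flat.of_linearEquiv eR
  haveI hfpP : Module.FinitePresentation
      (Localization.AtPrime (q.comap (algebraMap (MvPolynomial (Fin n) R) S)))
      (LocalizedModule (q.comap (algebraMap (MvPolynomial (Fin n) R) S)).primeCompl N) :=
    Groth.Agent.S1208.result (R := R) (S := MvPolynomial (Fin n) R) N
      (q.comap (algebraMap (MvPolynomial (Fin n) R) S)) hflatP
  have hp : (q.comap (algebraMap (MvPolynomial (Fin n) R) S)).comap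
      (algebraMap R (MvPolynomial (Fin n) R)) = q.comap (algebraMap R S) := by
    rw [Ideal.comap_comap, ← IsScalarTower.algebraMap_eq]
  -- the element
  obtain ⟨s', rfl⟩ := hsurj s
  have hsP : IsSMulRegular
      (LocalizedModule (q.comap (algebraMap (MvPolynomial (Fin n) R) S)).primeCompl
        (N ⊗[R] (q.comap (algebraMap R S)).ResidueField)) s' :=
    (isSMulRegular_loc_iff (P := MvPolynomial (Fin n) R)
      (N ⊗[R] (q.comap (algebraMap R S)).ResidueField) q hsurj s').mpr hs
  -- transport `z`
  let E : LocalizedModule q.primeCompl N ⊗[R] Q ≃ₗ[R]
      LocalizedModule (q.comap (algebraMap (MvPolynomial (Fin n) R) S)).primeCompl N ⊗[R] Q :=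
    TensorProduct.congr eR.symm (LinearEquiv.refl R Q)
  have hE : ∀ w : LocalizedModule q.primeCompl N ⊗[R] Q,
      E (algebraMap (MvPolynomial (Fin n) R) S s' • w) = s' • E w := by
    intro w
    induction w using TensorProduct.induction_on with
    | zero => simp
    | tmul y x =>
      rw [TensorProduct.smul_tmul']
      show (eR.symm (algebraMap (MvPolynomial (Fin n) R) S s' • y)) ⊗ₜ[R] x =
        s' • ((eR.symm y) ⊗ₜ[R] x)
      rw [TensorProduct.smul_tmul', algebraMap_smul]
      congr 1
      exact map_smul e.symm s' y
    | add a b ha hb => rw [smul_add, map_add, ha, hb, map_add, smul_add]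
  have hz' : s' • E z = 0 := by rw [← hE, hz, map_zero]
  have := smul_eq_zero_localized_tensor'' N (q.comap (algebraMap (MvPolynomial (Fin n) R) S))
    hflatP (q.comap (algebraMap R S)) hp s' hsP Q (E z) hz'
  exact E.injective (this.trans (map_zero E).symm)

end Smul

end Groth.Agent.Lib.helper26.FtReg
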