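import Mathlib
import Groth.Agent.Lib.Helper26.Purity1

/-!
# Purity: flat algebras with geometrically integral fibres are universally pure (helper26)
-/

set_option autoImplicit false
set_option linter.style.haveILetI false
universe u

namespace Groth.Agent.Lib.helper26.Purity

open TensorProduct FlatCA CategoryTheory CategoryTheory.Limits AlgebraicGeometry

section GeomInt

variable {A B : Type u} [CommRing A] [CommRing B] [Algebra A B]

/-- geometrically integral fibres, in ring form. -/
theorem isDomain_tensor_of_geomIntegralFibres (h : GeomIntegralFibres A B) (K : Type u) [Field K]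
    [Algebra A K] : IsDomain (B ⊗[A] K) := by
  have h1 : AlgebraicGeometry.IsIntegral
      (pullback (Spec.map (CommRingCat.ofHom (algebraMap A B)))
        (Spec.map (CommRingCat.ofHom (algebraMap A K)))) :=
    pullback_of_geometrically h.geometrically_isIntegral K _
  have h2 := IsIntegral.of_isIso (pullbackSpecIso A B K).hom
  exact (affine_isIntegral_iff _).1 h2

variable {A' B' : Type u} [CommRing A'] [CommRing B'] [Algebra A A'] [Algebra B B'] [Algebra A' B']
  [Algebra A B'] [IsScalarTower A B B'] [IsScalarTower A A' B']

/-- the fibre rings of a base change of an algebra with geometrically integral fibres are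
domains. -/
theorem isDomain_fiber_of_geomIntegralFibres (h : GeomIntegralFibres A B)
    (hpush : Algebra.IsPushout A B A' B') (t' : Ideal A') [t'.IsPrime] :
    IsDomain (t'.Fiber B') := by
  letI : Algebra A t'.ResidueField :=
    ((algebraMap A' t'.ResidueField).comp (algebraMap A A')).toAlgebra
  haveI : IsScalarTower A A' t'.ResidueField := IsScalarTower.of_algebraMap_eq (fun _ => rfl)
  haveI := isDomain_tensor_of_geomIntegralFibres h t'.ResidueField
  let e := Algebra.IsPushout.cancelBaseChangeAlg A B A' B' t'.ResidueField
  let e' := Algebra.TensorProduct.comm A' t'.ResidueField B'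
  exact (e'.toRingEquiv.trans e.toRingEquiv).toMulEquiv.isDomain _

end GeomInt

section Ass

attribute [local instance] Algebra.TensorProduct.rightAlgebra

/-- the only associated prime of a domain (as a module over itself) is `⊥`. -/
theorem eq_bot_of_mem_associatedPrimes_self {F : Type u} [CommRing F] [IsDomain F] (I : Ideal F)
    (hI : I ∈ associatedPrimes F F) : I = ⊥ := by
  obtain ⟨hprime, x, hx⟩ := hI
  by_cases h0 : x = 0
  · exfalso
    apply hprime.ne_top
    rw [hx, Ideal.radical_eq_top]
    ext r
    simp [Submodule.mem_colon_singleton, h0]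
  · have h1 : (⊥ : Submodule F F).colon {x} = ⊥ := by
      ext r
      rw [Submodule.mem_colon_singleton, Submodule.mem_bot, Submodule.mem_bot, smul_eq_mul,
        mul_eq_zero]
      exact ⟨fun h => h.resolve_right h0, fun h => Or.inl h⟩
    rw [hx, h1, Ideal.radical_bot_of_isReduced]

variable {R : Type u} [CommRing R] (p : Ideal R) [p.IsPrime] {S : Type u} [CommRing S]
  [Algebra R S]

/-- if `N ≅ S` and the fibre ring over `p` is a domain, the only associated prime of the fibre
module is `⊥`. -/
theorem eq_bot_of_mem_associatedPrimes_fiberMod (N : Type u) [AddCommGroup N] [Module S N]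
    [Module R N] [IsScalarTower R S N] [IsDomain (p.Fiber S)] (e : N ≃ₗ[S] S)
    (I : Ideal (p.Fiber S)) (hI : I ∈ associatedPrimes (p.Fiber S) (fiberMod p S N)) : I = ⊥ := by
  let ψ : ((p.Fiber S) ⊗[S] N) ≃ₗ[p.Fiber S] (p.Fiber S) :=
    (TensorProduct.AlgebraTensorModule.congr (LinearEquiv.refl (p.Fiber S) (p.Fiber S)) e).trans
      (TensorProduct.AlgebraTensorModule.rid S (p.Fiber S) (p.Fiber S))
  have h1 : associatedPrimes (p.Fiber S) (fiberMod p S N) =
      associatedPrimes (p.Fiber S) (p.Fiber S) := LinearEquiv.AssociatedPrimes.eq ψ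
  rw [h1] at hI
  exact eq_bot_of_mem_associatedPrimes_self I hI

end Ass

section Main

variable {A B : Type u} [CommRing A] [CommRing B] [Algebra A B]

/-- a flat algebra with geometrically integral fibres is universally pure (going-down). -/
theorem isUnivPure_of_flat_geomIntegralFibres [Module.Flat A B] (h : GeomIntegralFibres A B) :
    IsUnivPure A B B := by
  intro p _ A' B' N' _ _ _ _ _ _ _ _ _ _ _ _ _ _ f t' t _ _ P _ himp
  obtain ⟨hpush, hbc, hle, htp, hPt', hass, hno⟩ := himp
  haveI := isDomain_fiber_of_geomIntegralFibres h hpush t'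
  haveI := isDomain_fiber_of_geomIntegralFibres h hpush t
  let e : N' ≃ₗ[B'] B' := hbc.equiv.symm.trans (TensorProduct.AlgebraTensorModule.rid B B' B')
  have hbot := eq_bot_of_mem_associatedPrimes_fiberMod t' N' e _ hass
  have hP : P = (⊥ : Ideal (t'.Fiber B')).comap
      (Algebra.TensorProduct.includeRight (R := A') (A := t'.ResidueField) (B := B')).toRingHom := by
    rw [← hbot, comap_fiberIdeal]
  let y := (PrimeSpectrum.preimageEquivFiber A' B' ⟨t, inferInstance⟩).symm
    ⟨(⊥ : Ideal (t.Fiber B')), Ideal.isPrime_bot⟩
  haveI : Module.Flat A' B' := Module.Flat.isBaseChange A A' B B' hpush.symm.out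
  haveI hy : y.1.asIdeal.LiesOver t := ⟨by
    have := y.2
    rw [Set.mem_preimage, Set.mem_singleton_iff] at this
    have h2 := congrArg PrimeSpectrum.asIdeal this
    exact h2.symm⟩
  obtain ⟨Q', hQ'le, hQ'prime, hQ'over⟩ :=
    Ideal.exists_ideal_le_liesOver_of_le (p := t') (q := t) y.1.asIdeal hle
  have hPQ : P ≤ Q' := by
    rw [hP, ← comap_fiberIdeal t' Q']
    exact Ideal.comap_mono bot_le
  exact hno y.1.asIdeal (hPQ.trans hQ'le) hy

end Main

end Groth.Agent.Lib.helper26.Purity
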