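import Mathlib
import Groth.Prelude.Def_FlatCA
import Groth.Agent.Lib.Helper26.Purity1
import Groth.Agent.Lib.Helper3.UnivInjGlobal2

/-!
# A module which is projective over the base is universally pure (helper26)

The content-ideal argument of Raynaud–Gruson.
-/

set_option autoImplicit false
set_option linter.style.haveILetI false
set_option linter.unusedSectionVars false
universe u

namespace Groth.Agent.Lib.helper26.Purity

open TensorProduct FlatCA

attribute [local instance] Algebra.TensorProduct.rightAlgebra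

section Fraction

variable {R : Type u} [CommRing R] (t' : Ideal R) [t'.IsPrime] (N : Type u) [AddCommGroup N]
  [Module R N]

/-- elements outside `t'` act injectively on `N ⊗ κ(t')`. -/
theorem smul_tensor_residueField_injective (s : R) (hs : s ∉ t')
    (z : N ⊗[R] t'.ResidueField) (hz : s • z = 0) : z = 0 := by
  have h0 : algebraMap R t'.ResidueField s ≠ 0 := by
    rwa [ne_eq, Ideal.algebraMap_residueField_eq_zero]
  let u : t'.ResidueField := (algebraMap R t'.ResidueField s)⁻¹
  have key : ∀ w : N ⊗[R] t'.ResidueField,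
      LinearMap.lTensor N (LinearMap.mulLeft R u) (s • w) = w := by
    intro w
    induction w using TensorProduct.induction_on with
    | zero => simp
    | tmul n k =>
      rw [TensorProduct.smul_tmul', TensorProduct.smul_tmul, LinearMap.lTensor_tmul,
        LinearMap.mulLeft_apply, Algebra.smul_def, ← mul_assoc, inv_mul_cancel₀ h0, one_mul]
    | add a b ha hb => rw [smul_add, map_add, ha, hb]
  rw [← key z, hz, map_zero]

/-- clearing denominators in `N ⊗ κ(t')`. -/
theorem exists_smul_eq_tmul_one (y : N ⊗[R] t'.ResidueField) :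
    ∃ s : R, s ∉ t' ∧ ∃ n : N, s • y = n ⊗ₜ[R] (1 : t'.ResidueField) := by
  induction y using TensorProduct.induction_on with
  | zero => exact ⟨1, fun h => (Ideal.IsPrime.ne_top inferInstance)
      ((Ideal.eq_top_iff_one t').2 h), 0, by simp⟩
  | tmul n k =>
    obtain ⟨⟨a, s⟩, hk⟩ := IsLocalization.surj (nonZeroDivisors (R ⧸ t')) k
    obtain ⟨a₀, rfl⟩ := Ideal.Quotient.mk_surjective a
    obtain ⟨s₀, hs₀⟩ := Ideal.Quotient.mk_surjective (s : R ⧸ t')
    have hs₀' : s₀ ∉ t' := by
      intro h
      have h1 : (s : R ⧸ t') = 0 := by rw [← hs₀]; exact Ideal.Quotient.eq_zero_iff_mem.2 h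
      exact nonZeroDivisors.coe_ne_zero s h1
    refine ⟨s₀, hs₀', a₀ • n, ?_⟩
    have h2 : s₀ • k = algebraMap R t'.ResidueField a₀ := by
      rw [Algebra.smul_def, mul_comm]
      have h3 : algebraMap R t'.ResidueField s₀ = algebraMap (R ⧸ t') t'.ResidueField s := by
        rw [← hs₀]; rfl
      rw [h3]
      exact hk
    rw [TensorProduct.smul_tmul', TensorProduct.smul_tmul, h2, Algebra.algebraMap_eq_smul_one,
      ← TensorProduct.smul_tmul]
  | add a b ha hb =>
    obtain ⟨s₁, hs₁, n₁, h₁⟩ := ha
    obtain ⟨s₂, hs₂, n₂, h₂⟩ := hb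
    refine ⟨s₁ * s₂, fun h => (Ideal.IsPrime.mem_or_mem inferInstance h).elim hs₁ hs₂,
      s₂ • n₁ + s₁ • n₂, ?_⟩
    rw [smul_add, mul_comm s₁ s₂, mul_smul, h₁, mul_comm s₂ s₁, mul_smul, h₂,
      TensorProduct.add_tmul, TensorProduct.smul_tmul', TensorProduct.smul_tmul']

end Fraction

section Content

variable {R : Type u} [CommRing R] (t' : Ideal R) [t'.IsPrime] (N : Type u) [AddCommGroup N]
  [Module R N]

/-- if `m ⊗ 1 = 0` in `N ⊗ κ(t')` then every linear form maps `m` into `t'`. -/
theorem dual_mem_of_tmul_one_eq_zero (m : N) (h : m ⊗ₜ[R] (1 : t'.ResidueField) = 0)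
    (l : N →ₗ[R] R) : l m ∈ t' := by
  have h1 : (TensorProduct.lid R t'.ResidueField) (l.rTensor t'.ResidueField
      (m ⊗ₜ[R] (1 : t'.ResidueField))) = 0 := by rw [h, map_zero, map_zero]
  rw [LinearMap.rTensor_tmul, TensorProduct.lid_tmul, ← Algebra.algebraMap_eq_smul_one,
    Ideal.algebraMap_residueField_eq_zero] at h1
  exact h1

variable {N}

/-- for a retract `σ` of a free module, `m ⊗ 1 = 0` as soon as the coordinates of `m` lie in
`t'`. -/
theorem tmul_one_eq_zero_of_coord_mem (σ : N →ₗ[R] N →₀ R)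
    (hσ : Finsupp.linearCombination R id ∘ₗ σ = LinearMap.id) (m : N)
    (h : ∀ i, σ m i ∈ t') : m ⊗ₜ[R] (1 : t'.ResidueField) = 0 := by
  have hm : m = ∑ i ∈ (σ m).support, (σ m i) • i := by
    have := LinearMap.congr_fun hσ m
    rw [LinearMap.comp_apply, Finsupp.linearCombination_apply, LinearMap.id_apply] at this
    exact this.symm
  rw [hm, TensorProduct.sum_tmul]
  refine Finset.sum_eq_zero fun i _ => ?_
  rw [TensorProduct.smul_tmul, ← Algebra.algebraMap_eq_smul_one,
    Ideal.algebraMap_residueField_eq_zero.2 (h i), TensorProduct.tmul_zero]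

end Content

section Projective

variable {R S : Type u} [CommRing R] [CommRing S] [Algebra R S] (N : Type u) [AddCommGroup N]
  [Module S N] [Module R N] [IsScalarTower R S N]

/-- an associated point of a fibre module gives an element of `N` whose "annihilator modulo
`t'`" has radical `P`. -/
theorem exists_elt_of_fiberIdeal_mem_associatedPrimes (t' : Ideal R) [t'.IsPrime] (P : Ideal S)
    [P.IsPrime] [P.LiesOver t']
    (hass : fiberIdeal t' P ∈ associatedPrimes (t'.Fiber S) (fiberMod t' S N)) :
    ∃ n : N, ∀ b : S, b ∈ P ↔ ∃ k : ℕ, (b ^ k • n) ⊗ₜ[R] (1 : t'.ResidueField) = 0 := by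
  obtain ⟨x, hx⟩ := hass.2
  let ι := (Algebra.TensorProduct.includeRight (R := R) (A := t'.ResidueField) (B := S)).toRingHom
  let e := Groth.Agent.Lib.helper3.UnivInjGlobal.e0 (R := R) (S := S) t'.ResidueField N
  have hmemP : ∀ b : S, b ∈ P ↔ ∃ k : ℕ, b ^ k • (e x) = 0 := by
    intro b
    rw [← comap_fiberIdeal t' P, Ideal.mem_comap, hx, Ideal.mem_radical_iff]
    refine exists_congr fun k => ?_
    rw [Submodule.mem_colon_singleton, Submodule.mem_bot, ← map_pow]
    haveI : IsScalarTower S (t'.Fiber S) (fiberMod t' S N) :=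
      inferInstanceAs (IsScalarTower S (t'.Fiber S) ((t'.Fiber S) ⊗[S] N))
    have h1 : ι (b ^ k) • x = (b ^ k) • x := algebraMap_smul (t'.Fiber S) (b ^ k) x
    have h2 : e ((b ^ k) • x) = (b ^ k) • e x := map_smul e _ _
    constructor
    · intro h
      rw [← h2, ← h1, h]
      exact map_zero e
    · intro h
      rw [h1]
      apply e.injective
      rw [h2, h]
      exact (map_zero e).symm
  obtain ⟨s, hs, n, hn⟩ := exists_smul_eq_tmul_one t' N (e x)
  refine ⟨n, fun b => ?_⟩
  rw [hmemP b]
  refine exists_congr fun k => ?_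
  have h2 : (b ^ k • n) ⊗ₜ[R] (1 : t'.ResidueField) = s • (b ^ k • e x) := by
    rw [smul_comm, hn, TensorProduct.smul_tmul']
  rw [h2]
  constructor
  · intro h
    rw [h, smul_zero]
  · intro h
    exact smul_tensor_residueField_injective t' N s hs _ h

variable [Module.Projective R N]

/-- **Projective modules are pure**: an associated point of a fibre of a module which is
projective over the base specializes into every fibre over a specialization of the base point. -/
theorem exists_prime_ge_liesOver_of_projective (t' t : Ideal R) [t'.IsPrime] [t.IsPrime]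
    (hle : t' ≤ t) (P : Ideal S) [P.IsPrime] [P.LiesOver t']
    (hass : fiberIdeal t' P ∈ associatedPrimes (t'.Fiber S) (fiberMod t' S N)) :
    ∃ P' : Ideal S, P'.IsPrime ∧ P ≤ P' ∧ P'.LiesOver t := by
  classical
  by_contra hno
  push Not at hno
  obtain ⟨n, hn⟩ := exists_elt_of_fiberIdeal_mem_associatedPrimes N t' P hass
  obtain ⟨σ, hσ⟩ := Module.projective_def'.1 (inferInstance : Module.Projective R N)
  -- the content ideal of `n`
  set I : Ideal R := Ideal.span ((fun i => σ n i) '' ((σ n).support : Set N)) with hI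
  have hIfg : I.FG := ⟨((σ n).support.image fun i => σ n i), by rw [hI, Finset.coe_image]⟩
  have hnsum : n = ∑ i ∈ (σ n).support, (σ n i) • i := by
    have := LinearMap.congr_fun hσ n
    rw [LinearMap.comp_apply, Finsupp.linearCombination_apply, LinearMap.id_apply] at this
    exact this.symm
  -- linear forms of multiples of `n` lie in the content ideal
  have hcont : ∀ (l : N →ₗ[R] R) (b : S), l (b • n) ∈ I := by
    intro l b
    have h1 : b • n = ∑ i ∈ (σ n).support, (σ n i) • (b • i) := by
      conv_lhs => rw [hnsum]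
      rw [Finset.smul_sum]
      exact Finset.sum_congr rfl fun i _ => smul_comm _ _ _
    rw [h1, map_sum]
    refine Ideal.sum_mem _ fun i hi => ?_
    rw [map_smul, smul_eq_mul]
    exact Ideal.mul_mem_right _ _ (Ideal.subset_span ⟨i, hi, rfl⟩)
  -- the content ideal is not contained in `t'`
  have hInot : ¬ I ≤ t' := by
    intro hIt
    have h1 : (1 : S) ∉ P := fun h => (Ideal.IsPrime.ne_top inferInstance)
      ((Ideal.eq_top_iff_one P).2 h)
    apply h1
    rw [hn]
    refine ⟨1, ?_⟩
    rw [pow_one, one_smul]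
    refine tmul_one_eq_zero_of_coord_mem t' σ hσ n fun i => ?_
    by_cases hi : i ∈ (σ n).support
    · exact hIt (Ideal.subset_span ⟨i, hi, rfl⟩)
    · rw [Finsupp.notMem_support_iff.1 hi]
      exact t'.zero_mem
  -- the ideal of elements of `S` moving `n` into small content
  let Z : Ideal S :=
    { carrier := {z | ∀ l : N →ₗ[R] R, l (z • n) ∈ t' ⊔ t • I}
      zero_mem' := fun l => by rw [zero_smul, map_zero]; exact Ideal.zero_mem _
      add_mem' := fun {a b} ha hb l => by
        rw [add_smul, map_add]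
        exact Ideal.add_mem _ (ha l) (hb l)
      smul_mem' := fun c {z} hz l => by
        have h1 : l ((c • z) • n) =
            (l.comp ((LinearMap.lsmul S N c).restrictScalars R)) (z • n) := by
          rw [smul_eq_mul, mul_smul]
          rfl
        rw [h1]
        exact hz _ }
  have hZmem : ∀ z : S, z ∈ Z ↔ ∀ l : N →ₗ[R] R, l (z • n) ∈ t' ⊔ t • I := fun z => Iff.rfl
  have hZ0 : ∀ z : S, (z • n) ⊗ₜ[R] (1 : t'.ResidueField) = 0 → z ∈ Z := by
    intro z hz l
    exact Ideal.mem_sup_left (dual_mem_of_tmul_one_eq_zero t' N _ hz l)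
  have hZt : t.map (algebraMap R S) ≤ Z := by
    rw [Ideal.map_le_iff_le_comap]
    intro τ hτ
    rw [Ideal.mem_comap, hZmem]
    intro l
    rw [algebraMap_smul, map_smul, smul_eq_mul]
    refine Ideal.mem_sup_right ?_
    have h1 : l n ∈ I := by
      have := hcont l 1
      rwa [one_smul] at this
    exact Submodule.smul_mem_smul hτ h1
  -- an element outside `t` in `P + t S`
  have hex : ∃ s : R, s ∉ t ∧ algebraMap R S s ∈ P ⊔ t.map (algebraMap R S) := by
    by_contra hcon
    push Not at hcon
    have hdisj : Disjoint ((P ⊔ t.map (algebraMap R S) : Ideal S) : Set S)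
        (Algebra.algebraMapSubmonoid S t.primeCompl : Set S) := by
      rw [Set.disjoint_left]
      rintro _ hx ⟨s, hs, rfl⟩
      exact hcon s hs hx
    obtain ⟨P', hP', hPP', hP'd⟩ := Ideal.exists_le_prime_disjoint _ _ hdisj
    refine hno P' hP' (le_sup_left.trans hPP') ⟨le_antisymm ?_ ?_⟩
    · intro τ hτ
      exact hPP' (Ideal.mem_sup_right (Ideal.mem_map_of_mem _ hτ))
    · intro τ hτ
      by_contra hτt
      exact Set.disjoint_left.1 hP'd hτ ⟨τ, hτt, rfl⟩
  obtain ⟨s, hst, hs⟩ := hex
  obtain ⟨j, hj, z, hz, hjz⟩ := Submodule.mem_sup.1 hs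
  obtain ⟨k, hk⟩ := (hn j).1 hj
  have hjk : j ^ k ∈ Z := hZ0 _ hk
  have hsk : (algebraMap R S s) ^ k ∈ Z := by
    rw [← Ideal.Quotient.eq_zero_iff_mem, map_pow, ← hjz, map_add,
      Ideal.Quotient.eq_zero_iff_mem.2 (hZt hz), add_zero, ← map_pow,
      Ideal.Quotient.eq_zero_iff_mem]
    exact hjk
  have hskI : ∀ g ∈ I, s ^ k * g ∈ t' ⊔ t • I := by
    intro g hg
    refine Submodule.span_induction (p := fun g _ => s ^ k * g ∈ t' ⊔ t • I) ?_ ?_ ?_ ?_ hg
    · rintro _ ⟨i, -, rfl⟩
      have h1 := (hZmem _).1 hsk ((Finsupp.lapply i).comp σ)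
      rw [← map_pow, algebraMap_smul, map_smul, smul_eq_mul] at h1
      exact h1
    · rw [mul_zero]; exact Ideal.zero_mem _
    · intro a b _ _ ha hb
      rw [mul_add]; exact Ideal.add_mem _ ha hb
    · intro c a _ ha
      change s ^ k * (c * a) ∈ t' ⊔ t • I
      rw [mul_left_comm]
      exact Ideal.mul_mem_left _ _ ha
  -- Nakayama in the local ring at `t`
  have hskt : s ^ k ∉ t := fun h => hst (Ideal.IsPrime.mem_of_pow_mem inferInstance k h)
  let Rt := Localization.AtPrime t
  have hunit : IsUnit (algebraMap R Rt (s ^ k)) :=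
    IsLocalization.map_units Rt (⟨s ^ k, hskt⟩ : t.primeCompl)
  have hloc : I.map (algebraMap R Rt) ≤
      t'.map (algebraMap R Rt) ⊔ IsLocalRing.maximalIdeal Rt • I.map (algebraMap R Rt) := by
    rw [Ideal.map_le_iff_le_comap]
    intro g hg
    rw [Ideal.mem_comap]
    have h1 := Ideal.mem_map_of_mem (algebraMap R Rt) (hskI g hg)
    rw [Ideal.map_sup, smul_eq_mul, Ideal.map_mul, Localization.AtPrime.map_eq_maximalIdeal,
      map_mul] at h1
    obtain ⟨u, hu⟩ := hunit
    have h2 : algebraMap R Rt g = ↑u⁻¹ * (algebraMap R Rt (s ^ k) * algebraMap R Rt g) := by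
      rw [← hu, ← mul_assoc, Units.inv_mul, one_mul]
    rw [h2]
    exact Ideal.mul_mem_left _ _ h1
  have hle' : I.map (algebraMap R Rt) ≤ t'.map (algebraMap R Rt) :=
    Submodule.le_of_le_smul_of_le_jacobson_bot (hIfg.map _)
      (IsLocalRing.maximalIdeal_le_jacobson _) hloc
  apply hInot
  intro g hg
  have h1 : algebraMap R Rt g ∈ t'.map (algebraMap R Rt) := hle' (Ideal.mem_map_of_mem _ hg)
  have hdisj : Disjoint (t.primeCompl : Set R) (t' : Set R) := by
    rw [Set.disjoint_left]
    intro a ha hat'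
    exact ha (hle hat')
  have h2 : (t'.map (algebraMap R Rt)).under R = t' :=
    IsLocalization.under_map_of_isPrime_disjoint t.primeCompl Rt inferInstance hdisj
  rw [← h2]
  exact h1

end Projective

section BaseChange

variable {A B : Type u} [CommRing A] [CommRing B] [Algebra A B] (N : Type u) [AddCommGroup N]
  [Module B N] [Module A N] [IsScalarTower A B N] [Module.Projective A N]
  (A' B' N' : Type u) [CommRing A'] [CommRing B'] [Algebra A A'] [Algebra B B'] [Algebra A' B']
  [Algebra A B'] [IsScalarTower A B B'] [IsScalarTower A A' B']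
  [AddCommGroup N'] [Module B' N'] [Module B N'] [IsScalarTower B B' N'] [Module A' N']
  [IsScalarTower A' B' N']

/-- projectivity over the base is preserved by base change. -/
theorem projective_of_isPushout_of_isBaseChange (hpush : Algebra.IsPushout A B A' B')
    (f : N →ₗ[B] N') (hbc : IsBaseChange B' f) : Module.Projective A' N' := by
  haveI : Algebra.IsPushout A A' B B' := hpush.symm
  let e₁ : B' ⊗[B] N ≃ₗ[B'] N' := hbc.equiv
  let e₂ : B' ⊗[B] N ≃ₗ[A'] A' ⊗[A] N := Algebra.IsPushout.cancelBaseChange A A' B B' N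
  exact Module.Projective.of_equiv ((e₂.symm).trans (e₁.restrictScalars A'))

end BaseChange

end Groth.Agent.Lib.helper26.Purity
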