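/-
Helper library (helper26): weakly associated primes of `N ⊗_R M` at points of flatness
(Raynaud–Gruson).
Part 1: over a local ring `A`, for a free finite type `A`-algebra `B` with geometrically integral
fibres, elements outside `𝔪B` are universally regular on `B`; consequence for weakly associated
primes.
-/
import Mathlib
import Groth.Prelude.Def_FlatCA
import Groth.Agent.Lib.Helper26.FtReg4
import Groth.Agent.Lib.Helper26.Purity2
import Groth.Agent.Lib.Helper26.Purity5
import Groth.Agent.Lib.Helper26.FibCov1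
import Groth.Agent.Lib.Helper24.WeakAssBC

set_option autoImplicit false
set_option linter.style.haveILetI false
set_option linter.unusedSectionVars false

namespace Groth.Agent.Lib.helper26.WeakAssRG

open TensorProduct IsLocalRing FlatCA Groth.Agent.Lib.Helper24.WeakAssBC
  Groth.Agent.Lib.helper3.UnivInjGlobal

universe u

section LemmaU

variable {A B : Type u} [CommRing A] [IsLocalRing A] [CommRing B] [Algebra A B]
  [Module.Free A B]

/-- an element outside `𝔪B` has a coordinate outside `𝔪`. -/
theorem exists_coord_notMem (s : B) (hs : s ∉ (maximalIdeal A).map (algebraMap A B)) :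
    ∃ l : B →ₗ[A] A, l s ∉ maximalIdeal A := by
  classical
  by_contra hcon
  push Not at hcon
  apply hs
  let b := Module.Free.chooseBasis A B
  have h1 : s = ∑ j ∈ (b.repr s).support, (b.repr s j) • b j := by
    conv_lhs => rw [← b.linearCombination_repr s]
    rw [Finsupp.linearCombination_apply, Finsupp.sum]
  rw [h1]
  refine Ideal.sum_mem _ fun j _ => ?_
  rw [Algebra.smul_def]
  exact Ideal.mul_mem_right _ _ (Ideal.mem_map_of_mem _ (hcon (b.coord j)))

/-- an element outside `𝔪B` is nonzero in every fibre. -/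
theorem tmul_one_ne_zero (s : B) (hs : s ∉ (maximalIdeal A).map (algebraMap A B))
    (𝔭 : Ideal A) [𝔭.IsPrime] : s ⊗ₜ[A] (1 : 𝔭.ResidueField) ≠ 0 := by
  intro h0
  obtain ⟨l, hl⟩ := exists_coord_notMem s hs
  exact hl (le_maximalIdeal (Ideal.IsPrime.ne_top inferInstance)
    (Groth.Agent.Lib.helper26.Purity.dual_mem_of_tmul_one_eq_zero 𝔭 B s h0 l))

variable [Algebra.FiniteType A B]

set_option maxHeartbeats 1600000 in
/-- **universal regularity**: over a local ring `A`, for a free finite type `A`-algebra `B` with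
geometrically integral fibres, elements outside `𝔪B` act injectively on `B ⊗_A Q` for every
`A`-module `Q`. -/
theorem smul_eq_zero_of_geomIntegralFibres (h : GeomIntegralFibres A B) (s : B)
    (hs : s ∉ (maximalIdeal A).map (algebraMap A B))
    (Q : Type u) [AddCommGroup Q] [Module A Q] (w : B ⊗[A] Q) (hw : s • w = 0) : w = 0 := by
  by_contra hw0
  set J : Ideal B := (Submodule.span B {w}).annihilator with hJ
  have hJtop : J ≠ ⊤ := by
    intro htop
    apply hw0
    have : (1 : B) ∈ J := by rw [htop]; exact Submodule.mem_top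
    have h1 := (Submodule.mem_annihilator_span_singleton _ _).mp this
    rwa [one_smul] at h1
  obtain ⟨q, hqmax, hJq⟩ := Ideal.exists_le_maximal J hJtop
  haveI : q.IsPrime := hqmax.isPrime
  set wq : LocalizedModule q.primeCompl B ⊗[A] Q :=
    AlgebraTensorModule.rTensor A Q (LocalizedModule.mkLinearMap q.primeCompl B) w with hwq
  have hwq0 : wq ≠ 0 := by
    intro h0
    obtain ⟨⟨t, ht⟩, htw⟩ := (IsLocalizedModule.eq_zero_iff q.primeCompl
      (AlgebraTensorModule.rTensor A Q (LocalizedModule.mkLinearMap q.primeCompl B))).mp h0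
    apply ht
    apply hJq
    exact (Submodule.mem_annihilator_span_singleton _ _).mpr htw
  have hswq : s • wq = 0 := by
    rw [hwq, ← map_smul, hw, map_zero]
  apply hwq0
  haveI : Module.Flat A B := inferInstance
  have hflat : Module.Flat A (LocalizedModule q.primeCompl B) :=
    Groth.Agent.Lib.helper26.FibCov.flatAt_of_flat (A := A) (C := B) B q
  refine Groth.Agent.Lib.helper26.FtReg.smul_eq_zero_localized_tensor_ft B q hflat s ?_ Q wq hswq
  -- regularity on the localized fibre
  set 𝔭 := q.comap (algebraMap A B) with h𝔭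
  haveI : 𝔭.IsPrime := Ideal.comap_isPrime _ _
  haveI : IsDomain (B ⊗[A] 𝔭.ResidueField) :=
    Groth.Agent.Lib.helper26.Purity.isDomain_tensor_of_geomIntegralFibres h 𝔭.ResidueField
  have hne := tmul_one_ne_zero s hs 𝔭
  have hreg : Function.Injective (LinearMap.lsmul B (B ⊗[A] 𝔭.ResidueField) s) := by
    intro a b hab
    have h1 : (s ⊗ₜ[A] (1 : 𝔭.ResidueField)) * a = (s ⊗ₜ[A] (1 : 𝔭.ResidueField)) * b := by
      have e : ∀ z : B ⊗[A] 𝔭.ResidueField, (s ⊗ₜ[A] (1 : 𝔭.ResidueField)) * z = s • z := by
        intro z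
        induction z using TensorProduct.induction_on with
        | zero => simp
        | tmul c k =>
          rw [Algebra.TensorProduct.tmul_mul_tmul, one_mul, TensorProduct.smul_tmul', smul_eq_mul]
        | add x y hx hy => rw [mul_add, hx, hy, smul_add]
      rw [e, e]
      exact hab
    exact mul_left_cancel₀ hne h1
  have hinj := IsLocalizedModule.map_injective q.primeCompl
    (LocalizedModule.mkLinearMap q.primeCompl (B ⊗[A] 𝔭.ResidueField))
    (LocalizedModule.mkLinearMap q.primeCompl (B ⊗[A] 𝔭.ResidueField))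
    (LinearMap.lsmul B (B ⊗[A] 𝔭.ResidueField) s) hreg
  intro a b hab
  apply hinj
  rw [map_lsmul_apply, map_lsmul_apply]
  exact hab

/-- the smooth case: weakly associated primes descend from `B ⊗_A M` to `M`. -/
theorem W_of_W_tensor_geomIntegralFibres (h : GeomIntegralFibres A B) (Q : Ideal B) [Q.IsPrime]
    (hQ : (maximalIdeal A).map (algebraMap A B) ≤ Q) (M : Type u) [AddCommGroup M] [Module A M]
    (hW : W B Q (B ⊗[A] M)) : W A (maximalIdeal A) M := by
  classical
  obtain ⟨y, h1, h2⟩ := hW
  rw [W_local_iff]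
  have h3 : ∀ a ∈ maximalIdeal A, ∃ n : ℕ, (a ^ n) • y = 0 := by
    intro a ha
    obtain ⟨s, hs, n, hn⟩ := h2 (algebraMap A B a) (hQ (Ideal.mem_map_of_mem _ ha))
    refine ⟨n, ?_⟩
    have hs' : s ∉ (maximalIdeal A).map (algebraMap A B) := fun h' => hs (hQ h')
    apply smul_eq_zero_of_geomIntegralFibres h s hs' M
    rw [← algebraMap_smul B (a ^ n) y, map_pow, smul_smul]
    exact hn
  have hy0 : y ≠ 0 := by
    intro h0
    refine h1 1 (fun h' => (Ideal.IsPrime.ne_top inferInstance) ((Ideal.eq_top_iff_one Q).2 h')) ?_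
    rw [h0, smul_zero]
  let b := Module.Free.chooseBasis A B
  let e : B ⊗[A] M ≃ₗ[A] (Module.Free.ChooseBasisIndex A B →₀ M) :=
    TensorProduct.equivFinsuppOfBasisLeft b
  have hey : e y ≠ 0 := fun h0 => hy0 (e.map_eq_zero_iff.mp h0)
  obtain ⟨j, hj⟩ : ∃ j, e y j ≠ 0 := by
    by_contra hcon
    push Not at hcon
    exact hey (Finsupp.ext hcon)
  refine ⟨e y j, hj, fun a ha => ?_⟩
  obtain ⟨n, hn⟩ := h3 a ha
  refine ⟨n, ?_⟩
  have h4 : e ((a ^ n) • y) j = 0 := by rw [hn, map_zero]; rfl
  rw [map_smul] at h4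
  exact h4

end LemmaU

end Groth.Agent.Lib.helper26.WeakAssRG
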