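/-
Helper library (helper26): weakly associated primes of `N ⊗_R M` at points of flatness
(Raynaud–Gruson).
Part 2: the local case with a complete dévissage: a weakly associated prime of `N ⊗_R M` at the
point of the dévissage forces the maximal ideal of `R` to be weakly associated to `M`.
-/
import Mathlib
import Groth.Prelude.Def_FlatCA
import Groth.Agent.Lib.Helper26.WeakAssRG1
import Groth.Agent.Lib.Helper3.CDev3

set_option autoImplicit false
set_option linter.style.haveILetI false
set_option linter.unusedSectionVars false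

namespace Groth.Agent.Lib.helper26.WeakAssRG

open TensorProduct IsLocalRing FlatCA Groth.Agent.Lib.Helper24.WeakAssBC
  Groth.Agent.Lib.helper3.CDev

attribute [local instance] FlatCA.CompleteDevissageAt.hqB FlatCA.CompleteDevissageAt.hqA
  FlatCA.CompleteDevissageAt.overB FlatCA.CompleteDevissageAt.overA

universe u

section General

/-- `W` passes to a quotient ring acting on the module. -/
theorem W_of_surjective {B B' : Type*} [CommRing B] [CommRing B'] [Algebra B B']
    (hsurj : Function.Surjective (algebraMap B B')) {X : Type*} [AddCommGroup X] [Module B X]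
    [Module B' X] [IsScalarTower B B' X] (u' : Ideal B')
    (h : W B (u'.comap (algebraMap B B')) X) : W B' u' X := by
  obtain ⟨y, h1, h2⟩ := h
  refine ⟨y, ?_, ?_⟩
  · intro s' hs' h0
    obtain ⟨s, rfl⟩ := hsurj s'
    rw [algebraMap_smul] at h0
    exact h1 s hs' h0
  · intro b' hb'
    obtain ⟨b, rfl⟩ := hsurj b'
    obtain ⟨s, hs, n, hn⟩ := h2 b hb'
    refine ⟨algebraMap B B' s, hs, n, ?_⟩
    rw [← map_pow, ← map_mul, algebraMap_smul]
    exact hn

/-- `W` for the middle term of a short exact sequence gives `W` for one of the outer terms. -/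
theorem W_of_exact {B : Type*} [CommRing B] (u : Ideal B) [hu : u.IsPrime] {X' X X'' : Type*}
    [AddCommGroup X'] [AddCommGroup X] [AddCommGroup X''] [Module B X'] [Module B X]
    [Module B X''] (f : X' →ₗ[B] X) (g : X →ₗ[B] X'') (hf : Function.Injective f)
    (hfg : Function.Exact f g) (h : W B u X) : W B u X' ∨ W B u X'' := by
  obtain ⟨y, h1, h2⟩ := h
  by_cases hc : ∃ s, s ∉ u ∧ s • g y = 0
  · obtain ⟨s, hs, hs0⟩ := hc
    left
    have hg0 : g (s • y) = 0 := by rw [map_smul, hs0]
    obtain ⟨w, hw⟩ := (hfg (s • y)).mp hg0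
    refine ⟨w, ?_, ?_⟩
    · intro s' hs' h0
      have h3 : (s' * s) • y = 0 := by rw [mul_smul, ← hw, ← map_smul, h0, map_zero]
      exact h1 _ (fun hm => (hu.mem_or_mem hm).elim hs' hs) h3
    · intro b hb
      obtain ⟨s'', hs'', n, hn⟩ := h2 b hb
      refine ⟨s'', hs'', n, ?_⟩
      apply hf
      rw [map_smul, hw, map_zero, smul_comm, hn, smul_zero]
  · right
    push Not at hc
    refine ⟨g y, fun s hs h0 => hc s hs h0, ?_⟩
    intro b hb
    obtain ⟨s, hs, n, hn⟩ := h2 b hb
    exact ⟨s, hs, n, by rw [← map_smul, hn, map_zero]⟩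

section RTensor

variable {R A : Type*} [CommRing R] [CommRing A] [Algebra R A] {X Y Z M : Type*} [AddCommGroup X]
  [AddCommGroup Y] [AddCommGroup Z] [AddCommGroup M] [Module R X] [Module A X]
  [IsScalarTower R A X] [Module R Y] [Module A Y] [IsScalarTower R A Y] [Module R Z] [Module A Z]
  [IsScalarTower R A Z] [Module R M]

theorem rTensor_surjective' (f : X →ₗ[A] Y) (hf : Function.Surjective f) :
    Function.Surjective (AlgebraTensorModule.rTensor R M f) :=
  LinearMap.rTensor_surjective M (g := f.restrictScalars R) hf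

theorem rTensor_injective' (f : X →ₗ[A] Y)
    (hf : Function.Injective ((f.restrictScalars R).lTensor M)) :
    Function.Injective (AlgebraTensorModule.rTensor R M f) :=
  (LinearMap.lTensor_inj_iff_rTensor_inj M (f.restrictScalars R)).mp hf

theorem rTensor_exact' (f : X →ₗ[A] Y) (g : Y →ₗ[A] Z) (hfg : Function.Exact f g)
    (hg : Function.Surjective g) :
    Function.Exact (AlgebraTensorModule.rTensor R M f) (AlgebraTensorModule.rTensor R M g) :=
  rTensor_exact (f := f.restrictScalars R) (g := g.restrictScalars R) M hfg hg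

end RTensor

end General

section Local

variable {R S : Type u} [CommRing R] [IsLocalRing R] [CommRing S] [Algebra R S]
  {N : Type u} [AddCommGroup N] [Module S N] [Module R N] [IsScalarTower R S N]
  {q : Ideal S} [q.IsPrime]
  (D : CompleteDevissage R S N (maximalIdeal R))
  (DA : CompleteDevissageAt R S N (maximalIdeal R) q D)
  (M : Type u) [AddCommGroup M] [Module R M]

include DA in
/-- the free case -/
theorem W_of_W_free (i : ℕ) (hi : i < D.n)
    (h : W (D.B i) (DA.qB i) ((Fin (D.r i) → D.B i) ⊗[R] M)) : W R (maximalIdeal R) M := by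
  let e := AlgebraTensorModule.cancelBaseChange R (D.B i) (D.B i) (Fin (D.r i) → D.B i) M
  have h1 : W (D.B i) (DA.qB i) ((Fin (D.r i) → D.B i) ⊗[D.B i] (D.B i ⊗[R] M)) :=
    W_of_linearEquiv e.symm _ h
  have h2 := W_of_free_tensor (Fin (D.r i) → D.B i) (DA.qB i) (D.B i ⊗[R] M) h1
  haveI := free_B D i hi
  haveI := D.smooth i hi
  haveI : Algebra.FiniteType R (D.B i) := inferInstance
  refine W_of_W_tensor_geomIntegralFibres (gi_B D i hi) (DA.qB i) ?_ M h2
  rw [Ideal.map_le_iff_le_comap]
  exact le_of_eq ((DA.overB i).over)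

include DA in
/-- going down from `A i` to `B i` -/
theorem W_B_of_W_A (i : ℕ) (hi : i < D.n) (h : W (D.A i) (DA.qA i) (D.M i ⊗[R] M)) :
    W (D.B i) (DA.qB i) (D.M i ⊗[R] M) := by
  haveI := D.finiteBA i hi
  haveI : Algebra.IsIntegral (D.B i) (D.A i) := Algebra.IsIntegral.of_finite _ _
  have hfin : ((DA.qB i).primesOver (D.A i)).Finite := by
    apply Set.Finite.subset (Set.finite_singleton (DA.qA i))
    rintro Q ⟨hQ, hQo⟩
    haveI := hQ
    exact DA.uniq i hi Q hQo
  exact W_restrictScalars_of_isIntegral (D.M i ⊗[R] M) (DA.qB i) hfin (DA.qA i)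
    ((DA.overA i).over.symm) h

include DA in
theorem W_of_W_stage (hflat : FlatAt R q N) : ∀ k i, i + k + 1 = D.n →
    W (D.A i) (DA.qA i) (D.M i ⊗[R] M) → W R (maximalIdeal R) M := by
  intro k
  induction k with
  | zero =>
    intro i hi hW
    have hin : i < D.n := by omega
    have hi' : i = D.n - 1 := by omega
    have hWB := W_B_of_W_A D DA M i hin hW
    have hinj : Function.Injective (AlgebraTensorModule.rTensor R M (D.α i)) :=
      rTensor_injective' (D.α i) ((step_main D DA i hin (flatAt_all D DA hflat i hin)).1 M)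
    have hsurj : Function.Surjective (AlgebraTensorModule.rTensor R M (D.α i)) := by
      have h0 : Function.Surjective (D.α i) := by
        subst hi'
        exact D.cokerLast
      exact rTensor_surjective' (D.α i) h0
    let e : ((Fin (D.r i) → D.B i) ⊗[R] M) ≃ₗ[D.B i] (D.M i ⊗[R] M) :=
      LinearEquiv.ofBijective (AlgebraTensorModule.rTensor R M (D.α i)) ⟨hinj, hsurj⟩
    have hWF : W (D.B i) (DA.qB i) ((Fin (D.r i) → D.B i) ⊗[R] M) :=
      W_of_linearEquiv e.symm (DA.qB i) hWB
    exact W_of_W_free D DA M i hin hWF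
  | succ k ih =>
    intro i hi hW
    have hin : i < D.n := by omega
    have hi1 : i + 1 < D.n := by omega
    have hWB := W_B_of_W_A D DA M i hin hW
    have hinj : Function.Injective (AlgebraTensorModule.rTensor R M (D.α i)) :=
      rTensor_injective' (D.α i) ((step_main D DA i hin (flatAt_all D DA hflat i hin)).1 M)
    have hex : Function.Exact (AlgebraTensorModule.rTensor R M (D.α i))
        (AlgebraTensorModule.rTensor R M (proj D i hi1)) :=
      rTensor_exact' (D.α i) (proj D i hi1) (proj_exact D i hi1) (proj_surjective D i hi1)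
    rcases W_of_exact (DA.qB i) (AlgebraTensorModule.rTensor R M (D.α i))
      (AlgebraTensorModule.rTensor R M (proj D i hi1)) hinj hex hWB with h | h
    · exact W_of_W_free D DA M i hin h
    · apply ih (i + 1) (by omega)
      apply W_of_surjective (D.surjBA' i hi1)
      rw [DA.qStep i hi1]
      exact h

include DA in
/-- **the local case**: in the presence of a complete dévissage at `q` over a local ring `R`, if
`q` is weakly associated to `N ⊗_R M` then the maximal ideal is weakly associated to `M`. -/
theorem W_of_W_devissage (hflat : FlatAt R q N) (h : W S q (N ⊗[R] M)) :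
    W R (maximalIdeal R) M := by
  have hpos := D.pos
  apply W_of_W_stage D DA M hflat (D.n - 1) 0 (by omega)
  apply W_of_surjective D.surjSA
  rw [DA.q0]
  exact W_of_linearEquiv
    (AlgebraTensorModule.congr D.isoN (LinearEquiv.refl R M)) q h

end Local

end Groth.Agent.Lib.helper26.WeakAssRG
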