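/-
Helper library (helper26): weakly associated primes of `N ⊗_R M` at points of flatness
(Raynaud–Gruson).
Part 3: transport to the étale local situation with a complete dévissage.
-/
import Mathlib
import Groth.Prelude.Def_FlatCA
import Groth.Agent.Lib.Helper26.WeakAssRG2
import Groth.Agent.Lib.Helper26.RGFlat5
import Groth.Agent.Lib.Helper26.RGFlat1
import Groth.Agent.Lib.Helper26.DevTr2
import Groth.Agent.Lib.Helper3.BijRes4
import Groth.Agent.Lib.Helper3.ElemDev1
import Groth.Agent.Lib.Helper26.DevMain2
import Groth.Agent.S1252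

set_option autoImplicit false
set_option linter.style.haveILetI false
set_option linter.unusedSectionVars false

namespace Groth.Agent.Lib.helper26.WeakAssRG

open TensorProduct IsLocalRing FlatCA Groth.Agent.Lib.Helper24.WeakAssBC

universe u

section Transport

set_option maxHeartbeats 3200000 in
theorem W_of_W_tensor_of_etaleNhd {R S R' S' : Type u} [CommRing R] [CommRing S] [CommRing R']
    [CommRing S'] [Algebra R S] [Algebra R R'] [Algebra S S'] [Algebra R' S'] [Algebra R S']
    [IsScalarTower R R' S'] [IsScalarTower R S S'] [Algebra.FiniteType R S]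
    (N : Type u) [AddCommGroup N] [Module S N] [Module R N] [IsScalarTower R S N]
    [Module.Finite S N]
    (M : Type u) [AddCommGroup M] [Module R M]
    (p : Ideal R) [p.IsPrime] (q : Ideal S) [q.IsPrime] [hqp : q.LiesOver p]
    (p' : Ideal R') [p'.IsPrime] (q' : Ideal S') [q'.IsPrime]
    (hEtR : IsEtaleNhd R R' p p') (hEtS : IsEtaleNhd S S' q q') [hq'p' : q'.LiesOver p']
    (hflat : FlatAt R q N)
    (hK' : HasCompleteDevissageAt R' S' (S' ⊗[S] N) p' q')
    (h : W S q (N ⊗[R] M)) : W R p M := by
  obtain ⟨etR, hp'p, hbijR⟩ := hEtR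
  obtain ⟨etS, hq'q, hbijS⟩ := hEtS
  haveI := etR
  haveI := etS
  haveI := hp'p
  haveI := hq'q
  haveI : Algebra.FiniteType R' S' := by
    haveI : Algebra.FiniteType S S' := inferInstance
    haveI : Algebra.FiniteType R S' := Algebra.FiniteType.trans (S := S) inferInstance inferInstance
    exact Algebra.FiniteType.of_restrictScalars_finiteType R R' S'
  -- the local ring `A` of the étale neighbourhood of the base
  haveI twRR'A : IsScalarTower R R' (Localization.AtPrime p') := inferInstance
  -- the pushout `C`
  obtain ⟨C, _, algR'C, algS'C, algAC, twR'S'C, twR'AC, hpo⟩ :=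
    Groth.Agent.Lib.helper26.RGFlat.exists_pushout_model R' S' (Localization.AtPrime p')
  haveI hpo' : Algebra.IsPushout R' (Localization.AtPrime p') S' C := hpo.symm
  letI algSC : Algebra S C := ((algebraMap S' C).comp (algebraMap S S')).toAlgebra
  haveI twSS'C : IsScalarTower S S' C := IsScalarTower.of_algebraMap_eq fun _ => rfl
  letI algRC : Algebra R C := ((algebraMap R' C).comp (algebraMap R R')).toAlgebra
  haveI twRR'C : IsScalarTower R R' C := IsScalarTower.of_algebraMap_eq fun _ => rfl
  haveI twRSC : IsScalarTower R S C := IsScalarTower.of_algebraMap_eq fun r => by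
    show algebraMap R' C (algebraMap R R' r) = algebraMap S' C (algebraMap S S' (algebraMap R S r))
    rw [← IsScalarTower.algebraMap_apply R S S', IsScalarTower.algebraMap_apply R R' S',
      ← IsScalarTower.algebraMap_apply R' S' C]
  haveI twRAC : IsScalarTower R (Localization.AtPrime p') C :=
    IsScalarTower.of_algebraMap_eq fun r => by
      show algebraMap R' C (algebraMap R R' r) =
        algebraMap (Localization.AtPrime p') C (algebraMap R (Localization.AtPrime p') r)
      rw [IsScalarTower.algebraMap_apply R R' (Localization.AtPrime p'),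
        ← IsScalarTower.algebraMap_apply R' (Localization.AtPrime p') C]
  -- the point
  have hκ := Groth.Agent.Lib.helper26.RGFlat.bijective_mapₐ_atPrime p'
  obtain ⟨x', hx'prime, hx'𝔪, hx'q'⟩ :=
    Groth.Agent.Lib.helper3.BijRes.exists_prime_over p' (maximalIdeal (Localization.AtPrime p')) hκ
      S' C q'
  haveI := hx'prime
  haveI := hx'𝔪
  haveI := hx'q'
  haveI hx'q : x'.LiesOver q := Ideal.LiesOver.trans x' q' q
  -- flatness of `S → C`
  haveI : Module.Flat R' (Localization.AtPrime p') := IsLocalization.flat _ p'.primeCompl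
  haveI flS'C : Module.Flat S' C :=
    Module.Flat.of_linearEquiv
      (Algebra.IsPushout.equiv R' S' (Localization.AtPrime p') C).symm.toLinearEquiv
  haveI flSS' : Module.Flat S S' := inferInstance
  haveI flSC : Module.Flat S C := Module.Flat.trans S S' C
  -- the module `NC = C ⊗[S] N`
  haveI sccSAC : SMulCommClass S (Localization.AtPrime p') C := ⟨fun s a c => by
    simp only [Algebra.smul_def]; ring⟩
  haveI sccSS'C : SMulCommClass S S' C := ⟨fun s a c => by
    simp only [Algebra.smul_def]; ring⟩
  haveI sccSR'C : SMulCommClass S R' C := ⟨fun s a c => by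
    simp only [Algebra.smul_def]; ring⟩
  haveI twS'CNC : IsScalarTower S' C (C ⊗[S] N) := inferInstance
  haveI twACNC : IsScalarTower (Localization.AtPrime p') C (C ⊗[S] N) := inferInstance
  haveI twR'CNC : IsScalarTower R' C (C ⊗[S] N) := inferInstance
  haveI twSS'NC : IsScalarTower S S' (C ⊗[S] N) := IsScalarTower.of_algebraMap_smul fun s x => by
    rw [← algebraMap_smul C (algebraMap S S' s) x, ← IsScalarTower.algebraMap_apply S S' C,
      algebraMap_smul]
  have hf : IsBaseChange C (TensorProduct.mk S C N 1) := TensorProduct.isBaseChange S N C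
  let h₁ : S' ⊗[S] N →ₗ[S'] C ⊗[S] N :=
    (TensorProduct.isBaseChange S N S').lift (TensorProduct.mk S C N 1)
  have hcomp : (h₁.restrictScalars S).comp (TensorProduct.mk S S' N 1) =
      TensorProduct.mk S C N 1 := by
    ext n
    exact (TensorProduct.isBaseChange S N S').lift_eq (TensorProduct.mk S C N 1) n
  have hh : IsBaseChange C h₁ := by
    apply IsBaseChange.of_comp (TensorProduct.isBaseChange S N S')
    rw [hcomp]
    exact hf
  have hKC : HasCompleteDevissageAt (Localization.AtPrime p') C (C ⊗[S] N)
      (maximalIdeal (Localization.AtPrime p')) x' :=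
    Groth.Agent.Lib.helper26.DevTr.hasCompleteDevissageAt_baseChange R' S' (S' ⊗[S] N) p' q' hK'
      (Localization.AtPrime p') (maximalIdeal (Localization.AtPrime p')) hκ C (C ⊗[S] N) h₁ hh x'
  -- flatness
  have hflC : FlatAt R' x' (C ⊗[S] N) :=
    (Groth.Agent.Lib.helper3.ElemDev.chain₁ (R := R) (R' := R') (S := S) (S' := C)
      (TensorProduct.mk S C N 1) hf (LinearEquiv.refl C (C ⊗[S] N)) q x').mp hflat
  have hflA : FlatAt (Localization.AtPrime p') x' (C ⊗[S] N) := by
    unfold FlatCA.FlatAt at hflC ⊢
    haveI : IsScalarTower R' (Localization.AtPrime p') (C ⊗[S] N) :=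
      IsScalarTower.of_algebraMap_smul fun r x => by
        rw [← algebraMap_smul C (algebraMap R' (Localization.AtPrime p') r) x,
          ← IsScalarTower.algebraMap_apply R' (Localization.AtPrime p') C, algebraMap_smul]
    haveI : IsScalarTower R' (Localization.AtPrime p') (LocalizedModule x'.primeCompl (C ⊗[S] N)) :=
      IsScalarTower.of_algebraMap_smul (fun r x => by
        induction x using LocalizedModule.induction_on with
        | h m s =>
          rw [LocalizedModule.smul'_mk, LocalizedModule.smul'_mk, algebraMap_smul])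
    exact (Module.flat_iff_of_isLocalization (Localization.AtPrime p') p'.primeCompl _).mpr hflC
  obtain ⟨D, ⟨DA⟩⟩ := hKC
  -- `C` is a localization of `S'`
  haveI hlocC : IsLocalization (Algebra.algebraMapSubmonoid S' p'.primeCompl) C :=
    (Algebra.isLocalization_iff_isPushout p'.primeCompl (Localization.AtPrime p')).mpr hpo
  have hx'q'c : x'.comap (algebraMap S' C) = q' := hx'q'.over.symm
  have hx'qc : x'.comap (algebraMap S C) = q := hx'q.over.symm
  -- minimality of `x'` over `qC`
  have hmin : ∀ b ∈ x', ∃ s : C, s ∉ x' ∧ ∃ n : ℕ, s * b ^ n ∈ q.map (algebraMap S C) := by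
    intro b hb
    obtain ⟨⟨b', t⟩, hbt⟩ := IsLocalization.surj (Algebra.algebraMapSubmonoid S' p'.primeCompl) b
    simp only at hbt
    have hb' : b' ∈ q' := by
      rw [← hx'q'c, Ideal.mem_comap, ← hbt]
      exact Ideal.mul_mem_right _ _ hb
    obtain ⟨s', hs', n, hn⟩ := fibre_min_of_etale q q' hb'
    have htunit : IsUnit (algebraMap S' C t) :=
      IsLocalization.map_units C t
    refine ⟨algebraMap S' C s' * algebraMap S' C t ^ n, ?_, n, ?_⟩
    · intro hmem
      rcases (Ideal.IsPrime.mem_or_mem inferInstance hmem) with h1 | h1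
      · apply hs'
        rw [← hx'q'c]
        exact h1
      · exact (Ideal.IsPrime.ne_top inferInstance)
          (Ideal.eq_top_of_isUnit_mem _ h1 (htunit.pow n))
    · have e : algebraMap S' C s' * algebraMap S' C t ^ n * b ^ n =
          algebraMap S' C (s' * b' ^ n) := by
        rw [map_mul, map_pow, ← hbt]; ring
      rw [e]
      have h2 : (q.map (algebraMap S S')).map (algebraMap S' C) = q.map (algebraMap S C) := by
        rw [Ideal.map_map]; rfl
      rw [← h2]
      exact Ideal.mem_map_of_mem _ hn
  have hW1 : W C x' (C ⊗[S] (N ⊗[R] M)) := W_baseChange_of_flat (N ⊗[R] M) q x' hx'qc hmin h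
  -- rewrite the module
  let e₁ : (C ⊗[S] N) ⊗[R] M ≃ₗ[C] C ⊗[S] (N ⊗[R] M) := AlgebraTensorModule.assoc R S C C N M
  let e₂ : (C ⊗[S] N) ⊗[Localization.AtPrime p'] (Localization.AtPrime p' ⊗[R] M) ≃ₗ[C]
      (C ⊗[S] N) ⊗[R] M :=
    AlgebraTensorModule.cancelBaseChange R (Localization.AtPrime p') C (C ⊗[S] N) M
  have hW2 : W C x' ((C ⊗[S] N) ⊗[Localization.AtPrime p'] (Localization.AtPrime p' ⊗[R] M)) :=
    W_of_linearEquiv (e₁.symm ≪≫ₗ e₂.symm) x' hW1
  have hW3 : W (Localization.AtPrime p') (maximalIdeal (Localization.AtPrime p'))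
      (Localization.AtPrime p' ⊗[R] M) :=
    W_of_W_devissage D DA (Localization.AtPrime p' ⊗[R] M) hflA hW2
  have hW4 : W R' p' (R' ⊗[R] M) := by
    have h5 := (W_tensor_localization_iff M p'.primeCompl
      (maximalIdeal (Localization.AtPrime p'))).mp hW3
    have h6 : (maximalIdeal (Localization.AtPrime p')).comap
        (algebraMap R' (Localization.AtPrime p')) = p' :=
      IsLocalization.AtPrime.under_maximalIdeal (Localization.AtPrime p') p'
    rwa [h6] at h5
  exact W_of_W_tensor_of_etale M p p' hp'p.over.symm hW4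

/-- **weakly associated primes descend**: if `N` is flat at `q` and `q` is weakly associated to
`N ⊗_R M`, then `p = q ∩ R` is weakly associated to `M`. -/
theorem W_base_of_W_tensor {R S : Type u} [CommRing R] [CommRing S] [Algebra R S]
    [Algebra.FiniteType R S]
    (N : Type u) [AddCommGroup N] [Module S N] [Module R N] [IsScalarTower R S N]
    [Module.Finite S N]
    (M : Type u) [AddCommGroup M] [Module R M]
    (p : Ideal R) [p.IsPrime] (q : Ideal S) [q.IsPrime] [hqp : q.LiesOver p]
    (hflat : FlatAt R q N) (h : W S q (N ⊗[R] M)) : W R p M := by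
  by_cases hsupp : ∃ x ∈ Module.support (p.Fiber S) (FlatCA.fiberMod p S N),
      x.asIdeal = FlatCA.fiberIdeal p q
  · obtain ⟨R', S', _, _, algRR', algSS', algR'S', algRS', twRR'S', twRSS', p', q', hp', hq', hEtR,
      hEtS, hq'p', hall⟩ := Groth.Agent.S1252.result N p q hsupp
    haveI : Algebra.Etale S S' := hEtS.1
    have hK' := hall (S' ⊗[S] N) (TensorProduct.mk S S' N 1) (TensorProduct.isBaseChange S N S')
    exact W_of_W_tensor_of_etaleNhd N M p q p' q' hEtR hEtS hflat hK' h
  · exfalso
    obtain ⟨g, hgann, hgq⟩ := Groth.Agent.Lib.helper26.DevMain.exists_annihilator_notMem p N q hsupp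
    obtain ⟨y, h1, -⟩ := h
    have hkill : ∀ z : N ⊗[R] M, g • z = 0 := by
      intro z
      induction z using TensorProduct.induction_on with
      | zero => rw [smul_zero]
      | tmul n m =>
        rw [TensorProduct.smul_tmul', Module.mem_annihilator.mp hgann n, TensorProduct.zero_tmul]
      | add a b ha hb => rw [smul_add, ha, hb, add_zero]
    exact h1 g hgq (hkill y)

end Transport

end Groth.Agent.Lib.helper26.WeakAssRG
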