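/-
Helper library (helper26): weakly associated primes of `N ⊗_R M` at points of flatness
(Raynaud–Gruson).
Part 4: a weakly associated prime of `N ⊗_R M` at a point of flatness is an associated point of
its fibre.
-/
import Mathlib
import Groth.Prelude.Def_FlatCA
import Groth.Agent.Lib.Helper26.FtReg4
import Groth.Agent.Lib.Helper24.WeakAssBC

set_option autoImplicit false
set_option linter.style.haveILetI false
set_option linter.unusedSectionVars false

namespace Groth.Agent.Lib.helper26.WeakAssRG

open TensorProduct IsLocalRing FlatCA Groth.Agent.Lib.Helper24.WeakAssBC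
  Groth.Agent.Lib.helper3.UnivInjGlobal Groth.Agent.Lib.helper26.FtReg

universe u

attribute [local instance] Algebra.TensorProduct.rightAlgebra

section Fibre

variable {R S : Type u} [CommRing R] [CommRing S] [Algebra R S] [Algebra.FiniteType R S]
  (N : Type u) [AddCommGroup N] [Module S N] [Module R N] [IsScalarTower R S N]
  [Module.Finite S N] (q : Ideal S) [q.IsPrime]

/-- if `q` is not an associated point of its fibre, some element of `q` is regular on the
localized fibre module. -/
theorem exists_mem_Sg_of_not_ass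
    (hnot : FlatCA.fiberIdeal (q.comap (algebraMap R S)) q ∉
      associatedPrimes ((q.comap (algebraMap R S)).Fiber S)
        (FlatCA.fiberMod (q.comap (algebraMap R S)) S N)) :
    ∃ g ∈ q, g ∈ Sg (R := R) N q := by
  classical
  by_contra hcon
  push Not at hcon
  apply hnot
  set p := q.comap (algebraMap R S) with hp
  haveI : p.IsPrime := Ideal.comap_isPrime _ _
  haveI : q.LiesOver p := ⟨rfl⟩
  haveI : IsNoetherianRing (p.Fiber S) :=
    Algebra.FiniteType.isNoetherianRing p.ResidueField (p.Fiber S)
  haveI : Module.Finite (p.Fiber S) (FlatCA.fiberMod p S N) :=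
    inferInstanceAs (Module.Finite (p.Fiber S) ((p.Fiber S) ⊗[S] N))
  haveI : IsScalarTower S (p.Fiber S) (FlatCA.fiberMod p S N) :=
    inferInstanceAs (IsScalarTower S (p.Fiber S) ((p.Fiber S) ⊗[S] N))
  have hfin : (associatedPrimes (p.Fiber S) (FlatCA.fiberMod p S N)).Finite :=
    associatedPrimes.finite _ _
  let f : Ideal (p.Fiber S) → Ideal S := fun P => P.comap (algebraMap S (p.Fiber S))
  let PP : Finset (Ideal (p.Fiber S)) := hfin.toFinset.filter (fun P => f P ≤ q)
  have hsub : (q : Set S) ⊆ ⋃ P ∈ (PP : Set (Ideal (p.Fiber S))), (f P : Set S) := by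
    intro s hs
    have hns : s ∉ Sg (R := R) N q := hcon s hs
    have hnr : ¬ IsSMulRegular (LocalizedModule q.primeCompl (FlatCA.fiberMod p S N)) s :=
      fun h' => hns (isSMulRegular_of_fiberMod_ft N q s h')
    obtain ⟨P, hP, hsP, hPq⟩ := exists_associatedPrime_of_not_isSMulRegular (Fb := p.Fiber S) q
      (FlatCA.fiberMod p S N) s hnr
    simp only [Set.mem_iUnion]
    refine ⟨P, ?_, hsP⟩
    simp only [PP, Finset.coe_filter, Set.mem_ofPred_eq, Set.Finite.mem_toFinset]
    exact ⟨hP, hPq⟩
  have hprime : ∀ P ∈ PP, P ≠ (⊥ : Ideal (p.Fiber S)) → P ≠ ⊥ → (f P).IsPrime := by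
    intro P hP _ _
    simp only [PP, Finset.mem_filter, Set.Finite.mem_toFinset] at hP
    haveI : P.IsPrime := hP.1.isPrime
    exact Ideal.comap_isPrime _ _
  obtain ⟨P, hPmem, hle⟩ := (Ideal.subset_union_prime ⊥ ⊥ hprime).mp hsub
  simp only [PP, Finset.mem_filter, Set.Finite.mem_toFinset] at hPmem
  obtain ⟨hPass, hc⟩ := hPmem
  haveI hPp : P.IsPrime := hPass.isPrime
  have hfib : FlatCA.fiberIdeal p (P.comap (algebraMap S (p.Fiber S))) = P := fiberIdeal_comap p P
  have heq : P.comap (algebraMap S (p.Fiber S)) = q := le_antisymm hc hle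
  rw [heq] at hfib
  rw [hfib]
  exact hPass

set_option maxHeartbeats 1600000 in
/-- a weakly associated prime of `N ⊗_R M` at a point of flatness is an associated point of its
fibre. -/
theorem ass_fibre_of_W (M : Type u) [AddCommGroup M] [Module R M]
    (hflat : FlatAt R q N) (h : W S q (N ⊗[R] M)) :
    FlatCA.fiberIdeal (q.comap (algebraMap R S)) q ∈
      associatedPrimes ((q.comap (algebraMap R S)).Fiber S)
        (FlatCA.fiberMod (q.comap (algebraMap R S)) S N) := by
  by_contra hnot
  obtain ⟨g, hgq, hgS⟩ := exists_mem_Sg_of_not_ass N q hnot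
  obtain ⟨y, h1, h2⟩ := h
  obtain ⟨s, hs, n, hn⟩ := h2 g hgq
  set F := AlgebraTensorModule.rTensor R M (LocalizedModule.mkLinearMap q.primeCompl N) with hF
  have hF0 : F (g ^ n • y) = 0 := by
    rw [IsLocalizedModule.eq_zero_iff q.primeCompl F]
    refine ⟨⟨s, hs⟩, ?_⟩
    show s • g ^ n • y = 0
    rw [smul_smul]
    exact hn
  have hinj : ∀ z : LocalizedModule q.primeCompl N ⊗[R] M, g • z = 0 → z = 0 := fun z hz =>
    smul_eq_zero_localized_tensor_ft N q hflat g ((mem_Sg N q g).mp hgS) M z hz
  have hpow : ∀ k : ℕ, ∀ z : LocalizedModule q.primeCompl N ⊗[R] M, g ^ k • z = 0 → z = 0 := by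
    intro k
    induction k with
    | zero => intro z hz; rwa [pow_zero, one_smul] at hz
    | succ k ih =>
      intro z hz
      apply ih
      apply hinj
      rw [smul_smul, ← pow_succ']
      exact hz
  have hFy : F y = 0 := by
    apply hpow n
    rw [← map_smul]
    exact hF0
  obtain ⟨⟨t, ht⟩, hty⟩ := (IsLocalizedModule.eq_zero_iff q.primeCompl F).mp hFy
  exact h1 t ht hty

end Fibre

end Groth.Agent.Lib.helper26.WeakAssRG
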