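import Mathlib

/-!
# Tensor product lemmas for the cutting lemma (helper26)

* `lTensor_injective_of_flat_baseChange`: for an exact sequence `0 → D → M → M'' → 0` of
  `R`-modules such that `L ⊗ M''` is flat over the flat `R`-algebra `L`, the map
  `κ ⊗ D → κ ⊗ M` is injective for every `L`-algebra `κ`.
* `nontrivial_tensor_of_free_baseChange`: if `L ⊗ D` is free and nontrivial over `L` then
  `κ ⊗ D` is nontrivial for every nontrivial `L`-algebra `κ`.
* `exists_ne_zero_smul_eq_zero_of_tmul_one_eq_zero`: over a domain, `m ⊗ 1 = 0` in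
  `M ⊗ κ(0)` iff `m` is torsion.
-/

set_option autoImplicit false
set_option linter.style.haveILetI false
set_option linter.unusedSectionVars false
universe u

namespace Groth.Agent.Lib.helper26.Purity

open TensorProduct

section LemmaX

variable {R : Type*} [CommRing R] (L : Type*) [CommRing L] [Algebra R L] [Module.Flat R L]
  (κ : Type*) [CommRing κ] [Algebra L κ] [Algebra R κ] [IsScalarTower R L κ]
  {D M M'' : Type*} [AddCommGroup D] [Module R D] [AddCommGroup M] [Module R M]
  [AddCommGroup M''] [Module R M'']
  (ψ : D →ₗ[R] M) (π : M →ₗ[R] M'')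

theorem lTensor_injective_of_flat_baseChange (hψ : Function.Injective ψ)
    (hπ : Function.Surjective π) (hex : Function.Exact ψ π) [Module.Flat L (L ⊗[R] M'')] :
    Function.Injective (ψ.lTensor κ) := by
  have h1 : Function.Injective (ψ.baseChange L) :=
    Module.Flat.lTensor_preserves_injective_linearMap (M := L) ψ hψ
  have h2 : Function.Surjective (π.baseChange L) := LinearMap.lTensor_surjective L hπ
  have h3 : Function.Exact (ψ.baseChange L) (π.baseChange L) :=
    lTensor_exact L hex hπ
  have h4 := LinearMap.lTensor_injective_of_exact_of_flat (π.baseChange L) h2 (ψ.baseChange L)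
    h1 h3 κ
  let eD := TensorProduct.AlgebraTensorModule.cancelBaseChange R L κ κ D
  let eM := TensorProduct.AlgebraTensorModule.cancelBaseChange R L κ κ M
  have hsq : ∀ x, eM ((ψ.baseChange L).lTensor κ x) = ψ.lTensor κ (eD x) := by
    intro x
    induction x using TensorProduct.induction_on with
    | zero => simp
    | add a b ha hb => simp only [map_add, ha, hb]
    | tmul c y =>
      induction y using TensorProduct.induction_on with
      | zero => simp
      | add a b ha hb =>
        simp only [TensorProduct.tmul_add, map_add, ha, hb]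
      | tmul l d =>
        simp [eD, eM]
  intro x y hxy
  obtain ⟨x', rfl⟩ := eD.surjective x
  obtain ⟨y', rfl⟩ := eD.surjective y
  rw [← hsq, ← hsq] at hxy
  rw [h4 (eM.injective hxy)]

end LemmaX

section LemmaY

variable {R : Type*} [CommRing R] (L : Type*) [CommRing L] [Algebra R L]
  (κ : Type*) [CommRing κ] [Nontrivial κ] [Algebra L κ] [Algebra R κ] [IsScalarTower R L κ]
  (D : Type*) [AddCommGroup D] [Module R D]

theorem nontrivial_tensor_of_free_baseChange [Module.Free L (L ⊗[R] D)]
    [Nontrivial (L ⊗[R] D)] : Nontrivial (κ ⊗[R] D) := by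
  let b := Module.Free.chooseBasis L (L ⊗[R] D)
  let b' := Algebra.TensorProduct.basis κ b
  haveI : Nonempty (Module.Free.ChooseBasisIndex L (L ⊗[R] D)) := b.index_nonempty
  obtain ⟨i⟩ := this
  have hne : b' i ≠ 0 := b'.ne_zero i
  let eD := TensorProduct.AlgebraTensorModule.cancelBaseChange R L κ κ D
  refine ⟨⟨eD (b' i), 0, fun h => hne ?_⟩⟩
  apply eD.injective
  rw [h, map_zero]

end LemmaY

section Torsion

variable {R : Type u} [CommRing R] [IsDomain R] {M : Type*} [AddCommGroup M] [Module R M]

/-- over a domain, `m ⊗ 1 = 0` in `M ⊗ κ(0)` implies that `m` is torsion. -/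
theorem exists_ne_zero_smul_eq_zero_of_tmul_one_eq_zero (m : M)
    (h : m ⊗ₜ[R] (1 : (⊥ : Ideal R).ResidueField) = 0) : ∃ r : R, r ≠ 0 ∧ r • m = 0 := by
  have hbc : IsBaseChange (⊥ : Ideal R).ResidueField
      (TensorProduct.mk R (⊥ : Ideal R).ResidueField M 1) :=
    TensorProduct.isBaseChange R M (⊥ : Ideal R).ResidueField
  haveI : IsLocalizedModule (nonZeroDivisors R)
      (TensorProduct.mk R (⊥ : Ideal R).ResidueField M 1) :=
    (isLocalizedModule_iff_isBaseChange (nonZeroDivisors R) (⊥ : Ideal R).ResidueField _).2 hbc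
  have h0 : TensorProduct.mk R (⊥ : Ideal R).ResidueField M 1 m = 0 := by
    rw [TensorProduct.mk_apply]
    have := congrArg (TensorProduct.comm R M (⊥ : Ideal R).ResidueField) h
    rwa [TensorProduct.comm_tmul, map_zero] at this
  obtain ⟨c, hc⟩ := (IsLocalizedModule.eq_zero_iff (nonZeroDivisors R)
    (TensorProduct.mk R (⊥ : Ideal R).ResidueField M 1)).1 h0
  exact ⟨c, nonZeroDivisors.ne_zero c.2, hc⟩

end Torsion

end Groth.Agent.Lib.helper26.Purity
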