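import Mathlib
import Groth.Prelude.Def_FlatCA
import Groth.Agent.Lib.Helper26.Purity1
import Groth.Agent.Lib.Helper26.Purity5
import Groth.Agent.Lib.Helper26.Purity19
import Groth.Agent.Lib.Helper3.UnivInjGlobal1
import Groth.Agent.Lib.Helper3.UnivInjGlobal2

/-!
# Associated points of the generic fibre are honest associated primes (helper26)

* `exists_elt_ann_of_fiberIdeal_mem_associatedPrimes`: when the fibre ring is Noetherian, an
  associated point of the fibre module over `t'` is the "annihilator modulo `t'`" of an element.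
* `exists_elt_ann_eq_of_fiberIdeal_bot_mem_associatedPrimes`: over a Noetherian domain `R`, an
  associated point `P` of the generic fibre of `M` is the annihilator of an element of `M`.
* `exists_prime_ge_of_tmul_ne_zero`: an element `n` killed by `P` whose image in the fibre over
  `τ` is nonzero gives an associated point of the fibre over `τ` containing `P`.
-/

set_option autoImplicit false
set_option linter.style.haveILetI false
set_option linter.unusedSectionVars false
universe u

namespace Groth.Agent.Lib.helper26.Purity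

open TensorProduct FlatCA

attribute [local instance] Algebra.TensorProduct.rightAlgebra

section Ann

variable {R S : Type u} [CommRing R] [CommRing S] [Algebra R S] (N : Type u) [AddCommGroup N]
  [Module S N] [Module R N] [IsScalarTower R S N]

/-- exact-annihilator form of `exists_elt_of_fiberIdeal_mem_associatedPrimes`. -/
theorem exists_elt_ann_of_fiberIdeal_mem_associatedPrimes (t' : Ideal R) [t'.IsPrime]
    (P : Ideal S) [P.IsPrime] [P.LiesOver t'] [IsNoetherianRing (t'.Fiber S)]
    (hass : fiberIdeal t' P ∈ associatedPrimes (t'.Fiber S) (fiberMod t' S N)) :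
    ∃ n : N, ∀ b : S, b ∈ P ↔ (b • n) ⊗ₜ[R] (1 : t'.ResidueField) = 0 := by
  obtain ⟨-, x, hx⟩ := isAssociatedPrime_iff.1 hass
  let ι := (Algebra.TensorProduct.includeRight (R := R) (A := t'.ResidueField) (B := S)).toRingHom
  let e := Groth.Agent.Lib.helper3.UnivInjGlobal.e0 (R := R) (S := S) t'.ResidueField N
  have hmemP : ∀ b : S, b ∈ P ↔ b • (e x) = 0 := by
    intro b
    rw [← comap_fiberIdeal t' P, Ideal.mem_comap, hx]
    rw [Submodule.mem_colon_singleton, Submodule.mem_bot]
    haveI : IsScalarTower S (t'.Fiber S) (fiberMod t' S N) :=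
      inferInstanceAs (IsScalarTower S (t'.Fiber S) ((t'.Fiber S) ⊗[S] N))
    have h1 : ι b • x = b • x := algebraMap_smul (t'.Fiber S) b x
    have h2 : e (b • x) = b • e x := map_smul e _ _
    constructor
    · intro h
      rw [← h2, ← h1, h]
      exact map_zero e
    · intro h
      rw [h1]
      apply e.injective
      rw [h2, h]
      exact (map_zero e).symm
  obtain ⟨s, hs, n, hn⟩ := exists_smul_eq_tmul_one t' N (e x)
  refine ⟨n, fun b => ?_⟩
  rw [hmemP b]
  have h2 : (b • n) ⊗ₜ[R] (1 : t'.ResidueField) = s • (b • e x) := by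
    rw [smul_comm, hn, TensorProduct.smul_tmul']
  rw [h2]
  constructor
  · intro h
    rw [h, smul_zero]
  · intro h
    exact smul_tensor_residueField_injective t' N s hs _ h

end Ann

section Generic

variable {R S : Type u} [CommRing R] [IsDomain R] [IsNoetherianRing R] [CommRing S] [Algebra R S]
  [Algebra.FiniteType R S] (M : Type u) [AddCommGroup M] [Module S M] [Module R M]
  [IsScalarTower R S M]

/-- over a Noetherian domain, an associated point of the generic fibre of `M` is the annihilator
of an element of `M`. -/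
theorem exists_elt_ann_eq_of_fiberIdeal_bot_mem_associatedPrimes (P : Ideal S) [P.IsPrime]
    [P.LiesOver (⊥ : Ideal R)]
    (hass : fiberIdeal (⊥ : Ideal R) P ∈
      associatedPrimes ((⊥ : Ideal R).Fiber S) (fiberMod (⊥ : Ideal R) S M)) :
    ∃ n : M, ∀ b : S, b ∈ P ↔ b • n = 0 := by
  classical
  haveI : IsNoetherianRing S := Algebra.FiniteType.isNoetherianRing R S
  haveI : IsNoetherianRing ((⊥ : Ideal R).Fiber S) :=
    Algebra.FiniteType.isNoetherianRing (⊥ : Ideal R).ResidueField _
  obtain ⟨n, hn⟩ := exists_elt_ann_of_fiberIdeal_mem_associatedPrimes M (⊥ : Ideal R) P hass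
  -- each element of `P` kills `n` up to a nonzero scalar
  have h1 : ∀ b ∈ P, ∃ r : R, r ≠ 0 ∧ r • b • n = 0 := fun b hb =>
    exists_ne_zero_smul_eq_zero_of_tmul_one_eq_zero _ ((hn b).1 hb)
  obtain ⟨s, hs⟩ := (isNoetherianRing_iff_ideal_fg S).1 inferInstance P
  have h2 : ∃ r : R, r ≠ 0 ∧ ∀ b ∈ s, r • b • n = 0 := by
    have hsP : ∀ b ∈ s, b ∈ P := fun b hb => hs ▸ Ideal.subset_span hb
    clear hs
    induction s using Finset.induction_on with
    | empty => exact ⟨1, one_ne_zero, fun b hb => absurd hb (Finset.notMem_empty b)⟩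
    | insert a s ha ih =>
      obtain ⟨r₁, hr₁, h₁⟩ := ih fun b hb => hsP b (Finset.mem_insert_of_mem hb)
      obtain ⟨r₂, hr₂, h₂⟩ := h1 a (hsP a (Finset.mem_insert_self a s))
      refine ⟨r₁ * r₂, mul_ne_zero hr₁ hr₂, fun b hb => ?_⟩
      rcases Finset.mem_insert.1 hb with rfl | hb
      · rw [mul_smul, h₂, smul_zero]
      · rw [mul_comm, mul_smul, h₁ b hb, smul_zero]
  obtain ⟨r, hr, hrs⟩ := h2
  have h3 : ∀ b ∈ P, r • b • n = 0 := by
    intro b hb
    rw [← hs] at hb
    refine Submodule.span_induction (p := fun b _ => r • b • n = 0) hrs ?_ ?_ ?_ hb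
    · rw [zero_smul, smul_zero]
    · intro x y _ _ hx hy
      rw [add_smul, smul_add, hx, hy, add_zero]
    · intro a x _ hx
      rw [smul_eq_mul, mul_smul, smul_comm r a, hx, smul_zero]
  refine ⟨r • n, fun b => ⟨fun hb => ?_, fun hb => ?_⟩⟩
  · rw [smul_comm]
    exact h3 b hb
  · rw [hn b]
    have hr' : r ∉ (⊥ : Ideal R) := fun h => hr ((Ideal.mem_bot).1 h)
    apply smul_tensor_residueField_injective (⊥ : Ideal R) M r hr'
    rw [TensorProduct.smul_tmul', smul_comm, hb, TensorProduct.zero_tmul]

end Generic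

section Specialize

variable {R S : Type u} [CommRing R] [CommRing S] [Algebra R S] (M : Type u) [AddCommGroup M]
  [Module S M] [Module R M] [IsScalarTower R S M]

/-- an element killed by `P` whose image in the fibre over `τ` is nonzero gives an associated
point of the fibre over `τ` containing `P`. -/
theorem exists_prime_ge_of_tmul_ne_zero (τ : Ideal R) [τ.IsPrime] [IsNoetherianRing (τ.Fiber S)]
    (P : Ideal S) (n : M) (hP : ∀ b ∈ P, b • n = 0)
    (hne : (1 : τ.ResidueField) ⊗ₜ[R] n ≠ 0) :
    ∃ P₁ : Ideal S, P₁.IsPrime ∧ P ≤ P₁ ∧ P₁.LiesOver τ ∧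
      fiberIdeal τ P₁ ∈ associatedPrimes (τ.Fiber S) (fiberMod τ S M) := by
  let e := Groth.Agent.Lib.helper3.UnivInjGlobal.e0 (R := R) (S := S) τ.ResidueField M
  let z : fiberMod τ S M := (1 : τ.Fiber S) ⊗ₜ[S] n
  have hez : e z = n ⊗ₜ[R] (1 : τ.ResidueField) := by
    simp [e, z, Groth.Agent.Lib.helper3.UnivInjGlobal.e0,
      Groth.Agent.Lib.helper3.UnivInjGlobal.commS, Algebra.TensorProduct.one_def]
  have hz : z ≠ 0 := by
    intro h
    apply hne
    have h1 : n ⊗ₜ[R] (1 : τ.ResidueField) = 0 := by
      rw [← hez, h]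
      exact map_zero e
    have := congrArg (TensorProduct.comm R M τ.ResidueField) h1
    rwa [TensorProduct.comm_tmul, map_zero] at this
  obtain ⟨𝔓, h𝔓, hle⟩ := exists_le_isAssociatedPrime_of_isNoetherianRing (τ.Fiber S) z hz
  haveI : 𝔓.IsPrime := h𝔓.isPrime
  refine ⟨𝔓.comap (Algebra.TensorProduct.includeRight (R := R) (A := τ.ResidueField)
    (B := S)).toRingHom, Ideal.comap_isPrime _ _, ?_,
    Groth.Agent.Lib.helper3.UnivInjGlobal.comap_liesOver τ 𝔓, ?_⟩
  · intro b hb
    rw [Ideal.mem_comap]
    apply hle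
    rw [Submodule.mem_colon_singleton, Submodule.mem_bot]
    show ((Algebra.TensorProduct.includeRight (R := R) (A := τ.ResidueField) (B := S)) b) •
      ((1 : τ.Fiber S) ⊗ₜ[S] n : (τ.Fiber S) ⊗[S] M) = 0
    rw [TensorProduct.smul_tmul', smul_eq_mul, mul_one]
    have h1 : (Algebra.TensorProduct.includeRight (R := R) (A := τ.ResidueField) (B := S)) b =
        b • (1 : τ.Fiber S) := by
      rw [Algebra.smul_def, mul_one]
      rfl
    rw [h1, TensorProduct.smul_tmul, hP b hb, TensorProduct.tmul_zero]
  · rw [Groth.Agent.Lib.helper3.UnivInjGlobal.fiberIdeal_comap (S := S) τ 𝔓]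
    exact h𝔓

end Specialize

end Groth.Agent.Lib.helper26.Purity
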