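/-
Helper library (helper26): weakly associated primes of `N ⊗_R M` at points of flatness
(Raynaud–Gruson).
Part 5: preparations for the converse: vanishing in the fibre, adjusting witnesses of weakly
associated primes, finite generation of a prime modulo the base prime.
-/
import Mathlib
import Groth.Prelude.Def_FlatCA
import Groth.Agent.Lib.Helper24.WeakAssBC
import Groth.Agent.Lib.Helper26.Purity5

set_option autoImplicit false
set_option linter.style.haveILetI false
set_option linter.unusedSectionVars false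

namespace Groth.Agent.Lib.helper26.WeakAssRG

open TensorProduct IsLocalRing FlatCA Groth.Agent.Lib.Helper24.WeakAssBC

universe u

section LemmaK

variable {R : Type u} [CommRing R] (p : Ideal R) [p.IsPrime] {X : Type u} [AddCommGroup X]
  [Module R X]

/-- vanishing in the fibre over `p`: `x ⊗ 1 = 0` in `X ⊗ κ(p)` means `a x ∈ pX` for some
`a ∉ p`. -/
theorem exists_smul_mem_smul_top_of_tmul_one_eq_zero (x : X)
    (h : x ⊗ₜ[R] (1 : p.ResidueField) = 0) :
    ∃ a : R, a ∉ p ∧ a • x ∈ (p • ⊤ : Submodule R X) := by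
  have hbc : IsBaseChange p.ResidueField
      (TensorProduct.mk (R ⧸ p) p.ResidueField ((R ⧸ p) ⊗[R] X) 1) :=
    TensorProduct.isBaseChange (R ⧸ p) ((R ⧸ p) ⊗[R] X) p.ResidueField
  haveI : IsLocalizedModule (nonZeroDivisors (R ⧸ p))
      (TensorProduct.mk (R ⧸ p) p.ResidueField ((R ⧸ p) ⊗[R] X) 1) :=
    (isLocalizedModule_iff_isBaseChange (nonZeroDivisors (R ⧸ p)) p.ResidueField _).2 hbc
  let e := AlgebraTensorModule.cancelBaseChange R (R ⧸ p) p.ResidueField p.ResidueField X
  have h0 : TensorProduct.mk (R ⧸ p) p.ResidueField ((R ⧸ p) ⊗[R] X) 1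
      ((1 : R ⧸ p) ⊗ₜ[R] x) = 0 := by
    apply e.injective
    rw [map_zero, TensorProduct.mk_apply, AlgebraTensorModule.cancelBaseChange_tmul, one_smul]
    have := congrArg (TensorProduct.comm R X p.ResidueField) h
    rwa [TensorProduct.comm_tmul, map_zero] at this
  obtain ⟨c, hc⟩ := (IsLocalizedModule.eq_zero_iff (nonZeroDivisors (R ⧸ p))
    (TensorProduct.mk (R ⧸ p) p.ResidueField ((R ⧸ p) ⊗[R] X) 1)).1 h0
  obtain ⟨a, ha⟩ := Ideal.Quotient.mk_surjective (c : R ⧸ p)
  have hap : a ∉ p := by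
    intro hmem
    have h1 : (c : R ⧸ p) = 0 := by rw [← ha]; exact Ideal.Quotient.eq_zero_iff_mem.2 hmem
    exact nonZeroDivisors.coe_ne_zero c h1
  refine ⟨a, hap, ?_⟩
  have h2 : (Ideal.Quotient.mk p a) ⊗ₜ[R] x = (0 : (R ⧸ p) ⊗[R] X) := by
    have h3 : (c : R ⧸ p) • ((1 : R ⧸ p) ⊗ₜ[R] x) = 0 := hc
    rwa [TensorProduct.smul_tmul', smul_eq_mul, mul_one, ← ha] at h3
  have h4 := congrArg (TensorProduct.quotTensorEquivQuotSMul X p) h2
  rw [TensorProduct.quotTensorEquivQuotSMul_mk_tmul, map_zero, Submodule.Quotient.mk_eq_zero] at h4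
  exact h4

/-- an element of `pX` lies in `I X` for a finitely generated ideal `I ⊆ p`. -/
theorem exists_finset_mem_span_smul_top (I : Ideal R) (x : X)
    (hx : x ∈ (I • ⊤ : Submodule R X)) :
    ∃ s : Finset R, (↑s ⊆ (I : Set R)) ∧ x ∈ (Ideal.span (s : Set R) • ⊤ : Submodule R X) := by
  classical
  refine Submodule.smul_induction_on hx ?_ ?_
  · intro r hr n _
    refine ⟨{r}, by simpa using hr, ?_⟩
    apply Submodule.smul_mem_smul _ Submodule.mem_top
    apply Ideal.subset_span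
    simp
  · rintro a b ⟨s, hs, has⟩ ⟨t, ht, hbt⟩
    refine ⟨s ∪ t, by simpa using ⟨hs, ht⟩, ?_⟩
    have h1 : (Ideal.span (s : Set R) • ⊤ : Submodule R X) ≤
        Ideal.span ((s ∪ t : Finset R) : Set R) • ⊤ :=
      Submodule.smul_mono_left (Ideal.span_mono (by simp))
    have h2 : (Ideal.span (t : Set R) • ⊤ : Submodule R X) ≤
        Ideal.span ((s ∪ t : Finset R) : Set R) • ⊤ :=
      Submodule.smul_mono_left (Ideal.span_mono (by simp))
    exact Submodule.add_mem _ (h1 has) (h2 hbt)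

/-- if `I` kills `m`, then `(I X) ⊗ m = 0`. -/
theorem tmul_eq_zero_of_mem_smul_top {M : Type u} [AddCommGroup M] [Module R M] (I : Ideal R)
    (m : M) (hI : ∀ r ∈ I, r • m = 0) (x : X) (hx : x ∈ (I • ⊤ : Submodule R X)) :
    x ⊗ₜ[R] m = 0 := by
  refine Submodule.smul_induction_on hx ?_ ?_
  · intro r hr n _
    rw [TensorProduct.smul_tmul, hI r hr, TensorProduct.tmul_zero]
  · intro a b ha hb
    rw [TensorProduct.add_tmul, ha, hb, add_zero]

end LemmaK

section ClaimE

variable {R : Type u} [CommRing R] (p : Ideal R) [hp : p.IsPrime] {M : Type u} [AddCommGroup M]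
  [Module R M]

/-- a witness of `p ∈ weakAss M` can be modified so as to be killed by finitely many given
elements of `p`. -/
theorem exists_witness_killed (h : W R p M) (s : Finset R) (hs : ↑s ⊆ (p : Set R)) :
    ∃ m : M, (∀ a : R, a ∉ p → a • m ≠ 0) ∧
      (∀ b ∈ p, ∃ c : R, c ∉ p ∧ ∃ k : ℕ, (c * b ^ k) • m = 0) ∧ ∀ π ∈ s, π • m = 0 := by
  classical
  induction s using Finset.induction_on with
  | empty =>
    obtain ⟨m, h1, h2⟩ := h
    exact ⟨m, h1, h2, fun π hπ => absurd hπ (Finset.notMem_empty π)⟩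
  | insert π s hπs ih =>
    obtain ⟨m, h1, h2, h3⟩ := ih (fun x hx => hs (Finset.mem_insert_of_mem hx))
    have hπp : π ∈ p := hs (Finset.mem_insert_self π s)
    have hex : ∃ k : ℕ, ∃ c : R, c ∉ p ∧ (c * π ^ k) • m = 0 := by
      obtain ⟨c, hc, k, hk⟩ := h2 π hπp
      exact ⟨k, c, hc, hk⟩
    have hk0 : Nat.find hex ≠ 0 := by
      intro h0
      obtain ⟨c, hc, hck⟩ := Nat.find_spec hex
      rw [h0, pow_zero, mul_one] at hck
      exact h1 c hc hck
    obtain ⟨k, hk⟩ := Nat.exists_eq_succ_of_ne_zero hk0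
    obtain ⟨c, hc, hck⟩ := Nat.find_spec hex
    rw [hk] at hck
    have hmin : ∀ a : R, a ∉ p → (a * π ^ k) • m ≠ 0 := by
      intro a ha h0
      have : Nat.find hex ≤ k := Nat.find_min' hex ⟨a, ha, h0⟩
      omega
    refine ⟨(c * π ^ k) • m, ?_, ?_, ?_⟩
    · intro a ha h0
      rw [smul_smul, ← mul_assoc] at h0
      exact hmin (a * c) (fun hm => (hp.mem_or_mem hm).elim ha hc) h0
    · intro b hb
      obtain ⟨c', hc', k', hk'⟩ := h2 b hb
      refine ⟨c', hc', k', ?_⟩
      rw [smul_comm, hk', smul_zero]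
    · intro π' hπ'
      rcases Finset.mem_insert.1 hπ' with rfl | hπ'
      · rw [smul_smul]
        have : π' * (c * π' ^ k) = c * π' ^ (k + 1) := by ring
        rw [this]
        exact hck
      · rw [smul_comm, h3 π' hπ', smul_zero]

end ClaimE

section LemmaG

variable {R S : Type u} [CommRing R] [CommRing S] [Algebra R S] (p : Ideal R) [p.IsPrime]

/-- clearing denominators in the fibre ring. -/
theorem exists_smul_eq_one_tmul (c : p.Fiber S) :
    ∃ a : R, a ∉ p ∧ ∃ s : S, a • c = (1 : p.ResidueField) ⊗ₜ[R] s := by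
  obtain ⟨a, ha, s, hs⟩ := Groth.Agent.Lib.helper26.Purity.exists_smul_eq_tmul_one p S
    (TensorProduct.comm R p.ResidueField S c)
  refine ⟨a, ha, s, ?_⟩
  have := congrArg (TensorProduct.comm R p.ResidueField S).symm hs
  rwa [map_smul, LinearEquiv.symm_apply_apply, TensorProduct.comm_symm_tmul] at this

/-- a prime `q` over `p` is, up to elements outside `p`, generated by finitely many elements
modulo `pS` (the fibre ring being Noetherian). -/
theorem exists_finset_span_sup (q : Ideal S) [IsNoetherianRing (p.Fiber S)] :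
    ∃ G : Finset S, (↑G ⊆ (q : Set S)) ∧ ∀ b ∈ q, ∃ a : R, a ∉ p ∧
      a • b ∈ Ideal.span (G : Set S) ⊔ p.map (algebraMap R S) := by
  classical
  let ι : S →ₐ[R] p.Fiber S :=
    Algebra.TensorProduct.includeRight (R := R) (A := p.ResidueField) (B := S)
  have hι : ∀ x : S, ι x = (1 : p.ResidueField) ⊗ₜ[R] x := fun x => rfl
  have hιsmul : ∀ (a : R) (x : S), ι (a • x) = a • ι x := by
    intro a x
    rw [hι, hι, TensorProduct.tmul_smul]
  have hfg : (Submodule.span (p.Fiber S) (ι '' (q : Set S))).FG :=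
    IsNoetherian.noetherian _
  obtain ⟨T, hT, hspan⟩ := (Submodule.fg_span_iff_fg_span_finset_subset _).mp hfg
  obtain ⟨G, hG, rfl⟩ := Finset.subset_set_image_iff.mp hT
  refine ⟨G, hG, ?_⟩
  let J : Ideal (p.Fiber S) :=
    { carrier := {c | ∃ a : R, a ∉ p ∧ ∃ x ∈ Ideal.span (G : Set S), a • c = ι x}
      add_mem' := by
        rintro c₁ c₂ ⟨a₁, ha₁, x₁, hx₁, h₁⟩ ⟨a₂, ha₂, x₂, hx₂, h₂⟩
        refine ⟨a₁ * a₂, fun hm => (Ideal.IsPrime.mem_or_mem inferInstance hm).elim ha₁ ha₂,
          a₂ • x₁ + a₁ • x₂, ?_, ?_⟩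
        · exact Ideal.add_mem _ (Submodule.smul_of_tower_mem _ a₂ hx₁)
            (Submodule.smul_of_tower_mem _ a₁ hx₂)
        · rw [smul_add, map_add, hιsmul, hιsmul, ← h₁, ← h₂, smul_smul, smul_smul, mul_comm a₂ a₁]
      zero_mem' := ⟨1, fun hm => (Ideal.IsPrime.ne_top inferInstance)
        ((Ideal.eq_top_iff_one p).2 hm), 0, Ideal.zero_mem _, by simp⟩
      smul_mem' := by
        rintro d c ⟨a, ha, x, hx, hax⟩
        obtain ⟨a', ha', s, hs⟩ := exists_smul_eq_one_tmul p d
        refine ⟨a' * a, fun hm => (Ideal.IsPrime.mem_or_mem inferInstance hm).elim ha' ha,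
          s * x, Ideal.mul_mem_left _ s hx, ?_⟩
        rw [smul_eq_mul, mul_smul_mul_comm, hs, hax, map_mul, hι s] }
  have hle : Submodule.span (p.Fiber S) (ι '' (q : Set S)) ≤ J := by
    rw [hspan]
    apply Submodule.span_le.mpr
    intro t ht
    rw [Finset.coe_image] at ht
    obtain ⟨g, hg, rfl⟩ := ht
    exact ⟨1, fun hm => (Ideal.IsPrime.ne_top inferInstance) ((Ideal.eq_top_iff_one p).2 hm), g,
      Ideal.subset_span hg, one_smul _ _⟩
  intro b hb
  obtain ⟨a, ha, x, hx, hax⟩ := hle (Submodule.subset_span ⟨b, hb, rfl⟩)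
  have h0 : (a • b - x) ⊗ₜ[R] (1 : p.ResidueField) = 0 := by
    have h1 : ι (a • b - x) = 0 := by rw [map_sub, hιsmul, hax, sub_self]
    rw [hι] at h1
    have := congrArg (TensorProduct.comm R p.ResidueField S) h1
    rwa [TensorProduct.comm_tmul, map_zero] at this
  obtain ⟨a', ha', hmem⟩ := exists_smul_mem_smul_top_of_tmul_one_eq_zero p (a • b - x) h0
  refine ⟨a' * a, fun hm => (Ideal.IsPrime.mem_or_mem inferInstance hm).elim ha' ha, ?_⟩
  have e : (a' * a) • b = a' • x + a' • (a • b - x) := by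
    rw [mul_smul, smul_sub]; abel
  rw [e]
  apply Ideal.add_mem
  · exact Ideal.mem_sup_left (Submodule.smul_of_tower_mem _ a' hx)
  · apply Ideal.mem_sup_right
    rw [Ideal.smul_top_eq_map] at hmem
    exact hmem

end LemmaG

end Groth.Agent.Lib.helper26.WeakAssRG
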