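/-
Helper library (helper26): weakly associated primes of `N ⊗_R M` at points of flatness
(Raynaud–Gruson).
Part 6: the converse: if `p` is weakly associated to `M` and `q` is an associated point of the
fibre of `N` over `p`, with `N` flat at `q`, then `q` is weakly associated to `N ⊗_R M`.
-/
import Mathlib
import Groth.Prelude.Def_FlatCA
import Groth.Agent.Lib.Helper26.WeakAssRG5
import Groth.Agent.Lib.Helper26.Purity20

set_option autoImplicit false
set_option linter.style.haveILetI false
set_option linter.unusedSectionVars false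

namespace Groth.Agent.Lib.helper26.WeakAssRG

open TensorProduct IsLocalRing FlatCA Groth.Agent.Lib.Helper24.WeakAssBC

universe u

section LemmaF

variable {R : Type u} [CommRing R] (p : Ideal R) [p.IsPrime] {X M : Type u} [AddCommGroup X]
  [Module R X] [AddCommGroup M] [Module R M]

/-- for a flat module `X` and an element `m` whose annihilator lies in `p`: `x ⊗ m = 0` implies
`x ⊗ 1 = 0` in `X ⊗ κ(p)`. -/
theorem tmul_one_eq_zero_of_tmul_eq_zero [Module.Flat R X] (m : M)
    (hm : ∀ a : R, a ∉ p → a • m ≠ 0) (x : X) (hx : x ⊗ₜ[R] m = 0) :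
    x ⊗ₜ[R] (1 : p.ResidueField) = 0 := by
  let φ : R →ₗ[R] M := LinearMap.toSpanSingleton R M m
  let 𝔞 : Ideal R := LinearMap.ker φ
  let ι : (R ⧸ 𝔞) →ₗ[R] M := Submodule.liftQ 𝔞 φ le_rfl
  have hι : Function.Injective ι := by
    rw [← LinearMap.ker_eq_bot]
    exact Submodule.ker_liftQ_eq_bot _ _ _ le_rfl
  have hι' : Function.Injective (ι.lTensor X) :=
    Module.Flat.lTensor_preserves_injective_linearMap ι hι
  have h2 : (ι.lTensor X) (x ⊗ₜ[R] (Ideal.Quotient.mk 𝔞 1)) = 0 := by
    rw [LinearMap.lTensor_tmul]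
    have : ι (Ideal.Quotient.mk 𝔞 1) = m := by
      show (Submodule.liftQ 𝔞 φ le_rfl) (Submodule.Quotient.mk 1) = m
      rw [Submodule.liftQ_apply]
      simp [φ]
    rw [this, hx]
  have h3 : x ⊗ₜ[R] (Ideal.Quotient.mk 𝔞 (1 : R)) = (0 : X ⊗[R] (R ⧸ 𝔞)) :=
    hι' (h2.trans (map_zero _).symm)
  have h𝔞 : 𝔞 ≤ LinearMap.ker (Algebra.linearMap R p.ResidueField) := by
    intro r hr
    have hr' : r • m = 0 := by simpa [𝔞, φ] using hr
    rw [LinearMap.mem_ker, Algebra.linearMap_apply, Ideal.algebraMap_residueField_eq_zero]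
    by_contra hrp
    exact hm r hrp hr'
  let ψ : (R ⧸ 𝔞) →ₗ[R] p.ResidueField :=
    Submodule.liftQ 𝔞 (Algebra.linearMap R p.ResidueField) h𝔞
  have h4 := congrArg (ψ.lTensor X) h3
  rw [LinearMap.lTensor_tmul, map_zero] at h4
  have h5 : ψ (Ideal.Quotient.mk 𝔞 1) = 1 := by
    show (Submodule.liftQ 𝔞 (Algebra.linearMap R p.ResidueField) h𝔞) (Submodule.Quotient.mk 1) = 1
    rw [Submodule.liftQ_apply, Algebra.linearMap_apply, map_one]
  rwa [h5] at h4

end LemmaF

section Converse

variable {R S : Type u} [CommRing R] [CommRing S] [Algebra R S] [Algebra.FiniteType R S]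
  (N : Type u) [AddCommGroup N] [Module S N] [Module R N] [IsScalarTower R S N]
  [Module.Finite S N] (M : Type u) [AddCommGroup M] [Module R M]
  (p : Ideal R) [p.IsPrime] (q : Ideal S) [q.IsPrime] [hqp : q.LiesOver p]

/-- the elements of `G` send `n` into `I N` up to elements outside `p`, for one finitely
generated ideal `I ⊆ p`. -/
theorem exists_finset_forall_mem (n : N) (G : Finset S)
    (hG : ∀ g ∈ G, (g • n) ⊗ₜ[R] (1 : p.ResidueField) = 0) :
    ∃ s : Finset R, (↑s ⊆ (p : Set R)) ∧ ∀ g ∈ G, ∃ a : R, a ∉ p ∧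
      a • g • n ∈ (Ideal.span (s : Set R) • ⊤ : Submodule R N) := by
  classical
  induction G using Finset.induction_on with
  | empty => exact ⟨∅, by simp, fun g hg => absurd hg (Finset.notMem_empty g)⟩
  | insert g G hgG ih =>
    obtain ⟨s, hs, hsG⟩ := ih (fun g' hg' => hG g' (Finset.mem_insert_of_mem hg'))
    obtain ⟨a, ha, hmem⟩ := exists_smul_mem_smul_top_of_tmul_one_eq_zero p (g • n)
      (hG g (Finset.mem_insert_self g G))
    obtain ⟨t, ht, htmem⟩ := exists_finset_mem_span_smul_top p (a • g • n) hmem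
    refine ⟨s ∪ t, by simpa using ⟨hs, ht⟩, ?_⟩
    have h1 : (Ideal.span (s : Set R) • ⊤ : Submodule R N) ≤
        Ideal.span ((s ∪ t : Finset R) : Set R) • ⊤ :=
      Submodule.smul_mono_left (Ideal.span_mono (by simp))
    have h2 : (Ideal.span (t : Set R) • ⊤ : Submodule R N) ≤
        Ideal.span ((s ∪ t : Finset R) : Set R) • ⊤ :=
      Submodule.smul_mono_left (Ideal.span_mono (by simp))
    intro g' hg'
    rcases Finset.mem_insert.1 hg' with rfl | hg'
    · exact ⟨a, ha, h2 htmem⟩
    · obtain ⟨a', ha', hmem'⟩ := hsG g' hg'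
      exact ⟨a', ha', h1 hmem'⟩

set_option maxHeartbeats 3200000 in
/-- **the converse**: if `p` is weakly associated to `M` and `q` is an associated point of the
fibre of `N` over `p`, with `N` flat at `q`, then `q` is weakly associated to `N ⊗_R M`. -/
theorem W_tensor_of_W_of_ass (hflat : FlatAt R q N) (hW : W R p M)
    (hass : FlatCA.fiberIdeal p q ∈ associatedPrimes (p.Fiber S) (FlatCA.fiberMod p S N)) :
    W S q (N ⊗[R] M) := by
  classical
  haveI : IsNoetherianRing (p.Fiber S) :=
    Algebra.FiniteType.isNoetherianRing p.ResidueField (p.Fiber S)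
  obtain ⟨n, hn⟩ :=
    Groth.Agent.Lib.helper26.Purity.exists_elt_ann_of_fiberIdeal_mem_associatedPrimes N p q hass
  obtain ⟨G, hGq, hG⟩ := exists_finset_span_sup p q
  obtain ⟨s, hs, hsG⟩ := exists_finset_forall_mem N p n G (fun g hg => (hn g).mp (hGq hg))
  obtain ⟨m, hm1, hm2, hm3⟩ := exists_witness_killed p hW s hs
  have hm3' : ∀ r ∈ Ideal.span (s : Set R), r • m = 0 := by
    intro r hr
    refine Submodule.span_induction (p := fun r _ => r • m = 0) hm3 ?_ ?_ ?_ hr
    · rw [zero_smul]
    · intro x y _ _ hx hy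
      rw [add_smul, hx, hy, add_zero]
    · intro a x _ hx
      rw [smul_eq_mul, mul_smul, hx, smul_zero]
  have hcq : ∀ c : R, c ∉ p → algebraMap R S c ∉ q := by
    intro c hc hmem
    apply hc
    rw [hqp.over]
    exact hmem
  -- the action of `R` through `S`
  have hact : ∀ (r : R), algebraMap R S r • (n ⊗ₜ[R] m) = n ⊗ₜ[R] (r • m) := by
    intro r
    rw [TensorProduct.smul_tmul', algebraMap_smul, TensorProduct.smul_tmul]
  -- (P1)
  have hP1 : ∀ t : S, t ∉ q → t • (n ⊗ₜ[R] m) ≠ 0 := by
    intro t ht h0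
    rw [TensorProduct.smul_tmul'] at h0
    have hflat' : Module.Flat R (LocalizedModule q.primeCompl N) := hflat
    have h1 : (LocalizedModule.mkLinearMap q.primeCompl N (t • n)) ⊗ₜ[R] m = 0 := by
      have := congrArg (AlgebraTensorModule.rTensor R M
        (LocalizedModule.mkLinearMap q.primeCompl N)) h0
      rwa [map_zero] at this
    have h2 := tmul_one_eq_zero_of_tmul_eq_zero p m hm1 _ h1
    have h3 : (AlgebraTensorModule.rTensor R p.ResidueField
        (LocalizedModule.mkLinearMap q.primeCompl N)) ((t • n) ⊗ₜ[R] (1 : p.ResidueField)) = 0 :=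
      h2
    obtain ⟨⟨t', ht'⟩, h4⟩ := (IsLocalizedModule.eq_zero_iff q.primeCompl
      (AlgebraTensorModule.rTensor R p.ResidueField
        (LocalizedModule.mkLinearMap q.primeCompl N))).mp h3
    have h5 : ((t' * t) • n) ⊗ₜ[R] (1 : p.ResidueField) = 0 := by
      rw [mul_smul, ← TensorProduct.smul_tmul']
      exact h4
    have h6 := (hn (t' * t)).mpr h5
    exact (Ideal.IsPrime.mem_or_mem inferInstance h6).elim ht' ht
  -- (P2): pass to the localization at `q`
  let f := LocalizedModule.mkLinearMap q.primeCompl (N ⊗[R] M)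
  set yq : LocalizedModule q.primeCompl (N ⊗[R] M) := f (n ⊗ₜ[R] m) with hyq
  let 𝔄 : Ideal (Localization.AtPrime q) :=
    (Submodule.span (Localization.AtPrime q) {yq}).annihilator
  have hmem𝔄 : ∀ c : Localization.AtPrime q, c ∈ 𝔄 ↔ c • yq = 0 := fun c =>
    Submodule.mem_annihilator_span_singleton _ _
  have hunit : ∀ t : S, t ∉ q → IsUnit (algebraMap S (Localization.AtPrime q) t) := fun t ht =>
    IsLocalization.map_units (Localization.AtPrime q) (⟨t, ht⟩ : q.primeCompl)
  have hkill : ∀ t : S, t • (n ⊗ₜ[R] m) = 0 → algebraMap S (Localization.AtPrime q) t • yq = 0 := by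
    intro t ht
    rw [algebraMap_smul, hyq, ← map_smul, ht, map_zero]
  -- elements of `p`
  have ha' : ∀ π ∈ p, algebraMap S (Localization.AtPrime q) (algebraMap R S π) ∈ 𝔄.radical := by
    intro π hπ
    obtain ⟨c, hc, k, hk⟩ := hm2 π hπ
    refine ⟨k, ?_⟩
    rw [hmem𝔄]
    have h1 : algebraMap R S (c * π ^ k) • (n ⊗ₜ[R] m) = 0 := by
      rw [hact, hk, TensorProduct.tmul_zero]
    have h2 := hkill _ h1
    rw [map_mul, map_mul, mul_smul] at h2
    have h3 := ((hunit _ (hcq c hc)).smul_eq_zero).mp h2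
    rw [map_pow, map_pow] at h3
    exact h3
  -- elements of `G`
  have hb' : ∀ g ∈ G, algebraMap S (Localization.AtPrime q) g ∈ 𝔄.radical := by
    intro g hg
    obtain ⟨a, ha, hmem⟩ := hsG g hg
    apply Ideal.le_radical
    rw [hmem𝔄]
    have h1 : (algebraMap R S a * g) • (n ⊗ₜ[R] m) = 0 := by
      rw [TensorProduct.smul_tmul', mul_smul, algebraMap_smul]
      exact tmul_eq_zero_of_mem_smul_top (Ideal.span (s : Set R)) m hm3' _ hmem
    have h2 := hkill _ h1
    rw [map_mul, mul_smul] at h2
    exact ((hunit _ (hcq a ha)).smul_eq_zero).mp h2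
  -- all elements of `q`
  have hc' : ∀ b ∈ q, algebraMap S (Localization.AtPrime q) b ∈ 𝔄.radical := by
    intro b hb
    obtain ⟨a, ha, hab⟩ := hG b hb
    have hle : Ideal.span (G : Set S) ⊔ p.map (algebraMap R S) ≤
        (𝔄.radical).comap (algebraMap S (Localization.AtPrime q)) := by
      apply sup_le
      · apply Ideal.span_le.mpr
        intro g hg
        exact hb' g hg
      · rw [Ideal.map_le_iff_le_comap]
        intro π hπ
        exact ha' π hπ
    have h1 := hle hab
    rw [Ideal.mem_comap, Algebra.smul_def, map_mul] at h1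
    exact (Ideal.unit_mul_mem_iff_mem _ (hunit _ (hcq a ha))).mp h1
  -- conclusion in the local ring
  have hWloc : W (Localization.AtPrime q) (maximalIdeal (Localization.AtPrime q))
      (LocalizedModule q.primeCompl (N ⊗[R] M)) := by
    rw [W_local_iff]
    refine ⟨yq, ?_, ?_⟩
    · intro h0
      obtain ⟨⟨t, ht⟩, h1⟩ := (IsLocalizedModule.eq_zero_iff q.primeCompl f).mp h0
      exact hP1 t ht h1
    · intro c hc
      obtain ⟨⟨b, t⟩, hbt⟩ := IsLocalization.surj q.primeCompl c
      simp only at hbt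
      have hbq : b ∈ q := by
        rw [← IsLocalization.AtPrime.to_map_mem_maximal_iff (Localization.AtPrime q) q b, ← hbt]
        exact Ideal.mul_mem_right _ _ hc
      obtain ⟨k, hk⟩ := hc' b hbq
      refine ⟨k, ?_⟩
      rw [hmem𝔄, ← hbt, mul_pow, mul_comm, mul_smul] at hk
      exact (((hunit _ t.2).pow k).smul_eq_zero).mp hk
  have h7 := (W_localization_iff q.primeCompl f (maximalIdeal (Localization.AtPrime q))).mp hWloc
  have h8 : (maximalIdeal (Localization.AtPrime q)).comap
      (algebraMap S (Localization.AtPrime q)) = q :=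
    IsLocalization.AtPrime.under_maximalIdeal (Localization.AtPrime q) q
  rwa [h8] at h7

end Converse

end Groth.Agent.Lib.helper26.WeakAssRG
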