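/-
Helper library (helper26): openness of the flat locus over a base with finitely many weakly
associated primes (Raynaud–Gruson).
Part 2: finiteness of the relative weakly associated points; the main statement.
-/
import Mathlib
import Groth.Prelude.Def_FlatCA
import Groth.Agent.Lib.Helper26.WeakAssFin1
import Groth.Agent.Lib.Helper26.Purity1
import Groth.Agent.Lib.Helper26.RGProj1
import Groth.Agent.Lib.Helper3.FlatAtLib2
import Groth.Agent.S1208
import Groth.Agent.S1236

set_option autoImplicit false
set_option linter.style.haveILetI false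
set_option linter.unusedSectionVars false

namespace Groth.Agent.Lib.helper26.WeakAssFin

open TensorProduct IsLocalRing FlatCA Groth.Agent.Lib.Helper24.WeakAssBC

universe u

attribute [local instance] Algebra.TensorProduct.rightAlgebra

section RelAss

variable {R S : Type u} [CommRing R] [CommRing S] [Algebra R S] [Algebra.FiniteType R S]
  (F : Type u) [AddCommGroup F] [Module S F] [Module R F] [IsScalarTower R S F]
  [Module.Finite S F]

/-- the primes of `S` lying over a weakly associated prime of `R` and associated in their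
fibre. -/
def relAss (R S : Type u) [CommRing R] [CommRing S] [Algebra R S] (F : Type u) [AddCommGroup F]
    [Module S F] [Module R F] [IsScalarTower R S F] : Set (Ideal S) :=
  {q₁ | ∃ (p₁ : Ideal R) (_ : p₁.IsPrime) (_ : q₁.IsPrime) (_ : q₁.LiesOver p₁),
    p₁ ∈ FlatCA.weakAss R R ∧
      FlatCA.fiberIdeal p₁ q₁ ∈ associatedPrimes (p₁.Fiber S) (FlatCA.fiberMod p₁ S F)}

theorem finite_relAss (hR : (FlatCA.weakAss R R).Finite) : (relAss R S F).Finite := by
  classical
  let Ψ : Ideal R → Set (Ideal S) := fun p₁ =>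
    {q₁ | ∃ (_ : p₁.IsPrime) (_ : q₁.IsPrime) (_ : q₁.LiesOver p₁),
      FlatCA.fiberIdeal p₁ q₁ ∈ associatedPrimes (p₁.Fiber S) (FlatCA.fiberMod p₁ S F)}
  have hΨ : ∀ p₁ : Ideal R, (Ψ p₁).Finite := by
    intro p₁
    by_cases hp : p₁.IsPrime
    · haveI := hp
      haveI : IsNoetherianRing (p₁.Fiber S) :=
        Algebra.FiniteType.isNoetherianRing p₁.ResidueField (p₁.Fiber S)
      haveI : Module.Finite (p₁.Fiber S) (FlatCA.fiberMod p₁ S F) :=
        inferInstanceAs (Module.Finite (p₁.Fiber S) ((p₁.Fiber S) ⊗[S] F))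
      have hfin : (associatedPrimes (p₁.Fiber S) (FlatCA.fiberMod p₁ S F)).Finite :=
        associatedPrimes.finite _ _
      refine Set.Finite.subset (hfin.image (fun P => P.comap
        (Algebra.TensorProduct.includeRight (R := R) (A := p₁.ResidueField) (B := S)).toRingHom)) ?_
      rintro q₁ ⟨_, hq₁, hover, hass⟩
      exact ⟨FlatCA.fiberIdeal p₁ q₁, hass,
        Groth.Agent.Lib.helper26.Purity.comap_fiberIdeal p₁ q₁⟩
    · have : Ψ p₁ = ∅ := by
        ext q₁
        simp only [Ψ, Set.mem_ofPred_eq, Set.mem_empty_iff_false, iff_false]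
        rintro ⟨h, -⟩
        exact hp h
      rw [this]
      exact Set.finite_empty
  refine Set.Finite.subset (Set.Finite.biUnion hR (fun p₁ _ => hΨ p₁)) ?_
  rintro q₁ ⟨p₁, hp₁, hq₁, hover, hmem, hass⟩
  simp only [Set.mem_iUnion]
  exact ⟨p₁, hmem, hp₁, hq₁, hover, hass⟩

end RelAss

section Main

variable {R S : Type u} [CommRing R] [CommRing S] [Algebra R S] [Algebra.FinitePresentation R S]

set_option maxHeartbeats 1600000 in
/-- the kernel of a cover by a finitely presented module, isomorphic at `q` and flat on `D(g)`,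
dies on a smaller basic open neighbourhood of `q`. -/
theorem exists_kill_ker (hR : (FlatCA.weakAss R R).Finite)
    (F : Type u) [AddCommGroup F] [Module S F] [Module R F] [IsScalarTower R S F]
    [Module.Finite S F]
    {N : Type u} [AddCommGroup N] [Module S N] (π : F →ₗ[S] N)
    (q : Ideal S) [q.IsPrime]
    (hker : ∀ x ∈ LinearMap.ker π, ∃ t ∈ q.primeCompl, t • x = 0)
    (g : S) (hflatg : Module.Flat R (LocalizedModule (Submonoid.powers g) F)) :
    ∃ h : S, h ∉ q ∧ ∀ x ∈ LinearMap.ker π, ∃ t ∈ Submonoid.powers (g * h), t • x = 0 := by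
  obtain ⟨h, hhq, hh⟩ := exists_notMem_forall_mem (relAss R S F) (finite_relAss F hR) q
  refine ⟨h, hhq, ?_⟩
  intro x hx
  by_contra hcon
  push Not at hcon
  set I : Ideal S := (Submodule.span S {x}).annihilator with hI
  have hdisj : Disjoint (I : Set S) (Submonoid.powers (g * h) : Set S) := by
    rw [Set.disjoint_left]
    intro a haI hapow
    exact hcon a hapow ((Submodule.mem_annihilator_span_singleton _ _).mp haI)
  obtain ⟨J, hJ, hIJ, hJdisj⟩ := Ideal.exists_le_prime_disjoint I _ hdisj
  haveI := hJ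
  obtain ⟨q₁, hq₁min, hq₁J⟩ := Ideal.exists_minimalPrimes_le hIJ
  haveI hq₁ : q₁.IsPrime := hq₁min.1.1
  have hgh : g * h ∉ q₁ := fun hm =>
    Set.disjoint_left.mp hJdisj (hq₁J hm) ⟨1, pow_one _⟩
  have hg1 : g ∉ q₁ := fun hm => hgh (Ideal.mul_mem_right _ _ hm)
  have hh1 : h ∉ q₁ := fun hm => hgh (Ideal.mul_mem_left _ _ hm)
  have hweak : q₁ ∈ FlatCA.weakAss S F := ⟨x, hq₁min⟩
  have hfl1 : FlatCA.FlatAt R q₁ F :=
    (Groth.Agent.Lib.helper3.FlatAtLib.flat_away_iff (R := R) (N := F) g).mp hflatg q₁ hg1
  haveI hover : q₁.LiesOver (q₁.comap (algebraMap R S)) := ⟨rfl⟩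
  haveI : (q₁.comap (algebraMap R S)).IsPrime := Ideal.comap_isPrime _ _
  have h1 : q₁ ∈ FlatCA.weakAss S (F ⊗[R] R) := by
    rw [mem_weakAss_iff] at hweak ⊢
    exact W_of_linearEquiv (AlgebraTensorModule.rid R S F).symm q₁ hweak
  obtain ⟨hp₁, hass⟩ := (Groth.Agent.S1236.result F R (q₁.comap (algebraMap R S)) q₁ hfl1).mp h1
  have hmem : q₁ ∈ relAss R S F :=
    ⟨q₁.comap (algebraMap R S), inferInstance, inferInstance, inferInstance, hp₁, hass⟩
  have hle : q₁ ≤ q := by
    by_contra hn
    exact hh1 (hh q₁ hmem hn)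
  obtain ⟨t, ht, htx⟩ := hker x hx
  exact ht (hle (hq₁min.1.2 ((Submodule.mem_annihilator_span_singleton _ _).mpr htx)))

set_option maxHeartbeats 1600000 in
/-- **openness of flatness over a base with finitely many weakly associated primes**: around a
point of flatness, a finite module becomes finitely presented and flat on a basic open
neighbourhood. -/
theorem exists_fp_flat_away (hR : (FlatCA.weakAss R R).Finite)
    (N : Type u) [AddCommGroup N] [Module S N] [Module R N] [IsScalarTower R S N]
    [Module.Finite S N] (q : Ideal S) [q.IsPrime] (hflat : FlatCA.FlatAt R q N) :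
    ∃ g : S, g ∉ q ∧
      Module.FinitePresentation (Localization.Away g) (LocalizedModule (Submonoid.powers g) N) ∧
      Module.Flat R (LocalizedModule (Submonoid.powers g) N) := by
  have hfp := Groth.Agent.S1208.result N q hflat
  obtain ⟨r, K', π, hK'fg, hπ, hker⟩ := exists_fp_cover N q.primeCompl hfp
  haveI hFfp : Module.FinitePresentation S ((Fin r → S) ⧸ K') :=
    Module.finitePresentation_of_surjective K'.mkQ (Submodule.mkQ_surjective K')
      (by rw [Submodule.ker_mkQ]; exact hK'fg)
  have hbij := bijective_map_of_ker q.primeCompl π hπ hker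
  let e : LocalizedModule q.primeCompl ((Fin r → S) ⧸ K') ≃ₗ[S] LocalizedModule q.primeCompl N :=
    LinearEquiv.ofBijective _ hbij
  have hflatF : FlatCA.FlatAt R q ((Fin r → S) ⧸ K') := by
    unfold FlatCA.FlatAt at hflat ⊢
    exact Module.Flat.of_linearEquiv (e.restrictScalars R)
  obtain ⟨g, hgq, hflatg⟩ :=
    Groth.Agent.Lib.helper26.RGProj.exists_flat_away ((Fin r → S) ⧸ K') q hflatF
  obtain ⟨h, hhq, hkill⟩ := exists_kill_ker hR ((Fin r → S) ⧸ K') π q hker g hflatg
  refine ⟨g * h, fun hm => (Ideal.IsPrime.mem_or_mem inferInstance hm).elim hgq hhq, ?_, ?_⟩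
  · have hbij' := bijective_map_of_ker (Submonoid.powers (g * h)) π hπ hkill
    let e'' : LocalizedModule (Submonoid.powers (g * h)) ((Fin r → S) ⧸ K')
        ≃ₗ[Localization.Away (g * h)] LocalizedModule (Submonoid.powers (g * h)) N :=
      LinearEquiv.ofBijective ((IsLocalizedModule.map (Submonoid.powers (g * h))
        (LocalizedModule.mkLinearMap (Submonoid.powers (g * h)) ((Fin r → S) ⧸ K'))
        (LocalizedModule.mkLinearMap (Submonoid.powers (g * h)) N) π).extendScalarsOfIsLocalization
          (Submonoid.powers (g * h)) (Localization.Away (g * h))) hbij'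
    exact Module.FinitePresentation.of_equiv e''
  · have hbij' := bijective_map_of_ker (Submonoid.powers (g * h)) π hπ hkill
    let e' : LocalizedModule (Submonoid.powers (g * h)) ((Fin r → S) ⧸ K') ≃ₗ[S]
        LocalizedModule (Submonoid.powers (g * h)) N := LinearEquiv.ofBijective _ hbij'
    haveI : Module.Flat R (LocalizedModule (Submonoid.powers (g * h)) ((Fin r → S) ⧸ K')) := by
      rw [Groth.Agent.Lib.helper3.FlatAtLib.flat_away_iff]
      intro P _ hP
      exact (Groth.Agent.Lib.helper3.FlatAtLib.flat_away_iff (R := R)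
        (N := (Fin r → S) ⧸ K') g).mp hflatg P (fun hm => hP (Ideal.mul_mem_right _ _ hm))
    exact Module.Flat.of_linearEquiv (e'.symm.restrictScalars R)

end Main

end Groth.Agent.Lib.helper26.WeakAssFin
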