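/-
Helper library (helper26): openness of the flat locus over a base with finitely many weakly
associated primes (Raynaud–Gruson).
Part 3: the algebra version (finite type algebras).
-/
import Mathlib
import Groth.Prelude.Def_FlatCA
import Groth.Agent.Lib.Helper26.WeakAssFin2
import Groth.Agent.Lib.Helper26.FtReg2

set_option autoImplicit false
set_option linter.style.haveILetI false
set_option linter.unusedSectionVars false

namespace Groth.Agent.Lib.helper26.WeakAssFin

open TensorProduct IsLocalRing FlatCA

universe u

section FgKer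

variable {A M F₀ : Type*} [CommRing A] [AddCommGroup M] [Module A M] [AddCommGroup F₀]
  [Module A F₀] [Module.Finite A F₀] (π : F₀ →ₗ[A] M)

/-- `exists_fg_le_ker_of_fp_localized'` for an arbitrary finite source. -/
theorem exists_fg_le_ker_of_fp_localized'' (hπ : Function.Surjective π) (T : Submonoid A)
    (h : Module.FinitePresentation (Localization T) (LocalizedModule T M)) :
    ∃ K' : Submodule A F₀, K' ≤ LinearMap.ker π ∧ K'.FG ∧
      ∀ z ∈ LinearMap.ker π, ∃ t ∈ T, t • z ∈ K' := by
  classical
  set f := LocalizedModule.mkLinearMap T F₀ with hf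
  set f' := LocalizedModule.mkLinearMap T M with hf'
  let πT : LocalizedModule T F₀ →ₗ[Localization T] LocalizedModule T M :=
    (IsLocalizedModule.map T f f' π).extendScalarsOfIsLocalization T (Localization T)
  have hsurj : Function.Surjective πT := IsLocalizedModule.map_surjective T f f' π hπ
  have hker : (LinearMap.ker πT).FG := Module.FinitePresentation.fg_ker πT hsurj
  have hkeq : (LinearMap.ker π).localized' (Localization T) T f = LinearMap.ker πT :=
    LinearMap.localized'_ker_eq_ker_localizedMap (Localization T) T f f' π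
  obtain ⟨G, hG⟩ := hker
  have hGmem : ∀ g ∈ G, ∃ m ∈ LinearMap.ker π, ∃ v : T, IsLocalizedModule.mk' f m v = g := by
    intro g hg
    have : g ∈ LinearMap.ker πT := hG ▸ Submodule.subset_span hg
    rw [← hkeq] at this
    exact this
  choose! m hm v hv using hGmem
  refine ⟨Submodule.span A (m '' (G : Set _)), ?_, ?_, ?_⟩
  · rw [Submodule.span_le]
    rintro _ ⟨g, hg, rfl⟩
    exact hm g hg
  · exact Submodule.fg_span (G.finite_toSet.image m)
  · intro z hz
    have h1 : f z ∈ (Submodule.span A (m '' (G : Set _))).localized' (Localization T) T f := by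
      have h2 : f z ∈ LinearMap.ker πT := by
        rw [← hkeq]
        exact ⟨z, hz, 1, by simp⟩
      rw [← hG] at h2
      refine (Submodule.span_le.mpr ?_) h2
      intro g hg
      exact ⟨m g, Submodule.subset_span ⟨g, hg, rfl⟩, v g, hv g hg⟩
    obtain ⟨k, hk, w, hkw⟩ := h1
    rw [IsLocalizedModule.mk'_eq_iff, Submonoid.smul_def, ← map_smul] at hkw
    obtain ⟨c, hc⟩ := IsLocalizedModule.exists_of_eq (S := T) hkw
    refine ⟨((c * w : T) : A), (c * w).2, ?_⟩
    rw [Submonoid.coe_mul, mul_smul]
    have : (c : A) • (w : A) • z = (c : A) • k := hc.symm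
    rw [this]
    exact Submodule.smul_mem _ _ hk

end FgKer

section AwayIso

variable {R S' S : Type u} [CommRing R] [CommRing S'] [CommRing S] [Algebra R S'] [Algebra R S]

/-- a surjection of algebras whose kernel is killed by powers of `G'` becomes bijective after
inverting `G'`. -/
theorem bijective_awayMapₐ_of_ker (φ : S' →ₐ[R] S) (hφ : Function.Surjective φ) (G' : S')
    (hker : ∀ x : S', φ x = 0 → ∃ k : ℕ, G' ^ k * x = 0) :
    Function.Bijective (Localization.awayMapₐ φ G') := by
  refine ⟨?_, IsLocalization.Away.mapₐ_surjective_of_surjective G' hφ⟩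
  rw [injective_iff_map_eq_zero]
  intro z hz
  obtain ⟨n, a, hza⟩ := IsLocalization.Away.surj G' z
  have h1 := congrArg (Localization.awayMapₐ φ G') hza
  rw [map_mul, hz, zero_mul] at h1
  have hy : Submonoid.powers G' ≤ Submonoid.comap φ.toRingHom (Submonoid.powers (φ G')) := by
    rintro _ ⟨k, rfl⟩
    exact ⟨k, (map_pow φ G' k).symm⟩
  have h2 : Localization.awayMapₐ φ G' (algebraMap S' (Localization.Away G') a) =
      algebraMap S (Localization.Away (φ G')) (φ a) := by
    show IsLocalization.map (Localization.Away (φ G')) φ.toRingHom hy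
      (algebraMap S' (Localization.Away G') a) = _
    exact IsLocalization.map_eq hy a
  rw [h2] at h1
  obtain ⟨⟨_, m, rfl⟩, hm⟩ := (IsLocalization.map_eq_zero_iff (Submonoid.powers (φ G'))
    (Localization.Away (φ G')) (φ a)).mp h1.symm
  simp only at hm
  rw [← map_pow, ← map_mul] at hm
  obtain ⟨j, hj⟩ := hker _ hm
  have h3 : algebraMap S' (Localization.Away G') a = 0 := by
    rw [IsLocalization.map_eq_zero_iff (Submonoid.powers G')]
    refine ⟨⟨G' ^ (j + m), j + m, rfl⟩, ?_⟩
    simp only
    rw [pow_add, mul_assoc]
    exact hj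
  rw [h3] at hza
  have hunit : IsUnit (algebraMap S' (Localization.Away G') G' ^ n) :=
    (IsLocalization.Away.algebraMap_isUnit G').pow n
  exact (hunit.mul_left_eq_zero).mp hza

end AwayIso

section Alg

variable {R S : Type u} [CommRing R] [CommRing S] [Algebra R S] [Algebra.FiniteType R S]

set_option maxHeartbeats 3200000 in
/-- algebra version: over a base with finitely many weakly associated primes, a finite type
algebra which is flat at `q` is flat and finitely presented on a basic open neighbourhood. -/
theorem exists_fp_flat_away_alg (hR : (FlatCA.weakAss R R).Finite) (q : Ideal S) [q.IsPrime]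
    (hflat : Module.Flat R (Localization.AtPrime q)) :
    ∃ g : S, g ∉ q ∧ Algebra.FinitePresentation R (Localization.Away g) ∧
      Module.Flat R (Localization.Away g) := by
  obtain ⟨n, f, hf⟩ := Algebra.FiniteType.iff_quotient_mvPolynomial''.mp
    (inferInstance : Algebra.FiniteType R S)
  letI algPS : Algebra (MvPolynomial (Fin n) R) S := f.toRingHom.toAlgebra
  haveI twRPS : IsScalarTower R (MvPolynomial (Fin n) R) S :=
    IsScalarTower.of_algebraMap_eq fun r => (f.commutes r).symm
  have hsurj : Function.Surjective (algebraMap (MvPolynomial (Fin n) R) S) := hf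
  haveI : Module.Finite (MvPolynomial (Fin n) R) S :=
    Module.Finite.of_surjective (Algebra.linearMap (MvPolynomial (Fin n) R) S) hsurj
  haveI hq'prime : (q.comap (algebraMap (MvPolynomial (Fin n) R) S)).IsPrime :=
    Ideal.comap_isPrime _ _
  -- flatness at the contraction
  let e := Groth.Agent.Lib.helper26.FtReg.locEquiv (P := MvPolynomial (Fin n) R) S q hsurj
  haveI twRPloc : IsScalarTower R (MvPolynomial (Fin n) R) (LocalizedModule q.primeCompl S) :=
    IsScalarTower.of_algebraMap_smul fun r y => by
      induction y using LocalizedModule.induction_on with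
      | h x t => rw [LocalizedModule.smul'_mk, LocalizedModule.smul'_mk, algebraMap_smul]
  haveI twRPlocP : IsScalarTower R (MvPolynomial (Fin n) R)
      (LocalizedModule (q.comap (algebraMap (MvPolynomial (Fin n) R) S)).primeCompl S) :=
    IsScalarTower.of_algebraMap_smul fun r y => by
      induction y using LocalizedModule.induction_on with
      | h x t => rw [LocalizedModule.smul'_mk, LocalizedModule.smul'_mk, algebraMap_smul]
  haveI hflatq : Module.Flat R (LocalizedModule q.primeCompl S) := hflat
  have hflat' : FlatCA.FlatAt R (q.comap (algebraMap (MvPolynomial (Fin n) R) S)) S :=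
    Module.Flat.of_linearEquiv (e.restrictScalars R)
  obtain ⟨G, hGq', hfpG, hflatG⟩ := exists_fp_flat_away (R := R) (S := MvPolynomial (Fin n) R)
    hR S (q.comap (algebraMap (MvPolynomial (Fin n) R) S)) hflat'
  obtain ⟨K', hK'le, hK'fg, hK'⟩ := exists_fg_le_ker_of_fp_localized''
    (Algebra.linearMap (MvPolynomial (Fin n) R) S) hsurj (Submonoid.powers G) hfpG
  -- the finitely presented model `P ⧸ K'`
  have hK'f : ∀ a : MvPolynomial (Fin n) R, a ∈ (K' : Ideal (MvPolynomial (Fin n) R)) →
      f a = 0 := fun a ha => hK'le ha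
  let φ : (MvPolynomial (Fin n) R ⧸ (K' : Ideal (MvPolynomial (Fin n) R))) →ₐ[R] S :=
    Ideal.Quotient.liftₐ K' f hK'f
  have hφmk : ∀ a, φ (Ideal.Quotient.mk K' a) = f a := fun a => rfl
  have hφsurj : Function.Surjective φ := by
    intro y
    obtain ⟨a, rfl⟩ := hf y
    exact ⟨Ideal.Quotient.mk K' a, hφmk a⟩
  have hkerφ : ∀ x, φ x = 0 → ∃ k : ℕ, (Ideal.Quotient.mk K' G) ^ k * x = 0 := by
    intro x hx
    obtain ⟨a, rfl⟩ := Ideal.Quotient.mk_surjective x
    rw [hφmk] at hx
    obtain ⟨_, ⟨k, rfl⟩, hk⟩ := hK' a hx
    refine ⟨k, ?_⟩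
    rw [← map_pow, ← map_mul, Ideal.Quotient.eq_zero_iff_mem]
    exact hk
  have hbij := bijective_awayMapₐ_of_ker φ hφsurj (Ideal.Quotient.mk K' G) hkerφ
  let eA := AlgEquiv.ofBijective (Localization.awayMapₐ φ (Ideal.Quotient.mk K' G)) hbij
  haveI : Algebra.FinitePresentation R
      (MvPolynomial (Fin n) R ⧸ (K' : Ideal (MvPolynomial (Fin n) R))) :=
    Algebra.FinitePresentation.quotient hK'fg
  haveI : Algebra.FinitePresentation
      (MvPolynomial (Fin n) R ⧸ (K' : Ideal (MvPolynomial (Fin n) R)))
      (Localization.Away (Ideal.Quotient.mk K' G)) :=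
    IsLocalization.Away.finitePresentation (Ideal.Quotient.mk K' G)
  haveI : Algebra.FinitePresentation R (Localization.Away (Ideal.Quotient.mk K' G)) :=
    Algebra.FinitePresentation.trans R
      (MvPolynomial (Fin n) R ⧸ (K' : Ideal (MvPolynomial (Fin n) R))) _
  have hfp : Algebra.FinitePresentation R (Localization.Away (φ (Ideal.Quotient.mk K' G))) :=
    Algebra.FinitePresentation.equiv eA
  refine ⟨f G, hGq', hfp, ?_⟩
  -- flatness
  haveI : IsLocalizedModule (Submonoid.powers G)
      ((LocalizedModule.mkLinearMap (Submonoid.powers (algebraMap (MvPolynomial (Fin n) R) S G))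
        S).restrictScalars (MvPolynomial (Fin n) R)) :=
    IsLocalizedModule.restrictScalars_powers G _
  let e₂ := IsLocalizedModule.linearEquiv (Submonoid.powers G)
    (LocalizedModule.mkLinearMap (Submonoid.powers G) S)
    ((LocalizedModule.mkLinearMap (Submonoid.powers (algebraMap (MvPolynomial (Fin n) R) S G))
      S).restrictScalars (MvPolynomial (Fin n) R))
  haveI tw1 : IsScalarTower R (MvPolynomial (Fin n) R)
      (LocalizedModule (Submonoid.powers (algebraMap (MvPolynomial (Fin n) R) S G)) S) :=
    IsScalarTower.of_algebraMap_smul fun r y => by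
      induction y using LocalizedModule.induction_on with
      | h x t => rw [LocalizedModule.smul'_mk, LocalizedModule.smul'_mk, algebraMap_smul]
  haveI tw2 : IsScalarTower R (MvPolynomial (Fin n) R)
      (LocalizedModule (Submonoid.powers G) S) :=
    IsScalarTower.of_algebraMap_smul fun r y => by
      induction y using LocalizedModule.induction_on with
      | h x t => rw [LocalizedModule.smul'_mk, LocalizedModule.smul'_mk, algebraMap_smul]
  haveI := hflatG
  have hfl : Module.Flat R
      (LocalizedModule (Submonoid.powers (algebraMap (MvPolynomial (Fin n) R) S G)) S) :=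
    Module.Flat.of_linearEquiv (e₂.symm.restrictScalars R)
  exact hfl

end Alg

end Groth.Agent.Lib.helper26.WeakAssFin
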