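/-
Helper library (helper26): a finite flat module over a finitely presented algebra which is
finitely presented over a scheme-theoretically dense quasi-compact open of the base is finitely
presented (Raynaud–Gruson).
-/
import Mathlib
import Groth.Prelude.Def_FlatCA
import Groth.Agent.Lib.Helper26.WeakAssFin3
import Groth.Agent.Lib.Helper26.FibCov1

set_option autoImplicit false
set_option linter.style.haveILetI false
set_option linter.unusedSectionVars false

namespace Groth.Agent.Lib.helper26.DenseFP

open TensorProduct IsLocalRing FlatCA Groth.Agent.Lib.helper26.WeakAssFin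

universe u

section Dense

variable {A : Type u} [CommRing A] {n : ℕ} (f : Fin n → A)

/-- an element of a flat module vanishing on a scheme-theoretically dense union of basic opens
vanishes. -/
theorem eq_zero_of_flat_of_away
    (hdense : Function.Injective (RingHom.pi (fun i => algebraMap A (Localization.Away (f i)))))
    (E : Type u) [AddCommGroup E] [Module A E] [Module.Flat A E] (x : E)
    (hx : ∀ i, ∃ k : ℕ, f i ^ k • x = 0) : x = 0 := by
  classical
  let ι : A →ₗ[A] (∀ i, Localization.Away (f i)) :=
    LinearMap.pi (fun i => Algebra.linearMap A (Localization.Away (f i)))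
  have hι : Function.Injective ι := by
    intro a b hab
    apply hdense
    funext i
    exact congrFun hab i
  have h1 : Function.Injective (ι.lTensor E) :=
    Module.Flat.lTensor_preserves_injective_linearMap ι hι
  have h2 : ι.lTensor E (x ⊗ₜ[A] (1 : A)) = 0 := by
    apply (TensorProduct.piRight A A E (fun i => Localization.Away (f i))).injective
    rw [map_zero, LinearMap.lTensor_tmul]
    funext i
    show x ⊗ₜ[A] (ι 1 i) = 0
    obtain ⟨k, hk⟩ := hx i
    have hu : IsUnit (algebraMap A (Localization.Away (f i)) (f i ^ k)) := by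
      rw [map_pow]
      exact (IsLocalization.Away.algebraMap_isUnit (f i)).pow k
    obtain ⟨u, hu'⟩ := hu
    have h3 : (ι 1 i : Localization.Away (f i)) = (f i ^ k) • (↑u⁻¹ : Localization.Away (f i)) := by
      show algebraMap A (Localization.Away (f i)) 1 = _
      rw [Algebra.smul_def, ← hu', Units.mul_inv, map_one]
    rw [h3, ← TensorProduct.smul_tmul, hk, TensorProduct.zero_tmul]
  have h4 : x ⊗ₜ[A] (1 : A) = 0 := h1 (h2.trans (map_zero _).symm)
  have h5 := congrArg (TensorProduct.rid A E) h4
  rwa [TensorProduct.rid_tmul, one_smul, map_zero] at h5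

end Dense

section Kill

variable {B : Type u} [CommRing B] {F : Type u} [AddCommGroup F] [Module B F]

/-- a finitely generated submodule whose elements are killed by elements outside `q` is killed
by a single element outside `q`. -/
theorem exists_kill_fg (q : Ideal B) [hq : q.IsPrime] (K : Submodule B F) (hK : K.FG)
    (hkill : ∀ x ∈ K, ∃ t ∈ q.primeCompl, t • x = 0) :
    ∃ g : B, g ∉ q ∧ ∀ x ∈ K, g • x = 0 := by
  classical
  obtain ⟨s, rfl⟩ := hK
  have key : ∃ g : B, g ∉ q ∧ ∀ x ∈ s, g • x = 0 := by
    have hs : ∀ x ∈ s, ∃ t ∈ q.primeCompl, t • x = 0 := fun x hx =>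
      hkill x (Submodule.subset_span hx)
    clear hkill
    induction s using Finset.induction_on with
    | empty => exact ⟨1, fun h => hq.ne_top ((Ideal.eq_top_iff_one q).2 h), fun x hx =>
        absurd hx (Finset.notMem_empty x)⟩
    | insert a s ha ih =>
      obtain ⟨g, hg, hgs⟩ := ih (fun x hx => hs x (Finset.mem_insert_of_mem hx))
      obtain ⟨t, ht, hta⟩ := hs a (Finset.mem_insert_self a s)
      refine ⟨g * t, fun h => (hq.mem_or_mem h).elim hg ht, fun x hx => ?_⟩
      rcases Finset.mem_insert.1 hx with rfl | hx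
      · rw [mul_smul, hta, smul_zero]
      · rw [mul_comm, mul_smul, hgs x hx, smul_zero]
  obtain ⟨g, hg, hgs⟩ := key
  refine ⟨g, hg, fun x hx => ?_⟩
  refine Submodule.span_induction (p := fun x _ => g • x = 0) ?_ ?_ ?_ ?_ hx
  · intro x hx
    exact hgs x hx
  · rw [smul_zero]
  · intro x y _ _ hx hy
    rw [smul_add, hx, hy, add_zero]
  · intro a x _ hx
    rw [smul_comm, hx, smul_zero]

end Kill

section Main

variable {A B : Type u} [CommRing A] [CommRing B] [Algebra A B] [Algebra.FinitePresentation A B]
  (N : Type u) [AddCommGroup N] [Module B N] [Module A N] [IsScalarTower A B N]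
  [Module.Finite B N] [Module.Flat A N] {n : ℕ} (f : Fin n → A)

set_option maxHeartbeats 3200000 in
/-- local form: every prime of `B` has a basic open neighbourhood on which `N` is finitely
presented. -/
theorem exists_fp_away
    (hdense : Function.Injective (RingHom.pi (fun i => algebraMap A (Localization.Away (f i)))))
    (hfp : ∀ i, Module.FinitePresentation (Localization.Away (algebraMap A B (f i)))
      (LocalizedModule (Submonoid.powers (algebraMap A B (f i))) N))
    (q : Ideal B) [q.IsPrime] :
    ∃ g : B, g ∉ q ∧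
      Module.FinitePresentation (Localization.Away g) (LocalizedModule (Submonoid.powers g) N) := by
  classical
  have hflat : FlatCA.FlatAt A q N :=
    Groth.Agent.Lib.helper26.FibCov.flatAt_of_flat (A := A) (C := B) N q
  have hfpq := Groth.Agent.S1208.result N q hflat
  obtain ⟨r, K', π, hK'fg, hπ, hker⟩ := exists_fp_cover N q.primeCompl hfpq
  haveI hFfp : Module.FinitePresentation B ((Fin r → B) ⧸ K') :=
    Module.finitePresentation_of_surjective K'.mkQ (Submodule.mkQ_surjective K')
      (by rw [Submodule.ker_mkQ]; exact hK'fg)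
  have hbij := bijective_map_of_ker q.primeCompl π hπ hker
  let e : LocalizedModule q.primeCompl ((Fin r → B) ⧸ K') ≃ₗ[B] LocalizedModule q.primeCompl N :=
    LinearEquiv.ofBijective _ hbij
  have hflatF : FlatCA.FlatAt A q ((Fin r → B) ⧸ K') := by
    unfold FlatCA.FlatAt at hflat ⊢
    exact Module.Flat.of_linearEquiv (e.restrictScalars A)
  obtain ⟨g, hgq, hflatg⟩ :=
    Groth.Agent.Lib.helper26.RGProj.exists_flat_away ((Fin r → B) ⧸ K') q hflatF
  -- over each `D(f i)`
  have hsub : ∀ i, ∃ gi : B, gi ∉ q ∧ ∀ z ∈ LinearMap.ker π,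
      ∃ k : ℕ, (gi * algebraMap A B (f i)) ^ k • z = 0 := by
    intro i
    obtain ⟨K'', hK''le, hK''fg, hK''⟩ := exists_fg_le_ker_of_fp_localized'' π hπ
      (Submonoid.powers (algebraMap A B (f i))) (hfp i)
    obtain ⟨gi, hgi, hgikill⟩ := exists_kill_fg q K'' hK''fg (fun x hx => hker x (hK''le hx))
    refine ⟨gi, hgi, fun z hz => ?_⟩
    obtain ⟨_, ⟨k, rfl⟩, hk⟩ := hK'' z hz
    refine ⟨k + 1, ?_⟩
    have e1 : (gi * algebraMap A B (f i)) ^ (k + 1) =
        (gi ^ k * algebraMap A B (f i)) * (gi * algebraMap A B (f i) ^ k) := by ring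
    rw [e1, mul_smul, mul_smul gi, hgikill _ hk, smul_zero]
  choose gi hgi hgiz using hsub
  have hg'q : g * ∏ i, gi i ∉ q := by
    intro hm
    rcases (Ideal.IsPrime.mem_or_mem inferInstance hm) with h | h
    · exact hgq h
    · obtain ⟨i, -, hi⟩ := (Ideal.IsPrime.prod_mem_iff (p := q)).1 h
      exact hgi i hi
  have hkill : ∀ x ∈ LinearMap.ker π, ∃ t ∈ Submonoid.powers (g * ∏ i, gi i), t • x = 0 := by
    intro x hx
    haveI hflatE : Module.Flat A
        (LocalizedModule (Submonoid.powers (g * ∏ i, gi i)) ((Fin r → B) ⧸ K')) := by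
      rw [Groth.Agent.Lib.helper3.FlatAtLib.flat_away_iff]
      intro P _ hP
      exact (Groth.Agent.Lib.helper3.FlatAtLib.flat_away_iff (R := A)
        (N := (Fin r → B) ⧸ K') g).mp hflatg P (fun hm => hP (Ideal.mul_mem_right _ _ hm))
    have h0 : LocalizedModule.mkLinearMap (Submonoid.powers (g * ∏ i, gi i))
        ((Fin r → B) ⧸ K') x = 0 := by
      apply eq_zero_of_flat_of_away f hdense
      intro i
      obtain ⟨k, hk⟩ := hgiz i x hx
      refine ⟨k, ?_⟩
      rw [LocalizedModule.mkLinearMap_apply, LocalizedModule.smul'_mk,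
        Groth.Agent.Lib.helper3.UnivInjGlobal.mk_eq_zero_iff]
      refine ⟨⟨(g * ∏ i, gi i) ^ k, k, rfl⟩, ?_⟩
      obtain ⟨c, hc⟩ : gi i ∣ g * ∏ i, gi i :=
        Dvd.dvd.mul_left (Finset.dvd_prod_of_mem gi (Finset.mem_univ i)) g
      rw [Submonoid.smul_def]
      show (g * ∏ i, gi i) ^ k • (f i ^ k • x) = 0
      rw [← algebraMap_smul B (f i ^ k) x, smul_smul, map_pow, ← mul_pow, hc]
      have e2 : (gi i * c * algebraMap A B (f i)) ^ k =
          c ^ k * (gi i * algebraMap A B (f i)) ^ k := by ring
      rw [e2, mul_smul, hk, smul_zero]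
    obtain ⟨t, ht⟩ := (IsLocalizedModule.eq_zero_iff (Submonoid.powers (g * ∏ i, gi i))
      (LocalizedModule.mkLinearMap (Submonoid.powers (g * ∏ i, gi i))
        ((Fin r → B) ⧸ K'))).mp h0
    exact ⟨t, t.2, ht⟩
  refine ⟨g * ∏ i, gi i, hg'q, ?_⟩
  have hbij' := bijective_map_of_ker (Submonoid.powers (g * ∏ i, gi i)) π hπ hkill
  let e'' : LocalizedModule (Submonoid.powers (g * ∏ i, gi i)) ((Fin r → B) ⧸ K')
      ≃ₗ[Localization.Away (g * ∏ i, gi i)]
        LocalizedModule (Submonoid.powers (g * ∏ i, gi i)) N :=
    LinearEquiv.ofBijective ((IsLocalizedModule.map (Submonoid.powers (g * ∏ i, gi i))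
      (LocalizedModule.mkLinearMap (Submonoid.powers (g * ∏ i, gi i)) ((Fin r → B) ⧸ K'))
      (LocalizedModule.mkLinearMap (Submonoid.powers (g * ∏ i, gi i)) N)
        π).extendScalarsOfIsLocalization
        (Submonoid.powers (g * ∏ i, gi i)) (Localization.Away (g * ∏ i, gi i))) hbij'
  exact Module.FinitePresentation.of_equiv e''

include f in
/-- **finite presentation from a dense open** (= S1239). -/
theorem finitePresentation_of_dense
    (hdense : Function.Injective (RingHom.pi (fun i => algebraMap A (Localization.Away (f i)))))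
    (hfp : ∀ i, Module.FinitePresentation (Localization.Away (algebraMap A B (f i)))
      (LocalizedModule (Submonoid.powers (algebraMap A B (f i))) N)) :
    Module.FinitePresentation B N := by
  let s : Set B := {g | Module.FinitePresentation (Localization.Away g)
    (LocalizedModule (Submonoid.powers g) N)}
  have hs : Ideal.span s = ⊤ := by
    by_contra hne
    obtain ⟨q, hqmax, hle⟩ := Ideal.exists_le_maximal _ hne
    haveI : q.IsPrime := hqmax.isPrime
    obtain ⟨g, hgq, hg⟩ := exists_fp_away N f hdense hfp q
    exact hgq (hle (Ideal.subset_span hg))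
  exact Module.FinitePresentation.of_localizationSpan s hs (fun g => g.2)

end Main

end Groth.Agent.Lib.helper26.DenseFP
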