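/-
Helper library (helper26): assembling complete dévissages (towards S1252).
Part 3: a one-step dévissage at a point together with a complete dévissage of the cokernel of `α`
at the point of the smooth algebra gives a complete dévissage at the point.
-/
import Mathlib
import Groth.Agent.Lib.Helper26.DevCons1

set_option autoImplicit false
set_option linter.style.haveILetI false
set_option linter.unusedSectionVars false

namespace Groth.Agent.Lib.helper26.DevCons

open TensorProduct AlgebraicGeometry

universe u

/-- the family `C, A 0, A 1, …` -/
def consT (C : Type u) (A : ℕ → Type u) : ℕ → Type u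
  | 0 => C
  | (i + 1) => A i

set_option maxHeartbeats 1600000 in
theorem hasCompleteDevissageAt_cons
    (R S : Type u) [CommRing R] [CommRing S] [Algebra R S]
    (N : Type u) [AddCommGroup N] [Module S N] [Module R N] [IsScalarTower R S N]
    [Module.Finite S N]
    (p : Ideal R) [p.IsPrime] (q : Ideal S) [q.IsPrime]
    (C D G : Type u) [CommRing C] [CommRing D] [Algebra S C] [Algebra R C] [IsScalarTower R S C]
    [Algebra R D] [Algebra D C] [IsScalarTower R D C] [AddCommGroup G] [Module C G] [Module S G]
    [IsScalarTower S C G] [Module D G] [IsScalarTower D C G] [Module R G] [IsScalarTower R D G]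
    (n : ℕ) (h : FlatCA.IsOneStepDevissage R S N p C D G n)
    (z : Ideal C) [z.IsPrime] (y : Ideal D) [y.IsPrime] [hzq : z.LiesOver q] [hzy : z.LiesOver y]
    [hyp : y.LiesOver p]
    (h3 : ∀ (z₁ : Ideal C) [z₁.IsPrime], z₁.LiesOver y → z₁ = z)
    (h4 : FlatCA.PurelyTranscendental p y)
    [hpD : (p.map (algebraMap R D)).IsPrime]
    (r : ℕ) (α : (Fin r → D) →ₗ[D] G)
    (hα : Function.Bijective (α.baseChange (p.map (algebraMap R D)).ResidueField))
    (hK : FlatCA.HasCompleteDevissageAt R D (G ⧸ LinearMap.range α) p y) :
    FlatCA.HasCompleteDevissageAt R S N p q := by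
  have hloc := locDim_of_oneStep N p C D G n h y
  obtain ⟨⟨e⟩, hsurj, hfp, hfinDC, hfinCG, hsm, hgi, hdim⟩ := h
  have hsmooth : Algebra.Smooth R D := Groth.Agent.Lib.helper3.OneStep.algebra_smooth n hsm
  obtain ⟨𝒟, ⟨𝒜⟩⟩ := hK
  let 𝒟' : FlatCA.CompleteDevissage R S N p :=
    { n := 𝒟.n + 1
      pos := Nat.succ_pos _
      A := consT C 𝒟.A
      B := consT D 𝒟.B
      M := consT G 𝒟.M
      r := fun i => match i with
        | 0 => r
        | i + 1 => 𝒟.r i
      cA := fun i => match i with
        | 0 => (inferInstance : CommRing C)
        | i + 1 => 𝒟.cA i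
      cB := fun i => match i with
        | 0 => (inferInstance : CommRing D)
        | i + 1 => 𝒟.cB i
      aRA := fun i => match i with
        | 0 => (inferInstance : Algebra R C)
        | i + 1 => 𝒟.aRA i
      aRB := fun i => match i with
        | 0 => (inferInstance : Algebra R D)
        | i + 1 => 𝒟.aRB i
      aBA := fun i => match i with
        | 0 => (inferInstance : Algebra D C)
        | i + 1 => 𝒟.aBA i
      tRBA := fun i => match i with
        | 0 => (inferInstance : IsScalarTower R D C)
        | i + 1 => 𝒟.tRBA i
      aSA := (inferInstance : Algebra S C)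
      tRSA := (inferInstance : IsScalarTower R S C)
      aBA' := fun i => match i with
        | 0 => 𝒟.aSA
        | i + 1 => 𝒟.aBA' i
      tRBA' := fun i => match i with
        | 0 => 𝒟.tRSA
        | i + 1 => 𝒟.tRBA' i
      gM := fun i => match i with
        | 0 => (inferInstance : AddCommGroup G)
        | i + 1 => 𝒟.gM i
      mAM := fun i => match i with
        | 0 => (inferInstance : Module C G)
        | i + 1 => 𝒟.mAM i
      mBM := fun i => match i with
        | 0 => (inferInstance : Module D G)
        | i + 1 => 𝒟.mBM i
      tBAM := fun i => match i with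
        | 0 => (inferInstance : IsScalarTower D C G)
        | i + 1 => 𝒟.tBAM i
      mRM := fun i => match i with
        | 0 => (inferInstance : Module R G)
        | i + 1 => 𝒟.mRM i
      tRBM := fun i => match i with
        | 0 => (inferInstance : IsScalarTower R D G)
        | i + 1 => 𝒟.tRBM i
      mSM := (inferInstance : Module S G)
      tSAM := (inferInstance : IsScalarTower S C G)
      mB'M := fun i => match i with
        | 0 => 𝒟.mSM
        | i + 1 => 𝒟.mB'M i
      tB'AM := fun i => match i with
        | 0 => 𝒟.tSAM
        | i + 1 => 𝒟.tB'AM i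
      hp := fun i => match i with
        | 0 => hpD
        | i + 1 => 𝒟.hp i
      α := fun i => match i with
        | 0 => α
        | i + 1 => 𝒟.α i
      surjSA := hsurj
      fpSA := hfp
      surjBA' := fun i => match i with
        | 0 => fun _ => 𝒟.surjSA
        | i + 1 => fun hi => 𝒟.surjBA' i (by omega)
      fpBA' := fun i => match i with
        | 0 => fun _ => 𝒟.fpSA
        | i + 1 => fun hi => 𝒟.fpBA' i (by omega)
      finiteBA := fun i => match i with
        | 0 => fun _ => hfinDC
        | i + 1 => fun hi => 𝒟.finiteBA i (by omega)
      smooth := fun i => match i with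
        | 0 => fun _ => hsmooth
        | i + 1 => fun hi => 𝒟.smooth i (by omega)
      geomIrred := fun i => match i with
        | 0 => fun _ => hgi
        | i + 1 => fun hi => 𝒟.geomIrred i (by omega)
      finiteM := fun i => match i with
        | 0 => fun _ => hfinCG
        | i + 1 => fun hi => 𝒟.finiteM i (by omega)
      isoN := e
      isoCoker := fun i => match i with
        | 0 => fun _ => 𝒟.isoN
        | i + 1 => fun hi => 𝒟.isoCoker i (by omega)
      fibreIso := fun i => match i with
        | 0 => fun _ => hα
        | i + 1 => fun hi => 𝒟.fibreIso i (by omega)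
      cokerLast := by
        have hpos := 𝒟.pos
        have key : ∀ m : ℕ, m + 1 = 𝒟.n → Function.Surjective (𝒟.α m) := by
          intro m hm
          have : m = 𝒟.n - 1 := by omega
          subst this
          exact 𝒟.cokerLast
        obtain ⟨k, hk⟩ : ∃ k, 𝒟.n = k + 1 := ⟨𝒟.n - 1, by omega⟩
        have e1 : 𝒟.n + 1 - 1 = k + 1 := by omega
        rw [e1]
        exact key k hk.symm }
  let 𝒜' : FlatCA.CompleteDevissageAt R S N p q 𝒟' :=
    { qB := fun i => match i with
        | 0 => y
        | i + 1 => 𝒜.qB i
      qA := fun i => match i with
        | 0 => z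
        | i + 1 => 𝒜.qA i
      hqB := fun i => match i with
        | 0 => (inferInstance : y.IsPrime)
        | i + 1 => 𝒜.hqB i
      hqA := fun i => match i with
        | 0 => (inferInstance : z.IsPrime)
        | i + 1 => 𝒜.hqA i
      overB := fun i => match i with
        | 0 => hyp
        | i + 1 => 𝒜.overB i
      overA := fun i => match i with
        | 0 => hzy
        | i + 1 => 𝒜.overA i
      pureTrans := fun i => match i with
        | 0 => fun _ => h4
        | i + 1 => fun hi => 𝒜.pureTrans i (by
            have : i + 1 < 𝒟.n + 1 := hi
            omega)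
      uniq := fun i => match i with
        | 0 => fun _ Q hQp hQ => @h3 Q hQp hQ
        | i + 1 => fun hi Q hQp hQ => by
            have hi' : i < 𝒟.n := by
              have : i + 1 < 𝒟.n + 1 := hi
              omega
            have key := 𝒜.uniq i hi'
            exact @key Q hQp hQ
      q0 := hzq.over.symm
      qStep := fun i => match i with
        | 0 => fun _ => 𝒜.q0
        | i + 1 => fun hi => 𝒜.qStep i (by
            have : i + 1 + 1 < 𝒟.n + 1 := hi
            omega)
      d := fun i => match i with
        | 0 => n
        | i + 1 => 𝒜.d i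
      relDim := fun i => match i with
        | 0 => fun _ => hsm
        | i + 1 => fun hi => 𝒜.relDim i (by
            have : i + 1 < 𝒟.n + 1 := hi
            omega)
      locDim := fun i => match i with
        | 0 => fun _ => hloc
        | i + 1 => fun hi => 𝒜.locDim i (by
            have : i + 1 < 𝒟.n + 1 := hi
            omega) }
  exact ⟨𝒟', ⟨𝒜'⟩⟩

end Groth.Agent.Lib.helper26.DevCons
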