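import Mathlib
import Groth.Prelude.Def_Found
import Groth.Agent.Lib.Helper26.DimFormula6
import Groth.Agent.Lib.Helper26.DimFormulaLoc1

/-!
# The dimension formula under a local catenary hypothesis (helper26)
-/

set_option autoImplicit false
universe u

namespace Groth.Agent.Lib.helper26.DimFormula

open Polynomial

section OneGen

variable {R S : Type u} [CommRing R] [IsDomain R] [IsNoetherianRing R] [CommRing S] [IsDomain S]
  [Algebra R S] [FaithfulSMul R S]

/-- one generator: the dimension formula, local catenary version. -/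
theorem dimension_formula_oneGen' (φ : R[X] →ₐ[R] S) (hφ : Function.Surjective φ) (p : Ideal R)
    [p.IsPrime] (q : Ideal S) [q.IsPrime] [q.LiesOver p]
    (hcat : ∀ z : PrimeSpectrum R[X], z.asIdeal ≤ q.comap φ → CatBelow z) :
    (q.height : Cardinal.{u}) + Algebra.trdeg (R ⧸ p) (S ⧸ q) =
        (p.height : Cardinal.{u}) + Algebra.trdeg R S := by
  have hlo := liesOver_comap φ p q
  have hP : (q.comap φ).IsPrime := Ideal.comap_isPrime φ q
  have E1 := dimension_formula_polynomial p (q.comap φ)
  rw [trdeg_quot_comap_eq φ hφ p q] at E1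
  by_cases hker : RingHom.ker (φ : R[X] →+* S) = ⊥
  · have hinj : Function.Injective φ := (RingHom.injective_iff_ker_eq_bot (φ : R[X] →+* S)).mpr hker
    let e : R[X] ≃ₐ[R] S := AlgEquiv.ofBijective φ ⟨hinj, hφ⟩
    have ht : Algebra.trdeg R S = 1 := by
      rw [← e.trdeg_eq]
      exact Polynomial.trdeg_of_isDomain
    have hh : (q.comap φ).height = q.height := by
      have := RingEquiv.height_comap e.toRingEquiv q
      rw [← this]
      congr 1
    rw [ht, ← hh, ← E1]
  · have hkp : (RingHom.ker (φ : R[X] →+* S)).IsPrime := RingHom.ker_isPrime _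
    have hbp : (⊥ : Ideal R).IsPrime := Ideal.isPrime_bot
    have hklo : (RingHom.ker (φ : R[X] →+* S)).LiesOver (⊥ : Ideal R) := by
      constructor
      rw [Ideal.under_def]
      ext a
      simp only [Ideal.mem_comap, RingHom.mem_ker, Ideal.mem_bot]
      change _ ↔ φ (algebraMap R R[X] a) = 0
      rw [φ.commutes]
      constructor
      · intro h; rw [h, map_zero]
      · intro h
        exact (FaithfulSMul.algebraMap_injective R S) (by rw [h, map_zero])
    have hne : RingHom.ker (φ : R[X] →+* S) ≠ (⊥ : Ideal R).map C := by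
      rw [Ideal.map_bot]; exact hker
    have hQ : (RingHom.ker (φ : R[X] →+* S)).height = 1 := by
      rw [height_eq_add_one ⊥ _ hne, Ideal.height_bot, zero_add]
    have halg : Algebra.IsAlgebraic R S := by
      obtain ⟨f, hf, hf0⟩ := Submodule.exists_mem_ne_zero_of_ne_bot hker
      have hx : IsAlgebraic R (φ X) := by
        refine ⟨f, hf0, ?_⟩
        rw [Polynomial.aeval_algHom_apply, Polynomial.aeval_X_left_apply]
        exact hf
      have hadj := (Algebra.isAlgebraic_adjoin_singleton_iff (R := R)).mpr hx
      refine ⟨fun b => ?_⟩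
      obtain ⟨g, rfl⟩ := hφ b
      have : φ g = Polynomial.aeval (φ X) g := by
        rw [Polynomial.aeval_algHom_apply, Polynomial.aeval_X_left_apply]
      rw [this]
      exact hadj _ (Polynomial.aeval_mem_adjoin_singleton _ _)
    have ht : Algebra.trdeg R S = 0 := trdeg_eq_zero
    rw [ht, add_zero]
    have heq := height_add_height_ker_eq' (φ : R[X] →+* S) hφ q hcat
    rw [hQ] at heq
    have h1 : ((q.height : Cardinal.{u}) + Algebra.trdeg (R ⧸ p) (S ⧸ q)) + 1
        = (p.height : Cardinal.{u}) + 1 := by
      rw [E1, add_right_comm, ← Cardinal.ofENat_one, ← Cardinal.ofENat_add, heq]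
      rfl
    exact Cardinal.add_right_inj_of_lt_aleph0 Cardinal.one_lt_aleph0 |>.mp h1

end OneGen

section Tower

variable {R R' S : Type u} [CommRing R] [IsDomain R] [CommRing R']
  [IsNoetherianRing R'] [CommRing S] [IsDomain S] [Algebra R R'] [Algebra R' S] [Algebra R S]
  [IsScalarTower R R' S] [FaithfulSMul R R'] [FaithfulSMul R' S]

/-- the dimension equality is transitive in towers. -/
theorem dimEq_trans (p : Ideal R) [p.IsPrime] (p' : Ideal R') [p'.IsPrime] (q : Ideal S)
    [q.IsPrime] [q.LiesOver p'] [p'.LiesOver p] [q.LiesOver p]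
    (e1 : (p'.height : Cardinal.{u}) + Algebra.trdeg (R ⧸ p) (R' ⧸ p') =
        (p.height : Cardinal.{u}) + Algebra.trdeg R R')
    (e2 : (q.height : Cardinal.{u}) + Algebra.trdeg (R' ⧸ p') (S ⧸ q) =
        (p'.height : Cardinal.{u}) + Algebra.trdeg R' S) :
    (q.height : Cardinal.{u}) + Algebra.trdeg (R ⧸ p) (S ⧸ q) =
        (p.height : Cardinal.{u}) + Algebra.trdeg R S := by
  have hst : IsScalarTower (R ⧸ p) (R' ⧸ p') (S ⧸ q) := IsScalarTower.of_algebraMap_eq <| by
    intro x
    obtain ⟨r, rfl⟩ := Ideal.Quotient.mk_surjective x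
    change Ideal.Quotient.mk q (algebraMap R S r)
      = Ideal.Quotient.mk q (algebraMap R' S (algebraMap R R' r))
    rw [← IsScalarTower.algebraMap_apply R R' S]
  have hRS : FaithfulSMul R S := by
    rw [faithfulSMul_iff_algebraMap_injective, IsScalarTower.algebraMap_eq R R' S]
    exact (FaithfulSMul.algebraMap_injective R' S).comp (FaithfulSMul.algebraMap_injective R R')
  have T1 := trdeg_add_eq (R ⧸ p) (R' ⧸ p') (A := S ⧸ q)
  have T2 := trdeg_add_eq R R' (A := S)
  have hfin : (p'.height : Cardinal.{u}) < Cardinal.aleph0 :=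
    Cardinal.ofENat_lt_aleph0.mpr (Ideal.height_lt_top_of_isPrime)
  rw [← T1, ← T2]
  apply (Cardinal.add_right_inj_of_lt_aleph0 hfin).mp
  calc (q.height : Cardinal.{u}) + (Algebra.trdeg (R ⧸ p) (R' ⧸ p') + Algebra.trdeg (R' ⧸ p') (S ⧸ q))
        + p'.height
      = ((q.height : Cardinal.{u}) + Algebra.trdeg (R' ⧸ p') (S ⧸ q))
        + ((p'.height : Cardinal.{u}) + Algebra.trdeg (R ⧸ p) (R' ⧸ p')) := by ring
    _ = ((p'.height : Cardinal.{u}) + Algebra.trdeg R' S)
        + ((p.height : Cardinal.{u}) + Algebra.trdeg R R') := by rw [e1, e2]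
    _ = _ := by ring

end Tower

/-- local catenary condition for the polynomial ring over an intermediate ring `R'`, at the
primes over `q ∩ R'`. -/
def LC {S : Type u} [CommRing S] (q : Ideal S) (R' : Type u) [CommRing R'] [Algebra R' S] : Prop :=
  ∀ (P : Ideal R'[X]) [P.IsPrime], P.comap (C : R' →+* R'[X]) = q.under R' →
    ∀ z : PrimeSpectrum R'[X], z.asIdeal ≤ P → CatBelow z

/-- `LC` for all intermediate rings of finite type over `R`. -/
def HLC {S : Type u} [CommRing S] (q : Ideal S) (R : Type u) [CommRing R] [Algebra R S] : Prop :=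
  ∀ (R' : Type u) [CommRing R'] [IsDomain R'] [Algebra R R'] [Algebra R' S] [IsScalarTower R R' S]
    [Algebra.FiniteType R R'] [FaithfulSMul R' S], LC q R'

theorem HLC.self {S : Type u} [CommRing S] {q : Ideal S} {R : Type u} [CommRing R] [IsDomain R]
    [Algebra R S] [FaithfulSMul R S] (h : HLC q R) : LC q R :=
  h R

theorem HLC.trans {S : Type u} [CommRing S] {q : Ideal S} {R R₁ : Type u} [CommRing R]
    [CommRing R₁] [Algebra R S] [Algebra R R₁] [Algebra R₁ S] [IsScalarTower R R₁ S]
    [Algebra.FiniteType R R₁] (h : HLC q R) : HLC q R₁ := by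
  intro R' _ _ _ _ _ hft _
  let _ : Algebra R R' := Algebra.compHom R' (algebraMap R R₁)
  have : IsScalarTower R R₁ R' := IsScalarTower.of_algebraMap_eq (fun x => rfl)
  have : IsScalarTower R R' S := IsScalarTower.of_algebraMap_eq (fun x => by
    change algebraMap R S x = algebraMap R' S (algebraMap R₁ R' (algebraMap R R₁ x))
    rw [← IsScalarTower.algebraMap_apply R₁ R' S, ← IsScalarTower.algebraMap_apply R R₁ S])
  have : Algebra.FiniteType R R' :=
    Algebra.FiniteType.trans (inferInstance : Algebra.FiniteType R R₁) hft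
  exact h R'

/-- induction on a finite generating set, local catenary version. -/
theorem dimEq_of_adjoin {S : Type u} [CommRing S] [IsDomain S] (q : Ideal S) [q.IsPrime] :
    ∀ (s : Finset S)
    (R : Type u) [CommRing R] [IsDomain R] [IsNoetherianRing R] [Algebra R S] [FaithfulSMul R S],
    Algebra.adjoin R (s : Set S) = ⊤ → HLC q R → ∀ (p : Ideal R) [p.IsPrime] [q.LiesOver p],
    (q.height : Cardinal.{u}) + Algebra.trdeg (R ⧸ p) (S ⧸ q) =
        (p.height : Cardinal.{u}) + Algebra.trdeg R S := by
  classical
  intro s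
  induction s using Finset.induction_on with
  | empty =>
    intro R _ _ _ _ _ h hH p _ _
    let φ : R[X] →ₐ[R] S := Polynomial.aeval (0 : S)
    have hφ : Function.Surjective φ := by
      intro b
      have hb : b ∈ (⊥ : Subalgebra R S) := by
        rw [← Algebra.adjoin_empty, ← Finset.coe_empty, h]; exact Algebra.mem_top
      obtain ⟨r, rfl⟩ := Algebra.mem_bot.mp hb
      exact ⟨C r, by simp [φ]⟩
    refine dimension_formula_oneGen' φ hφ p q ?_
    have hP : (q.comap φ).IsPrime := Ideal.comap_isPrime φ q
    refine hH.self (q.comap φ) ?_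
    have := (liesOver_comap φ (q.under R) q).over
    exact this.symm
  | insert a s ha ih =>
    intro R _ _ _ _ _ h hH p _ _
    let φ₀ : R[X] →ₐ[R] S := Polynomial.aeval a
    let R' : Subalgebra R S := φ₀.range
    let φ : R[X] →ₐ[R] R' := φ₀.rangeRestrict
    have hφ : Function.Surjective φ := φ₀.rangeRestrict_surjective
    have hft : Algebra.FiniteType R R' := Algebra.FiniteType.of_surjective φ hφ
    have hN : IsNoetherianRing R' := Algebra.FiniteType.isNoetherianRing R R'
    have hRR' : FaithfulSMul R R' := by
      rw [faithfulSMul_iff_algebraMap_injective]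
      intro x y hxy
      apply FaithfulSMul.algebraMap_injective R S
      have := congrArg (Subtype.val) hxy
      exact this
    let p' : Ideal R' := q.under R'
    have hp' : p'.IsPrime := Ideal.IsPrime.under R' q
    have hlo1 : q.LiesOver p' := Ideal.over_under q
    have hlo2 : p'.LiesOver p := Ideal.under_liesOver_of_liesOver R' q p
    have h1 : (p'.height : Cardinal.{u}) + Algebra.trdeg (R ⧸ p) (R' ⧸ p') =
        (p.height : Cardinal.{u}) + Algebra.trdeg R R' := by
      refine dimension_formula_oneGen' φ hφ p p' ?_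
      have hP : (p'.comap φ).IsPrime := Ideal.comap_isPrime φ p'
      refine hH.self (p'.comap φ) ?_
      have h3 := (liesOver_comap φ p p').over
      have h4 : p = q.under R := Ideal.over_def q p
      rw [← h4]
      exact h3.symm
    have haR' : a ∈ R' := ⟨X, by simp [φ₀]⟩
    have hadj : Algebra.adjoin R' (s : Set S) = ⊤ := by
      rw [eq_top_iff]
      intro x _
      have hx : x ∈ Algebra.adjoin R ((insert a s : Finset S) : Set S) := by
        rw [h]; exact Algebra.mem_top
      have hle : Algebra.adjoin R ((insert a s : Finset S) : Set S)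
          ≤ (Algebra.adjoin R' (s : Set S)).restrictScalars R := by
        apply Algebra.adjoin_le
        intro y hy
        rw [Finset.coe_insert] at hy
        rcases hy with rfl | hy
        · exact Subalgebra.algebraMap_mem (Algebra.adjoin R' (s : Set S)) (⟨y, haR'⟩ : R')
        · exact Algebra.subset_adjoin hy
      exact hle hx
    have h2 := ih R' hadj (hH.trans) p'
    exact dimEq_trans p p' q h1 h2

end Groth.Agent.Lib.helper26.DimFormula
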