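import Mathlib
import Groth.Prelude.Def_Found
import Groth.Agent.Lib.Helper26.DimFormulaLoc2
import Groth.Agent.Lib.Helper26.CMPoly3

/-!
# The dimension formula over a local base, with catenary localizations of subalgebras of `S[T]`
(helper26)
-/

set_option autoImplicit false
universe u

namespace Groth.Agent.Lib.helper26.DimFormula

open Polynomial Groth.Agent.Lib.helper26.CMPoly

theorem dimension_formula_local (R : Type u) [CommRing R] [IsDomain R]
    [IsNoetherianRing R] [IsLocalRing R] (S : Type u) [CommRing S] [IsDomain S] [Algebra R S]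
    [FaithfulSMul R S] [Algebra.FiniteType R S] (q : Ideal S) [q.IsPrime]
    [q.LiesOver (IsLocalRing.maximalIdeal R)]
    (hcat : ∀ A' : Subalgebra R (Polynomial S), A'.FG →
      ∀ (m' : Ideal A') [m'.IsMaximal], m'.LiesOver (IsLocalRing.maximalIdeal R) →
        CAlg.IsCatenary (Localization.AtPrime m')) :
    (q.height : Cardinal.{u}) + Algebra.trdeg (R ⧸ IsLocalRing.maximalIdeal R) (S ⧸ q) =
      ((IsLocalRing.maximalIdeal R).height : Cardinal.{u}) + Algebra.trdeg R S := by
  obtain ⟨s, hs⟩ := (inferInstance : Algebra.FiniteType R S).out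
  refine dimEq_of_adjoin q s R hs ?_ (IsLocalRing.maximalIdeal R)
  -- the local catenary hypothesis
  intro R' _ _ _ _ _ hft _ P hP hPC z hz
  let ψ : R'[X] →ₐ[R] S[X] := Polynomial.mapAlgHom (IsScalarTower.toAlgHom R R' S)
  have hinj : Function.Injective ψ := by
    have : (ψ : R'[X] → S[X]) = Polynomial.map (algebraMap R' S) := rfl
    rw [this]
    exact Polynomial.map_injective (algebraMap R' S) (FaithfulSMul.algebraMap_injective R' S)
  let A' : Subalgebra R S[X] := ψ.range
  have hftX : Algebra.FiniteType R R'[X] :=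
    Algebra.FiniteType.trans hft (inferInstance : Algebra.FiniteType R' R'[X])
  have hFG : A'.FG := by
    have h1 : (⊤ : Subalgebra R R'[X]).FG := hftX.out
    have h2 := h1.map ψ
    rwa [Algebra.map_top] at h2
  let e : R'[X] ≃ₐ[R] A' := AlgEquiv.ofInjective ψ hinj
  obtain ⟨M, hM, hPM⟩ := Ideal.exists_le_maximal P hP.ne_top
  let m' : Ideal A' := M.comap (e.symm : A' →+* R'[X])
  have hm' : m'.IsMaximal :=
    Ideal.comap_isMaximal_of_surjective (e.symm : A' →+* R'[X]) e.symm.surjective
  -- `M` lies over the maximal ideal of `R`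
  have hMR : M.under R = IsLocalRing.maximalIdeal R := by
    have hle : IsLocalRing.maximalIdeal R ≤ M.under R := by
      have h1 : IsLocalRing.maximalIdeal R = q.under R :=
        Ideal.over_def q (IsLocalRing.maximalIdeal R)
      rw [h1]
      intro x hx
      rw [Ideal.under_def, Ideal.mem_comap] at hx ⊢
      apply hPM
      -- `algebraMap R R'[X] x = C (algebraMap R R' x)`
      have h2 : algebraMap R R'[X] x = C (algebraMap R R' x) := rfl
      rw [h2]
      have h3 : algebraMap R R' x ∈ P.comap (C : R' →+* R'[X]) := by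
        rw [hPC, Ideal.under_def, Ideal.mem_comap, ← IsScalarTower.algebraMap_apply R R' S]
        exact hx
      exact h3
    have hne : M.under R ≠ ⊤ := by
      have : (M.under R).IsPrime := Ideal.IsPrime.under R M
      exact Ideal.IsPrime.ne_top this
    exact ((IsLocalRing.maximalIdeal.isMaximal R).eq_of_le hne hle).symm
  have hlo : m'.LiesOver (IsLocalRing.maximalIdeal R) := by
    constructor
    rw [← hMR]
    ext x
    simp only [Ideal.under_def, Ideal.mem_comap, m']
    have : (e.symm : A' →+* R'[X]) (algebraMap R A' x) = algebraMap R R'[X] x :=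
      e.symm.commutes x
    rw [this]
  have hc := hcat A' hFG m' hlo
  let M' : Ideal R'[X] := m'.comap ((e.toRingEquiv : R'[X] ≃+* A') : R'[X] →+* A')
  have hM'p : M'.IsPrime := Ideal.comap_isPrime _ _
  have hc' : CAlg.IsCatenary (Localization.AtPrime M') :=
    isCatenary_of_ringEquiv (localizationEquiv (e.toRingEquiv : R'[X] ≃+* A') m').symm hc
  refine catBelow_of_localization M' hc' z ?_
  refine hz.trans (hPM.trans ?_)
  intro x hx
  change (e.symm : A' →+* R'[X]) (e x) ∈ M
  have : (e.symm : A' →+* R'[X]) (e x) = x := e.symm_apply_apply x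
  rw [this]
  exact hx

end Groth.Agent.Lib.helper26.DimFormula
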