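import Mathlib
import Groth.Agent.Lib.Helper26.HenselPair

/-!
# Directed colimits of henselian pairs (helper26)

For a directed system `(Ra, t)` of `A`-algebras with `(Ra a, I Ra a)` henselian, the direct limit
is henselian along `I`; finitely presented algebra maps into the limit factor through a stage.
-/

universe u

namespace Groth.Agent.Lib.helper26.DirLim

open Groth.Agent.Lib.helper26.HenselPair Polynomial

variable {A : Type u} [CommRing A] (I : Ideal A) {κ : Type u} [Preorder κ] [IsDirectedOrder κ]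
  [Nonempty κ] (Ra : κ → Type u) [∀ a, CommRing (Ra a)] [∀ a, Algebra A (Ra a)]
  (t : ∀ a b : κ, a ≤ b → (Ra a →+* Ra b)) [DirectedSystem Ra (fun a b h => t a b h)]

theorem of_t {a b : κ} (h : a ≤ b) (x : Ra a) :
    DirectLimit.Ring.of Ra t b (t a b h x) = DirectLimit.Ring.of Ra t a x :=
  DirectLimit.Ring.of_f h x

theorem t_t {a b c : κ} (hab : a ≤ b) (hbc : b ≤ c) (x : Ra a) :
    t b c hbc (t a b hab x) = t a c (hab.trans hbc) x :=
  DirectedSystem.map_map' (f := t) hab hbc x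

theorem exists_of (z : DirectLimit Ra t) : ∃ a x, DirectLimit.Ring.of Ra t a x = z := by
  induction z using DirectLimit.induction with
  | _ i x => exact ⟨i, x, rfl⟩

theorem exists_of_fin : ∀ (n : ℕ) (z : Fin n → DirectLimit Ra t),
    ∃ (a : κ) (x : Fin n → Ra a), ∀ i, DirectLimit.Ring.of Ra t a (x i) = z i := by
  intro n
  induction n with
  | zero => exact fun z => ⟨Classical.arbitrary κ, fun i => i.elim0, fun i => i.elim0⟩
  | succ n ih =>
    intro z
    obtain ⟨a, x, hx⟩ := ih (fun i => z i.castSucc)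
    obtain ⟨b, y, hy⟩ := exists_of Ra t (z (Fin.last n))
    obtain ⟨c, hac, hbc⟩ := exists_ge_ge a b
    refine ⟨c, Fin.snoc (fun i => t a c hac (x i)) (t b c hbc y), fun i => ?_⟩
    refine Fin.lastCases ?_ (fun i => ?_) i
    · rw [Fin.snoc_last, of_t, hy]
    · rw [Fin.snoc_castSucc, of_t, hx]

theorem of_eq_of {a : κ} {x y : Ra a}
    (h : DirectLimit.Ring.of Ra t a x = DirectLimit.Ring.of Ra t a y) :
    ∃ (b : κ) (hab : a ≤ b), t a b hab x = t a b hab y := by
  obtain ⟨i, hx, hy, e⟩ := Quotient.exact (a := (⟨a, x⟩ : Σ i, Ra i)) (b := ⟨a, y⟩) h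
  exact ⟨i, hx, e⟩

theorem of_eq_zero_fin {a : κ} : ∀ (n : ℕ) (x : Fin n → Ra a),
    (∀ i, DirectLimit.Ring.of Ra t a (x i) = 0) → ∃ (b : κ) (hab : a ≤ b), ∀ i, t a b hab (x i) = 0 := by
  intro n
  induction n with
  | zero => exact fun x _ => ⟨a, le_rfl, fun i => i.elim0⟩
  | succ n ih =>
    intro x hx
    obtain ⟨b, hab, hb⟩ := ih (fun i => x i.castSucc) (fun i => hx _)
    have h0 : DirectLimit.Ring.of Ra t a (x (Fin.last n)) = DirectLimit.Ring.of Ra t a 0 := by
      rw [hx, map_zero]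
    obtain ⟨c, hac, hc⟩ := of_eq_of Ra t h0
    rw [map_zero] at hc
    obtain ⟨d, hbd, hcd⟩ := exists_ge_ge b c
    refine ⟨d, hab.trans hbd, fun i => ?_⟩
    refine Fin.lastCases ?_ (fun i => ?_) i
    · rw [← t_t Ra t hac hcd, hc, map_zero]
    · rw [← t_t Ra t hab hbd, hb, map_zero]

variable (ht : ∀ (a b : κ) (h : a ≤ b), (t a b h).comp (algebraMap A (Ra a)) = algebraMap A (Ra b))
  [Algebra A (DirectLimit Ra t)]
  (halg : ∀ (a : κ) (x : A), algebraMap A (DirectLimit Ra t) x =
    DirectLimit.Ring.of Ra t a (algebraMap A (Ra a) x))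

include ht in
theorem t_mem_map {a b : κ} (h : a ≤ b) {x : Ra a} (hx : x ∈ I.map (algebraMap A (Ra a))) :
    t a b h x ∈ I.map (algebraMap A (Ra b)) := by
  have := Ideal.mem_map_of_mem (t a b h) hx
  rwa [Ideal.map_map, ht] at this

include halg in
theorem of_mem_map {a : κ} {x : Ra a} (hx : x ∈ I.map (algebraMap A (Ra a))) :
    DirectLimit.Ring.of Ra t a x ∈ I.map (algebraMap A (DirectLimit Ra t)) := by
  have := Ideal.mem_map_of_mem (DirectLimit.Ring.of Ra t a) hx
  rw [Ideal.map_map] at this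
  have h2 : (DirectLimit.Ring.of Ra t a).comp (algebraMap A (Ra a)) =
      algebraMap A (DirectLimit Ra t) := by
    ext x; exact (halg a x).symm
  rwa [h2] at this

include ht halg in
theorem exists_of_mem_map (z : DirectLimit Ra t)
    (hz : z ∈ I.map (algebraMap A (DirectLimit Ra t))) :
    ∃ (a : κ) (x : Ra a), x ∈ I.map (algebraMap A (Ra a)) ∧ DirectLimit.Ring.of Ra t a x = z := by
  unfold Ideal.map at hz
  induction hz using Submodule.span_induction with
  | mem z hz =>
    obtain ⟨i, hi, rfl⟩ := hz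
    let a := Classical.arbitrary κ
    exact ⟨a, algebraMap A (Ra a) i, Ideal.mem_map_of_mem _ hi, (halg a i).symm⟩
  | zero => exact ⟨Classical.arbitrary κ, 0, zero_mem _, map_zero _⟩
  | add z₁ z₂ _ _ h₁ h₂ =>
    obtain ⟨a, x₁, hx₁, rfl⟩ := h₁
    obtain ⟨b, x₂, hx₂, rfl⟩ := h₂
    obtain ⟨c, hac, hbc⟩ := exists_ge_ge a b
    refine ⟨c, t a c hac x₁ + t b c hbc x₂,
      add_mem (t_mem_map I Ra t ht hac hx₁) (t_mem_map I Ra t ht hbc hx₂), ?_⟩
    rw [map_add, of_t, of_t]
  | smul l z _ h =>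
    obtain ⟨a, x, hx, rfl⟩ := h
    obtain ⟨b, y, rfl⟩ := exists_of Ra t l
    obtain ⟨c, hac, hbc⟩ := exists_ge_ge a b
    refine ⟨c, t b c hbc y * t a c hac x, Ideal.mul_mem_left _ _ (t_mem_map I Ra t ht hac hx), ?_⟩
    rw [map_mul, of_t, of_t, smul_eq_mul]

include ht halg in
theorem exists_of_mem_map_fun (n : ℕ) (z : ℕ → DirectLimit Ra t)
    (hz : ∀ l, z l ∈ I.map (algebraMap A (DirectLimit Ra t))) :
    ∃ (a : κ) (y : ℕ → Ra a), ∀ l < n, y l ∈ I.map (algebraMap A (Ra a)) ∧
      DirectLimit.Ring.of Ra t a (y l) = z l := by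
  induction n with
  | zero => exact ⟨Classical.arbitrary κ, fun _ => 0, fun l hl => absurd hl (Nat.not_lt_zero l)⟩
  | succ n ih =>
    obtain ⟨a, y, hy⟩ := ih
    obtain ⟨b, x, hx, hxz⟩ := exists_of_mem_map I Ra t ht halg (z n) (hz n)
    obtain ⟨c, hac, hbc⟩ := exists_ge_ge a b
    refine ⟨c, fun l => if l = n then t b c hbc x else t a c hac (y l), fun l hl => ?_⟩
    by_cases hln : l = n
    · subst hln
      simp only [if_true]
      exact ⟨t_mem_map I Ra t ht hbc hx, by rw [of_t, hxz]⟩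
    · simp only [if_neg hln]
      have hl' : l < n := lt_of_le_of_ne (Nat.lt_succ_iff.mp hl) hln
      exact ⟨t_mem_map I Ra t ht hac (hy l hl').1, by rw [of_t, (hy l hl').2]⟩

include ht halg in
theorem le_jacobson (h : ∀ a, I.map (algebraMap A (Ra a)) ≤ Ideal.jacobson ⊥) :
    I.map (algebraMap A (DirectLimit Ra t)) ≤ Ideal.jacobson ⊥ := by
  intro z hz
  rw [Ideal.mem_jacobson_bot]
  intro w
  obtain ⟨a, x, hx, rfl⟩ := exists_of_mem_map I Ra t ht halg z hz
  obtain ⟨b, y, rfl⟩ := exists_of Ra t w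
  obtain ⟨c, hac, hbc⟩ := exists_ge_ge a b
  have h1 := Ideal.mem_jacobson_bot.mp (h c (t_mem_map I Ra t ht hac hx)) (t b c hbc y)
  have h2 := h1.map (DirectLimit.Ring.of Ra t c)
  rwa [map_add, map_mul, map_one, of_t, of_t] at h2

include ht halg in
theorem gabber (h : ∀ a, Gabber (I.map (algebraMap A (Ra a)))) :
    Gabber (I.map (algebraMap A (DirectLimit Ra t))) := by
  intro n hn p hdeg hcoef
  obtain ⟨c, y, hy⟩ := exists_of_mem_map_fun I Ra t ht halg (n + 1) (fun l => p.coeff l) hcoef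
  set pc : (Ra c)[X] := ∑ l ∈ Finset.range (n + 1), monomial l (y l) with hpc
  have hpc_coeff : ∀ m, pc.coeff m = if m < n + 1 then y m else 0 := by
    intro m
    rw [hpc, finsetSum_coeff]
    simp only [coeff_monomial]
    rw [Finset.sum_ite_eq' (Finset.range (n + 1)) m]
    simp only [Finset.mem_range]
  have hpc_mem : ∀ m, pc.coeff m ∈ I.map (algebraMap A (Ra c)) := by
    intro m
    rw [hpc_coeff]
    split_ifs with h'
    · exact (hy m h').1
    · exact zero_mem _
  have hpc_map : pc.map (DirectLimit.Ring.of Ra t c) = p := by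
    ext m
    rw [coeff_map, hpc_coeff]
    split_ifs with h'
    · exact (hy m h').2
    · rw [map_zero]
      exact (coeff_eq_zero_of_natDegree_lt (by omega)).symm
  have hpc_deg : pc.natDegree ≤ n := by
    rw [natDegree_le_iff_coeff_eq_zero]
    intro m hm
    rw [hpc_coeff, if_neg (by omega)]
  obtain ⟨α, hα1, hαroot⟩ := h c n hn pc hpc_deg hpc_mem
  refine ⟨DirectLimit.Ring.of Ra t c α, ?_, ?_⟩
  · have : DirectLimit.Ring.of Ra t c α - 1 = DirectLimit.Ring.of Ra t c (α - 1) := by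
      rw [map_sub, map_one]
    rw [this]
    exact of_mem_map I Ra t halg hα1
  · show (X ^ n * (X - 1) + p).eval _ = 0
    have h4 : (X ^ n * (X - 1) + p : (DirectLimit Ra t)[X]) =
        (X ^ n * (X - 1) + pc).map (DirectLimit.Ring.of Ra t c) := by
      rw [← hpc_map]
      simp
    rw [h4, Polynomial.eval_map, Polynomial.eval₂_at_apply, hαroot, map_zero]

include ht halg in
/-- A directed colimit of henselian pairs is henselian. -/
theorem henselianRing (h : ∀ a, HenselianRing (Ra a) (I.map (algebraMap A (Ra a)))) :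
    HenselianRing (DirectLimit Ra t) (I.map (algebraMap A (DirectLimit Ra t))) :=
  henselianRing_of_gabber (le_jacobson I Ra t ht halg fun a => (h a).jac)
    (gabber I Ra t ht halg fun a => gabber_of_henselianRing (h a))

/-- The transition maps as algebra maps. -/
noncomputable def tAlg {a b : κ} (h : a ≤ b) : Ra a →ₐ[A] Ra b :=
  { t a b h with commutes' := fun x => RingHom.congr_fun (ht a b h) x }

/-- The canonical maps to the limit as algebra maps. -/
noncomputable def ofAlg (a : κ) : Ra a →ₐ[A] DirectLimit Ra t :=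
  { DirectLimit.Ring.of Ra t a with commutes' := fun x => (halg a x).symm }

include ht halg in
/-- A map from a finitely presented algebra to the direct limit factors through a stage. -/
theorem exists_algHom_of_finitePresentation (R₀ : Type u) [CommRing R₀] [Algebra A R₀]
    [Algebra.FinitePresentation A R₀] (γ : R₀ →ₐ[A] DirectLimit Ra t) :
    ∃ (a : κ) (γa : R₀ →ₐ[A] Ra a), ∀ r, DirectLimit.Ring.of Ra t a (γa r) = γ r := by
  obtain ⟨p, fR, hfR, hfgR⟩ := Algebra.FinitePresentation.out (R := A) (A := R₀)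
  obtain ⟨q, r, hr⟩ := Submodule.fg_iff_exists_fin_generating_family.mp hfgR
  obtain ⟨a₀, z, hz⟩ := exists_of_fin Ra t p (fun i => γ (fR (MvPolynomial.X i)))
  let θ₀ : MvPolynomial (Fin p) A →ₐ[A] Ra a₀ := MvPolynomial.aeval z
  have hθ₀ : (ofAlg Ra t halg a₀).comp θ₀ = γ.comp fR := by
    apply MvPolynomial.algHom_ext
    intro i
    show DirectLimit.Ring.of Ra t a₀ (MvPolynomial.aeval z (MvPolynomial.X i)) = _
    rw [MvPolynomial.aeval_X, hz]
    rfl
  have hkill₀ : ∀ j, DirectLimit.Ring.of Ra t a₀ (θ₀ (r j)) = 0 := by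
    intro j
    have h1 := AlgHom.congr_fun hθ₀ (r j)
    have h2 : r j ∈ RingHom.ker fR.toRingHom := by
      rw [← hr]; exact Submodule.subset_span ⟨j, rfl⟩
    have h3 : fR (r j) = 0 := h2
    simp only [AlgHom.comp_apply, h3, map_zero] at h1
    exact h1
  obtain ⟨b, hab, hb⟩ := of_eq_zero_fin Ra t q (fun j => θ₀ (r j)) hkill₀
  let g : MvPolynomial (Fin p) A →ₐ[A] Ra b := (tAlg Ra t ht hab).comp θ₀
  have hker : RingHom.ker fR.toRingHom ≤ RingHom.ker g.toRingHom := by
    rw [← hr]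
    show Ideal.span (Set.range r) ≤ _
    rw [Ideal.span_le]
    rintro _ ⟨j, rfl⟩
    exact hb j
  refine ⟨b, AlgHom.liftOfSurjective fR hfR g hker, fun x => ?_⟩
  obtain ⟨x, rfl⟩ := hfR x
  rw [AlgHom.liftOfSurjective_apply]
  show DirectLimit.Ring.of Ra t b (t a₀ b hab (θ₀ x)) = γ (fR x)
  rw [of_t]
  exact AlgHom.congr_fun hθ₀ x

include ht in
/-- Two maps from a finite type algebra to a stage that agree in the limit agree at a later
stage. -/
theorem exists_eq_of_finiteType (R₀ : Type u) [CommRing R₀] [Algebra A R₀]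
    [Algebra.FiniteType A R₀] {a : κ} (φ₀ ψ₀ : R₀ →ₐ[A] Ra a)
    (h : ∀ r, DirectLimit.Ring.of Ra t a (φ₀ r) = DirectLimit.Ring.of Ra t a (ψ₀ r)) :
    ∃ (b : κ) (hab : a ≤ b), ∀ r, t a b hab (φ₀ r) = t a b hab (ψ₀ r) := by
  obtain ⟨n, f, hf⟩ := Algebra.FiniteType.iff_quotient_mvPolynomial''.1
    (inferInstance : Algebra.FiniteType A R₀)
  obtain ⟨b, hab, hb⟩ := of_eq_zero_fin Ra t n
    (fun i => φ₀ (f (MvPolynomial.X i)) - ψ₀ (f (MvPolynomial.X i)))
    (fun i => by rw [map_sub, h, sub_self])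
  refine ⟨b, hab, fun r => ?_⟩
  have key : ((tAlg Ra t ht hab).comp φ₀).comp f = ((tAlg Ra t ht hab).comp ψ₀).comp f := by
    apply MvPolynomial.algHom_ext
    intro i
    show t a b hab (φ₀ (f (MvPolynomial.X i))) = t a b hab (ψ₀ (f (MvPolynomial.X i)))
    have := hb i
    rwa [map_sub, sub_eq_zero] at this
  obtain ⟨x, rfl⟩ := hf r
  exact AlgHom.congr_fun key x

end Groth.Agent.Lib.helper26.DirLim
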