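/-
Helper library (helper26): a flat localisation of a finite type algebra is essentially of finite
presentation (Raynaud–Gruson), via S1208.
-/
import Mathlib
import Groth.Agent.S1208
import Groth.Agent.Lib.Helper3.FlatAtLib1

set_option autoImplicit false
set_option linter.style.haveILetI false
set_option linter.unusedSectionVars false

namespace Groth.Agent.Lib.helper26.EssFP

universe u

variable {R P S : Type u} [CommRing R] [CommRing P] [CommRing S] [Algebra R P] [Algebra P S]
  [Algebra R S] [IsScalarTower R P S]

/-- if the kernel of a surjection `P → S` from a finitely presented algebra is, locally at `q`,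
generated by a finitely generated ideal `J`, then `S_q` is essentially of finite presentation -/
theorem essFP_of_kill (hsurj : Function.Surjective (algebraMap P S))
    [Algebra.FinitePresentation R P] (q : Ideal S) [q.IsPrime] (J : Ideal P) (hJfg : J.FG)
    (hJI : ∀ x ∈ J, algebraMap P S x = 0)
    (hkill : ∀ x : P, algebraMap P S x = 0 → ∃ u : P, algebraMap P S u ∉ q ∧ u * x ∈ J) :
    FlatCA.EssFinitePresentation R (Localization.AtPrime q) := by
  letI algS₀S : Algebra (P ⧸ J) S := (Ideal.Quotient.lift J (algebraMap P S) hJI).toAlgebra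
  have halg : ∀ x : P, algebraMap (P ⧸ J) S (Ideal.Quotient.mk J x) = algebraMap P S x :=
    fun x => rfl
  have halgL : ∀ x : P ⧸ J, algebraMap (P ⧸ J) (Localization.AtPrime q) x =
      algebraMap S (Localization.AtPrime q) (algebraMap (P ⧸ J) S x) := fun x =>
    IsScalarTower.algebraMap_apply (P ⧸ J) S (Localization.AtPrime q) x
  haveI twRS₀L : IsScalarTower R (P ⧸ J) (Localization.AtPrime q) :=
    IsScalarTower.of_algebraMap_eq (R := R) (S := P ⧸ J) (A := Localization.AtPrime q) fun r => by
      rw [halgL, IsScalarTower.algebraMap_apply R P (P ⧸ J), Ideal.Quotient.algebraMap_eq, halg,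
        ← IsScalarTower.algebraMap_apply R P S, ← IsScalarTower.algebraMap_apply R S]
  haveI : Algebra.FinitePresentation R (P ⧸ J) := Algebra.FinitePresentation.quotient hJfg
  refine ⟨P ⧸ J, inferInstance, inferInstance, inferInstance, twRS₀L,
    Submonoid.comap (algebraMap (P ⧸ J) S) q.primeCompl, inferInstance, ?_⟩
  rw [isLocalization_iff]
  refine ⟨?_, ?_, ?_⟩
  · rintro ⟨y, hy⟩
    exact IsLocalization.map_units (Localization.AtPrime q)
      (⟨algebraMap (P ⧸ J) S y, hy⟩ : q.primeCompl)
  · intro z
    obtain ⟨⟨s, t⟩, h⟩ := IsLocalization.surj q.primeCompl z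
    obtain ⟨s', rfl⟩ := hsurj s
    obtain ⟨t', ht'⟩ := hsurj t
    have htmem : Ideal.Quotient.mk J t' ∈ Submonoid.comap (algebraMap (P ⧸ J) S) q.primeCompl := by
      show algebraMap (P ⧸ J) S (Ideal.Quotient.mk J t') ∈ q.primeCompl
      rw [halg, ht']
      exact t.2
    refine ⟨(Ideal.Quotient.mk J s', ⟨Ideal.Quotient.mk J t', htmem⟩), ?_⟩
    show z * algebraMap (P ⧸ J) (Localization.AtPrime q) (Ideal.Quotient.mk J t') =
      algebraMap (P ⧸ J) (Localization.AtPrime q) (Ideal.Quotient.mk J s')
    rw [halgL, halgL, halg, halg, ht']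
    exact h
  · intro x y hxy
    obtain ⟨x', rfl⟩ := Ideal.Quotient.mk_surjective x
    obtain ⟨y', rfl⟩ := Ideal.Quotient.mk_surjective y
    rw [halgL, halgL, halg, halg] at hxy
    obtain ⟨c, hc⟩ := IsLocalization.exists_of_eq (M := q.primeCompl) hxy
    obtain ⟨c', hc'⟩ := hsurj c
    have h0 : algebraMap P S (c' * (x' - y')) = 0 := by
      rw [map_mul, map_sub, hc', mul_sub, hc, sub_self]
    obtain ⟨u, hu, huJ⟩ := hkill _ h0
    have hmem : Ideal.Quotient.mk J (u * c') ∈
        Submonoid.comap (algebraMap (P ⧸ J) S) q.primeCompl := by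
      show algebraMap (P ⧸ J) S (Ideal.Quotient.mk J (u * c')) ∈ q.primeCompl
      rw [halg, map_mul, hc']
      exact q.primeCompl.mul_mem hu c.2
    refine ⟨⟨Ideal.Quotient.mk J (u * c'), hmem⟩, ?_⟩
    show Ideal.Quotient.mk J (u * c') * Ideal.Quotient.mk J x' =
      Ideal.Quotient.mk J (u * c') * Ideal.Quotient.mk J y'
    rw [← map_mul, ← map_mul, Ideal.Quotient.eq]
    have : u * c' * x' - u * c' * y' = u * (c' * (x' - y')) := by ring
    rw [this]
    exact huJ

set_option maxHeartbeats 800000 in
/-- the kernel of `P → S` is locally at `q` finitely generated when `S_q` is `R`-flat (via S1208) -/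
theorem exists_kill (hsurj : Function.Surjective (algebraMap P S))
    [Algebra.FinitePresentation R P] (q : Ideal S) [q.IsPrime]
    [Module.Flat R (Localization.AtPrime q)] :
    ∃ J : Ideal P, J.FG ∧ (∀ x ∈ J, algebraMap P S x = 0) ∧
      ∀ x : P, algebraMap P S x = 0 → ∃ u : P, algebraMap P S u ∉ q ∧ u * x ∈ J := by
  classical
  haveI hqP : (q.under P).IsPrime := Ideal.IsPrime.under P q
  haveI : q.LiesOver (q.under P) := ⟨rfl⟩
  haveI : Module.Finite P S := Module.Finite.of_surjective (Algebra.linearMap P S) hsurj
  haveI : Algebra.IsIntegral P S := Algebra.isIntegral_of_surjective hsurj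
  have hfl : FlatCA.FlatAt R (q.under P) S := by
    apply Groth.Agent.Lib.helper3.FlatAtLib.flatAt_of_forall_liesOver (A := R) (B := P) (C := S)
      (q.under P) S
    intro q' hq' hq'q
    have hqq' : q' = q := by
      apply Ideal.comap_injective_of_surjective (algebraMap P S) hsurj
      exact hq'q.over.symm
    subst hqq'
    unfold FlatCA.FlatAt
    exact Module.Flat.of_linearEquiv ((IsLocalizedModule.iso q'.primeCompl
      (Algebra.linearMap S (Localization.AtPrime q'))).restrictScalars R)
  have hfp := Groth.Agent.S1208.result (R := R) (S := P) S (q.under P) hfl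
  -- the surjection `P_{q_P} → S_{q_P}`
  let π : Localization.AtPrime (q.under P) →ₗ[Localization.AtPrime (q.under P)]
      LocalizedModule (q.under P).primeCompl S :=
    LinearMap.toSpanSingleton (Localization.AtPrime (q.under P))
      (LocalizedModule (q.under P).primeCompl S) (LocalizedModule.mk (1 : S) 1)
  have hπ : ∀ (a : P) (s : (q.under P).primeCompl),
      π (IsLocalization.mk' (Localization.AtPrime (q.under P)) a s) =
        LocalizedModule.mk (algebraMap P S a) s := by
    intro a s
    show IsLocalization.mk' (Localization.AtPrime (q.under P)) a s •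
      LocalizedModule.mk (1 : S) (1 : (q.under P).primeCompl) = _
    have h1 := LocalizedModule.mk_smul_mk a (1 : S) s (1 : (q.under P).primeCompl)
    rw [mul_one, Algebra.smul_def, mul_one, Localization.mk_eq_mk'_apply] at h1
    exact h1
  have hπsurj : Function.Surjective π := by
    intro x
    induction x using LocalizedModule.induction_on with
    | h m s =>
      obtain ⟨a, rfl⟩ := hsurj m
      exact ⟨IsLocalization.mk' (Localization.AtPrime (q.under P)) a s, hπ a s⟩
  have hker : (LinearMap.ker π).FG := Module.FinitePresentation.fg_ker π hπsurj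
  -- the kernel is generated by the image of the kernel of `P → S`
  have hkereq : LinearMap.ker π = Submodule.span (Localization.AtPrime (q.under P))
      (algebraMap P (Localization.AtPrime (q.under P)) ''
        {x : P | algebraMap P S x = 0}) := by
    apply le_antisymm
    · intro l hl
      obtain ⟨a, s, rfl⟩ := IsLocalization.exists_mk'_eq (q.under P).primeCompl l
      rw [LinearMap.mem_ker, hπ, ← LocalizedModule.zero_mk s, LocalizedModule.mk_eq] at hl
      obtain ⟨u, hu⟩ := hl
      have hu' : algebraMap P S ((u : P) * (s : P) * a) = 0 := by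
        have h1 : u • s • algebraMap P S a = 0 := by
          rw [hu, smul_zero, smul_zero]
        rw [Submonoid.smul_def, Submonoid.smul_def, Algebra.smul_def, Algebra.smul_def,
          ← mul_assoc, ← map_mul, ← map_mul] at h1
        exact h1
      have h2 : IsLocalization.mk' (Localization.AtPrime (q.under P)) a s =
          IsLocalization.mk' (Localization.AtPrime (q.under P)) 1 (u * s * s) *
            algebraMap P (Localization.AtPrime (q.under P)) ((u : P) * (s : P) * a) := by
        rw [mul_comm, IsLocalization.mul_mk'_eq_mk'_of_mul, mul_one, IsLocalization.mk'_eq_iff_eq]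
        congr 1
        push_cast
        ring
      rw [h2]
      exact Submodule.smul_mem _ _ (Submodule.subset_span ⟨_, hu', rfl⟩)
    · rw [Submodule.span_le]
      rintro _ ⟨x, hx, rfl⟩
      rw [SetLike.mem_coe, LinearMap.mem_ker, ← IsLocalization.mk'_one (M := (q.under P).primeCompl)
        (Localization.AtPrime (q.under P)) x, hπ, (show algebraMap P S x = 0 from hx),
        LocalizedModule.zero_mk]
  rw [hkereq, Submodule.fg_span_iff_fg_span_finset_subset] at hker
  obtain ⟨T, hTsub, hTspan⟩ := hker
  obtain ⟨T', hT'sub, hT'eq⟩ := Finset.subset_set_image_iff.mp hTsub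
  rw [← hT'eq, Finset.coe_image] at hTspan
  refine ⟨Ideal.span (T' : Set P), ⟨T', rfl⟩, ?_, ?_⟩
  · intro x hx
    have hle : Ideal.span (T' : Set P) ≤ RingHom.ker (algebraMap P S) := by
      rw [Ideal.span_le]
      intro y hy
      exact hT'sub hy
    exact hle hx
  · intro x hx
    have hxmem : algebraMap P (Localization.AtPrime (q.under P)) x ∈
        Ideal.map (algebraMap P (Localization.AtPrime (q.under P))) (Ideal.span (T' : Set P)) := by
      rw [Ideal.map_span]
      have h1 : algebraMap P (Localization.AtPrime (q.under P)) x ∈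
          Submodule.span (Localization.AtPrime (q.under P))
            (algebraMap P (Localization.AtPrime (q.under P)) '' {x : P | algebraMap P S x = 0}) :=
        Submodule.subset_span ⟨x, hx, rfl⟩
      rw [hTspan] at h1
      simpa using h1
    rw [IsLocalization.mem_map_algebraMap_iff (q.under P).primeCompl] at hxmem
    obtain ⟨⟨j, s⟩, hjs⟩ := hxmem
    rw [← map_mul] at hjs
    obtain ⟨t, ht⟩ := IsLocalization.exists_of_eq (M := (q.under P).primeCompl) hjs
    refine ⟨(t : P) * (s : P), ?_, ?_⟩
    · exact ((q.under P).primeCompl.mul_mem t.2 s.2 : (t : P) * (s : P) ∈ (q.under P).primeCompl)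
    · have : (t : P) * (s : P) * x = t * (j : P) := by
        rw [← ht]
        ring
      rw [this]
      exact Ideal.mul_mem_left _ _ j.2

/-- a flat localisation of a quotient of a finitely presented algebra is essentially of finite
presentation -/
theorem essFP_of_flat (hsurj : Function.Surjective (algebraMap P S))
    [Algebra.FinitePresentation R P] (q : Ideal S) [q.IsPrime]
    [Module.Flat R (Localization.AtPrime q)] :
    FlatCA.EssFinitePresentation R (Localization.AtPrime q) := by
  obtain ⟨J, hJfg, hJI, hkill⟩ := exists_kill (R := R) hsurj q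
  exact essFP_of_kill hsurj q J hJfg hJI hkill

end Groth.Agent.Lib.helper26.EssFP
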