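import Mathlib
import Groth.Prelude.Def_GrLC
import Groth.Prelude.Def_GrSeg
import Groth.Agent.Lib.Helper19.GrMod
import Groth.Agent.Lib.Helper19.GDual

/-!
# Graded duals and quotients by homogeneous sequences (helper26)

`C` the graded `k`-dual of a graded `R`-module `H` (pairing `β : C → H → k`), `qs` a list of
homogeneous elements of `R`.

* `mem_smul_top_of_vanish` : an element of `C` pairing to zero with `H[qs] = {h | qs h = 0}` lies
  in `(qs) C`;
* `isWeaklyRegular_of_dual` : if each `qᵢ` is surjective on `H[q₁, …, q_{i-1}]` then `qs` is a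
  weakly regular sequence on `C`;
* `isGDual_quot` : `C/(qs)C` is the graded dual of any graded module embedded in `H` with image
  `H[qs]`;
* `isGDual_of_semilinear` : transport of a graded dual along a semilinear graded bijection.
-/

set_option autoImplicit false
set_option linter.unusedSectionVars false
set_option linter.dupNamespace false
universe u

namespace Groth.Agent.Lib.helper26.ExtCan

open GrLC Groth.Agent.Lib.helper19.GrMod RingTheory.Sequence

section ND

variable {k : Type u} [Field k] {R : Type u} [CommRing R] [Algebra k R] (𝒜 : ℤ → Submodule k R)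
  [GradedAlgebra 𝒜]
  {H : Type u} [AddCommGroup H] [Module R H] [Module k H] [IsScalarTower k R H]
  (ℋ : ℤ → AddSubgroup H) [DirectSum.Decomposition ℋ] [SetLike.GradedSMul 𝒜 ℋ]
  {C : Type u} [AddCommGroup C] [Module R C] [Module k C] [IsScalarTower k R C]
  (𝒞 : ℤ → AddSubgroup C) [DirectSum.Decomposition 𝒞] [SetLike.GradedSMul 𝒜 𝒞]
  (β : C →ₗ[k] H →ₗ[k] k) (hβ : GrSeg.IsGDual R ℋ 𝒞 β)

/-- the components of an element killed by a homogeneous element are killed by it -/
theorem smul_decompose_eq_zero {q : R} {d : ℤ} (hq : q ∈ 𝒜 d) {h : H} (hh : q • h = 0) (g : ℤ) :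
    q • ((DirectSum.decompose ℋ h g : ℋ g) : H) = 0 := by
  have h1 := decompose_smul_apply 𝒜 ℋ hq h (g + d)
  rw [hh, DirectSum.decompose_zero, DirectSum.zero_apply, ZeroMemClass.coe_zero] at h1
  rw [Groth.Agent.Lib.helper19.GrMod.coe_decompose_congr ℋ h (show g + d - d = g by ring)] at h1
  exact h1.symm

include hβ in
/-- elements of `(qs) C` pair to zero with elements killed by `qs` -/
theorem pair_eq_zero_of_mem (qs : List (R × ℤ)) {c : C}
    (hc : c ∈ Ideal.ofList (qs.map Prod.fst) • (⊤ : Submodule R C)) {h : H}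
    (hh : ∀ q ∈ qs, q.1 • h = 0) : β c h = 0 := by
  have hle : Ideal.ofList (qs.map Prod.fst) ≤ Ideal.torsionOf R H h := by
    rw [Ideal.ofList, Ideal.span_le]
    rintro r hr
    obtain ⟨q, hq, rfl⟩ := List.mem_map.1 hr
    exact (Ideal.mem_torsionOf_iff h q.1).2 (hh q hq)
  refine Submodule.smul_induction_on (p := fun c => β c h = 0) hc ?_ ?_
  · intro r hr c' _
    rw [hβ.map_smul, (Ideal.mem_torsionOf_iff h r).1 (hle hr), map_zero]
  · intro x y hx hy
    rw [map_add, LinearMap.add_apply, hx, hy, add_zero]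

include hβ in
/-- the homogeneous case of `mem_smul_top_of_vanish` -/
theorem mem_smul_top_of_vanish_of_mem (qs : List (R × ℤ)) (hqs : ∀ p ∈ qs, p.1 ∈ 𝒜 p.2) {j : ℤ}
    {c : C} (hcj : c ∈ 𝒞 j) (hc : ∀ h : H, (∀ q ∈ qs, q.1 • h = 0) → β c h = 0) :
    c ∈ Ideal.ofList (qs.map Prod.fst) • (⊤ : Submodule R C) := by
  classical
  let x : Fin qs.length → R := fun i => (qs.get i).1
  let d : Fin qs.length → ℤ := fun i => (qs.get i).2
  have hxd : ∀ i, x i ∈ 𝒜 (d i) := fun i => hqs _ (List.get_mem qs i)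
  let mulL : Fin qs.length → (H →ₗ[k] H) := fun i =>
    (LinearMap.lsmul R H (x i)).restrictScalars k
  let F : H →ₗ[k] (Fin qs.length → H) := LinearMap.pi mulL
  have hFapp : ∀ h i, F h i = x i • h := fun h i => rfl
  have hmem : β c ∈ (LinearMap.ker F).dualAnnihilator := by
    rw [Submodule.mem_dualAnnihilator]
    intro h hh
    rw [LinearMap.mem_ker] at hh
    apply hc h
    intro q hq
    obtain ⟨i, rfl⟩ := List.mem_iff_get.1 hq
    have h1 := congrFun hh i
    rw [hFapp] at h1
    exact h1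
  rw [← LinearMap.range_dualMap_eq_dualAnnihilator_ker] at hmem
  obtain ⟨ψ, hψ⟩ := hmem
  have hψ' : ∀ h, β c h = ∑ i, ψ (Pi.single i (x i • h)) := by
    intro h
    rw [← hψ, LinearMap.dualMap_apply, ← map_sum]
    congr 1
    ext l
    rw [Finset.sum_apply, hFapp]
    simp [Pi.single_apply]
  let ψi : Fin qs.length → (H →ₗ[k] k) := fun i => ψ.comp (LinearMap.single k (fun _ => H) i)
  have hex : ∀ i, ∃ ci ∈ 𝒞 (j - d i), ∀ h' ∈ ℋ (-(j - d i)), β ci h' = ψi i h' :=
    fun i => hβ.exists_eq (j - d i) (ψi i)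
  choose cc hcc hcc' using hex
  have hsum : c = ∑ i, x i • cc i := by
    rw [← sub_eq_zero]
    apply hβ.eq_zero j
    · refine sub_mem hcj (sum_mem fun i _ => ?_)
      have h1 := smul_mem_add 𝒜 𝒞 (hxd i) (hcc i)
      rwa [add_sub_cancel] at h1
    · intro h hh
      rw [map_sub, LinearMap.sub_apply, map_sum, LinearMap.sum_apply, hψ' h, sub_eq_zero]
      refine Finset.sum_congr rfl fun i _ => ?_
      rw [hβ.map_smul]
      have h1 : x i • h ∈ ℋ (-(j - d i)) := by
        have h2 := smul_mem_add 𝒜 ℋ (hxd i) hh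
        have e : d i + -j = -(j - d i) := by ring
        rwa [e] at h2
      rw [hcc' i _ h1]
      rfl
  rw [hsum]
  refine Submodule.sum_mem _ fun i _ => Submodule.smul_mem_smul ?_ Submodule.mem_top
  exact Ideal.subset_span (List.mem_map.2 ⟨qs.get i, List.get_mem qs i, rfl⟩)

include hβ in
/-- **non-degeneracy modulo a homogeneous sequence**: an element of `C` pairing to zero with
every element of `H` killed by `qs` lies in `(qs) C` -/
theorem mem_smul_top_of_vanish (qs : List (R × ℤ)) (hqs : ∀ p ∈ qs, p.1 ∈ 𝒜 p.2) (c : C)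
    (hc : ∀ h : H, (∀ q ∈ qs, q.1 • h = 0) → β c h = 0) :
    c ∈ Ideal.ofList (qs.map Prod.fst) • (⊤ : Submodule R C) := by
  classical
  rw [← DirectSum.sum_support_decompose 𝒞 c]
  refine Submodule.sum_mem _ fun j _ => ?_
  apply mem_smul_top_of_vanish_of_mem 𝒜 ℋ 𝒞 β hβ qs hqs (SetLike.coe_mem _)
  intro h hh
  rw [Groth.Agent.Lib.helper19.GDual.beta_decompose_right ℋ 𝒞 β hβ (SetLike.coe_mem _) h,
    ← Groth.Agent.Lib.helper19.GDual.beta_decompose_left ℋ 𝒞 β hβ c (SetLike.coe_mem _)]
  apply hc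
  intro q hq
  exact smul_decompose_eq_zero 𝒜 ℋ (hqs q hq) (hh q hq) (-j)

include hβ in
/-- if each element of the homogeneous sequence `ps` is surjective on the elements of `H` killed
by the previous ones, then `ps` is weakly regular on the graded dual `C` of `H` -/
theorem isWeaklyRegular_of_dual (ps : List (R × ℤ)) (hps : ∀ p ∈ ps, p.1 ∈ 𝒜 p.2)
    (hsurj : ∀ (qs : List (R × ℤ)) (p : R × ℤ) (rest : List (R × ℤ)), ps = qs ++ p :: rest →
      ∀ h : H, (∀ q ∈ qs, q.1 • h = 0) → ∃ h' : H, (∀ q ∈ qs, q.1 • h' = 0) ∧ p.1 • h' = h) :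
    IsWeaklyRegular C (ps.map Prod.fst) := by
  induction ps using List.reverseRecOn with
  | nil => exact IsWeaklyRegular.nil R C
  | append_singleton qs p ih =>
    rw [List.map_append, List.map_singleton, isWeaklyRegular_append_iff,
      isWeaklyRegular_singleton_iff]
    refine ⟨ih (fun q hq => hps q (List.mem_append_left _ hq)) ?_, ?_⟩
    · intro as b cs hqs h hh
      exact hsurj as b (cs ++ [p]) (by rw [hqs]; simp) h hh
    · rw [isSMulRegular_iff_right_eq_zero_of_smul]
      intro y hy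
      obtain ⟨c, rfl⟩ := Submodule.mkQ_surjective _ y
      rw [← map_smul, Submodule.mkQ_apply, Submodule.Quotient.mk_eq_zero] at hy
      rw [Submodule.mkQ_apply, Submodule.Quotient.mk_eq_zero]
      apply mem_smul_top_of_vanish 𝒜 ℋ 𝒞 β hβ qs
        (fun q hq => hps q (List.mem_append_left _ hq)) c
      intro h hh
      obtain ⟨h', hh', rfl⟩ := hsurj qs p [] rfl h hh
      rw [← hβ.map_smul]
      exact pair_eq_zero_of_mem ℋ 𝒞 β hβ qs hy hh'

end ND

end Groth.Agent.Lib.helper26.ExtCan
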