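import Mathlib
import Groth.Prelude.Def_GrLC
import Groth.Prelude.Def_GrSeg
import Groth.Agent.Lib.Helper26.ExtCan1

/-!
# Graded duals of quotients and transport along semilinear bijections (helper26)

* `isGDual_quot` : if `C` is the graded dual of `H`, `qs` a homogeneous sequence, `J = (qs)`, then
  `C/JC` is the graded dual over `R/J` of any graded `R/J`-module embedded in `H` (by a map of
  degree `-D`) with image `{h | qs h = 0}`; the pieces of `C/JC` are shifted by `D`.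
* `isGDual_of_semilinear` : transport of a graded dual along a semilinear graded bijection.
-/

set_option autoImplicit false
set_option linter.unusedSectionVars false
set_option linter.dupNamespace false
universe u

namespace Groth.Agent.Lib.helper26.ExtCan

open GrLC Groth.Agent.Lib.helper19.GrMod RingTheory.Sequence

section Quot

variable {k : Type u} [Field k] {R : Type u} [CommRing R] [Algebra k R] (𝒜 : ℤ → Submodule k R)
  [GradedAlgebra 𝒜]
  {H : Type u} [AddCommGroup H] [Module R H] [Module k H] [IsScalarTower k R H]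
  (ℋ : ℤ → AddSubgroup H) [DirectSum.Decomposition ℋ] [SetLike.GradedSMul 𝒜 ℋ]
  {C : Type u} [AddCommGroup C] [Module R C] [Module k C] [IsScalarTower k R C]
  (𝒞 : ℤ → AddSubgroup C) [DirectSum.Decomposition 𝒞] [SetLike.GradedSMul 𝒜 𝒞]
  (β : C →ₗ[k] H →ₗ[k] k) (hβ : GrSeg.IsGDual R ℋ 𝒞 β)
  (J : Ideal R) (qs : List (R × ℤ)) (hJ : J = Ideal.ofList (qs.map Prod.fst))
  (hqs : ∀ p ∈ qs, p.1 ∈ 𝒜 p.2)
  {Hb : Type u} [AddCommGroup Hb] [Module (R ⧸ J) Hb] [Module k Hb] [IsScalarTower k (R ⧸ J) Hb]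
  (ℋb : ℤ → AddSubgroup Hb) [DirectSum.Decomposition ℋb]
  (ι : Hb →+ H) (hιinj : Function.Injective ι)
  (hιsmul : ∀ (r : R) (y : Hb), ι (Ideal.Quotient.mk J r • y) = r • ι y)
  (D : ℤ) (hιgr : ∀ g y, y ∈ ℋb g → ι y ∈ ℋ (g - D))
  (hιrange : ∀ h : H, (∃ y, ι y = h) ↔ ∀ q ∈ qs, q.1 • h = 0)

/-- the embedding as a `k`-linear map -/
noncomputable def iotaK : Hb →ₗ[k] H where
  toFun := ι
  map_add' := ι.map_add
  map_smul' c y := by
    rw [RingHom.id_apply, ← algebraMap_smul (R ⧸ J) c y, ← algebraMap_smul R c (ι y)]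
    exact hιsmul (algebraMap k R c) y

theorem iotaK_apply (y : Hb) : iotaK (k := k) J ι hιsmul y = ι y := rfl

include hβ hJ hιrange in
theorem quot_pair_aux (c : C) (hc : c ∈ (J • ⊤ : Submodule R C)) :
    (LinearMap.lcomp k k (iotaK (k := k) J ι hιsmul)).comp β c = 0 := by
  ext y
  rw [LinearMap.comp_apply, LinearMap.lcomp_apply, LinearMap.zero_apply, iotaK_apply]
  subst hJ
  exact pair_eq_zero_of_mem ℋ 𝒞 β hβ qs hc ((hιrange (ι y)).1 ⟨y, rfl⟩)

/-- the induced pairing `C/JC × Hb → k` -/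
noncomputable def quotPair
    (h0 : ∀ c ∈ (J • ⊤ : Submodule R C), (LinearMap.lcomp k k (iotaK (k := k) J ι hιsmul)).comp β c = 0) :
    (C ⧸ (J • ⊤ : Submodule R C)) →ₗ[k] Hb →ₗ[k] k :=
  (((J • ⊤ : Submodule R C).restrictScalars k).liftQ
    ((LinearMap.lcomp k k (iotaK (k := k) J ι hιsmul)).comp β) (fun c hc => h0 c hc)).comp
      (Submodule.Quotient.restrictScalarsEquiv k (J • ⊤ : Submodule R C)).symm.toLinearMap

theorem quotPair_mk
    (h0 : ∀ c ∈ (J • ⊤ : Submodule R C), (LinearMap.lcomp k k (iotaK (k := k) J ι hιsmul)).comp β c = 0)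
    (c : C) (y : Hb) :
    quotPair (k := k) β J ι hιsmul h0 (Submodule.Quotient.mk c) y = β c (ι y) := rfl

variable [IsScalarTower k (R ⧸ J) (C ⧸ (J • ⊤ : Submodule R C))]
  (𝒦 : ℤ → AddSubgroup (C ⧸ (J • ⊤ : Submodule R C))) [DirectSum.Decomposition 𝒦]
  (h𝒦 : ∀ (j : ℤ) (z : C ⧸ (J • ⊤ : Submodule R C)),
    z ∈ 𝒦 j ↔ ∃ c ∈ 𝒞 (j + D), Submodule.Quotient.mk c = z)

include hβ hJ hqs hιinj hιsmul hιgr hιrange h𝒦 in
/-- **the graded dual of a quotient by a homogeneous sequence** -/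
theorem isGDual_quot :
    ∃ βb : (C ⧸ (J • ⊤ : Submodule R C)) →ₗ[k] Hb →ₗ[k] k,
      GrSeg.IsGDual (R ⧸ J) ℋb 𝒦 βb := by
  classical
  have h0 := quot_pair_aux ℋ 𝒞 β hβ J qs hJ ι hιsmul hιrange
  refine ⟨quotPair (k := k) β J ι hιsmul h0, ?_, ?_, ?_, ?_⟩
  · -- map_smul
    intro r z y
    obtain ⟨r, rfl⟩ := Ideal.Quotient.mk_surjective r
    obtain ⟨c, rfl⟩ := Submodule.Quotient.mk_surjective _ z
    rw [Module.Quotient.mk_smul_mk, quotPair_mk, quotPair_mk, hιsmul, hβ.map_smul]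
  · -- vanish
    intro j z hz g hg y hy
    obtain ⟨c, hc, rfl⟩ := (h𝒦 j z).1 hz
    rw [quotPair_mk]
    exact hβ.vanish (j + D) c hc (g - D) (by omega) (ι y) (hιgr g y hy)
  · -- eq_zero
    intro j z hz hvan
    obtain ⟨c, hc, rfl⟩ := (h𝒦 j z).1 hz
    rw [Submodule.Quotient.mk_eq_zero]
    subst hJ
    apply mem_smul_top_of_vanish_of_mem 𝒜 ℋ 𝒞 β hβ qs hqs hc
    intro h hh
    obtain ⟨y, rfl⟩ := (hιrange h).2 hh
    rw [← DirectSum.sum_support_decompose ℋb y, map_sum, map_sum]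
    refine Finset.sum_eq_zero fun g _ => ?_
    by_cases hg : g = -j
    · subst hg
      have h1 := hvan _ (SetLike.coe_mem (DirectSum.decompose ℋb y (-j)))
      rw [quotPair_mk] at h1
      exact h1
    · exact hβ.vanish (j + D) c hc (g - D) (by omega) _
        (hιgr g _ (SetLike.coe_mem (DirectSum.decompose ℋb y g)))
  · -- exists_eq
    intro j g
    have hker : LinearMap.ker (iotaK (k := k) J ι hιsmul) = ⊥ := LinearMap.ker_eq_bot.2 hιinj
    obtain ⟨ρ, hρ⟩ := (iotaK (k := k) J ι hιsmul).exists_leftInverse_of_injective hker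
    obtain ⟨c, hc, hcg⟩ := hβ.exists_eq (j + D) (g.comp ρ)
    refine ⟨Submodule.Quotient.mk c, (h𝒦 j _).2 ⟨c, hc, rfl⟩, ?_⟩
    intro y hy
    rw [quotPair_mk]
    have h1 : ι y ∈ ℋ (-(j + D)) := by
      have h2 := hιgr (-j) y hy
      have e : -j - D = -(j + D) := by ring
      rwa [e] at h2
    rw [hcg _ h1, LinearMap.comp_apply]
    congr 1
    have h3 := congrArg (fun f => f y) hρ
    exact h3

end Quot

section Transport

variable {k : Type u} [Field k] {A B : Type u} [CommRing A] [CommRing B] [Algebra k A]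
  [Algebra k B] [Algebra A B] [IsScalarTower k A B]
  {MB : Type u} [AddCommGroup MB] [Module B MB] [Module k MB] [IsScalarTower k B MB]
  (ℳB : ℤ → AddSubgroup MB) [DirectSum.Decomposition ℳB]
  {MA : Type u} [AddCommGroup MA] [Module A MA] [Module k MA] [IsScalarTower k A MA]
  (ℳA : ℤ → AddSubgroup MA) [DirectSum.Decomposition ℳA]
  (Φ : MA →ₛₗ[algebraMap A B] MB) (hΦ : Function.Bijective Φ)
  (hΦgr : ∀ (g : ℤ) (x : MA), x ∈ ℳA g ↔ Φ x ∈ ℳB g)
  {D : Type u} [AddCommGroup D] [Module B D] [Module A D] [IsScalarTower A B D] [Module k D]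
  [IsScalarTower k B D] [IsScalarTower k A D]
  (𝒟 : ℤ → AddSubgroup D) [DirectSum.Decomposition 𝒟]
  (β : D →ₗ[k] MB →ₗ[k] k) (hβ : GrSeg.IsGDual B ℳB 𝒟 β)

/-- a semilinear map is linear over the base field -/
noncomputable def semiK : MA →ₗ[k] MB where
  toFun := Φ
  map_add' := Φ.map_add
  map_smul' c x := by
    rw [RingHom.id_apply, ← algebraMap_smul A c x, Φ.map_smulₛₗ, ← IsScalarTower.algebraMap_apply,
      algebraMap_smul]

theorem semiK_apply (x : MA) : semiK (k := k) Φ x = Φ x := rfl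

include hΦ hΦgr hβ in
/-- transport of a graded dual along a semilinear graded bijection -/
theorem isGDual_of_semilinear : ∃ βA : D →ₗ[k] MA →ₗ[k] k, GrSeg.IsGDual A ℳA 𝒟 βA := by
  refine ⟨(LinearMap.lcomp k k (semiK (k := k) Φ)).comp β, ?_, ?_, ?_, ?_⟩
  · intro a d x
    rw [LinearMap.comp_apply, LinearMap.lcomp_apply, LinearMap.comp_apply, LinearMap.lcomp_apply,
      semiK_apply, semiK_apply, Φ.map_smulₛₗ, ← hβ.map_smul, algebraMap_smul]
  · intro n d hd m hm x hx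
    rw [LinearMap.comp_apply, LinearMap.lcomp_apply, semiK_apply]
    exact hβ.vanish n d hd m hm _ ((hΦgr m x).1 hx)
  · intro n d hd h
    apply hβ.eq_zero n d hd
    intro y hy
    obtain ⟨x, rfl⟩ := hΦ.2 y
    have := h x ((hΦgr (-n) x).2 hy)
    rw [LinearMap.comp_apply, LinearMap.lcomp_apply, semiK_apply] at this
    exact this
  · intro n g
    let e : MA ≃ₗ[k] MB := LinearEquiv.ofBijective (semiK (k := k) Φ) hΦ
    obtain ⟨d, hd, hdg⟩ := hβ.exists_eq n (g.comp e.symm.toLinearMap)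
    refine ⟨d, hd, fun x hx => ?_⟩
    rw [LinearMap.comp_apply, LinearMap.lcomp_apply, semiK_apply, hdg _ ((hΦgr (-n) x).1 hx),
      LinearMap.comp_apply]
    congr 1
    exact e.symm_apply_apply x

end Transport

end Groth.Agent.Lib.helper26.ExtCan
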