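import Mathlib
import Groth.Prelude.Def_GrLC
import Groth.Prelude.Def_CAlg
import Groth.Agent.Lib.Helper19.GrLes8
import Groth.Agent.Lib.Helper26.Depth1
import Groth.Agent.S13225

/-!
# Top local cohomology and quotients by homogeneous regular sequences (helper26)

`exists_socleMap`: for a finite graded module `M`, a homogeneous `M`-regular sequence
`x₁, …, x_c ∈ a` and `N = M/(x)M`, there is an injective `R`-linear map
`H^0_a(N) → H^c_a(M)`, homogeneous of degree `-Σ deg xᵢ`, whose image is the set of classes killed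
by all the `xᵢ`.
-/

set_option autoImplicit false
set_option linter.unusedSectionVars false
universe u

namespace Groth.Agent.Lib.helper26.GorS

open GrLC Groth.Agent.Lib.helper19.GrMod Groth.Agent.Lib.helper19.GrShift
  Groth.Agent.Lib.helper19.GrLes
open scoped Pointwise

section General

variable {ι : Type} [AddCommGroup ι] [DecidableEq ι]
variable {A B : Type u} [AddCommGroup A] [AddCommGroup B]

/-- a homogeneous additive map kills the homogeneous components of the elements of its kernel -/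
theorem map_decompose_eq_zero (𝒜' : ι → AddSubgroup A) (ℬ : ι → AddSubgroup B)
    [DirectSum.Decomposition 𝒜'] [DirectSum.Decomposition ℬ] (f : A →+ B) (d : ι)
    (hf : ∀ g a, a ∈ 𝒜' g → f a ∈ ℬ (g + d)) {a : A} (ha : f a = 0) (g : ι) :
    f ((DirectSum.decompose 𝒜' a g : 𝒜' g) : A) = 0 := by
  classical
  have h1 : ((DirectSum.decompose ℬ (f a) (g + d) : ℬ (g + d)) : B) =
      f ((DirectSum.decompose 𝒜' a g : 𝒜' g) : A) := by
    conv_lhs => rw [← DirectSum.sum_support_decompose 𝒜' a, map_sum, DirectSum.decompose_sum,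
      DFinsupp.finsetSum_apply, AddSubgroup.val_finsetSum]
    rw [Finset.sum_eq_single g]
    · exact DirectSum.decompose_of_mem_same ℬ (hf g _ (SetLike.coe_mem _))
    · intro g' _ hg'
      refine DirectSum.decompose_of_mem_ne ℬ (hf g' _ (SetLike.coe_mem _)) ?_
      intro h
      exact hg' (add_right_cancel h)
    · intro hg
      have : ((DirectSum.decompose 𝒜' a g : 𝒜' g) : A) = 0 := by
        simpa [DFinsupp.mem_support_toFun] using hg
      rw [this, map_zero, DirectSum.decompose_zero]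
      rfl
  rw [← h1, ha, DirectSum.decompose_zero]
  rfl

/-- a homogeneous additive map which is injective on homogeneous elements is injective -/
theorem injective_of_homogeneous (𝒜' : ι → AddSubgroup A) (ℬ : ι → AddSubgroup B)
    (hA : DirectSum.IsInternal 𝒜') (hB : DirectSum.IsInternal ℬ) (f : A →+ B) (d : ι)
    (hf : ∀ g a, a ∈ 𝒜' g → f a ∈ ℬ (g + d))
    (hinj : ∀ g a, a ∈ 𝒜' g → f a = 0 → a = 0) : Function.Injective f := by
  classical
  let _ := hA.chooseDecomposition
  let _ := hB.chooseDecomposition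
  rw [injective_iff_map_eq_zero]
  intro a ha
  rw [← DirectSum.sum_support_decompose 𝒜' a]
  exact Finset.sum_eq_zero fun g _ => hinj g _ (SetLike.coe_mem _)
    (map_decompose_eq_zero 𝒜' ℬ f d hf ha g)

omit [AddCommGroup ι] in
/-- an element all of whose homogeneous components lie in the range of an additive map lies in
the range -/
theorem mem_range_of_components (ℬ : ι → AddSubgroup B) [DirectSum.Decomposition ℬ]
    (f : A →+ B) (b : B)
    (h : ∀ g, ∃ a, f a = ((DirectSum.decompose ℬ b g : ℬ g) : B)) : ∃ a, f a = b := by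
  classical
  choose a ha using h
  refine ⟨∑ g ∈ (DirectSum.decompose ℬ b).support, a g, ?_⟩
  rw [map_sum]
  conv_rhs => rw [← DirectSum.sum_support_decompose ℬ b]
  exact Finset.sum_congr rfl fun g _ => ha g

end General

section Seq

variable {R : Type u} [CommRing R] [IsNoetherianRing R] (𝒜 : ℤ → AddSubgroup R) [GradedRing 𝒜]

/-- graded local cohomology is functorial for graded isomorphisms -/
theorem exists_Hequiv {M : Type u} [AddCommGroup M] [Module R M] {ℳ : ℤ → AddSubgroup M}
    [DirectSum.Decomposition ℳ] [SetLike.GradedSMul 𝒜 ℳ]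
    {N : Type u} [AddCommGroup N] [Module R N] {𝒩 : ℤ → AddSubgroup N}
    [DirectSum.Decomposition 𝒩] [SetLike.GradedSMul 𝒜 𝒩]
    (E : StarInjRes 𝒜 ℳ) (F : StarInjRes 𝒜 𝒩) (π : M →ₗ[R] N)
    (hπ : IsGrHom ℳ 𝒩 π) (hbij : Function.Bijective π) (a : HomogeneousIdeal 𝒜) (n : ℕ) :
    ∃ ι : F.H a n →ₗ[R] E.H a n, Function.Bijective ι ∧ IsGrHom (F.Hgr a n) (E.Hgr a n) ι := by
  classical
  let e : M ≃ₗ[R] N := LinearEquiv.ofBijective π hbij
  have he : IsGrHom 𝒩 ℳ e.symm.toLinearMap := by
    intro d y hy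
    apply mem_of_map_mem ℳ 𝒩 π hπ hbij.1
    have : π (e.symm y) = y := e.apply_symm_apply y
    show π (e.symm y) ∈ 𝒩 d
    rw [this]
    exact hy
  obtain ⟨c⟩ := exists_cmap E F π hπ
  obtain ⟨c'⟩ := exists_cmap F E e.symm.toLinearMap he
  have h1 : ∀ y, c'.Hmap a n (c.Hmap a n y) = y := by
    intro y
    rw [← CMap.Hmap_comp, Hmap_eq' (c.comp c') (CMap.id E)
      (by ext m; exact e.symm_apply_apply m), CMap.Hmap_id]
  have h2 : ∀ y, c.Hmap a n (c'.Hmap a n y) = y := by
    intro y
    rw [← CMap.Hmap_comp, Hmap_eq' (c'.comp c) (CMap.id F)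
      (by ext m; exact e.apply_symm_apply m), CMap.Hmap_id]
  refine ⟨c'.Hmap a n, ⟨?_, ?_⟩, c'.Hmap_isGrHom a n⟩
  · intro y y' hyy
    rw [← h2 y, ← h2 y', hyy]
  · intro y
    exact ⟨c.Hmap a n y, h1 y⟩

/-- **the socle map**: `H^0_a(M/(x)M) → H^c_a(M)` for a homogeneous `M`-regular sequence
`x₁, …, x_c` in `a`; injective, homogeneous of degree `-Σ deg xᵢ`, with image the classes killed by
the `xᵢ`. -/
theorem exists_socleMap (a : HomogeneousIdeal 𝒜) (ps : List (R × ℤ)) :
    ∀ (M : Type u) [AddCommGroup M] [Module R M] [Module.Finite R M] (ℳ : ℤ → AddSubgroup M)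
      [DirectSum.Decomposition ℳ] [SetLike.GradedSMul 𝒜 ℳ] (E : StarInjRes 𝒜 ℳ)
      (N : Type u) [AddCommGroup N] [Module R N] (𝒩 : ℤ → AddSubgroup N)
      [DirectSum.Decomposition 𝒩] [SetLike.GradedSMul 𝒜 𝒩] (F : StarInjRes 𝒜 𝒩)
      (π : M →ₗ[R] N), IsGrHom ℳ 𝒩 π → Function.Surjective π →
      LinearMap.ker π = Ideal.ofList (ps.map Prod.fst) • (⊤ : Submodule R M) →
      (∀ p ∈ ps, p.1 ∈ 𝒜 p.2 ∧ p.1 ∈ a.toIdeal) →
      RingTheory.Sequence.IsWeaklyRegular M (ps.map Prod.fst) →
      ∃ ι : F.H a 0 →ₗ[R] E.H a ps.length, Function.Injective ι ∧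
        (∀ g w, w ∈ F.Hgr a 0 g → ι w ∈ E.Hgr a ps.length (g - (ps.map Prod.snd).sum)) ∧
        (∀ y, y ∈ LinearMap.range ι ↔ ∀ p ∈ ps, p.1 • y = 0) := by
  classical
  induction ps with
  | nil =>
    intro M _ _ _ ℳ _ _ E N _ _ 𝒩 _ _ F π hπ hsurj hker _ _
    have hinj : Function.Injective π := by
      rw [← LinearMap.ker_eq_bot, hker, List.map_nil, Ideal.ofList_nil, Submodule.bot_smul]
    obtain ⟨ι, hι, hιgr⟩ := exists_Hequiv 𝒜 E F π hπ ⟨hinj, hsurj⟩ a 0
    refine ⟨ι, hι.1, ?_, ?_⟩
    · intro g w hw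
      rw [List.map_nil, List.sum_nil, sub_zero]
      exact hιgr g w hw
    · intro y
      constructor
      · intro _ p hp
        exact absurd hp List.not_mem_nil
      · intro _
        exact hι.2 y
  | cons p ps ih =>
    intro M _ _ _ ℳ _ _ E N _ _ 𝒩 _ _ F π hπ hsurj hker hmem hreg
    obtain ⟨x, k⟩ := p
    have hxk : x ∈ 𝒜 k := (hmem (x, k) List.mem_cons_self).1
    have hxa : x ∈ a.toIdeal := (hmem (x, k) List.mem_cons_self).2
    have hdepth : (((x, k) :: ps).length : ℕ∞) ≤ LocCoh.idealDepth a.toIdeal M := by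
      have h1 := Groth.Agent.Lib.helper26.Depth.length_le_idealDepth (I := a.toIdeal) hreg
        (by
          intro r hr
          obtain ⟨p, hp, rfl⟩ := List.mem_map.mp hr
          exact (hmem p hp).2)
      rw [List.length_map] at h1
      exact h1
    rw [List.map_cons] at hker hreg
    rw [RingTheory.Sequence.isWeaklyRegular_cons_iff] at hreg
    obtain ⟨hregx, hreg'⟩ := hreg
    set c' := ps.length with hc'
    have hK : (x • (⊤ : Submodule R M)).IsHomogeneous ℳ := smul_top_isHomogeneous hxk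
    let _ : DirectSum.Decomposition (quotPiece ℳ (x • (⊤ : Submodule R M))) :=
      quotDecomposition ℳ (x • (⊤ : Submodule R M)) hK
    let _ : SetLike.GradedSMul 𝒜 (quotPiece ℳ (x • (⊤ : Submodule R M))) :=
      quot_gradedSMul 𝒜 ℳ (x • (⊤ : Submodule R M))
    obtain ⟨E₁⟩ := Groth.Agent.S13215.result R 𝒜 (M ⧸ (x • (⊤ : Submodule R M)))
      (quotPiece ℳ (x • (⊤ : Submodule R M)))
    have hvan : Subsingleton (E.H a c') := by
      obtain ⟨e⟩ := Groth.Agent.S13224.result R 𝒜 a M ℳ E c'
      have : Subsingleton (LocCoh.H a.toIdeal c' M) :=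
        Groth.Agent.S0318.H_vanish_below a.toIdeal M c'
          (lt_of_lt_of_le (by
            rw [List.length_cons]
            exact_mod_cast Nat.lt_succ_self c') hdepth)
      exact e.toEquiv.subsingleton
    obtain ⟨ψ, δ, -, hδgr, -, -, -, hP2, -, hP3, hP3'⟩ := les_regular E E₁ x k hxk hregx
      (x • (⊤ : Submodule R M)).mkQ (mkQ_isGrHom ℳ (x • (⊤ : Submodule R M)))
      (Submodule.mkQ_surjective _) (by rw [Submodule.ker_mkQ]; exact smul_top_eq_range x) a
    have hsurj₁ : Function.Surjective ((x • (⊤ : Submodule R M)).liftQ π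
        (smul_top_le_ker_of_cons x (ps.map Prod.fst) π hker)) := by
      intro n
      obtain ⟨m, rfl⟩ := hsurj n
      exact ⟨(x • (⊤ : Submodule R M)).mkQ m, rfl⟩
    have hπ₁ : IsGrHom (quotPiece ℳ (x • (⊤ : Submodule R M))) 𝒩 ((x • (⊤ : Submodule R M)).liftQ π
        (smul_top_le_ker_of_cons x (ps.map Prod.fst) π hker)) := by
      rintro g q ⟨y, hy, rfl⟩
      exact hπ g y hy
    obtain ⟨ι₁, hι₁inj, hι₁gr, hι₁range⟩ := ih (M ⧸ (x • (⊤ : Submodule R M)))
      (quotPiece ℳ (x • (⊤ : Submodule R M))) E₁ N 𝒩 F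
      ((x • (⊤ : Submodule R M)).liftQ π (smul_top_le_ker_of_cons x (ps.map Prod.fst) π hker))
      hπ₁ hsurj₁ (ker_liftQ_cons x (ps.map Prod.fst) π hker)
      (fun p hp => hmem p (List.mem_cons_of_mem _ hp)) hreg'
    -- internal gradings
    have hint₁ := Groth.Agent.S13225.result R 𝒜 a (M ⧸ (x • (⊤ : Submodule R M)))
      (quotPiece ℳ (x • (⊤ : Submodule R M))) E₁ c'
    have hint := Groth.Agent.S13225.result R 𝒜 a M ℳ E (c' + 1)
    -- `δ` is injective
    have hδinj : Function.Injective (δ c') := by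
      refine injective_of_homogeneous (E₁.Hgr a c') (E.Hgr a (c' + 1)) hint₁ hint
        (δ c').toAddMonoidHom (-k) ?_ ?_
      · intro g w hw
        have := hδgr c' g w hw
        rwa [sub_eq_add_neg] at this
      · intro g w hw hw0
        obtain ⟨y, -, rfl⟩ := hP2 c' g w hw hw0
        rw [Subsingleton.elim y 0, map_zero]
    -- the range of `δ` is the kernel of `x`
    have hδrange : ∀ y : E.H a (c' + 1), x • y = 0 → ∃ w, δ c' w = y := by
      intro y hy
      let _ := hint.chooseDecomposition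
      refine mem_range_of_components (E.Hgr a (c' + 1)) (δ c').toAddMonoidHom y ?_
      intro g
      have hmul : ∀ g' (z : E.H a (c' + 1)), z ∈ E.Hgr a (c' + 1) g' →
          (DistribSMul.toAddMonoidHom (E.H a (c' + 1)) x) z ∈ E.Hgr a (c' + 1) (g' + k) := by
        intro g' z hz
        have h1 := smul_mem_Hgr E a (c' + 1) hxk hz
        have e : k + g' = g' + k := add_comm _ _
        rw [e] at h1
        exact h1
      have h0 := map_decompose_eq_zero (E.Hgr a (c' + 1)) (E.Hgr a (c' + 1))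
        (DistribSMul.toAddMonoidHom (E.H a (c' + 1)) x) k hmul (a := y) hy g
      obtain ⟨w, -, hw⟩ := hP3 c' g _ (SetLike.coe_mem _) h0
      exact ⟨w, hw⟩
    refine ⟨(δ c').comp ι₁, hδinj.comp hι₁inj, ?_, ?_⟩
    · intro g w hw
      have h1 := hι₁gr g w hw
      have h2 := hδgr c' _ _ h1
      rw [List.map_cons, List.sum_cons]
      have e : g - (List.map Prod.snd ps).sum - k = g - (k + (List.map Prod.snd ps).sum) := by ring
      rw [← e]
      exact h2
    · intro y
      constructor
      · rintro ⟨w, rfl⟩ p hp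
        rcases List.mem_cons.mp hp with rfl | hp'
        · exact hP3' c' (ι₁ w)
        · show p.1 • (δ c') (ι₁ w) = 0
          rw [← map_smul, (hι₁range (ι₁ w)).mp ⟨w, rfl⟩ p hp', map_zero]
      · intro hy
        obtain ⟨w₁, rfl⟩ := hδrange y (hy (x, k) List.mem_cons_self)
        have hw₁ : w₁ ∈ LinearMap.range ι₁ := by
          rw [hι₁range]
          intro p hp
          apply hδinj
          rw [map_smul, map_zero]
          exact hy p (List.mem_cons_of_mem _ hp)
        obtain ⟨w, rfl⟩ := hw₁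
        exact ⟨w, rfl⟩

end Seq

end Groth.Agent.Lib.helper26.GorS
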