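import Mathlib
import Groth.Prelude.Def_GrLC
import Groth.Prelude.Def_CAlg
import Groth.Agent.Lib.Helper26.GorS1
import Groth.Agent.Lib.Helper26.Depth3

/-!
# Local cohomology and quotients by homogeneous regular sequences: the shift map (helper26)

`exists_shiftMap`: for a finite graded module `M`, a homogeneous `M`-regular sequence
`x₁, …, x_c ∈ a`, `N = M/(x)M` and `j + c ≤ depth_a M`, there is an injective `R`-linear map
`H^j_a(N) → H^{j+c}_a(M)`, homogeneous of degree `-Σ deg xᵢ`, whose image is the set of classes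
killed by all the `xᵢ`.  (Generalizes `exists_socleMap`, the case `j = 0`.)
-/

set_option autoImplicit false
set_option linter.unusedSectionVars false
set_option linter.dupNamespace false
universe u

namespace Groth.Agent.Lib.helper26.GorS

open GrLC Groth.Agent.Lib.helper19.GrMod Groth.Agent.Lib.helper19.GrShift
  Groth.Agent.Lib.helper19.GrLes
open scoped Pointwise

section Seq

variable {R : Type u} [CommRing R] [IsNoetherianRing R] (𝒜 : ℤ → AddSubgroup R) [GradedRing 𝒜]

/-- **the shift map**: `H^j_a(M/(x)M) → H^{j+c}_a(M)` for a homogeneous `M`-regular sequence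
`x₁, …, x_c` in `a` with `j + c ≤ depth_a M`; injective, homogeneous of degree `-Σ deg xᵢ`, with
image the classes killed by the `xᵢ`. -/
theorem exists_shiftMap (a : HomogeneousIdeal 𝒜) (j : ℕ) (ps : List (R × ℤ)) :
    ∀ (M : Type u) [AddCommGroup M] [Module R M] [Module.Finite R M] (ℳ : ℤ → AddSubgroup M)
      [DirectSum.Decomposition ℳ] [SetLike.GradedSMul 𝒜 ℳ] (E : StarInjRes 𝒜 ℳ)
      (N : Type u) [AddCommGroup N] [Module R N] (𝒩 : ℤ → AddSubgroup N)
      [DirectSum.Decomposition 𝒩] [SetLike.GradedSMul 𝒜 𝒩] (F : StarInjRes 𝒜 𝒩)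
      (π : M →ₗ[R] N), IsGrHom ℳ 𝒩 π → Function.Surjective π →
      LinearMap.ker π = Ideal.ofList (ps.map Prod.fst) • (⊤ : Submodule R M) →
      (∀ p ∈ ps, p.1 ∈ 𝒜 p.2 ∧ p.1 ∈ a.toIdeal) →
      RingTheory.Sequence.IsWeaklyRegular M (ps.map Prod.fst) →
      ((j + ps.length : ℕ) : ℕ∞) ≤ LocCoh.idealDepth a.toIdeal M →
      ∃ ι : F.H a j →ₗ[R] E.H a (j + ps.length), Function.Injective ι ∧
        (∀ g w, w ∈ F.Hgr a j g → ι w ∈ E.Hgr a (j + ps.length) (g - (ps.map Prod.snd).sum)) ∧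
        (∀ y, y ∈ LinearMap.range ι ↔ ∀ p ∈ ps, p.1 • y = 0) := by
  classical
  induction ps with
  | nil =>
    intro M _ _ _ ℳ _ _ E N _ _ 𝒩 _ _ F π hπ hsurj hker _ _ _
    have hinj : Function.Injective π := by
      rw [← LinearMap.ker_eq_bot, hker, List.map_nil, Ideal.ofList_nil, Submodule.bot_smul]
    obtain ⟨ι, hι, hιgr⟩ := exists_Hequiv 𝒜 E F π hπ ⟨hinj, hsurj⟩ a j
    refine ⟨ι, hι.1, ?_, ?_⟩
    · intro g w hw
      rw [List.map_nil, List.sum_nil, sub_zero]
      exact hιgr g w hw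
    · intro y
      constructor
      · intro _ p hp
        exact absurd hp List.not_mem_nil
      · intro _
        exact hι.2 y
  | cons p ps ih =>
    intro M _ _ _ ℳ _ _ E N _ _ 𝒩 _ _ F π hπ hsurj hker hmem hreg hdepth
    obtain ⟨x, k⟩ := p
    have hxk : x ∈ 𝒜 k := (hmem (x, k) List.mem_cons_self).1
    have hxa : x ∈ a.toIdeal := (hmem (x, k) List.mem_cons_self).2
    rw [List.map_cons] at hker hreg
    rw [RingTheory.Sequence.isWeaklyRegular_cons_iff] at hreg
    obtain ⟨hregx, hreg'⟩ := hreg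
    set c' := ps.length with hc'
    have hK : (x • (⊤ : Submodule R M)).IsHomogeneous ℳ := smul_top_isHomogeneous hxk
    let _ : DirectSum.Decomposition (quotPiece ℳ (x • (⊤ : Submodule R M))) :=
      quotDecomposition ℳ (x • (⊤ : Submodule R M)) hK
    let _ : SetLike.GradedSMul 𝒜 (quotPiece ℳ (x • (⊤ : Submodule R M))) :=
      quot_gradedSMul 𝒜 ℳ (x • (⊤ : Submodule R M))
    obtain ⟨E₁⟩ := Groth.Agent.S13215.result R 𝒜 (M ⧸ (x • (⊤ : Submodule R M)))
      (quotPiece ℳ (x • (⊤ : Submodule R M)))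
    have hdepth' : ((j + c' + 1 : ℕ) : ℕ∞) ≤ LocCoh.idealDepth a.toIdeal M := hdepth
    have hvan : Subsingleton (E.H a (j + c')) := by
      obtain ⟨e⟩ := Groth.Agent.S13224.result R 𝒜 a M ℳ E (j + c')
      have : Subsingleton (LocCoh.H a.toIdeal (j + c') M) :=
        Groth.Agent.S0318.H_vanish_below a.toIdeal M (j + c')
          (lt_of_lt_of_le (by exact_mod_cast Nat.lt_succ_self (j + c')) hdepth')
      exact e.toEquiv.subsingleton
    have hdepth₁ : ((j + c' : ℕ) : ℕ∞) ≤
        LocCoh.idealDepth a.toIdeal (M ⧸ (x • (⊤ : Submodule R M))) := by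
      have h1 := Groth.Agent.Lib.helper26.Depth.idealDepth_quotSMulTop_add_one a.toIdeal M x hxa
        hregx
      have h2 : LocCoh.idealDepth a.toIdeal (M ⧸ (x • (⊤ : Submodule R M))) + 1 =
          LocCoh.idealDepth a.toIdeal M := h1
      rw [← h2] at hdepth'
      have h3 : ((j + c' : ℕ) : ℕ∞) + 1 ≤
          LocCoh.idealDepth a.toIdeal (M ⧸ (x • (⊤ : Submodule R M))) + 1 := by
        exact_mod_cast hdepth'
      exact (ENat.add_le_add_iff_right ENat.one_ne_top).1 h3
    obtain ⟨ψ, δ, -, hδgr, -, -, -, hP2, -, hP3, hP3'⟩ := les_regular E E₁ x k hxk hregx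
      (x • (⊤ : Submodule R M)).mkQ (mkQ_isGrHom ℳ (x • (⊤ : Submodule R M)))
      (Submodule.mkQ_surjective _) (by rw [Submodule.ker_mkQ]; exact smul_top_eq_range x) a
    have hsurj₁ : Function.Surjective ((x • (⊤ : Submodule R M)).liftQ π
        (smul_top_le_ker_of_cons x (ps.map Prod.fst) π hker)) := by
      intro n
      obtain ⟨m, rfl⟩ := hsurj n
      exact ⟨(x • (⊤ : Submodule R M)).mkQ m, rfl⟩
    have hπ₁ : IsGrHom (quotPiece ℳ (x • (⊤ : Submodule R M))) 𝒩 ((x • (⊤ : Submodule R M)).liftQ π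
        (smul_top_le_ker_of_cons x (ps.map Prod.fst) π hker)) := by
      rintro g q ⟨y, hy, rfl⟩
      exact hπ g y hy
    obtain ⟨ι₁, hι₁inj, hι₁gr, hι₁range⟩ := ih (M ⧸ (x • (⊤ : Submodule R M)))
      (quotPiece ℳ (x • (⊤ : Submodule R M))) E₁ N 𝒩 F
      ((x • (⊤ : Submodule R M)).liftQ π (smul_top_le_ker_of_cons x (ps.map Prod.fst) π hker))
      hπ₁ hsurj₁ (ker_liftQ_cons x (ps.map Prod.fst) π hker)
      (fun p hp => hmem p (List.mem_cons_of_mem _ hp)) hreg' hdepth₁
    -- internal gradings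
    have hint₁ := Groth.Agent.S13225.result R 𝒜 a (M ⧸ (x • (⊤ : Submodule R M)))
      (quotPiece ℳ (x • (⊤ : Submodule R M))) E₁ (j + c')
    have hint := Groth.Agent.S13225.result R 𝒜 a M ℳ E (j + c' + 1)
    -- `δ` is injective
    have hδinj : Function.Injective (δ (j + c')) := by
      refine injective_of_homogeneous (E₁.Hgr a (j + c')) (E.Hgr a (j + c' + 1)) hint₁ hint
        (δ (j + c')).toAddMonoidHom (-k) ?_ ?_
      · intro g w hw
        have := hδgr (j + c') g w hw
        rwa [sub_eq_add_neg] at this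
      · intro g w hw hw0
        obtain ⟨y, -, rfl⟩ := hP2 (j + c') g w hw hw0
        rw [Subsingleton.elim y 0, map_zero]
    -- the range of `δ` is the kernel of `x`
    have hδrange : ∀ y : E.H a (j + c' + 1), x • y = 0 → ∃ w, δ (j + c') w = y := by
      intro y hy
      let _ := hint.chooseDecomposition
      refine mem_range_of_components (E.Hgr a (j + c' + 1)) (δ (j + c')).toAddMonoidHom y ?_
      intro g
      have hmul : ∀ g' (z : E.H a (j + c' + 1)), z ∈ E.Hgr a (j + c' + 1) g' →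
          (DistribSMul.toAddMonoidHom (E.H a (j + c' + 1)) x) z ∈
            E.Hgr a (j + c' + 1) (g' + k) := by
        intro g' z hz
        have h1 := smul_mem_Hgr E a (j + c' + 1) hxk hz
        have e : k + g' = g' + k := add_comm _ _
        rw [e] at h1
        exact h1
      have h0 := map_decompose_eq_zero (E.Hgr a (j + c' + 1)) (E.Hgr a (j + c' + 1))
        (DistribSMul.toAddMonoidHom (E.H a (j + c' + 1)) x) k hmul (a := y) hy g
      obtain ⟨w, -, hw⟩ := hP3 (j + c') g _ (SetLike.coe_mem _) h0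
      exact ⟨w, hw⟩
    refine ⟨(δ (j + c')).comp ι₁, hδinj.comp hι₁inj, ?_, ?_⟩
    · intro g w hw
      have h1 := hι₁gr g w hw
      have h2 := hδgr (j + c') _ _ h1
      rw [List.map_cons, List.sum_cons]
      have e : g - (List.map Prod.snd ps).sum - k = g - (k + (List.map Prod.snd ps).sum) := by ring
      rw [← e]
      exact h2
    · intro y
      constructor
      · rintro ⟨w, rfl⟩ p hp
        rcases List.mem_cons.mp hp with rfl | hp'
        · exact hP3' (j + c') (ι₁ w)
        · show p.1 • (δ (j + c')) (ι₁ w) = 0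
          rw [← map_smul, (hι₁range (ι₁ w)).mp ⟨w, rfl⟩ p hp', map_zero]
      · intro hy
        obtain ⟨w₁, rfl⟩ := hδrange y (hy (x, k) List.mem_cons_self)
        have hw₁ : w₁ ∈ LinearMap.range ι₁ := by
          rw [hι₁range]
          intro p hp
          apply hδinj
          rw [map_smul, map_zero]
          exact hy p (List.mem_cons_of_mem _ hp)
        obtain ⟨w, rfl⟩ := hw₁
        exact ⟨w, rfl⟩

/-- `exists_shiftMap` with the cohomological degree of the target as a variable -/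
theorem exists_shiftMap' (a : HomogeneousIdeal 𝒜) (j : ℕ) (ps : List (R × ℤ)) (nn : ℕ)
    (hnn : j + ps.length = nn)
    (M : Type u) [AddCommGroup M] [Module R M] [Module.Finite R M] (ℳ : ℤ → AddSubgroup M)
    [DirectSum.Decomposition ℳ] [SetLike.GradedSMul 𝒜 ℳ] (E : StarInjRes 𝒜 ℳ)
    (N : Type u) [AddCommGroup N] [Module R N] (𝒩 : ℤ → AddSubgroup N)
    [DirectSum.Decomposition 𝒩] [SetLike.GradedSMul 𝒜 𝒩] (F : StarInjRes 𝒜 𝒩)
    (π : M →ₗ[R] N) (hπ : IsGrHom ℳ 𝒩 π) (hsurj : Function.Surjective π)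
    (hker : LinearMap.ker π = Ideal.ofList (ps.map Prod.fst) • (⊤ : Submodule R M))
    (hmem : ∀ p ∈ ps, p.1 ∈ 𝒜 p.2 ∧ p.1 ∈ a.toIdeal)
    (hreg : RingTheory.Sequence.IsWeaklyRegular M (ps.map Prod.fst))
    (hdepth : (nn : ℕ∞) ≤ LocCoh.idealDepth a.toIdeal M) :
    ∃ ι : F.H a j →ₗ[R] E.H a nn, Function.Injective ι ∧
      (∀ g w, w ∈ F.Hgr a j g → ι w ∈ E.Hgr a nn (g - (ps.map Prod.snd).sum)) ∧
      (∀ y, y ∈ LinearMap.range ι ↔ ∀ p ∈ ps, p.1 • y = 0) := by
  subst hnn
  exact exists_shiftMap 𝒜 a j ps M ℳ E N 𝒩 F π hπ hsurj hker hmem hreg hdepth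

end Seq

end Groth.Agent.Lib.helper26.GorS
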