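import Mathlib
import Groth.Prelude.Def_GrLC
import Groth.Prelude.Def_CAlg
import Groth.Agent.Lib.Helper26.GorS1b
import Groth.Agent.S11625

/-!
# Surjectivity of regular elements on local cohomology killed by a regular sequence (helper26)

* `ideal_smul_top_isHomogeneous` : `J M` is a homogeneous submodule for a homogeneous ideal `J`;
* `supportDim_quot_ofList_add_le` : `dim M/(rs)M + |rs| ≤ dim M` for an `M`-regular sequence `rs`;
* `smul_surjective_of_supportDim_lt` : a homogeneous `M`-regular element is surjective on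
  `H^j_a(M)` if `dim M/xM < j`;
* `exists_smul_eq_of_append` : in a graded ring of dimension `≤ n` and `a`-depth `≥ n`, for a
  homogeneous regular sequence `q₁, …, q_i, x` in `a`, multiplication by `x` is surjective on the
  classes of `H^n_a(R)` killed by `q₁, …, q_i`.
-/

set_option autoImplicit false
set_option linter.unusedSectionVars false
set_option linter.dupNamespace false
universe u

namespace Groth.Agent.Lib.helper26.ExtCan

open GrLC Groth.Agent.Lib.helper19.GrMod Groth.Agent.Lib.helper19.GrLes RingTheory.Sequence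
  Groth.Agent.Lib.helper26.GorS
open scoped Pointwise

section Hom

variable {R : Type u} [CommRing R] {σ : Type u} [SetLike σ R] [AddSubgroupClass σ R]
  (𝒜 : ℤ → σ) [GradedRing 𝒜]
  {M : Type u} [AddCommGroup M] [Module R M] (ℳ : ℤ → AddSubgroup M)
  [DirectSum.Decomposition ℳ] [SetLike.GradedSMul 𝒜 ℳ]

/-- `J M` is homogeneous for a homogeneous ideal `J` -/
theorem ideal_smul_top_isHomogeneous (J : Ideal R) (hJ : J.IsHomogeneous 𝒜) :
    (J • ⊤ : Submodule R M).IsHomogeneous ℳ := by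
  classical
  intro n y hy
  refine Submodule.smul_induction_on
    (p := fun y => ((DirectSum.decompose ℳ y n : ℳ n) : M) ∈ (J • ⊤ : Submodule R M)) hy ?_ ?_
  · intro r hr m _
    have h1 : r • m = ∑ c ∈ (DirectSum.decompose 𝒜 r).support,
        ((DirectSum.decompose 𝒜 r c : 𝒜 c) : R) • m := by
      conv_lhs => rw [← DirectSum.sum_support_decompose 𝒜 r]
      rw [Finset.sum_smul]
    rw [h1, DirectSum.decompose_sum, DFinsupp.finsetSum_apply, AddSubmonoidClass.coe_finsetSum]
    refine Submodule.sum_mem _ fun c _ => ?_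
    rw [decompose_smul_apply 𝒜 ℳ (SetLike.coe_mem (DirectSum.decompose 𝒜 r c)) m n]
    exact Submodule.smul_mem_smul (hJ c hr) Submodule.mem_top
  · intro x y hx hy
    rw [DirectSum.decompose_add, DirectSum.add_apply, AddSubgroup.coe_add]
    exact add_mem hx hy

/-- the ideal generated by a list of homogeneous elements is homogeneous -/
theorem ofList_isHomogeneous (ps : List (R × ℤ)) (hps : ∀ p ∈ ps, p.1 ∈ 𝒜 p.2) :
    (Ideal.ofList (ps.map Prod.fst)).IsHomogeneous 𝒜 := by
  apply Ideal.homogeneous_span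
  rintro r hr
  obtain ⟨p, hp, rfl⟩ := List.mem_map.1 hr
  exact ⟨p.2, hps p hp⟩

end Hom

section Dim

variable {R : Type u} [CommRing R]

/-- `dim M/(rs)M + |rs| ≤ dim M` for a weakly `M`-regular sequence -/
theorem supportDim_quot_ofList_add_le (rs : List R) :
    ∀ (M : Type u) [AddCommGroup M] [Module R M] [Module.Finite R M],
      IsWeaklyRegular M rs →
      Module.supportDim R (M ⧸ (Ideal.ofList rs • ⊤ : Submodule R M)) +
        ((rs.length : ℕ) : WithBot ℕ∞) ≤ Module.supportDim R M := by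
  induction rs with
  | nil =>
    intro M _ _ _ _
    rw [List.length_nil, Nat.cast_zero, add_zero]
    exact Module.supportDim_le_of_surjective _ (Submodule.mkQ_surjective _)
  | cons x rs ih =>
    intro M _ _ _ hreg
    rw [isWeaklyRegular_cons_iff] at hreg
    obtain ⟨hx, hrs⟩ := hreg
    have h1 := ih (QuotSMulTop x M) hrs
    have h2 : Module.supportDim R (QuotSMulTop x M) + 1 ≤ Module.supportDim R M :=
      Module.supportDim_quotSMulTop_succ_le_of_notMem_minimalPrimes
        (fun _ => hx.notMem_of_mem_minimalPrimes)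
    rw [Module.supportDim_eq_of_equiv
      (Submodule.quotOfListConsSMulTopEquivQuotSMulTopInner M x rs)]
    rw [List.length_cons, Nat.cast_add, Nat.cast_one, ← add_assoc]
    exact (add_le_add_left h1 1).trans h2

end Dim

section Surj

variable {R : Type u} [CommRing R] [IsNoetherianRing R] (𝒜 : ℤ → AddSubgroup R) [GradedRing 𝒜]

/-- a homogeneous `M`-regular element is surjective on `H^j_a(M)` if `dim M/xM < j` -/
theorem smul_surjective_of_supportDim_lt {M : Type u} [AddCommGroup M] [Module R M]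
    (ℳ : ℤ → AddSubgroup M) [DirectSum.Decomposition ℳ] [SetLike.GradedSMul 𝒜 ℳ]
    (E : StarInjRes 𝒜 ℳ) (a : HomogeneousIdeal 𝒜) (x : R) (k : ℤ) (hx : x ∈ 𝒜 k)
    (hreg : IsSMulRegular M x) (j : ℕ)
    (hdim : Module.supportDim R (M ⧸ (x • (⊤ : Submodule R M))) < (j : WithBot ℕ∞))
    (w : E.H a j) : ∃ h : E.H a j, x • h = w := by
  classical
  have hK : (x • (⊤ : Submodule R M)).IsHomogeneous ℳ := smul_top_isHomogeneous hx
  let _ : DirectSum.Decomposition (quotPiece ℳ (x • (⊤ : Submodule R M))) :=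
    quotDecomposition ℳ (x • (⊤ : Submodule R M)) hK
  let _ : SetLike.GradedSMul 𝒜 (quotPiece ℳ (x • (⊤ : Submodule R M))) :=
    quot_gradedSMul 𝒜 ℳ (x • (⊤ : Submodule R M))
  obtain ⟨F⟩ := Groth.Agent.S13215.result R 𝒜 (M ⧸ (x • (⊤ : Submodule R M)))
    (quotPiece ℳ (x • (⊤ : Submodule R M)))
  obtain ⟨ψ, δ, -, -, -, hP1, -, -, -, -, -⟩ := les_regular E F x k hx hreg
    (x • (⊤ : Submodule R M)).mkQ (mkQ_isGrHom ℳ (x • (⊤ : Submodule R M)))
    (Submodule.mkQ_surjective _) (by rw [Submodule.ker_mkQ]; exact smul_top_eq_range x) a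
  have hF : Subsingleton (F.H a j) := by
    obtain ⟨eq⟩ := Groth.Agent.S13224.result R 𝒜 a (M ⧸ (x • (⊤ : Submodule R M)))
      (quotPiece ℳ (x • (⊤ : Submodule R M))) F j
    have : Subsingleton (LocCoh.H a.toIdeal j (M ⧸ (x • (⊤ : Submodule R M)))) :=
      Groth.Agent.S11625.result R a.toIdeal (M ⧸ (x • (⊤ : Submodule R M))) j hdim
    exact eq.toEquiv.subsingleton
  have hint := Groth.Agent.S13225.result R 𝒜 a M ℳ E j
  let _ := hint.chooseDecomposition
  have hcomp : ∀ g : ℤ, ∃ h : E.H a j,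
      x • h = ((DirectSum.decompose (E.Hgr a j) w g : E.Hgr a j g) : E.H a j) := by
    intro g
    obtain ⟨h, -, hh⟩ := hP1 j g _ (SetLike.coe_mem (DirectSum.decompose (E.Hgr a j) w g))
      (Subsingleton.elim _ _)
    exact ⟨h, hh⟩
  choose hh hhx using hcomp
  refine ⟨∑ g ∈ (DirectSum.decompose (E.Hgr a j) w).support, hh g, ?_⟩
  rw [Finset.smul_sum]
  conv_rhs => rw [← DirectSum.sum_support_decompose (E.Hgr a j) w]
  exact Finset.sum_congr rfl fun g _ => hhx g

/-- in a graded ring of dimension `≤ n` and `a`-depth `≥ n`, for a homogeneous regular sequence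
`q₁, …, q_i, x` in `a`, multiplication by `x` is surjective on the classes of `H^n_a(R)` killed by
`q₁, …, q_i` -/
theorem exists_smul_eq_of_append (a : HomogeneousIdeal 𝒜) (E : StarInjRes 𝒜 𝒜) (n : ℕ)
    (hn : ringKrullDim R ≤ n) (hdepth : (n : ℕ∞) ≤ LocCoh.idealDepth a.toIdeal R)
    (qs : List (R × ℤ)) (x : R) (k : ℤ)
    (hmem : ∀ p ∈ qs, p.1 ∈ 𝒜 p.2 ∧ p.1 ∈ a.toIdeal) (hxk : x ∈ 𝒜 k)
    (hreg : IsWeaklyRegular R (qs.map Prod.fst ++ [x])) (hlen : qs.length < n)
    (h : E.H a n) (hh : ∀ p ∈ qs, p.1 • h = 0) :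
    ∃ h' : E.H a n, (∀ p ∈ qs, p.1 • h' = 0) ∧ x • h' = h := by
  classical
  rw [isWeaklyRegular_append_iff, isWeaklyRegular_singleton_iff] at hreg
  obtain ⟨hreg₁, hregx⟩ := hreg
  have hJ : (Ideal.ofList (qs.map Prod.fst) • ⊤ : Submodule R R).IsHomogeneous 𝒜 :=
    ideal_smul_top_isHomogeneous 𝒜 𝒜 _ (ofList_isHomogeneous 𝒜 qs (fun p hp => (hmem p hp).1))
  let _ : DirectSum.Decomposition
      (quotPiece 𝒜 (Ideal.ofList (qs.map Prod.fst) • ⊤ : Submodule R R)) :=
    quotDecomposition 𝒜 _ hJ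
  let _ : SetLike.GradedSMul 𝒜
      (quotPiece 𝒜 (Ideal.ofList (qs.map Prod.fst) • ⊤ : Submodule R R)) :=
    quot_gradedSMul 𝒜 𝒜 _
  obtain ⟨F⟩ := Groth.Agent.S13215.result R 𝒜
    (R ⧸ (Ideal.ofList (qs.map Prod.fst) • ⊤ : Submodule R R))
    (quotPiece 𝒜 (Ideal.ofList (qs.map Prod.fst) • ⊤ : Submodule R R))
  obtain ⟨j, hj⟩ : ∃ j : ℕ, j + qs.length = n := ⟨n - qs.length, by omega⟩
  obtain ⟨ι, -, -, hιrange⟩ := exists_shiftMap' 𝒜 a j qs n hj R 𝒜 E
    (R ⧸ (Ideal.ofList (qs.map Prod.fst) • ⊤ : Submodule R R))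
    (quotPiece 𝒜 (Ideal.ofList (qs.map Prod.fst) • ⊤ : Submodule R R)) F
    (Ideal.ofList (qs.map Prod.fst) • ⊤ : Submodule R R).mkQ (mkQ_isGrHom 𝒜 _)
    (Submodule.mkQ_surjective _) (Submodule.ker_mkQ _) hmem hreg₁ hdepth
  obtain ⟨w, rfl⟩ := (hιrange h).2 hh
  have hdim : Module.supportDim R
      ((R ⧸ (Ideal.ofList (qs.map Prod.fst) • ⊤ : Submodule R R)) ⧸
        (x • (⊤ : Submodule R (R ⧸ (Ideal.ofList (qs.map Prod.fst) • ⊤ : Submodule R R))))) <
      (j : WithBot ℕ∞) := by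
    have h1 := supportDim_quot_ofList_add_le (qs.map Prod.fst) R hreg₁
    have h2 : Module.supportDim R (QuotSMulTop x
        (R ⧸ (Ideal.ofList (qs.map Prod.fst) • ⊤ : Submodule R R))) + 1 ≤
        Module.supportDim R (R ⧸ (Ideal.ofList (qs.map Prod.fst) • ⊤ : Submodule R R)) :=
      Module.supportDim_quotSMulTop_succ_le_of_notMem_minimalPrimes
        (fun _ => hregx.notMem_of_mem_minimalPrimes)
    rw [Module.supportDim_self_eq_ringKrullDim, List.length_map] at h1
    have h3 : Module.supportDim R (QuotSMulTop x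
        (R ⧸ (Ideal.ofList (qs.map Prod.fst) • ⊤ : Submodule R R))) + 1 +
        ((qs.length : ℕ) : WithBot ℕ∞) ≤ ((n : ℕ) : WithBot ℕ∞) :=
      ((add_le_add_left h2 _).trans h1).trans hn
    show Module.supportDim R (QuotSMulTop x
      (R ⧸ (Ideal.ofList (qs.map Prod.fst) • ⊤ : Submodule R R))) < _
    generalize Module.supportDim R (QuotSMulTop x
      (R ⧸ (Ideal.ofList (qs.map Prod.fst) • ⊤ : Submodule R R))) = dd at h3
    induction dd with
    | bot => exact WithBot.bot_lt_coe _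
    | coe q =>
      have h3' : q + 1 + (qs.length : ℕ∞) ≤ (n : ℕ∞) := by exact_mod_cast h3
      induction q with
      | top => simp at h3'
      | coe q =>
        have h4 : q + 1 + qs.length ≤ n := by exact_mod_cast h3'
        have h5 : q < j := by omega
        exact_mod_cast h5
  obtain ⟨w', rfl⟩ := smul_surjective_of_supportDim_lt 𝒜
    (quotPiece 𝒜 (Ideal.ofList (qs.map Prod.fst) • ⊤ : Submodule R R)) F a x k hxk hregx j hdim w
  refine ⟨ι w', (hιrange (ι w')).1 ⟨w', rfl⟩, ?_⟩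
  rw [map_smul]

end Surj

end Groth.Agent.Lib.helper26.ExtCan
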