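import Mathlib
import Groth.Agent.Lib.Helper26.Seg4

/-!
# Noetherian positively graded algebras over a field are of finite type (helper26)
-/

set_option autoImplicit false
set_option linter.unusedSectionVars false
universe u

namespace Groth.Agent.Lib.helper26.GorS

open Groth.Agent.Lib.helper26.Seg

variable {k : Type u} [Field k] {R : Type u} [CommRing R] [Algebra k R]
  (𝒜 : ℤ → Submodule k R) [GradedAlgebra 𝒜]

/-- a Noetherian non-negatively graded `k`-algebra with `R_0 = k` is of finite type over `k` -/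
theorem finiteType_of_isNoetherianRing (hpos : ∀ n : ℤ, n < 0 → 𝒜 n = ⊥)
    (h0 : 𝒜 0 = Submodule.span k {(1 : R)}) [IsNoetherianRing R] : Algebra.FiniteType k R := by
  classical
  obtain ⟨H, hH, hspan⟩ := exists_finset_homogeneous_span 𝒜 (fun m => 0 < m)
    (Ideal.span (⋃ m ∈ {m : ℤ | 0 < m}, (𝒜 m : Set R))) rfl (IsNoetherian.noetherian _)
  choose! deg hdegpos hdeg using hH
  have hz : ∀ g : ℤ, g < 0 → ∀ y ∈ 𝒜 g, y = 0 := by
    intro g hg y hy
    rw [hpos g hg] at hy
    exact (Submodule.mem_bot k).mp hy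
  -- every homogeneous element lies in the subalgebra generated by `H`
  have key : ∀ d : ℕ, ∀ r ∈ 𝒜 (d : ℤ), r ∈ Algebra.adjoin k (H : Set R) := by
    intro d
    induction d using Nat.strong_induction_on with
    | _ d ih =>
      intro r hr
      rcases Nat.eq_zero_or_pos d with rfl | hd
      · rw [Nat.cast_zero, h0, Submodule.mem_span_singleton] at hr
        obtain ⟨c, rfl⟩ := hr
        rw [Algebra.smul_def, mul_one]
        exact Subalgebra.algebraMap_mem _ c
      · have hrJ : r ∈ Ideal.span (⋃ m ∈ {m : ℤ | 0 < m}, (𝒜 m : Set R)) :=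
          Ideal.subset_span (Set.mem_biUnion (show (d : ℤ) ∈ {m : ℤ | 0 < m} by
            simpa using hd) hr)
        rw [hspan, Submodule.mem_span_finset'] at hrJ
        obtain ⟨c, hc⟩ := hrJ
        have h1 : ((DirectSum.decompose 𝒜 r (d : ℤ) : 𝒜 (d : ℤ)) : R) = r :=
          DirectSum.decompose_of_mem_same _ hr
        rw [← h1, ← hc, DirectSum.decompose_sum, DFinsupp.finsetSum_apply,
          AddSubmonoidClass.coe_finsetSum]
        refine Subalgebra.sum_mem _ fun h _ => ?_
        have hh : (h : R) ∈ 𝒜 (deg h) := hdeg h h.2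
        have hn' : (d : ℤ) = ((d : ℤ) - deg h) + deg h := by ring
        rw [smul_eq_mul, coe_decompose_congr 𝒜 _ hn',
          DirectSum.coe_decompose_mul_add_of_right_mem 𝒜 (a := c h) (i := (d : ℤ) - deg h) hh]
        refine Subalgebra.mul_mem _ ?_ (Algebra.subset_adjoin h.2)
        by_cases hneg : (d : ℤ) - deg h < 0
        · have : ((DirectSum.decompose 𝒜 (c h) ((d : ℤ) - deg h) : 𝒜 ((d : ℤ) - deg h)) : R) = 0 :=
            hz _ hneg _ (DirectSum.decompose 𝒜 (c h) ((d : ℤ) - deg h)).2
          rw [this]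
          exact Subalgebra.zero_mem _
        · push Not at hneg
          obtain ⟨e, he⟩ := Int.eq_ofNat_of_zero_le hneg
          have hpos' := hdegpos h h.2
          have hlt : e < d := by omega
          have h2 := (DirectSum.decompose 𝒜 (c h) ((d : ℤ) - deg h)).2
          rw [he] at h2
          have h3 := ih e hlt _ h2
          rw [coe_decompose_congr 𝒜 _ he]
          exact h3
  refine ⟨⟨H, ?_⟩⟩
  rw [eq_top_iff]
  intro r _
  rw [← DirectSum.sum_support_decompose 𝒜 r]
  refine Subalgebra.sum_mem _ fun g _ => ?_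
  by_cases hneg : g < 0
  · rw [hz _ hneg _ (DirectSum.decompose 𝒜 r g).2]
    exact Subalgebra.zero_mem _
  · push Not at hneg
    obtain ⟨e, rfl⟩ := Int.eq_ofNat_of_zero_le hneg
    exact key e _ (DirectSum.decompose 𝒜 r e).2

end Groth.Agent.Lib.helper26.GorS
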