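import Mathlib
import Groth.Prelude.Def_GrLC
import Groth.Prelude.Def_CAlg
import Groth.Agent.Lib.Helper26.GorS1
import Groth.Agent.Lib.Helper26.Acyc1

/-!
# The socle map into the top graded local cohomology of the ring (helper26)

`R` Noetherian `ℤ`-graded, `a` a homogeneous ideal, `x₁, …, x_c` a homogeneous `R`-regular sequence in
`a` with `a^N ⊆ (x)`.  Then there is an injective `R`-linear map `R/(x) → H^c_a(R)`, homogeneous of
degree `-Σ deg xᵢ`, whose image consists of the classes killed by all `xᵢ`.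
-/

set_option autoImplicit false
set_option linter.unusedSectionVars false
set_option linter.dupNamespace false
universe u

namespace Groth.Agent.Lib.helper26.GorS

open GrLC Groth.Agent.Lib.helper19.GrMod Groth.Agent.Lib.helper19.GrShift
  Groth.Agent.Lib.helper19.GrLes Groth.Agent.Lib.helper26.Acyc

open scoped Pointwise

section Iota

variable {R : Type u} [CommRing R] [IsNoetherianRing R] (𝒜 : ℤ → AddSubgroup R) [GradedRing 𝒜]

/-- the ideal generated by homogeneous elements is a homogeneous submodule -/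
theorem ofList_isHomogeneous (ps : List (R × ℤ)) (hmem : ∀ p ∈ ps, p.1 ∈ 𝒜 p.2) :
    (Ideal.ofList (ps.map Prod.fst) : Submodule R R).IsHomogeneous 𝒜 := by
  have h : (Ideal.ofList (ps.map Prod.fst)).IsHomogeneous 𝒜 := by
    apply Ideal.homogeneous_span
    intro x hx
    obtain ⟨p, hp, rfl⟩ := List.mem_map.mp hx
    exact ⟨p.2, hmem p hp⟩
  exact h

/-- **the socle map** `R/(x) → H^c_a(R)` -/
theorem exists_iota (a : HomogeneousIdeal 𝒜) (I : StarInjRes 𝒜 𝒜) (ps : List (R × ℤ))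
    (hmem : ∀ p ∈ ps, p.1 ∈ 𝒜 p.2 ∧ p.1 ∈ a.toIdeal)
    (hreg : RingTheory.Sequence.IsWeaklyRegular R (ps.map Prod.fst))
    (htors : ∃ N : ℕ, a.toIdeal ^ N ≤ Ideal.ofList (ps.map Prod.fst)) :
    ∃ ι : (R ⧸ Ideal.ofList (ps.map Prod.fst)) →ₗ[R] I.H a ps.length, Function.Injective ι ∧
      (∀ (g : ℤ) (r : R), r ∈ 𝒜 g →
        ι (Ideal.Quotient.mk _ r) ∈ I.Hgr a ps.length (g - (ps.map Prod.snd).sum)) ∧
      (∀ y, y ∈ LinearMap.range ι ↔ ∀ p ∈ ps, p.1 • y = 0) := by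
  classical
  set J : Ideal R := Ideal.ofList (ps.map Prod.fst) with hJ
  have hJhom : (J : Submodule R R).IsHomogeneous 𝒜 :=
    ofList_isHomogeneous 𝒜 ps (fun p hp => (hmem p hp).1)
  let _ : DirectSum.Decomposition (quotPiece 𝒜 (J : Submodule R R)) :=
    quotDecomposition 𝒜 (J : Submodule R R) hJhom
  let _ : SetLike.GradedSMul 𝒜 (quotPiece 𝒜 (J : Submodule R R)) :=
    quot_gradedSMul 𝒜 𝒜 (J : Submodule R R)
  obtain ⟨F⟩ := Groth.Agent.S13215.result R 𝒜 (R ⧸ (J : Submodule R R))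
    (quotPiece 𝒜 (J : Submodule R R))
  obtain ⟨ι₀, hι₀inj, hι₀gr, hι₀range⟩ := exists_socleMap 𝒜 a ps R 𝒜 I
    (R ⧸ (J : Submodule R R)) (quotPiece 𝒜 (J : Submodule R R)) F
    (J : Submodule R R).mkQ (mkQ_isGrHom 𝒜 (J : Submodule R R))
    (Submodule.mkQ_surjective _)
    (by rw [Submodule.ker_mkQ, smul_eq_mul, Ideal.mul_top]) hmem hreg
  -- `R/(x)` is `a`-torsion
  obtain ⟨N, hN⟩ := htors
  have htop : ∀ q : R ⧸ (J : Submodule R R), q ∈ gam a.toIdeal (R ⧸ (J : Submodule R R)) := by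
    intro q
    obtain ⟨r, rfl⟩ := Submodule.mkQ_surjective _ q
    refine ⟨N, fun s hs => ?_⟩
    rw [← map_smul, Submodule.mkQ_apply, Submodule.Quotient.mk_eq_zero, smul_eq_mul]
    exact Ideal.mul_mem_right _ _ (hN hs)
  let j : (R ⧸ (J : Submodule R R)) →ₗ[R] ↥(gam a.toIdeal (R ⧸ (J : Submodule R R))) :=
    LinearMap.codRestrict _ LinearMap.id htop
  let h₀ : ↥(gam a.toIdeal (R ⧸ (J : Submodule R R))) →ₗ[R] F.H a 0 := (toGRes F).h0 a
  refine ⟨ι₀ ∘ₗ h₀ ∘ₗ j, ?_, ?_, ?_⟩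
  · refine hι₀inj.comp (((toGRes F).h0_injective a).comp ?_)
    intro q q' hqq
    exact congrArg Subtype.val hqq
  · intro g r hr
    apply hι₀gr
    have h1 : j (Ideal.Quotient.mk J r) ∈ subPiece (quotPiece 𝒜 (J : Submodule R R))
        (gam a.toIdeal (R ⧸ (J : Submodule R R))) g := ⟨r, hr, rfl⟩
    exact ((toGRes F).h0_mem_iff a g _).mp h1
  · intro y
    rw [← hι₀range]
    constructor
    · rintro ⟨q, rfl⟩
      exact ⟨h₀ (j q), rfl⟩
    · rintro ⟨w, rfl⟩
      obtain ⟨t, rfl⟩ := (toGRes F).h0_surjective a w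
      exact ⟨t.1, by
        show ι₀ (h₀ (j t.1)) = ι₀ (h₀ t)
        congr 2⟩

end Iota

end Groth.Agent.Lib.helper26.GorS
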