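import Mathlib
import Groth.Prelude.Def_CAlg
import Groth.Agent.Lib.Helper17.LciGor
import Groth.Agent.Lib.Helper17.ArtGor
import Groth.Agent.Lib.Helper17.GorFlat
import Groth.Agent.Lib.Helper17.GorIso
import Groth.Agent.Lib.Helper19.BassZero2

/-!
# Gorenstein localizations and simple socles (helper26)

`R` Noetherian, `𝔪` a maximal ideal, `x₁, …, x_c ∈ 𝔪` an `R`-regular sequence with `𝔪^N ⊆ (x)`.
Then `R_𝔪` is a Gorenstein local ring iff the socle `0 :_{R/(x)} 𝔪` is simple.
-/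

set_option autoImplicit false
set_option linter.unusedSectionVars false
set_option linter.dupNamespace false
universe u

namespace Groth.Agent.Lib.helper26.GorS

open RingTheory.Sequence IsLocalRing

section Soc

variable {R : Type u} [CommRing R]

/-- the socle `0 :_M a` is nonzero and generated by one element -/
def SimpleSoc (a : Ideal R) (M : Type u) [AddCommGroup M] [Module R M] : Prop :=
  ∃ s : M, s ≠ 0 ∧ (∀ r ∈ a, r • s = 0) ∧
    ∀ y : M, (∀ r ∈ a, r • y = 0) → ∃ c : R, y = c • s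

/-- simple socles transfer along injective maps whose image contains the socle -/
theorem simpleSoc_iff_of_injective (a : Ideal R) {A H : Type u} [AddCommGroup A] [Module R A]
    [AddCommGroup H] [Module R H] (ι : A →ₗ[R] H) (hinj : Function.Injective ι)
    (hrange : ∀ y : H, (∀ r ∈ a, r • y = 0) → y ∈ LinearMap.range ι) :
    SimpleSoc a A ↔ SimpleSoc a H := by
  constructor
  · rintro ⟨s, hs0, hs, hgen⟩
    refine ⟨ι s, fun h => hs0 (hinj (h.trans (map_zero ι).symm)), fun r hr => ?_, fun y hy => ?_⟩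
    · rw [← map_smul, hs r hr, map_zero]
    · obtain ⟨t, rfl⟩ := hrange y hy
      obtain ⟨c, rfl⟩ := hgen t (fun r hr => hinj (by rw [map_smul, hy r hr, map_zero]))
      exact ⟨c, map_smul ι c s⟩
  · rintro ⟨s', hs0, hs, hgen⟩
    obtain ⟨s, rfl⟩ := hrange s' hs
    refine ⟨s, fun h => hs0 (by rw [h, map_zero]), fun r hr => ?_, fun y hy => ?_⟩
    · exact hinj (by rw [map_smul, hs r hr, map_zero])
    · obtain ⟨c, hc⟩ := hgen (ι y) (fun r hr => by rw [← map_smul, hy r hr, map_zero])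
      exact ⟨c, hinj (by rw [hc, map_smul])⟩

end Soc

section Quot

open Groth.Agent.Lib.helper17.GorIso

/-- a Noetherian local ring is Gorenstein iff its quotient by a regular sequence is -/
theorem gor_quot_ofList_iff_aux : ∀ (n : ℕ) (A : Type u) [CommRing A] [IsLocalRing A]
    [IsNoetherianRing A] (rs : List A), rs.length = n → (∀ r ∈ rs, r ∈ maximalIdeal A) →
    IsWeaklyRegular A rs →
    (LocCoh.IsGorensteinLocalRing A ↔ LocCoh.IsGorensteinLocalRing (A ⧸ Ideal.ofList rs)) := by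
  intro n
  induction n with
  | zero =>
    intro A _ _ _ rs hlen _ _
    obtain rfl := List.length_eq_zero_iff.mp hlen
    have h0 : Ideal.ofList ([] : List A) = ⊥ := Ideal.ofList_nil
    exact (isGorensteinLocalRing_iff_of_ringEquiv
      ((Ideal.quotEquivOfEq h0).trans (RingEquiv.quotientBot A))).symm
  | succ n ih =>
    intro A _ _ _ rs hlen hmem hreg
    obtain ⟨r, rs, rfl⟩ := List.exists_cons_of_length_eq_add_one hlen
    have hr : r ∈ maximalIdeal A := hmem r List.mem_cons_self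
    rw [isWeaklyRegular_cons_iff] at hreg
    obtain ⟨hr1, hr2⟩ := hreg
    let e : QuotSMulTop r A ≃ₗ[A] (A ⧸ Ideal.span {r}) :=
      Submodule.quotEquivOfEq _ _ (by
        rw [← Submodule.ideal_span_singleton_smul, smul_eq_mul, Ideal.mul_top])
    have hr3 : IsWeaklyRegular (A ⧸ Ideal.span {r}) rs := (e.isWeaklyRegular_congr rs).mp hr2
    have hr4 : IsWeaklyRegular (A ⧸ Ideal.span {r})
        (rs.map (algebraMap A (A ⧸ Ideal.span {r}))) :=
      (isWeaklyRegular_map_algebraMap_iff (A ⧸ Ideal.span {r}) (A ⧸ Ideal.span {r}) rs).mpr hr3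
    have hloc : IsLocalRing (A ⧸ Ideal.span {r}) :=
      Groth.Agent.Lib.helper17.GorQuot.isLocalRing_quot r hr
    have hA' : LocCoh.IsGorensteinLocalRing A ↔
        LocCoh.IsGorensteinLocalRing (A ⧸ Ideal.span {r}) :=
      Groth.Agent.Lib.helper17.GorFlat.gor_quot_iff A r hr hr1
    have hmem' : ∀ y ∈ rs.map (algebraMap A (A ⧸ Ideal.span {r})),
        y ∈ maximalIdeal (A ⧸ Ideal.span {r}) := by
      intro y hy
      obtain ⟨a, ha, rfl⟩ := List.mem_map.mp hy
      exact (Groth.Agent.Lib.helper17.GorQuot.mk_mem_maximalIdeal_iff r hr a).mpr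
        (hmem a (List.mem_cons_of_mem _ ha))
    have h1 := ih (A ⧸ Ideal.span {r}) (rs.map (algebraMap A (A ⧸ Ideal.span {r})))
      (by rw [List.length_map]; simpa using hlen) hmem' hr4
    have hmap : Ideal.ofList (rs.map (algebraMap A (A ⧸ Ideal.span {r}))) =
        (Ideal.ofList rs).map (Ideal.Quotient.mk (Ideal.span {r})) := by
      rw [Ideal.map_ofList]; rfl
    have hcons : Ideal.span {r} ⊔ Ideal.ofList rs = Ideal.ofList (r :: rs) :=
      (Ideal.ofList_cons r rs).symm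
    rw [hA', h1]
    exact (isGorensteinLocalRing_iff_of_ringEquiv
      ((Ideal.quotEquivOfEq hcons.symm).trans
        ((DoubleQuot.quotQuotEquivQuotSup (Ideal.span {r}) (Ideal.ofList rs)).symm.trans
          (Ideal.quotEquivOfEq hmap.symm)))).symm

theorem gor_quot_ofList_iff (A : Type u) [CommRing A] [IsLocalRing A]
    [IsNoetherianRing A] (rs : List A) (hmem : ∀ r ∈ rs, r ∈ maximalIdeal A)
    (hreg : IsWeaklyRegular A rs) :
    LocCoh.IsGorensteinLocalRing A ↔ LocCoh.IsGorensteinLocalRing (A ⧸ Ideal.ofList rs) :=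
  gor_quot_ofList_iff_aux rs.length A rs rfl hmem hreg

end Quot

section Main

open Groth.Agent.Lib.helper17.GorIso

variable (R : Type u) [CommRing R] [IsNoetherianRing R] (𝔪 : Ideal R) [h𝔪 : 𝔪.IsMaximal]
  (xs : List R) (hmem : ∀ x ∈ xs, x ∈ 𝔪) (N : ℕ) (hN : 𝔪 ^ N ≤ Ideal.ofList xs)

include hN in
/-- elements outside `𝔪` are units modulo `(x)` -/
theorem isUnit_mk_of_notMem {y : R} (hy : y ∉ 𝔪) :
    IsUnit (Ideal.Quotient.mk (Ideal.ofList xs) y) := by
  obtain ⟨z, i, hi, hz⟩ := h𝔪.exists_inv hy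
  have hz' : y * z - 1 ∈ 𝔪 := by
    have : y * z - 1 = -i := by rw [← hz]; ring
    rw [this]
    exact neg_mem hi
  have h1 : (y * z - 1) ^ N ∈ Ideal.ofList xs := hN (Ideal.pow_mem_pow hz' N)
  have h2 : IsNilpotent (Ideal.Quotient.mk (Ideal.ofList xs) (y * z - 1)) := by
    refine ⟨N, ?_⟩
    rw [← map_pow]
    exact Ideal.Quotient.eq_zero_iff_mem.mpr h1
  have h3 : IsUnit (Ideal.Quotient.mk (Ideal.ofList xs) (y * z)) := by
    have := h2.isUnit_add_one
    rwa [← map_one (Ideal.Quotient.mk (Ideal.ofList xs)), ← map_add, sub_add_cancel] at this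
  rw [map_mul] at h3
  exact isUnit_of_mul_isUnit_left h3

include hmem in
theorem ofList_le : Ideal.ofList xs ≤ 𝔪 := by
  unfold Ideal.ofList
  rw [Ideal.span_le]
  exact fun x hx => hmem x hx

/-- the map `R_𝔪 → R/(x)` -/
noncomputable def locToQuot : Localization.AtPrime 𝔪 →+* R ⧸ Ideal.ofList xs :=
  IsLocalization.lift (M := 𝔪.primeCompl) (g := Ideal.Quotient.mk (Ideal.ofList xs))
    (fun y => isUnit_mk_of_notMem R 𝔪 xs N hN y.2)

theorem locToQuot_algebraMap (r : R) :
    locToQuot R 𝔪 xs N hN (algebraMap R (Localization.AtPrime 𝔪) r) =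
      Ideal.Quotient.mk (Ideal.ofList xs) r :=
  IsLocalization.lift_eq _ r

theorem locToQuot_surjective : Function.Surjective (locToQuot R 𝔪 xs N hN) := by
  intro q
  obtain ⟨r, rfl⟩ := Ideal.Quotient.mk_surjective q
  exact ⟨algebraMap R _ r, locToQuot_algebraMap R 𝔪 xs N hN r⟩

theorem ker_locToQuot : RingHom.ker (locToQuot R 𝔪 xs N hN) =
    Ideal.ofList (xs.map (algebraMap R (Localization.AtPrime 𝔪))) := by
  rw [← Ideal.map_ofList]
  apply le_antisymm
  · intro b hb
    obtain ⟨r, s, rfl⟩ := IsLocalization.exists_mk'_eq 𝔪.primeCompl b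
    rw [RingHom.mem_ker, locToQuot, IsLocalization.lift_mk'_spec] at hb
    rw [mul_zero] at hb
    have hr : r ∈ Ideal.ofList xs := Ideal.Quotient.eq_zero_iff_mem.mp hb
    rw [IsLocalization.mk'_eq_mul_mk'_one]
    exact Ideal.mul_mem_right _ _ (Ideal.mem_map_of_mem _ hr)
  · rw [Ideal.map_le_iff_le_comap]
    intro r hr
    rw [Ideal.mem_comap, RingHom.mem_ker, locToQuot_algebraMap]
    exact Ideal.Quotient.eq_zero_iff_mem.mpr hr

/-- `R_𝔪/(x) ≅ R/(x)` -/
noncomputable def locQuotEquiv :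
    (Localization.AtPrime 𝔪 ⧸ Ideal.ofList (xs.map (algebraMap R (Localization.AtPrime 𝔪)))) ≃+*
      R ⧸ Ideal.ofList xs :=
  (Ideal.quotEquivOfEq (ker_locToQuot R 𝔪 xs N hN).symm).trans
    (RingHom.quotientKerEquivOfSurjective (locToQuot_surjective R 𝔪 xs N hN))

include hmem in
theorem nontrivial_quot : Nontrivial (R ⧸ Ideal.ofList xs) := by
  rw [Ideal.Quotient.nontrivial_iff]
  intro h
  have := ofList_le R 𝔪 xs hmem
  rw [h] at this
  exact h𝔪.ne_top (eq_top_iff.mpr this)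

include hmem hN in
theorem isLocalRing_quot : IsLocalRing (R ⧸ Ideal.ofList xs) := by
  have := nontrivial_quot R 𝔪 xs hmem
  exact IsLocalRing.of_surjective' (locToQuot R 𝔪 xs N hN) (locToQuot_surjective R 𝔪 xs N hN)

include hmem hN in
/-- primes containing `(x)` equal `𝔪` -/
theorem eq_of_isPrime_of_le (P : Ideal R) [hP : P.IsPrime] (h : Ideal.ofList xs ≤ P) : P = 𝔪 := by
  have h1 : 𝔪 ≤ P := hP.le_of_pow_le (hN.trans h)
  exact (h𝔪.eq_of_le hP.ne_top h1).symm

include hmem hN in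
theorem mk_mem_maximalIdeal_iff [IsLocalRing (R ⧸ Ideal.ofList xs)] (r : R) :
    Ideal.Quotient.mk (Ideal.ofList xs) r ∈ maximalIdeal (R ⧸ Ideal.ofList xs) ↔ r ∈ 𝔪 := by
  have h1 : (maximalIdeal (R ⧸ Ideal.ofList xs)).comap (Ideal.Quotient.mk (Ideal.ofList xs)) = 𝔪 := by
    have hP : ((maximalIdeal (R ⧸ Ideal.ofList xs)).comap
        (Ideal.Quotient.mk (Ideal.ofList xs))).IsPrime := Ideal.IsPrime.comap _
    apply eq_of_isPrime_of_le R 𝔪 xs hmem N hN
    intro r hr
    rw [Ideal.mem_comap, Ideal.Quotient.eq_zero_iff_mem.mpr hr]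
    exact zero_mem _
  rw [← h1, Ideal.mem_comap]

include hmem hN in
theorem isArtinianRing_quot : IsArtinianRing (R ⧸ Ideal.ofList xs) := by
  have hloc := isLocalRing_quot R 𝔪 xs hmem N hN
  rw [isArtinianRing_iff_krullDimLE_zero, Ring.krullDimLE_zero_iff]
  intro P hP
  have h1 : P = maximalIdeal (R ⧸ Ideal.ofList xs) := by
    apply le_antisymm (IsLocalRing.le_maximalIdeal hP.ne_top)
    intro q hq
    obtain ⟨r, rfl⟩ := Ideal.Quotient.mk_surjective q
    rw [mk_mem_maximalIdeal_iff R 𝔪 xs hmem N hN] at hq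
    have hQ : (P.comap (Ideal.Quotient.mk (Ideal.ofList xs))).IsPrime := Ideal.IsPrime.comap _
    have h2 := eq_of_isPrime_of_le R 𝔪 xs hmem N hN (P.comap (Ideal.Quotient.mk (Ideal.ofList xs)))
      (by
        intro r hr
        rw [Ideal.mem_comap, Ideal.Quotient.eq_zero_iff_mem.mpr hr]
        exact zero_mem _)
    rw [← h2] at hq
    exact hq
  rw [h1]
  exact IsLocalRing.maximalIdeal.isMaximal _

include hmem hN in
/-- the type of `R/(x)` is one iff the socle is simple -/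
theorem typ_eq_one_iff [IsLocalRing (R ⧸ Ideal.ofList xs)] :
    Groth.Agent.Lib.helper17.ArtGor.typ (R ⧸ Ideal.ofList xs) = 1 ↔
      SimpleSoc 𝔪 (R ⧸ Ideal.ofList xs) := by
  set A := R ⧸ Ideal.ofList xs with hA
  have hsmul : ∀ (r : R) (q : A), r • q = Ideal.Quotient.mk (Ideal.ofList xs) r * q := by
    intro r q
    rw [Algebra.smul_def]
    rfl
  have hsoc : ∀ q : A, q ∈ Groth.Agent.Lib.helper19.BassZero.soc (S := A) A ↔
      ∀ r ∈ 𝔪, r • q = 0 := by
    intro q
    constructor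
    · intro hq r hr
      rw [hsmul]
      exact hq _ ((mk_mem_maximalIdeal_iff R 𝔪 xs hmem N hN r).mpr hr)
    · intro hq a ha
      obtain ⟨r, rfl⟩ := Ideal.Quotient.mk_surjective a
      rw [mk_mem_maximalIdeal_iff R 𝔪 xs hmem N hN] at ha
      rw [smul_eq_mul, ← hsmul]
      exact hq r ha
  unfold Groth.Agent.Lib.helper17.ArtGor.typ
  rw [(Groth.Agent.Lib.helper19.BassZero.homEquivSoc (S := A) A).length_eq,
    Module.length_eq_one_iff, isSimpleModule_iff_toSpanSingleton_surjective]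
  constructor
  · rintro ⟨hnt, hsurj⟩
    obtain ⟨s, hs⟩ := exists_ne (0 : ↥(Groth.Agent.Lib.helper19.BassZero.soc (S := A) A))
    refine ⟨s.1, fun h => hs (Subtype.ext h), (hsoc s.1).mp s.2, fun y hy => ?_⟩
    obtain ⟨c, hc⟩ := hsurj s hs ⟨y, (hsoc y).mpr hy⟩
    obtain ⟨r, rfl⟩ := Ideal.Quotient.mk_surjective c
    refine ⟨r, ?_⟩
    have := congrArg Subtype.val hc
    rw [LinearMap.toSpanSingleton_apply] at this
    rw [hsmul]
    exact this.symm
  · rintro ⟨s, hs0, hs, hgen⟩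
    refine ⟨⟨⟨s, (hsoc s).mpr hs⟩, 0, fun h => hs0 (congrArg Subtype.val h)⟩, ?_⟩
    intro y hy z
    obtain ⟨c, hc⟩ := hgen z.1 ((hsoc z.1).mp z.2)
    obtain ⟨c', hc'⟩ := hgen y.1 ((hsoc y.1).mp y.2)
    have hc'm : c' ∉ 𝔪 := by
      intro hmem'
      apply hy
      apply Subtype.ext
      rw [hc', hs c' hmem']
      rfl
    have hu : IsUnit (Ideal.Quotient.mk (Ideal.ofList xs) c') :=
      isUnit_mk_of_notMem R 𝔪 xs N hN hc'm
    obtain ⟨u, hu⟩ := hu
    refine ⟨Ideal.Quotient.mk (Ideal.ofList xs) c * ↑u⁻¹, ?_⟩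
    apply Subtype.ext
    rw [LinearMap.toSpanSingleton_apply]
    show (Ideal.Quotient.mk (Ideal.ofList xs) c * ↑u⁻¹) • y.1 = z.1
    rw [hc, hc', hsmul, hsmul, ← hu, smul_eq_mul]
    rw [mul_assoc, ← mul_assoc (↑u⁻¹ : A), Units.inv_mul, one_mul]

include hmem hN in
/-- **`R_𝔪` is Gorenstein iff the socle of `R/(x)` is simple**, for a regular sequence `x` in `𝔪`
generating an `𝔪`-primary ideal -/
theorem gor_localization_iff_simpleSoc (hreg : IsWeaklyRegular R xs) :
    LocCoh.IsGorensteinLocalRing (Localization.AtPrime 𝔪) ↔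
      SimpleSoc 𝔪 (R ⧸ Ideal.ofList xs) := by
  have hloc := isLocalRing_quot R 𝔪 xs hmem N hN
  have hart := isArtinianRing_quot R 𝔪 xs hmem N hN
  have hreg' : IsWeaklyRegular (Localization.AtPrime 𝔪)
      (xs.map (algebraMap R (Localization.AtPrime 𝔪))) := by
    rw [isWeaklyRegular_map_algebraMap_iff]
    have h1 := hreg.isWeaklyRegular_rTensor (M₂ := Localization.AtPrime 𝔪)
    exact ((TensorProduct.lid R (Localization.AtPrime 𝔪)).isWeaklyRegular_congr xs).mp h1
  have hmem' : ∀ y ∈ xs.map (algebraMap R (Localization.AtPrime 𝔪)),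
      y ∈ maximalIdeal (Localization.AtPrime 𝔪) := by
    intro y hy
    obtain ⟨x, hx, rfl⟩ := List.mem_map.mp hy
    exact (IsLocalization.AtPrime.to_map_mem_maximal_iff _ 𝔪 _).2 (hmem x hx)
  rw [gor_quot_ofList_iff _ _ hmem' hreg',
    isGorensteinLocalRing_iff_of_ringEquiv (locQuotEquiv R 𝔪 xs N hN),
    Groth.Agent.Lib.helper17.ArtGor.isGorensteinLocalRing_iff_typ,
    typ_eq_one_iff R 𝔪 xs hmem N hN]

end Main

end Groth.Agent.Lib.helper26.GorS
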