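import Mathlib
import Groth.Prelude.Def_GrLC
import Groth.Prelude.Def_CAlg
import Groth.Agent.Lib.Helper26.GorS0
import Groth.Agent.Lib.Helper26.GorS2
import Groth.Agent.Lib.Helper26.GorS3
import Groth.Agent.Lib.Helper26.GorS4
import Groth.Agent.Lib.Helper26.CanConv
import Groth.Agent.Lib.Helper26.Can5
import Groth.Agent.Lib.Helper26.Seg9
import Groth.Agent.Lib.Helper26.Seg10
import Groth.Agent.Lib.Helper26.Seg21

/-!
# Graded rings defined over a field: Gorenstein iff the socle of `H^n_m(R)` is simple (helper26)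
-/

set_option autoImplicit false
set_option linter.unusedSectionVars false
set_option linter.dupNamespace false
universe u

namespace Groth.Agent.Lib.helper26.GorS

open GrLC Groth.Agent.Lib.helper26.Can Groth.Agent.Lib.helper26.Seg RingTheory.Sequence

section PG

variable {R : Type u} [CommRing R] (𝒜 : ℤ → AddSubgroup R) [GradedRing 𝒜]
  (hpos : ∀ n : ℤ, n < 0 → 𝒜 n = ⊥) (h0 : IsField (deg0 𝒜))
  (m : HomogeneousIdeal 𝒜)
  (hmsp : m.toIdeal = Ideal.span (⋃ n ∈ Set.Ioi (0 : ℤ), (𝒜 n : Set R)))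

include hpos h0 hmsp in
theorem isMaximal_toIdeal [Nontrivial R] : m.toIdeal.IsMaximal := by
  let _ : Field (deg0 𝒜) := h0.toField
  have hirr : m.toIdeal = irr (subGr 𝒜) := hmsp
  rw [hirr]
  exact irr_isMaximal (subGr 𝒜) (subGr_eq_bot 𝒜 hpos) (subGr_zero 𝒜)

include hpos h0 hmsp in
/-- the degree zero component of an element outside `R_+` is a unit -/
theorem isUnit_decompose_zero {s : R} (hs : s ∉ m.toIdeal) :
    IsUnit ((DirectSum.decompose 𝒜 s 0 : 𝒜 0) : R) := by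
  let _ : Field (deg0 𝒜) := h0.toField
  have hirr : m.toIdeal = irr (subGr 𝒜) := hmsp
  obtain ⟨c, hc⟩ := exists_sub_mem_irr (subGr 𝒜) (subGr_eq_bot 𝒜 hpos) (subGr_zero 𝒜) s
  have hc0 : c ≠ 0 := by
    rintro rfl
    rw [map_zero, sub_zero] at hc
    exact hs (by rw [hirr]; exact hc)
  have h1 := decompose_zero_of_mem_irr (subGr 𝒜) (subGr_eq_bot 𝒜 hpos) hc
  rw [coe_decompose_subGr, DirectSum.decompose_sub, DirectSum.sub_apply, AddSubgroupClass.coe_sub,
    sub_eq_zero] at h1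
  have h2 : ((DirectSum.decompose 𝒜 (algebraMap (deg0 𝒜) R c) 0 : 𝒜 0) : R) =
      algebraMap (deg0 𝒜) R c := DirectSum.decompose_of_mem_same 𝒜 c.2
  rw [h1, h2]
  exact (IsUnit.mk0 c hc0).map (algebraMap (deg0 𝒜) R)

include hpos h0 hmsp in
/-- a homogeneous system of parameters, all of whose powers are regular sequences generating
`R_+`-primary ideals -/
theorem exists_regular_sop [LocCoh.IsCohenMacaulayRing R] (n : ℕ) (hn : ringKrullDim R = n) :
    ∃ (d : ℕ) (_ : 0 < d) (x : Fin n → R), (∀ i, x i ∈ 𝒜 (d : ℤ)) ∧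
      ∀ t : ℕ, 0 < t → IsWeaklyRegular R (List.ofFn fun i => x i ^ t) ∧
        ∃ N : ℕ, m.toIdeal ^ N ≤ Ideal.span (Set.range fun i => x i ^ t) := by
  classical
  let _ : Field (deg0 𝒜) := h0.toField
  have hirr : m.toIdeal = irr (subGr 𝒜) := hmsp
  have hntR : Nontrivial R := by
    by_contra hcon
    rw [not_nontrivial_iff_subsingleton] at hcon
    rw [ringKrullDim_eq_bot_of_subsingleton] at hn
    exact absurd hn (by simp)
  have hFT : Algebra.FiniteType (deg0 𝒜) R :=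
    finiteType_of_isNoetherianRing (subGr 𝒜) (subGr_eq_bot 𝒜 hpos) (subGr_zero 𝒜)
  obtain ⟨d, hd, x, hx, hfin⟩ := exists_homogeneous_sop (subGr 𝒜) (subGr_eq_bot 𝒜 hpos)
    (subGr_zero 𝒜) n hn.le
  refine ⟨d, hd, x, hx, fun t ht => ?_⟩
  have hfin' := finite_quotient_pow (subGr 𝒜) (subGr_eq_bot 𝒜 hpos) (subGr_zero 𝒜) x hx t
  have hxt : ∀ i, (fun i => x i ^ t) i ∈ subGr 𝒜 ((d * t : ℕ) : ℤ) :=
    pow_mem_piece (subGr 𝒜) x hx t
  have hhom : (Ideal.span (Set.range fun i => x i ^ t)).IsHomogeneous (subGr 𝒜) := by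
    apply Ideal.homogeneous_span
    rintro _ ⟨i, rfl⟩
    exact ⟨_, hxt i⟩
  have hrad := irr_le_radical_of_finite_quotient (subGr 𝒜) _ hhom
  obtain ⟨N, hN⟩ := Ideal.exists_pow_le_of_le_radical_of_fg hrad
    ((isNoetherianRing_iff_ideal_fg R).mp inferInstance _)
  refine ⟨?_, N, by rw [hirr]; exact hN⟩
  rw [isWeaklyRegular_ofFn_iff]
  intro j z h
  exact regular_of_sop (subGr 𝒜) (subGr_eq_bot 𝒜 hpos) (subGr_zero 𝒜) n hn (fun i => x i ^ t)
    (fun _ => d * t) (fun _ => Nat.mul_pos hd ht) hxt N hN j z h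

end PG

section Lists

variable {R : Type u} [CommRing R]

/-- a family of elements of one degree, as a list of pairs -/
def psOf {n : ℕ} (x : Fin n → R) (e : ℤ) : List (R × ℤ) := List.ofFn fun i => (x i, e)

theorem psOf_length {n : ℕ} (x : Fin n → R) (e : ℤ) : (psOf x e).length = n := by
  unfold psOf
  rw [List.length_ofFn]

theorem psOf_map_fst {n : ℕ} (x : Fin n → R) (e : ℤ) : (psOf x e).map Prod.fst = List.ofFn x := by
  unfold psOf
  rw [List.map_ofFn]
  rfl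

theorem psOf_map_snd {n : ℕ} (x : Fin n → R) (e : ℤ) :
    ((psOf x e).map Prod.snd).sum = n * e := by
  unfold psOf
  rw [List.map_ofFn, List.sum_ofFn]
  simp

theorem mem_psOf {n : ℕ} {x : Fin n → R} {e : ℤ} {p : R × ℤ} (hp : p ∈ psOf x e) :
    ∃ i, p = (x i, e) := by
  unfold psOf at hp
  rw [List.mem_ofFn] at hp
  obtain ⟨i, rfl⟩ := hp
  exact ⟨i, rfl⟩

theorem mem_psOf_self {n : ℕ} (x : Fin n → R) (e : ℤ) (i : Fin n) : (x i, e) ∈ psOf x e := by
  unfold psOf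
  rw [List.mem_ofFn]
  exact ⟨i, rfl⟩

theorem ofList_ofFn {n : ℕ} (x : Fin n → R) : Ideal.ofList (List.ofFn x) = Ideal.span (Set.range x) := by
  unfold Ideal.ofList
  congr 1
  ext y
  simp [List.mem_ofFn]

end Lists

section GS

variable {R : Type u} [CommRing R] (𝒜 : ℤ → AddSubgroup R) [GradedRing 𝒜]
  (hpos : ∀ n : ℤ, n < 0 → 𝒜 n = ⊥) (h0 : IsField (deg0 𝒜))
  (m : HomogeneousIdeal 𝒜)
  (hmsp : m.toIdeal = Ideal.span (⋃ n ∈ Set.Ioi (0 : ℤ), (𝒜 n : Set R)))

/-- `exists_iota` with the length of the sequence as a variable -/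
theorem exists_iota' [IsNoetherianRing R] (a : HomogeneousIdeal 𝒜) (I : StarInjRes 𝒜 𝒜)
    (ps : List (R × ℤ)) (c : ℕ) (hc : ps.length = c)
    (hmem : ∀ p ∈ ps, p.1 ∈ 𝒜 p.2 ∧ p.1 ∈ a.toIdeal)
    (hreg : IsWeaklyRegular R (ps.map Prod.fst))
    (htors : ∃ N : ℕ, a.toIdeal ^ N ≤ Ideal.ofList (ps.map Prod.fst)) :
    ∃ ι : (R ⧸ Ideal.ofList (ps.map Prod.fst)) →ₗ[R] I.H a c, Function.Injective ι ∧
      (∀ (g : ℤ) (r : R), r ∈ 𝒜 g →
        ι (Ideal.Quotient.mk _ r) ∈ I.Hgr a c (g - (ps.map Prod.snd).sum)) ∧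
      (∀ y, y ∈ LinearMap.range ι ↔ ∀ p ∈ ps, p.1 • y = 0) := by
  subst hc
  exact exists_iota 𝒜 a I ps hmem hreg htors

include hmsp in
theorem mem_toIdeal_of_mem {e : ℤ} (he : 0 < e) {r : R} (hr : r ∈ 𝒜 e) : r ∈ m.toIdeal := by
  rw [hmsp]
  exact Ideal.subset_span (Set.mem_biUnion (Set.mem_Ioi.mpr he) hr)

include hpos h0 hmsp in
/-- **a Cohen–Macaulay graded ring defined over a field is Gorenstein iff the socle of its top
local cohomology is simple** -/
theorem gor_iff_simpleSoc [LocCoh.IsCohenMacaulayRing R] (n : ℕ) (hn : ringKrullDim R = n)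
    (I : StarInjRes 𝒜 𝒜) :
    LocCoh.IsGorensteinRing R ↔ SimpleSoc m.toIdeal (I.H m n) := by
  classical
  have hntR : Nontrivial R := by
    by_contra hcon
    rw [not_nontrivial_iff_subsingleton] at hcon
    rw [ringKrullDim_eq_bot_of_subsingleton] at hn
    exact absurd hn (by simp)
  have hmax : m.toIdeal.IsMaximal := isMaximal_toIdeal 𝒜 hpos h0 m hmsp
  obtain ⟨d, hd, x, hx, hall⟩ := exists_regular_sop 𝒜 hpos h0 m hmsp n hn
  obtain ⟨hreg, N, hN⟩ := hall 1 Nat.one_pos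
  set y : Fin n → R := fun i => x i ^ 1 with hy
  have hyd : ∀ i, y i ∈ 𝒜 (d : ℤ) := fun i => by rw [hy]; simpa using hx i
  have hdpos : (0 : ℤ) < (d : ℤ) := by exact_mod_cast hd
  have hmem : ∀ p ∈ psOf y (d : ℤ), p.1 ∈ 𝒜 p.2 ∧ p.1 ∈ m.toIdeal := by
    intro p hp
    obtain ⟨i, rfl⟩ := mem_psOf hp
    exact ⟨hyd i, mem_toIdeal_of_mem 𝒜 m hmsp hdpos (hyd i)⟩
  have hregp : IsWeaklyRegular R ((psOf y (d : ℤ)).map Prod.fst) := by
    rw [psOf_map_fst]; exact hreg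
  have hNp : m.toIdeal ^ N ≤ Ideal.ofList ((psOf y (d : ℤ)).map Prod.fst) := by
    rw [psOf_map_fst, ofList_ofFn]; exact hN
  obtain ⟨ι, hinj, -, hrange⟩ := exists_iota' 𝒜 m I (psOf y (d : ℤ)) n (psOf_length y _) hmem
    hregp ⟨N, hNp⟩
  have hmemx : ∀ r ∈ (psOf y (d : ℤ)).map Prod.fst, r ∈ m.toIdeal := by
    intro r hr
    obtain ⟨p, hp, rfl⟩ := List.mem_map.mp hr
    exact (hmem p hp).2
  have key1 := gor_localization_iff_simpleSoc R m.toIdeal _ hmemx N hNp hregp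
  have key2 := simpleSoc_iff_of_injective m.toIdeal ι hinj
    (fun z hz => (hrange z).mpr (fun p hp => hz _ (hmem p hp).2))
  rw [← key2, ← key1]
  constructor
  · intro hG
    exact hG.isGorensteinLocalRing_localization m.toIdeal
  · intro hG
    exact isGorensteinRing_of_localization 𝒜 m.toIdeal
      (fun s hs => isUnit_decompose_zero 𝒜 hpos h0 m hmsp hs) hG

end GS

section EssFaith

open Groth.Agent.Lib.helper19.GrMod Groth.Agent.Lib.helper19.GrLes

variable {R : Type u} [CommRing R] (𝒜 : ℤ → AddSubgroup R) [GradedRing 𝒜]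
  (hpos : ∀ n : ℤ, n < 0 → 𝒜 n = ⊥) (h0 : IsField (deg0 𝒜))
  (m : HomogeneousIdeal 𝒜)
  (hmsp : m.toIdeal = Ideal.span (⋃ n ∈ Set.Ioi (0 : ℤ), (𝒜 n : Set R)))

/-- every nonzero class of graded local cohomology has a nonzero multiple in the socle -/
theorem exists_smul_mem_soc {M : Type u} [AddCommGroup M] [Module R M] {ℳ : ℤ → AddSubgroup M}
    [DirectSum.Decomposition ℳ] [SetLike.GradedSMul 𝒜 ℳ] (E : StarInjRes 𝒜 ℳ)
    (a : HomogeneousIdeal 𝒜) (n : ℕ) (h : E.H a n) (hh : h ≠ 0) :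
    ∃ r : R, r • h ≠ 0 ∧ ∀ s ∈ a.toIdeal, s • (r • h) = 0 := by
  classical
  have hex : ∃ N : ℕ, ∀ r ∈ a.toIdeal ^ N, r • h = 0 := exists_pow_smul_eq_zero a E n h
  have hN := Nat.find_spec hex
  have hN0 : Nat.find hex ≠ 0 := by
    intro h0'
    rw [h0'] at hN
    apply hh
    have := hN (1 : R) (by rw [pow_zero, Ideal.one_eq_top]; exact Submodule.mem_top)
    rwa [one_smul] at this
  obtain ⟨j, hj⟩ := Nat.exists_eq_succ_of_ne_zero hN0
  have hmin : ¬ ∀ r ∈ a.toIdeal ^ j, r • h = 0 := Nat.find_min hex (by omega)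
  push Not at hmin
  obtain ⟨r, hr, hrh⟩ := hmin
  refine ⟨r, hrh, fun s hs => ?_⟩
  rw [smul_smul]
  apply hN
  rw [hj, pow_succ']
  exact Ideal.mul_mem_mul hs hr

include hpos in
/-- elements of an ideal generated in degree `e` have no components below `e` -/
theorem decompose_eq_zero_of_mem_span {e : ℤ} (S : Set R) (hS : ∀ y ∈ S, y ∈ 𝒜 e) {z : R}
    (hz : z ∈ Ideal.span S) : ∀ g : ℤ, g < e → ((DirectSum.decompose 𝒜 z g : 𝒜 g) : R) = 0 := by
  classical
  induction hz using Submodule.span_induction with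
  | mem y hy =>
    intro g hg
    exact DirectSum.decompose_of_mem_ne 𝒜 (hS y hy) (by omega)
  | zero =>
    intro g _
    rw [DirectSum.decompose_zero]; rfl
  | add x y _ _ hx hy =>
    intro g hg
    rw [DirectSum.decompose_add, DirectSum.add_apply, AddSubgroup.coe_add, hx g hg, hy g hg,
      add_zero]
  | smul a x _ hx =>
    intro g hg
    have h3 : a • x = ∑ c ∈ (DirectSum.decompose 𝒜 a).support,
        ((DirectSum.decompose 𝒜 a c : 𝒜 c) : R) • x := by
      conv_lhs => rw [← DirectSum.sum_support_decompose 𝒜 a]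
      rw [Finset.sum_smul]
    rw [h3, DirectSum.decompose_sum, DFinsupp.finsetSum_apply, AddSubmonoidClass.coe_finsetSum]
    apply Finset.sum_eq_zero
    intro c _
    rw [decompose_smul_apply 𝒜 𝒜 (SetLike.coe_mem _) x g]
    by_cases hc : c < 0
    · have h' : ∀ z ∈ 𝒜 c, z = 0 := by
        intro z hz
        rwa [hpos c hc, AddSubgroup.mem_bot] at hz
      rw [h' _ (SetLike.coe_mem _), zero_smul]
    · rw [hx (g - c) (by omega), smul_zero]

include hpos h0 hmsp in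
/-- **the top local cohomology of a Cohen–Macaulay graded ring defined over a field is faithful** -/
theorem exists_smul_ne_zero [LocCoh.IsCohenMacaulayRing R] (n : ℕ) (hn : ringKrullDim R = n)
    (I : StarInjRes 𝒜 𝒜) {r : R} (hr : r ≠ 0) : ∃ h : I.H m n, r • h ≠ 0 := by
  classical
  obtain ⟨d, hd, x, hx, hall⟩ := exists_regular_sop 𝒜 hpos h0 m hmsp n hn
  -- a nonzero component of `r`
  have hex : ∃ g : ℤ, ((DirectSum.decompose 𝒜 r g : 𝒜 g) : R) ≠ 0 := by
    by_contra hcon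
    push Not at hcon
    apply hr
    rw [← DirectSum.sum_support_decompose 𝒜 r]
    exact Finset.sum_eq_zero (fun g _ => hcon g)
  obtain ⟨g, hg⟩ := hex
  have hg0 : 0 ≤ g := by
    by_contra hneg
    push Not at hneg
    apply hg
    have h' : ∀ z ∈ 𝒜 g, z = 0 := by
      intro z hz
      rwa [hpos g hneg, AddSubgroup.mem_bot] at hz
    exact h' _ (DirectSum.decompose 𝒜 r g).2
  set t : ℕ := g.toNat + 1 with ht
  obtain ⟨hreg, N, hN⟩ := hall t (by omega)
  set y : Fin n → R := fun i => x i ^ t with hy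
  have hyd : ∀ i, y i ∈ 𝒜 (((d * t : ℕ) : ℤ)) := by
    intro i
    have h1 : x i ^ t ∈ 𝒜 (t • (d : ℤ)) := SetLike.pow_mem_graded t (hx i)
    have h2 : t • (d : ℤ) = ((d * t : ℕ) : ℤ) := by
      rw [nsmul_eq_mul]; push_cast; ring
    rwa [h2] at h1
  have hdt : g < ((d * t : ℕ) : ℤ) := by
    have h1 : (t : ℤ) ≤ ((d * t : ℕ) : ℤ) := by
      have : t ≤ d * t := Nat.le_mul_of_pos_left t hd
      exact_mod_cast this
    have h2 : g < (t : ℤ) := by
      rw [ht]; push_cast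
      have := Int.self_le_toNat g
      omega
    omega
  have hdpos : (0 : ℤ) < ((d * t : ℕ) : ℤ) := by omega
  have hmem : ∀ p ∈ psOf y (((d * t : ℕ) : ℤ)), p.1 ∈ 𝒜 p.2 ∧ p.1 ∈ m.toIdeal := by
    intro p hp
    obtain ⟨i, rfl⟩ := mem_psOf hp
    exact ⟨hyd i, mem_toIdeal_of_mem 𝒜 m hmsp hdpos (hyd i)⟩
  have hregp : IsWeaklyRegular R ((psOf y (((d * t : ℕ) : ℤ))).map Prod.fst) := by
    rw [psOf_map_fst]; exact hreg
  have hNp : m.toIdeal ^ N ≤ Ideal.ofList ((psOf y (((d * t : ℕ) : ℤ))).map Prod.fst) := by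
    rw [psOf_map_fst, ofList_ofFn]; exact hN
  obtain ⟨ι, hinj, -, -⟩ := exists_iota' 𝒜 m I (psOf y (((d * t : ℕ) : ℤ))) n (psOf_length y _)
    hmem hregp ⟨N, hNp⟩
  refine ⟨ι (Ideal.Quotient.mk _ 1), ?_⟩
  rw [← map_smul]
  intro h
  have h1 := hinj (h.trans (map_zero ι).symm)
  have h2 : r ∈ Ideal.ofList ((psOf y (((d * t : ℕ) : ℤ))).map Prod.fst) := by
    rw [← Ideal.Quotient.eq_zero_iff_mem]
    rw [← h1, Algebra.smul_def, map_one, mul_one]
    rfl
  rw [psOf_map_fst, ofList_ofFn] at h2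
  apply hg
  exact decompose_eq_zero_of_mem_span 𝒜 hpos (Set.range y)
    (by rintro _ ⟨i, rfl⟩; exact hyd i) h2 g hdt

end EssFaith

end Groth.Agent.Lib.helper26.GorS
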