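import Mathlib
import Groth.Prelude.Def_GrLC
import Groth.Prelude.Def_CAlg
import Groth.Agent.Lib.Helper26.GorS5
import Groth.Agent.Lib.Helper26.Can9

/-!
# The graded structure of a simple socle (helper26)

`R` a graded ring defined over a field, `H` a graded `R`-module whose socle `0 :_H R_+` is simple.
The socle is spanned by a homogeneous element; if `H` has end `a`, the socle is `H_a`.
Consequences for `H = H^n_m(R)`: the pairings `R_{a-j} × H_j → H_a`.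
-/

set_option autoImplicit false
set_option linter.unusedSectionVars false
set_option linter.dupNamespace false
universe u

namespace Groth.Agent.Lib.helper26.GorS

open GrLC Groth.Agent.Lib.helper26.Can Groth.Agent.Lib.helper26.Seg
  Groth.Agent.Lib.helper19.GrMod

section GrSoc

variable {R : Type u} [CommRing R] (𝒜 : ℤ → AddSubgroup R) [GradedRing 𝒜]
  (hpos : ∀ n : ℤ, n < 0 → 𝒜 n = ⊥) (h0 : IsField (deg0 𝒜))
  (m : HomogeneousIdeal 𝒜)
  (hmsp : m.toIdeal = Ideal.span (⋃ n ∈ Set.Ioi (0 : ℤ), (𝒜 n : Set R)))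
  {H : Type u} [AddCommGroup H] [Module R H] (ℋ : ℤ → AddSubgroup H)
  [DirectSum.Decomposition ℋ] [SetLike.GradedSMul 𝒜 ℋ]

include hpos h0 hmsp in
/-- `c - c_0 ∈ R_+` -/
theorem sub_decompose_zero_mem (c : R) :
    c - ((DirectSum.decompose 𝒜 c 0 : 𝒜 0) : R) ∈ m.toIdeal := by
  let _ : Field (deg0 𝒜) := h0.toField
  have hirr : m.toIdeal = irr (subGr 𝒜) := hmsp
  obtain ⟨k, hk⟩ := exists_sub_mem_irr (subGr 𝒜) (subGr_eq_bot 𝒜 hpos) (subGr_zero 𝒜) c
  have h1 := decompose_zero_of_mem_irr (subGr 𝒜) (subGr_eq_bot 𝒜 hpos) hk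
  rw [coe_decompose_subGr, DirectSum.decompose_sub, DirectSum.sub_apply, AddSubgroupClass.coe_sub,
    sub_eq_zero] at h1
  have h2 : ((DirectSum.decompose 𝒜 (algebraMap (deg0 𝒜) R k) 0 : 𝒜 0) : R) =
      algebraMap (deg0 𝒜) R k := DirectSum.decompose_of_mem_same 𝒜 k.2
  rw [h1, h2, hirr]
  exact hk

include hpos h0 hmsp in
/-- elements of `R_+` have no degree zero component -/
theorem decompose_zero_of_mem_toIdeal {r : R} (hr : r ∈ m.toIdeal) :
    ((DirectSum.decompose 𝒜 r 0 : 𝒜 0) : R) = 0 := by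
  let _ : Field (deg0 𝒜) := h0.toField
  have hirr : m.toIdeal = irr (subGr 𝒜) := hmsp
  rw [hirr] at hr
  have h1 := decompose_zero_of_mem_irr (subGr 𝒜) (subGr_eq_bot 𝒜 hpos) hr
  rwa [coe_decompose_subGr] at h1

/-- the components of a socle element are socle elements -/
theorem smul_decompose_eq_zero {y : H} (hy : ∀ r ∈ m.toIdeal, r • y = 0) (j : ℤ) :
    ∀ r ∈ m.toIdeal, r • ((DirectSum.decompose ℋ y j : ℋ j) : H) = 0 := by
  classical
  intro r hr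
  rw [← DirectSum.sum_support_decompose 𝒜 r, Finset.sum_smul]
  apply Finset.sum_eq_zero
  intro c _
  have hrc : ((DirectSum.decompose 𝒜 r c : 𝒜 c) : R) ∈ m.toIdeal := m.isHomogeneous c hr
  have h1 := hy _ hrc
  have h2 := decompose_smul_apply 𝒜 ℋ (SetLike.coe_mem (DirectSum.decompose 𝒜 r c)) y (j + c)
  rw [h1, DirectSum.decompose_zero, DirectSum.zero_apply, ZeroMemClass.coe_zero] at h2
  have h3 : j + c - c = j := by ring
  rw [Groth.Agent.Lib.helper19.GrMod.coe_decompose_congr ℋ y h3] at h2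
  exact h2.symm

include hpos h0 hmsp in
/-- on socle elements a scalar acts through its degree zero component -/
theorem smul_eq_decompose_zero_smul {y : H} (hy : ∀ r ∈ m.toIdeal, r • y = 0) (c : R) :
    c • y = ((DirectSum.decompose 𝒜 c 0 : 𝒜 0) : R) • y := by
  have h1 := hy _ (sub_decompose_zero_mem 𝒜 hpos h0 m hmsp c)
  rw [sub_smul, sub_eq_zero] at h1
  exact h1

include hpos h0 hmsp in
/-- **a simple socle is spanned by a homogeneous element** -/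
theorem exists_homogeneous_of_simpleSoc (hS : SimpleSoc m.toIdeal H) :
    ∃ (j : ℤ) (s : H), s ∈ ℋ j ∧ s ≠ 0 ∧ (∀ r ∈ m.toIdeal, r • s = 0) ∧
      ∀ y : H, (∀ r ∈ m.toIdeal, r • y = 0) → ∃ c : R, c ∈ 𝒜 0 ∧ y = c • s := by
  classical
  obtain ⟨s₀, hs₀, hsoc, hgen⟩ := hS
  have hex : ∃ j : ℤ, ((DirectSum.decompose ℋ s₀ j : ℋ j) : H) ≠ 0 := by
    by_contra hcon
    push Not at hcon
    apply hs₀
    rw [← DirectSum.sum_support_decompose ℋ s₀]
    exact Finset.sum_eq_zero (fun g _ => hcon g)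
  obtain ⟨j, hj⟩ := hex
  set s : H := ((DirectSum.decompose ℋ s₀ j : ℋ j) : H) with hs
  have hssoc : ∀ r ∈ m.toIdeal, r • s = 0 := smul_decompose_eq_zero 𝒜 m ℋ hsoc j
  obtain ⟨c, hc⟩ := hgen s hssoc
  rw [smul_eq_decompose_zero_smul 𝒜 hpos h0 m hmsp hsoc c] at hc
  set c₀ : deg0 𝒜 := ⟨((DirectSum.decompose 𝒜 c 0 : 𝒜 0) : R), (DirectSum.decompose 𝒜 c 0).2⟩
    with hc₀
  have hc0 : c₀ ≠ 0 := by
    intro h
    apply hj
    have h' : ((DirectSum.decompose 𝒜 c 0 : 𝒜 0) : R) = 0 := congrArg Subtype.val h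
    rw [hc, h', zero_smul]
  obtain ⟨u, hu⟩ := h0.mul_inv_cancel hc0
  have hs₀eq : s₀ = (u : R) • s := by
    have h1 : ((c₀ * u : deg0 𝒜) : R) = 1 := by rw [hu]; rfl
    rw [hc, smul_smul, mul_comm]
    have h2 : ((DirectSum.decompose 𝒜 c 0 : 𝒜 0) : R) * (u : R) = 1 := h1
    rw [h2, one_smul]
  refine ⟨j, s, SetLike.coe_mem _, hj, hssoc, fun y hy => ?_⟩
  obtain ⟨c', hc'⟩ := hgen y hy
  rw [smul_eq_decompose_zero_smul 𝒜 hpos h0 m hmsp hsoc c', hs₀eq, smul_smul] at hc'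
  refine ⟨((DirectSum.decompose 𝒜 c' 0 : 𝒜 0) : R) * (u : R), ?_, hc'⟩
  have := SetLike.GradedMul.mul_mem (A := 𝒜) (DirectSum.decompose 𝒜 c' 0).2 u.2
  rwa [zero_add] at this

include hpos h0 hmsp in
/-- the top piece lies in the socle -/
theorem smul_eq_zero_of_mem_top {a : ℤ} (htop : ∀ j : ℤ, a < j → ℋ j = ⊥) {y : H} (hy : y ∈ ℋ a) :
    ∀ r ∈ m.toIdeal, r • y = 0 := by
  classical
  intro r hr
  rw [← DirectSum.sum_support_decompose 𝒜 r, Finset.sum_smul]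
  apply Finset.sum_eq_zero
  intro c _
  rcases lt_trichotomy c 0 with hc | hc | hc
  · have h' : ∀ z ∈ 𝒜 c, z = 0 := by
      intro z hz
      rwa [hpos c hc, AddSubgroup.mem_bot] at hz
    rw [h' _ (SetLike.coe_mem _), zero_smul]
  · subst hc
    rw [decompose_zero_of_mem_toIdeal 𝒜 hpos h0 m hmsp hr, zero_smul]
  · have h1 := smul_mem_add 𝒜 ℋ (SetLike.coe_mem (DirectSum.decompose 𝒜 r c)) hy
    rw [htop (c + a) (by omega), AddSubgroup.mem_bot] at h1
    exact h1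

include hpos h0 hmsp in
/-- **the socle degree is the end** -/
theorem exists_top_of_simpleSoc (hS : SimpleSoc m.toIdeal H) (a : ℤ)
    (ha : endDeg ℋ = ((a : WithTop ℤ) : WithBot (WithTop ℤ))) :
    ∃ s : H, s ∈ ℋ a ∧ s ≠ 0 ∧ (∀ r ∈ m.toIdeal, r • s = 0) ∧
      ∀ y : H, (∀ r ∈ m.toIdeal, r • y = 0) → ∃ c : R, c ∈ 𝒜 0 ∧ y = c • s := by
  classical
  obtain ⟨j, s, hsj, hs0, hssoc, hgen⟩ := exists_homogeneous_of_simpleSoc 𝒜 hpos h0 m hmsp ℋ hS
  have htop : ∀ i : ℤ, a < i → ℋ i = ⊥ := by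
    intro i hi
    by_contra hne
    have h1 := Groth.Agent.Lib.helper19.GrLes.le_endDeg ℋ hne
    rw [ha, WithBot.coe_le_coe, WithTop.coe_le_coe] at h1
    omega
  have hane : ℋ a ≠ ⊥ := piece_ne_bot_of_endDeg_eq ℋ a ha
  obtain ⟨y, hya, hy0⟩ : ∃ y ∈ ℋ a, y ≠ 0 := by
    by_contra hcon
    push Not at hcon
    apply hane
    rw [eq_bot_iff]
    intro y hy
    rw [AddSubgroup.mem_bot]
    exact hcon y hy
  obtain ⟨c, hc0, hc⟩ := hgen y (smul_eq_zero_of_mem_top 𝒜 hpos h0 m hmsp ℋ htop hya)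
  have hyj : y ∈ ℋ j := by
    rw [hc]
    have := smul_mem_add 𝒜 ℋ hc0 hsj
    rwa [zero_add] at this
  have haj : a = j := by
    by_contra hne
    apply hy0
    have h1 := DirectSum.decompose_of_mem_ne ℋ hya hne
    have h2 := DirectSum.decompose_of_mem_same ℋ hyj
    rw [h2] at h1
    exact h1
  subst haj
  exact ⟨s, hsj, hs0, hssoc, hgen⟩

end GrSoc

section Pair

open Groth.Agent.Lib.helper19.GrLes

variable {R : Type u} [CommRing R] [IsNoetherianRing R] (𝒜 : ℤ → AddSubgroup R) [GradedRing 𝒜]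
  (hpos : ∀ n : ℤ, n < 0 → 𝒜 n = ⊥) (h0 : IsField (deg0 𝒜))
  (m : HomogeneousIdeal 𝒜)
  (hmsp : m.toIdeal = Ideal.span (⋃ n ∈ Set.Ioi (0 : ℤ), (𝒜 n : Set R)))

/-- the decomposition of graded local cohomology into its pieces -/
@[reducible] noncomputable def hgrDecomposition {M : Type u} [AddCommGroup M] [Module R M]
    {ℳ : ℤ → AddSubgroup M} [DirectSum.Decomposition ℳ] [SetLike.GradedSMul 𝒜 ℳ]
    (E : StarInjRes 𝒜 ℳ) (a : HomogeneousIdeal 𝒜) (i : ℕ) : DirectSum.Decomposition (E.Hgr a i) :=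
  (Groth.Agent.S13225.result R 𝒜 a M ℳ E i).chooseDecomposition

theorem hgr_gradedSMul {M : Type u} [AddCommGroup M] [Module R M]
    {ℳ : ℤ → AddSubgroup M} [DirectSum.Decomposition ℳ] [SetLike.GradedSMul 𝒜 ℳ]
    (E : StarInjRes 𝒜 ℳ) (a : HomogeneousIdeal 𝒜) (i : ℕ) : SetLike.GradedSMul 𝒜 (E.Hgr a i) :=
  ⟨fun {_ _ _ _} hx hy => by
    have := smul_mem_Hgr E a i hx hy
    rwa [← vadd_eq_add] at this⟩

include hpos h0 hmsp in
/-- `R_{a-j} × H_j → H_a` is nondegenerate on the right when the socle is simple -/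
theorem exists_smul_ne_zero_of_simpleSoc (I : StarInjRes 𝒜 𝒜) (n : ℕ)
    (hS : SimpleSoc m.toIdeal (I.H m n)) (a : ℤ)
    (ha : endDeg (I.Hgr m n) = ((a : WithTop ℤ) : WithBot (WithTop ℤ))) {j : ℤ} {h : I.H m n}
    (hh : h ∈ I.Hgr m n j) (hne : h ≠ 0) : ∃ r ∈ 𝒜 (a - j), r • h ≠ 0 := by
  classical
  let _ : DirectSum.Decomposition (I.Hgr m n) := hgrDecomposition 𝒜 I m n
  let _ : SetLike.GradedSMul 𝒜 (I.Hgr m n) := hgr_gradedSMul 𝒜 I m n
  obtain ⟨s, hsa, hs0, hssoc, hgen⟩ :=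
    exists_top_of_simpleSoc 𝒜 hpos h0 m hmsp (I.Hgr m n) hS a ha
  obtain ⟨r, hrh, hsocrh⟩ := exists_smul_mem_soc 𝒜 I m n h hne
  obtain ⟨c, hc0, hc⟩ := hgen (r • h) hsocrh
  have hmem : r • h ∈ I.Hgr m n a := by
    rw [hc]
    have := smul_mem_add 𝒜 (I.Hgr m n) hc0 hsa
    rwa [zero_add] at this
  have h1 := decompose_smul_apply' 𝒜 (I.Hgr m n) r hh a
  rw [DirectSum.decompose_of_mem_same (I.Hgr m n) hmem] at h1
  exact ⟨_, SetLike.coe_mem _, by rw [← h1]; exact hrh⟩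

omit [IsNoetherianRing R] in
include hpos h0 hmsp in
/-- `R_i × H_{a-i} → H_a` is nondegenerate on the left (`R` Cohen–Macaulay with simple socle) -/
theorem exists_smul_ne_zero_of_simpleSoc' [LocCoh.IsCohenMacaulayRing R] (n : ℕ)
    (hn : ringKrullDim R = n) (I : StarInjRes 𝒜 𝒜)
    (hS : SimpleSoc m.toIdeal (I.H m n)) (a : ℤ)
    (ha : endDeg (I.Hgr m n) = ((a : WithTop ℤ) : WithBot (WithTop ℤ))) {i : ℤ} {r : R}
    (hr : r ∈ 𝒜 i) (hne : r ≠ 0) : ∃ h ∈ I.Hgr m n (a - i), r • h ≠ 0 := by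
  classical
  let _ : DirectSum.Decomposition (I.Hgr m n) := hgrDecomposition 𝒜 I m n
  let _ : SetLike.GradedSMul 𝒜 (I.Hgr m n) := hgr_gradedSMul 𝒜 I m n
  obtain ⟨h', hh'⟩ := exists_smul_ne_zero 𝒜 hpos h0 m hmsp n hn I hne
  have hex : ∃ g : ℤ, r • ((DirectSum.decompose (I.Hgr m n) h' g : I.Hgr m n g) : I.H m n) ≠ 0 := by
    by_contra hcon
    push Not at hcon
    apply hh'
    rw [← DirectSum.sum_support_decompose (I.Hgr m n) h', Finset.smul_sum]
    exact Finset.sum_eq_zero (fun g _ => hcon g)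
  obtain ⟨g, hg⟩ := hex
  have hmem : r • ((DirectSum.decompose (I.Hgr m n) h' g : I.Hgr m n g) : I.H m n) ∈
      I.Hgr m n (i + g) := smul_mem_add 𝒜 (I.Hgr m n) hr (SetLike.coe_mem _)
  obtain ⟨r', hr', hne'⟩ := exists_smul_ne_zero_of_simpleSoc 𝒜 hpos h0 m hmsp I n hS a ha hmem hg
  refine ⟨r' • ((DirectSum.decompose (I.Hgr m n) h' g : I.Hgr m n g) : I.H m n), ?_, ?_⟩
  · have h1 := smul_mem_add 𝒜 (I.Hgr m n) hr' (SetLike.coe_mem (DirectSum.decompose (I.Hgr m n) h' g))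
    have e : a - (i + g) + g = a - i := by ring
    rwa [e] at h1
  · rw [smul_comm]
    exact hne'

end Pair

end Groth.Agent.Lib.helper26.GorS
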