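import Mathlib
import Groth.Prelude.Def_GrLC
import Groth.Prelude.Def_GrSeg
import Groth.Agent.Lib.Helper26.Kun1

/-!
# Segre products: separation of tensors by the action of `T` (helper26)

* `eq_zero_of_forall_map` : a tensor `z ∈ V ⊗ W` killed by all `f a ⊗ g b`, for jointly injective
  families `f`, `g`, vanishes.
* `eq_zero_of_forall_act` : an element of `X_j ⊗ Y_j` killed by `T_e` vanishes, when `R_e` and `S_e`
  separate the elements of `X_j` and `Y_j`.
-/

set_option autoImplicit false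
set_option linter.unusedSectionVars false
set_option linter.dupNamespace false
universe u
open scoped TensorProduct

namespace Groth.Agent.Lib.helper26.GorSeg

open GrLC Groth.Agent.Lib.helper26.Kun

section LinAlg

variable {k : Type u} [Field k] {V V' W W' : Type u} [AddCommGroup V] [Module k V]
  [AddCommGroup V'] [Module k V'] [AddCommGroup W] [Module k W] [AddCommGroup W'] [Module k W']

theorem eq_zero_of_forall_map_left {A : Type u} (f : A → V →ₗ[k] V')
    (hf : ∀ v : V, (∀ a, f a v = 0) → v = 0) (z : V ⊗[k] W)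
    (hz : ∀ a, TensorProduct.map (f a) (LinearMap.id : W →ₗ[k] W) z = 0) : z = 0 := by
  classical
  let 𝒞 := Module.Free.chooseBasis k W
  have key : ∀ (a : A) (z : V ⊗[k] W) (i : Module.Free.ChooseBasisIndex k W),
      TensorProduct.equivFinsuppOfBasisRight 𝒞
        (TensorProduct.map (f a) (LinearMap.id : W →ₗ[k] W) z) i =
      f a (TensorProduct.equivFinsuppOfBasisRight 𝒞 z i) := by
    intro a z i
    induction z using TensorProduct.induction_on with
    | zero => simp
    | tmul m n =>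
      rw [TensorProduct.map_tmul, LinearMap.id_apply,
        TensorProduct.equivFinsuppOfBasisRight_apply_tmul_apply,
        TensorProduct.equivFinsuppOfBasisRight_apply_tmul_apply, map_smul]
    | add z z' h h' =>
      rw [map_add, map_add, Finsupp.add_apply, h, h', map_add, Finsupp.add_apply, map_add]
  apply (TensorProduct.equivFinsuppOfBasisRight 𝒞).injective
  rw [map_zero]
  ext i
  rw [Finsupp.zero_apply]
  apply hf
  intro a
  rw [← key a z i, hz a, map_zero, Finsupp.zero_apply]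

theorem eq_zero_of_forall_map_right {B : Type u} (g : B → W →ₗ[k] W')
    (hg : ∀ w : W, (∀ b, g b w = 0) → w = 0) (z : V ⊗[k] W)
    (hz : ∀ b, TensorProduct.map (LinearMap.id : V →ₗ[k] V) (g b) z = 0) : z = 0 := by
  classical
  let 𝒞 := Module.Free.chooseBasis k V
  have key : ∀ (b : B) (z : V ⊗[k] W) (i : Module.Free.ChooseBasisIndex k V),
      TensorProduct.equivFinsuppOfBasisLeft 𝒞
        (TensorProduct.map (LinearMap.id : V →ₗ[k] V) (g b) z) i =
      g b (TensorProduct.equivFinsuppOfBasisLeft 𝒞 z i) := by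
    intro b z i
    induction z using TensorProduct.induction_on with
    | zero => simp
    | tmul m n =>
      rw [TensorProduct.map_tmul, LinearMap.id_apply,
        TensorProduct.equivFinsuppOfBasisLeft_apply_tmul_apply,
        TensorProduct.equivFinsuppOfBasisLeft_apply_tmul_apply, map_smul]
    | add z z' h h' =>
      rw [map_add, map_add, Finsupp.add_apply, h, h', map_add, Finsupp.add_apply, map_add]
  apply (TensorProduct.equivFinsuppOfBasisLeft 𝒞).injective
  rw [map_zero]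
  ext i
  rw [Finsupp.zero_apply]
  apply hg
  intro b
  rw [← key b z i, hz b, map_zero, Finsupp.zero_apply]

/-- a tensor killed by all `f a ⊗ g b`, for jointly injective families `f`, `g`, vanishes -/
theorem eq_zero_of_forall_map {A B : Type u} (f : A → V →ₗ[k] V') (g : B → W →ₗ[k] W')
    (hf : ∀ v : V, (∀ a, f a v = 0) → v = 0) (hg : ∀ w : W, (∀ b, g b w = 0) → w = 0)
    (z : V ⊗[k] W) (hz : ∀ a b, TensorProduct.map (f a) (g b) z = 0) : z = 0 := by
  apply eq_zero_of_forall_map_right g hg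
  intro b
  apply eq_zero_of_forall_map_left f hf
  intro a
  rw [← LinearMap.comp_apply, ← TensorProduct.map_comp, LinearMap.comp_id, LinearMap.id_comp]
  exact hz a b

end LinAlg

section Piece

variable {k : Type u} [Field k] {R : Type u} [CommRing R] [Algebra k R]
  (𝒜 : ℤ → Submodule k R) [GradedAlgebra 𝒜]
  {X : Type u} [AddCommGroup X] [Module R X] [Module k X] [IsScalarTower k R X]
  (𝒳 : ℤ → AddSubgroup X) [SetLike.GradedSMul 𝒜 𝒳]

/-- the pieces of a graded module as `k`-subspaces (no decomposition required) -/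
def pcK (j : ℤ) : Submodule k X where
  carrier := {x | x ∈ 𝒳 j}
  zero_mem' := (𝒳 j).zero_mem
  add_mem' := fun hx hy => (𝒳 j).add_mem hx hy
  smul_mem' := fun c x hx => by
    show c • x ∈ 𝒳 j
    rw [← algebraMap_smul R c x]
    have := SetLike.GradedSMul.smul_mem (A := 𝒜) (B := 𝒳) (SetLike.algebraMap_mem_graded 𝒜 c) hx
    rwa [vadd_eq_add, zero_add] at this

theorem mem_pcK {j : ℤ} {x : X} : x ∈ pcK 𝒜 𝒳 j ↔ x ∈ 𝒳 j := Iff.rfl

end Piece

section Span

variable {k : Type u} [Field k] {X Y : Type u} [AddCommGroup X] [Module k X]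
  [AddCommGroup Y] [Module k Y]

theorem span_tmul_eq_range (A : Submodule k X) (B : Submodule k Y) :
    Submodule.span k {z : X ⊗[k] Y | ∃ a ∈ A, ∃ b ∈ B, z = a ⊗ₜ[k] b} =
      LinearMap.range (TensorProduct.map A.subtype B.subtype) := by
  apply le_antisymm
  · rw [Submodule.span_le]
    rintro z ⟨a, ha, b, hb, rfl⟩
    exact ⟨(⟨a, ha⟩ : A) ⊗ₜ[k] (⟨b, hb⟩ : B), rfl⟩
  · rintro _ ⟨w, rfl⟩
    induction w using TensorProduct.induction_on with
    | zero => rw [map_zero]; exact zero_mem _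
    | tmul a b => exact Submodule.subset_span ⟨a.1, a.2, b.1, b.2, rfl⟩
    | add w w' h h' => rw [map_add]; exact add_mem h h'

end Span

section Act

variable {k : Type u} [Field k] {R : Type u} [CommRing R] [Algebra k R]
  (𝒜 : ℤ → Submodule k R) [GradedAlgebra 𝒜]
  {S : Type u} [CommRing S] [Algebra k S] (ℬ : ℤ → Submodule k S) [GradedAlgebra ℬ]
  {T : Type u} [CommRing T] [Algebra k T] (𝒯 : ℤ → Submodule k T) [GradedAlgebra 𝒯]
  (ψ : T →ₐ[k] R ⊗[k] S) (hT : GrSeg.IsSegreRing 𝒜 ℬ 𝒯 ψ)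
  {X : Type u} [AddCommGroup X] [Module R X] [Module k X] [IsScalarTower k R X]
  (𝒳 : ℤ → AddSubgroup X) [SetLike.GradedSMul 𝒜 𝒳]
  {Y : Type u} [AddCommGroup Y] [Module S Y] [Module k Y] [IsScalarTower k S Y]
  (𝒴 : ℤ → AddSubgroup Y) [SetLike.GradedSMul ℬ 𝒴]

theorem act_tmul_eq_map (r : R) (s : S) (w : X ⊗[k] Y) :
    GrSeg.act k R S X Y (r ⊗ₜ[k] s) w =
      TensorProduct.map (Algebra.lsmul k k X r) (Algebra.lsmul k k Y s) w := by
  induction w using TensorProduct.induction_on with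
  | zero => rw [map_zero, map_zero]
  | tmul x y => rw [GrSeg.act_tmul, TensorProduct.map_tmul]; rfl
  | add w w' h h' => rw [map_add, map_add, h, h']

include hT in
/-- **separation**: an element of `X_j ⊗ Y_j` killed by `T_e` vanishes, when `R_e`, `S_e` separate
the elements of `X_j`, `Y_j` -/
theorem eq_zero_of_forall_act (j e : ℤ)
    (hX : ∀ x ∈ 𝒳 j, x ≠ 0 → ∃ r ∈ 𝒜 e, r • x ≠ 0)
    (hY : ∀ y ∈ 𝒴 j, y ≠ 0 → ∃ s ∈ ℬ e, s • y ≠ 0)
    (w : X ⊗[k] Y) (hw : w ∈ GrSeg.segrePiece k 𝒳 𝒴 j)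
    (hkill : ∀ t ∈ 𝒯 e, GrSeg.act k R S X Y (ψ t) w = 0) : w = 0 := by
  have hw' : w ∈ Submodule.span k {z : X ⊗[k] Y | ∃ a ∈ pcK 𝒜 𝒳 j, ∃ b ∈ pcK ℬ 𝒴 j,
      z = a ⊗ₜ[k] b} := hw
  rw [span_tmul_eq_range] at hw'
  obtain ⟨z, rfl⟩ := hw'
  have hz : z = 0 := by
    refine eq_zero_of_forall_map
      (fun r : ↥(𝒜 e) => (Algebra.lsmul k k X (r : R)).comp (pcK 𝒜 𝒳 j).subtype)
      (fun s : ↥(ℬ e) => (Algebra.lsmul k k Y (s : S)).comp (pcK ℬ 𝒴 j).subtype) ?_ ?_ z ?_
    · intro v hv
      by_contra hne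
      have hne' : (v : X) ≠ 0 := fun h => hne (Subtype.ext h)
      obtain ⟨r, hr, hrv⟩ := hX v.1 v.2 hne'
      exact hrv (hv ⟨r, hr⟩)
    · intro v hv
      by_contra hne
      have hne' : (v : Y) ≠ 0 := fun h => hne (Subtype.ext h)
      obtain ⟨s, hs, hsv⟩ := hY v.1 v.2 hne'
      exact hsv (hv ⟨s, hs⟩)
    · intro r s
      have h1 : (r : R) ⊗ₜ[k] (s : S) ∈ GrSeg.segrePiece k 𝒜 ℬ e :=
        Submodule.subset_span ⟨r.1, r.2, s.1, s.2, rfl⟩
      rw [← hT.2 e] at h1
      obtain ⟨t, ht, htψ⟩ := h1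
      have htψ' : ψ t = (r : R) ⊗ₜ[k] (s : S) := htψ
      have h2 := hkill t ht
      rw [htψ', act_tmul_eq_map, ← LinearMap.comp_apply, ← TensorProduct.map_comp] at h2
      exact h2
  rw [hz, map_zero]

end Act

end Groth.Agent.Lib.helper26.GorSeg
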