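import Mathlib
import Groth.Prelude.Def_GrLC
import Groth.Prelude.Def_GrSeg
import Groth.Agent.Lib.Helper26.GorS6
import Groth.Agent.Lib.Helper26.GorSeg1

/-!
# The socle of a Segre product of graded modules (helper26)

`H` a graded `T`-module presented as the Segre product `X # Y`.  If `R_{b-j}`, `S_{b-j}` separate
the elements of `X_j`, `Y_j` for `j < b` and `X_j # Y_j = 0` for `j > b`, the socle of `H` is `H_b`.
-/

set_option autoImplicit false
set_option linter.unusedSectionVars false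
set_option linter.dupNamespace false
universe u
open scoped TensorProduct

namespace Groth.Agent.Lib.helper26.GorSeg

open GrLC Groth.Agent.Lib.helper26.Kun Groth.Agent.Lib.helper19.GrConv
  Groth.Agent.Lib.helper26.GorS Groth.Agent.Lib.helper26.Seg

section Soc

variable {k : Type u} [Field k] {R : Type u} [CommRing R] [Algebra k R]
  (𝒜 : ℤ → Submodule k R) [GradedAlgebra 𝒜]
  {S : Type u} [CommRing S] [Algebra k S] (ℬ : ℤ → Submodule k S) [GradedAlgebra ℬ]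
  {T : Type u} [CommRing T] [Algebra k T] (𝒯 : ℤ → Submodule k T) [GradedAlgebra 𝒯]
  (ψ : T →ₐ[k] R ⊗[k] S) (hT : GrSeg.IsSegreRing 𝒜 ℬ 𝒯 ψ)
  {X : Type u} [AddCommGroup X] [Module R X] [Module k X] [IsScalarTower k R X]
  (𝒳 : ℤ → AddSubgroup X) [SetLike.GradedSMul 𝒜 𝒳]
  {Y : Type u} [AddCommGroup Y] [Module S Y] [Module k Y] [IsScalarTower k S Y]
  (𝒴 : ℤ → AddSubgroup Y) [SetLike.GradedSMul ℬ 𝒴]
  (hposT : ∀ n : ℤ, n < 0 → addGr 𝒯 n = ⊥) (h0T : IsField (deg0 (addGr 𝒯)))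
  (mT : HomogeneousIdeal 𝒯) (hmT : mT.toIdeal = irr 𝒯)
  {H : Type u} [AddCommGroup H] [Module T H] (ℋ : ℤ → AddSubgroup H)
  [DirectSum.Decomposition ℋ] [SetLike.GradedSMul (addGr 𝒯) ℋ]
  (Φ : H →ₗ[T] SW ψ X Y) (hΦi : Function.Injective Φ)
  (hΦd : ∀ d : ℤ, (fun x => SW.val ψ (Φ x)) '' (ℋ d : Set H) =
    (GrSeg.segrePiece k 𝒳 𝒴 d : Set (X ⊗[k] Y)))
  (b : ℤ)
  (hX : ∀ j : ℤ, j < b → ∀ x ∈ 𝒳 j, x ≠ 0 → ∃ r ∈ 𝒜 (b - j), r • x ≠ 0)
  (hY : ∀ j : ℤ, j < b → ∀ y ∈ 𝒴 j, y ≠ 0 → ∃ s ∈ ℬ (b - j), s • y ≠ 0)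
  (htop : ∀ j : ℤ, b < j → 𝒳 j = ⊥ ∨ 𝒴 j = ⊥)

include hΦi hΦd htop in
theorem piece_eq_bot_of_lt (j : ℤ) (hj : b < j) : ℋ j = ⊥ := by
  rw [eq_bot_iff]
  intro x hx
  rw [AddSubgroup.mem_bot]
  have h1 : SW.val ψ (Φ x) ∈ (GrSeg.segrePiece k 𝒳 𝒴 j : Set (X ⊗[k] Y)) := by
    rw [← hΦd j]
    exact ⟨x, hx, rfl⟩
  have h2 : GrSeg.segrePiece k 𝒳 𝒴 j = ⊥ := by
    unfold GrSeg.segrePiece
    rw [Submodule.span_eq_bot]
    rintro z ⟨a, ha, c, hc, rfl⟩
    rcases htop j hj with h | h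
    · rw [h, AddSubgroup.mem_bot] at ha
      rw [ha, TensorProduct.zero_tmul]
    · rw [h, AddSubgroup.mem_bot] at hc
      rw [hc, TensorProduct.tmul_zero]
  rw [h2] at h1
  have h3 : SW.val ψ (Φ x) = 0 := (Submodule.mem_bot k).1 h1
  apply hΦi
  rw [map_zero]
  exact SW.ext ψ h3

include hT hposT h0T hmT hΦi hΦd hX hY htop in
/-- **the socle of a Segre product** -/
theorem soc_iff_mem_top (h : H) : (∀ t ∈ mT.toIdeal, t • h = 0) ↔ h ∈ ℋ b := by
  classical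
  have hmsp : (idealAdd 𝒯 mT).toIdeal =
      Ideal.span (⋃ n ∈ Set.Ioi (0 : ℤ), (addGr 𝒯 n : Set T)) := hmT
  have htop' := piece_eq_bot_of_lt ψ 𝒳 𝒴 ℋ Φ hΦi hΦd b htop
  constructor
  · intro hsoc
    have hcomp : ∀ j : ℤ, j ≠ b → ((DirectSum.decompose ℋ h j : ℋ j) : H) = 0 := by
      intro j hjb
      rcases lt_or_gt_of_ne hjb with hj | hj
      · -- below the top
        have hsocj : ∀ t ∈ (idealAdd 𝒯 mT).toIdeal,
            t • ((DirectSum.decompose ℋ h j : ℋ j) : H) = 0 :=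
          smul_decompose_eq_zero (addGr 𝒯) (idealAdd 𝒯 mT) ℋ hsoc j
        have hw : SW.val ψ (Φ ((DirectSum.decompose ℋ h j : ℋ j) : H)) ∈
            GrSeg.segrePiece k 𝒳 𝒴 j := by
          have : SW.val ψ (Φ ((DirectSum.decompose ℋ h j : ℋ j) : H)) ∈
              (GrSeg.segrePiece k 𝒳 𝒴 j : Set (X ⊗[k] Y)) := by
            rw [← hΦd j]
            exact ⟨_, SetLike.coe_mem _, rfl⟩
          exact this
        have h0 := eq_zero_of_forall_act 𝒜 ℬ 𝒯 ψ hT 𝒳 𝒴 j (b - j) (hX j hj) (hY j hj) _ hw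
          (fun t ht => by
            have htm : t ∈ (idealAdd 𝒯 mT).toIdeal := by
              rw [hmsp]
              exact Ideal.subset_span (Set.mem_biUnion (Set.mem_Ioi.mpr (by omega)) ht)
            rw [← SW.val_smul, ← map_smul, hsocj t htm, map_zero]
            rfl)
        apply hΦi
        rw [map_zero]
        exact SW.ext ψ h0
      · have h1 : ((DirectSum.decompose ℋ h j : ℋ j) : H) ∈ ℋ j := SetLike.coe_mem _
        generalize ((DirectSum.decompose ℋ h j : ℋ j) : H) = y at h1 ⊢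
        rw [htop' j hj, AddSubgroup.mem_bot] at h1
        exact h1
    have hsum : h = ((DirectSum.decompose ℋ h b : ℋ b) : H) := by
      conv_lhs => rw [← DirectSum.sum_support_decompose ℋ h]
      apply Finset.sum_eq_single b
      · intro j _ hjb
        exact hcomp j hjb
      · intro hb
        rw [DFinsupp.notMem_support_iff] at hb
        rw [hb]
        rfl
    rw [hsum]
    exact SetLike.coe_mem _
  · intro hb
    exact smul_eq_zero_of_mem_top (addGr 𝒯) hposT h0T (idealAdd 𝒯 mT) hmsp ℋ htop' hb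

end Soc

end Groth.Agent.Lib.helper26.GorSeg
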