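import Mathlib
import Groth.Prelude.Def_GrLC
import Groth.Prelude.Def_GrSeg
import Groth.Agent.Lib.Helper26.KunP

/-!
# The top local cohomology of a Segre product (helper26)

`H^{r+s-1}_{T₊}(M # N)_d ≅ H^r_{R₊}(M)_d ⊗ H^s_{S₊}(N)_d` when the local cohomology of `M`, `N`
vanishes above `r ≥ 2`, `s ≥ 2`; no depth hypotheses.  Stated as an equality of dimensions.
-/

set_option autoImplicit false
set_option linter.unusedSectionVars false
set_option linter.dupNamespace false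
universe u
open scoped TensorProduct

namespace Groth.Agent.Lib.helper26.Kun

open GrLC Groth.Agent.Lib.helper19.GrConv Groth.Agent.Lib.helper19.GrMod
  Groth.Agent.Lib.helper26.Seg Groth.Agent.Lib.helper26.GrCM Groth.Agent.Lib.helper26.Acyc

attribute [local instance] gsmulAdd

/-- a finite product of modules all but one of which are trivial -/
theorem finrank_pi_of_subsingleton {k : Type u} [Field k] {ι : Type} [Fintype ι] [DecidableEq ι]
    (V : ι → Type u) [∀ i, AddCommGroup (V i)] [∀ i, Module k (V i)] (i₀ : ι)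
    (h : ∀ i, i ≠ i₀ → Subsingleton (V i)) :
    Module.finrank k (∀ i, V i) = Module.finrank k (V i₀) := by
  have hinj : Function.Injective (LinearMap.proj (R := k) (φ := V) i₀) := by
    rw [injective_iff_map_eq_zero]
    intro x hx
    funext i
    by_cases hi : i = i₀
    · subst hi
      exact hx
    · have := h i hi
      exact Subsingleton.elim _ _
  have hsurj : Function.Surjective (LinearMap.proj (R := k) (φ := V) i₀) := by
    intro y
    exact ⟨Pi.single i₀ y, Pi.single_eq_same i₀ y⟩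
  exact (LinearEquiv.ofBijective _ ⟨hinj, hsurj⟩).finrank_eq

/-- a tensor product with a trivial left factor is trivial -/
theorem subsingleton_tensor_left {k : Type u} [Field k] (V W : Type u) [AddCommGroup V] [Module k V]
    [AddCommGroup W] [Module k W] [Subsingleton V] : Subsingleton (V ⊗[k] W) := by
  refine ⟨fun a b => ?_⟩
  have h0 : ∀ x : V ⊗[k] W, x = 0 := by
    intro x
    induction x using TensorProduct.induction_on with
    | zero => rfl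
    | tmul v w => rw [Subsingleton.elim v 0, TensorProduct.zero_tmul]
    | add x y hx hy => rw [hx, hy, add_zero]
  rw [h0 a, h0 b]

/-- a tensor product with a trivial right factor is trivial -/
theorem subsingleton_tensor_right {k : Type u} [Field k] (V W : Type u) [AddCommGroup V]
    [Module k V] [AddCommGroup W] [Module k W] [Subsingleton W] : Subsingleton (V ⊗[k] W) := by
  refine ⟨fun a b => ?_⟩
  have h0 : ∀ x : V ⊗[k] W, x = 0 := by
    intro x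
    induction x using TensorProduct.induction_on with
    | zero => rfl
    | tmul v w => rw [Subsingleton.elim w 0, TensorProduct.tmul_zero]
    | add x y hx hy => rw [hx, hy, add_zero]
  rw [h0 a, h0 b]

section Top

variable {k : Type u} [Field k]
  {C : ℕ → Type u} [∀ p, AddCommGroup (C p)] [∀ p, Module k (C p)] (dC : ∀ p, C p →ₗ[k] C (p + 1))
  (C' : ∀ p, Submodule k (C p)) (hC' : ∀ p, C' p ≤ (C' (p + 1)).comap (dC p))
  {D : ℕ → Type u} [∀ q, AddCommGroup (D q)] [∀ q, Module k (D q)] (dD : ∀ q, D q →ₗ[k] D (q + 1))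
  (D' : ∀ q, Submodule k (D q)) (hD' : ∀ q, D' q ≤ (D' (q + 1)).comap (dD q))
  (hdC : ∀ p x, dC (p + 1) (dC p x) = 0) (hdD : ∀ q x, dD (q + 1) (dD q x) = 0)
  (exC : ∀ i, LinearMap.ker (dC (i + 1)) ≤ LinearMap.range (dC i))
  (exD : ∀ i, LinearMap.ker (dD (i + 1)) ≤ LinearMap.range (dD i))

include hC' hD' hdC hdD exC exD in
/-- **the top cohomology of `ker (C ⊗ D → C/C' ⊗ D/D')`** -/
theorem finrank_top (r s : ℕ) (hvC : ∀ i, r + 2 < i → Subsingleton (HS dC C' i))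
    (hvD : ∀ i, s + 2 < i → Subsingleton (HS dD D' i)) :
    Module.finrank k (Hq (ZK dC C' dD D' (r + s + 3)) (BK dC C' dD D' (r + s + 3))) =
      Module.finrank k (HS dC C' (r + 2)) * Module.finrank k (HS dD D' (s + 2)) := by
  classical
  obtain ⟨e⟩ := main_succ dC C' hC' dD D' hD' hdC hdD exC exD (r + s + 1)
  have eCs : ∀ p, Nonempty (HC (fun p => C p ⧸ C' p) (dq dC C' hC') (p + 1) ≃ₗ[k]
      HS dC C' (p + 2)) := fun p => HC_quot_succ hC' hdC exC p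
  have eDs : ∀ q, Nonempty (HC (fun q => D q ⧸ D' q) (dq dD D' hD') (q + 1) ≃ₗ[k]
      HS dD D' (q + 2)) := fun q => HC_quot_succ hD' hdD exD q
  obtain ⟨eC⟩ := eCs r
  obtain ⟨eD⟩ := eDs s
  rw [e.finrank_eq]
  have hi₀ : (r + 1, s + 1).1 + (r + 1, s + 1).2 = r + s + 1 + 1 := by
    show r + 1 + (s + 1) = r + s + 1 + 1
    omega
  rw [finrank_pi_of_subsingleton
    (fun pq : AD (r + s + 1 + 1) => TV k (HC (fun p => C p ⧸ C' p) (dq dC C' hC'))
      (HC (fun q => D q ⧸ D' q) (dq dD D' hD')) pq.1.1 pq.1.2) ⟨(r + 1, s + 1), hi₀⟩ ?_]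
  · show Module.finrank k (HC (fun p => C p ⧸ C' p) (dq dC C' hC') (r + 1) ⊗[k]
      HC (fun q => D q ⧸ D' q) (dq dD D' hD') (s + 1)) = _
    rw [Module.finrank_tensorProduct, eC.finrank_eq, eD.finrank_eq]
  · rintro ⟨⟨p, q⟩, hpq⟩ hne
    have hpq' : p + q = r + s + 1 + 1 := hpq
    by_cases hp : r + 1 < p
    · obtain ⟨p', rfl⟩ : ∃ p', p = p' + 1 := ⟨p - 1, by omega⟩
      obtain ⟨e'⟩ := eCs p'
      have h1 : Subsingleton (HS dC C' (p' + 2)) := hvC (p' + 2) (by omega)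
      have h2 : Subsingleton (HC (fun p => C p ⧸ C' p) (dq dC C' hC') (p' + 1)) :=
        e'.toEquiv.subsingleton
      exact subsingleton_tensor_left _ _
    · have hq : s + 1 < q := by
        by_contra hq
        apply hne
        apply Subtype.ext
        show (p, q) = (r + 1, s + 1)
        have h1 : p = r + 1 := by omega
        have h2 : q = s + 1 := by omega
        rw [h1, h2]
      obtain ⟨q', rfl⟩ : ∃ q', q = q' + 1 := ⟨q - 1, by omega⟩
      obtain ⟨e'⟩ := eDs q'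
      have h1 : Subsingleton (HS dD D' (q' + 2)) := hvD (q' + 2) (by omega)
      have h2 : Subsingleton (HC (fun q => D q ⧸ D' q) (dq dD D' hD') (q' + 1)) :=
        e'.toEquiv.subsingleton
      exact subsingleton_tensor_right _ _

end Top

/-- **the top local cohomology of a Segre product of modules**, degree by degree: if the local
cohomology of `M`, `N` vanishes above `r + 2`, `s + 2` then
`dim H^{r+s+3}_{T₊}(M # N)_d = dim H^{r+2}_{R₊}(M)_d · dim H^{s+2}_{S₊}(N)_d` -/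
theorem kunneth_segre_top {k : Type u} [Field k] {R : Type u} [CommRing R] [Nontrivial R]
    [Algebra k R]
    (𝒜 : ℤ → Submodule k R) [GradedAlgebra 𝒜] (hposR : ∀ n : ℤ, n < 0 → 𝒜 n = ⊥)
    (h0R : 𝒜 0 = Submodule.span k {(1 : R)}) [Algebra.FiniteType k R]
    {S : Type u} [CommRing S] [Nontrivial S] [Algebra k S] (ℬ : ℤ → Submodule k S)
    [GradedAlgebra ℬ] (hposS : ∀ n : ℤ, n < 0 → ℬ n = ⊥)
    (h0S : ℬ 0 = Submodule.span k {(1 : S)}) [Algebra.FiniteType k S]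
    {T : Type u} [CommRing T] [Algebra k T] (𝒯 : ℤ → Submodule k T) [GradedAlgebra 𝒯]
    (ψ : T →ₐ[k] R ⊗[k] S) (hT : GrSeg.IsSegreRing 𝒜 ℬ 𝒯 ψ)
    (mR : HomogeneousIdeal 𝒜) (hmR : mR.toIdeal = irr 𝒜)
    (mS : HomogeneousIdeal ℬ) (hmS : mS.toIdeal = irr ℬ)
    (mT : HomogeneousIdeal 𝒯) (hmT : mT.toIdeal = irr 𝒯)
    {M : Type u} [AddCommGroup M] [Module R M] [Module k M] [IsScalarTower k R M]
    (ℳ : ℤ → AddSubgroup M) [DirectSum.Decomposition ℳ] [SetLike.GradedSMul 𝒜 ℳ]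
    [Module.Finite R M] (EM : StarInjRes 𝒜 ℳ)
    {N : Type u} [AddCommGroup N] [Module S N] [Module k N] [IsScalarTower k S N]
    (𝒩 : ℤ → AddSubgroup N) [DirectSum.Decomposition 𝒩] [SetLike.GradedSMul ℬ 𝒩]
    [Module.Finite S N] (EN : StarInjRes ℬ 𝒩)
    {P : Type u} [AddCommGroup P] [Module T P] [Module k P] [IsScalarTower k T P]
    (𝒬 : ℤ → AddSubgroup P) [DirectSum.Decomposition 𝒬] [SetLike.GradedSMul 𝒯 𝒬]
    (φ : P →ₗ[k] M ⊗[k] N) (hP : GrSeg.IsSegreMod ψ ℳ 𝒩 𝒬 φ) (EP : StarInjRes 𝒯 𝒬)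
    (r s : ℕ) (hM : ∀ (q : ℕ) (d : ℤ), r + 2 < q → EM.Hcomp mR q d = ⊥)
    (hN : ∀ (q : ℕ) (d : ℤ), s + 2 < q → EN.Hcomp mS q d = ⊥) (d : ℤ) :
    Module.finrank (deg0 𝒯) (EP.Hcomp mT (r + s + 3) d) =
      Module.finrank (deg0 𝒜) (EM.Hcomp mR (r + 2) d) *
        Module.finrank (deg0 ℬ) (EN.Hcomp mS (s + 2) d) := by
  classical
  have hnoeR : IsNoetherianRing R := Algebra.FiniteType.isNoetherianRing k R
  have hnoeS : IsNoetherianRing S := Algebra.FiniteType.isNoetherianRing k S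
  have hnoeRS : IsNoetherianRing (R ⊗[k] S) := Algebra.FiniteType.isNoetherianRing R (R ⊗[k] S)
  have hdegT : ∀ n : ℤ, (𝒯 n).map ψ.toLinearMap =
      Submodule.span k {x : R ⊗[k] S | ∃ a ∈ 𝒜 n, ∃ b ∈ ℬ n, x = a ⊗ₜ[k] b} := hT.2
  have hFT : Algebra.FiniteType k T := finiteType_segre 𝒜 ℬ 𝒯 ψ hdegT hT.1 hposR h0R hposS h0S
  have hnoeT : IsNoetherianRing T := Algebra.FiniteType.isNoetherianRing k T
  have hNT : Nontrivial T := ψ.toRingHom.domain_nontrivial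
  have h0T : 𝒯 0 = Submodule.span k {(1 : T)} := pieceT_zero 𝒜 ℬ 𝒯 ψ hdegT hT.1 h0R h0S
  let mkM : ∀ p, Module k (EM.X p).carrier := fun p => Module.compHom _ (algebraMap k R)
  have stM : ∀ p, IsScalarTower k R (EM.X p).carrier := fun p =>
    IsScalarTower.of_algebraMap_smul fun _ _ => rfl
  let mkN : ∀ p, Module k (EN.X p).carrier := fun p => Module.compHom _ (algebraMap k S)
  have stN : ∀ p, IsScalarTower k S (EN.X p).carrier := fun p =>
    IsScalarTower.of_algebraMap_smul fun _ _ => rfl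
  -- the total resolution
  have hA := totX_isAcyc 𝒜 ℬ 𝒯 ψ hT (fun p => (EM.X p).gr) (fun q => (EN.X q).gr)
    (fun p => EM.starInj p) (fun q => EN.starInj q) mT hmT
  obtain ⟨e⟩ := acyc_Hcomp_equiv (idealAdd 𝒯 mT)
    (totRes 𝒜 ℬ 𝒯 ψ hT (fun p => (EM.X p).gr) EM.d EM.d_grHom (fun q => (EN.X q).gr) EN.d
      EN.d_grHom (E_d_d 𝒜 ℳ EM) (E_exact 𝒜 ℳ EM) (E_d_d ℬ 𝒩 EN) (E_exact ℬ 𝒩 EN)
      ℳ EM.ε EM.ε_grHom EM.ε_injective EM.exact_zero 𝒩 EN.ε EN.ε_grHom EN.ε_injective EN.exact_zero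
      𝒬 φ hP) hA (resAddG 𝒯 𝒬 EP) (r + s + 3) d
  have h1 : Module.finrank (deg0 𝒯) (EP.Hcomp mT (r + s + 3) d) =
      Module.finrank (deg0 (addGr 𝒯))
        ((totRes 𝒜 ℬ 𝒯 ψ hT (fun p => (EM.X p).gr) EM.d EM.d_grHom (fun q => (EN.X q).gr) EN.d
          EN.d_grHom (E_d_d 𝒜 ℳ EM) (E_exact 𝒜 ℳ EM) (E_d_d ℬ 𝒩 EN) (E_exact ℬ 𝒩 EN)
          ℳ EM.ε EM.ε_grHom EM.ε_injective EM.exact_zero 𝒩 EN.ε EN.ε_grHom EN.ε_injective
          EN.exact_zero 𝒬 φ hP).Hcomp (idealAdd 𝒯 mT) (r + s + 3) d) := e.finrank_eq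
  rw [h1]
  rw [finrank_totRes 𝒜 ℬ 𝒯 ψ hT (fun p => (EM.X p).gr) EM.d EM.d_grHom (fun q => (EN.X q).gr) EN.d
      EN.d_grHom (E_d_d 𝒜 ℳ EM) (E_exact 𝒜 ℳ EM) (E_d_d ℬ 𝒩 EN) (E_exact ℬ 𝒩 EN)
      ℳ EM.ε EM.ε_grHom EM.ε_injective EM.exact_zero 𝒩 EN.ε EN.ε_grHom EN.ε_injective EN.exact_zero
      𝒬 φ hP mT hmT d h0T (r + s + 3)]
  have main := finrank_top (dCE 𝒜 ℳ EM d) (tCE 𝒜 ℳ EM d)
    (tsI_le 𝒜 (fun p => (EM.X p).gr) EM.d EM.d_grHom d)
    (dCE ℬ 𝒩 EN d) (tCE ℬ 𝒩 EN d)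
    (tsI_le ℬ (fun p => (EN.X p).gr) EN.d EN.d_grHom d)
    (dpI_dpI 𝒜 (fun p => (EM.X p).gr) EM.d EM.d_grHom d (E_d_d 𝒜 ℳ EM))
    (dpI_dpI ℬ (fun p => (EN.X p).gr) EN.d EN.d_grHom d (E_d_d ℬ 𝒩 EN))
    (dpI_exact 𝒜 (fun p => (EM.X p).gr) EM.d EM.d_grHom d (E_exact 𝒜 ℳ EM))
    (dpI_exact ℬ (fun p => (EN.X p).gr) EN.d EN.d_grHom d (E_exact ℬ 𝒩 EN)) r s
    (fun i hi => Hq.subsingleton_of_le
      (le_bdS_of_Hcomp_eq_bot 𝒜 ℳ EM mR hmR d i (hM i d hi)))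
    (fun i hi => Hq.subsingleton_of_le
      (le_bdS_of_Hcomp_eq_bot ℬ 𝒩 EN mS hmS d i (hN i d hi)))
  rw [finrank_Hcomp_eq 𝒜 ℳ EM mR hmR d h0R (r + 2), finrank_Hcomp_eq ℬ 𝒩 EN mS hmS d h0S (s + 2)]
  exact main

end Groth.Agent.Lib.helper26.Kun
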