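import Mathlib
import Groth.Prelude.Def_GrLC
import Groth.Prelude.Def_GrSeg
import Groth.Agent.Lib.Helper26.KunAE
import Groth.Agent.Lib.Helper26.KunQ
import Groth.Agent.Lib.Helper26.KunR

/-!
# The top local cohomology of the Segre product of two graded rings (helper26)

`dim H^{r+s-1}_{T₊}(T)_d = dim H^r_{R₊}(R)_d · dim H^s_{S₊}(S)_d` for `T = R # S`, `dim R = r ≥ 2`,
`dim S = s ≥ 2`.
-/

set_option autoImplicit false
set_option linter.unusedSectionVars false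
set_option linter.dupNamespace false
universe u
open scoped TensorProduct

namespace Groth.Agent.Lib.helper26.Kun

open GrLC Groth.Agent.Lib.helper19.GrConv Groth.Agent.Lib.helper19.GrMod
  Groth.Agent.Lib.helper26.Seg Groth.Agent.Lib.helper26.GrCM Groth.Agent.Lib.helper26.Acyc

attribute [local instance] gsmulSelf

/-- **the top local cohomology of the Segre product of rings**, degree by degree -/
theorem kunneth_segre_ring_top {k : Type u} [Field k] {R : Type u} [CommRing R] [Nontrivial R]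
    [Algebra k R]
    (𝒜 : ℤ → Submodule k R) [GradedAlgebra 𝒜] (hposR : ∀ n : ℤ, n < 0 → 𝒜 n = ⊥)
    (h0R : 𝒜 0 = Submodule.span k {(1 : R)}) [Algebra.FiniteType k R]
    {S : Type u} [CommRing S] [Nontrivial S] [Algebra k S] (ℬ : ℤ → Submodule k S)
    [GradedAlgebra ℬ] (hposS : ∀ n : ℤ, n < 0 → ℬ n = ⊥)
    (h0S : ℬ 0 = Submodule.span k {(1 : S)}) [Algebra.FiniteType k S]
    {T : Type u} [CommRing T] [Algebra k T] (𝒯 : ℤ → Submodule k T) [GradedAlgebra 𝒯]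
    (ψ : T →ₐ[k] R ⊗[k] S) (hψ : Function.Injective ψ)
    (hdegT : ∀ n : ℤ, (𝒯 n).map ψ.toLinearMap =
      Submodule.span k {x : R ⊗[k] S | ∃ a ∈ 𝒜 n, ∃ b ∈ ℬ n, x = a ⊗ₜ[k] b})
    (mR : HomogeneousIdeal 𝒜) (hmR : mR.toIdeal = irr 𝒜) (I : StarInjRes 𝒜 𝒜)
    (mS : HomogeneousIdeal ℬ) (hmS : mS.toIdeal = irr ℬ) (J : StarInjRes ℬ ℬ)
    (mT : HomogeneousIdeal 𝒯) (hmT : mT.toIdeal = irr 𝒯) (IT : StarInjRes 𝒯 𝒯)
    (r s : ℕ) (hr : ringKrullDim R = ((r + 2 : ℕ) : WithBot ℕ∞))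
    (hs : ringKrullDim S = ((s + 2 : ℕ) : WithBot ℕ∞)) (d : ℤ) :
    Module.finrank (deg0 𝒯) (IT.Hcomp mT (r + s + 3) d) =
      Module.finrank (deg0 𝒜) (I.Hcomp mR (r + 2) d) *
        Module.finrank (deg0 ℬ) (J.Hcomp mS (s + 2) d) := by
  have hnoeR : IsNoetherianRing R := Algebra.FiniteType.isNoetherianRing k R
  have hnoeS : IsNoetherianRing S := Algebra.FiniteType.isNoetherianRing k S
  have hvR : ∀ (q : ℕ) (d : ℤ), r + 2 < q → (resSelf 𝒜 I).Hcomp mR q d = ⊥ := by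
    intro q d hq
    apply Hcomp_eq_bot_of_supportDim_lt 𝒜 (addGr 𝒜) (resSelf 𝒜 I) mR q _ d
    rw [Module.supportDim_self_eq_ringKrullDim, hr]
    exact_mod_cast hq
  have hvS : ∀ (q : ℕ) (d : ℤ), s + 2 < q → (resSelf ℬ J).Hcomp mS q d = ⊥ := by
    intro q d hq
    apply Hcomp_eq_bot_of_supportDim_lt ℬ (addGr ℬ) (resSelf ℬ J) mS q _ d
    rw [Module.supportDim_self_eq_ringKrullDim, hs]
    exact_mod_cast hq
  exact kunneth_segre_top 𝒜 hposR h0R ℬ hposS h0S 𝒯 ψ ⟨hψ, hdegT⟩ mR hmR mS hmS mT hmT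
    (addGr 𝒜) (resSelf 𝒜 I) (addGr ℬ) (resSelf ℬ J) (addGr 𝒯) ψ.toLinearMap
    (isSegreMod_self 𝒜 ℬ 𝒯 ψ hψ hdegT) (resSelf 𝒯 IT) r s hvR hvS d

end Groth.Agent.Lib.helper26.Kun
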