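import Mathlib
import Groth.Prelude.Def_GrLC
import Groth.Prelude.Def_GrSeg
import Groth.Agent.Lib.Helper19.LCFactor
import Groth.Agent.Lib.Helper19.LCGroth
import Groth.Agent.Lib.Helper26.Kun2
import Groth.Agent.Lib.Helper26.Kun4
import Groth.Agent.Lib.Helper26.Kun5
import Groth.Agent.Lib.Helper26.Kun6

/-!
# Acyclicity of `X # N` when a homogeneous element of positive degree acts bijectively on `N`
(helper26)
-/

set_option autoImplicit false
set_option linter.unusedSectionVars false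
set_option linter.dupNamespace false
universe u
open scoped TensorProduct

namespace Groth.Agent.Lib.helper26.Kun

open GrLC Groth.Agent.Lib.helper19.GrConv Groth.Agent.Lib.helper19.GrMod
  Groth.Agent.Lib.helper26.Seg Groth.Agent.Lib.helper26.GrCM

section Bij

variable {A : Type u} [CommRing A] (I : Ideal A) (W : Type u) [AddCommGroup W] [Module A W]

/-- local cohomology vanishes in all degrees when an element of the ideal acts bijectively -/
theorem H_subsingleton_of_bijective (i : ℕ) (a : A) (ha : a ∈ I)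
    (hbij : Function.Bijective (fun w : W => a • w)) : Subsingleton (LocCoh.H I i W) := by
  let φ : W ≃ₗ[A] W := LinearEquiv.ofBijective (LinearMap.lsmul A W a) hbij
  have hinj : ∀ x : ((localCohomology I i).obj (ModuleCat.of A W) : ModuleCat.{u} A),
      a • x = 0 → x = 0 := by
    intro x hx
    have h1 : ((localCohomology I i).map
        (a • CategoryTheory.CategoryStruct.id (ModuleCat.of A W))).hom x = 0 :=
      (Groth.Agent.Lib.helper19.LCFactor.H_map_smul_id I i (ModuleCat.of A W) a x).trans hx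
    have h2 : a • CategoryTheory.CategoryStruct.id (ModuleCat.of A W) =
        ModuleCat.ofHom φ.toLinearMap := by
      apply ModuleCat.hom_ext
      apply LinearMap.ext
      intro y
      rfl
    rw [h2] at h1
    have h3 : CategoryTheory.CategoryStruct.comp (ModuleCat.ofHom φ.toLinearMap)
        (ModuleCat.ofHom φ.symm.toLinearMap) =
        CategoryTheory.CategoryStruct.id (ModuleCat.of A W) := by
      apply ModuleCat.hom_ext
      apply LinearMap.ext
      intro y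
      exact φ.symm_apply_apply y
    have h4 : ((localCohomology I i).map (CategoryTheory.CategoryStruct.comp
        (ModuleCat.ofHom φ.toLinearMap) (ModuleCat.ofHom φ.symm.toLinearMap))).hom x = x := by
      rw [h3, CategoryTheory.Functor.map_id]
      rfl
    rw [CategoryTheory.Functor.map_comp, ModuleCat.hom_comp, LinearMap.comp_apply, h1,
      map_zero] at h4
    exact h4.symm
  exact Groth.Agent.Lib.helper19.LCGroth.H_subsingleton_of_smul_injective I i
    (ModuleCat.of A W) a ha hinj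

end Bij

section RmulBij

variable {k : Type u} [Field k] {R : Type u} [CommRing R] [Algebra k R]
  {S : Type u} [CommRing S] [Algebra k S]
  {X : Type u} [AddCommGroup X] [Module R X] [Module k X] [IsScalarTower k R X]
  {Y : Type u} [AddCommGroup Y] [Module S Y] [Module k Y] [IsScalarTower k S Y]

theorem Rmul_bijective {g : S} (hg : Function.Bijective (fun y : Y => g • y)) :
    Function.Bijective (Rmul k X g : X ⊗[k] Y →ₗ[k] X ⊗[k] Y) := by
  let φ : Y ≃ₗ[k] Y := LinearEquiv.ofBijective ((LinearMap.lsmul S Y g).restrictScalars k) hg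
  have h : (Rmul k X g : X ⊗[k] Y →ₗ[k] X ⊗[k] Y) =
      (TensorProduct.congr (LinearEquiv.refl k X) φ).toLinearMap := by
    apply TensorProduct.ext'
    intro x y
    rfl
  rw [h]
  exact (TensorProduct.congr (LinearEquiv.refl k X) φ).bijective

end RmulBij

section Final

variable {k : Type u} [Field k] {R : Type u} [CommRing R] [Algebra k R] [IsNoetherianRing R]
  (𝒜 : ℤ → Submodule k R) [GradedAlgebra 𝒜]
  {S : Type u} [CommRing S] [Algebra k S] [IsNoetherianRing S]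
  (ℬ : ℤ → Submodule k S) [GradedAlgebra ℬ]
  {T : Type u} [CommRing T] [Algebra k T] [IsNoetherianRing T]
  (𝒯 : ℤ → Submodule k T) [GradedAlgebra 𝒯]
  [IsNoetherianRing (R ⊗[k] S)]
  (ψ : T →ₐ[k] R ⊗[k] S) (hT : GrSeg.IsSegreRing 𝒜 ℬ 𝒯 ψ)
  {X : Type u} [AddCommGroup X] [Module R X] [Module k X] [IsScalarTower k R X]
  (𝒳 : ℤ → AddSubgroup X) [DirectSum.Decomposition 𝒳] [SetLike.GradedSMul 𝒜 𝒳]
  {Y : Type u} [AddCommGroup Y] [Module S Y] [Module k Y] [IsScalarTower k S Y]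
  (𝒴 : ℤ → AddSubgroup Y) [DirectSum.Decomposition 𝒴] [SetLike.GradedSMul ℬ 𝒴]

include hT in
/-- `X ⊗ Y`, as a `T`-module, is acyclic for `Γ_{T₊}` when `X` is *injective and a homogeneous
element of positive degree acts bijectively on `Y` -/
theorem SW_acyclic_bij (hX : IsStarInj 𝒜 𝒳) {e : ℕ} (he : 0 < e) {g : S} (hg : g ∈ ℬ (e : ℤ))
    (hgY : Function.Bijective (fun y : Y => g • y)) (i : ℕ) (hi : 1 ≤ i) :
    Subsingleton (LocCoh.H (irr 𝒯) i (SW ψ X Y)) := by
  classical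
  obtain ⟨s₁, hs₁, hs₁span⟩ := exists_finset_homogeneous_span 𝒜 (fun m => 0 < m) (irr 𝒜) rfl
    (IsNoetherian.noetherian _)
  obtain ⟨s₂, hs₂, hs₂span⟩ := exists_finset_homogeneous_span ℬ (fun m => 0 < m) (irr ℬ) rfl
    (IsNoetherian.noetherian _)
  have hD1 : ∀ t : Finset R, t ⊆ s₁ → ∀ x ∈ s₁, DivOn x (torsK (k := k) (M := X) t) := by
    intro t ht x hx
    obtain ⟨e, -, hxe⟩ := hs₁ x hx
    refine divOn_of_isStarInj 𝒜 𝒳 hX t (fun r hr => ?_) hxe
    obtain ⟨e', -, hre⟩ := hs₁ r (ht hr)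
    exact ⟨e', hre⟩
  have hD2 : ∀ t : Finset S, t ⊆ (∅ : Finset S) → ∀ y ∈ (∅ : Finset S),
      DivOn y (torsK (k := k) (M := Y) t) := by
    intro t _ y hy
    exact absurd hy (Finset.notMem_empty y)
  let _ : Module (R ⊗[k] S) (X ⊗[k] Y) := tpModule
  set I := Ideal.span ((s₁.image (incL k S) : Finset (R ⊗[k] S)) : Set (R ⊗[k] S)) with hI
  set J := Ideal.span ((s₂.image (incR k R) : Finset (R ⊗[k] S)) : Set (R ⊗[k] S)) with hJ
  have hgirr : g ∈ irr ℬ := mem_irr_of_mem ℬ (by exact_mod_cast he) hg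
  have hgJ : incR k R g ∈ J := by
    apply incR_mem_span_image
    rw [← hs₂span]
    exact hgirr
  have hbij : Function.Bijective (fun w : X ⊗[k] Y => incR k R g • w) := by
    have h := Rmul_bijective (k := k) (X := X) hgY
    have h' : (fun w : X ⊗[k] Y => incR k R g • w) = (Rmul k X g : X ⊗[k] Y →ₗ[k] X ⊗[k] Y) := by
      funext w
      exact incR_smul g w
    rw [h']
    exact h
  have h1 : Subsingleton (LocCoh.H I i (X ⊗[k] Y)) := by
    have := acyclic_of_div s₁ (∅ : Finset S) hD1 hD2 (s₁.image (incL k S))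
      Finset.subset_union_left i hi
    exact this
  have h2 : Subsingleton (LocCoh.H J i (X ⊗[k] Y)) :=
    H_subsingleton_of_bijective J (X ⊗[k] Y) i (incR k R g) hgJ hbij
  have h3 : Subsingleton (LocCoh.H (I ⊔ J) (i + 1) (X ⊗[k] Y)) :=
    H_subsingleton_of_bijective (I ⊔ J) (X ⊗[k] Y) (i + 1) (incR k R g)
      (Ideal.mem_sup_right hgJ) hbij
  have h4 : Subsingleton (LocCoh.H (I ⊓ J) i (X ⊗[k] Y)) :=
    H_inf_subsingleton (X ⊗[k] Y) I J i h1 h2 h3
  have hrad := radical_map_irr_eq 𝒜 ℬ 𝒯 ψ hT s₁ hs₁ hs₁span s₂ hs₂ hs₂span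
  let _ : Algebra T (R ⊗[k] S) := ψ.toRingHom.toAlgebra
  let _ : Module T (X ⊗[k] Y) := Module.compHom (X ⊗[k] Y) ψ.toRingHom
  have : IsScalarTower T (R ⊗[k] S) (X ⊗[k] Y) := IsScalarTower.of_algebraMap_smul fun _ _ => rfl
  have h5 : Subsingleton (LocCoh.H (irr 𝒯) i (X ⊗[k] Y)) :=
    Groth.Agent.Lib.helper26.Ver.H_subsingleton_of_restrict (irr 𝒯) (X ⊗[k] Y) i (I ⊓ J) hrad h4
  exact h5

include hT in
/-- **`X # Y` is acyclic for `Γ_{T₊}`** when `X` is *injective and a homogeneous element of positive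
degree acts bijectively on `Y` -/
theorem seg_acyclic_bij (hX : IsStarInj 𝒜 𝒳) {e : ℕ} (he : 0 < e) {g : S} (hg : g ∈ ℬ (e : ℤ))
    (hgY : Function.Bijective (fun y : Y => g • y)) (i : ℕ) (hi : 1 ≤ i) :
    Subsingleton (LocCoh.H (irr 𝒯) i ↥(segSub 𝒜 ℬ 𝒯 ψ hT 𝒳 𝒴)) := by
  have h := SW_acyclic_bij 𝒜 ℬ 𝒯 ψ hT 𝒳 hX he hg hgY i hi
  refine Groth.Agent.Lib.helper26.Ver.H_subsingleton_of_retract (irr 𝒯) i
    (segSub 𝒜 ℬ 𝒯 ψ hT 𝒳 𝒴).subtype (segRetract 𝒜 ℬ 𝒯 ψ hT 𝒳 𝒴) ?_ h
  apply LinearMap.ext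
  intro z
  exact segRetract_subtype 𝒜 ℬ 𝒯 ψ hT 𝒳 𝒴 z

end Final

section DiagMap

variable {k : Type u} [Field k] {R : Type u} [CommRing R] [Algebra k R]
  (𝒜 : ℤ → Submodule k R) [GradedAlgebra 𝒜]
  {S : Type u} [CommRing S] [Algebra k S] (ℬ : ℤ → Submodule k S) [GradedAlgebra ℬ]
  {X : Type u} [AddCommGroup X] [Module R X] [Module k X] [IsScalarTower k R X]
  (𝒳 : ℤ → AddSubgroup X) [DirectSum.Decomposition 𝒳] [SetLike.GradedSMul 𝒜 𝒳]
  {Y : Type u} [AddCommGroup Y] [Module S Y] [Module k Y] [IsScalarTower k S Y]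
  (𝒴 : ℤ → AddSubgroup Y) [DirectSum.Decomposition 𝒴] [SetLike.GradedSMul ℬ 𝒴]
  {X' : Type u} [AddCommGroup X'] [Module R X'] [Module k X'] [IsScalarTower k R X']
  (𝒳' : ℤ → AddSubgroup X') [DirectSum.Decomposition 𝒳'] [SetLike.GradedSMul 𝒜 𝒳']
  {Y' : Type u} [AddCommGroup Y'] [Module S Y'] [Module k Y'] [IsScalarTower k S Y']
  (𝒴' : ℤ → AddSubgroup Y') [DirectSum.Decomposition 𝒴'] [SetLike.GradedSMul ℬ 𝒴']

/-- the diagonal projection commutes with tensor products of graded maps -/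
theorem diag_tmap (f : X →ₗ[R] X') (hf : IsGrHom 𝒳 𝒳' f) (g : Y →ₗ[S] Y')
    (hg : IsGrHom 𝒴 𝒴' g) (w : X ⊗[k] Y) :
    diag 𝒜 ℬ 𝒳' 𝒴' (tmap k f g w) = tmap k f g (diag 𝒜 ℬ 𝒳 𝒴 w) := by
  induction w using tensor_homogeneous_induction 𝒳 𝒴 with
  | h0 => rw [map_zero, map_zero, map_zero, map_zero]
  | hh a b x y hx hy =>
    rw [tmap_tmul, diag_tmul_of_mem 𝒜 ℬ 𝒳' 𝒴' (hf a x hx) (hg b y hy),
      diag_tmul_of_mem 𝒜 ℬ 𝒳 𝒴 hx hy]
    split_ifs
    · rfl
    · rw [map_zero]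
  | hadd v v' h h' => rw [map_add, map_add, map_add, map_add, h, h']

end DiagMap

end Groth.Agent.Lib.helper26.Kun
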