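import Mathlib
import Groth.Prelude.Def_GrLC
import Groth.Prelude.Def_GrSeg
import Groth.Agent.Lib.Helper26.Acyc1
import Groth.Agent.Lib.Helper26.Acyc2
import Groth.Agent.Lib.Helper26.KunK
import Groth.Agent.Lib.Helper26.KunM
import Groth.Agent.Lib.Helper26.KunY

/-!
# The complex `I^• # N` as a graded resolution of `M # N` (helper26)
-/

set_option autoImplicit false
set_option linter.unusedSectionVars false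
set_option linter.dupNamespace false
universe u
open scoped TensorProduct

namespace Groth.Agent.Lib.helper26.Kun

open GrLC Groth.Agent.Lib.helper19.GrConv Groth.Agent.Lib.helper19.GrMod
  Groth.Agent.Lib.helper26.Seg Groth.Agent.Lib.helper26.GrCM Groth.Agent.Lib.helper26.Acyc

section Exact

variable {k : Type u} [Field k] {R : Type u} [CommRing R] [Algebra k R]
  {S : Type u} [CommRing S] [Algebra k S]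
  {X : Type u} [AddCommGroup X] [Module R X] [Module k X] [IsScalarTower k R X]
  {X' : Type u} [AddCommGroup X'] [Module R X'] [Module k X'] [IsScalarTower k R X']
  {X'' : Type u} [AddCommGroup X''] [Module R X''] [Module k X''] [IsScalarTower k R X'']
  {Y : Type u} [AddCommGroup Y] [Module S Y] [Module k Y] [IsScalarTower k S Y]

/-- exactness is preserved by `- ⊗_k Y` -/
theorem exists_tmap_eq_of_exact (f : X →ₗ[R] X') (g : X' →ₗ[R] X'')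
    (hgf : ∀ x, g (f x) = 0) (hex : LinearMap.ker g ≤ LinearMap.range f)
    (w : X' ⊗[k] Y) (hw : tmap k g (LinearMap.id : Y →ₗ[S] Y) w = 0) :
    ∃ u : X ⊗[k] Y, tmap k f (LinearMap.id : Y →ₗ[S] Y) u = w := by
  have hE : Function.Exact (f.restrictScalars k) (g.restrictScalars k) := by
    intro y
    constructor
    · intro hy
      obtain ⟨x, hx⟩ := hex (LinearMap.mem_ker.2 hy)
      exact ⟨x, hx⟩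
    · rintro ⟨x, rfl⟩
      exact hgf x
  have hE' := Module.Flat.rTensor_exact Y hE
  have hw' : (g.restrictScalars k).rTensor Y w = 0 := hw
  obtain ⟨u, hu⟩ := (hE' w).1 hw'
  exact ⟨u, hu⟩

end Exact

section SegRes

variable {k : Type u} [Field k] {R : Type u} [CommRing R] [Algebra k R]
  (𝒜 : ℤ → Submodule k R) [GradedAlgebra 𝒜]
  {S : Type u} [CommRing S] [Algebra k S] (ℬ : ℤ → Submodule k S) [GradedAlgebra ℬ]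
  {T : Type u} [CommRing T] [Algebra k T] (𝒯 : ℤ → Submodule k T) [GradedAlgebra 𝒯]
  (ψ : T →ₐ[k] R ⊗[k] S) (hT : GrSeg.IsSegreRing 𝒜 ℬ 𝒯 ψ)
  {I : ℕ → Type u} [∀ p, AddCommGroup (I p)] [∀ p, Module R (I p)] [∀ p, Module k (I p)]
  [∀ p, IsScalarTower k R (I p)]
  (ℐ : ∀ p, ℤ → AddSubgroup (I p)) [∀ p, DirectSum.Decomposition (ℐ p)]
  [∀ p, SetLike.GradedSMul 𝒜 (ℐ p)]
  (dI : ∀ p, I p →ₗ[R] I (p + 1)) (hdI : ∀ p, IsGrHom (ℐ p) (ℐ (p + 1)) (dI p))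
  (hI2 : ∀ p x, dI (p + 1) (dI p x) = 0)
  (exI : ∀ p, LinearMap.ker (dI (p + 1)) ≤ LinearMap.range (dI p))
  {M : Type u} [AddCommGroup M] [Module R M] [Module k M] [IsScalarTower k R M]
  (ℳ : ℤ → AddSubgroup M) [DirectSum.Decomposition ℳ] [SetLike.GradedSMul 𝒜 ℳ]
  (εM : M →ₗ[R] I 0) (hεM : IsGrHom ℳ (ℐ 0) εM) (hεMi : Function.Injective εM)
  (hεMe : LinearMap.ker (dI 0) = LinearMap.range εM)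
  {N : Type u} [AddCommGroup N] [Module S N] [Module k N] [IsScalarTower k S N]
  (𝒩 : ℤ → AddSubgroup N) [DirectSum.Decomposition 𝒩] [SetLike.GradedSMul ℬ 𝒩]
  {P : Type u} [AddCommGroup P] [Module T P] [Module k P] [IsScalarTower k T P]
  (𝒬 : ℤ → AddSubgroup P) [DirectSum.Decomposition 𝒬] [SetLike.GradedSMul 𝒯 𝒬]
  (φ : P →ₗ[k] M ⊗[k] N) (hP : GrSeg.IsSegreMod ψ ℳ 𝒩 𝒬 φ)

attribute [local instance] gsmulAdd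

/-- the differential of `I^• # N` -/
noncomputable def sd (p : ℕ) :
    ↥(segSub 𝒜 ℬ 𝒯 ψ hT (ℐ p) 𝒩) →ₗ[T] ↥(segSub 𝒜 ℬ 𝒯 ψ hT (ℐ (p + 1)) 𝒩) :=
  segMap 𝒜 ℬ 𝒯 ψ hT (ℐ p) 𝒩 (ℐ (p + 1)) 𝒩 (dI p) (hdI p) LinearMap.id (fun _ _ h => h)

theorem segVal_sd (p : ℕ) (z : ↥(segSub 𝒜 ℬ 𝒯 ψ hT (ℐ p) 𝒩)) :
    segVal 𝒜 ℬ 𝒯 ψ hT (ℐ (p + 1)) 𝒩 (sd 𝒜 ℬ 𝒯 ψ hT ℐ dI hdI 𝒩 p z) =
      tmap k (dI p) (LinearMap.id : N →ₗ[S] N) (segVal 𝒜 ℬ 𝒯 ψ hT (ℐ p) 𝒩 z) := rfl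

include hI2 in
theorem sd_sd (p : ℕ) (z : ↥(segSub 𝒜 ℬ 𝒯 ψ hT (ℐ p) 𝒩)) :
    sd 𝒜 ℬ 𝒯 ψ hT ℐ dI hdI 𝒩 (p + 1) (sd 𝒜 ℬ 𝒯 ψ hT ℐ dI hdI 𝒩 p z) = 0 := by
  apply segVal_injective
  rw [segVal_sd, segVal_sd, map_zero]
  unfold tmap
  rw [TensorProduct.map_map]
  have h : (dI (p + 1)).restrictScalars k ∘ₗ (dI p).restrictScalars k = 0 :=
    LinearMap.ext fun x => hI2 p x
  rw [h, tmap_zero_left]

/-- the augmentation `M # N → I^0 # N` -/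
noncomputable def seps : P →ₗ[T] ↥(segSub 𝒜 ℬ 𝒯 ψ hT (ℐ 0) 𝒩) where
  toFun p := segMk 𝒜 ℬ 𝒯 ψ hT (ℐ 0) 𝒩 (tmap k εM (LinearMap.id : N →ₗ[S] N) (φ p))
    (tmap_mem_segK ℳ 𝒩 (ℐ 0) 𝒩 εM hεM LinearMap.id (fun _ _ h => h)
      (phi_mem_segK ψ ℳ 𝒩 𝒬 φ hP p))
  map_add' p p' := by
    apply segVal_injective
    rw [segVal_segMk, map_add, map_add, map_add, segVal_segMk, segVal_segMk]
  map_smul' t p := by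
    apply segVal_injective
    rw [segVal_segMk, RingHom.id_apply, segVal_smul, segVal_segMk, hP.map_smul, tmap_act]

theorem segVal_seps (p : P) :
    segVal 𝒜 ℬ 𝒯 ψ hT (ℐ 0) 𝒩 (seps 𝒜 ℬ 𝒯 ψ hT ℐ ℳ εM hεM 𝒩 𝒬 φ hP p) =
      tmap k εM (LinearMap.id : N →ₗ[S] N) (φ p) := rfl

include hεMi in
theorem seps_injective : Function.Injective (seps 𝒜 ℬ 𝒯 ψ hT ℐ ℳ εM hεM 𝒩 𝒬 φ hP) := by
  rw [injective_iff_map_eq_zero]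
  intro p hp
  have h3 : tmap k εM (LinearMap.id : N →ₗ[S] N) (φ p) = 0 := by
    rw [← segVal_seps 𝒜 ℬ 𝒯 ψ hT ℐ ℳ εM hεM 𝒩 𝒬 φ hP, hp, map_zero]
  have h4 : φ p = 0 := by
    apply tmap_injective εM hεMi (LinearMap.id : N →ₗ[S] N) (fun _ _ h => h)
    rw [h3, map_zero]
  apply hP.injective
  rw [h4, map_zero]

theorem seps_grHom :
    IsGrHom 𝒬 (segGr 𝒜 ℬ 𝒯 ψ hT (ℐ 0) 𝒩) (seps 𝒜 ℬ 𝒯 ψ hT ℐ ℳ εM hεM 𝒩 𝒬 φ hP) := by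
  intro n p hp
  exact tmap_mem_segrePiece ℳ 𝒩 (ℐ 0) 𝒩 εM hεM LinearMap.id (fun _ _ h => h)
    (phi_mem_segrePiece ψ ℳ 𝒩 𝒬 φ hP hp)

include hP in
/-- every element of `⊕_d M_d ⊗ N_d` comes from `P` -/
theorem exists_phi_eq {w : M ⊗[k] N} (hw : w ∈ segK ℳ 𝒩) : ∃ p : P, φ p = w := by
  unfold segK at hw
  induction hw using Submodule.iSup_induction' with
  | mem d z hz =>
    have hz' : z ∈ (GrSeg.segrePiece k ℳ 𝒩 d : Set (M ⊗[k] N)) := hz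
    rw [← hP.image_piece d] at hz'
    obtain ⟨p, -, hp⟩ := hz'
    exact ⟨p, hp⟩
  | zero => exact ⟨0, map_zero _⟩
  | add z z' _ _ h h' =>
    obtain ⟨p, hp⟩ := h
    obtain ⟨p', hp'⟩ := h'
    exact ⟨p + p', by rw [map_add, hp, hp']⟩

include hεMe in
theorem sd_seps (p : P) :
    sd 𝒜 ℬ 𝒯 ψ hT ℐ dI hdI 𝒩 0 (seps 𝒜 ℬ 𝒯 ψ hT ℐ ℳ εM hεM 𝒩 𝒬 φ hP p) = 0 := by
  have hM0 : ∀ m, dI 0 (εM m) = 0 := by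
    intro m
    have : εM m ∈ LinearMap.ker (dI 0) := by rw [hεMe]; exact ⟨m, rfl⟩
    exact this
  apply segVal_injective
  rw [segVal_sd, segVal_seps, map_zero]
  unfold tmap
  rw [TensorProduct.map_map]
  have h : (dI 0).restrictScalars k ∘ₗ εM.restrictScalars k = 0 :=
    LinearMap.ext fun m => hM0 m
  rw [h, tmap_zero_left]

include hεMe in
theorem ker_sd_zero_le :
    LinearMap.ker (sd 𝒜 ℬ 𝒯 ψ hT ℐ dI hdI 𝒩 0) ≤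
      LinearMap.range (seps 𝒜 ℬ 𝒯 ψ hT ℐ ℳ εM hεM 𝒩 𝒬 φ hP) := by
  intro z hz
  have hM0 : ∀ m, dI 0 (εM m) = 0 := by
    intro m
    have : εM m ∈ LinearMap.ker (dI 0) := by rw [hεMe]; exact ⟨m, rfl⟩
    exact this
  have h1 : tmap k (dI 0) (LinearMap.id : N →ₗ[S] N) (segVal 𝒜 ℬ 𝒯 ψ hT (ℐ 0) 𝒩 z) = 0 := by
    rw [← segVal_sd 𝒜 ℬ 𝒯 ψ hT ℐ dI hdI 𝒩, LinearMap.mem_ker.1 hz, map_zero]
  obtain ⟨u, hu⟩ := exists_tmap_eq_of_exact εM (dI 0) hM0 (le_of_eq hεMe) _ h1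
  obtain ⟨p, hp⟩ := exists_phi_eq ψ ℳ 𝒩 𝒬 φ hP (diag_mem_segK 𝒜 ℬ ℳ 𝒩 u)
  refine ⟨p, ?_⟩
  apply segVal_injective
  rw [segVal_seps, hp, ← diag_tmap 𝒜 ℬ ℳ 𝒩 (ℐ 0) 𝒩 εM hεM LinearMap.id (fun _ _ h => h), hu]
  exact diag_of_mem_segK 𝒜 ℬ (ℐ 0) 𝒩 (segVal_mem 𝒜 ℬ 𝒯 ψ hT (ℐ 0) 𝒩 z)

include hI2 exI in
theorem ker_sd_succ_le (n : ℕ) :
    LinearMap.ker (sd 𝒜 ℬ 𝒯 ψ hT ℐ dI hdI 𝒩 (n + 1)) ≤
      LinearMap.range (sd 𝒜 ℬ 𝒯 ψ hT ℐ dI hdI 𝒩 n) := by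
  intro z hz
  have h1 : tmap k (dI (n + 1)) (LinearMap.id : N →ₗ[S] N)
      (segVal 𝒜 ℬ 𝒯 ψ hT (ℐ (n + 1)) 𝒩 z) = 0 := by
    rw [← segVal_sd 𝒜 ℬ 𝒯 ψ hT ℐ dI hdI 𝒩, LinearMap.mem_ker.1 hz, map_zero]
  obtain ⟨u, hu⟩ := exists_tmap_eq_of_exact (dI n) (dI (n + 1)) (hI2 n) (exI n) _ h1
  refine ⟨segMk 𝒜 ℬ 𝒯 ψ hT (ℐ n) 𝒩 (diag 𝒜 ℬ (ℐ n) 𝒩 u) (diag_mem_segK 𝒜 ℬ (ℐ n) 𝒩 u), ?_⟩
  apply segVal_injective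
  rw [segVal_sd, segVal_segMk,
    ← diag_tmap 𝒜 ℬ (ℐ n) 𝒩 (ℐ (n + 1)) 𝒩 (dI n) (hdI n) LinearMap.id (fun _ _ h => h), hu]
  exact diag_of_mem_segK 𝒜 ℬ (ℐ (n + 1)) 𝒩 (segVal_mem 𝒜 ℬ 𝒯 ψ hT (ℐ (n + 1)) 𝒩 z)

/-- **the complex `I^• # N` as a graded resolution of `M # N`** -/
noncomputable def segRes : GRes (addGr 𝒯) 𝒬 where
  X p := segGMod 𝒜 ℬ 𝒯 ψ hT (ℐ p) 𝒩
  d := sd 𝒜 ℬ 𝒯 ψ hT ℐ dI hdI 𝒩
  ε := seps 𝒜 ℬ 𝒯 ψ hT ℐ ℳ εM hεM 𝒩 𝒬 φ hP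
  d_grHom p := segMap_isGrHom 𝒜 ℬ 𝒯 ψ hT (ℐ p) 𝒩 (ℐ (p + 1)) 𝒩 (dI p) (hdI p) LinearMap.id
    (fun _ _ h => h)
  ε_grHom := seps_grHom 𝒜 ℬ 𝒯 ψ hT ℐ ℳ εM hεM 𝒩 𝒬 φ hP
  ε_injective := seps_injective 𝒜 ℬ 𝒯 ψ hT ℐ ℳ εM hεM hεMi 𝒩 𝒬 φ hP
  exact_zero := le_antisymm
    (ker_sd_zero_le 𝒜 ℬ 𝒯 ψ hT ℐ dI hdI ℳ εM hεM hεMe 𝒩 𝒬 φ hP)
    (by
      rintro _ ⟨p, rfl⟩
      exact LinearMap.mem_ker.2 (sd_seps 𝒜 ℬ 𝒯 ψ hT ℐ dI hdI ℳ εM hεM hεMe 𝒩 𝒬 φ hP p))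
  exact_succ n := le_antisymm
    (ker_sd_succ_le 𝒜 ℬ 𝒯 ψ hT ℐ dI hdI hI2 exI 𝒩 n)
    (by
      rintro _ ⟨x, rfl⟩
      exact LinearMap.mem_ker.2 (sd_sd 𝒜 ℬ 𝒯 ψ hT ℐ dI hdI hI2 𝒩 n x))

section Acyclic

variable [IsNoetherianRing R] [IsNoetherianRing S] [IsNoetherianRing T]
  [IsNoetherianRing (R ⊗[k] S)]

theorem segRes_isAcyc (hI : ∀ p, IsStarInj 𝒜 (ℐ p)) {e : ℕ} (he : 0 < e) {g : S}
    (hg : g ∈ ℬ (e : ℤ)) (hgN : Function.Bijective (fun y : N => g • y))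
    (mT : HomogeneousIdeal 𝒯) (hmT : mT.toIdeal = irr 𝒯) (n : ℕ) :
    IsAcyc (idealAdd 𝒯 mT) (segGMod 𝒜 ℬ 𝒯 ψ hT (ℐ n) 𝒩) := by
  intro i hi
  rw [idealAdd_toIdeal, hmT]
  exact seg_acyclic_bij 𝒜 ℬ 𝒯 ψ hT (ℐ n) 𝒩 (hI n) he hg hgN i hi

end Acyclic

end SegRes

end Groth.Agent.Lib.helper26.Kun
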