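import Mathlib
import Groth.Prelude.Def_GrLC
import Groth.Prelude.Def_GrSeg
import Groth.Agent.Lib.Helper26.Acyc1
import Groth.Agent.Lib.Helper26.Acyc2
import Groth.Agent.Lib.Helper26.KunK
import Groth.Agent.Lib.Helper26.KunM
import Groth.Agent.Lib.Helper26.KunO
import Groth.Agent.Lib.Helper26.KunY
import Groth.Agent.Lib.Helper26.KunZ

/-!
# Torsion cocycles of `E^• # N` when `N` has no `S₊`-torsion (helper26)

`E` a *injective resolution of the graded `R`-module `M`, `N` a graded `S`-module with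
`Γ_{S₊}(N) = 0`.  The `T₊`-torsion cocycles (coboundaries) of the complex `E^• # N` are described
inside `E^q ⊗ N` through the cocycles `Z^q = Γ_{R₊}(E^q) ∩ ker d` of `Γ_{R₊}(E^•)`:
they are the elements of `⊕_d E^q_d ⊗ N_d` lying in the image of `Z^q ⊗ N` (of the kernel of
`Z^q ⊗ N → H^q ⊗ N`).
-/

set_option autoImplicit false
set_option linter.unusedSectionVars false
set_option linter.dupNamespace false
universe u
open scoped TensorProduct

namespace Groth.Agent.Lib.helper26.Kun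

open GrLC Groth.Agent.Lib.helper19.GrConv Groth.Agent.Lib.helper19.GrMod
  Groth.Agent.Lib.helper19.GrLes
  Groth.Agent.Lib.helper26.Seg Groth.Agent.Lib.helper26.GrCM Groth.Agent.Lib.helper26.Acyc

section TorsFree

variable {k : Type u} [Field k] {S : Type u} [CommRing S] [Algebra k S]
  (ℬ : ℤ → Submodule k S) [GradedAlgebra ℬ]
  {N : Type u} [AddCommGroup N] [Module S N]

/-- no `S₊`-torsion when a homogeneous element of positive degree acts injectively -/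
theorem gam_eq_bot_of_injective {e : ℕ} (he : 0 < e) {g : S} (hg : g ∈ ℬ (e : ℤ))
    (hgN : Function.Injective (fun y : N => g • y)) : gam (irr ℬ) N = ⊥ := by
  rw [eq_bot_iff]
  rintro v ⟨n, hn⟩
  have hgirr : g ∈ irr ℬ := mem_irr_of_mem ℬ (by exact_mod_cast he) hg
  have h1 : g ^ n • v = 0 := hn _ (Ideal.pow_mem_pow hgirr n)
  rw [Submodule.mem_bot]
  clear hn
  induction n with
  | zero => rwa [pow_zero, one_smul] at h1
  | succ n ih =>
    apply ih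
    apply hgN
    show g • (g ^ n • v) = g • 0
    rw [smul_zero, smul_smul, ← pow_succ']
    exact h1

end TorsFree

section TMapComp

variable {k : Type u} [Field k] {R : Type u} [CommRing R] [Algebra k R]
  {S : Type u} [CommRing S] [Algebra k S]
  {X : Type u} [AddCommGroup X] [Module R X] [Module k X] [IsScalarTower k R X]
  {X' : Type u} [AddCommGroup X'] [Module R X'] [Module k X'] [IsScalarTower k R X']
  {X'' : Type u} [AddCommGroup X''] [Module R X''] [Module k X''] [IsScalarTower k R X'']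
  {Y : Type u} [AddCommGroup Y] [Module S Y] [Module k Y] [IsScalarTower k S Y]

theorem tmap_comp_id (f : X →ₗ[R] X') (g : X' →ₗ[R] X'') (w : X ⊗[k] Y) :
    tmap k g (LinearMap.id : Y →ₗ[S] Y) (tmap k f (LinearMap.id : Y →ₗ[S] Y) w) =
      tmap k (g ∘ₗ f) (LinearMap.id : Y →ₗ[S] Y) w := by
  unfold tmap
  rw [TensorProduct.map_map]
  rfl

end TMapComp

section Cocycle

variable {k : Type u} [Field k] {R : Type u} [CommRing R] [Algebra k R]
  (𝒜 : ℤ → Submodule k R) [GradedAlgebra 𝒜]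
  {S : Type u} [CommRing S] [Algebra k S] (ℬ : ℤ → Submodule k S) [GradedAlgebra ℬ]
  {T : Type u} [CommRing T] [Algebra k T] (𝒯 : ℤ → Submodule k T) [GradedAlgebra 𝒯]
  (ψ : T →ₐ[k] R ⊗[k] S) (hT : GrSeg.IsSegreRing 𝒜 ℬ 𝒯 ψ)
  {M : Type u} [AddCommGroup M] [Module R M] [Module k M] [IsScalarTower k R M]
  (ℳ : ℤ → AddSubgroup M) [DirectSum.Decomposition ℳ] [SetLike.GradedSMul 𝒜 ℳ]
  (EM : StarInjRes 𝒜 ℳ)
  (mR : HomogeneousIdeal 𝒜) (hmR : mR.toIdeal = irr 𝒜)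
  (q : ℕ) [Module k (EM.H mR q)] [IsScalarTower k R (EM.H mR q)]
  [∀ p, Module k (EM.X p).carrier] [∀ p, IsScalarTower k R (EM.X p).carrier]
  {N : Type u} [AddCommGroup N] [Module S N] [Module k N] [IsScalarTower k S N]
  (𝒩 : ℤ → AddSubgroup N) [DirectSum.Decomposition 𝒩] [SetLike.GradedSMul ℬ 𝒩]

attribute [local instance] gsmulAdd

variable (S N) in
/-- `Γ_{R₊}(E^p) ⊗ N → E^p ⊗ N` -/
noncomputable def jG (p : ℕ) :
    ↥(gam mR.toIdeal (EM.X p).carrier) ⊗[k] N →ₗ[k] (EM.X p).carrier ⊗[k] N :=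
  tmap k (gam mR.toIdeal (EM.X p).carrier).subtype (LinearMap.id : N →ₗ[S] N)

variable (S N) in
/-- `Z^q ⊗ N → E^q ⊗ N` -/
noncomputable def jZ : ↥(EM.cocyc mR q) ⊗[k] N →ₗ[k] (EM.X q).carrier ⊗[k] N :=
  tmap k (EM.cocyc mR q).subtype (LinearMap.id : N →ₗ[S] N)

variable (S N) in
/-- `Z^q ⊗ N → H^q ⊗ N` -/
noncomputable def pH : ↥(EM.cocyc mR q) ⊗[k] N →ₗ[k] EM.H mR q ⊗[k] N :=
  tmap k (EM.toH mR q) (LinearMap.id : N →ₗ[S] N)

theorem jG_tmul (p : ℕ) (u : ↥(gam mR.toIdeal (EM.X p).carrier)) (y : N) :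
    jG 𝒜 S ℳ EM mR N p (u ⊗ₜ[k] y) = (u : (EM.X p).carrier) ⊗ₜ[k] y := rfl

theorem jZ_tmul (c : ↥(EM.cocyc mR q)) (y : N) :
    jZ 𝒜 S ℳ EM mR q N (c ⊗ₜ[k] y) = (c : (EM.X q).carrier) ⊗ₜ[k] y := rfl

theorem pH_tmul (c : ↥(EM.cocyc mR q)) (y : N) :
    pH 𝒜 S ℳ EM mR q N (c ⊗ₜ[k] y) = EM.toH mR q c ⊗ₜ[k] y := rfl

theorem jZ_injective : Function.Injective (jZ 𝒜 S ℳ EM mR q N) :=
  tmap_injective (EM.cocyc mR q).subtype Subtype.val_injective (LinearMap.id : N →ₗ[S] N)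
    (fun _ _ h => h)

theorem jZ_act (a : R ⊗[k] S) (z : ↥(EM.cocyc mR q) ⊗[k] N) :
    jZ 𝒜 S ℳ EM mR q N (GrSeg.act k R S _ N a z) =
      GrSeg.act k R S _ N a (jZ 𝒜 S ℳ EM mR q N z) :=
  tmap_act _ _ a z

theorem pH_act (a : R ⊗[k] S) (z : ↥(EM.cocyc mR q) ⊗[k] N) :
    pH 𝒜 S ℳ EM mR q N (GrSeg.act k R S _ N a z) =
      GrSeg.act k R S _ N a (pH 𝒜 S ℳ EM mR q N z) :=
  tmap_act _ _ a z


/-- the coboundaries lie in the cocycles -/
theorem cobdy_le_cocyc' (i : ℕ) : EM.cobdy mR i ≤ EM.cocyc mR i := by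
  cases i with
  | zero => exact bot_le
  | succ n =>
    rintro _ ⟨c, hc, rfl⟩
    exact ⟨gam_map mR.toIdeal (EM.d n) hc, LinearMap.mem_ker.2 (E_d_d 𝒜 ℳ EM n c)⟩

variable (N) in
/-- the image of `B^i ⊗ N` in `E^i ⊗ N` -/
def BT (i : ℕ) : Submodule k ((EM.X i).carrier ⊗[k] N) :=
  Submodule.span k {w | ∃ b ∈ EM.cobdy mR i, ∃ y : N, w = b ⊗ₜ[k] y}

theorem tmul_mem_BT (i : ℕ) {b : (EM.X i).carrier} (hb : b ∈ EM.cobdy mR i) (y : N) :
    b ⊗ₜ[k] y ∈ BT 𝒜 ℳ EM mR N i :=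
  Submodule.subset_span ⟨b, hb, y, rfl⟩

theorem BT_zero {w : (EM.X 0).carrier ⊗[k] N} (hw : w ∈ BT 𝒜 ℳ EM mR N 0) : w = 0 := by
  unfold BT at hw
  induction hw using Submodule.span_induction with
  | mem w hw =>
    obtain ⟨b, hb, y, rfl⟩ := hw
    have hb' : b = 0 := (Submodule.mem_bot R).1 hb
    rw [hb', TensorProduct.zero_tmul]
  | zero => rfl
  | add w w' _ _ h h' => rw [h, h', add_zero]
  | smul c w _ h => rw [h, smul_zero]

theorem BT_succ (n : ℕ) {w : (EM.X (n + 1)).carrier ⊗[k] N}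
    (hw : w ∈ BT 𝒜 ℳ EM mR N (n + 1)) :
    ∃ u ∈ LinearMap.range (jG 𝒜 S ℳ EM mR N n),
      tmap k (EM.d n) (LinearMap.id : N →ₗ[S] N) u = w := by
  unfold BT at hw
  induction hw using Submodule.span_induction with
  | mem w hw =>
    obtain ⟨b, hb, y, rfl⟩ := hw
    obtain ⟨c, hc, rfl⟩ := hb
    exact ⟨_, ⟨(⟨c, hc⟩ : ↥(gam mR.toIdeal (EM.X n).carrier)) ⊗ₜ[k] y, rfl⟩, rfl⟩
  | zero => exact ⟨0, zero_mem _, map_zero _⟩
  | add w w' _ _ h h' =>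
    obtain ⟨u, hu, rfl⟩ := h
    obtain ⟨u', hu', rfl⟩ := h'
    exact ⟨u + u', add_mem hu hu', map_add _ _ _⟩
  | smul c w _ h =>
    obtain ⟨u, hu, rfl⟩ := h
    exact ⟨c • u, Submodule.smul_mem _ c hu, map_smul _ _ _⟩

theorem tmap_d_mem_BT (n : ℕ) {u : (EM.X n).carrier ⊗[k] N}
    (hu : u ∈ LinearMap.range (jG 𝒜 S ℳ EM mR N n)) :
    tmap k (EM.d n) (LinearMap.id : N →ₗ[S] N) u ∈ BT 𝒜 ℳ EM mR N (n + 1) := by
  obtain ⟨v, rfl⟩ := hu
  induction v using TensorProduct.induction_on with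
  | zero => rw [map_zero, map_zero]; exact zero_mem _
  | tmul c y =>
    rw [jG_tmul, tmap_tmul]
    exact tmul_mem_BT 𝒜 ℳ EM mR (n + 1) ⟨c.1, c.2, rfl⟩ y
  | add v v' h h' => rw [map_add, map_add]; exact add_mem h h'

/-- the kernel of `Z^q ⊗ N → H^q ⊗ N` maps into the image of `B^q ⊗ N` -/
theorem jZ_mem_BT_of_pH_eq_zero (z : ↥(EM.cocyc mR q) ⊗[k] N)
    (hz : pH 𝒜 S ℳ EM mR q N z = 0) : jZ 𝒜 S ℳ EM mR q N z ∈ BT 𝒜 ℳ EM mR N q := by
  set B' : Submodule R ↥(EM.cocyc mR q) := (EM.cobdy mR q).comap (EM.cocyc mR q).subtype with hB'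
  have hE : Function.Exact (B'.subtype.restrictScalars k) ((EM.toH mR q).restrictScalars k) :=
    LinearMap.exact_subtype_mkQ B'
  have hs : Function.Surjective ((EM.toH mR q).restrictScalars k) := Submodule.mkQ_surjective B'
  have hE' := rTensor_exact N hE hs
  have hz' : ((EM.toH mR q).restrictScalars k).rTensor N z = 0 := hz
  have key : ∀ v : ↥B' ⊗[k] N,
      jZ 𝒜 S ℳ EM mR q N ((B'.subtype.restrictScalars k).rTensor N v) ∈ BT 𝒜 ℳ EM mR N q := by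
    intro v
    induction v using TensorProduct.induction_on with
    | zero => rw [map_zero, map_zero]; exact zero_mem _
    | tmul b y =>
      show (((b : ↥(EM.cocyc mR q)) : (EM.X q).carrier)) ⊗ₜ[k] y ∈ BT 𝒜 ℳ EM mR N q
      exact tmul_mem_BT 𝒜 ℳ EM mR q b.2 y
    | add v v' h h' =>
      rw [map_add, map_add]
      exact add_mem h h'
  obtain ⟨v, rfl⟩ := (hE' z).1 hz'
  exact key v

/-- the image of `B^q ⊗ N` comes from the kernel of `Z^q ⊗ N → H^q ⊗ N` -/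
theorem exists_of_mem_BT {w : (EM.X q).carrier ⊗[k] N} (hw : w ∈ BT 𝒜 ℳ EM mR N q) :
    ∃ z : ↥(EM.cocyc mR q) ⊗[k] N, jZ 𝒜 S ℳ EM mR q N z = w ∧ pH 𝒜 S ℳ EM mR q N z = 0 := by
  unfold BT at hw
  induction hw using Submodule.span_induction with
  | mem w hw =>
    obtain ⟨b, hb, y, rfl⟩ := hw
    refine ⟨(⟨b, cobdy_le_cocyc' 𝒜 ℳ EM mR q hb⟩ : ↥(EM.cocyc mR q)) ⊗ₜ[k] y, rfl, ?_⟩
    rw [pH_tmul]
    have h0 : EM.toH mR q ⟨b, cobdy_le_cocyc' 𝒜 ℳ EM mR q hb⟩ = 0 := by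
      rw [Submodule.mkQ_apply, Submodule.Quotient.mk_eq_zero]
      exact hb
    rw [h0, TensorProduct.zero_tmul]
  | zero => exact ⟨0, map_zero _, map_zero _⟩
  | add w w' _ _ h h' =>
    obtain ⟨z, rfl, hz⟩ := h
    obtain ⟨z', rfl, hz'⟩ := h'
    exact ⟨z + z', map_add _ _ _, by rw [map_add, hz, hz', add_zero]⟩
  | smul c w _ h =>
    obtain ⟨z, rfl, hz⟩ := h
    exact ⟨c • z, map_smul _ _ _, by rw [map_smul, hz, smul_zero]⟩

section Noeth

variable [IsNoetherianRing R] [IsNoetherianRing S]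

include hT hmR in
/-- `T₊`-torsion tensors of `E^p ⊗ N` lie in the image of `Γ_{R₊}(E^p) ⊗ N` -/
theorem mem_range_jG_of_isTors (hN : gam (irr ℬ) N = ⊥) (p : ℕ) (w : (EM.X p).carrier ⊗[k] N)
    (hw : IsTors 𝒯 ψ w) : w ∈ LinearMap.range (jG 𝒜 S ℳ EM mR N p) := by
  rw [torsion_iff 𝒜 ℬ 𝒯 ψ hT] at hw
  refine ker_tmap_mkQ_induction (gam (irr 𝒜) (EM.X p).carrier) (gam (irr ℬ) N)
    (fun w => w ∈ LinearMap.range (jG 𝒜 S ℳ EM mR N p)) (zero_mem _)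
    (fun _ _ h h' => add_mem h h') (fun u hu y => ?_) (fun x v hv => ?_) w hw
  · have hu' : u ∈ gam mR.toIdeal (EM.X p).carrier := by rw [hmR]; exact hu
    exact ⟨(⟨u, hu'⟩ : ↥(gam mR.toIdeal (EM.X p).carrier)) ⊗ₜ[k] y, rfl⟩
  · rw [hN, Submodule.mem_bot] at hv
    rw [hv, TensorProduct.tmul_zero]
    exact zero_mem _

include hT hmR in
theorem isTors_of_mem_range_jG (p : ℕ) {w : (EM.X p).carrier ⊗[k] N}
    (hw : w ∈ LinearMap.range (jG 𝒜 S ℳ EM mR N p)) : IsTors 𝒯 ψ w := by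
  obtain ⟨v, rfl⟩ := hw
  induction v using TensorProduct.induction_on with
  | zero => rw [map_zero]; exact isTors_zero 𝒯 ψ
  | tmul u y =>
    rw [jG_tmul]
    exact isTors_tmul_left 𝒜 ℬ 𝒯 ψ hT (by rw [← hmR]; exact u.2) y
  | add v v' h h' => rw [map_add]; exact isTors_add 𝒯 ψ h h'

end Noeth

/-- torsion tensors killed by `d ⊗ 1` lie in the image of `Z^q ⊗ N` -/
theorem mem_range_jZ {w : (EM.X q).carrier ⊗[k] N}
    (hw : w ∈ LinearMap.range (jG 𝒜 S ℳ EM mR N q))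
    (hd : tmap k (EM.d q) (LinearMap.id : N →ₗ[S] N) w = 0) :
    w ∈ LinearMap.range (jZ 𝒜 S ℳ EM mR q N) := by
  obtain ⟨v, rfl⟩ := hw
  have hle : EM.cocyc mR q ≤ gam mR.toIdeal (EM.X q).carrier := fun _ h => h.1
  let ι : ↥(EM.cocyc mR q) →ₗ[R] ↥(gam mR.toIdeal (EM.X q).carrier) := Submodule.inclusion hle
  let f : ↥(gam mR.toIdeal (EM.X q).carrier) →ₗ[R] (EM.X (q + 1)).carrier :=
    EM.d q ∘ₗ (gam mR.toIdeal (EM.X q).carrier).subtype
  have hgf : ∀ c, f (ι c) = 0 := fun c => LinearMap.mem_ker.1 c.2.2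
  have hex : LinearMap.ker f ≤ LinearMap.range ι := by
    intro y hy
    exact ⟨⟨y.1, ⟨y.2, hy⟩⟩, rfl⟩
  have h1 : tmap k f (LinearMap.id : N →ₗ[S] N) v = 0 := by
    rw [← hd]
    unfold jG
    rw [tmap_comp_id]
  obtain ⟨u, hu⟩ := exists_tmap_eq_of_exact ι f hgf hex v h1
  refine ⟨u, ?_⟩
  rw [← hu]
  unfold jZ jG
  rw [tmap_comp_id]
  rfl

end Cocycle

end Groth.Agent.Lib.helper26.Kun
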