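import Mathlib
import Groth.Prelude.Def_GrLC
import Groth.Prelude.Def_GrSeg
import Groth.Agent.Lib.Helper26.GrCM6
import Groth.Agent.Lib.Helper26.KunAA

/-!
# `H^q_{T₊}(M # N) = H^q_{R₊}(M) # N` computed from the resolution `E^• # N` (helper26)
-/

set_option autoImplicit false
set_option linter.unusedSectionVars false
set_option linter.dupNamespace false
universe u
open scoped TensorProduct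

namespace Groth.Agent.Lib.helper26.Kun

open GrLC Groth.Agent.Lib.helper19.GrConv Groth.Agent.Lib.helper19.GrMod
  Groth.Agent.Lib.helper19.GrLes
  Groth.Agent.Lib.helper26.Seg Groth.Agent.Lib.helper26.GrCM Groth.Agent.Lib.helper26.Acyc

section GamSeg

variable {k : Type u} [Field k] {R : Type u} [CommRing R] [Algebra k R]
  (𝒜 : ℤ → Submodule k R) [GradedAlgebra 𝒜]
  {S : Type u} [CommRing S] [Algebra k S] (ℬ : ℤ → Submodule k S) [GradedAlgebra ℬ]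
  {T : Type u} [CommRing T] [Algebra k T] (𝒯 : ℤ → Submodule k T) [GradedAlgebra 𝒯]
  (ψ : T →ₐ[k] R ⊗[k] S) (hT : GrSeg.IsSegreRing 𝒜 ℬ 𝒯 ψ)
  {X : Type u} [AddCommGroup X] [Module R X] [Module k X] [IsScalarTower k R X]
  (𝒳 : ℤ → AddSubgroup X) [DirectSum.Decomposition 𝒳] [SetLike.GradedSMul 𝒜 𝒳]
  {Y : Type u} [AddCommGroup Y] [Module S Y] [Module k Y] [IsScalarTower k S Y]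
  (𝒴 : ℤ → AddSubgroup Y) [DirectSum.Decomposition 𝒴] [SetLike.GradedSMul ℬ 𝒴]

theorem mem_gam_segSub_iff (z : ↥(segSub 𝒜 ℬ 𝒯 ψ hT 𝒳 𝒴)) :
    z ∈ gam (irr 𝒯) ↥(segSub 𝒜 ℬ 𝒯 ψ hT 𝒳 𝒴) ↔
      IsTors 𝒯 ψ (segVal 𝒜 ℬ 𝒯 ψ hT 𝒳 𝒴 z) := by
  constructor
  · rintro ⟨n, hn⟩
    refine ⟨n, fun t ht => ?_⟩
    rw [← segVal_smul, hn t ht, map_zero]
  · rintro ⟨n, hn⟩
    refine ⟨n, fun t ht => ?_⟩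
    apply segVal_injective
    rw [segVal_smul, hn t ht, map_zero]

include hT in
theorem isTors_diag {w : X ⊗[k] Y} (hw : IsTors 𝒯 ψ w) : IsTors 𝒯 ψ (diag 𝒜 ℬ 𝒳 𝒴 w) := by
  obtain ⟨n, hn⟩ := hw
  refine ⟨n, fun t ht => ?_⟩
  rw [← diag_act_psi 𝒜 ℬ 𝒯 ψ hT 𝒳 𝒴, hn t ht, map_zero]

end GamSeg

section TSide

variable {k : Type u} [Field k] {R : Type u} [CommRing R] [Algebra k R]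
  (𝒜 : ℤ → Submodule k R) [GradedAlgebra 𝒜]
  {S : Type u} [CommRing S] [Algebra k S] (ℬ : ℤ → Submodule k S) [GradedAlgebra ℬ]
  {T : Type u} [CommRing T] [Algebra k T] (𝒯 : ℤ → Submodule k T) [GradedAlgebra 𝒯]
  (ψ : T →ₐ[k] R ⊗[k] S) (hT : GrSeg.IsSegreRing 𝒜 ℬ 𝒯 ψ)
  {M : Type u} [AddCommGroup M] [Module R M] [Module k M] [IsScalarTower k R M]
  (ℳ : ℤ → AddSubgroup M) [DirectSum.Decomposition ℳ] [SetLike.GradedSMul 𝒜 ℳ]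
  (EM : StarInjRes 𝒜 ℳ)
  (mR : HomogeneousIdeal 𝒜) (hmR : mR.toIdeal = irr 𝒜)
  (q : ℕ) [Module k (EM.H mR q)] [IsScalarTower k R (EM.H mR q)]
  [∀ p, Module k (EM.X p).carrier] [∀ p, IsScalarTower k R (EM.X p).carrier]
  {N : Type u} [AddCommGroup N] [Module S N] [Module k N] [IsScalarTower k S N]
  (𝒩 : ℤ → AddSubgroup N) [DirectSum.Decomposition 𝒩] [SetLike.GradedSMul ℬ 𝒩]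
  {P : Type u} [AddCommGroup P] [Module T P] [Module k P] [IsScalarTower k T P]
  (𝒬 : ℤ → AddSubgroup P) [DirectSum.Decomposition 𝒬] [SetLike.GradedSMul 𝒯 𝒬]
  (φ : P →ₗ[k] M ⊗[k] N) (hP : GrSeg.IsSegreMod ψ ℳ 𝒩 𝒬 φ)
  (mT : HomogeneousIdeal 𝒯) (hmT : mT.toIdeal = irr 𝒯)

attribute [local instance] gsmulAdd

/-- the resolution `E^• # N` of `M # N` -/
noncomputable def ER : GRes (addGr 𝒯) 𝒬 :=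
  segRes 𝒜 ℬ 𝒯 ψ hT (fun p => (EM.X p).gr) EM.d EM.d_grHom (E_d_d 𝒜 ℳ EM) (E_exact 𝒜 ℳ EM)
    ℳ EM.ε EM.ε_grHom EM.ε_injective EM.exact_zero 𝒩 𝒬 φ hP

/-- the underlying tensor of an element of `E^p # N` -/
noncomputable abbrev sv (p : ℕ) : ↥(segSub 𝒜 ℬ 𝒯 ψ hT (EM.X p).gr 𝒩) →+ (EM.X p).carrier ⊗[k] N :=
  segVal 𝒜 ℬ 𝒯 ψ hT (EM.X p).gr 𝒩

theorem sv_ER_d (p : ℕ) (x : ↥(segSub 𝒜 ℬ 𝒯 ψ hT (EM.X p).gr 𝒩)) :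
    sv 𝒜 ℬ 𝒯 ψ hT ℳ EM 𝒩 (p + 1) ((ER 𝒜 ℬ 𝒯 ψ hT ℳ EM 𝒩 𝒬 φ hP).d p x) =
      tmap k (EM.d p) (LinearMap.id : N →ₗ[S] N) (sv 𝒜 ℬ 𝒯 ψ hT ℳ EM 𝒩 p x) := rfl

section Noeth

variable [IsNoetherianRing R] [IsNoetherianRing S]

include hmR hmT in
theorem sv_mem_range_jG (hN : gam (irr ℬ) N = ⊥) (p : ℕ)
    (x : ↥(segSub 𝒜 ℬ 𝒯 ψ hT (EM.X p).gr 𝒩))
    (hx : x ∈ gam (idealAdd 𝒯 mT).toIdeal ↥(segSub 𝒜 ℬ 𝒯 ψ hT (EM.X p).gr 𝒩)) :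
    sv 𝒜 ℬ 𝒯 ψ hT ℳ EM 𝒩 p x ∈ LinearMap.range (jG 𝒜 S ℳ EM mR N p) := by
  have hx' : x ∈ gam (irr 𝒯) ↥(segSub 𝒜 ℬ 𝒯 ψ hT (EM.X p).gr 𝒩) := by
    rw [← hmT]
    exact hx
  exact mem_range_jG_of_isTors 𝒜 ℬ 𝒯 ψ hT ℳ EM mR hmR hN p _
    ((mem_gam_segSub_iff 𝒜 ℬ 𝒯 ψ hT (EM.X p).gr 𝒩 x).1 hx')

include hmR hmT in
/-- torsion cocycles of `E^• # N` lie in the image of `Z^q ⊗ N` -/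
theorem sv_mem_range_jZ (hN : gam (irr ℬ) N = ⊥)
    (z : ↥((ER 𝒜 ℬ 𝒯 ψ hT ℳ EM 𝒩 𝒬 φ hP).cocyc (idealAdd 𝒯 mT) q)) :
    sv 𝒜 ℬ 𝒯 ψ hT ℳ EM 𝒩 q z.1 ∈ LinearMap.range (jZ 𝒜 S ℳ EM mR q N) := by
  refine mem_range_jZ 𝒜 ℳ EM mR q
    (sv_mem_range_jG 𝒜 ℬ 𝒯 ψ hT ℳ EM mR hmR 𝒩 mT hmT hN q z.1 z.2.1) ?_
  have h0 : (ER 𝒜 ℬ 𝒯 ψ hT ℳ EM 𝒩 𝒬 φ hP).d q z.1 =
      (0 : ↥(segSub 𝒜 ℬ 𝒯 ψ hT (EM.X (q + 1)).gr 𝒩)) := LinearMap.mem_ker.1 z.2.2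
  rw [← sv_ER_d 𝒜 ℬ 𝒯 ψ hT ℳ EM 𝒩 𝒬 φ hP, h0, map_zero]

include hmR hmT in
/-- torsion coboundaries of `E^• # N` lie in the image of `B^i ⊗ N` -/
theorem sv_mem_BT (hN : gam (irr ℬ) N = ⊥) (i : ℕ)
    (z : ↥(segSub 𝒜 ℬ 𝒯 ψ hT (EM.X i).gr 𝒩))
    (hz : z ∈ (ER 𝒜 ℬ 𝒯 ψ hT ℳ EM 𝒩 𝒬 φ hP).cobdy (idealAdd 𝒯 mT) i) :
    sv 𝒜 ℬ 𝒯 ψ hT ℳ EM 𝒩 i z ∈ BT 𝒜 ℳ EM mR N i := by
  cases i with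
  | zero =>
    have hz' : z = (0 : ↥(segSub 𝒜 ℬ 𝒯 ψ hT (EM.X 0).gr 𝒩)) := (Submodule.mem_bot T).1 hz
    rw [hz', map_zero]
    exact zero_mem _
  | succ n =>
    obtain ⟨x, hx, rfl⟩ := hz
    rw [sv_ER_d]
    exact tmap_d_mem_BT 𝒜 ℳ EM mR n
      (sv_mem_range_jG 𝒜 ℬ 𝒯 ψ hT ℳ EM mR hmR 𝒩 mT hmT hN n x hx)

include hmR hmT in
/-- elements of `E^i # N` in the image of `B^i ⊗ N` are torsion coboundaries -/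
theorem mem_cobdy_of_sv_mem_BT (i : ℕ)
    (z : ↥(segSub 𝒜 ℬ 𝒯 ψ hT (EM.X i).gr 𝒩))
    (hz : sv 𝒜 ℬ 𝒯 ψ hT ℳ EM 𝒩 i z ∈ BT 𝒜 ℳ EM mR N i) :
    z ∈ (ER 𝒜 ℬ 𝒯 ψ hT ℳ EM 𝒩 𝒬 φ hP).cobdy (idealAdd 𝒯 mT) i := by
  cases i with
  | zero =>
    have h0 := BT_zero 𝒜 ℳ EM mR hz
    have hz' : z = (0 : ↥(segSub 𝒜 ℬ 𝒯 ψ hT (EM.X 0).gr 𝒩)) :=
      segVal_injective 𝒜 ℬ 𝒯 ψ hT (EM.X 0).gr 𝒩 (h0.trans (map_zero _).symm)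
    rw [hz']
    exact zero_mem _
  | succ n =>
    obtain ⟨u, hu, huz⟩ := BT_succ (S := S) 𝒜 ℳ EM mR n hz
    have htors := isTors_diag 𝒜 ℬ 𝒯 ψ hT (EM.X n).gr 𝒩
      (isTors_of_mem_range_jG 𝒜 ℬ 𝒯 ψ hT ℳ EM mR hmR n hu)
    refine ⟨segMk 𝒜 ℬ 𝒯 ψ hT (EM.X n).gr 𝒩 (diag 𝒜 ℬ (EM.X n).gr 𝒩 u)
      (diag_mem_segK 𝒜 ℬ (EM.X n).gr 𝒩 u), ?_, ?_⟩
    · show _ ∈ gam (idealAdd 𝒯 mT).toIdeal ↥(segSub 𝒜 ℬ 𝒯 ψ hT (EM.X n).gr 𝒩)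
      rw [idealAdd_toIdeal, hmT]
      exact (mem_gam_segSub_iff 𝒜 ℬ 𝒯 ψ hT (EM.X n).gr 𝒩 _).2 htors
    · apply segVal_injective 𝒜 ℬ 𝒯 ψ hT (EM.X (n + 1)).gr 𝒩
      show sv 𝒜 ℬ 𝒯 ψ hT ℳ EM 𝒩 (n + 1) ((ER 𝒜 ℬ 𝒯 ψ hT ℳ EM 𝒩 𝒬 φ hP).d n _) = _
      rw [sv_ER_d]
      show tmap k (EM.d n) (LinearMap.id : N →ₗ[S] N) (diag 𝒜 ℬ (EM.X n).gr 𝒩 u) = _
      rw [← diag_tmap 𝒜 ℬ (EM.X n).gr 𝒩 (EM.X (n + 1)).gr 𝒩 (EM.d n) (EM.d_grHom n) LinearMap.id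
        (fun _ _ h => h), huz]
      exact diag_of_mem_segK 𝒜 ℬ (EM.X (n + 1)).gr 𝒩
        (segVal_mem 𝒜 ℬ 𝒯 ψ hT (EM.X (n + 1)).gr 𝒩 z)

end Noeth

end TSide

end Groth.Agent.Lib.helper26.Kun
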