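import Mathlib
import Groth.Agent.Lib.Helper26.KunC

/-!
# Elements of a total complex supported at one position (helper26)

For a first-quadrant double complex `V p q` (KunC): `tsingle n p q h z`, the element of `Tot V n`
with the single component `z : V p q`; the formula for its total differential; and consequences
for a family of submodules `G p q ⊆ V p q` ("torsion"):

* `totD_tsingle`
* `totD_tsingle_mem_TG`, `tsingle_mem_TG`
* `totD_tsingle_dh_mem`, `totD_tsingle_dv_mem` : `D(e(dh z))`, `D(e(dv z))` are coboundaries of the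
  subcomplex `Tot G` when `dv z`, resp. `dh z`, lies in `G`
* `exists_of_totD_tsingle_mem` : if `D(e(z))` is a coboundary of `Tot G` (and `Tot V` is exact)
  then `z ∈ G + im dh + im dv`.
-/

set_option autoImplicit false
set_option linter.unusedSectionVars false
universe u

namespace Groth.Agent.Lib.helper26.Kun

section TSingle

variable {A : Type u} [CommRing A] {V : ℕ → ℕ → Type u} [∀ p q, AddCommGroup (V p q)]
  [∀ p q, Module A (V p q)]
  (dh : ∀ p q, V p q →ₗ[A] V (p + 1) q) (dv : ∀ p q, V p q →ₗ[A] V p (q + 1))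

/-- the element of the global space supported at `(p, q)` -/
def gs (p q : ℕ) (z : V p q) : GT V := Pi.single p (Pi.single q z)

theorem gs_same (p q : ℕ) (z : V p q) : gs p q z p q = z := by
  unfold gs
  rw [Pi.single_eq_same, Pi.single_eq_same]

theorem gs_of_ne_left (p q : ℕ) (z : V p q) {a : ℕ} (b : ℕ) (h : a ≠ p) : gs p q z a b = 0 := by
  unfold gs
  rw [Pi.single_eq_of_ne h]
  rfl

theorem gs_of_ne_right (p q : ℕ) (z : V p q) {b : ℕ} (h : b ≠ q) : gs p q z p b = 0 := by
  unfold gs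
  rw [Pi.single_eq_same, Pi.single_eq_of_ne h]

theorem gs_of_ne (p q : ℕ) (z : V p q) {a b : ℕ} (h : ¬ (a = p ∧ b = q)) : gs p q z a b = 0 := by
  by_cases ha : a = p
  · subst ha
    exact gs_of_ne_right a q z (fun hb => h ⟨rfl, hb⟩)
  · exact gs_of_ne_left p q z b ha

theorem gs_add (p q : ℕ) (z z' : V p q) : gs p q (z + z') = gs p q z + gs p q z' := by
  unfold gs
  rw [Pi.single_add, Pi.single_add]

/-- the element of the total complex supported at `(p, q)` -/
def tsingle (n p q : ℕ) (h : p + q = n) (z : V p q) : Tot V n :=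
  Pi.single (⟨(p, q), h⟩ : AD n) z

theorem tsingle_same (n p q : ℕ) (h : p + q = n) (z : V p q) :
    tsingle n p q h z ⟨(p, q), h⟩ = z :=
  Pi.single_eq_same _ _

theorem tsingle_of_ne (n p q : ℕ) (h : p + q = n) (z : V p q) (pq : AD n) (hne : pq.1 ≠ (p, q)) :
    tsingle n p q h z pq = 0 :=
  Pi.single_eq_of_ne (fun e => hne (by rw [e])) _

theorem tsingle_add (n p q : ℕ) (h : p + q = n) (z z' : V p q) :
    tsingle n p q h (z + z') = tsingle n p q h z + tsingle n p q h z' :=
  Pi.single_add _ _ _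

theorem tsingle_neg (n p q : ℕ) (h : p + q = n) (z : V p q) :
    tsingle n p q h (-z) = -tsingle n p q h z :=
  Pi.single_neg _ _

theorem tsingle_zero (n p q : ℕ) (h : p + q = n) : tsingle n p q h (0 : V p q) = 0 :=
  Pi.single_zero _

theorem tsingle_smul (n p q : ℕ) (h : p + q = n) (a : A) (z : V p q) :
    tsingle n p q h (a • z) = a • tsingle n p q h z :=
  Pi.single_smul _ _ _

/-- `tsingle` as a linear map -/
def tsingleL (n p q : ℕ) (h : p + q = n) : V p q →ₗ[A] Tot V n where
  toFun := tsingle n p q h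
  map_add' := tsingle_add n p q h
  map_smul' := tsingle_smul n p q h

@[simp] theorem tsingleL_apply (n p q : ℕ) (h : p + q = n) (z : V p q) :
    tsingleL (A := A) n p q h z = tsingle n p q h z := rfl

theorem iota_tsingle (n p q : ℕ) (h : p + q = n) (z : V p q) :
    iota A n (tsingle n p q h z) = gs p q z := by
  funext a b
  by_cases hab : a = p ∧ b = q
  · obtain ⟨rfl, rfl⟩ := hab
    rw [iota_of_eq _ h, gs_same]
    exact tsingle_same n a b h z
  · rw [gs_of_ne p q z hab]
    by_cases hn : a + b = n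
    · rw [iota_of_eq _ hn]
      apply tsingle_of_ne
      intro e
      simp only [Prod.mk.injEq] at e
      exact hab e
    · exact iota_of_ne _ hn

theorem DG_gs (p q : ℕ) (z : V p q) :
    DG dh dv (gs p q z) = gs (p + 1) q (dh p q z) + gs p (q + 1) (sg p (dv p q z)) := by
  funext a b
  rw [DG_apply]
  show _ = gs (p + 1) q (dh p q z) a b + gs p (q + 1) (sg p (dv p q z)) a b
  have h1 : dhG dh (gs p q z) a b = gs (p + 1) q (dh p q z) a b := by
    cases a with
    | zero =>
      rw [dhG_zero, gs_of_ne_left _ _ _ _ (by omega)]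
    | succ a =>
      rw [dhG_succ]
      by_cases hab : a = p ∧ b = q
      · obtain ⟨rfl, rfl⟩ := hab
        rw [gs_same, gs_same]
      · rw [gs_of_ne p q z hab, map_zero, gs_of_ne]
        intro h
        exact hab ⟨by omega, h.2⟩
  have h2 : dvG dv (gs p q z) a b = gs p (q + 1) (sg p (dv p q z)) a b := by
    cases b with
    | zero =>
      rw [dvG_zero, gs_of_ne]
      intro h
      omega
    | succ b =>
      rw [dvG_succ]
      by_cases hab : a = p ∧ b = q
      · obtain ⟨rfl, rfl⟩ := hab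
        rw [gs_same, gs_same]
      · rw [gs_of_ne p q z hab, map_zero, sg_zero, gs_of_ne]
        intro h
        exact hab ⟨h.1, by omega⟩
  rw [h1, h2]

theorem totD_tsingle (n p q : ℕ) (h : p + q = n) (z : V p q) :
    totD dh dv n (tsingle n p q h z) =
      tsingle (n + 1) (p + 1) q (by omega) (dh p q z) +
        tsingle (n + 1) p (q + 1) (by omega) (sg p (dv p q z)) := by
  apply iota_injective (A := A)
  rw [iota_totD, iota_tsingle, map_add, iota_tsingle, iota_tsingle, DG_gs]

end TSingle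

section Torsion

variable {A : Type u} [CommRing A] {V : ℕ → ℕ → Type u} [∀ p q, AddCommGroup (V p q)]
  [∀ p q, Module A (V p q)]
  (dh : ∀ p q, V p q →ₗ[A] V (p + 1) q) (dv : ∀ p q, V p q →ₗ[A] V p (q + 1))
  (G : ∀ p q, Submodule A (V p q))

/-- the elements of the total complex with all components in `G` -/
def TG (n : ℕ) : Submodule A (Tot V n) :=
  Submodule.pi Set.univ (fun pq : AD n => G pq.1.1 pq.1.2)

theorem mem_TG {n : ℕ} {x : Tot V n} : x ∈ TG G n ↔ ∀ pq : AD n, x pq ∈ G pq.1.1 pq.1.2 := by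
  unfold TG
  rw [Submodule.mem_pi]
  exact ⟨fun h pq => h pq (Set.mem_univ _), fun h pq _ => h pq⟩

theorem tsingle_mem_TG (n p q : ℕ) (h : p + q = n) {z : V p q} (hz : z ∈ G p q) :
    tsingle n p q h z ∈ TG G n := by
  rw [mem_TG]
  intro pq
  by_cases hpq : pq.1 = (p, q)
  · obtain ⟨⟨a, b⟩, hab⟩ := pq
    simp only [Prod.mk.injEq] at hpq
    obtain ⟨rfl, rfl⟩ := hpq
    rw [tsingle_same]
    exact hz
  · rw [tsingle_of_ne n p q h z pq hpq]
    exact zero_mem _

theorem sg_eq_or {M : Type*} [AddCommGroup M] (p : ℕ) (y : M) : sg p y = y ∨ sg p y = -y := by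
  unfold sg
  rcases Nat.even_or_odd p with h | h
  · left
    rw [h.neg_one_pow, one_smul]
  · right
    rw [h.neg_one_pow, neg_one_smul]

theorem sg_mem_sub {M : Type*} [AddCommGroup M] [Module A M] (P : Submodule A M) (p : ℕ) {y : M}
    (hy : y ∈ P) : sg p y ∈ P := by
  unfold sg
  exact P.toAddSubgroup.zsmul_mem hy _

theorem totD_tsingle_mem_TG (n p q : ℕ) (h : p + q = n) {z : V p q}
    (hz1 : dh p q z ∈ G (p + 1) q) (hz2 : dv p q z ∈ G p (q + 1)) :
    totD dh dv n (tsingle n p q h z) ∈ TG G (n + 1) := by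
  rw [totD_tsingle]
  exact add_mem (tsingle_mem_TG G _ _ _ _ hz1) (tsingle_mem_TG G _ _ _ _ (sg_mem_sub _ _ hz2))

variable (hh : ∀ p q x, dh (p + 1) q (dh p q x) = 0) (hv : ∀ p q x, dv p (q + 1) (dv p q x) = 0)
  (hc : ∀ p q x, dv (p + 1) q (dh p q x) = dh p (q + 1) (dv p q x))

include hh hv hc in
/-- `D(e(dh z))` is a coboundary of `Tot G` when `dv z ∈ G` -/
theorem totD_tsingle_dh_mem (m p q : ℕ) (h : p + q = m) (z : V p q)
    (hz : dv p q z ∈ G p (q + 1)) :
    totD dh dv (m + 1) (tsingle (m + 1) (p + 1) q (by omega) (dh p q z)) ∈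
      (TG G (m + 1)).map (totD dh dv (m + 1)) := by
  have h1 := totD_tsingle dh dv m p q h z
  have h2 : tsingle (m + 1) (p + 1) q (by omega) (dh p q z) =
      totD dh dv m (tsingle m p q h z) -
        tsingle (m + 1) p (q + 1) (by omega) (sg p (dv p q z)) := by
    rw [h1, add_sub_cancel_right]
  rw [h2, map_sub, totD_totD dh dv hh hv hc, zero_sub, ← map_neg]
  exact ⟨_, neg_mem (tsingle_mem_TG G _ _ _ _ (sg_mem_sub _ _ hz)), rfl⟩

include hh hv hc in
/-- `D(e(dv z))` is a coboundary of `Tot G` when `dh z ∈ G` -/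
theorem totD_tsingle_dv_mem (m p q : ℕ) (h : p + q = m) (z : V p q)
    (hz : dh p q z ∈ G (p + 1) q) :
    totD dh dv (m + 1) (tsingle (m + 1) p (q + 1) (by omega) (dv p q z)) ∈
      (TG G (m + 1)).map (totD dh dv (m + 1)) := by
  have h1 := totD_tsingle dh dv m p q h z
  have h2 : tsingle (m + 1) p (q + 1) (by omega) (sg p (dv p q z)) =
      totD dh dv m (tsingle m p q h z) -
        tsingle (m + 1) (p + 1) q (by omega) (dh p q z) := by
    rw [h1, add_sub_cancel_left]
  have h4 : totD dh dv (m + 1) (tsingle (m + 1) p (q + 1) (by omega) (sg p (dv p q z))) ∈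
      (TG G (m + 1)).map (totD dh dv (m + 1)) := by
    rw [h2, map_sub, totD_totD dh dv hh hv hc, zero_sub, ← map_neg]
    exact ⟨_, neg_mem (tsingle_mem_TG G _ _ _ _ hz), rfl⟩
  rcases sg_eq_or p (dv p q z) with h5 | h5
  · rw [h5] at h4
    exact h4
  · rw [h5, tsingle_neg, map_neg] at h4
    have := neg_mem h4
    rwa [neg_neg] at this

include hh hv hc in
/-- if `D(e(z))` is a coboundary of `Tot G` and `Tot V` is exact then `z ∈ G + im dh + im dv` -/
theorem exists_of_totD_tsingle_mem (m p q : ℕ) (h : (p + 1) + (q + 1) = m + 1) (z : V (p + 1) (q + 1))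
    (hex : LinearMap.ker (totD dh dv (m + 1)) ≤ LinearMap.range (totD dh dv m))
    (hz : totD dh dv (m + 1) (tsingle (m + 1) (p + 1) (q + 1) h z) ∈
      (TG G (m + 1)).map (totD dh dv (m + 1))) :
    ∃ g ∈ G (p + 1) (q + 1), ∃ (u₁ : V p (q + 1)) (u₂ : V (p + 1) q),
      z = g + dh p (q + 1) u₁ + sg (p + 1) (dv (p + 1) q u₂) := by
  obtain ⟨g', hg', hgz⟩ := hz
  have h1 : tsingle (m + 1) (p + 1) (q + 1) h z - g' ∈ LinearMap.ker (totD dh dv (m + 1)) := by
    rw [LinearMap.mem_ker, map_sub, hgz, sub_self]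
  obtain ⟨u, hu⟩ := hex h1
  have h2 := congrFun hu ⟨(p + 1, q + 1), h⟩
  rw [totD_apply_succ_succ] at h2
  have h3 : (tsingle (m + 1) (p + 1) (q + 1) h z - g') ⟨(p + 1, q + 1), h⟩ =
      z - g' ⟨(p + 1, q + 1), h⟩ := by
    show tsingle (m + 1) (p + 1) (q + 1) h z ⟨(p + 1, q + 1), h⟩ - _ = _
    rw [tsingle_same]
  rw [h3] at h2
  refine ⟨g' ⟨(p + 1, q + 1), h⟩, (mem_TG G).1 hg' ⟨(p + 1, q + 1), h⟩,
    u ⟨(p, q + 1), by omega⟩, u ⟨(p + 1, q), by omega⟩, ?_⟩
  rw [add_assoc, h2]
  abel

end Torsion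

end Groth.Agent.Lib.helper26.Kun
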