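import Mathlib
import Groth.Prelude.Def_GrLC
import Groth.Agent.Lib.Helper19.GrMod
import Groth.Agent.Lib.Helper26.KunO

/-!
# Relative cocycles of a *injective resolution (helper26)

For a *injective resolution `E` of a graded `R`-module and a homogeneous ideal `a`:
`Zt E a p = {x ∈ E^p : d x ∈ Γ_a(E^{p+1})}`, a graded submodule of `E^p`, and the connecting map
`ct E a p : Zt E a p → H^{p+1}_a(M)`, `x ↦ [d x]`.

* `ct_isGrHom`, `exists_ct_eq` (surjective on each piece), `ct_eq_zero` (the kernel is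
  `Γ_a(E^p) + im d`, homogeneously), `ct_of_mem_gam`, `ct_d`.
-/

set_option autoImplicit false
set_option linter.unusedSectionVars false
set_option linter.dupNamespace false
universe u

namespace Groth.Agent.Lib.helper26.Kun

open GrLC Groth.Agent.Lib.helper19.GrMod

section Zt

variable {ι : Type} [AddCommGroup ι] [DecidableEq ι]
variable {R : Type u} [CommRing R] {σ : Type u} [SetLike σ R] [AddSubgroupClass σ R]
  (𝒜 : ι → σ) [GradedRing 𝒜]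
  {M : Type u} [AddCommGroup M] [Module R M] (ℳ : ι → AddSubgroup M)
  [DirectSum.Decomposition ℳ] [SetLike.GradedSMul 𝒜 ℳ]
  (E : StarInjRes 𝒜 ℳ) (a : HomogeneousIdeal 𝒜)

/-- the relative cocycles -/
def Zt (p : ℕ) : Submodule R (E.X p).carrier :=
  (gam a.toIdeal (E.X (p + 1)).carrier).comap (E.d p)

theorem mem_Zt {p : ℕ} {x : (E.X p).carrier} :
    x ∈ Zt 𝒜 ℳ E a p ↔ E.d p x ∈ gam a.toIdeal (E.X (p + 1)).carrier := Iff.rfl

theorem E_dd (p : ℕ) (x : (E.X p).carrier) : E.d (p + 1) (E.d p x) = 0 :=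
  LinearMap.mem_ker.1 ((E.exact_succ p).symm ▸ LinearMap.mem_range_self _ x)

theorem gam_le_Zt (p : ℕ) : gam a.toIdeal (E.X p).carrier ≤ Zt 𝒜 ℳ E a p := by
  rintro x ⟨n, hn⟩
  refine ⟨n, fun r hr => ?_⟩
  rw [← map_smul, hn r hr, map_zero]

theorem d_mem_Zt (p : ℕ) (x : (E.X p).carrier) : E.d p x ∈ Zt 𝒜 ℳ E a (p + 1) := by
  rw [mem_Zt, E_dd]
  exact zero_mem _

/-- the connecting map `x ↦ [d x]` -/
noncomputable def ct (p : ℕ) : ↥(Zt 𝒜 ℳ E a p) →ₗ[R] E.H a (p + 1) :=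
  E.toH a (p + 1) ∘ₗ
    LinearMap.codRestrict (E.cocyc a (p + 1)) (E.d p ∘ₗ (Zt 𝒜 ℳ E a p).subtype)
      (fun x => ⟨x.2, LinearMap.mem_ker.2 (E_dd 𝒜 ℳ E p x.1)⟩)

theorem ct_apply (p : ℕ) (x : ↥(Zt 𝒜 ℳ E a p)) :
    ct 𝒜 ℳ E a p x = E.toH a (p + 1) ⟨E.d p x.1, ⟨x.2, LinearMap.mem_ker.2 (E_dd 𝒜 ℳ E p x.1)⟩⟩ :=
  rfl

theorem toH_eq_zero_iff' (n : ℕ) (z : ↥(E.cocyc a n)) :
    E.toH a n z = 0 ↔ (z : (E.X n).carrier) ∈ E.cobdy a n := by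
  rw [Submodule.mkQ_apply, Submodule.Quotient.mk_eq_zero]
  rfl

theorem ct_isGrHom (p : ℕ) :
    IsGrHom (subPiece (E.X p).gr (Zt 𝒜 ℳ E a p)) (E.Hgr a (p + 1)) (ct 𝒜 ℳ E a p) := by
  intro g x hx
  exact ⟨⟨E.d p x.1, ⟨x.2, LinearMap.mem_ker.2 (E_dd 𝒜 ℳ E p x.1)⟩⟩, E.d_grHom p g x.1 hx, rfl⟩

theorem ct_of_mem_gam (p : ℕ) (x : ↥(Zt 𝒜 ℳ E a p))
    (hx : (x : (E.X p).carrier) ∈ gam a.toIdeal (E.X p).carrier) : ct 𝒜 ℳ E a p x = 0 := by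
  rw [ct_apply, toH_eq_zero_iff']
  exact ⟨x.1, hx, rfl⟩

theorem ct_d (p : ℕ) (x : ↥(Zt 𝒜 ℳ E a (p + 1))) (y : (E.X p).carrier)
    (hx : (x : (E.X (p + 1)).carrier) = E.d p y) : ct 𝒜 ℳ E a (p + 1) x = 0 := by
  rw [ct_apply, toH_eq_zero_iff']
  have : E.d (p + 1) x.1 = 0 := by rw [hx, E_dd]
  show E.d (p + 1) x.1 ∈ _
  rw [this]
  exact zero_mem _

/-- `ct` is surjective on each piece -/
theorem exists_ct_eq (p : ℕ) (g : ι) (y : E.H a (p + 1)) (hy : y ∈ E.Hgr a (p + 1) g) :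
    ∃ x : ↥(Zt 𝒜 ℳ E a p), (x : (E.X p).carrier) ∈ (E.X p).gr g ∧ ct 𝒜 ℳ E a p x = y := by
  classical
  obtain ⟨z, hz, rfl⟩ := hy
  have h1 : (z : (E.X (p + 1)).carrier) ∈ LinearMap.range (E.d p) := by
    rw [← E.exact_succ p]
    exact z.2.2
  obtain ⟨x, hx⟩ := h1
  have h2 : E.d p ((DirectSum.decompose (E.X p).gr x g : (E.X p).gr g) : (E.X p).carrier) =
      (z : (E.X (p + 1)).carrier) := by
    rw [← grHom_decompose (E.X p).gr (E.X (p + 1)).gr (E.d p) (E.d_grHom p) x g, hx]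
    exact DirectSum.decompose_of_mem_same _ hz
  refine ⟨⟨((DirectSum.decompose (E.X p).gr x g : (E.X p).gr g) : (E.X p).carrier), ?_⟩,
    SetLike.coe_mem _, ?_⟩
  · rw [mem_Zt, h2]
    exact z.2.1
  · rw [ct_apply]
    congr 1
    exact Subtype.ext h2

end Zt

section ZtHom

variable {ι : Type} [AddCommGroup ι] [DecidableEq ι]
variable {R : Type u} [CommRing R] (𝒜 : ι → AddSubgroup R) [GradedRing 𝒜]
  {M : Type u} [AddCommGroup M] [Module R M] (ℳ : ι → AddSubgroup M)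
  [DirectSum.Decomposition ℳ] [SetLike.GradedSMul 𝒜 ℳ]
  (E : StarInjRes 𝒜 ℳ) (a : HomogeneousIdeal 𝒜)

theorem Zt_isHomogeneous (p : ℕ) : (Zt 𝒜 ℳ E a p).IsHomogeneous (E.X p).gr := by
  classical
  intro g x hx
  rw [mem_Zt] at hx ⊢
  rw [← grHom_decompose (E.X p).gr (E.X (p + 1)).gr (E.d p) (E.d_grHom p) x g]
  exact gam_isHomogeneous 𝒜 a (E.X (p + 1)).gr g hx

/-- the kernel of `ct`, homogeneously: `Γ_a(E^{p+1}) + d(E^p)` -/
theorem exists_of_ct_eq_zero (p : ℕ) (g : ι) (x : ↥(Zt 𝒜 ℳ E a (p + 1)))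
    (hx : (x : (E.X (p + 1)).carrier) ∈ (E.X (p + 1)).gr g) (h0 : ct 𝒜 ℳ E a (p + 1) x = 0) :
    ∃ x₀ ∈ gam a.toIdeal (E.X (p + 1)).carrier, x₀ ∈ (E.X (p + 1)).gr g ∧
      ∃ x₁ ∈ (E.X p).gr g, (x : (E.X (p + 1)).carrier) = x₀ + E.d p x₁ := by
  classical
  rw [ct_apply, toH_eq_zero_iff'] at h0
  obtain ⟨y, hy, hyx⟩ := h0
  have hyx' : E.d (p + 1) y = E.d (p + 1) x.1 := hyx
  set y₀ : (E.X (p + 1)).carrier :=
    ((DirectSum.decompose (E.X (p + 1)).gr y g : (E.X (p + 1)).gr g) : (E.X (p + 1)).carrier)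
    with hy₀
  have hy₀g : y₀ ∈ gam a.toIdeal (E.X (p + 1)).carrier :=
    gam_isHomogeneous 𝒜 a (E.X (p + 1)).gr g hy
  have hdy₀ : E.d (p + 1) y₀ = E.d (p + 1) x.1 := by
    rw [hy₀, ← grHom_decompose (E.X (p + 1)).gr (E.X (p + 2)).gr (E.d (p + 1)) (E.d_grHom (p + 1)) y g,
      hyx']
    exact DirectSum.decompose_of_mem_same _ (E.d_grHom (p + 1) g x.1 hx)
  have h1 : x.1 - y₀ ∈ LinearMap.range (E.d p) := by
    rw [← E.exact_succ p, LinearMap.mem_ker, map_sub, hdy₀, sub_self]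
  obtain ⟨w, hw⟩ := h1
  have h2 : x.1 - y₀ ∈ (E.X (p + 1)).gr g := sub_mem hx (SetLike.coe_mem _)
  refine ⟨y₀, hy₀g, SetLike.coe_mem _,
    ((DirectSum.decompose (E.X p).gr w g : (E.X p).gr g) : (E.X p).carrier), SetLike.coe_mem _, ?_⟩
  rw [← grHom_decompose (E.X p).gr (E.X (p + 1)).gr (E.d p) (E.d_grHom p) w g, hw,
    DirectSum.decompose_of_mem_same _ h2]
  abel

end ZtHom

end Groth.Agent.Lib.helper26.Kun
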