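import Mathlib
import Groth.Prelude.Def_GrLC
import Groth.Prelude.Def_GrSeg
import Groth.Agent.Lib.Helper26.KunN
import Groth.Agent.Lib.Helper26.KunO
import Groth.Agent.Lib.Helper26.KunAB
import Groth.Agent.Lib.Helper26.KunTop1
import Groth.Agent.Lib.Helper26.KunTop2

/-!
# The top Künneth map for Segre products: construction (helper26)

`EM`, `EN` *injective resolutions of `M`, `N`; `Z̃_R ⊆ EM^{r+1}`, `Z̃_S ⊆ EN^{s+1}` the relative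
cocycles.  The `T`-linear map
`Φ̃ : Z̃_R # Z̃_S → H^{r+s+3}(Γ_{T₊} Tot(EM^• # EN^•))`, `x ⊗ y ↦ [D(x ⊗ y)]`.
-/

set_option autoImplicit false
set_option linter.unusedSectionVars false
set_option linter.dupNamespace false
universe u
open scoped TensorProduct

namespace Groth.Agent.Lib.helper26.Kun

open GrLC Groth.Agent.Lib.helper19.GrConv Groth.Agent.Lib.helper19.GrMod
  Groth.Agent.Lib.helper26.Seg Groth.Agent.Lib.helper26.GrCM Groth.Agent.Lib.helper26.Acyc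

section ZtInst

variable {k : Type u} [Field k] {R : Type u} [CommRing R] [Algebra k R]
  (𝒜 : ℤ → Submodule k R) [GradedAlgebra 𝒜]
  {M : Type u} [AddCommGroup M] [Module R M] (ℳ : ℤ → AddSubgroup M)
  [DirectSum.Decomposition ℳ] [SetLike.GradedSMul 𝒜 ℳ]
  (E : StarInjRes 𝒜 ℳ) (a : HomogeneousIdeal 𝒜)

attribute [local instance] gsmulAdd

/-- the pieces of the relative cocycles -/
abbrev ZtGr (p : ℕ) : ℤ → AddSubgroup ↥(Zt 𝒜 ℳ E a p) :=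
  subPiece (E.X p).gr (Zt 𝒜 ℳ E a p)

theorem Zt_isHomogeneous' (p : ℕ) : (Zt 𝒜 ℳ E a p).IsHomogeneous (E.X p).gr :=
  Zt_isHomogeneous (addGr 𝒜) ℳ (resAddG 𝒜 ℳ E) (idealAdd 𝒜 a) p

/-- the decomposition of the relative cocycles -/
@[instance_reducible]
noncomputable def ZtDec (p : ℕ) : DirectSum.Decomposition (ZtGr 𝒜 ℳ E a p) :=
  subDecomposition (E.X p).gr (Zt 𝒜 ℳ E a p) (Zt_isHomogeneous' 𝒜 ℳ E a p)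

theorem ZtGSMul (p : ℕ) : SetLike.GradedSMul 𝒜 (ZtGr 𝒜 ℳ E a p) :=
  sub_gradedSMul 𝒜 (E.X p).gr (Zt 𝒜 ℳ E a p)

end ZtInst

section Main

variable {k : Type u} [Field k] {R : Type u} [CommRing R] [Algebra k R]
  (𝒜 : ℤ → Submodule k R) [GradedAlgebra 𝒜]
  {S : Type u} [CommRing S] [Algebra k S] (ℬ : ℤ → Submodule k S) [GradedAlgebra ℬ]
  {T : Type u} [CommRing T] [Algebra k T] (𝒯 : ℤ → Submodule k T) [GradedAlgebra 𝒯]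
  (ψ : T →ₐ[k] R ⊗[k] S) (hT : GrSeg.IsSegreRing 𝒜 ℬ 𝒯 ψ)
  {M : Type u} [AddCommGroup M] [Module R M] [Module k M] [IsScalarTower k R M]
  (ℳ : ℤ → AddSubgroup M) [DirectSum.Decomposition ℳ] [SetLike.GradedSMul 𝒜 ℳ]
  (EM : StarInjRes 𝒜 ℳ) [∀ p, Module k (EM.X p).carrier] [∀ p, IsScalarTower k R (EM.X p).carrier]
  {N : Type u} [AddCommGroup N] [Module S N] [Module k N] [IsScalarTower k S N]
  (𝒩 : ℤ → AddSubgroup N) [DirectSum.Decomposition 𝒩] [SetLike.GradedSMul ℬ 𝒩]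
  (EN : StarInjRes ℬ 𝒩) [∀ q, Module k (EN.X q).carrier] [∀ q, IsScalarTower k S (EN.X q).carrier]
  {P : Type u} [AddCommGroup P] [Module T P] [Module k P] [IsScalarTower k T P]
  (𝒬 : ℤ → AddSubgroup P) [DirectSum.Decomposition 𝒬] [SetLike.GradedSMul 𝒯 𝒬]
  (φ : P →ₗ[k] M ⊗[k] N) (hP : GrSeg.IsSegreMod ψ ℳ 𝒩 𝒬 φ)
  (mR : HomogeneousIdeal 𝒜) (hmR : mR.toIdeal = irr 𝒜)
  (mS : HomogeneousIdeal ℬ) (hmS : mS.toIdeal = irr ℬ)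
  (mT : HomogeneousIdeal 𝒯) (hmT : mT.toIdeal = irr 𝒯)
  (r s : ℕ)

attribute [local instance] gsmulAdd ZtDec ZtGSMul

/-- the total resolution `Tot(EM^• # EN^•)` of `M # N` -/
noncomputable abbrev TRes : GRes (addGr 𝒯) 𝒬 :=
  totRes 𝒜 ℬ 𝒯 ψ hT (fun p => (EM.X p).gr) EM.d EM.d_grHom (fun q => (EN.X q).gr) EN.d
    EN.d_grHom (E_d_d 𝒜 ℳ EM) (E_exact 𝒜 ℳ EM) (E_d_d ℬ 𝒩 EN) (E_exact ℬ 𝒩 EN)
    ℳ EM.ε EM.ε_grHom EM.ε_injective EM.exact_zero 𝒩 EN.ε EN.ε_grHom EN.ε_injective EN.exact_zero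
    𝒬 φ hP

/-- the Segre product of the relative cocycles -/
abbrev WZ : Type u :=
  ↥(segSub 𝒜 ℬ 𝒯 ψ hT (ZtGr 𝒜 ℳ EM mR (r + 1)) (ZtGr ℬ 𝒩 EN mS (s + 1)))

/-- the inclusion `Z̃_R # Z̃_S → EM^{r+1} # EN^{s+1}` -/
noncomputable def iotaW :
    WZ 𝒜 ℬ 𝒯 ψ hT ℳ EM 𝒩 EN mR mS r s →ₗ[T]
      segV 𝒜 ℬ 𝒯 ψ hT (fun p => (EM.X p).gr) (fun q => (EN.X q).gr) (r + 1) (s + 1) :=
  segMap 𝒜 ℬ 𝒯 ψ hT (ZtGr 𝒜 ℳ EM mR (r + 1)) (ZtGr ℬ 𝒩 EN mS (s + 1))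
    (EM.X (r + 1)).gr (EN.X (s + 1)).gr
    (Zt 𝒜 ℳ EM mR (r + 1)).subtype (subtype_isGrHom (EM.X (r + 1)).gr (Zt 𝒜 ℳ EM mR (r + 1)))
    (Zt ℬ 𝒩 EN mS (s + 1)).subtype (subtype_isGrHom (EN.X (s + 1)).gr (Zt ℬ 𝒩 EN mS (s + 1)))

variable [IsNoetherianRing R] [IsNoetherianRing S]

/-- the `T₊`-torsion of the terms of the double complex -/
noncomputable abbrev gamV (p q : ℕ) :
    Submodule T (segV 𝒜 ℬ 𝒯 ψ hT (fun p => (EM.X p).gr) (fun q => (EN.X q).gr) p q) :=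
  gam (irr 𝒯) (segV 𝒜 ℬ 𝒯 ψ hT (fun p => (EM.X p).gr) (fun q => (EN.X q).gr) p q)

include hmR in
theorem sdh_iotaW_mem (w : WZ 𝒜 ℬ 𝒯 ψ hT ℳ EM 𝒩 EN mR mS r s) :
    sdh 𝒜 ℬ 𝒯 ψ hT (fun p => (EM.X p).gr) EM.d EM.d_grHom (fun q => (EN.X q).gr) (r + 1) (s + 1)
        (iotaW 𝒜 ℬ 𝒯 ψ hT ℳ EM 𝒩 EN mR mS r s w) ∈
      gamV 𝒜 ℬ 𝒯 ψ hT ℳ EM 𝒩 EN (r + 1 + 1) (s + 1) := by
  rw [mem_gam_seg_iff]
  show IsTors 𝒯 ψ (tmap k (EM.d (r + 1)) (LinearMap.id : (EN.X (s + 1)).carrier →ₗ[S] _)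
    (tmap k (Zt 𝒜 ℳ EM mR (r + 1)).subtype (Zt ℬ 𝒩 EN mS (s + 1)).subtype
      (segVal 𝒜 ℬ 𝒯 ψ hT (ZtGr 𝒜 ℳ EM mR (r + 1)) (ZtGr ℬ 𝒩 EN mS (s + 1)) w)))
  generalize segVal 𝒜 ℬ 𝒯 ψ hT (ZtGr 𝒜 ℳ EM mR (r + 1)) (ZtGr ℬ 𝒩 EN mS (s + 1)) w = v
  induction v using TensorProduct.induction_on with
  | zero => rw [map_zero, map_zero]; exact isTors_zero 𝒯 ψ
  | tmul x y =>
    rw [tmap_tmul, tmap_tmul]
    apply isTors_tmul_left 𝒜 ℬ 𝒯 ψ hT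
    rw [← hmR]
    exact x.2
  | add v v' h h' => rw [map_add, map_add]; exact isTors_add 𝒯 ψ h h'

include hmS in
theorem sdv_iotaW_mem (w : WZ 𝒜 ℬ 𝒯 ψ hT ℳ EM 𝒩 EN mR mS r s) :
    sdv 𝒜 ℬ 𝒯 ψ hT (fun p => (EM.X p).gr) (fun q => (EN.X q).gr) EN.d EN.d_grHom (r + 1) (s + 1)
        (iotaW 𝒜 ℬ 𝒯 ψ hT ℳ EM 𝒩 EN mR mS r s w) ∈
      gamV 𝒜 ℬ 𝒯 ψ hT ℳ EM 𝒩 EN (r + 1) (s + 1 + 1) := by
  rw [mem_gam_seg_iff]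
  show IsTors 𝒯 ψ (tmap k (LinearMap.id : (EM.X (r + 1)).carrier →ₗ[R] _) (EN.d (s + 1))
    (tmap k (Zt 𝒜 ℳ EM mR (r + 1)).subtype (Zt ℬ 𝒩 EN mS (s + 1)).subtype
      (segVal 𝒜 ℬ 𝒯 ψ hT (ZtGr 𝒜 ℳ EM mR (r + 1)) (ZtGr ℬ 𝒩 EN mS (s + 1)) w)))
  generalize segVal 𝒜 ℬ 𝒯 ψ hT (ZtGr 𝒜 ℳ EM mR (r + 1)) (ZtGr ℬ 𝒩 EN mS (s + 1)) w = v
  induction v using TensorProduct.induction_on with
  | zero => rw [map_zero, map_zero]; exact isTors_zero 𝒯 ψ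
  | tmul x y =>
    rw [tmap_tmul, tmap_tmul]
    apply isTors_tmul_right 𝒜 ℬ 𝒯 ψ hT
    rw [← hmS]
    exact y.2
  | add v v' h h' => rw [map_add, map_add]; exact isTors_add 𝒯 ψ h h'

end Main

end Groth.Agent.Lib.helper26.Kun
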