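import Mathlib
import Groth.Prelude.Def_GrLC
import Groth.Prelude.Def_GrSeg
import Groth.Agent.Lib.Helper26.KunTop3

/-!
# The top Künneth map for Segre products: the map `Φ̃` (helper26)

`Φ̃ : Z̃_R # Z̃_S → H^{n+1}(Γ_{T₊} Tot(EM^• # EN^•))`, `n = (r+1)+(s+1)`, `w ↦ [D(e(w))]`;
criteria for `Φ̃ w = 0`.
-/

set_option autoImplicit false
set_option linter.unusedSectionVars false
set_option linter.dupNamespace false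
universe u
open scoped TensorProduct

namespace Groth.Agent.Lib.helper26.Kun

open GrLC Groth.Agent.Lib.helper19.GrConv Groth.Agent.Lib.helper19.GrMod
  Groth.Agent.Lib.helper26.Seg Groth.Agent.Lib.helper26.GrCM Groth.Agent.Lib.helper26.Acyc

section Main

variable {k : Type u} [Field k] {R : Type u} [CommRing R] [Algebra k R]
  (𝒜 : ℤ → Submodule k R) [GradedAlgebra 𝒜]
  {S : Type u} [CommRing S] [Algebra k S] (ℬ : ℤ → Submodule k S) [GradedAlgebra ℬ]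
  {T : Type u} [CommRing T] [Algebra k T] (𝒯 : ℤ → Submodule k T) [GradedAlgebra 𝒯]
  (ψ : T →ₐ[k] R ⊗[k] S) (hT : GrSeg.IsSegreRing 𝒜 ℬ 𝒯 ψ)
  {M : Type u} [AddCommGroup M] [Module R M] [Module k M] [IsScalarTower k R M]
  (ℳ : ℤ → AddSubgroup M) [DirectSum.Decomposition ℳ] [SetLike.GradedSMul 𝒜 ℳ]
  (EM : StarInjRes 𝒜 ℳ) [∀ p, Module k (EM.X p).carrier] [∀ p, IsScalarTower k R (EM.X p).carrier]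
  {N : Type u} [AddCommGroup N] [Module S N] [Module k N] [IsScalarTower k S N]
  (𝒩 : ℤ → AddSubgroup N) [DirectSum.Decomposition 𝒩] [SetLike.GradedSMul ℬ 𝒩]
  (EN : StarInjRes ℬ 𝒩) [∀ q, Module k (EN.X q).carrier] [∀ q, IsScalarTower k S (EN.X q).carrier]
  {P : Type u} [AddCommGroup P] [Module T P] [Module k P] [IsScalarTower k T P]
  (𝒬 : ℤ → AddSubgroup P) [DirectSum.Decomposition 𝒬] [SetLike.GradedSMul 𝒯 𝒬]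
  (φ : P →ₗ[k] M ⊗[k] N) (hP : GrSeg.IsSegreMod ψ ℳ 𝒩 𝒬 φ)
  (mR : HomogeneousIdeal 𝒜) (hmR : mR.toIdeal = irr 𝒜)
  (mS : HomogeneousIdeal ℬ) (hmS : mS.toIdeal = irr ℬ)
  (mT : HomogeneousIdeal 𝒯) (hmT : mT.toIdeal = irr 𝒯)
  (r s : ℕ)
  [IsNoetherianRing R] [IsNoetherianRing S]

attribute [local instance] gsmulAdd ZtDec ZtGSMul

set_option quotPrecheck false

local notation "VV" => segV 𝒜 ℬ 𝒯 ψ hT (fun p => (EM.X p).gr) (fun q => (EN.X q).gr)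
local notation "DH" =>
  sdh 𝒜 ℬ 𝒯 ψ hT (fun p => (EM.X p).gr) EM.d EM.d_grHom (fun q => (EN.X q).gr)
local notation "DV" =>
  sdv 𝒜 ℬ 𝒯 ψ hT (fun p => (EM.X p).gr) (fun q => (EN.X q).gr) EN.d EN.d_grHom
local notation "TR" => TRes 𝒜 ℬ 𝒯 ψ hT ℳ EM 𝒩 EN 𝒬 φ hP
local notation "GV" => gamV 𝒜 ℬ 𝒯 ψ hT ℳ EM 𝒩 EN
local notation "WW" => WZ 𝒜 ℬ 𝒯 ψ hT ℳ EM 𝒩 EN mR mS r s
local notation "IW" => iotaW 𝒜 ℬ 𝒯 ψ hT ℳ EM 𝒩 EN mR mS r s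

include hmT in
/-- torsion in the total complex is componentwise -/
theorem mem_gam_tot_iff (m : ℕ) (x : Tot VV m) :
    x ∈ gam (idealAdd 𝒯 mT).toIdeal ((TR).X m).carrier ↔ x ∈ TG GV m := by
  rw [idealAdd_toIdeal, hmT, mem_TG]
  exact mem_gam_pi_iff (irr 𝒯) _ x

include hmT in
theorem cobdy_succ_eq (m : ℕ) :
    (TR).cobdy (idealAdd 𝒯 mT) (m + 1) = (TG GV m).map (totD DH DV m) := by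
  ext x
  constructor
  · rintro ⟨y, hy, rfl⟩
    exact ⟨y, (mem_gam_tot_iff 𝒜 ℬ 𝒯 ψ hT ℳ EM 𝒩 EN 𝒬 φ hP mT hmT m y).1 hy, rfl⟩
  · rintro ⟨y, hy, rfl⟩
    exact ⟨y, (mem_gam_tot_iff 𝒜 ℬ 𝒯 ψ hT ℳ EM 𝒩 EN 𝒬 φ hP mT hmT m y).2 hy, rfl⟩

theorem TR_hh (p q : ℕ) (x : VV p q) : DH (p + 1) q (DH p q x) = 0 :=
  sdh_sdh 𝒜 ℬ 𝒯 ψ hT (fun p => (EM.X p).gr) EM.d EM.d_grHom (fun q => (EN.X q).gr)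
    (E_d_d 𝒜 ℳ EM) p q x

theorem TR_hv (p q : ℕ) (x : VV p q) : DV p (q + 1) (DV p q x) = 0 :=
  sdv_sdv 𝒜 ℬ 𝒯 ψ hT (fun p => (EM.X p).gr) (fun q => (EN.X q).gr) EN.d EN.d_grHom
    (E_d_d ℬ 𝒩 EN) p q x

theorem TR_hc (p q : ℕ) (x : VV p q) : DV (p + 1) q (DH p q x) = DH p (q + 1) (DV p q x) :=
  sdv_sdh 𝒜 ℬ 𝒯 ψ hT (fun p => (EM.X p).gr) EM.d EM.d_grHom (fun q => (EN.X q).gr) EN.d
    EN.d_grHom p q x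

variable (n : ℕ) (hn : (r + 1) + (s + 1) = n)

include hmR hmS hmT in
theorem cocW_mem (w : WW) :
    totD DH DV n (tsingle n (r + 1) (s + 1) hn (IW w)) ∈ (TR).cocyc (idealAdd 𝒯 mT) (n + 1) := by
  refine ⟨(mem_gam_tot_iff 𝒜 ℬ 𝒯 ψ hT ℳ EM 𝒩 EN 𝒬 φ hP mT hmT (n + 1) _).2 ?_, ?_⟩
  · exact totD_tsingle_mem_TG DH DV GV n (r + 1) (s + 1) hn
      (sdh_iotaW_mem 𝒜 ℬ 𝒯 ψ hT ℳ EM 𝒩 EN mR hmR mS r s w)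
      (sdv_iotaW_mem 𝒜 ℬ 𝒯 ψ hT ℳ EM 𝒩 EN mR mS hmS r s w)
  · exact LinearMap.mem_ker.2 ((TR).d_d n _)

/-- the cocycle `D(e(w))`, linearly in `w` -/
noncomputable def cocWL : WW →ₗ[T] ↥((TR).cocyc (idealAdd 𝒯 mT) (n + 1)) :=
  LinearMap.codRestrict _ (totD DH DV n ∘ₗ tsingleL n (r + 1) (s + 1) hn ∘ₗ IW)
    (fun w => cocW_mem 𝒜 ℬ 𝒯 ψ hT ℳ EM 𝒩 EN 𝒬 φ hP mR hmR mS hmS mT hmT r s n hn w)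

/-- **the map `Φ̃`** -/
noncomputable def PhiT : WW →ₗ[T] (TR).H (idealAdd 𝒯 mT) (n + 1) :=
  (TR).toH (idealAdd 𝒯 mT) (n + 1) ∘ₗ
    cocWL 𝒜 ℬ 𝒯 ψ hT ℳ EM 𝒩 EN 𝒬 φ hP mR hmR mS hmS mT hmT r s n hn

theorem PhiT_eq_zero_iff (w : WW) :
    PhiT 𝒜 ℬ 𝒯 ψ hT ℳ EM 𝒩 EN 𝒬 φ hP mR hmR mS hmS mT hmT r s n hn w = 0 ↔
      totD DH DV n (tsingle n (r + 1) (s + 1) hn (IW w)) ∈ (TG GV n).map (totD DH DV n) := by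
  rw [← cobdy_succ_eq 𝒜 ℬ 𝒯 ψ hT ℳ EM 𝒩 EN 𝒬 φ hP mT hmT n]
  exact (TR).toH_eq_zero_iff (idealAdd 𝒯 mT) (n + 1) _

/-- `Φ̃` kills the elements with torsion image -/
theorem PhiT_eq_zero_of_mem_gam (w : WW) (hw : IW w ∈ GV (r + 1) (s + 1)) :
    PhiT 𝒜 ℬ 𝒯 ψ hT ℳ EM 𝒩 EN 𝒬 φ hP mR hmR mS hmS mT hmT r s n hn w = 0 := by
  rw [PhiT_eq_zero_iff]
  exact ⟨_, tsingle_mem_TG GV n (r + 1) (s + 1) hn hw, rfl⟩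

/-- `Φ̃` kills the horizontal coboundaries of elements with torsion vertical differential -/
theorem PhiT_eq_zero_of_dh (w : WW) (z : VV r (s + 1)) (hz : DV r (s + 1) z ∈ GV r (s + 1 + 1))
    (hw : IW w = DH r (s + 1) z) :
    PhiT 𝒜 ℬ 𝒯 ψ hT ℳ EM 𝒩 EN 𝒬 φ hP mR hmR mS hmS mT hmT r s n hn w = 0 := by
  rw [PhiT_eq_zero_iff, hw]
  obtain ⟨m, rfl⟩ : ∃ m, n = m + 1 := ⟨r + (s + 1), by omega⟩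
  exact totD_tsingle_dh_mem DH DV GV (TR_hh 𝒜 ℬ 𝒯 ψ hT ℳ EM 𝒩 EN) (TR_hv 𝒜 ℬ 𝒯 ψ hT ℳ EM 𝒩 EN)
    (TR_hc 𝒜 ℬ 𝒯 ψ hT ℳ EM 𝒩 EN) m r (s + 1) (by omega) z hz

/-- `Φ̃` kills the vertical coboundaries of elements with torsion horizontal differential -/
theorem PhiT_eq_zero_of_dv (w : WW) (z : VV (r + 1) s) (hz : DH (r + 1) s z ∈ GV (r + 1 + 1) s)
    (hw : IW w = DV (r + 1) s z) :
    PhiT 𝒜 ℬ 𝒯 ψ hT ℳ EM 𝒩 EN 𝒬 φ hP mR hmR mS hmS mT hmT r s n hn w = 0 := by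
  rw [PhiT_eq_zero_iff, hw]
  obtain ⟨m, rfl⟩ : ∃ m, n = m + 1 := ⟨r + (s + 1), by omega⟩
  exact totD_tsingle_dv_mem DH DV GV (TR_hh 𝒜 ℬ 𝒯 ψ hT ℳ EM 𝒩 EN) (TR_hv 𝒜 ℬ 𝒯 ψ hT ℳ EM 𝒩 EN)
    (TR_hc 𝒜 ℬ 𝒯 ψ hT ℳ EM 𝒩 EN) m (r + 1) s (by omega) z hz

/-- the kernel of `Φ̃` -/
theorem exists_of_PhiT_eq_zero (w : WW)
    (hw : PhiT 𝒜 ℬ 𝒯 ψ hT ℳ EM 𝒩 EN 𝒬 φ hP mR hmR mS hmS mT hmT r s n hn w = 0) :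
    ∃ g ∈ GV (r + 1) (s + 1), ∃ (u₁ : VV r (s + 1)) (u₂ : VV (r + 1) s),
      IW w = g + DH r (s + 1) u₁ + sg (r + 1) (DV (r + 1) s u₂) := by
  rw [PhiT_eq_zero_iff] at hw
  obtain ⟨m, rfl⟩ : ∃ m, n = m + 1 := ⟨r + (s + 1), by omega⟩
  exact exists_of_totD_tsingle_mem DH DV GV (TR_hh 𝒜 ℬ 𝒯 ψ hT ℳ EM 𝒩 EN)
    (TR_hv 𝒜 ℬ 𝒯 ψ hT ℳ EM 𝒩 EN) (TR_hc 𝒜 ℬ 𝒯 ψ hT ℳ EM 𝒩 EN) m r s hn (IW w)
    (totd_exact 𝒜 ℬ 𝒯 ψ hT (fun p => (EM.X p).gr) EM.d EM.d_grHom (fun q => (EN.X q).gr) EN.d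
      EN.d_grHom (E_d_d 𝒜 ℳ EM) (E_exact 𝒜 ℳ EM) (E_d_d ℬ 𝒩 EN) (E_exact ℬ 𝒩 EN) m) hw

/-- `Φ̃` is graded -/
theorem PhiT_mem_Hgr (d : ℤ) (w : WW)
    (hw : w ∈ segGr 𝒜 ℬ 𝒯 ψ hT (ZtGr 𝒜 ℳ EM mR (r + 1)) (ZtGr ℬ 𝒩 EN mS (s + 1)) d) :
    PhiT 𝒜 ℬ 𝒯 ψ hT ℳ EM 𝒩 EN 𝒬 φ hP mR hmR mS hmS mT hmT r s n hn w ∈
      (TR).Hgr (idealAdd 𝒯 mT) (n + 1) d := by
  refine ⟨cocWL 𝒜 ℬ 𝒯 ψ hT ℳ EM 𝒩 EN 𝒬 φ hP mR hmR mS hmS mT hmT r s n hn w, ?_, rfl⟩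
  apply (TR).d_grHom n d
  intro pq
  by_cases hpq : pq.1 = (r + 1, s + 1)
  · obtain ⟨⟨a, b⟩, hab⟩ := pq
    simp only [Prod.mk.injEq] at hpq
    obtain ⟨rfl, rfl⟩ := hpq
    show tsingle n (r + 1) (s + 1) hn (IW w) ⟨(r + 1, s + 1), hab⟩ ∈ _
    rw [tsingle_same]
    exact segMap_isGrHom 𝒜 ℬ 𝒯 ψ hT _ _ _ _ _ _ _ _ d w hw
  · show tsingle n (r + 1) (s + 1) hn (IW w) pq ∈ _
    rw [tsingle_of_ne n (r + 1) (s + 1) hn _ pq hpq]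
    exact zero_mem _

end Main

end Groth.Agent.Lib.helper26.Kun
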