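import Mathlib
import Groth.Prelude.Def_GrLC
import Groth.Prelude.Def_GrSeg
import Groth.Agent.Lib.Helper26.KunY
import Groth.Agent.Lib.Helper26.KunTop4

/-!
# The top Künneth map for Segre products: the kernel of `Φ̃` (helper26)

`π' : Z̃_R # Z̃_S → H^{r+2}_{R₊}(M) ⊗ H^{s+2}_{S₊}(N)`, `x ⊗ y ↦ [dx] ⊗ [dy]`, is `T`-linear and
`ker π' = ker Φ̃`.
-/

set_option autoImplicit false
set_option linter.unusedSectionVars false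
set_option linter.dupNamespace false
universe u
open scoped TensorProduct

namespace Groth.Agent.Lib.helper26.Kun

open GrLC Groth.Agent.Lib.helper19.GrConv Groth.Agent.Lib.helper19.GrMod
  Groth.Agent.Lib.helper26.Seg Groth.Agent.Lib.helper26.GrCM Groth.Agent.Lib.helper26.Acyc

section KerInd

variable {k : Type u} [Field k] {R : Type u} [CommRing R] [Algebra k R]
  {S : Type u} [CommRing S] [Algebra k S]
  {X : Type u} [AddCommGroup X] [Module R X] [Module k X] [IsScalarTower k R X]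
  {Y : Type u} [AddCommGroup Y] [Module S Y] [Module k Y] [IsScalarTower k S Y]
  {X' : Type u} [AddCommGroup X'] [Module R X'] [Module k X'] [IsScalarTower k R X']
  {Y' : Type u} [AddCommGroup Y'] [Module S Y'] [Module k Y'] [IsScalarTower k S Y']

/-- induction principle for the kernel of `f ⊗ g` with `f`, `g` surjective -/
theorem ker_tmap_induction (f : X →ₗ[R] X') (hf : Function.Surjective f) (g : Y →ₗ[S] Y')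
    (hg : Function.Surjective g)
    (Q : X ⊗[k] Y → Prop) (h0 : Q 0) (hadd : ∀ w w', Q w → Q w' → Q (w + w'))
    (hl : ∀ u : X, f u = 0 → ∀ y : Y, Q (u ⊗ₜ[k] y)) (hr : ∀ (x : X) (v : Y), g v = 0 → Q (x ⊗ₜ[k] v))
    (w : X ⊗[k] Y) (hw : tmap k f g w = 0) : Q w := by
  have hker : w ∈ LinearMap.ker (TensorProduct.map
      (f.restrictScalars k) (g.restrictScalars k)) := hw
  rw [TensorProduct.map_ker
    (f := (LinearMap.ker (f.restrictScalars k)).subtype) (g := (f.restrictScalars k))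
    (f' := (LinearMap.ker (g.restrictScalars k)).subtype) (g' := (g.restrictScalars k))
    (LinearMap.exact_subtype_ker_map _) hf
    (LinearMap.exact_subtype_ker_map _) hg] at hker
  have key1 : ∀ z : X ⊗[k] ↥(LinearMap.ker (g.restrictScalars k)),
      Q (LinearMap.lTensor X (LinearMap.ker (g.restrictScalars k)).subtype z) := by
    intro z
    induction z using TensorProduct.induction_on with
    | zero => rw [map_zero]; exact h0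
    | tmul x v => exact hr x v.1 (LinearMap.mem_ker.1 v.2)
    | add z z' h h' => rw [map_add]; exact hadd _ _ h h'
  have key2 : ∀ z : ↥(LinearMap.ker (f.restrictScalars k)) ⊗[k] Y,
      Q (LinearMap.rTensor Y (LinearMap.ker (f.restrictScalars k)).subtype z) := by
    intro z
    induction z using TensorProduct.induction_on with
    | zero => rw [map_zero]; exact h0
    | tmul u y => exact hl u.1 (LinearMap.mem_ker.1 u.2) y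
    | add z z' h h' => rw [map_add]; exact hadd _ _ h h'
  obtain ⟨w₁, hw₁, w₂, hw₂, rfl⟩ := Submodule.mem_sup.1 hker
  obtain ⟨z₁, rfl⟩ := hw₁
  obtain ⟨z₂, rfl⟩ := hw₂
  exact hadd _ _ (key1 z₁) (key2 z₂)

end KerInd

section CtMore

variable {ι : Type} [AddCommGroup ι] [DecidableEq ι]
variable {R : Type u} [CommRing R] {σ : Type u} [SetLike σ R] [AddSubgroupClass σ R]
  (𝒜 : ι → σ) [GradedRing 𝒜]
  {M : Type u} [AddCommGroup M] [Module R M] (ℳ : ι → AddSubgroup M)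
  [DirectSum.Decomposition ℳ] [SetLike.GradedSMul 𝒜 ℳ]
  (E : StarInjRes 𝒜 ℳ) (a : HomogeneousIdeal 𝒜)

theorem ct_surjective (p : ℕ) : Function.Surjective (ct 𝒜 ℳ E a p) := by
  intro y
  obtain ⟨z, rfl⟩ := Submodule.mkQ_surjective _ y
  have h1 : (z : (E.X (p + 1)).carrier) ∈ LinearMap.range (E.d p) := by
    rw [← E.exact_succ p]
    exact z.2.2
  obtain ⟨x, hx⟩ := h1
  refine ⟨⟨x, ?_⟩, ?_⟩
  · rw [mem_Zt, hx]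
    exact z.2.1
  · rw [ct_apply]
    congr 1
    exact Subtype.ext hx

/-- the kernel of `ct` is `Γ_a(E^{p+1}) + d(E^p)` -/
theorem exists_of_ct_eq_zero' (p : ℕ) (x : ↥(Zt 𝒜 ℳ E a (p + 1)))
    (h0 : ct 𝒜 ℳ E a (p + 1) x = 0) :
    ∃ x₀ ∈ gam a.toIdeal (E.X (p + 1)).carrier, ∃ x₁ : (E.X p).carrier,
      (x : (E.X (p + 1)).carrier) = x₀ + E.d p x₁ := by
  rw [ct_apply, toH_eq_zero_iff'] at h0
  obtain ⟨y, hy, hyx⟩ := h0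
  have hyx' : E.d (p + 1) y = E.d (p + 1) x.1 := hyx
  have h1 : x.1 - y ∈ LinearMap.range (E.d p) := by
    rw [← E.exact_succ p, LinearMap.mem_ker, map_sub, hyx', sub_self]
  obtain ⟨w, hw⟩ := h1
  refine ⟨y, hy, w, ?_⟩
  rw [hw]
  abel

end CtMore

section Main

variable {k : Type u} [Field k] {R : Type u} [CommRing R] [Algebra k R]
  (𝒜 : ℤ → Submodule k R) [GradedAlgebra 𝒜]
  {S : Type u} [CommRing S] [Algebra k S] (ℬ : ℤ → Submodule k S) [GradedAlgebra ℬ]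
  {T : Type u} [CommRing T] [Algebra k T] (𝒯 : ℤ → Submodule k T) [GradedAlgebra 𝒯]
  (ψ : T →ₐ[k] R ⊗[k] S) (hT : GrSeg.IsSegreRing 𝒜 ℬ 𝒯 ψ)
  {M : Type u} [AddCommGroup M] [Module R M] [Module k M] [IsScalarTower k R M]
  (ℳ : ℤ → AddSubgroup M) [DirectSum.Decomposition ℳ] [SetLike.GradedSMul 𝒜 ℳ]
  (EM : StarInjRes 𝒜 ℳ) [∀ p, Module k (EM.X p).carrier] [∀ p, IsScalarTower k R (EM.X p).carrier]
  {N : Type u} [AddCommGroup N] [Module S N] [Module k N] [IsScalarTower k S N]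
  (𝒩 : ℤ → AddSubgroup N) [DirectSum.Decomposition 𝒩] [SetLike.GradedSMul ℬ 𝒩]
  (EN : StarInjRes ℬ 𝒩) [∀ q, Module k (EN.X q).carrier] [∀ q, IsScalarTower k S (EN.X q).carrier]
  {P : Type u} [AddCommGroup P] [Module T P] [Module k P] [IsScalarTower k T P]
  (𝒬 : ℤ → AddSubgroup P) [DirectSum.Decomposition 𝒬] [SetLike.GradedSMul 𝒯 𝒬]
  (φ : P →ₗ[k] M ⊗[k] N) (hP : GrSeg.IsSegreMod ψ ℳ 𝒩 𝒬 φ)
  (mR : HomogeneousIdeal 𝒜) (hmR : mR.toIdeal = irr 𝒜)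
  (mS : HomogeneousIdeal ℬ) (hmS : mS.toIdeal = irr ℬ)
  (mT : HomogeneousIdeal 𝒯) (hmT : mT.toIdeal = irr 𝒯)
  (r s : ℕ)
  [IsNoetherianRing R] [IsNoetherianRing S]

attribute [local instance] gsmulAdd ZtDec ZtGSMul

set_option quotPrecheck false

local notation "VV" => segV 𝒜 ℬ 𝒯 ψ hT (fun p => (EM.X p).gr) (fun q => (EN.X q).gr)
local notation "DH" =>
  sdh 𝒜 ℬ 𝒯 ψ hT (fun p => (EM.X p).gr) EM.d EM.d_grHom (fun q => (EN.X q).gr)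
local notation "DV" =>
  sdv 𝒜 ℬ 𝒯 ψ hT (fun p => (EM.X p).gr) (fun q => (EN.X q).gr) EN.d EN.d_grHom
local notation "TR" => TRes 𝒜 ℬ 𝒯 ψ hT ℳ EM 𝒩 EN 𝒬 φ hP
local notation "GV" => gamV 𝒜 ℬ 𝒯 ψ hT ℳ EM 𝒩 EN
local notation "WW" => WZ 𝒜 ℬ 𝒯 ψ hT ℳ EM 𝒩 EN mR mS r s
local notation "IW" => iotaW 𝒜 ℬ 𝒯 ψ hT ℳ EM 𝒩 EN mR mS r s
local notation "ZR" => Zt 𝒜 ℳ EM mR (r + 1)
local notation "ZS" => Zt ℬ 𝒩 EN mS (s + 1)
local notation "ZRg" => ZtGr 𝒜 ℳ EM mR (r + 1)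
local notation "ZSg" => ZtGr ℬ 𝒩 EN mS (s + 1)
local notation "ctR" => ct 𝒜 ℳ EM mR (r + 1)
local notation "ctS" => ct ℬ 𝒩 EN mS (s + 1)

/-- **the map `π'`** -/
noncomputable def piT : WW →ₗ[T] SW ψ (EM.H mR (r + 1 + 1)) (EN.H mS (s + 1 + 1)) where
  toFun w := SW.of ψ (tmap k ctR ctS (segVal 𝒜 ℬ 𝒯 ψ hT ZRg ZSg w))
  map_add' w w' := by
    rw [map_add, map_add]
    rfl
  map_smul' t w := by
    apply SW.ext ψ
    rw [RingHom.id_apply, SW.val_smul, SW.val_of, SW.val_of, segVal_smul, tmap_act]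

theorem piT_val (w : WW) :
    SW.val ψ (piT 𝒜 ℬ 𝒯 ψ hT ℳ EM 𝒩 EN mR mS r s w) =
      tmap k ctR ctS (segVal 𝒜 ℬ 𝒯 ψ hT ZRg ZSg w) := rfl

/-- the underlying tensor of the image of a retracted pure tensor -/
theorem segVal_iotaW_retract (v : ↥ZR ⊗[k] ↥ZS) :
    segVal 𝒜 ℬ 𝒯 ψ hT (EM.X (r + 1)).gr (EN.X (s + 1)).gr
        (IW (segRetract 𝒜 ℬ 𝒯 ψ hT ZRg ZSg (SW.of ψ v))) =
      diag 𝒜 ℬ (EM.X (r + 1)).gr (EN.X (s + 1)).gr (tmap k (ZR).subtype (ZS).subtype v) := by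
  rw [diag_tmap 𝒜 ℬ ZRg ZSg (EM.X (r + 1)).gr (EN.X (s + 1)).gr (ZR).subtype
    (subtype_isGrHom (EM.X (r + 1)).gr ZR) (ZS).subtype (subtype_isGrHom (EN.X (s + 1)).gr ZS)]
  rfl


variable (n : ℕ) (hn : (r + 1) + (s + 1) = n)

/-- the extension of `Φ̃` to all tensors, through the diagonal retraction -/
noncomputable def ThetaT : ↥ZR ⊗[k] ↥ZS →+ (TR).H (idealAdd 𝒯 mT) (n + 1) where
  toFun v := PhiT 𝒜 ℬ 𝒯 ψ hT ℳ EM 𝒩 EN 𝒬 φ hP mR hmR mS hmS mT hmT r s n hn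
    (segRetract 𝒜 ℬ 𝒯 ψ hT ZRg ZSg (SW.of ψ v))
  map_zero' := by
    show PhiT 𝒜 ℬ 𝒯 ψ hT ℳ EM 𝒩 EN 𝒬 φ hP mR hmR mS hmS mT hmT r s n hn
      (segRetract 𝒜 ℬ 𝒯 ψ hT ZRg ZSg (0 : SW ψ ↥ZR ↥ZS)) = 0
    rw [map_zero, map_zero]
  map_add' v v' := by
    show PhiT 𝒜 ℬ 𝒯 ψ hT ℳ EM 𝒩 EN 𝒬 φ hP mR hmR mS hmS mT hmT r s n hn
      (segRetract 𝒜 ℬ 𝒯 ψ hT ZRg ZSg (SW.of ψ v + SW.of ψ v')) = _
    rw [map_add, map_add]

theorem ThetaT_apply (v : ↥ZR ⊗[k] ↥ZS) :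
    ThetaT 𝒜 ℬ 𝒯 ψ hT ℳ EM 𝒩 EN 𝒬 φ hP mR hmR mS hmS mT hmT r s n hn v =
      PhiT 𝒜 ℬ 𝒯 ψ hT ℳ EM 𝒩 EN 𝒬 φ hP mR hmR mS hmS mT hmT r s n hn
        (segRetract 𝒜 ℬ 𝒯 ψ hT ZRg ZSg (SW.of ψ v)) := rfl

theorem ThetaT_segVal (w : WW) :
    ThetaT 𝒜 ℬ 𝒯 ψ hT ℳ EM 𝒩 EN 𝒬 φ hP mR hmR mS hmS mT hmT r s n hn
        (segVal 𝒜 ℬ 𝒯 ψ hT ZRg ZSg w) =
      PhiT 𝒜 ℬ 𝒯 ψ hT ℳ EM 𝒩 EN 𝒬 φ hP mR hmR mS hmS mT hmT r s n hn w := by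
  rw [ThetaT_apply]
  congr 1
  exact segRetract_subtype 𝒜 ℬ 𝒯 ψ hT ZRg ZSg w

theorem ThetaT_tmul_of_gam (x : (EM.X (r + 1)).carrier)
    (hx : x ∈ gam mR.toIdeal (EM.X (r + 1)).carrier) (y : ↥ZS) :
    ThetaT 𝒜 ℬ 𝒯 ψ hT ℳ EM 𝒩 EN 𝒬 φ hP mR hmR mS hmS mT hmT r s n hn
      ((⟨x, gam_le_Zt 𝒜 ℳ EM mR (r + 1) hx⟩ : ↥ZR) ⊗ₜ[k] y) = 0 := by
  rw [ThetaT_apply]
  apply PhiT_eq_zero_of_mem_gam
  rw [mem_gam_seg_iff, segVal_iotaW_retract]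
  show IsTors 𝒯 ψ (diag 𝒜 ℬ (EM.X (r + 1)).gr (EN.X (s + 1)).gr (x ⊗ₜ[k] (y : (EN.X (s + 1)).carrier)))
  refine isTors_diag 𝒜 ℬ 𝒯 ψ hT _ _ (isTors_tmul_left 𝒜 ℬ 𝒯 ψ hT ?_ _)
  rw [← hmR]
  exact hx

theorem ThetaT_tmul_of_gam' (x : ↥ZR) (y : (EN.X (s + 1)).carrier)
    (hy : y ∈ gam mS.toIdeal (EN.X (s + 1)).carrier) :
    ThetaT 𝒜 ℬ 𝒯 ψ hT ℳ EM 𝒩 EN 𝒬 φ hP mR hmR mS hmS mT hmT r s n hn
      (x ⊗ₜ[k] (⟨y, gam_le_Zt ℬ 𝒩 EN mS (s + 1) hy⟩ : ↥ZS)) = 0 := by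
  rw [ThetaT_apply]
  apply PhiT_eq_zero_of_mem_gam
  rw [mem_gam_seg_iff, segVal_iotaW_retract]
  show IsTors 𝒯 ψ (diag 𝒜 ℬ (EM.X (r + 1)).gr (EN.X (s + 1)).gr ((x : (EM.X (r + 1)).carrier) ⊗ₜ[k] y))
  refine isTors_diag 𝒜 ℬ 𝒯 ψ hT _ _ (isTors_tmul_right 𝒜 ℬ 𝒯 ψ hT _ ?_)
  rw [← hmS]
  exact hy

theorem ThetaT_tmul_of_d (x₁ : (EM.X r).carrier) (y : ↥ZS) :
    ThetaT 𝒜 ℬ 𝒯 ψ hT ℳ EM 𝒩 EN 𝒬 φ hP mR hmR mS hmS mT hmT r s n hn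
      ((⟨EM.d r x₁, d_mem_Zt 𝒜 ℳ EM mR r x₁⟩ : ↥ZR) ⊗ₜ[k] y) = 0 := by
  rw [ThetaT_apply]
  refine PhiT_eq_zero_of_dh 𝒜 ℬ 𝒯 ψ hT ℳ EM 𝒩 EN 𝒬 φ hP mR hmR mS hmS mT hmT r s n hn _
    (segRetract 𝒜 ℬ 𝒯 ψ hT (EM.X r).gr (EN.X (s + 1)).gr
      (SW.of ψ (x₁ ⊗ₜ[k] (y : (EN.X (s + 1)).carrier)))) ?_ ?_
  · rw [mem_gam_seg_iff]
    show IsTors 𝒯 ψ (tmap k (LinearMap.id : (EM.X r).carrier →ₗ[R] _) (EN.d (s + 1))
      (diag 𝒜 ℬ (EM.X r).gr (EN.X (s + 1)).gr (x₁ ⊗ₜ[k] (y : (EN.X (s + 1)).carrier))))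
    rw [← diag_tmap 𝒜 ℬ (EM.X r).gr (EN.X (s + 1)).gr (EM.X r).gr (EN.X (s + 1 + 1)).gr
      LinearMap.id (fun _ _ h => h) (EN.d (s + 1)) (EN.d_grHom (s + 1)), tmap_tmul]
    refine isTors_diag 𝒜 ℬ 𝒯 ψ hT _ _ (isTors_tmul_right 𝒜 ℬ 𝒯 ψ hT _ ?_)
    rw [← hmS]
    exact y.2
  · apply segVal_injective
    rw [segVal_iotaW_retract]
    show diag 𝒜 ℬ (EM.X (r + 1)).gr (EN.X (s + 1)).gr
        (EM.d r x₁ ⊗ₜ[k] (y : (EN.X (s + 1)).carrier)) =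
      tmap k (EM.d r) (LinearMap.id : (EN.X (s + 1)).carrier →ₗ[S] _)
        (diag 𝒜 ℬ (EM.X r).gr (EN.X (s + 1)).gr (x₁ ⊗ₜ[k] (y : (EN.X (s + 1)).carrier)))
    rw [← diag_tmap 𝒜 ℬ (EM.X r).gr (EN.X (s + 1)).gr (EM.X (r + 1)).gr (EN.X (s + 1)).gr
      (EM.d r) (EM.d_grHom r) LinearMap.id (fun _ _ h => h), tmap_tmul]
    rfl

theorem ThetaT_tmul_of_d' (x : ↥ZR) (y₁ : (EN.X s).carrier) :
    ThetaT 𝒜 ℬ 𝒯 ψ hT ℳ EM 𝒩 EN 𝒬 φ hP mR hmR mS hmS mT hmT r s n hn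
      (x ⊗ₜ[k] (⟨EN.d s y₁, d_mem_Zt ℬ 𝒩 EN mS s y₁⟩ : ↥ZS)) = 0 := by
  rw [ThetaT_apply]
  refine PhiT_eq_zero_of_dv 𝒜 ℬ 𝒯 ψ hT ℳ EM 𝒩 EN 𝒬 φ hP mR hmR mS hmS mT hmT r s n hn _
    (segRetract 𝒜 ℬ 𝒯 ψ hT (EM.X (r + 1)).gr (EN.X s).gr
      (SW.of ψ ((x : (EM.X (r + 1)).carrier) ⊗ₜ[k] y₁))) ?_ ?_
  · rw [mem_gam_seg_iff]
    show IsTors 𝒯 ψ (tmap k (EM.d (r + 1)) (LinearMap.id : (EN.X s).carrier →ₗ[S] _)
      (diag 𝒜 ℬ (EM.X (r + 1)).gr (EN.X s).gr ((x : (EM.X (r + 1)).carrier) ⊗ₜ[k] y₁)))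
    rw [← diag_tmap 𝒜 ℬ (EM.X (r + 1)).gr (EN.X s).gr (EM.X (r + 1 + 1)).gr (EN.X s).gr
      (EM.d (r + 1)) (EM.d_grHom (r + 1)) LinearMap.id (fun _ _ h => h), tmap_tmul]
    refine isTors_diag 𝒜 ℬ 𝒯 ψ hT _ _ (isTors_tmul_left 𝒜 ℬ 𝒯 ψ hT ?_ _)
    rw [← hmR]
    exact x.2
  · apply segVal_injective
    rw [segVal_iotaW_retract]
    show diag 𝒜 ℬ (EM.X (r + 1)).gr (EN.X (s + 1)).gr
        ((x : (EM.X (r + 1)).carrier) ⊗ₜ[k] EN.d s y₁) =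
      tmap k (LinearMap.id : (EM.X (r + 1)).carrier →ₗ[R] _) (EN.d s)
        (diag 𝒜 ℬ (EM.X (r + 1)).gr (EN.X s).gr ((x : (EM.X (r + 1)).carrier) ⊗ₜ[k] y₁))
    rw [← diag_tmap 𝒜 ℬ (EM.X (r + 1)).gr (EN.X s).gr (EM.X (r + 1)).gr (EN.X (s + 1)).gr
      LinearMap.id (fun _ _ h => h) (EN.d s) (EN.d_grHom s), tmap_tmul]
    rfl

/-- **`ker π' ≤ ker Φ̃`** -/
theorem PhiT_eq_zero_of_piT_eq_zero (w : WW)
    (h : piT 𝒜 ℬ 𝒯 ψ hT ℳ EM 𝒩 EN mR mS r s w = 0) :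
    PhiT 𝒜 ℬ 𝒯 ψ hT ℳ EM 𝒩 EN 𝒬 φ hP mR hmR mS hmS mT hmT r s n hn w = 0 := by
  have key : ∀ v : ↥ZR ⊗[k] ↥ZS, tmap k ctR ctS v = 0 →
      ThetaT 𝒜 ℬ 𝒯 ψ hT ℳ EM 𝒩 EN 𝒬 φ hP mR hmR mS hmS mT hmT r s n hn v = 0 := by
    intro v hv
    refine ker_tmap_induction ctR (ct_surjective 𝒜 ℳ EM mR (r + 1)) ctS
      (ct_surjective ℬ 𝒩 EN mS (s + 1))
      (fun v => ThetaT 𝒜 ℬ 𝒯 ψ hT ℳ EM 𝒩 EN 𝒬 φ hP mR hmR mS hmS mT hmT r s n hn v = 0)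
      (map_zero _) (fun v v' h h' => by rw [map_add, h, h', add_zero]) ?_ ?_ v hv
    · intro u hu y
      obtain ⟨x₀, hx₀, x₁, hux⟩ := exists_of_ct_eq_zero' 𝒜 ℳ EM mR r u hu
      have e : u = (⟨x₀, gam_le_Zt 𝒜 ℳ EM mR (r + 1) hx₀⟩ : ↥ZR) +
          (⟨EM.d r x₁, d_mem_Zt 𝒜 ℳ EM mR r x₁⟩ : ↥ZR) := Subtype.ext hux
      rw [e, TensorProduct.add_tmul, map_add,
        ThetaT_tmul_of_gam 𝒜 ℬ 𝒯 ψ hT ℳ EM 𝒩 EN 𝒬 φ hP mR hmR mS hmS mT hmT r s n hn x₀ hx₀ y,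
        ThetaT_tmul_of_d, add_zero]
    · intro x v hv
      obtain ⟨y₀, hy₀, y₁, hvy⟩ := exists_of_ct_eq_zero' ℬ 𝒩 EN mS s v hv
      have e : v = (⟨y₀, gam_le_Zt ℬ 𝒩 EN mS (s + 1) hy₀⟩ : ↥ZS) +
          (⟨EN.d s y₁, d_mem_Zt ℬ 𝒩 EN mS s y₁⟩ : ↥ZS) := Subtype.ext hvy
      rw [e, TensorProduct.tmul_add, map_add,
        ThetaT_tmul_of_gam' 𝒜 ℬ 𝒯 ψ hT ℳ EM 𝒩 EN 𝒬 φ hP mR hmR mS hmS mT hmT r s n hn x y₀ hy₀,
        ThetaT_tmul_of_d', add_zero]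
  rw [← ThetaT_segVal]
  apply key
  have h1 := congrArg (SW.val ψ) h
  rw [piT_val] at h1
  exact h1

/-- **`ker Φ̃ ≤ ker π'`** -/
theorem piT_eq_zero_of_PhiT_eq_zero (w : WW)
    (h : PhiT 𝒜 ℬ 𝒯 ψ hT ℳ EM 𝒩 EN 𝒬 φ hP mR hmR mS hmS mT hmT r s n hn w = 0) :
    piT 𝒜 ℬ 𝒯 ψ hT ℳ EM 𝒩 EN mR mS r s w = 0 := by
  obtain ⟨g, hg, u₁, u₂, hw⟩ :=
    exists_of_PhiT_eq_zero 𝒜 ℬ 𝒯 ψ hT ℳ EM 𝒩 EN 𝒬 φ hP mR hmR mS hmS mT hmT r s n hn w h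
  obtain ⟨σR, hσR⟩ := LinearMap.exists_leftInverse_of_injective ((ZR).subtype.restrictScalars k)
    (LinearMap.ker_eq_bot.2 (Submodule.subtype_injective _))
  obtain ⟨σS, hσS⟩ := LinearMap.exists_leftInverse_of_injective ((ZS).subtype.restrictScalars k)
    (LinearMap.ker_eq_bot.2 (Submodule.subtype_injective _))
  set ρR : (EM.X (r + 1)).carrier →ₗ[k] EM.H mR (r + 1 + 1) := (ctR).restrictScalars k ∘ₗ σR
    with hρRdef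
  set ρS : (EN.X (s + 1)).carrier →ₗ[k] EN.H mS (s + 1 + 1) := (ctS).restrictScalars k ∘ₗ σS
    with hρSdef
  have hρR : ∀ x : ↥ZR, ρR (x : (EM.X (r + 1)).carrier) = ctR x := by
    intro x
    have := LinearMap.congr_fun hσR x
    rw [LinearMap.comp_apply, LinearMap.id_apply] at this
    show ctR (σR ((ZR).subtype x)) = _
    exact congrArg _ this
  have hρS : ∀ y : ↥ZS, ρS (y : (EN.X (s + 1)).carrier) = ctS y := by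
    intro y
    have := LinearMap.congr_fun hσS y
    rw [LinearMap.comp_apply, LinearMap.id_apply] at this
    show ctS (σS ((ZS).subtype y)) = _
    exact congrArg _ this
  have hcomp : ∀ v : ↥ZR ⊗[k] ↥ZS,
      TensorProduct.map ρR ρS (tmap k (ZR).subtype (ZS).subtype v) = tmap k ctR ctS v := by
    intro v
    induction v using TensorProduct.induction_on with
    | zero => rw [map_zero, map_zero, map_zero]
    | tmul x y =>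
      rw [tmap_tmul, TensorProduct.map_tmul, tmap_tmul]
      show ρR (x : (EM.X (r + 1)).carrier) ⊗ₜ[k] ρS (y : (EN.X (s + 1)).carrier) = _
      rw [hρR, hρS]
    | add v v' h h' => rw [map_add, map_add, map_add, h, h']
  -- the three terms
  have t1 : TensorProduct.map ρR ρS
      (segVal 𝒜 ℬ 𝒯 ψ hT (EM.X (r + 1)).gr (EN.X (s + 1)).gr g) = 0 := by
    have hg' : IsTors 𝒯 ψ (segVal 𝒜 ℬ 𝒯 ψ hT (EM.X (r + 1)).gr (EN.X (s + 1)).gr g) :=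
      (mem_gam_seg_iff 𝒜 ℬ 𝒯 ψ hT (fun p => (EM.X p).gr) (fun q => (EN.X q).gr) (r + 1) (s + 1)
        g).1 hg
    rw [torsion_iff 𝒜 ℬ 𝒯 ψ hT] at hg'
    refine ker_tmap_mkQ_induction (gam (irr 𝒜) (EM.X (r + 1)).carrier)
      (gam (irr ℬ) (EN.X (s + 1)).carrier) (fun v => TensorProduct.map ρR ρS v = 0) (map_zero _)
      (fun v v' h h' => by rw [map_add, h, h', add_zero]) ?_ ?_ _ hg'
    · intro u hu y
      have hu' : u ∈ gam mR.toIdeal (EM.X (r + 1)).carrier := by rw [hmR]; exact hu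
      rw [TensorProduct.map_tmul]
      have := hρR ⟨u, gam_le_Zt 𝒜 ℳ EM mR (r + 1) hu'⟩
      rw [ct_of_mem_gam 𝒜 ℳ EM mR (r + 1) _ hu'] at this
      rw [this, TensorProduct.zero_tmul]
    · intro x v hv
      have hv' : v ∈ gam mS.toIdeal (EN.X (s + 1)).carrier := by rw [hmS]; exact hv
      rw [TensorProduct.map_tmul]
      have := hρS ⟨v, gam_le_Zt ℬ 𝒩 EN mS (s + 1) hv'⟩
      rw [ct_of_mem_gam ℬ 𝒩 EN mS (s + 1) _ hv'] at this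
      rw [this, TensorProduct.tmul_zero]
  have t2 : ∀ v : (EM.X r).carrier ⊗[k] (EN.X (s + 1)).carrier,
      TensorProduct.map ρR ρS
        (tmap k (EM.d r) (LinearMap.id : (EN.X (s + 1)).carrier →ₗ[S] _) v) = 0 := by
    intro v
    induction v using TensorProduct.induction_on with
    | zero => rw [map_zero, map_zero]
    | tmul x y =>
      rw [tmap_tmul, TensorProduct.map_tmul]
      have := hρR ⟨EM.d r x, d_mem_Zt 𝒜 ℳ EM mR r x⟩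
      rw [ct_d 𝒜 ℳ EM mR r _ x rfl] at this
      rw [this, TensorProduct.zero_tmul]
    | add v v' h h' => rw [map_add, map_add, h, h', add_zero]
  have t3 : ∀ v : (EM.X (r + 1)).carrier ⊗[k] (EN.X s).carrier,
      TensorProduct.map ρR ρS
        (tmap k (LinearMap.id : (EM.X (r + 1)).carrier →ₗ[R] _) (EN.d s) v) = 0 := by
    intro v
    induction v using TensorProduct.induction_on with
    | zero => rw [map_zero, map_zero]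
    | tmul x y =>
      rw [tmap_tmul, TensorProduct.map_tmul]
      have := hρS ⟨EN.d s y, d_mem_Zt ℬ 𝒩 EN mS s y⟩
      rw [ct_d ℬ 𝒩 EN mS s _ y rfl] at this
      rw [this, TensorProduct.tmul_zero]
    | add v v' h h' => rw [map_add, map_add, h, h', add_zero]
  apply SW.ext ψ
  rw [piT_val, ← hcomp]
  have e0 : tmap k (ZR).subtype (ZS).subtype (segVal 𝒜 ℬ 𝒯 ψ hT ZRg ZSg w) =
      segVal 𝒜 ℬ 𝒯 ψ hT (EM.X (r + 1)).gr (EN.X (s + 1)).gr (IW w) := rfl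
  rw [e0, hw, map_add, map_add, map_sg, map_add, map_add, map_sg, t1]
  have e2 : segVal 𝒜 ℬ 𝒯 ψ hT (EM.X (r + 1)).gr (EN.X (s + 1)).gr (DH r (s + 1) u₁) =
      tmap k (EM.d r) (LinearMap.id : (EN.X (s + 1)).carrier →ₗ[S] _)
        (segVal 𝒜 ℬ 𝒯 ψ hT (EM.X r).gr (EN.X (s + 1)).gr u₁) := rfl
  have e3 : segVal 𝒜 ℬ 𝒯 ψ hT (EM.X (r + 1)).gr (EN.X (s + 1)).gr (DV (r + 1) s u₂) =
      tmap k (LinearMap.id : (EM.X (r + 1)).carrier →ₗ[R] _) (EN.d s)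
        (segVal 𝒜 ℬ 𝒯 ψ hT (EM.X (r + 1)).gr (EN.X s).gr u₂) := rfl
  rw [e2, e3, t2, t3, sg_zero, add_zero, add_zero]
  rfl

end Main

end Groth.Agent.Lib.helper26.Kun
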