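import Mathlib
import Groth.Prelude.Def_GrLC
import Groth.Prelude.Def_GrSeg
import Groth.Agent.Lib.Helper26.KunAE
import Groth.Agent.Lib.Helper26.KunTop5

/-!
# The top Künneth map for Segre products: dimension count (helper26)

Generic lemmas: surjectivity by a dimension count for semilinear maps; the dimension of a Segre
piece; the pieces of graded local cohomology as `k`-subspaces.
-/

set_option autoImplicit false
set_option linter.unusedSectionVars false
set_option linter.dupNamespace false
universe u
open scoped TensorProduct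

namespace Groth.Agent.Lib.helper26.Kun

open GrLC Groth.Agent.Lib.helper19.GrConv Groth.Agent.Lib.helper19.GrMod
  Groth.Agent.Lib.helper26.Seg Groth.Agent.Lib.helper26.GrCM Groth.Agent.Lib.helper26.Acyc

section Count

/-- a semilinear map with the same kernel as a linear map whose range is at least as large as the
(finite dimensional) target is surjective -/
theorem surjective_of_count {K : Type u} [Field K] {L : Type u} [Ring L] (i : K →+* L)
    (hi : Function.Bijective i) {V : Type u} [AddCommGroup V] [Module K V]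
    {H : Type u} [AddCommGroup H] [Module L H] [Module.Finite L H]
    {Q : Type u} [AddCommGroup Q] [Module K Q]
    (f : V →+ H) (hf : ∀ (c : K) (v : V), f (c • v) = i c • f v) (g : V →ₗ[K] Q)
    (hfg : ∀ v, f v = 0 ↔ g v = 0)
    (hcount : Module.finrank L H ≤ Module.finrank K (LinearMap.range g)) :
    Function.Surjective f := by
  let mK : Module K H := Module.compHom H i
  let f' : V →ₗ[K] H :=
    { toFun := f
      map_add' := map_add f
      map_smul' := fun c z => hf c z }
  have hfinK : Module.Finite K H :=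
    finite_of_addEquiv_semilinear i hi.2 (AddEquiv.refl H) (fun c v => rfl)
  have hrank : Module.finrank K H = Module.finrank L H := by
    have hrank := rank_eq_of_equiv_equiv i (AddEquiv.refl H) hi (fun c v => rfl)
    unfold Module.finrank
    rw [hrank]
  have hker : LinearMap.ker f' = LinearMap.ker g := by
    ext v
    rw [LinearMap.mem_ker, LinearMap.mem_ker]
    exact hfg v
  have e1 : (V ⧸ LinearMap.ker f') ≃ₗ[K] LinearMap.range f' := f'.quotKerEquivRange
  have e2 : (V ⧸ LinearMap.ker g) ≃ₗ[K] LinearMap.range g := g.quotKerEquivRange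
  have e3 : (V ⧸ LinearMap.ker f') ≃ₗ[K] (V ⧸ LinearMap.ker g) := Submodule.quotEquivOfEq _ _ hker
  have h1 : Module.finrank K (LinearMap.range f') = Module.finrank K (LinearMap.range g) :=
    (e1.symm.trans (e3.trans e2)).finrank_eq
  have h2 : LinearMap.range f' = ⊤ := by
    apply Submodule.eq_top_of_finrank_eq
    apply le_antisymm (Submodule.finrank_le _)
    rw [h1, hrank]
    exact hcount
  intro y
  have : y ∈ LinearMap.range f' := by rw [h2]; exact Submodule.mem_top
  exact this

/-- the dimension of the span of the pure tensors of two subspaces -/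
theorem finrank_span_tmul {k : Type u} [Field k] {X Y : Type u} [AddCommGroup X] [Module k X]
    [AddCommGroup Y] [Module k Y] (A : Submodule k X) (B : Submodule k Y) :
    Module.finrank k ↥(Submodule.span k {z : X ⊗[k] Y | ∃ a ∈ A, ∃ b ∈ B, z = a ⊗ₜ[k] b}) =
      Module.finrank k A * Module.finrank k B := by
  have h1 : Submodule.span k {z : X ⊗[k] Y | ∃ a ∈ A, ∃ b ∈ B, z = a ⊗ₜ[k] b} =
      LinearMap.range (TensorProduct.map A.subtype B.subtype) := by
    apply le_antisymm
    · rw [Submodule.span_le]
      rintro z ⟨a, ha, b, hb, rfl⟩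
      exact ⟨(⟨a, ha⟩ : A) ⊗ₜ[k] (⟨b, hb⟩ : B), rfl⟩
    · rintro _ ⟨w, rfl⟩
      induction w using TensorProduct.induction_on with
      | zero => rw [map_zero]; exact zero_mem _
      | tmul a b => exact Submodule.subset_span ⟨a.1, a.2, b.1, b.2, rfl⟩
      | add w w' h h' => rw [map_add]; exact add_mem h h'
  rw [h1, LinearMap.finrank_range_of_inj
    (TensorProduct.map_injective_of_flat_flat _ _ (Submodule.subtype_injective _)
      (Submodule.subtype_injective _)), Module.finrank_tensorProduct]

end Count

section HK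

variable {k : Type u} [Field k] {R : Type u} [CommRing R] [Algebra k R]
  (𝒜 : ℤ → Submodule k R) [GradedAlgebra 𝒜]
  {M : Type u} [AddCommGroup M] [Module R M] (ℳ : ℤ → AddSubgroup M)
  [DirectSum.Decomposition ℳ] [SetLike.GradedSMul 𝒜 ℳ]
  (E : StarInjRes 𝒜 ℳ) [∀ p, Module k (E.X p).carrier] [∀ p, IsScalarTower k R (E.X p).carrier]
  (a : HomogeneousIdeal 𝒜) (i : ℕ) (d : ℤ)

/-- the pieces of graded local cohomology as `k`-subspaces -/
def HcompK : Submodule k (E.H a i) where
  carrier := {x | x ∈ E.Hgr a i d}
  zero_mem' := (E.Hgr a i d).zero_mem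
  add_mem' := fun hx hy => (E.Hgr a i d).add_mem hx hy
  smul_mem' := fun c x hx => by
    show c • x ∈ E.Hcomp a i d
    rw [← algebraMap_smul R c x]
    exact (E.Hcomp a i d).smul_mem (kToDeg0 𝒜 c) hx

theorem mem_HcompK {x : E.H a i} : x ∈ HcompK 𝒜 ℳ E a i d ↔ x ∈ E.Hgr a i d := Iff.rfl

/-- the identity `HcompK ≃ Hcomp` -/
def hcompKEquiv : ↥(HcompK 𝒜 ℳ E a i d) ≃+ ↥(E.Hcomp a i d) where
  toFun x := ⟨x.1, x.2⟩
  invFun x := ⟨x.1, x.2⟩
  left_inv _ := rfl
  right_inv _ := rfl
  map_add' _ _ := rfl

theorem finrank_HcompK [Nontrivial R] (h0R : 𝒜 0 = Submodule.span k {(1 : R)}) :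
    Module.finrank k ↥(HcompK 𝒜 ℳ E a i d) = Module.finrank (deg0 𝒜) ↥(E.Hcomp a i d) := by
  have hrank := rank_eq_of_equiv_equiv (kToDeg0 𝒜) (hcompKEquiv 𝒜 ℳ E a i d)
    (kToDeg0_bijective 𝒜 h0R) (fun c x => by
      apply Subtype.ext
      show c • x.1 = (algebraMap k R c) • x.1
      rw [algebraMap_smul])
  unfold Module.finrank
  rw [hrank]

end HK

end Groth.Agent.Lib.helper26.Kun
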