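import Mathlib
import Groth.Prelude.Def_GrLC
import Groth.Prelude.Def_GrSeg
import Groth.Agent.Lib.Helper26.KunTop6

/-!
# The top Künneth isomorphism for Segre products, `T`-linearly (helper26)

`H^{n+1}_{T₊}(M # N) ≅ H^{r+2}_{R₊}(M) # H^{s+2}_{S₊}(N)` (`n = (r+1)+(s+1)`) as graded
`T`-modules, when the dimensions of the pieces match.
-/

set_option autoImplicit false
set_option linter.unusedSectionVars false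
set_option linter.dupNamespace false
universe u
open scoped TensorProduct

namespace Groth.Agent.Lib.helper26.Kun

open GrLC Groth.Agent.Lib.helper19.GrConv Groth.Agent.Lib.helper19.GrMod
  Groth.Agent.Lib.helper26.Seg Groth.Agent.Lib.helper26.GrCM Groth.Agent.Lib.helper26.Acyc

section Main

variable {k : Type u} [Field k] {R : Type u} [CommRing R] [Algebra k R]
  (𝒜 : ℤ → Submodule k R) [GradedAlgebra 𝒜]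
  {S : Type u} [CommRing S] [Algebra k S] (ℬ : ℤ → Submodule k S) [GradedAlgebra ℬ]
  {T : Type u} [CommRing T] [Algebra k T] (𝒯 : ℤ → Submodule k T) [GradedAlgebra 𝒯]
  (ψ : T →ₐ[k] R ⊗[k] S) (hT : GrSeg.IsSegreRing 𝒜 ℬ 𝒯 ψ)
  {M : Type u} [AddCommGroup M] [Module R M] [Module k M] [IsScalarTower k R M]
  (ℳ : ℤ → AddSubgroup M) [DirectSum.Decomposition ℳ] [SetLike.GradedSMul 𝒜 ℳ]
  (EM : StarInjRes 𝒜 ℳ) [∀ p, Module k (EM.X p).carrier] [∀ p, IsScalarTower k R (EM.X p).carrier]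
  {N : Type u} [AddCommGroup N] [Module S N] [Module k N] [IsScalarTower k S N]
  (𝒩 : ℤ → AddSubgroup N) [DirectSum.Decomposition 𝒩] [SetLike.GradedSMul ℬ 𝒩]
  (EN : StarInjRes ℬ 𝒩) [∀ q, Module k (EN.X q).carrier] [∀ q, IsScalarTower k S (EN.X q).carrier]
  {P : Type u} [AddCommGroup P] [Module T P] [Module k P] [IsScalarTower k T P]
  (𝒬 : ℤ → AddSubgroup P) [DirectSum.Decomposition 𝒬] [SetLike.GradedSMul 𝒯 𝒬]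
  (φ : P →ₗ[k] M ⊗[k] N) (hP : GrSeg.IsSegreMod ψ ℳ 𝒩 𝒬 φ)
  (mR : HomogeneousIdeal 𝒜) (hmR : mR.toIdeal = irr 𝒜)
  (mS : HomogeneousIdeal ℬ) (hmS : mS.toIdeal = irr ℬ)
  (mT : HomogeneousIdeal 𝒯) (hmT : mT.toIdeal = irr 𝒯)
  (r s : ℕ)
  [IsNoetherianRing R] [IsNoetherianRing S] [IsNoetherianRing T] [IsNoetherianRing (R ⊗[k] S)]
  (EP : StarInjRes 𝒯 𝒬)

attribute [local instance] gsmulAdd ZtDec ZtGSMul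

set_option quotPrecheck false

local notation "TR" => TRes 𝒜 ℬ 𝒯 ψ hT ℳ EM 𝒩 EN 𝒬 φ hP
local notation "WW" => WZ 𝒜 ℬ 𝒯 ψ hT ℳ EM 𝒩 EN mR mS r s
local notation "ZR" => Zt 𝒜 ℳ EM mR (r + 1)
local notation "ZS" => Zt ℬ 𝒩 EN mS (s + 1)
local notation "ZRg" => ZtGr 𝒜 ℳ EM mR (r + 1)
local notation "ZSg" => ZtGr ℬ 𝒩 EN mS (s + 1)
local notation "ctR" => ct 𝒜 ℳ EM mR (r + 1)
local notation "ctS" => ct ℬ 𝒩 EN mS (s + 1)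
local notation "HRg" => EM.Hgr mR (r + 1 + 1)
local notation "HSg" => EN.Hgr mS (s + 1 + 1)

theorem tmap_ct_mem {d : ℤ} {v : ↥ZR ⊗[k] ↥ZS} (hv : v ∈ GrSeg.segrePiece k ZRg ZSg d) :
    tmap k ctR ctS v ∈ GrSeg.segrePiece k HRg HSg d := by
  unfold GrSeg.segrePiece at hv
  induction hv using Submodule.span_induction with
  | mem w hw =>
    obtain ⟨x, hx, y, hy, rfl⟩ := hw
    rw [tmap_tmul]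
    exact Submodule.subset_span ⟨ctR x, ct_isGrHom 𝒜 ℳ EM mR (r + 1) d x hx, ctS y,
      ct_isGrHom ℬ 𝒩 EN mS (s + 1) d y hy, rfl⟩
  | zero => rw [map_zero]; exact zero_mem _
  | add w w' _ _ h h' => rw [map_add]; exact add_mem h h'
  | smul c w _ h => rw [map_smul]; exact Submodule.smul_mem _ _ h

theorem exists_tmap_ct_eq {d : ℤ} {z : EM.H mR (r + 1 + 1) ⊗[k] EN.H mS (s + 1 + 1)}
    (hz : z ∈ GrSeg.segrePiece k HRg HSg d) :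
    ∃ v ∈ GrSeg.segrePiece k ZRg ZSg d, tmap k ctR ctS v = z := by
  unfold GrSeg.segrePiece at hz
  induction hz using Submodule.span_induction with
  | mem w hw =>
    obtain ⟨a, ha, b, hb, rfl⟩ := hw
    obtain ⟨x, hx, rfl⟩ := exists_ct_eq 𝒜 ℳ EM mR (r + 1) d a ha
    obtain ⟨y, hy, rfl⟩ := exists_ct_eq ℬ 𝒩 EN mS (s + 1) d b hb
    exact ⟨x ⊗ₜ[k] y, Submodule.subset_span ⟨x, hx, y, hy, rfl⟩, rfl⟩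
  | zero => exact ⟨0, zero_mem _, map_zero _⟩
  | add w w' _ _ h h' =>
    obtain ⟨v, hv, rfl⟩ := h
    obtain ⟨v', hv', rfl⟩ := h'
    exact ⟨v + v', add_mem hv hv', map_add _ _ _⟩
  | smul c w _ h =>
    obtain ⟨v, hv, rfl⟩ := h
    exact ⟨c • v, Submodule.smul_mem _ _ hv, map_smul _ _ _⟩

theorem segMk_ksmul (c : k) (v : ↥ZR ⊗[k] ↥ZS) (hv : v ∈ segK ZRg ZSg)
    (hcv : c • v ∈ segK ZRg ZSg) :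
    segMk 𝒜 ℬ 𝒯 ψ hT ZRg ZSg (c • v) hcv = algebraMap k T c • segMk 𝒜 ℬ 𝒯 ψ hT ZRg ZSg v hv := by
  apply segVal_injective
  rw [segVal_smul, segVal_segMk, segVal_segMk, AlgHom.commutes, Algebra.algebraMap_eq_smul_one,
    map_smul, LinearMap.smul_apply, act_one]

variable (n : ℕ) (hn : (r + 1) + (s + 1) = n)

include hT hP hmR hmS hmT hn in
/-- the map `Ψ : Z̃_R # Z̃_S → H^{n+1}_{T₊}(M # N)` for an arbitrary *injective resolution -/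
theorem exists_Psi :
    ∃ Ψ : WW →ₗ[T] EP.H mT (n + 1),
      (∀ w, Ψ w = 0 ↔ piT 𝒜 ℬ 𝒯 ψ hT ℳ EM 𝒩 EN mR mS r s w = 0) ∧
      (∀ (d : ℤ) (w : WW), w ∈ segGr 𝒜 ℬ 𝒯 ψ hT ZRg ZSg d → Ψ w ∈ EP.Hgr mT (n + 1) d) := by
  classical
  have hA := totX_isAcyc 𝒜 ℬ 𝒯 ψ hT (fun p => (EM.X p).gr) (fun q => (EN.X q).gr)
    (fun p => EM.starInj p) (fun q => EN.starInj q) mT hmT
  obtain ⟨e', he'⟩ : GrIso T (EP.Hgr mT (n + 1)) ((TR).Hgr (idealAdd 𝒯 mT) (n + 1)) :=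
    acyc_grIso (idealAdd 𝒯 mT) (TR) hA (resAddG 𝒯 𝒬 EP) (n + 1)
  refine ⟨e'.symm.toLinearMap ∘ₗ
    PhiT 𝒜 ℬ 𝒯 ψ hT ℳ EM 𝒩 EN 𝒬 φ hP mR hmR mS hmS mT hmT r s n hn, ?_, ?_⟩
  · intro w
    show e'.symm (PhiT 𝒜 ℬ 𝒯 ψ hT ℳ EM 𝒩 EN 𝒬 φ hP mR hmR mS hmS mT hmT r s n hn w) = 0 ↔ _
    rw [LinearEquiv.map_eq_zero_iff]
    exact ⟨piT_eq_zero_of_PhiT_eq_zero 𝒜 ℬ 𝒯 ψ hT ℳ EM 𝒩 EN 𝒬 φ hP mR hmR mS hmS mT hmT r s n hn w,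
      PhiT_eq_zero_of_piT_eq_zero 𝒜 ℬ 𝒯 ψ hT ℳ EM 𝒩 EN 𝒬 φ hP mR hmR mS hmS mT hmT r s n hn w⟩
  · intro d w hw
    show e'.symm (PhiT 𝒜 ℬ 𝒯 ψ hT ℳ EM 𝒩 EN 𝒬 φ hP mR hmR mS hmS mT hmT r s n hn w) ∈ _
    rw [he' d, e'.apply_symm_apply]
    exact PhiT_mem_Hgr 𝒜 ℬ 𝒯 ψ hT ℳ EM 𝒩 EN 𝒬 φ hP mR hmR mS hmS mT hmT r s n hn d w hw

section Given

variable (Ψ : WZ 𝒜 ℬ 𝒯 ψ hT ℳ EM 𝒩 EN mR mS r s →ₗ[T] EP.H mT (n + 1))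
  (hΨ0 : ∀ w, Ψ w = 0 ↔ piT 𝒜 ℬ 𝒯 ψ hT ℳ EM 𝒩 EN mR mS r s w = 0)
  (hΨgr : ∀ (d : ℤ) (w : WZ 𝒜 ℬ 𝒯 ψ hT ℳ EM 𝒩 EN mR mS r s),
    w ∈ segGr 𝒜 ℬ 𝒯 ψ hT (ZtGr 𝒜 ℳ EM mR (r + 1)) (ZtGr ℬ 𝒩 EN mS (s + 1)) d →
      Ψ w ∈ EP.Hgr mT (n + 1) d)
  (d : ℤ)

/-- the degree `d` part of `Ψ`, on tensors, as a function -/
noncomputable def PsiDfun (v : ↥(GrSeg.segrePiece k ZRg ZSg d)) : ↥(EP.Hcomp mT (n + 1) d) :=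
  ⟨Ψ (segMk 𝒜 ℬ 𝒯 ψ hT ZRg ZSg v.1 (segrePiece_le_segK ZRg ZSg d v.2)),
    hΨgr d (segMk 𝒜 ℬ 𝒯 ψ hT ZRg ZSg v.1 (segrePiece_le_segK ZRg ZSg d v.2)) v.2⟩

theorem PsiDfun_add (v v' : ↥(GrSeg.segrePiece k ZRg ZSg d)) :
    PsiDfun 𝒜 ℬ 𝒯 ψ hT ℳ EM 𝒩 EN 𝒬 mR mS mT r s EP n Ψ hΨgr d (v + v') =
      PsiDfun 𝒜 ℬ 𝒯 ψ hT ℳ EM 𝒩 EN 𝒬 mR mS mT r s EP n Ψ hΨgr d v +
        PsiDfun 𝒜 ℬ 𝒯 ψ hT ℳ EM 𝒩 EN 𝒬 mR mS mT r s EP n Ψ hΨgr d v' := by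
  apply Subtype.ext
  show Ψ (segMk 𝒜 ℬ 𝒯 ψ hT ZRg ZSg (v.1 + v'.1) _) =
    Ψ (segMk 𝒜 ℬ 𝒯 ψ hT ZRg ZSg v.1 _) + Ψ (segMk 𝒜 ℬ 𝒯 ψ hT ZRg ZSg v'.1 _)
  rw [← map_add]
  rfl

/-- the degree `d` part of `Ψ`, on tensors -/
noncomputable def PsiD : ↥(GrSeg.segrePiece k ZRg ZSg d) →+ ↥(EP.Hcomp mT (n + 1) d) :=
  AddMonoidHom.mk' (PsiDfun 𝒜 ℬ 𝒯 ψ hT ℳ EM 𝒩 EN 𝒬 mR mS mT r s EP n Ψ hΨgr d)
    (PsiDfun_add 𝒜 ℬ 𝒯 ψ hT ℳ EM 𝒩 EN 𝒬 mR mS mT r s EP n Ψ hΨgr d)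

theorem PsiD_coe (v : ↥(GrSeg.segrePiece k ZRg ZSg d)) :
    ((PsiD 𝒜 ℬ 𝒯 ψ hT ℳ EM 𝒩 EN 𝒬 mR mS mT r s EP n Ψ hΨgr d v : ↥(EP.Hcomp mT (n + 1) d)) :
      EP.H mT (n + 1)) =
      Ψ (segMk 𝒜 ℬ 𝒯 ψ hT ZRg ZSg v.1 (segrePiece_le_segK ZRg ZSg d v.2)) := rfl

theorem PsiD_smul (c : k) (v : ↥(GrSeg.segrePiece k ZRg ZSg d)) :
    PsiD 𝒜 ℬ 𝒯 ψ hT ℳ EM 𝒩 EN 𝒬 mR mS mT r s EP n Ψ hΨgr d (c • v) =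
      kToDeg0 𝒯 c • PsiD 𝒜 ℬ 𝒯 ψ hT ℳ EM 𝒩 EN 𝒬 mR mS mT r s EP n Ψ hΨgr d v := by
  apply Subtype.ext
  have h1 := segMk_ksmul 𝒜 ℬ 𝒯 ψ hT ℳ EM 𝒩 EN mR mS r s c v.1
    (segrePiece_le_segK ZRg ZSg d v.2) (segrePiece_le_segK ZRg ZSg d (c • v).2)
  have h2 := congrArg Ψ h1
  rw [map_smul] at h2
  exact h2

/-- the degree `d` part of `π'`, on tensors -/
noncomputable def piD : ↥(GrSeg.segrePiece k ZRg ZSg d) →ₗ[k]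
    EM.H mR (r + 1 + 1) ⊗[k] EN.H mS (s + 1 + 1) :=
  tmap k ctR ctS ∘ₗ (GrSeg.segrePiece k ZRg ZSg d).subtype

theorem range_piD :
    LinearMap.range (piD 𝒜 ℬ ℳ EM 𝒩 EN mR mS r s d) =
      Submodule.span k {z : EM.H mR (r + 1 + 1) ⊗[k] EN.H mS (s + 1 + 1) |
        ∃ a ∈ HcompK 𝒜 ℳ EM mR (r + 1 + 1) d, ∃ b ∈ HcompK ℬ 𝒩 EN mS (s + 1 + 1) d,
          z = a ⊗ₜ[k] b} := by
  apply le_antisymm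
  · rintro _ ⟨v, rfl⟩
    exact tmap_ct_mem 𝒜 ℬ ℳ EM 𝒩 EN mR mS r s v.2
  · intro z hz
    obtain ⟨v, hv, rfl⟩ := exists_tmap_ct_eq 𝒜 ℬ ℳ EM 𝒩 EN mR mS r s hz
    exact ⟨⟨v, hv⟩, rfl⟩

include hΨ0 in
theorem PsiD_eq_zero_iff (v : ↥(GrSeg.segrePiece k ZRg ZSg d)) :
    PsiD 𝒜 ℬ 𝒯 ψ hT ℳ EM 𝒩 EN 𝒬 mR mS mT r s EP n Ψ hΨgr d v = 0 ↔
      piD 𝒜 ℬ ℳ EM 𝒩 EN mR mS r s d v = 0 := by
  constructor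
  · intro h
    have h1 : Ψ (segMk 𝒜 ℬ 𝒯 ψ hT ZRg ZSg v.1 (segrePiece_le_segK ZRg ZSg d v.2)) = 0 :=
      congrArg Subtype.val h
    rw [hΨ0] at h1
    exact congrArg (SW.val ψ) h1
  · intro h
    apply Subtype.ext
    show Ψ (segMk 𝒜 ℬ 𝒯 ψ hT ZRg ZSg v.1 (segrePiece_le_segK ZRg ZSg d v.2)) = 0
    rw [hΨ0]
    exact SW.ext ψ h

include hΨ0 in
/-- strict surjectivity on the pieces, by the dimension count -/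
theorem PsiD_surjective [Nontrivial T] (h0T : 𝒯 0 = Submodule.span k {(1 : T)})
    (hfin : Module.Finite (deg0 𝒯) ↥(EP.Hcomp mT (n + 1) d))
    (hdim : Module.finrank (deg0 𝒯) ↥(EP.Hcomp mT (n + 1) d) ≤
      Module.finrank k ↥(HcompK 𝒜 ℳ EM mR (r + 1 + 1) d) *
        Module.finrank k ↥(HcompK ℬ 𝒩 EN mS (s + 1 + 1) d)) :
    Function.Surjective (PsiD 𝒜 ℬ 𝒯 ψ hT ℳ EM 𝒩 EN 𝒬 mR mS mT r s EP n Ψ hΨgr d) := by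
  refine surjective_of_count (kToDeg0 𝒯) (kToDeg0_bijective 𝒯 h0T) _
    (PsiD_smul 𝒜 ℬ 𝒯 ψ hT ℳ EM 𝒩 EN 𝒬 mR mS mT r s EP n Ψ hΨgr d)
    (piD 𝒜 ℬ ℳ EM 𝒩 EN mR mS r s d)
    (PsiD_eq_zero_iff 𝒜 ℬ 𝒯 ψ hT ℳ EM 𝒩 EN 𝒬 mR mS mT r s EP n Ψ hΨ0 hΨgr d) ?_
  rw [range_piD, finrank_span_tmul]
  exact hdim

end Given

end Main

end Groth.Agent.Lib.helper26.Kun
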