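import Mathlib
import Groth.Prelude.Def_GrLC
import Groth.Prelude.Def_GrSeg
import Groth.Agent.Lib.Helper26.KunTop7

/-!
# The top Künneth isomorphism for Segre products, `T`-linearly: assembly (helper26)
-/

set_option autoImplicit false
set_option linter.unusedSectionVars false
set_option linter.dupNamespace false
universe u
open scoped TensorProduct

namespace Groth.Agent.Lib.helper26.Kun

open GrLC Groth.Agent.Lib.helper19.GrConv Groth.Agent.Lib.helper19.GrMod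
  Groth.Agent.Lib.helper26.Seg Groth.Agent.Lib.helper26.GrCM Groth.Agent.Lib.helper26.Acyc

section Main

variable {k : Type u} [Field k] {R : Type u} [CommRing R] [Algebra k R]
  (𝒜 : ℤ → Submodule k R) [GradedAlgebra 𝒜]
  {S : Type u} [CommRing S] [Algebra k S] (ℬ : ℤ → Submodule k S) [GradedAlgebra ℬ]
  {T : Type u} [CommRing T] [Algebra k T] (𝒯 : ℤ → Submodule k T) [GradedAlgebra 𝒯]
  (ψ : T →ₐ[k] R ⊗[k] S) (hT : GrSeg.IsSegreRing 𝒜 ℬ 𝒯 ψ)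
  {M : Type u} [AddCommGroup M] [Module R M] [Module k M] [IsScalarTower k R M]
  (ℳ : ℤ → AddSubgroup M) [DirectSum.Decomposition ℳ] [SetLike.GradedSMul 𝒜 ℳ]
  (EM : StarInjRes 𝒜 ℳ) [∀ p, Module k (EM.X p).carrier] [∀ p, IsScalarTower k R (EM.X p).carrier]
  {N : Type u} [AddCommGroup N] [Module S N] [Module k N] [IsScalarTower k S N]
  (𝒩 : ℤ → AddSubgroup N) [DirectSum.Decomposition 𝒩] [SetLike.GradedSMul ℬ 𝒩]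
  (EN : StarInjRes ℬ 𝒩) [∀ q, Module k (EN.X q).carrier] [∀ q, IsScalarTower k S (EN.X q).carrier]
  {P : Type u} [AddCommGroup P] [Module T P] [Module k P] [IsScalarTower k T P]
  (𝒬 : ℤ → AddSubgroup P) [DirectSum.Decomposition 𝒬] [SetLike.GradedSMul 𝒯 𝒬]
  (φ : P →ₗ[k] M ⊗[k] N) (hP : GrSeg.IsSegreMod ψ ℳ 𝒩 𝒬 φ)
  (mR : HomogeneousIdeal 𝒜) (hmR : mR.toIdeal = irr 𝒜)
  (mS : HomogeneousIdeal ℬ) (hmS : mS.toIdeal = irr ℬ)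
  (mT : HomogeneousIdeal 𝒯) (hmT : mT.toIdeal = irr 𝒯)
  (r s : ℕ)
  [IsNoetherianRing R] [IsNoetherianRing S] [IsNoetherianRing T] [IsNoetherianRing (R ⊗[k] S)]
  (EP : StarInjRes 𝒯 𝒬)
  (n : ℕ) (hn : (r + 1) + (s + 1) = n)

attribute [local instance] gsmulAdd ZtDec ZtGSMul

set_option quotPrecheck false

local notation "WW" => WZ 𝒜 ℬ 𝒯 ψ hT ℳ EM 𝒩 EN mR mS r s
local notation "ZR" => Zt 𝒜 ℳ EM mR (r + 1)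
local notation "ZS" => Zt ℬ 𝒩 EN mS (s + 1)
local notation "ZRg" => ZtGr 𝒜 ℳ EM mR (r + 1)
local notation "ZSg" => ZtGr ℬ 𝒩 EN mS (s + 1)
local notation "ctR" => ct 𝒜 ℳ EM mR (r + 1)
local notation "ctS" => ct ℬ 𝒩 EN mS (s + 1)
local notation "HRg" => EM.Hgr mR (r + 1 + 1)
local notation "HSg" => EN.Hgr mS (s + 1 + 1)

section Given

variable (Ψ : WZ 𝒜 ℬ 𝒯 ψ hT ℳ EM 𝒩 EN mR mS r s →ₗ[T] EP.H mT (n + 1))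
  (hΨ0 : ∀ w, Ψ w = 0 ↔ piT 𝒜 ℬ 𝒯 ψ hT ℳ EM 𝒩 EN mR mS r s w = 0)
  (hΨgr : ∀ (d : ℤ) (w : WZ 𝒜 ℬ 𝒯 ψ hT ℳ EM 𝒩 EN mR mS r s),
    w ∈ segGr 𝒜 ℬ 𝒯 ψ hT (ZtGr 𝒜 ℳ EM mR (r + 1)) (ZtGr ℬ 𝒩 EN mS (s + 1)) d →
      Ψ w ∈ EP.Hgr mT (n + 1) d)

include hΨ0 hΨgr in
/-- strict surjectivity of `Ψ` on the pieces -/
theorem exists_Psi_eq [Nontrivial T] (h0T : 𝒯 0 = Submodule.span k {(1 : T)})
    (hfin : ∀ d : ℤ, Module.Finite (deg0 𝒯) ↥(EP.Hcomp mT (n + 1) d))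
    (hdim : ∀ d : ℤ, Module.finrank (deg0 𝒯) ↥(EP.Hcomp mT (n + 1) d) ≤
      Module.finrank k ↥(HcompK 𝒜 ℳ EM mR (r + 1 + 1) d) *
        Module.finrank k ↥(HcompK ℬ 𝒩 EN mS (s + 1 + 1) d))
    (d : ℤ) (y : EP.H mT (n + 1)) (hy : y ∈ EP.Hgr mT (n + 1) d) :
    ∃ (v : ↥ZR ⊗[k] ↥ZS) (hv : v ∈ GrSeg.segrePiece k ZRg ZSg d),
      Ψ (segMk 𝒜 ℬ 𝒯 ψ hT ZRg ZSg v (segrePiece_le_segK ZRg ZSg d hv)) = y := by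
  obtain ⟨v, hv⟩ := PsiD_surjective 𝒜 ℬ 𝒯 ψ hT ℳ EM 𝒩 EN 𝒬 mR mS mT r s EP n Ψ hΨ0 hΨgr d h0T
    (hfin d) (hdim d) ⟨y, hy⟩
  exact ⟨v.1, v.2, congrArg Subtype.val hv⟩

include hΨ0 hΨgr in
theorem Psi_surjective [Nontrivial T] (h0T : 𝒯 0 = Submodule.span k {(1 : T)})
    (hfin : ∀ d : ℤ, Module.Finite (deg0 𝒯) ↥(EP.Hcomp mT (n + 1) d))
    (hdim : ∀ d : ℤ, Module.finrank (deg0 𝒯) ↥(EP.Hcomp mT (n + 1) d) ≤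
      Module.finrank k ↥(HcompK 𝒜 ℳ EM mR (r + 1 + 1) d) *
        Module.finrank k ↥(HcompK ℬ 𝒩 EN mS (s + 1 + 1) d)) :
    Function.Surjective Ψ := by
  classical
  have hint : DirectSum.IsInternal (EP.Hgr mT (n + 1)) :=
    isInternal_Hgr (resAddG 𝒯 𝒬 EP) (idealAdd 𝒯 mT) (n + 1)
  intro y
  obtain ⟨t, rfl⟩ := hint.2 y
  induction t using DirectSum.induction_on with
  | zero => exact ⟨0, by rw [map_zero, map_zero]⟩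
  | of d x =>
    obtain ⟨v, hv, hvx⟩ := exists_Psi_eq 𝒜 ℬ 𝒯 ψ hT ℳ EM 𝒩 EN 𝒬 mR mS mT r s EP n Ψ hΨ0 hΨgr h0T
      hfin hdim d x.1 x.2
    refine ⟨_, hvx.trans ?_⟩
    rw [DirectSum.coeAddMonoidHom_of]
  | add t t' h h' =>
    obtain ⟨w, hw⟩ := h
    obtain ⟨w', hw'⟩ := h'
    exact ⟨w + w', by rw [map_add, map_add, hw, hw']⟩

include hΨ0 hΨgr in
/-- the Segre presentation, given `Ψ` -/
theorem exists_segreH_of_Psi [Nontrivial T] (h0T : 𝒯 0 = Submodule.span k {(1 : T)})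
    (hfin : ∀ d : ℤ, Module.Finite (deg0 𝒯) ↥(EP.Hcomp mT (n + 1) d))
    (hdim : ∀ d : ℤ, Module.finrank (deg0 𝒯) ↥(EP.Hcomp mT (n + 1) d) ≤
      Module.finrank k ↥(HcompK 𝒜 ℳ EM mR (r + 1 + 1) d) *
        Module.finrank k ↥(HcompK ℬ 𝒩 EN mS (s + 1 + 1) d)) :
    ∃ Φ : EP.H mT (n + 1) →ₗ[T] SW ψ (EM.H mR (r + 1 + 1)) (EN.H mS (s + 1 + 1)),
      Function.Injective Φ ∧
      ∀ d : ℤ, (fun x => SW.val ψ (Φ x)) '' (EP.Hgr mT (n + 1) d : Set (EP.H mT (n + 1))) =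
        (GrSeg.segrePiece k HRg HSg d :
          Set (EM.H mR (r + 1 + 1) ⊗[k] EN.H mS (s + 1 + 1))) := by
  have hΨs := Psi_surjective 𝒜 ℬ 𝒯 ψ hT ℳ EM 𝒩 EN 𝒬 mR mS mT r s EP n Ψ hΨ0 hΨgr h0T hfin hdim
  have hker : LinearMap.ker Ψ ≤ LinearMap.ker (piT 𝒜 ℬ 𝒯 ψ hT ℳ EM 𝒩 EN mR mS r s) := by
    intro w hw
    rw [LinearMap.mem_ker] at hw ⊢
    exact (hΨ0 w).1 hw
  obtain ⟨Φ, hΦ⟩ : ∃ Φ : EP.H mT (n + 1) →ₗ[T] SW ψ (EM.H mR (r + 1 + 1)) (EN.H mS (s + 1 + 1)),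
      ∀ w, Φ (Ψ w) = piT 𝒜 ℬ 𝒯 ψ hT ℳ EM 𝒩 EN mR mS r s w := by
    refine ⟨(LinearMap.ker Ψ).liftQ (piT 𝒜 ℬ 𝒯 ψ hT ℳ EM 𝒩 EN mR mS r s) hker ∘ₗ
      (Ψ.quotKerEquivOfSurjective hΨs).symm.toLinearMap, ?_⟩
    intro w
    have h1 : (Ψ.quotKerEquivOfSurjective hΨs).symm (Ψ w) = Submodule.Quotient.mk w := by
      rw [LinearEquiv.symm_apply_eq]
      rfl
    show (LinearMap.ker Ψ).liftQ (piT 𝒜 ℬ 𝒯 ψ hT ℳ EM 𝒩 EN mR mS r s) hker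
      ((Ψ.quotKerEquivOfSurjective hΨs).symm (Ψ w)) = _
    rw [h1]
    rfl
  refine ⟨Φ, ?_, ?_⟩
  · rw [injective_iff_map_eq_zero]
    intro y hy
    obtain ⟨w, rfl⟩ := hΨs y
    rw [hΦ] at hy
    exact (hΨ0 w).2 hy
  · intro d
    apply Set.Subset.antisymm
    · rintro _ ⟨y, hy, rfl⟩
      obtain ⟨v, hv, rfl⟩ := exists_Psi_eq 𝒜 ℬ 𝒯 ψ hT ℳ EM 𝒩 EN 𝒬 mR mS mT r s EP n Ψ hΨ0 hΨgr
        h0T hfin hdim d y hy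
      show SW.val ψ (Φ (Ψ _)) ∈ _
      rw [hΦ, piT_val, segVal_segMk]
      exact tmap_ct_mem 𝒜 ℬ ℳ EM 𝒩 EN mR mS r s hv
    · intro z hz
      obtain ⟨v, hv, rfl⟩ := exists_tmap_ct_eq 𝒜 ℬ ℳ EM 𝒩 EN mR mS r s hz
      refine ⟨Ψ (segMk 𝒜 ℬ 𝒯 ψ hT ZRg ZSg v (segrePiece_le_segK ZRg ZSg d hv)),
        hΨgr d _ hv, ?_⟩
      show SW.val ψ (Φ (Ψ _)) = _
      rw [hΦ, piT_val, segVal_segMk]

end Given

include hT hP hmR hmS hmT hn in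
/-- **the top Künneth isomorphism, `T`-linearly** (given the dimension count) -/
theorem exists_segreH_top [Nontrivial T] (h0T : 𝒯 0 = Submodule.span k {(1 : T)})
    (hfin : ∀ d : ℤ, Module.Finite (deg0 𝒯) ↥(EP.Hcomp mT (n + 1) d))
    (hdim : ∀ d : ℤ, Module.finrank (deg0 𝒯) ↥(EP.Hcomp mT (n + 1) d) ≤
      Module.finrank k ↥(HcompK 𝒜 ℳ EM mR (r + 1 + 1) d) *
        Module.finrank k ↥(HcompK ℬ 𝒩 EN mS (s + 1 + 1) d)) :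
    ∃ Φ : EP.H mT (n + 1) →ₗ[T] SW ψ (EM.H mR (r + 1 + 1)) (EN.H mS (s + 1 + 1)),
      Function.Injective Φ ∧
      ∀ d : ℤ, (fun x => SW.val ψ (Φ x)) '' (EP.Hgr mT (n + 1) d : Set (EP.H mT (n + 1))) =
        (GrSeg.segrePiece k HRg HSg d :
          Set (EM.H mR (r + 1 + 1) ⊗[k] EN.H mS (s + 1 + 1))) := by
  obtain ⟨Ψ, hΨ0, hΨgr⟩ := exists_Psi 𝒜 ℬ 𝒯 ψ hT ℳ EM 𝒩 EN 𝒬 φ hP mR hmR mS hmS mT hmT r s EP n hn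
  exact exists_segreH_of_Psi 𝒜 ℬ 𝒯 ψ hT ℳ EM 𝒩 EN 𝒬 mR mS mT r s EP n Ψ hΨ0 hΨgr h0T hfin hdim

end Main

end Groth.Agent.Lib.helper26.Kun
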