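import Mathlib
import Groth.Prelude.Def_GrLC
import Groth.Prelude.Def_GrSeg
import Groth.Agent.Lib.Helper26.KunTop8

/-!
# The top Künneth isomorphism for Segre products, `T`-linearly: final form (helper26)

`H^{r+s+3}_{T₊}(M # N) ≅ H^{r+2}_{R₊}(M) # H^{s+2}_{S₊}(N)` as graded `T`-modules, for finitely
generated graded modules `M`, `N` whose local cohomology vanishes above `r + 2`, `s + 2`.
-/

set_option autoImplicit false
set_option linter.unusedSectionVars false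
set_option linter.dupNamespace false
universe u
open scoped TensorProduct

namespace Groth.Agent.Lib.helper26.Kun

open GrLC Groth.Agent.Lib.helper19.GrConv Groth.Agent.Lib.helper19.GrMod
  Groth.Agent.Lib.helper26.Seg Groth.Agent.Lib.helper26.GrCM Groth.Agent.Lib.helper26.Acyc

attribute [local instance] gsmulAdd

/-- **the top Künneth isomorphism for Segre products**, as graded `T`-modules -/
theorem exists_segreH_top_final {k : Type u} [Field k] {R : Type u} [CommRing R] [Nontrivial R]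
    [Algebra k R]
    (𝒜 : ℤ → Submodule k R) [GradedAlgebra 𝒜] (hposR : ∀ n : ℤ, n < 0 → 𝒜 n = ⊥)
    (h0R : 𝒜 0 = Submodule.span k {(1 : R)}) [Algebra.FiniteType k R]
    {S : Type u} [CommRing S] [Nontrivial S] [Algebra k S] (ℬ : ℤ → Submodule k S)
    [GradedAlgebra ℬ] (hposS : ∀ n : ℤ, n < 0 → ℬ n = ⊥)
    (h0S : ℬ 0 = Submodule.span k {(1 : S)}) [Algebra.FiniteType k S]
    {T : Type u} [CommRing T] [Algebra k T] (𝒯 : ℤ → Submodule k T) [GradedAlgebra 𝒯]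
    (ψ : T →ₐ[k] R ⊗[k] S) (hT : GrSeg.IsSegreRing 𝒜 ℬ 𝒯 ψ)
    (mR : HomogeneousIdeal 𝒜) (hmR : mR.toIdeal = irr 𝒜)
    (mS : HomogeneousIdeal ℬ) (hmS : mS.toIdeal = irr ℬ)
    (mT : HomogeneousIdeal 𝒯) (hmT : mT.toIdeal = irr 𝒯)
    {M : Type u} [AddCommGroup M] [Module R M] [Module k M] [IsScalarTower k R M]
    (ℳ : ℤ → AddSubgroup M) [DirectSum.Decomposition ℳ] [SetLike.GradedSMul 𝒜 ℳ]
    [Module.Finite R M] (EM : StarInjRes 𝒜 ℳ)
    [∀ p, Module k (EM.X p).carrier] [∀ p, IsScalarTower k R (EM.X p).carrier]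
    {N : Type u} [AddCommGroup N] [Module S N] [Module k N] [IsScalarTower k S N]
    (𝒩 : ℤ → AddSubgroup N) [DirectSum.Decomposition 𝒩] [SetLike.GradedSMul ℬ 𝒩]
    [Module.Finite S N] (EN : StarInjRes ℬ 𝒩)
    [∀ q, Module k (EN.X q).carrier] [∀ q, IsScalarTower k S (EN.X q).carrier]
    {P : Type u} [AddCommGroup P] [Module T P] [Module k P] [IsScalarTower k T P]
    (𝒬 : ℤ → AddSubgroup P) [DirectSum.Decomposition 𝒬] [SetLike.GradedSMul 𝒯 𝒬]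
    [Module.Finite T P]
    (φ : P →ₗ[k] M ⊗[k] N) (hP : GrSeg.IsSegreMod ψ ℳ 𝒩 𝒬 φ) (EP : StarInjRes 𝒯 𝒬)
    (r s : ℕ) (hM : ∀ (q : ℕ) (d : ℤ), r + 1 + 1 < q → EM.Hcomp mR q d = ⊥)
    (hN : ∀ (q : ℕ) (d : ℤ), s + 1 + 1 < q → EN.Hcomp mS q d = ⊥)
    (qT : ℕ) (hqT : qT = (r + 1) + (s + 1) + 1) :
    ∃ Φ : EP.H mT qT →ₗ[T] SW ψ (EM.H mR (r + 1 + 1)) (EN.H mS (s + 1 + 1)),
      Function.Injective Φ ∧
      ∀ d : ℤ, (fun x => SW.val ψ (Φ x)) '' (EP.Hgr mT qT d : Set (EP.H mT qT)) =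
        (GrSeg.segrePiece k (EM.Hgr mR (r + 1 + 1)) (EN.Hgr mS (s + 1 + 1)) d :
          Set (EM.H mR (r + 1 + 1) ⊗[k] EN.H mS (s + 1 + 1))) := by
  classical
  subst hqT
  have hnoeR : IsNoetherianRing R := Algebra.FiniteType.isNoetherianRing k R
  have hnoeS : IsNoetherianRing S := Algebra.FiniteType.isNoetherianRing k S
  have hnoeRS : IsNoetherianRing (R ⊗[k] S) := Algebra.FiniteType.isNoetherianRing R (R ⊗[k] S)
  have hdegT : ∀ n : ℤ, (𝒯 n).map ψ.toLinearMap =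
      Submodule.span k {x : R ⊗[k] S | ∃ a ∈ 𝒜 n, ∃ b ∈ ℬ n, x = a ⊗ₜ[k] b} := hT.2
  have hFT : Algebra.FiniteType k T := finiteType_segre 𝒜 ℬ 𝒯 ψ hdegT hT.1 hposR h0R hposS h0S
  have hnoeT : IsNoetherianRing T := Algebra.FiniteType.isNoetherianRing k T
  have hNT : Nontrivial T := ψ.toRingHom.domain_nontrivial
  have h0T : 𝒯 0 = Submodule.span k {(1 : T)} := pieceT_zero 𝒜 ℬ 𝒯 ψ hdegT hT.1 h0R h0S
  have hposT : ∀ n : ℤ, n < 0 → 𝒯 n = ⊥ := by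
    intro n hn
    rw [eq_bot_iff]
    intro t ht
    have h1 : ψ t ∈ (𝒯 n).map ψ.toLinearMap := ⟨t, ht, rfl⟩
    rw [hdegT n] at h1
    have h2 : Submodule.span k {x : R ⊗[k] S | ∃ a ∈ 𝒜 n, ∃ b ∈ ℬ n, x = a ⊗ₜ[k] b} = ⊥ := by
      rw [Submodule.span_eq_bot]
      rintro x ⟨a, ha, b, hb, rfl⟩
      rw [hposR n hn, Submodule.mem_bot] at ha
      rw [ha, TensorProduct.zero_tmul]
    rw [h2, Submodule.mem_bot] at h1
    rw [Submodule.mem_bot]
    exact hT.1 (h1.trans (map_zero ψ).symm)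
  let mkP : ∀ p, Module k (EP.X p).carrier := fun p => Module.compHom _ (algebraMap k T)
  have stP : ∀ p, IsScalarTower k T (EP.X p).carrier := fun p =>
    IsScalarTower.of_algebraMap_smul fun _ _ => rfl
  refine exists_segreH_top 𝒜 ℬ 𝒯 ψ hT ℳ EM 𝒩 EN 𝒬 φ hP mR hmR mS hmS mT hmT r s EP
    ((r + 1) + (s + 1)) rfl h0T
    (fun d => finite_Hcomp 𝒯 𝒬 EP mT hmT d h0T hposT ((r + 1) + (s + 1) + 1)) ?_
  intro d
  have h1 := kunneth_segre_top 𝒜 hposR h0R ℬ hposS h0S 𝒯 ψ hT mR hmR mS hmS mT hmT ℳ EM 𝒩 EN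
    𝒬 φ hP EP r s (fun q d h => hM q d h) (fun q d h => hN q d h) d
  have e : r + s + 3 = (r + 1) + (s + 1) + 1 := by omega
  rw [e] at h1
  rw [h1, finrank_HcompK 𝒜 ℳ EM mR (r + 1 + 1) d h0R, finrank_HcompK ℬ 𝒩 EN mS (s + 1 + 1) d h0S]

end Groth.Agent.Lib.helper26.Kun
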