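import Mathlib
import Groth.Prelude.Def_GrLC
import Groth.Prelude.Def_GrSeg
import Groth.Agent.Lib.Helper26.KunAF
import Groth.Agent.Lib.Helper26.KunTop9
import Groth.Agent.Lib.Helper26.GorSeg2

/-!
# The socle of the top local cohomology of a Segre product of rings (helper26)
-/

set_option autoImplicit false
set_option linter.unusedSectionVars false
set_option linter.dupNamespace false
universe u
open scoped TensorProduct

namespace Groth.Agent.Lib.helper26.GorSeg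

open GrLC Groth.Agent.Lib.helper26.Kun Groth.Agent.Lib.helper19.GrConv
  Groth.Agent.Lib.helper19.GrMod Groth.Agent.Lib.helper19.GrLes
  Groth.Agent.Lib.helper26.GorS Groth.Agent.Lib.helper26.Seg Groth.Agent.Lib.helper26.Acyc

attribute [local instance] gsmulAdd gsmulSelf

/-- the pieces of graded local cohomology form a graded module (gradings by `k`-subspaces) -/
theorem hgr_gradedSMul' {k : Type u} [Field k] {R : Type u} [CommRing R] [Algebra k R]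
    (𝒜 : ℤ → Submodule k R) [GradedAlgebra 𝒜]
    {M : Type u} [AddCommGroup M] [Module R M] (ℳ : ℤ → AddSubgroup M)
    [DirectSum.Decomposition ℳ] [SetLike.GradedSMul 𝒜 ℳ]
    (E : StarInjRes 𝒜 ℳ) (a : HomogeneousIdeal 𝒜) (i : ℕ) :
    SetLike.GradedSMul 𝒜 (E.Hgr a i) :=
  ⟨fun {_ _ _ _} hx hy => by
    have := smul_mem_Hgr (resAddG 𝒜 ℳ E) (idealAdd 𝒜 a) i hx hy
    rwa [← vadd_eq_add] at this⟩

theorem isField_deg0_addGr {k : Type u} [Field k] {T : Type u} [CommRing T] [Nontrivial T]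
    [Algebra k T] (𝒯 : ℤ → Submodule k T) [GradedAlgebra 𝒯]
    (h0T : 𝒯 0 = Submodule.span k {(1 : T)}) : IsField (deg0 (addGr 𝒯)) :=
  MulEquiv.isField (Field.toIsField k)
    (RingEquiv.ofBijective (kToDeg0A 𝒯) (kToDeg0A_bijective 𝒯 h0T)).symm.toMulEquiv

/-- **the socle of the top local cohomology of a Segre product of rings** -/
theorem segre_soc_ring {k : Type u} [Field k] {R : Type u} [CommRing R] [Nontrivial R]
    [Algebra k R]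
    (𝒜 : ℤ → Submodule k R) [GradedAlgebra 𝒜] (hposR : ∀ n : ℤ, n < 0 → 𝒜 n = ⊥)
    (h0R : 𝒜 0 = Submodule.span k {(1 : R)}) [Algebra.FiniteType k R]
    {S : Type u} [CommRing S] [Nontrivial S] [Algebra k S] (ℬ : ℤ → Submodule k S)
    [GradedAlgebra ℬ] (hposS : ∀ n : ℤ, n < 0 → ℬ n = ⊥)
    (h0S : ℬ 0 = Submodule.span k {(1 : S)}) [Algebra.FiniteType k S]
    {T : Type u} [CommRing T] [Algebra k T] (𝒯 : ℤ → Submodule k T) [GradedAlgebra 𝒯]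
    (ψ : T →ₐ[k] R ⊗[k] S) (hψ : Function.Injective ψ)
    (hdegT : ∀ n : ℤ, (𝒯 n).map ψ.toLinearMap =
      Submodule.span k {x : R ⊗[k] S | ∃ a ∈ 𝒜 n, ∃ b ∈ ℬ n, x = a ⊗ₜ[k] b})
    (mR : HomogeneousIdeal 𝒜) (hmR : mR.toIdeal = irr 𝒜) (I : StarInjRes 𝒜 𝒜)
    (mS : HomogeneousIdeal ℬ) (hmS : mS.toIdeal = irr ℬ) (J : StarInjRes ℬ ℬ)
    (mT : HomogeneousIdeal 𝒯) (hmT : mT.toIdeal = irr 𝒯) (IT : StarInjRes 𝒯 𝒯)
    (r s : ℕ) (hr : ringKrullDim R = ((r + 1 + 1 : ℕ) : WithBot ℕ∞))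
    (hs : ringKrullDim S = ((s + 1 + 1 : ℕ) : WithBot ℕ∞))
    (qT : ℕ) (hqT : qT = (r + 1) + (s + 1) + 1) (b : ℤ)
    (hX : ∀ j : ℤ, j < b → ∀ x ∈ I.Hgr mR (r + 1 + 1) j, x ≠ 0 → ∃ a ∈ 𝒜 (b - j), a • x ≠ 0)
    (hY : ∀ j : ℤ, j < b → ∀ y ∈ J.Hgr mS (s + 1 + 1) j, y ≠ 0 → ∃ a ∈ ℬ (b - j), a • y ≠ 0)
    (htop : ∀ j : ℤ, b < j → I.Hgr mR (r + 1 + 1) j = ⊥ ∨ J.Hgr mS (s + 1 + 1) j = ⊥)
    (h : IT.H mT qT) : (∀ t ∈ mT.toIdeal, t • h = 0) ↔ h ∈ IT.Hgr mT qT b := by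
  classical
  have hnoeR : IsNoetherianRing R := Algebra.FiniteType.isNoetherianRing k R
  have hnoeS : IsNoetherianRing S := Algebra.FiniteType.isNoetherianRing k S
  have hT : GrSeg.IsSegreRing 𝒜 ℬ 𝒯 ψ := ⟨hψ, hdegT⟩
  have hFT : Algebra.FiniteType k T := finiteType_segre 𝒜 ℬ 𝒯 ψ hdegT hT.1 hposR h0R hposS h0S
  have hnoeT : IsNoetherianRing T := Algebra.FiniteType.isNoetherianRing k T
  have hNT : Nontrivial T := ψ.toRingHom.domain_nontrivial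
  have h0T : 𝒯 0 = Submodule.span k {(1 : T)} := pieceT_zero 𝒜 ℬ 𝒯 ψ hdegT hT.1 h0R h0S
  have hposT : ∀ n : ℤ, n < 0 → addGr 𝒯 n = ⊥ := by
    intro n hn
    rw [eq_bot_iff]
    intro t ht
    have h1 : ψ t ∈ (𝒯 n).map ψ.toLinearMap := ⟨t, ht, rfl⟩
    rw [hdegT n] at h1
    have h2 : Submodule.span k {x : R ⊗[k] S | ∃ a ∈ 𝒜 n, ∃ b ∈ ℬ n, x = a ⊗ₜ[k] b} = ⊥ := by
      rw [Submodule.span_eq_bot]
      rintro x ⟨a, ha, b, hb, rfl⟩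
      rw [hposR n hn, Submodule.mem_bot] at ha
      rw [ha, TensorProduct.zero_tmul]
    rw [h2, Submodule.mem_bot] at h1
    rw [AddSubgroup.mem_bot]
    exact hT.1 (h1.trans (map_zero ψ).symm)
  let mkM : ∀ p, Module k ((resSelf 𝒜 I).X p).carrier := fun p =>
    Module.compHom _ (algebraMap k R)
  have stM : ∀ p, IsScalarTower k R ((resSelf 𝒜 I).X p).carrier := fun p =>
    IsScalarTower.of_algebraMap_smul fun _ _ => rfl
  let mkN : ∀ p, Module k ((resSelf ℬ J).X p).carrier := fun p =>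
    Module.compHom _ (algebraMap k S)
  have stN : ∀ p, IsScalarTower k S ((resSelf ℬ J).X p).carrier := fun p =>
    IsScalarTower.of_algebraMap_smul fun _ _ => rfl
  have hvR : ∀ (q : ℕ) (d : ℤ), r + 1 + 1 < q → (resSelf 𝒜 I).Hcomp mR q d = ⊥ := by
    intro q d hq
    apply Hcomp_eq_bot_of_supportDim_lt 𝒜 (addGr 𝒜) (resSelf 𝒜 I) mR q _ d
    rw [Module.supportDim_self_eq_ringKrullDim, hr]
    exact_mod_cast hq
  have hvS : ∀ (q : ℕ) (d : ℤ), s + 1 + 1 < q → (resSelf ℬ J).Hcomp mS q d = ⊥ := by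
    intro q d hq
    apply Hcomp_eq_bot_of_supportDim_lt ℬ (addGr ℬ) (resSelf ℬ J) mS q _ d
    rw [Module.supportDim_self_eq_ringKrullDim, hs]
    exact_mod_cast hq
  obtain ⟨Φ, hΦi, hΦd⟩ := exists_segreH_top_final 𝒜 hposR h0R ℬ hposS h0S 𝒯 ψ hT mR hmR mS hmS
    mT hmT (addGr 𝒜) (resSelf 𝒜 I) (addGr ℬ) (resSelf ℬ J) (addGr 𝒯) ψ.toLinearMap
    (isSegreMod_self 𝒜 ℬ 𝒯 ψ hψ hdegT) (resSelf 𝒯 IT) r s hvR hvS qT hqT
  let _ : DirectSum.Decomposition ((resSelf 𝒯 IT).Hgr mT qT) :=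
    hgrDecomposition (addGr 𝒯) (resAddG 𝒯 (addGr 𝒯) (resSelf 𝒯 IT)) (idealAdd 𝒯 mT) qT
  have gsT : SetLike.GradedSMul (addGr 𝒯) ((resSelf 𝒯 IT).Hgr mT qT) :=
    hgr_gradedSMul (addGr 𝒯) (resAddG 𝒯 (addGr 𝒯) (resSelf 𝒯 IT)) (idealAdd 𝒯 mT) qT
  have gsR : SetLike.GradedSMul 𝒜 ((resSelf 𝒜 I).Hgr mR (r + 1 + 1)) :=
    hgr_gradedSMul' 𝒜 (addGr 𝒜) (resSelf 𝒜 I) mR (r + 1 + 1)
  have gsS : SetLike.GradedSMul ℬ ((resSelf ℬ J).Hgr mS (s + 1 + 1)) :=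
    hgr_gradedSMul' ℬ (addGr ℬ) (resSelf ℬ J) mS (s + 1 + 1)
  exact soc_iff_mem_top 𝒜 ℬ 𝒯 ψ hT ((resSelf 𝒜 I).Hgr mR (r + 1 + 1))
    ((resSelf ℬ J).Hgr mS (s + 1 + 1)) hposT (isField_deg0_addGr 𝒯 h0T) mT hmT
    ((resSelf 𝒯 IT).Hgr mT qT) Φ hΦi hΦd b hX hY htop h

end Groth.Agent.Lib.helper26.GorSeg
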