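import Mathlib
import Groth.Prelude.Def_GrLC
import Groth.Agent.Lib.Helper26.Acyc2
import Groth.Agent.S11614
import Groth.Agent.S13217

/-!
# Independence of the base for graded local cohomology (helper26)

`φ : A → B` a homomorphism of Noetherian `ℤ`-graded rings (`B` an `A`-algebra, `φ(A_j) ⊆ B_j`),
`a ⊆ A`, `b ⊆ B` homogeneous ideals with `aB ⊆ b` and `b^N ⊆ aB`, `M` a graded `B`-module.
Then the graded local cohomology `H^i_b(M)` computed over `B` is isomorphic, compatibly with the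
gradings and semilinearly over `φ`, to `H^i_a(M)` computed over `A`.

* `resGMod`, `resRes` : restriction of scalars of graded modules and of *injective resolutions
  (to resolutions by graded modules, `Acyc.GRes`);
* `mem_gam_res_iff`, `isAcyc_resGMod`;
* `exists_indep` : the comparison.
-/

set_option autoImplicit false
set_option linter.unusedSectionVars false
set_option linter.dupNamespace false
universe u

namespace Groth.Agent.Lib.helper26.Indep

open GrLC Groth.Agent.Lib.helper26.Acyc Groth.Agent.Lib.helper19.GrMod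

section Res

variable {A B : Type u} [CommRing A] [CommRing B] [Algebra A B]
  (𝒜 : ℤ → AddSubgroup A) [GradedRing 𝒜] (ℬ : ℤ → AddSubgroup B) [GradedRing ℬ]
  (hφ : ∀ j : ℤ, ∀ r ∈ 𝒜 j, algebraMap A B r ∈ ℬ j)

/-- restriction of scalars of a graded module -/
@[reducible] noncomputable def resGMod (X : GMod.{u} ℬ) : GMod.{u} 𝒜 :=
  letI : Module A X.carrier := Module.compHom X.carrier (algebraMap A B)
  { carrier := X.carrier
    gr := X.gr
    gsmul := ⟨fun {i j r x} hr hx => X.gsmul.smul_mem (hφ i r hr) hx⟩ }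

variable {M : Type u} [AddCommGroup M] [Module B M] [Module A M] [IsScalarTower A B M]
  {ℳ : ℤ → AddSubgroup M} [DirectSum.Decomposition ℳ] [SetLike.GradedSMul ℬ ℳ]
  [SetLike.GradedSMul 𝒜 ℳ]

/-- restriction of scalars of a *injective resolution: a resolution by graded `A`-modules -/
noncomputable def resRes (E : StarInjRes ℬ ℳ) : GRes 𝒜 ℳ where
  X n := resGMod 𝒜 ℬ hφ (E.X n)
  d n :=
    { toFun := E.d n
      map_add' := (E.d n).map_add
      map_smul' := fun r x => (E.d n).map_smul (algebraMap A B r) x }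
  ε :=
    { toFun := E.ε
      map_add' := E.ε.map_add
      map_smul' := fun r x => by
        rw [← algebraMap_smul B r x, E.ε.map_smul]
        rfl }
  d_grHom n := E.d_grHom n
  ε_grHom := E.ε_grHom
  ε_injective := E.ε_injective
  exact_zero := by
    ext x
    have h := E.exact_zero
    constructor
    · intro hx
      have hx' : x ∈ LinearMap.ker (E.d 0) := hx
      rw [h] at hx'
      obtain ⟨y, hy⟩ := hx'
      exact ⟨y, hy⟩
    · rintro ⟨y, hy⟩
      have hx' : x ∈ LinearMap.range E.ε := ⟨y, hy⟩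
      rw [← h] at hx'
      exact hx'
  exact_succ n := by
    ext x
    have h := E.exact_succ n
    constructor
    · intro hx
      have hx' : x ∈ LinearMap.ker (E.d (n + 1)) := hx
      rw [h] at hx'
      obtain ⟨y, hy⟩ := hx'
      exact ⟨y, hy⟩
    · rintro ⟨y, hy⟩
      have hx' : x ∈ LinearMap.range (E.d n) := ⟨y, hy⟩
      rw [← h] at hx'
      exact hx'

end Res

section Gam

variable {A B : Type u} [CommRing A] [CommRing B] [Algebra A B]
  (a : Ideal A) (b : Ideal B)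
  (hle : Ideal.map (algebraMap A B) a ≤ b)
  (hpow : ∃ N : ℕ, b ^ N ≤ Ideal.map (algebraMap A B) a)
  {X : Type u} [AddCommGroup X] [Module B X] [Module A X] [IsScalarTower A B X]

/-- elements killed by `a^n` are killed by `(aB)^n` -/
theorem smul_eq_zero_of_mem_map_pow {n : ℕ} {x : X} (hx : ∀ r ∈ a ^ n, r • x = 0) :
    ∀ s ∈ Ideal.map (algebraMap A B) a ^ n, s • x = 0 := by
  intro s hs
  rw [← Ideal.map_pow] at hs
  refine Submodule.span_induction (p := fun s _ => s • x = 0) ?_ ?_ ?_ ?_ hs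
  · rintro _ ⟨r, hr, rfl⟩
    rw [algebraMap_smul]
    exact hx r hr
  · rw [zero_smul]
  · intro s s' _ _ h h'
    rw [add_smul, h, h', add_zero]
  · intro c s _ h
    rw [smul_eq_mul, mul_smul, h, smul_zero]

include hle hpow in
/-- `Γ_a = Γ_b` on `B`-modules -/
theorem mem_gam_iff (x : X) : x ∈ gam a X ↔ x ∈ gam b X := by
  constructor
  · rintro ⟨n, hn⟩
    obtain ⟨N, hN⟩ := hpow
    refine ⟨N * n, fun s hs => ?_⟩
    rw [pow_mul] at hs
    exact smul_eq_zero_of_mem_map_pow a hn s (Ideal.pow_right_mono hN n hs)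
  · rintro ⟨n, hn⟩
    refine ⟨n, fun r hr => ?_⟩
    rw [← algebraMap_smul B r x]
    apply hn
    have h1 : algebraMap A B r ∈ Ideal.map (algebraMap A B) (a ^ n) := Ideal.mem_map_of_mem _ hr
    rw [Ideal.map_pow] at h1
    exact Ideal.pow_right_mono hle n h1

end Gam

section Main

variable {A B : Type u} [CommRing A] [CommRing B] [IsNoetherianRing A] [IsNoetherianRing B]
  [Algebra A B]
  (𝒜 : ℤ → AddSubgroup A) [GradedRing 𝒜] (ℬ : ℤ → AddSubgroup B) [GradedRing ℬ]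
  (hφ : ∀ j : ℤ, ∀ r ∈ 𝒜 j, algebraMap A B r ∈ ℬ j)
  (a : HomogeneousIdeal 𝒜)

include hφ in
/-- the extension `aB` of a homogeneous ideal is homogeneous -/
theorem map_isHomogeneous : (Ideal.map (algebraMap A B) a.toIdeal).IsHomogeneous ℬ := by
  obtain ⟨S, hS⟩ := (Ideal.IsHomogeneous.iff_exists 𝒜 a.toIdeal).1 a.isHomogeneous
  rw [hS, Ideal.map_span]
  apply Ideal.homogeneous_span
  rintro _ ⟨_, ⟨s, _, rfl⟩, rfl⟩
  obtain ⟨j, hj⟩ := s.2
  exact ⟨j, hφ j _ hj⟩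

/-- the extension `aB` as a homogeneous ideal -/
def mapH : HomogeneousIdeal ℬ :=
  ⟨Ideal.map (algebraMap A B) a.toIdeal, map_isHomogeneous 𝒜 ℬ hφ a⟩

/-- a *injective graded `B`-module is `Γ_a`-acyclic over `A` -/
theorem isAcyc_resGMod (X : GMod.{u} ℬ) (hX : IsStarInj ℬ X.gr) :
    IsAcyc a (resGMod 𝒜 ℬ hφ X) := by
  intro i hi
  let _ : Module A X.carrier := Module.compHom X.carrier (algebraMap A B)
  have : IsScalarTower A B X.carrier := IsScalarTower.of_algebraMap_smul fun _ _ => rfl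
  obtain ⟨φ, -⟩ := Groth.Agent.S11614.result A B a.toIdeal X.carrier i
  have h1 : Subsingleton (LocCoh.H (Ideal.map (algebraMap A B) a.toIdeal) i X.carrier) :=
    Groth.Agent.S13217.result B ℬ (mapH 𝒜 ℬ hφ a) X.carrier X.gr hX i hi
  exact φ.symm.injective.subsingleton

variable (b : HomogeneousIdeal ℬ)
  (hle : Ideal.map (algebraMap A B) a.toIdeal ≤ b.toIdeal)
  (hpow : ∃ N : ℕ, b.toIdeal ^ N ≤ Ideal.map (algebraMap A B) a.toIdeal)
  {M : Type u} [AddCommGroup M] [Module B M] [Module A M] [IsScalarTower A B M]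
  {ℳ : ℤ → AddSubgroup M} [DirectSum.Decomposition ℳ] [SetLike.GradedSMul ℬ ℳ]
  [SetLike.GradedSMul 𝒜 ℳ] (E : StarInjRes ℬ ℳ)

include hle hpow in
theorem mem_gam_res_iff (i : ℕ) (x : (E.X i).carrier) :
    x ∈ gam a.toIdeal ((resRes 𝒜 ℬ hφ E).X i).carrier ↔ x ∈ gam b.toIdeal (E.X i).carrier := by
  let _ : Module A (E.X i).carrier := Module.compHom (E.X i).carrier (algebraMap A B)
  have : IsScalarTower A B (E.X i).carrier := IsScalarTower.of_algebraMap_smul fun _ _ => rfl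
  exact mem_gam_iff a.toIdeal b.toIdeal hle hpow x

include hle hpow in
theorem mem_cocyc_res_iff (i : ℕ) (x : (E.X i).carrier) :
    x ∈ (resRes 𝒜 ℬ hφ E).cocyc a i ↔ x ∈ E.cocyc b i := by
  have h1 : x ∈ (resRes 𝒜 ℬ hφ E).cocyc a i ↔
      x ∈ gam a.toIdeal ((resRes 𝒜 ℬ hφ E).X i).carrier ∧ E.d i x = 0 := Iff.rfl
  have h2 : x ∈ E.cocyc b i ↔ x ∈ gam b.toIdeal (E.X i).carrier ∧ E.d i x = 0 := Iff.rfl
  rw [h1, h2, mem_gam_res_iff 𝒜 ℬ hφ a b hle hpow E i x]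

include hle hpow in
theorem mem_cobdy_res_iff (i : ℕ) (x : (E.X i).carrier) :
    x ∈ (resRes 𝒜 ℬ hφ E).cobdy a i ↔ x ∈ E.cobdy b i := by
  cases i with
  | zero => exact Iff.rfl
  | succ n =>
    have h1 : x ∈ (resRes 𝒜 ℬ hφ E).cobdy a (n + 1) ↔
        ∃ w : (E.X n).carrier, w ∈ gam a.toIdeal ((resRes 𝒜 ℬ hφ E).X n).carrier ∧
          E.d n w = x := Iff.rfl
    have h2 : x ∈ E.cobdy b (n + 1) ↔
        ∃ w : (E.X n).carrier, w ∈ gam b.toIdeal (E.X n).carrier ∧ E.d n w = x := Iff.rfl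
    rw [h1, h2]
    constructor
    · rintro ⟨w, hw, hwx⟩
      exact ⟨w, (mem_gam_res_iff 𝒜 ℬ hφ a b hle hpow E n w).1 hw, hwx⟩
    · rintro ⟨w, hw, hwx⟩
      exact ⟨w, (mem_gam_res_iff 𝒜 ℬ hφ a b hle hpow E n w).2 hw, hwx⟩

/-- the identity as a semilinear map -/
noncomputable def valL (X : GMod.{u} ℬ) :
    (resGMod 𝒜 ℬ hφ X).carrier →ₛₗ[algebraMap A B] X.carrier where
  toFun x := x
  map_add' _ _ := rfl
  map_smul' _ _ := rfl

/-- the map on cocycles -/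
noncomputable def cocycMap (i : ℕ) :
    ↥((resRes 𝒜 ℬ hφ E).cocyc a i) →ₛₗ[algebraMap A B] ↥(E.cocyc b i) :=
  LinearMap.codRestrict (E.cocyc b i)
    ((valL 𝒜 ℬ hφ (E.X i)).domRestrict ((resRes 𝒜 ℬ hφ E).cocyc a i))
    (fun z => (mem_cocyc_res_iff 𝒜 ℬ hφ a b hle hpow E i z.1).1 z.2)

theorem cocycMap_coe (i : ℕ) (z : ↥((resRes 𝒜 ℬ hφ E).cocyc a i)) :
    ((cocycMap 𝒜 ℬ hφ a b hle hpow E i z : ↥(E.cocyc b i)) : (E.X i).carrier) = z.1 := rfl

/-- the comparison map on cohomology -/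
noncomputable def Hmap (i : ℕ) : (resRes 𝒜 ℬ hφ E).H a i →ₛₗ[algebraMap A B] E.H b i :=
  Submodule.mapQ _ _ (cocycMap 𝒜 ℬ hφ a b hle hpow E i) (by
    intro z hz
    exact (mem_cobdy_res_iff 𝒜 ℬ hφ a b hle hpow E i z.1).1 hz)

theorem Hmap_toH (i : ℕ) (z : ↥((resRes 𝒜 ℬ hφ E).cocyc a i)) :
    Hmap 𝒜 ℬ hφ a b hle hpow E i ((resRes 𝒜 ℬ hφ E).toH a i z) =
      E.toH b i (cocycMap 𝒜 ℬ hφ a b hle hpow E i z) := rfl

theorem Hmap_injective (i : ℕ) : Function.Injective (Hmap 𝒜 ℬ hφ a b hle hpow E i) := by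
  rw [injective_iff_map_eq_zero]
  intro x hx
  obtain ⟨z, rfl⟩ := Submodule.mkQ_surjective _ x
  have h1 : E.toH b i (cocycMap 𝒜 ℬ hφ a b hle hpow E i z) = 0 := hx
  rw [Submodule.mkQ_apply, Submodule.Quotient.mk_eq_zero] at h1
  rw [Submodule.mkQ_apply, Submodule.Quotient.mk_eq_zero]
  exact (mem_cobdy_res_iff 𝒜 ℬ hφ a b hle hpow E i z.1).2 h1

theorem Hmap_surjective (i : ℕ) : Function.Surjective (Hmap 𝒜 ℬ hφ a b hle hpow E i) := by
  intro y
  obtain ⟨w, rfl⟩ := Submodule.mkQ_surjective _ y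
  have hz : (w : (E.X i).carrier) ∈ (resRes 𝒜 ℬ hφ E).cocyc a i :=
    (mem_cocyc_res_iff 𝒜 ℬ hφ a b hle hpow E i _).2 w.2
  refine ⟨(resRes 𝒜 ℬ hφ E).toH a i ⟨_, hz⟩, ?_⟩
  rw [Hmap_toH]
  congr 1

theorem Hmap_mem_iff (i : ℕ) (g : ℤ) (x : (resRes 𝒜 ℬ hφ E).H a i) :
    x ∈ (resRes 𝒜 ℬ hφ E).Hgr a i g ↔ Hmap 𝒜 ℬ hφ a b hle hpow E i x ∈ E.Hgr b i g := by
  constructor
  · rintro ⟨z, hz, rfl⟩
    exact ⟨cocycMap 𝒜 ℬ hφ a b hle hpow E i z, hz, rfl⟩
  · rintro ⟨w, hw, hwx⟩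
    have hz : (w : (E.X i).carrier) ∈ (resRes 𝒜 ℬ hφ E).cocyc a i :=
      (mem_cocyc_res_iff 𝒜 ℬ hφ a b hle hpow E i _).2 w.2
    have h1 : Hmap 𝒜 ℬ hφ a b hle hpow E i ((resRes 𝒜 ℬ hφ E).toH a i ⟨_, hz⟩) =
        Hmap 𝒜 ℬ hφ a b hle hpow E i x := by
      rw [Hmap_toH, ← hwx]
      congr 1
    rw [← Hmap_injective 𝒜 ℬ hφ a b hle hpow E i h1]
    exact ⟨⟨_, hz⟩, hw, rfl⟩

include hφ hle hpow in
/-- **independence of the base**: `H^i_a(M)` over `A` and `H^i_b(M)` over `B` are isomorphic,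
semilinearly over `A → B` and compatibly with the gradings -/
theorem exists_indep (EA : StarInjRes 𝒜 ℳ) (i : ℕ) :
    ∃ Φ : EA.H a i →ₛₗ[algebraMap A B] E.H b i, Function.Bijective Φ ∧
      ∀ (g : ℤ) (x : EA.H a i), x ∈ EA.Hgr a i g ↔ Φ x ∈ E.Hgr b i g := by
  obtain ⟨e, he⟩ := acyc_grIso a (resRes 𝒜 ℬ hφ E)
    (fun n => isAcyc_resGMod 𝒜 ℬ hφ a (E.X n) (E.starInj n)) EA i
  refine ⟨(Hmap 𝒜 ℬ hφ a b hle hpow E i).comp e.toLinearMap, ?_, ?_⟩
  · exact ⟨(Hmap_injective 𝒜 ℬ hφ a b hle hpow E i).comp e.injective,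
      (Hmap_surjective 𝒜 ℬ hφ a b hle hpow E i).comp e.surjective⟩
  · intro g x
    rw [he g x, Hmap_mem_iff 𝒜 ℬ hφ a b hle hpow E i g (e x)]
    rfl

end Main

end Groth.Agent.Lib.helper26.Indep
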