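import Mathlib
import Groth.Prelude.Def_GrLC
import Groth.Prelude.Def_GrSeg
import Groth.Agent.Lib.Helper19.GrConv
import Groth.Agent.Lib.Helper26.Seg24
import Groth.Agent.Lib.Helper26.KunK
import Groth.Agent.Lib.Helper26.KunQ
import Groth.Agent.Lib.Helper26.GorSeg3
import Groth.Agent.Lib.Helper26.ExtCan2
import Groth.Agent.Lib.Helper26.GorS1b
import Groth.Agent.Lib.Helper26.Indep1

/-!
# The graded dual of `H^{n'}` of a quotient by a homogeneous regular sequence (helper26)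

`R` a Noetherian graded `k`-algebra, `m` a homogeneous ideal, `ps` a homogeneous `R`-regular
sequence in `m` of length `c`, `J = (ps)`, `n' + c ≤ depth_m R`.  If `C` is the graded dual of
`H^{n'+c}_m(R)` then `C/JC` (pieces shifted by the sum of the degrees) is the graded dual, over
`R/J`, of `H^{n'}_{m(R/J)}(R/J)` computed over `R/J`.
-/

set_option autoImplicit false
set_option linter.unusedSectionVars false
set_option linter.dupNamespace false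
universe u

namespace Groth.Agent.Lib.helper26.ExtCan

open GrLC Groth.Agent.Lib.helper19.GrMod Groth.Agent.Lib.helper19.GrConv RingTheory.Sequence
  Groth.Agent.Lib.helper26.Seg Groth.Agent.Lib.helper26.Kun Groth.Agent.Lib.helper26.GorS
  Groth.Agent.Lib.helper26.Indep Groth.Agent.Lib.helper26.GorSeg

section QuotRing

variable {k : Type u} [Field k] {R : Type u} [CommRing R] [Algebra k R]
  (𝒜 : ℤ → Submodule k R) [GradedAlgebra 𝒜] (J : HomogeneousIdeal 𝒜)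

/-- `R/J` as a graded `R`-module -/
theorem gsmulQuot : SetLike.GradedSMul (addGr 𝒜) (addGr (qGr 𝒜 J)) :=
  ⟨fun {i j r x} hr hx => by
    obtain ⟨a, ha, rfl⟩ := hx
    exact ⟨r * a, SetLike.GradedMul.mul_mem hr ha, rfl⟩⟩

/-- the extension of a homogeneous ideal to the quotient is homogeneous -/
theorem map_mk_isHomogeneous (m : HomogeneousIdeal 𝒜) :
    (m.toIdeal.map (Ideal.Quotient.mk J.toIdeal)).IsHomogeneous (qGr 𝒜 J) := by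
  obtain ⟨S, hS⟩ := (Ideal.IsHomogeneous.iff_exists 𝒜 m.toIdeal).1 m.isHomogeneous
  rw [hS, Ideal.map_span]
  apply Ideal.homogeneous_span
  rintro _ ⟨_, ⟨s, _, rfl⟩, rfl⟩
  obtain ⟨j, hj⟩ := s.2
  exact ⟨j, mk_mem_qGr 𝒜 J hj⟩

/-- the extension of a homogeneous ideal to the quotient -/
noncomputable def mapQ (m : HomogeneousIdeal 𝒜) : HomogeneousIdeal (qGr 𝒜 J) :=
  ⟨m.toIdeal.map (Ideal.Quotient.mk J.toIdeal), map_mk_isHomogeneous 𝒜 J m⟩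

theorem mapQ_toIdeal (m : HomogeneousIdeal 𝒜) :
    (mapQ 𝒜 J m).toIdeal = m.toIdeal.map (Ideal.Quotient.mk J.toIdeal) := rfl

end QuotRing

section ThmB

attribute [local instance] gsmulAdd gsmulSelf

variable {k : Type u} [Field k] {R : Type u} [CommRing R] [Algebra k R] [IsNoetherianRing R]
  (𝒜 : ℤ → Submodule k R) [GradedAlgebra 𝒜] (J : HomogeneousIdeal 𝒜)
  (m : HomogeneousIdeal 𝒜)

/-- **the graded dual of `H^{n'}` of a quotient by a homogeneous regular sequence** -/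
theorem isGDual_quot_res (n' nn : ℕ) (ps : List (R × ℤ)) (hnn : n' + ps.length = nn)
    (hJ : J.toIdeal = Ideal.ofList (ps.map Prod.fst))
    (hmem : ∀ p ∈ ps, p.1 ∈ 𝒜 p.2 ∧ p.1 ∈ m.toIdeal)
    (hreg : IsWeaklyRegular R (ps.map Prod.fst))
    (hdepth : (nn : ℕ∞) ≤ LocCoh.idealDepth m.toIdeal R)
    (I : StarInjRes 𝒜 𝒜) [Module k (I.H m nn)] [IsScalarTower k R (I.H m nn)]
    [DirectSum.Decomposition (I.Hgr m nn)]
    {C : Type u} [AddCommGroup C] [Module R C] [Module k C] [IsScalarTower k R C]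
    (𝒞 : ℤ → AddSubgroup C) [DirectSum.Decomposition 𝒞] [SetLike.GradedSMul 𝒜 𝒞]
    (β : C →ₗ[k] I.H m nn →ₗ[k] k) (hβ : GrSeg.IsGDual R (I.Hgr m nn) 𝒞 β)
    (Ib : StarInjRes (qGr 𝒜 J) (qGr 𝒜 J)) [Module k (Ib.H (mapQ 𝒜 J m) n')]
    [IsScalarTower k (R ⧸ J.toIdeal) (Ib.H (mapQ 𝒜 J m) n')]
    [DirectSum.Decomposition (Ib.Hgr (mapQ 𝒜 J m) n')]
    [IsScalarTower k (R ⧸ J.toIdeal) (C ⧸ (J.toIdeal • ⊤ : Submodule R C))]
    (𝒦 : ℤ → AddSubgroup (C ⧸ (J.toIdeal • ⊤ : Submodule R C))) [DirectSum.Decomposition 𝒦]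
    (h𝒦 : ∀ (j : ℤ) (z : C ⧸ (J.toIdeal • ⊤ : Submodule R C)),
      z ∈ 𝒦 j ↔ ∃ c ∈ 𝒞 (j + (ps.map Prod.snd).sum), Submodule.Quotient.mk c = z) :
    ∃ βb : (C ⧸ (J.toIdeal • ⊤ : Submodule R C)) →ₗ[k] Ib.H (mapQ 𝒜 J m) n' →ₗ[k] k,
      GrSeg.IsGDual (R ⧸ J.toIdeal) (Ib.Hgr (mapQ 𝒜 J m) n') 𝒦 βb := by
  classical
  haveI : SetLike.GradedSMul 𝒜 (I.Hgr m nn) := hgr_gradedSMul' 𝒜 (addGr 𝒜) (resSelf 𝒜 I) m nn
  letI : SetLike.GradedSMul (addGr 𝒜) (addGr (qGr 𝒜 J)) := gsmulQuot 𝒜 J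
  obtain ⟨F⟩ := Groth.Agent.S13215.result R (addGr 𝒜) (R ⧸ J.toIdeal) (addGr (qGr 𝒜 J))
  -- the shift map
  have hπ : IsGrHom (addGr 𝒜) (addGr (qGr 𝒜 J)) (Submodule.mkQ J.toIdeal) :=
    fun g r hr => mk_mem_qGr 𝒜 J hr
  have hker : LinearMap.ker (Submodule.mkQ J.toIdeal) =
      Ideal.ofList (ps.map Prod.fst) • (⊤ : Submodule R R) := by
    rw [Submodule.ker_mkQ, hJ, smul_eq_mul, Ideal.mul_top]
  obtain ⟨ι, hιinj, hιgr, hιrange⟩ := exists_shiftMap' (addGr 𝒜) (idealAdd 𝒜 m) n' ps nn hnn R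
    (addGr 𝒜) (resAdd 𝒜 𝒜 I) (R ⧸ J.toIdeal) (addGr (qGr 𝒜 J)) F (Submodule.mkQ J.toIdeal) hπ
    (Submodule.mkQ_surjective _) hker hmem hreg hdepth
  -- independence of the base
  have hφ : ∀ j : ℤ, ∀ r ∈ addGr 𝒜 j, algebraMap R (R ⧸ J.toIdeal) r ∈ addGr (qGr 𝒜 J) j :=
    fun j r hr => mk_mem_qGr 𝒜 J hr
  obtain ⟨Φ, hΦbij, hΦgr⟩ := exists_indep (addGr 𝒜) (addGr (qGr 𝒜 J)) hφ (idealAdd 𝒜 m)
    (idealAdd (qGr 𝒜 J) (mapQ 𝒜 J m)) (le_of_eq rfl) ⟨1, by rw [pow_one]; exact le_of_eq rfl⟩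
    (resAdd (qGr 𝒜 J) (qGr 𝒜 J) Ib) F n'
  let Φe : F.H (idealAdd 𝒜 m) n' ≃+
      (resAdd (qGr 𝒜 J) (qGr 𝒜 J) Ib).H (idealAdd (qGr 𝒜 J) (mapQ 𝒜 J m)) n' :=
    AddEquiv.ofBijective Φ.toAddMonoidHom hΦbij
  have hΦe : ∀ x, Φe x = Φ x := fun x => rfl
  let ι' : Ib.H (mapQ 𝒜 J m) n' →+ I.H m nn := ι.toAddMonoidHom.comp Φe.symm.toAddMonoidHom
  have hι' : ∀ y, ι' y = ι (Φe.symm y) := fun y => rfl
  refine isGDual_quot 𝒜 (I.Hgr m nn) 𝒞 β hβ J.toIdeal ps hJ (fun p hp => (hmem p hp).1)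
    (Ib.Hgr (mapQ 𝒜 J m) n') ι' ?_ ?_ (ps.map Prod.snd).sum ?_ ?_ 𝒦 h𝒦
  · exact hιinj.comp Φe.symm.injective
  · intro r y
    have h1 : Φe.symm (Ideal.Quotient.mk J.toIdeal r • y) = r • Φe.symm y := by
      apply Φe.injective
      rw [Φe.apply_symm_apply, hΦe, Φ.map_smulₛₗ, ← hΦe, Φe.apply_symm_apply]
      rfl
    show ι (Φe.symm (Ideal.Quotient.mk J.toIdeal r • y)) = r • ι (Φe.symm y)
    rw [h1, map_smul]
  · intro g y hy
    rw [hι']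
    apply hιgr g
    rw [hΦgr g, ← hΦe, Φe.apply_symm_apply]
    exact hy
  · intro h
    constructor
    · rintro ⟨y, rfl⟩
      exact (hιrange (ι' y)).1 ⟨Φe.symm y, rfl⟩
    · intro hh
      obtain ⟨w, rfl⟩ := (hιrange h).2 hh
      exact ⟨Φe w, by rw [hι', Φe.symm_apply_apply]⟩

end ThmB

section ThmA

attribute [local instance] gsmulAdd gsmulSelf

variable {k : Type u} [Field k] {A S : Type u} [CommRing A] [CommRing S] [IsNoetherianRing A]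
  [IsNoetherianRing S] [Algebra k A] [Algebra k S] [Algebra A S] [IsScalarTower k A S]
  (𝒜A : ℤ → Submodule k A) [GradedAlgebra 𝒜A] (𝒜' : ℤ → Submodule k S) [GradedAlgebra 𝒜']
  (hφ : ∀ j : ℤ, ∀ r ∈ 𝒜A j, algebraMap A S r ∈ 𝒜' j)
  (mA : HomogeneousIdeal 𝒜A) (m' : HomogeneousIdeal 𝒜')
  (hle : Ideal.map (algebraMap A S) mA.toIdeal ≤ m'.toIdeal)
  (hpow : ∃ N : ℕ, m'.toIdeal ^ N ≤ Ideal.map (algebraMap A S) mA.toIdeal)

include hφ hle hpow in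
/-- a graded dual of `H^i_{m'}(S)` computed over `S` is a graded dual of `H^i_{m_A}(S)` computed
over `A` -/
theorem isGDual_over_base (n' : ℕ) (I' : StarInjRes 𝒜' 𝒜') [Module k (I'.H m' n')]
    [IsScalarTower k S (I'.H m' n')] [DirectSum.Decomposition (I'.Hgr m' n')]
    [SetLike.GradedSMul 𝒜A (addGr 𝒜')] (EM : StarInjRes 𝒜A (addGr 𝒜'))
    [Module k (EM.H mA n')] [IsScalarTower k A (EM.H mA n')]
    [DirectSum.Decomposition (EM.Hgr mA n')]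
    {D : Type u} [AddCommGroup D] [Module S D] [Module A D] [IsScalarTower A S D] [Module k D]
    [IsScalarTower k S D] [IsScalarTower k A D]
    (𝒟 : ℤ → AddSubgroup D) [DirectSum.Decomposition 𝒟]
    (β : D →ₗ[k] I'.H m' n' →ₗ[k] k) (hβ : GrSeg.IsGDual S (I'.Hgr m' n') 𝒟 β) :
    ∃ βA : D →ₗ[k] EM.H mA n' →ₗ[k] k, GrSeg.IsGDual A (EM.Hgr mA n') 𝒟 βA := by
  classical
  obtain ⟨Φ, hΦbij, hΦgr⟩ := exists_indep (addGr 𝒜A) (addGr 𝒜') hφ (idealAdd 𝒜A mA)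
    (idealAdd 𝒜' m') hle hpow (resAdd 𝒜' 𝒜' I') (resAddG 𝒜A (addGr 𝒜') EM) n'
  let Φ' : EM.H mA n' →ₛₗ[algebraMap A S] I'.H m' n' := Φ
  have hΦ'bij : Function.Bijective Φ' := hΦbij
  have hΦ'gr : ∀ (g : ℤ) (x : EM.H mA n'), x ∈ EM.Hgr mA n' g ↔ Φ' x ∈ I'.Hgr m' n' g := hΦgr
  exact isGDual_of_semilinear (I'.Hgr m' n') (EM.Hgr mA n') Φ' hΦ'bij hΦ'gr 𝒟 β hβ

end ThmA

end Groth.Agent.Lib.helper26.ExtCan
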