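import Mathlib
import Groth.Prelude.Def_CAlg
import Groth.Agent.Lib.Helper26.Seg2
import Groth.Agent.Lib.Helper26.Seg5
import Groth.Agent.Lib.Helper26.Seg10
import Groth.Agent.Lib.Helper26.Seg21

/-!
# Homogeneous regular sequences inside a homogeneous ideal (helper26)

`R` a Cohen–Macaulay positively graded finite type algebra over a field `k = R_0`, of dimension `r`,
`𝔞` a proper homogeneous ideal with `dim R/𝔞 ≤ r - t`.  Then `𝔞` contains a homogeneous
`R`-regular sequence of length `t` (of elements of positive degree).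

* `exists_homogeneous_mem_notMem` : homogeneous prime avoidance inside an ideal;
* `exists_homogeneous_dim_drop_mem` : cutting down the dimension by an element of `𝔞`;
* `exists_regular_list_mem` : the regular sequence.
-/

set_option autoImplicit false
set_option linter.unusedSectionVars false
set_option linter.dupNamespace false
universe u

namespace Groth.Agent.Lib.helper26.ExtCan

open Groth.Agent.Lib.helper26.Seg Groth.Agent.Lib.helper26.Graded RingTheory.Sequence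

section Avoid

variable {k : Type u} [Field k] {R : Type u} [CommRing R] [Algebra k R]
  (𝒜 : ℤ → Submodule k R) [GradedAlgebra 𝒜]

/-- **Homogeneous prime avoidance** inside an ideal `J` -/
theorem exists_homogeneous_mem_notMem (J : Ideal R) : ∀ (m : ℕ) (s : Finset (Ideal R)),
    s.card = m →
    (∀ p ∈ s, p.IsPrime ∧ ∃ (d : ℕ) (_ : 0 < d) (x : R), x ∈ 𝒜 (d : ℤ) ∧ x ∈ J ∧ x ∉ p) →
    ∃ (d : ℕ) (_ : 0 < d) (x : R), x ∈ 𝒜 (d : ℤ) ∧ x ∈ J ∧ ∀ p ∈ s, x ∉ p := by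
  classical
  intro m
  induction m using Nat.strong_induction_on with
  | _ m ih =>
  intro s hcard hs
  rcases Nat.eq_zero_or_pos m with hm | hm
  · subst hm
    rw [Finset.card_eq_zero] at hcard
    subst hcard
    exact ⟨1, one_pos, 0, zero_mem _, zero_mem _, by simp⟩
  have hstep : ∀ p ∈ s, ∃ (d : ℕ) (_ : 0 < d) (x : R), x ∈ 𝒜 (d : ℤ) ∧ x ∈ J ∧
      ∀ q ∈ s.erase p, x ∉ q := by
    intro p hp
    apply ih (m - 1) (by omega) (s.erase p) (by rw [Finset.card_erase_of_mem hp, hcard])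
    intro q hq
    exact hs q (Finset.mem_of_mem_erase hq)
  by_cases hex : ∃ p ∈ s, ∃ (d : ℕ) (_ : 0 < d) (x : R), x ∈ 𝒜 (d : ℤ) ∧ x ∈ J ∧
      (∀ q ∈ s.erase p, x ∉ q) ∧ x ∉ p
  · obtain ⟨p, hp, d, hd, x, hx, hxJ, hxq, hxp⟩ := hex
    refine ⟨d, hd, x, hx, hxJ, ?_⟩
    intro q hq
    by_cases hqp : q = p
    · subst hqp; exact hxp
    · exact hxq q (Finset.mem_erase.2 ⟨hqp, hq⟩)
  push Not at hex
  choose! d hd x hx hxJ hxq using hstep
  have hxp : ∀ p ∈ s, x p ∈ p := fun p hp =>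
    hex p hp (d p) (hd p hp) (x p) (hx p hp) (hxJ p hp) (hxq p hp)
  obtain ⟨p₁, hp₁⟩ : s.Nonempty := by
    rw [← Finset.card_pos, hcard]; exact hm
  by_cases hone : s.erase p₁ = ∅
  · obtain ⟨n, hn, y, hy, hyJ, hyp⟩ := (hs p₁ hp₁).2
    refine ⟨n, hn, y, hy, hyJ, ?_⟩
    intro q hq
    by_cases hqp : q = p₁
    · subst hqp; exact hyp
    · exfalso
      have : q ∈ s.erase p₁ := Finset.mem_erase.2 ⟨hqp, hq⟩
      rw [hone] at this
      simp at this
  set s' := s.erase p₁ with hs'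
  set y : R := ∏ q ∈ s', x q with hy
  set e : ℕ := ∑ q ∈ s', d q with he
  have hymem : y ∈ 𝒜 (e : ℤ) := by
    rw [hy, he]
    have : ∀ t : Finset (Ideal R), t ⊆ s' → (∏ q ∈ t, x q) ∈ 𝒜 ((∑ q ∈ t, d q : ℕ) : ℤ) := by
      intro t
      induction t using Finset.induction_on with
      | empty => intro _; simpa using SetLike.GradedOne.one_mem (A := 𝒜)
      | insert a t ha iht =>
        intro hsub
        rw [Finset.prod_insert ha, Finset.sum_insert ha, Nat.cast_add]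
        have ha' : a ∈ s := Finset.mem_of_mem_erase (hsub (Finset.mem_insert_self _ _))
        exact SetLike.mul_mem_graded (hx a ha')
          (iht (fun q hq => hsub (Finset.mem_insert_of_mem hq)))
    exact this s' subset_rfl
  obtain ⟨q₂, hq₂⟩ := Finset.nonempty_iff_ne_empty.2 hone
  have hq₂s : q₂ ∈ s := Finset.mem_of_mem_erase hq₂
  have hyJ : y ∈ J := by
    rw [hy, ← Finset.mul_prod_erase s' x hq₂]
    exact J.mul_mem_right _ (hxJ q₂ hq₂s)
  have hepos : 0 < e :=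
    lt_of_lt_of_le (hd q₂ hq₂s) (Finset.single_le_sum (f := d) (fun _ _ => Nat.zero_le _) hq₂)
  have hd1 : 0 < d p₁ := hd p₁ hp₁
  refine ⟨d p₁ * e, Nat.mul_pos hd1 hepos, x p₁ ^ e + y ^ (d p₁), ?_, ?_, ?_⟩
  · apply add_mem
    · have h1 := SetLike.pow_mem_graded e (hx p₁ hp₁)
      have e1 : e • ((d p₁ : ℕ) : ℤ) = ((d p₁ * e : ℕ) : ℤ) := by
        rw [nsmul_eq_mul]; push_cast; ring
      rwa [e1] at h1
    · have h1 := SetLike.pow_mem_graded (d p₁) hymem
      have e1 : d p₁ • ((e : ℕ) : ℤ) = ((d p₁ * e : ℕ) : ℤ) := by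
        rw [nsmul_eq_mul]; push_cast; ring
      rwa [e1] at h1
  · exact J.add_mem (J.pow_mem_of_mem (hxJ p₁ hp₁) e hepos) (J.pow_mem_of_mem hyJ _ hd1)
  · intro q hq
    have hqprime : q.IsPrime := (hs q hq).1
    by_cases hqp : q = p₁
    · subst hqp
      intro hmem
      have h1 : x q ^ e ∈ q := Ideal.pow_mem_of_mem _ (hxp q hq) e hepos
      have h2 : y ^ (d q) ∈ q := (Ideal.add_mem_iff_right _ h1).1 hmem
      have h3 : y ∈ q := hqprime.mem_of_pow_mem _ h2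
      rw [hy] at h3
      obtain ⟨q', hq', hq'mem⟩ := (hqprime.prod_mem_iff).1 h3
      have hq's : q' ∈ s := Finset.mem_of_mem_erase hq'
      have hne : q ≠ q' := fun h => (Finset.ne_of_mem_erase hq') h.symm
      exact hxq q' hq's q (Finset.mem_erase.2 ⟨hne, hq⟩) hq'mem
    · intro hmem
      have hq' : q ∈ s' := Finset.mem_erase.2 ⟨hqp, hq⟩
      have h1 : y ∈ q := by
        rw [hy, ← Finset.mul_prod_erase s' x hq']
        exact q.mul_mem_right _ (hxp q hq)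
      have h2 : y ^ (d p₁) ∈ q := Ideal.pow_mem_of_mem _ h1 _ hd1
      have h3 : x p₁ ^ e ∈ q := (Ideal.add_mem_iff_left _ h2).1 hmem
      have h4 : x p₁ ∈ q := hqprime.mem_of_pow_mem _ h3
      exact hxq p₁ hp₁ q hq' h4

variable (hpos : ∀ n : ℤ, n < 0 → 𝒜 n = ⊥)

include hpos in
/-- a homogeneous ideal inside `R_+` not contained in `p` has a homogeneous element of positive
degree outside `p` -/
theorem exists_homogeneous_mem_notMem_of_not_le (𝔞 : Ideal R) (h𝔞 : 𝔞.IsHomogeneous 𝒜)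
    (hle : 𝔞 ≤ irr 𝒜) (p : Ideal R) (hp : ¬ 𝔞 ≤ p) :
    ∃ (d : ℕ) (_ : 0 < d) (x : R), x ∈ 𝒜 (d : ℤ) ∧ x ∈ 𝔞 ∧ x ∉ p := by
  classical
  obtain ⟨a, ha, hap⟩ := SetLike.not_le_iff_exists.1 hp
  have hex : ∃ g : ℤ, ((DirectSum.decompose 𝒜 a g : 𝒜 g) : R) ∉ p := by
    by_contra hcon
    push Not at hcon
    apply hap
    rw [← DirectSum.sum_support_decompose 𝒜 a]
    exact Ideal.sum_mem _ fun g _ => hcon g
  obtain ⟨g, hg⟩ := hex
  have hgpos : 0 < g := by
    by_contra hcon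
    push Not at hcon
    apply hg
    rcases lt_or_eq_of_le hcon with h | h
    · have hle' : 𝒜 g ≤ ⊥ := (hpos g h).le
      have := hle' (DirectSum.decompose 𝒜 a g).2
      rw [Submodule.mem_bot] at this
      rw [this]
      exact zero_mem _
    · subst h
      rw [decompose_zero_of_mem_irr 𝒜 hpos (hle ha)]
      exact zero_mem _
  refine ⟨g.toNat, by omega, _, ?_, h𝔞 g ha, hg⟩
  have e : ((g.toNat : ℕ) : ℤ) = g := Int.toNat_of_nonneg hgpos.le
  rw [e]
  exact SetLike.coe_mem _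

end Avoid

section Drop

variable {k : Type u} [Field k] {R : Type u} [CommRing R] [Algebra k R]
  (𝒜 : ℤ → Submodule k R) [GradedAlgebra 𝒜] [Algebra.FiniteType k R]
  (hpos : ∀ n : ℤ, n < 0 → 𝒜 n = ⊥) (h0 : 𝒜 0 = Submodule.span k {(1 : R)})
  (𝔞 : Ideal R) (h𝔞 : 𝔞.IsHomogeneous 𝒜) (hle : 𝔞 ≤ irr 𝒜)

include hpos h0 h𝔞 hle in
/-- cutting down the dimension by a homogeneous element of `𝔞` -/
theorem exists_homogeneous_dim_drop_mem (J : Ideal R) (e : ℕ)
    (he : ringKrullDim (R ⧸ J) ≤ e)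
    (h𝔞e : ringKrullDim (R ⧸ 𝔞) ≤ ((e - 1 : ℕ) : WithBot ℕ∞)) :
    ∃ (d : ℕ) (_ : 0 < d) (y : R), y ∈ 𝒜 (d : ℤ) ∧ y ∈ 𝔞 ∧
      ringKrullDim (R ⧸ (J ⊔ Ideal.span {y})) ≤ ((e - 1 : ℕ) : WithBot ℕ∞) := by
  classical
  have hN : IsNoetherianRing R := Algebra.FiniteType.isNoetherianRing k R
  have hfin : J.minimalPrimes.Finite := Ideal.finite_minimalPrimes_of_isNoetherianRing R J
  set s : Finset (Ideal R) := hfin.toFinset.filter (fun p => ¬ 𝔞 ≤ p) with hs
  have hsp : ∀ p ∈ s, p.IsPrime ∧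
      ∃ (d : ℕ) (_ : 0 < d) (x : R), x ∈ 𝒜 (d : ℤ) ∧ x ∈ 𝔞 ∧ x ∉ p := by
    intro p hp
    rw [hs, Finset.mem_filter, Set.Finite.mem_toFinset] at hp
    exact ⟨hp.1.1.1, exists_homogeneous_mem_notMem_of_not_le 𝒜 hpos 𝔞 h𝔞 hle p hp.2⟩
  obtain ⟨d, hd, y, hy, hy𝔞, hys⟩ := exists_homogeneous_mem_notMem 𝒜 𝔞 s.card s rfl hsp
  refine ⟨d, hd, y, hy, hy𝔞, ?_⟩
  apply ringKrullDim_quotient_le_of_forall_minimalPrimes
  intro Q hQ
  have hQprime : Q.IsPrime := hQ.1.1
  have hJQ : J ≤ Q := le_trans le_sup_left hQ.1.2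
  have hyQ : y ∈ Q := hQ.1.2 (Ideal.mem_sup_right (Ideal.subset_span rfl))
  obtain ⟨p, hp, hpQ⟩ := Ideal.exists_minimalPrimes_le hJQ
  have hpprime : p.IsPrime := hp.1.1
  by_cases h𝔞p : 𝔞 ≤ p
  · exact le_trans (ringKrullDim_quotient_mono (h𝔞p.trans hpQ)) h𝔞e
  · have hps : p ∈ s := by
      rw [hs, Finset.mem_filter, Set.Finite.mem_toFinset]; exact ⟨hp, h𝔞p⟩
    have hyp : y ∉ p := hys p hps
    have hle' : p ⊔ Ideal.span {y} ≤ Q :=
      sup_le hpQ ((Ideal.span_singleton_le_iff_mem _).2 hyQ)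
    obtain ⟨P', hP', hP'Q⟩ := Ideal.exists_minimalPrimes_le hle'
    have key := dim_quotient_of_mem_minimalPrimes_sup_span k R p y hyp P' hP'
    have h1 : ringKrullDim (R ⧸ P') + 1 ≤ (e : WithBot ℕ∞) := by
      rw [key]
      exact le_trans (ringKrullDim_quotient_mono hp.1.2) he
    exact le_trans (ringKrullDim_quotient_mono hP'Q) (le_pred_of_add_one_le h1)

include hpos h0 h𝔞 hle in
/-- lists of homogeneous elements of `𝔞` of positive degree cutting down the dimension -/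
theorem exists_list_mem (r t : ℕ) (hr : ringKrullDim R ≤ r)
    (h𝔞r : ringKrullDim (R ⧸ 𝔞) ≤ ((r - t : ℕ) : WithBot ℕ∞)) :
    ∀ i : ℕ, i ≤ t → ∃ l : List (R × ℕ), l.length = i ∧
      (∀ z ∈ l, 0 < z.2 ∧ z.1 ∈ 𝒜 (z.2 : ℤ) ∧ z.1 ∈ 𝔞) ∧
      ringKrullDim (R ⧸ Ideal.ofList (l.map Prod.fst)) ≤ ((r - i : ℕ) : WithBot ℕ∞) := by
  intro i
  induction i with
  | zero =>
    intro _
    refine ⟨[], rfl, by simp, ?_⟩
    simp only [Nat.sub_zero]
    exact le_trans (ringKrullDim_le_of_surjective _ Ideal.Quotient.mk_surjective) hr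
  | succ i ih =>
    intro hi
    obtain ⟨l, hl, hlz, hdim⟩ := ih (by omega)
    have h1 : ringKrullDim (R ⧸ 𝔞) ≤ ((r - i - 1 : ℕ) : WithBot ℕ∞) := by
      refine h𝔞r.trans ?_
      have : r - t ≤ r - i - 1 := by omega
      exact_mod_cast this
    obtain ⟨d, hd, y, hy, hy𝔞, hdrop⟩ :=
      exists_homogeneous_dim_drop_mem 𝒜 hpos h0 𝔞 h𝔞 hle _ _ hdim h1
    refine ⟨l ++ [(y, d)], by simp [hl], ?_, ?_⟩
    · intro z hz
      rcases List.mem_append.1 hz with h | h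
      · exact hlz z h
      · rw [List.mem_singleton] at h
        subst h
        exact ⟨hd, hy, hy𝔞⟩
    · rw [List.map_append, List.map_singleton, Ideal.ofList_append, Ideal.ofList_singleton]
      have : r - i - 1 = r - (i + 1) := by omega
      rw [← this]
      exact hdrop

include hpos h0 in
/-- extending a list of homogeneous elements of positive degree to one cutting the dimension
down to zero -/
theorem exists_list_extend (l₁ : List (R × ℕ)) (e : ℕ)
    (hdim : ringKrullDim (R ⧸ Ideal.ofList (l₁.map Prod.fst)) ≤ (e : WithBot ℕ∞)) :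
    ∀ i : ℕ, ∃ l₂ : List (R × ℕ), l₂.length = i ∧
      (∀ z ∈ l₂, 0 < z.2 ∧ z.1 ∈ 𝒜 (z.2 : ℤ)) ∧
      ringKrullDim (R ⧸ Ideal.ofList ((l₁ ++ l₂).map Prod.fst)) ≤
        ((e - i : ℕ) : WithBot ℕ∞) := by
  intro i
  induction i with
  | zero =>
    refine ⟨[], rfl, by simp, ?_⟩
    rw [List.append_nil, Nat.sub_zero]
    exact hdim
  | succ i ih =>
    obtain ⟨l, hl, hlz, hdim'⟩ := ih
    obtain ⟨d, hd, y, hy, hdrop⟩ := exists_homogeneous_dim_drop 𝒜 hpos h0 _ _ hdim'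
    refine ⟨l ++ [(y, d)], by simp [hl], ?_, ?_⟩
    · intro z hz
      rcases List.mem_append.1 hz with h | h
      · exact hlz z h
      · rw [List.mem_singleton] at h
        subst h
        exact ⟨hd, hy⟩
    · rw [← List.append_assoc, List.map_append, List.map_singleton, Ideal.ofList_append,
        Ideal.ofList_singleton]
      have : e - i - 1 = e - (i + 1) := by omega
      rw [← this]
      exact hdrop

end Drop

section Main

variable {k : Type u} [Field k] {R : Type u} [CommRing R] [Algebra k R]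
  (𝒜 : ℤ → Submodule k R) [GradedAlgebra 𝒜] [Algebra.FiniteType k R]
  (hpos : ∀ n : ℤ, n < 0 → 𝒜 n = ⊥) (h0 : 𝒜 0 = Submodule.span k {(1 : R)})

include hpos h0 in
/-- **a homogeneous ideal `𝔞` with `dim R/𝔞 ≤ dim R - t` of a graded Cohen–Macaulay ring contains
a homogeneous regular sequence of length `t`** -/
theorem exists_regular_list_mem [LocCoh.IsCohenMacaulayRing R] [Nontrivial R] (r : ℕ)
    (hr : ringKrullDim R = r) (𝔞 : Ideal R) (h𝔞 : 𝔞.IsHomogeneous 𝒜) (hle : 𝔞 ≤ irr 𝒜) (t : ℕ)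
    (ht : t ≤ r) (h𝔞r : ringKrullDim (R ⧸ 𝔞) ≤ ((r - t : ℕ) : WithBot ℕ∞)) :
    ∃ ps : List (R × ℤ), ps.length = t ∧ (∀ p ∈ ps, 0 < p.2 ∧ p.1 ∈ 𝒜 p.2 ∧ p.1 ∈ 𝔞) ∧
      IsWeaklyRegular R (ps.map Prod.fst) := by
  classical
  obtain ⟨l₁, hl₁, hl₁z, hdim₁⟩ := exists_list_mem 𝒜 hpos h0 𝔞 h𝔞 hle r t hr.le h𝔞r t le_rfl
  obtain ⟨l₂, hl₂, hl₂z, hdim₂⟩ := exists_list_extend 𝒜 hpos h0 l₁ (r - t) hdim₁ (r - t)
  rw [Nat.sub_self, Nat.cast_zero] at hdim₂
  have hLlen : (l₁ ++ l₂).length = r := by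
    rw [List.length_append, hl₁, hl₂]; omega
  have hLz : ∀ z ∈ l₁ ++ l₂, 0 < z.2 ∧ z.1 ∈ 𝒜 (z.2 : ℤ) := by
    intro z hz
    rcases List.mem_append.1 hz with h | h
    · exact ⟨(hl₁z z h).1, (hl₁z z h).2.1⟩
    · exact hl₂z z h
  let y : Fin r → R := fun i => ((l₁ ++ l₂).get (i.cast hLlen.symm)).1
  let d : Fin r → ℕ := fun i => ((l₁ ++ l₂).get (i.cast hLlen.symm)).2
  have hofFn : List.ofFn y = (l₁ ++ l₂).map Prod.fst := by
    apply List.ext_getElem
    · rw [List.length_ofFn, List.length_map, hLlen]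
    · intro i h1 h2
      rw [List.getElem_ofFn, List.getElem_map]
      rfl
  have hspan : Ideal.span (Set.range y) = Ideal.ofList ((l₁ ++ l₂).map Prod.fst) := by
    rw [← hofFn]
    unfold Ideal.ofList
    congr 1
    ext z
    simp [List.mem_ofFn]
  haveI : Module.Finite k (R ⧸ Ideal.span (Set.range y)) := by
    rw [hspan]
    exact finite_quotient_of_dim_le_zero _ hdim₂
  have hhom : (Ideal.span (Set.range y)).IsHomogeneous 𝒜 := by
    apply Ideal.homogeneous_span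
    rintro _ ⟨i, rfl⟩
    exact ⟨_, (hLz _ (List.get_mem _ _)).2⟩
  have hrad := irr_le_radical_of_finite_quotient 𝒜 _ hhom
  have hN : IsNoetherianRing R := Algebra.FiniteType.isNoetherianRing k R
  obtain ⟨N, hN'⟩ := Ideal.exists_pow_le_of_le_radical_of_fg hrad
    ((isNoetherianRing_iff_ideal_fg R).mp inferInstance _)
  have hreg : IsWeaklyRegular R (List.ofFn y) := by
    rw [isWeaklyRegular_ofFn_iff]
    intro j z h
    exact regular_of_sop 𝒜 hpos h0 r hr y d (fun i => (hLz _ (List.get_mem _ _)).1)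
      (fun i => (hLz _ (List.get_mem _ _)).2) N hN' j z h
  rw [hofFn, List.map_append, isWeaklyRegular_append_iff] at hreg
  refine ⟨l₁.map (fun z => (z.1, (z.2 : ℤ))), by rw [List.length_map, hl₁], ?_, ?_⟩
  · intro p hp
    obtain ⟨z, hz, rfl⟩ := List.mem_map.1 hp
    exact ⟨by show (0 : ℤ) < (z.2 : ℤ); exact_mod_cast (hl₁z z hz).1, (hl₁z z hz).2.1,
      (hl₁z z hz).2.2⟩
  · rw [List.map_map]
    exact hreg.1

end Main

end Groth.Agent.Lib.helper26.ExtCan
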