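import Mathlib
import Groth.Agent.Lib.Helper26.Seg10
import Groth.Agent.Lib.Helper26.Seg28

/-!
# The irrelevant ideal of a finite graded algebra (helper26)

`A → S` a degree-preserving homomorphism of positively graded `k`-algebras with `A_0 = k = S_0`,
`S` finite over `A`.  Then `S_+` is nilpotent modulo `A_+ S`:
`map_irr_le`, `exists_pow_irr_le_map`.
-/

set_option autoImplicit false
set_option linter.unusedSectionVars false
set_option linter.dupNamespace false
universe u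

namespace Groth.Agent.Lib.helper26.ExtCan

open Groth.Agent.Lib.helper26.Seg

section Irr

variable {k : Type u} [Field k] {A S : Type u} [CommRing A] [CommRing S] [Algebra k A]
  [Algebra k S] [Algebra A S]
  (𝒜A : ℤ → Submodule k A) [GradedAlgebra 𝒜A] (𝒜' : ℤ → Submodule k S) [GradedAlgebra 𝒜']
  (hφ : ∀ j : ℤ, ∀ r ∈ 𝒜A j, algebraMap A S r ∈ 𝒜' j)

include hφ in
theorem map_irr_le : Ideal.map (algebraMap A S) (irr 𝒜A) ≤ irr 𝒜' := by
  unfold irr
  rw [Ideal.map_span, Ideal.span_le]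
  rintro _ ⟨a, ha, rfl⟩
  simp only [Set.mem_iUnion, SetLike.mem_coe] at ha
  obtain ⟨n, hn, ha⟩ := ha
  exact mem_irr_of_mem 𝒜' hn (hφ n a ha)

variable (hposA : ∀ n : ℤ, n < 0 → 𝒜A n = ⊥) (h0A : 𝒜A 0 = Submodule.span k {(1 : A)})
  (hpos' : ∀ n : ℤ, n < 0 → 𝒜' n = ⊥) (h0' : 𝒜' 0 = Submodule.span k {(1 : S)})

include hφ hposA h0A hpos' h0' in
/-- every prime of `S` containing `A_+ S` contains `S_+` -/
theorem irr_le_of_map_irr_le [Nontrivial A] [Nontrivial S] [Module.Finite A S] (q : Ideal S)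
    [hq : q.IsPrime] (hle : Ideal.map (algebraMap A S) (irr 𝒜A) ≤ q) : irr 𝒜' ≤ q := by
  classical
  have hint : Algebra.IsIntegral A S := Algebra.IsIntegral.of_finite A S
  have hmaxA : (irr 𝒜A).IsMaximal := irr_isMaximal 𝒜A hposA h0A
  -- the homogeneous core of `q`
  have hcprime : (q.homogeneousCore 𝒜').toIdeal.IsPrime := hq.homogeneousCore
  have hcle : Ideal.map (algebraMap A S) (irr 𝒜A) ≤ (q.homogeneousCore 𝒜').toIdeal := by
    unfold irr
    rw [Ideal.map_span, Ideal.span_le]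
    rintro _ ⟨a, ha, rfl⟩
    simp only [Set.mem_iUnion, SetLike.mem_coe] at ha
    obtain ⟨n, hn, ha⟩ := ha
    apply Ideal.mem_homogeneousCore_of_homogeneous_of_mem ⟨n, hφ n a ha⟩
    exact hle (Ideal.mem_map_of_mem _ (mem_irr_of_mem 𝒜A hn ha))
  have hcomap : ((q.homogeneousCore 𝒜').toIdeal.comap (algebraMap A S)) = irr 𝒜A := by
    apply eq_irr_of_le 𝒜A hposA h0A
    · exact Ideal.comap_ne_top _ hcprime.ne_top
    · exact Ideal.map_le_iff_le_comap.1 hcle
  have hcmax : (q.homogeneousCore 𝒜').toIdeal.IsMaximal := by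
    apply Ideal.isMaximal_of_isIntegral_of_isMaximal_comap (R := A)
    rw [hcomap]
    exact hmaxA
  have hceq : (q.homogeneousCore 𝒜').toIdeal = q :=
    hcmax.eq_of_le hq.ne_top (Ideal.toIdeal_homogeneousCore_le 𝒜' q)
  have hqhom : q.IsHomogeneous 𝒜' := by
    rw [← hceq]
    exact (q.homogeneousCore 𝒜').isHomogeneous
  have hqle : q ≤ irr 𝒜' := le_irr_of_isHomogeneous 𝒜' hpos' h0' q hqhom hq.ne_top
  have hqmax : q.IsMaximal := by rw [← hceq]; exact hcmax
  rw [hqmax.eq_of_le (irr_ne_top 𝒜' hpos') hqle]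

include hφ hposA h0A hpos' h0' in
/-- `S_+` is nilpotent modulo `A_+ S` -/
theorem exists_pow_irr_le_map [Nontrivial A] [Nontrivial S] [Module.Finite A S]
    [IsNoetherianRing S] : ∃ N : ℕ, irr 𝒜' ^ N ≤ Ideal.map (algebraMap A S) (irr 𝒜A) := by
  apply Ideal.exists_pow_le_of_le_radical_of_fg _
    ((isNoetherianRing_iff_ideal_fg S).mp inferInstance _)
  rw [Ideal.radical_eq_sInf]
  apply le_sInf
  rintro q ⟨hle, hq⟩
  exact irr_le_of_map_irr_le 𝒜A 𝒜' hφ hposA h0A hpos' h0' q hle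

end Irr

end Groth.Agent.Lib.helper26.ExtCan
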