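import Mathlib
import Groth.Prelude.Def_GrLC
import Groth.Prelude.Def_GrSeg
import Groth.Agent.Lib.Helper19.GDual
import Groth.Agent.Lib.Helper19.GrHomDec1
import Groth.Agent.Lib.Helper26.Can10

/-!
# Graded Matlis duality: `Hom_R(C, *E(k))` is the graded `k`-dual of `C` (helper26)

`R` a non-negatively graded `k`-algebra with `R_0 = k`, `E'` a *injective envelope of `R/R_+`.
* `c0` : the coefficient of the degree zero component of an element of `E'` (w.r.t. `e 1`);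
* `lam f` : the functional `c ↦ c0 (f c)` attached to `f : C → E'`;
* `lam_vanish`, `eq_zero_of_lam`, `exists_lam_eq` : the pairing is perfect degree by degree.
-/

set_option autoImplicit false
set_option linter.unusedSectionVars false
set_option linter.dupNamespace false
universe u

namespace Groth.Agent.Lib.helper26.SegCan

open GrLC Groth.Agent.Lib.helper19.GrMod Groth.Agent.Lib.helper19.GrConv
  Groth.Agent.Lib.helper26.Seg Groth.Agent.Lib.helper26.Kun Groth.Agent.Lib.helper26.Can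

section Hull

variable {k : Type u} [Field k] {R : Type u} [CommRing R] [Nontrivial R] [Algebra k R]
  (𝒜 : ℤ → Submodule k R) [GradedAlgebra 𝒜]
  (hpos : ∀ n : ℤ, n < 0 → 𝒜 n = ⊥) (h0 : 𝒜 0 = Submodule.span k {(1 : R)})
  (m : HomogeneousIdeal 𝒜) (hm : m.toIdeal = irr 𝒜)
  {E' : Type u} [AddCommGroup E'] [Module R E'] (𝓔 : ℤ → AddSubgroup E')
  [DirectSum.Decomposition 𝓔] [SetLike.GradedSMul 𝒜 𝓔]
  (e : (R ⧸ m.toIdeal) →ₗ[R] E') (he : IsStarInjHull 𝒜 (quotGr 𝒜 m) 𝓔 e)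

/-- the coefficient of the degree zero component -/
noncomputable def c0 (y : E') : k :=
  Classical.choose (exists_eq_smul_unit 𝒜 hpos h0 m hm 𝓔 e he
    (SetLike.coe_mem (DirectSum.decompose 𝓔 y 0)))

theorem c0_spec (y : E') : ((DirectSum.decompose 𝓔 y 0 : 𝓔 0) : E') =
    algebraMap k R (c0 𝒜 hpos h0 m hm 𝓔 e he y) • e 1 :=
  Classical.choose_spec (exists_eq_smul_unit 𝒜 hpos h0 m hm 𝓔 e he
    (SetLike.coe_mem (DirectSum.decompose 𝓔 y 0)))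

include hpos hm he in
theorem smul_unit_injective {c c' : k} (h : algebraMap k R c • e 1 = algebraMap k R c' • e 1) :
    c = c' := by
  by_contra hne
  have h1 : algebraMap k R (c - c') • e 1 = 0 := by
    rw [map_sub, sub_smul, h, sub_self]
  have h2 : e 1 = algebraMap k R (c - c')⁻¹ • (algebraMap k R (c - c') • e 1) := by
    rw [← mul_smul, ← map_mul, inv_mul_cancel₀ (sub_ne_zero.2 hne), (algebraMap k R).map_one, one_smul]
  rw [h1, smul_zero] at h2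
  exact unit_ne_zero 𝒜 hpos m hm 𝓔 e he h2

theorem c0_unique {y : E'} {c : k}
    (h : ((DirectSum.decompose 𝓔 y 0 : 𝓔 0) : E') = algebraMap k R c • e 1) :
    c0 𝒜 hpos h0 m hm 𝓔 e he y = c :=
  smul_unit_injective 𝒜 hpos m hm 𝓔 e he ((c0_spec 𝒜 hpos h0 m hm 𝓔 e he y).symm.trans h)

theorem c0_add (y y' : E') : c0 𝒜 hpos h0 m hm 𝓔 e he (y + y') =
    c0 𝒜 hpos h0 m hm 𝓔 e he y + c0 𝒜 hpos h0 m hm 𝓔 e he y' := by
  apply c0_unique
  rw [DirectSum.decompose_add, DirectSum.add_apply, AddSubgroup.coe_add, c0_spec 𝒜 hpos h0 m hm 𝓔 e he y,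
    c0_spec 𝒜 hpos h0 m hm 𝓔 e he y', map_add, add_smul]

theorem c0_smul (c : k) (y : E') : c0 𝒜 hpos h0 m hm 𝓔 e he (algebraMap k R c • y) =
    c * c0 𝒜 hpos h0 m hm 𝓔 e he y := by
  apply c0_unique
  rw [decompose_smul_apply 𝒜 𝓔 (SetLike.algebraMap_mem_graded 𝒜 c) y 0,
    coe_decompose_congr 𝓔 y (sub_zero (0 : ℤ)), c0_spec 𝒜 hpos h0 m hm 𝓔 e he y, ← mul_smul,
    ← map_mul]

theorem c0_of_mem_ne {j : ℤ} (hj : j ≠ 0) {y : E'} (hy : y ∈ 𝓔 j) :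
    c0 𝒜 hpos h0 m hm 𝓔 e he y = 0 := by
  apply c0_unique
  rw [DirectSum.decompose_of_mem_ne 𝓔 hy hj, map_zero, zero_smul]

theorem eq_zero_of_c0 {y : E'} (hy : y ∈ 𝓔 0) (h : c0 𝒜 hpos h0 m hm 𝓔 e he y = 0) : y = 0 := by
  have h1 := c0_spec 𝒜 hpos h0 m hm 𝓔 e he y
  rw [DirectSum.decompose_of_mem_same 𝓔 hy, h, map_zero, zero_smul] at h1
  exact h1

theorem c0_unit (c : k) : c0 𝒜 hpos h0 m hm 𝓔 e he (algebraMap k R c • e 1) = c := by
  apply c0_unique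
  have h2 : algebraMap k R c • e 1 ∈ 𝓔 0 := by
    have := smul_mem_add 𝒜 𝓔 (SetLike.algebraMap_mem_graded 𝒜 c) (unit_mem 𝒜 m 𝓔 e he)
    rwa [add_zero] at this
  exact DirectSum.decompose_of_mem_same 𝓔 h2

/-- if all multiples of `y` have zero coefficient then `y = 0` -/
theorem eq_zero_of_forall_c0 (y : E') (h : ∀ r : R, c0 𝒜 hpos h0 m hm 𝓔 e he (r • y) = 0) :
    y = 0 := by
  classical
  by_contra hy
  have h1 : ∃ j : ℤ, ((DirectSum.decompose 𝓔 y j : 𝓔 j) : E') ≠ 0 := by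
    by_contra hcon
    push Not at hcon
    apply hy
    rw [← DirectSum.sum_support_decompose 𝓔 y]
    exact Finset.sum_eq_zero (fun n _ => hcon n)
  obtain ⟨j, hj⟩ := h1
  obtain ⟨r, hr, hrx⟩ := exists_smul_eq_unit 𝒜 hpos h0 m hm 𝓔 e he
    (SetLike.coe_mem (DirectSum.decompose 𝓔 y j)) hj
  have h2 : ((DirectSum.decompose 𝓔 (r • y) 0 : 𝓔 0) : E') = algebraMap k R 1 • e 1 := by
    rw [decompose_smul_apply 𝒜 𝓔 hr y 0, (algebraMap k R).map_one, one_smul, ← hrx]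
    congr 1
    exact coe_decompose_congr 𝓔 y (by ring)
  have h3 := c0_unique 𝒜 hpos h0 m hm 𝓔 e he h2
  rw [h r] at h3
  exact zero_ne_one h3

end Hull

section Pair

variable {k : Type u} [Field k] {R : Type u} [CommRing R] [Nontrivial R] [Algebra k R]
  (𝒜 : ℤ → Submodule k R) [GradedAlgebra 𝒜]
  (hpos : ∀ n : ℤ, n < 0 → 𝒜 n = ⊥) (h0 : 𝒜 0 = Submodule.span k {(1 : R)})
  (m : HomogeneousIdeal 𝒜) (hm : m.toIdeal = irr 𝒜)
  {E' : Type u} [AddCommGroup E'] [Module R E'] (𝓔 : ℤ → AddSubgroup E')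
  [DirectSum.Decomposition 𝓔] [SetLike.GradedSMul 𝒜 𝓔]
  (e : (R ⧸ m.toIdeal) →ₗ[R] E') (he : IsStarInjHull 𝒜 (quotGr 𝒜 m) 𝓔 e)
  {C : Type u} [AddCommGroup C] [Module R C] [Module k C] [IsScalarTower k R C]
  (𝒞 : ℤ → AddSubgroup C) [DirectSum.Decomposition 𝒞] [SetLike.GradedSMul 𝒜 𝒞]

/-- the functional attached to a map `C → E'` -/
noncomputable def lam (f : C →ₗ[R] E') : C →ₗ[k] k where
  toFun c := c0 𝒜 hpos h0 m hm 𝓔 e he (f c)
  map_add' x y := by rw [map_add, c0_add]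
  map_smul' c x := by
    rw [← algebraMap_smul R c x, map_smul, c0_smul]
    rfl

theorem lam_apply (f : C →ₗ[R] E') (c : C) :
    lam 𝒜 hpos h0 m hm 𝓔 e he f c = c0 𝒜 hpos h0 m hm 𝓔 e he (f c) := rfl

theorem lam_add (f g : C →ₗ[R] E') : lam 𝒜 hpos h0 m hm 𝓔 e he (f + g) =
    lam 𝒜 hpos h0 m hm 𝓔 e he f + lam 𝒜 hpos h0 m hm 𝓔 e he g := by
  ext c
  rw [LinearMap.add_apply, lam_apply, lam_apply, lam_apply, LinearMap.add_apply, c0_add]

theorem lam_zero : lam 𝒜 hpos h0 m hm 𝓔 e he (0 : C →ₗ[R] E') = 0 := by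
  ext c
  rw [lam_apply, LinearMap.zero_apply, LinearMap.zero_apply]
  have := c0_smul 𝒜 hpos h0 m hm 𝓔 e he 0 (0 : E')
  rw [map_zero, zero_smul, zero_mul] at this
  exact this

theorem lam_sum {κ : Type*} (s : Finset κ) (f : κ → (C →ₗ[R] E')) :
    lam 𝒜 hpos h0 m hm 𝓔 e he (∑ i ∈ s, f i) = ∑ i ∈ s, lam 𝒜 hpos h0 m hm 𝓔 e he (f i) := by
  classical
  induction s using Finset.induction_on with
  | empty => rw [Finset.sum_empty, Finset.sum_empty, lam_zero]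
  | insert a s ha ih => rw [Finset.sum_insert ha, Finset.sum_insert ha, lam_add, ih]

theorem lam_smul (r : R) (f : C →ₗ[R] E') (c : C) :
    lam 𝒜 hpos h0 m hm 𝓔 e he (r • f) c = lam 𝒜 hpos h0 m hm 𝓔 e he f (r • c) := by
  rw [lam_apply, lam_apply, LinearMap.smul_apply, map_smul]

theorem lam_ksmul (a : k) (f : C →ₗ[R] E') :
    lam 𝒜 hpos h0 m hm 𝓔 e he (algebraMap k R a • f) = a • lam 𝒜 hpos h0 m hm 𝓔 e he f := by
  ext c
  rw [lam_apply, LinearMap.smul_apply, c0_smul, LinearMap.smul_apply, lam_apply, smul_eq_mul]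

theorem lam_vanish {d : ℤ} {f : C →ₗ[R] E'} (hf : f ∈ homDeg 𝒜 𝒞 𝓔 d) {j : ℤ} (hj : j ≠ -d)
    {c : C} (hc : c ∈ 𝒞 j) : lam 𝒜 hpos h0 m hm 𝓔 e he f c = 0 := by
  rw [lam_apply]
  exact c0_of_mem_ne 𝒜 hpos h0 m hm 𝓔 e he (by omega : j + d ≠ 0) (hf j c hc)

/-- the pairing is nondegenerate on the left -/
theorem eq_zero_of_lam (f : C →ₗ[R] E') (h : ∀ c, lam 𝒜 hpos h0 m hm 𝓔 e he f c = 0) : f = 0 := by
  ext c
  rw [LinearMap.zero_apply]
  apply eq_zero_of_forall_c0 𝒜 hpos h0 m hm 𝓔 e he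
  intro r
  rw [← map_smul]
  exact h (r • c)

/-- the functional of a map of degree `d` only sees the component of degree `-d` -/
theorem lam_eq_proj {d : ℤ} {f : C →ₗ[R] E'} (hf : f ∈ homDeg 𝒜 𝒞 𝓔 d) (c : C) :
    lam 𝒜 hpos h0 m hm 𝓔 e he f c =
      lam 𝒜 hpos h0 m hm 𝓔 e he f ((DirectSum.decompose 𝒞 c (-d) : 𝒞 (-d)) : C) := by
  rw [lam_apply, lam_apply]
  have h1 := Groth.Agent.Lib.helper19.GrHomDec.decompose_apply_of_isGrHomDeg 𝒞 𝓔 f d hf c (-d)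
  have h2 : f ((DirectSum.decompose 𝒞 c (-d) : 𝒞 (-d)) : C) ∈ 𝓔 0 := by
    have := hf (-d) _ (SetLike.coe_mem (DirectSum.decompose 𝒞 c (-d)))
    rwa [neg_add_cancel] at this
  have h3 : ((DirectSum.decompose 𝓔 (f c) 0 : 𝓔 0) : E') =
      f ((DirectSum.decompose 𝒞 c (-d) : 𝒞 (-d)) : C) := by
    rw [← h1]
    exact coe_decompose_congr 𝓔 (f c) (by ring)
  apply c0_unique
  rw [h3]
  have h4 := c0_spec 𝒜 hpos h0 m hm 𝓔 e he (f ((DirectSum.decompose 𝒞 c (-d) : 𝒞 (-d)) : C))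
  rw [DirectSum.decompose_of_mem_same 𝓔 h2] at h4
  exact h4

theorem eq_zero_of_lam_piece {d : ℤ} {f : C →ₗ[R] E'} (hf : f ∈ homDeg 𝒜 𝒞 𝓔 d)
    (h : ∀ c ∈ 𝒞 (-d), lam 𝒜 hpos h0 m hm 𝓔 e he f c = 0) : f = 0 := by
  apply eq_zero_of_lam 𝒜 hpos h0 m hm 𝓔 e he
  intro c
  rw [lam_eq_proj 𝒜 hpos h0 m hm 𝓔 e he 𝒞 hf c]
  exact h _ (SetLike.coe_mem _)

/-- every functional on `C_{-d}` is realised by a map of degree `d` -/
theorem exists_lam_eq (d : ℤ) (g : C →ₗ[k] k) :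
    ∃ f ∈ homDeg 𝒜 𝒞 𝓔 d, ∀ c ∈ 𝒞 (-d), lam 𝒜 hpos h0 m hm 𝓔 e he f c = g c := by
  have hmem : ∀ a : k, algebraMap k R a • e 1 ∈ 𝓔 0 := by
    intro a
    have := smul_mem_add 𝒜 𝓔 (SetLike.algebraMap_mem_graded 𝒜 a) (unit_mem 𝒜 m 𝓔 e he)
    rwa [add_zero] at this
  let L : ↥(comp 𝒜 𝒞 (-d)) →ₗ[deg0 𝒜] ↥(comp 𝒜 𝓔 0) :=
    { toFun := fun c => ⟨algebraMap k R (g c.1) • e 1, hmem _⟩
      map_add' := fun c c' => by
        apply Subtype.ext
        show algebraMap k R (g (c.1 + c'.1)) • e 1 = _ + _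
        rw [map_add, map_add, add_smul]
      map_smul' := fun a c => by
        apply Subtype.ext
        obtain ⟨a', ha'⟩ := (kToDeg0_bijective 𝒜 h0).2 a
        show algebraMap k R (g ((a : R) • c.1)) • e 1 = (a : R) • (algebraMap k R (g c.1) • e 1)
        have h1 : (a : R) = algebraMap k R a' := by rw [← ha']; rfl
        rw [h1, algebraMap_smul R a' c.1, map_smul, smul_eq_mul, map_mul, mul_smul] }
  obtain ⟨f, hf⟩ := restr_surjective 𝒜 hpos h0 m hm 𝓔 e he 𝒞 d L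
  refine ⟨f.1, f.2, fun c hc => ?_⟩
  have h1 : ((restr 𝒜 𝓔 𝒞 d f ⟨c, hc⟩ : ↥(comp 𝒜 𝓔 0)) : E') = f.1 c := rfl
  rw [hf] at h1
  rw [lam_apply, ← h1]
  exact c0_unit 𝒜 hpos h0 m hm 𝓔 e he (g c)

end Pair

end Groth.Agent.Lib.helper26.SegCan
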