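import Mathlib
import Groth.Prelude.Def_GrLC
import Groth.Prelude.Def_GrSeg
import Groth.Agent.Lib.Helper26.SegCan1

/-!
# Graded Matlis duality, continued: canonical isomorphisms and graded duals (helper26)

* `symm_mem` : the inverse of a homogeneous isomorphism `Hom_R(C, E') ≅ H` is homogeneous;
* `canPair`, `isGDual_canPair` : `H ≅ Hom_R(C, E')` is a graded `k`-dual of `C`;
* `exists_equiv_of_isGDual` : any graded `k`-dual `D` of `C` is homogeneously isomorphic to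
  `Hom_R(C, E')`.
-/

set_option autoImplicit false
set_option linter.unusedSectionVars false
set_option linter.dupNamespace false
universe u

namespace Groth.Agent.Lib.helper26.SegCan

open GrLC Groth.Agent.Lib.helper19.GrMod Groth.Agent.Lib.helper19.GrConv
  Groth.Agent.Lib.helper26.Seg Groth.Agent.Lib.helper26.Kun Groth.Agent.Lib.helper26.Can

attribute [local instance] gsmulAdd

section Canon

variable {k : Type u} [Field k] {R : Type u} [CommRing R] [Nontrivial R] [Algebra k R]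
  (𝒜 : ℤ → Submodule k R) [GradedAlgebra 𝒜]
  (hpos : ∀ n : ℤ, n < 0 → 𝒜 n = ⊥) (h0 : 𝒜 0 = Submodule.span k {(1 : R)})
  (m : HomogeneousIdeal 𝒜) (hm : m.toIdeal = irr 𝒜)
  {E' : Type u} [AddCommGroup E'] [Module R E'] (𝓔 : ℤ → AddSubgroup E')
  [DirectSum.Decomposition 𝓔] [SetLike.GradedSMul 𝒜 𝓔]
  (e : (R ⧸ m.toIdeal) →ₗ[R] E') (he : IsStarInjHull 𝒜 (quotGr 𝒜 m) 𝓔 e)
  {C : Type u} [AddCommGroup C] [Module R C] [Module k C] [IsScalarTower k R C]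
  (𝒞 : ℤ → AddSubgroup C) [DirectSum.Decomposition 𝒞] [SetLike.GradedSMul 𝒜 𝒞]
  [Module.Finite R C]
  {H : Type u} [AddCommGroup H] [Module R H] [Module k H] [IsScalarTower k R H]
  (ℋ : ℤ → AddSubgroup H) [DirectSum.Decomposition ℋ]
  (φ : (C →ₗ[R] E') ≃ₗ[R] H)
  (hφ : IsGrHom (fun d => (homDeg 𝒜 𝒞 𝓔 d).toAddSubgroup) ℋ φ.toLinearMap)

include hφ in
/-- the inverse of a homogeneous isomorphism is homogeneous -/
theorem symm_mem {n : ℤ} {h : H} (hh : h ∈ ℋ n) : φ.symm h ∈ homDeg 𝒜 𝒞 𝓔 n := by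
  classical
  obtain ⟨D, hD⟩ := Groth.Agent.Lib.helper19.GrHomDec.exists_sum_comp (addGr 𝒜) 𝒞 𝓔 (φ.symm h)
  have hc : ∀ d, Groth.Agent.Lib.helper19.GrHomDec.comp (addGr 𝒜) 𝒞 𝓔 (φ.symm h) d ∈
      homDeg 𝒜 𝒞 𝓔 d := fun d =>
    Groth.Agent.Lib.helper19.GrHomDec.comp_isGrHomDeg (addGr 𝒜) 𝒞 𝓔 (φ.symm h) d
  have h1 : h = ∑ d ∈ D, φ (Groth.Agent.Lib.helper19.GrHomDec.comp (addGr 𝒜) 𝒞 𝓔 (φ.symm h) d) := by
    rw [← map_sum, ← hD, LinearEquiv.apply_symm_apply]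
  have h2 : ∀ d ∈ D, d ≠ n →
      Groth.Agent.Lib.helper19.GrHomDec.comp (addGr 𝒜) 𝒞 𝓔 (φ.symm h) d = 0 := by
    intro d hd hdn
    have h3 := decompose_sum_mem ℋ D
      (fun d => φ (Groth.Agent.Lib.helper19.GrHomDec.comp (addGr 𝒜) 𝒞 𝓔 (φ.symm h) d))
      (fun d _ => hφ d _ (hc d)) d
    rw [← h1, if_pos hd, DirectSum.decompose_of_mem_ne ℋ hh (Ne.symm hdn)] at h3
    exact φ.injective (h3.symm.trans (map_zero φ).symm)
  rw [hD]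
  refine Submodule.sum_mem _ (fun d hd => ?_)
  by_cases hdn : d = n
  · rw [hdn]
    exact hc n
  · rw [h2 d hd hdn]
    exact Submodule.zero_mem _

/-- the pairing `H × C → k` attached to an isomorphism `Hom_R(C, E') ≅ H` -/
noncomputable def canPair : H →ₗ[k] C →ₗ[k] k where
  toFun h := lam 𝒜 hpos h0 m hm 𝓔 e he (φ.symm h)
  map_add' x y := by rw [map_add, lam_add]
  map_smul' c x := by
    rw [← algebraMap_smul R c x, map_smul, lam_ksmul]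
    rfl

theorem canPair_apply (h : H) (c : C) : canPair 𝒜 hpos h0 m hm 𝓔 e he φ h c =
    lam 𝒜 hpos h0 m hm 𝓔 e he (φ.symm h) c := rfl

include hφ in
/-- **`H ≅ Hom_R(C, E')` is a graded `k`-dual of `C`** -/
theorem isGDual_canPair : GrSeg.IsGDual R 𝒞 ℋ (canPair 𝒜 hpos h0 m hm 𝓔 e he φ) where
  map_smul r d x := by
    rw [canPair_apply, canPair_apply, map_smul, lam_smul]
  vanish n d hd j hj x hx := by
    rw [canPair_apply]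
    exact lam_vanish 𝒜 hpos h0 m hm 𝓔 e he 𝒞 (symm_mem 𝒜 𝓔 𝒞 ℋ φ hφ hd) hj hx
  eq_zero n d hd hx := by
    have h1 := eq_zero_of_lam_piece 𝒜 hpos h0 m hm 𝓔 e he 𝒞 (symm_mem 𝒜 𝓔 𝒞 ℋ φ hφ hd) hx
    exact φ.symm.injective (h1.trans (map_zero φ.symm).symm)
  exists_eq n g := by
    obtain ⟨f, hf, hfg⟩ := exists_lam_eq 𝒜 hpos h0 m hm 𝓔 e he 𝒞 n g
    refine ⟨φ f, hφ n f hf, fun x hx => ?_⟩
    rw [canPair_apply, LinearEquiv.symm_apply_apply]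
    exact hfg x hx

end Canon

section Dual

variable {k : Type u} [Field k] {R : Type u} [CommRing R] [Nontrivial R] [Algebra k R]
  (𝒜 : ℤ → Submodule k R) [GradedAlgebra 𝒜]
  (hpos : ∀ n : ℤ, n < 0 → 𝒜 n = ⊥) (h0 : 𝒜 0 = Submodule.span k {(1 : R)})
  (m : HomogeneousIdeal 𝒜) (hm : m.toIdeal = irr 𝒜)
  {E' : Type u} [AddCommGroup E'] [Module R E'] (𝓔 : ℤ → AddSubgroup E')
  [DirectSum.Decomposition 𝓔] [SetLike.GradedSMul 𝒜 𝓔]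
  (e : (R ⧸ m.toIdeal) →ₗ[R] E') (he : IsStarInjHull 𝒜 (quotGr 𝒜 m) 𝓔 e)
  {C : Type u} [AddCommGroup C] [Module R C] [Module k C] [IsScalarTower k R C]
  (𝒞 : ℤ → AddSubgroup C) [DirectSum.Decomposition 𝒞] [SetLike.GradedSMul 𝒜 𝒞]
  [Module.Finite R C]
  {D : Type u} [AddCommGroup D] [Module R D] [Module k D] [IsScalarTower k R D]
  (𝒟 : ℤ → AddSubgroup D) [DirectSum.Decomposition 𝒟]
  (β : D →ₗ[k] C →ₗ[k] k) (hD : GrSeg.IsGDual R 𝒞 𝒟 β)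

include hD in
theorem exists_beta_eq_of_mem {n : ℤ} {f : C →ₗ[R] E'} (hf : f ∈ homDeg 𝒜 𝒞 𝓔 n) :
    ∃ d ∈ 𝒟 n, β d = lam 𝒜 hpos h0 m hm 𝓔 e he f := by
  obtain ⟨d, hd, hdx⟩ := Groth.Agent.Lib.helper19.GDual.exists_dual 𝒜 𝒞 𝒟 β hD n
    (lam 𝒜 hpos h0 m hm 𝓔 e he f)
  refine ⟨d, hd, ?_⟩
  ext x
  rw [hdx x, Groth.Agent.Lib.helper19.GDual.projK_apply]
  exact (lam_eq_proj 𝒜 hpos h0 m hm 𝓔 e he 𝒞 hf x).symm

include hD in
theorem exists_beta_eq (f : C →ₗ[R] E') : ∃ d, β d = lam 𝒜 hpos h0 m hm 𝓔 e he f := by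
  classical
  obtain ⟨S, hS⟩ := Groth.Agent.Lib.helper19.GrHomDec.exists_sum_comp (addGr 𝒜) 𝒞 𝓔 f
  have hc : ∀ d, Groth.Agent.Lib.helper19.GrHomDec.comp (addGr 𝒜) 𝒞 𝓔 f d ∈
      homDeg 𝒜 𝒞 𝓔 d := fun d =>
    Groth.Agent.Lib.helper19.GrHomDec.comp_isGrHomDeg (addGr 𝒜) 𝒞 𝓔 f d
  have h1 : ∀ n : ℤ, ∃ d, β d = lam 𝒜 hpos h0 m hm 𝓔 e he
      (Groth.Agent.Lib.helper19.GrHomDec.comp (addGr 𝒜) 𝒞 𝓔 f n) := by
    intro n
    obtain ⟨d, -, hd⟩ := exists_beta_eq_of_mem 𝒜 hpos h0 m hm 𝓔 e he 𝒞 𝒟 β hD (hc n)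
    exact ⟨d, hd⟩
  choose dd hdd using h1
  refine ⟨∑ n ∈ S, dd n, ?_⟩
  conv_rhs => rw [hS]
  rw [map_sum, lam_sum]
  exact Finset.sum_congr rfl (fun n _ => hdd n)

include hD in
theorem beta_injective : Function.Injective β := by
  intro d d' h
  rw [← sub_eq_zero]
  apply Groth.Agent.Lib.helper19.GDual.eq_zero_of_forall 𝒞 𝒟 β hD
  intro x
  rw [map_sub, h, sub_self, LinearMap.zero_apply]

/-- the comparison map `Hom_R(C, E') → D` -/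
noncomputable def theta : (C →ₗ[R] E') →ₗ[R] D where
  toFun f := Classical.choose (exists_beta_eq 𝒜 hpos h0 m hm 𝓔 e he 𝒞 𝒟 β hD f)
  map_add' f g := by
    apply beta_injective 𝒞 𝒟 β hD
    rw [map_add, Classical.choose_spec (exists_beta_eq 𝒜 hpos h0 m hm 𝓔 e he 𝒞 𝒟 β hD f),
      Classical.choose_spec (exists_beta_eq 𝒜 hpos h0 m hm 𝓔 e he 𝒞 𝒟 β hD g),
      Classical.choose_spec (exists_beta_eq 𝒜 hpos h0 m hm 𝓔 e he 𝒞 𝒟 β hD (f + g)), lam_add]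
  map_smul' r f := by
    apply beta_injective 𝒞 𝒟 β hD
    ext x
    rw [RingHom.id_apply, hD.map_smul,
      Classical.choose_spec (exists_beta_eq 𝒜 hpos h0 m hm 𝓔 e he 𝒞 𝒟 β hD f),
      Classical.choose_spec (exists_beta_eq 𝒜 hpos h0 m hm 𝓔 e he 𝒞 𝒟 β hD (r • f)), lam_smul]

theorem beta_theta (f : C →ₗ[R] E') : β (theta 𝒜 hpos h0 m hm 𝓔 e he 𝒞 𝒟 β hD f) =
    lam 𝒜 hpos h0 m hm 𝓔 e he f :=
  Classical.choose_spec (exists_beta_eq 𝒜 hpos h0 m hm 𝓔 e he 𝒞 𝒟 β hD f)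

theorem theta_injective : Function.Injective (theta 𝒜 hpos h0 m hm 𝓔 e he 𝒞 𝒟 β hD) := by
  rw [injective_iff_map_eq_zero]
  intro f hf
  apply eq_zero_of_lam 𝒜 hpos h0 m hm 𝓔 e he
  intro c
  rw [← beta_theta 𝒜 hpos h0 m hm 𝓔 e he 𝒞 𝒟 β hD f, hf, map_zero, LinearMap.zero_apply]

theorem theta_mem {n : ℤ} {f : C →ₗ[R] E'} (hf : f ∈ homDeg 𝒜 𝒞 𝓔 n) :
    theta 𝒜 hpos h0 m hm 𝓔 e he 𝒞 𝒟 β hD f ∈ 𝒟 n := by
  apply Groth.Agent.Lib.helper19.GDual.mem_of_vanish 𝒞 𝒟 β hD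
  intro j hj x hx
  rw [beta_theta]
  exact lam_vanish 𝒜 hpos h0 m hm 𝓔 e he 𝒞 hf hj hx

theorem theta_surjective : Function.Surjective (theta 𝒜 hpos h0 m hm 𝓔 e he 𝒞 𝒟 β hD) := by
  classical
  intro d
  have h1 : ∀ n : ℤ, ∃ f ∈ homDeg 𝒜 𝒞 𝓔 n, lam 𝒜 hpos h0 m hm 𝓔 e he f =
      β ((DirectSum.decompose 𝒟 d n : 𝒟 n) : D) := by
    intro n
    obtain ⟨f, hf, hfg⟩ := exists_lam_eq 𝒜 hpos h0 m hm 𝓔 e he 𝒞 n
      (β ((DirectSum.decompose 𝒟 d n : 𝒟 n) : D))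
    refine ⟨f, hf, ?_⟩
    ext x
    rw [lam_eq_proj 𝒜 hpos h0 m hm 𝓔 e he 𝒞 hf x, hfg _ (SetLike.coe_mem _)]
    exact (Groth.Agent.Lib.helper19.GDual.beta_decompose_right 𝒞 𝒟 β hD (SetLike.coe_mem _) x).symm
  choose F hF1 hF2 using h1
  refine ⟨∑ n ∈ (DirectSum.decompose 𝒟 d).support, F n, ?_⟩
  apply beta_injective 𝒞 𝒟 β hD
  rw [beta_theta, lam_sum]
  conv_rhs => rw [← DirectSum.sum_support_decompose 𝒟 d, map_sum]
  exact Finset.sum_congr rfl (fun n _ => hF2 n)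

include hpos h0 hm he hD in
/-- **any graded `k`-dual of a finitely generated graded module `C` is homogeneously isomorphic
to `Hom_R(C, *E(k))`** -/
theorem exists_equiv_of_isGDual : ∃ θ : (C →ₗ[R] E') ≃ₗ[R] D,
    IsGrHom (fun d => (homDeg 𝒜 𝒞 𝓔 d).toAddSubgroup) 𝒟 θ.toLinearMap :=
  ⟨LinearEquiv.ofBijective (theta 𝒜 hpos h0 m hm 𝓔 e he 𝒞 𝒟 β hD)
    ⟨theta_injective 𝒜 hpos h0 m hm 𝓔 e he 𝒞 𝒟 β hD,
      theta_surjective 𝒜 hpos h0 m hm 𝓔 e he 𝒞 𝒟 β hD⟩,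
    fun n f hf => theta_mem 𝒜 hpos h0 m hm 𝓔 e he 𝒞 𝒟 β hD hf⟩

end Dual

end Groth.Agent.Lib.helper26.SegCan
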