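import Mathlib
import Groth.Prelude.Def_GrLC
import Groth.Prelude.Def_GrSeg
import Groth.Agent.Lib.Helper26.GorSeg1

/-!
# The tensor product of two perfect pairings (helper26)

`tpair β1 β2 : (V1 ⊗ V2) → (W1 ⊗ W2) → k`, `(x ⊗ y, a ⊗ b) ↦ β1 x a * β2 y b`, and its
nondegeneracy on subspaces `X ⊗ Y`, `A ⊗ B` on which `β1`, `β2` are perfect.
-/

set_option autoImplicit false
set_option linter.unusedSectionVars false
set_option linter.dupNamespace false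
universe u
open scoped TensorProduct

namespace Groth.Agent.Lib.helper26.SegCan

open Groth.Agent.Lib.helper26.GorSeg

section LinAlg

variable {k : Type u} [Field k] {V1 V2 W1 W2 : Type u} [AddCommGroup V1] [Module k V1]
  [AddCommGroup V2] [Module k V2] [AddCommGroup W1] [Module k W1] [AddCommGroup W2] [Module k W2]
  (β1 : V1 →ₗ[k] W1 →ₗ[k] k) (β2 : V2 →ₗ[k] W2 →ₗ[k] k)

/-- the tensor product pairing -/
noncomputable def tpair : V1 ⊗[k] V2 →ₗ[k] W1 ⊗[k] W2 →ₗ[k] k :=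
  (TensorProduct.dualDistrib k W1 W2) ∘ₗ (TensorProduct.map β1 β2)

theorem tpair_tmul (x : V1) (y : V2) (a : W1) (b : W2) :
    tpair β1 β2 (x ⊗ₜ[k] y) (a ⊗ₜ[k] b) = β1 x a * β2 y b := rfl

/-- nondegeneracy on the left -/
theorem tpair_eq_zero (X : Submodule k V1) (Y : Submodule k V2) (A : Submodule k W1)
    (B : Submodule k W2) (h1 : ∀ x ∈ X, (∀ a ∈ A, β1 x a = 0) → x = 0)
    (h2 : ∀ y ∈ Y, (∀ b ∈ B, β2 y b = 0) → y = 0) (w : V1 ⊗[k] V2)
    (hw : w ∈ Submodule.span k {z : V1 ⊗[k] V2 | ∃ x ∈ X, ∃ y ∈ Y, z = x ⊗ₜ[k] y})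
    (h : ∀ a ∈ A, ∀ b ∈ B, tpair β1 β2 w (a ⊗ₜ[k] b) = 0) : w = 0 := by
  rw [span_tmul_eq_range] at hw
  obtain ⟨ξ, rfl⟩ := hw
  suffices hξ : ξ = 0 by rw [hξ, map_zero]
  have key : ∀ (a : A) (b : B) (ξ : ↥X ⊗[k] ↥Y),
      TensorProduct.lid k k (TensorProduct.map ((β1.flip a.1) ∘ₗ X.subtype)
        ((β2.flip b.1) ∘ₗ Y.subtype) ξ) =
      tpair β1 β2 (TensorProduct.map X.subtype Y.subtype ξ) (a.1 ⊗ₜ[k] b.1) := by
    intro a b ξ
    induction ξ using TensorProduct.induction_on with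
    | zero => simp
    | tmul x y =>
      rw [TensorProduct.map_tmul, TensorProduct.lid_tmul, TensorProduct.map_tmul, tpair_tmul]
      rfl
    | add ξ ξ' hh hh' =>
      rw [map_add, map_add, hh, hh', map_add, map_add, LinearMap.add_apply]
  apply eq_zero_of_forall_map (fun a : A => (β1.flip a.1) ∘ₗ X.subtype)
    (fun b : B => (β2.flip b.1) ∘ₗ Y.subtype)
  · intro x hx
    have := h1 x.1 x.2 (fun a ha => hx ⟨a, ha⟩)
    exact Subtype.ext this
  · intro y hy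
    have := h2 y.1 y.2 (fun b hb => hy ⟨b, hb⟩)
    exact Subtype.ext this
  · intro a b
    apply (TensorProduct.lid k k).injective
    rw [map_zero, key a b ξ]
    exact h a.1 a.2 b.1 b.2

/-- surjectivity onto the functionals -/
theorem exists_tpair_eq (X : Submodule k V1) (Y : Submodule k V2) (A : Submodule k W1)
    (B : Submodule k W2) [Module.Finite k A] [Module.Finite k B]
    (s1 : ∀ g : W1 →ₗ[k] k, ∃ x ∈ X, ∀ a ∈ A, β1 x a = g a)
    (s2 : ∀ g : W2 →ₗ[k] k, ∃ y ∈ Y, ∀ b ∈ B, β2 y b = g b) (g : W1 ⊗[k] W2 →ₗ[k] k) :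
    ∃ w ∈ Submodule.span k {z : V1 ⊗[k] V2 | ∃ x ∈ X, ∃ y ∈ Y, z = x ⊗ₜ[k] y},
      ∀ a ∈ A, ∀ b ∈ B, tpair β1 β2 w (a ⊗ₜ[k] b) = g (a ⊗ₜ[k] b) := by
  have key : ∀ η : Module.Dual k A ⊗[k] Module.Dual k B,
      ∃ w ∈ Submodule.span k {z : V1 ⊗[k] V2 | ∃ x ∈ X, ∃ y ∈ Y, z = x ⊗ₜ[k] y},
        ∀ (a : A) (b : B), tpair β1 β2 w (a.1 ⊗ₜ[k] b.1) =
          TensorProduct.dualDistrib k A B η (a ⊗ₜ[k] b) := by
    intro η
    induction η using TensorProduct.induction_on with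
    | zero =>
      exact ⟨0, zero_mem _, fun a b => by rw [map_zero, map_zero]; rfl⟩
    | tmul f1 f2 =>
      obtain ⟨g1, hg1⟩ := LinearMap.exists_extend f1
      obtain ⟨g2, hg2⟩ := LinearMap.exists_extend f2
      obtain ⟨x, hx, hxa⟩ := s1 g1
      obtain ⟨y, hy, hyb⟩ := s2 g2
      refine ⟨x ⊗ₜ[k] y, Submodule.subset_span ⟨x, hx, y, hy, rfl⟩, fun a b => ?_⟩
      rw [tpair_tmul, TensorProduct.dualDistrib_apply, hxa a.1 a.2, hyb b.1 b.2, ← hg1, ← hg2]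
      rfl
    | add η η' hh hh' =>
      obtain ⟨w, hw, hwa⟩ := hh
      obtain ⟨w', hw', hwa'⟩ := hh'
      refine ⟨w + w', add_mem hw hw', fun a b => ?_⟩
      rw [map_add, LinearMap.add_apply, hwa a b, hwa' a b, map_add, LinearMap.add_apply]
  obtain ⟨η, hη⟩ := (TensorProduct.dualDistribEquiv k A B).surjective
    (g ∘ₗ TensorProduct.map A.subtype B.subtype)
  obtain ⟨w, hw, hwa⟩ := key η
  refine ⟨w, hw, fun a ha b hb => ?_⟩
  have h1 := hwa ⟨a, ha⟩ ⟨b, hb⟩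
  have h2 : TensorProduct.dualDistrib k A B η = g ∘ₗ TensorProduct.map A.subtype B.subtype := hη
  rw [h2] at h1
  exact h1

end LinAlg

end Groth.Agent.Lib.helper26.SegCan
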