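import Mathlib
import Groth.Prelude.Def_GrLC
import Groth.Prelude.Def_GrSeg
import Groth.Agent.Lib.Helper26.SegCan3
import Groth.Agent.Lib.Helper26.Kun1

/-!
# The Segre product of graded duals is the graded dual of the Segre product (helper26)

`HR`, `HS` graded `k`-duals of `CR`, `CS` (finite-dimensional pieces), `P = CR # CS`,
`HT = HR # HS` (presented by an injective `T`-linear `κ : HT → HR ⊗ HS` onto the Segre pieces).
Then `HT` is a graded `k`-dual of `P` (`isGDual_segPair`).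
-/

set_option autoImplicit false
set_option linter.unusedSectionVars false
set_option linter.dupNamespace false
universe u
open scoped TensorProduct

namespace Groth.Agent.Lib.helper26.SegCan

open GrLC Groth.Agent.Lib.helper26.GorSeg Groth.Agent.Lib.helper26.Kun

section SegDual

variable {k : Type u} [Field k] {R : Type u} [CommRing R] [Algebra k R]
  (𝒜 : ℤ → Submodule k R) [GradedAlgebra 𝒜]
  {S : Type u} [CommRing S] [Algebra k S] (ℬ : ℤ → Submodule k S) [GradedAlgebra ℬ]
  {T : Type u} [CommRing T] [Algebra k T] (𝒯 : ℤ → Submodule k T) [GradedAlgebra 𝒯]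
  (ψ : T →ₐ[k] R ⊗[k] S)
  {CR : Type u} [AddCommGroup CR] [Module R CR] [Module k CR] [IsScalarTower k R CR]
  (𝒞R : ℤ → AddSubgroup CR) [DirectSum.Decomposition 𝒞R] [SetLike.GradedSMul 𝒜 𝒞R]
  {CS : Type u} [AddCommGroup CS] [Module S CS] [Module k CS] [IsScalarTower k S CS]
  (𝒞S : ℤ → AddSubgroup CS) [DirectSum.Decomposition 𝒞S] [SetLike.GradedSMul ℬ 𝒞S]
  {P : Type u} [AddCommGroup P] [Module T P] [Module k P] [IsScalarTower k T P]
  (𝒬 : ℤ → AddSubgroup P) [DirectSum.Decomposition 𝒬]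
  (φ : P →ₗ[k] CR ⊗[k] CS) (hP : GrSeg.IsSegreMod ψ 𝒞R 𝒞S 𝒬 φ)
  {HR : Type u} [AddCommGroup HR] [Module R HR] [Module k HR] [IsScalarTower k R HR]
  (ℋR : ℤ → AddSubgroup HR) [DirectSum.Decomposition ℋR] [SetLike.GradedSMul 𝒜 ℋR]
  (βR : HR →ₗ[k] CR →ₗ[k] k) (hR : GrSeg.IsGDual R 𝒞R ℋR βR)
  {HS : Type u} [AddCommGroup HS] [Module S HS] [Module k HS] [IsScalarTower k S HS]
  (ℋS : ℤ → AddSubgroup HS) [DirectSum.Decomposition ℋS] [SetLike.GradedSMul ℬ ℋS]
  (βS : HS →ₗ[k] CS →ₗ[k] k) (hS : GrSeg.IsGDual S 𝒞S ℋS βS)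
  {HT : Type u} [AddCommGroup HT] [Module T HT] [Module k HT] [IsScalarTower k T HT]
  (ℋT : ℤ → AddSubgroup HT) [DirectSum.Decomposition ℋT]
  (κ : HT →ₗ[T] SW ψ HR HS) (hκi : Function.Injective κ)
  (hκd : ∀ d : ℤ, (fun x => SW.val ψ (κ x)) '' (ℋT d : Set HT) =
    (GrSeg.segrePiece k ℋR ℋS d : Set (HR ⊗[k] HS)))

include hR hS in
/-- the tensor pairing is compatible with the actions of `R ⊗ S` -/
theorem tpair_act (a : R ⊗[k] S) (w : HR ⊗[k] HS) (z : CR ⊗[k] CS) :
    tpair βR βS (GrSeg.act k R S HR HS a w) z = tpair βR βS w (GrSeg.act k R S CR CS a z) := by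
  induction a using TensorProduct.induction_on with
  | zero => rw [map_zero, map_zero, LinearMap.zero_apply, LinearMap.zero_apply, map_zero,
      map_zero, LinearMap.zero_apply]
  | tmul r s =>
    induction w using TensorProduct.induction_on with
    | zero => rw [map_zero, map_zero, LinearMap.zero_apply, LinearMap.zero_apply]
    | tmul x y =>
      induction z using TensorProduct.induction_on with
      | zero => rw [map_zero, map_zero, map_zero]
      | tmul c c' =>
        rw [GrSeg.act_tmul, GrSeg.act_tmul, tpair_tmul, tpair_tmul, hR.map_smul, hS.map_smul]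
      | add z z' hz hz' => rw [map_add, hz, hz', map_add, map_add]
    | add w w' hw hw' =>
      rw [map_add, map_add, LinearMap.add_apply, hw, hw', map_add, LinearMap.add_apply]
  | add a a' ha ha' =>
    rw [map_add, LinearMap.add_apply, map_add, LinearMap.add_apply, ha, ha', map_add,
      LinearMap.add_apply, map_add]

/-- the pairing `HT × P → k` -/
noncomputable def segPair : HT →ₗ[k] P →ₗ[k] k where
  toFun h := (tpair βR βS (SW.val ψ (κ h))) ∘ₗ φ
  map_add' h h' := by rw [map_add, SW.val_add, map_add, LinearMap.add_comp]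
  map_smul' c h := by
    rw [← algebraMap_smul T c h, map_smul, algebraMap_smul, SW.val_ksmul, map_smul,
      LinearMap.smul_comp]
    rfl

theorem segPair_apply (h : HT) (p : P) :
    segPair ψ φ βR βS κ h p = tpair βR βS (SW.val ψ (κ h)) (φ p) := rfl

variable (hfinR : ∀ n : ℤ, Module.Finite k (pcK 𝒜 𝒞R n))
  (hfinS : ∀ n : ℤ, Module.Finite k (pcK ℬ 𝒞S n))

include hP hR hS hκi hκd hfinR hfinS in
/-- **the Segre product of graded duals is a graded dual of the Segre product** -/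
theorem isGDual_segPair : GrSeg.IsGDual T 𝒬 ℋT (segPair ψ φ βR βS κ) where
  map_smul t d x := by
    rw [segPair_apply, segPair_apply, map_smul, SW.val_smul, hP.map_smul,
      tpair_act 𝒞R 𝒞S ℋR βR hR ℋS βS hS]
  vanish n d hd j hj x hx := by
    rw [segPair_apply]
    have h1 : SW.val ψ (κ d) ∈ GrSeg.segrePiece k ℋR ℋS n := by
      have : SW.val ψ (κ d) ∈ (fun x => SW.val ψ (κ x)) '' (ℋT n : Set HT) := ⟨d, hd, rfl⟩
      rw [hκd n] at this
      exact this
    have h2 : φ x ∈ GrSeg.segrePiece k 𝒞R 𝒞S j := by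
      have : φ x ∈ φ '' (𝒬 j : Set P) := ⟨x, hx, rfl⟩
      rw [hP.image_piece j] at this
      exact this
    refine Submodule.span_induction (p := fun w _ => tpair βR βS w (φ x) = 0) ?_ ?_ ?_ ?_ h1
    · rintro w ⟨a, ha, b, hb, rfl⟩
      refine Submodule.span_induction (p := fun z _ => tpair βR βS (a ⊗ₜ[k] b) z = 0)
        ?_ ?_ ?_ ?_ h2
      · rintro z ⟨c, hc, c', hc', rfl⟩
        rw [tpair_tmul, hR.vanish n a ha j hj c hc, zero_mul]
      · rw [map_zero]
      · intro z z' _ _ hz hz'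
        rw [map_add, hz, hz', add_zero]
      · intro c z _ hz
        rw [map_smul, hz, smul_zero]
    · rw [map_zero, LinearMap.zero_apply]
    · intro w w' _ _ hw hw'
      rw [map_add, LinearMap.add_apply, hw, hw', add_zero]
    · intro c w _ hw
      rw [map_smul, LinearMap.smul_apply, hw, smul_zero]
  eq_zero n d hd hx := by
    have h1 : SW.val ψ (κ d) ∈ GrSeg.segrePiece k ℋR ℋS n := by
      have : SW.val ψ (κ d) ∈ (fun x => SW.val ψ (κ x)) '' (ℋT n : Set HT) := ⟨d, hd, rfl⟩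
      rw [hκd n] at this
      exact this
    have h2 : SW.val ψ (κ d) = 0 := by
      apply tpair_eq_zero βR βS (pcK 𝒜 ℋR n) (pcK ℬ ℋS n) (pcK 𝒜 𝒞R (-n)) (pcK ℬ 𝒞S (-n))
        (fun x hx' h => hR.eq_zero n x hx' h) (fun y hy' h => hS.eq_zero n y hy' h) _ h1
      intro a ha b hb
      have h3 : a ⊗ₜ[k] b ∈ (GrSeg.segrePiece k 𝒞R 𝒞S (-n) : Set (CR ⊗[k] CS)) :=
        Submodule.subset_span ⟨a, ha, b, hb, rfl⟩
      rw [← hP.image_piece (-n)] at h3
      obtain ⟨p, hp, hpe⟩ := h3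
      have h4 := hx p hp
      rw [segPair_apply, hpe] at h4
      exact h4
    apply hκi
    rw [map_zero]
    exact SW.ext ψ h2
  exists_eq n g := by
    have _ := hfinR (-n)
    have _ := hfinS (-n)
    obtain ⟨ρ, hρ⟩ := LinearMap.exists_leftInverse_of_injective φ
      (LinearMap.ker_eq_bot.2 hP.injective)
    obtain ⟨w, hw, hwa⟩ := exists_tpair_eq βR βS (pcK 𝒜 ℋR n) (pcK ℬ ℋS n) (pcK 𝒜 𝒞R (-n))
      (pcK ℬ 𝒞S (-n)) (fun g' => hR.exists_eq n g') (fun g' => hS.exists_eq n g') (g ∘ₗ ρ)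
    have h1 : w ∈ (GrSeg.segrePiece k ℋR ℋS n : Set (HR ⊗[k] HS)) := hw
    rw [← hκd n] at h1
    obtain ⟨h, hh, hhw⟩ := h1
    refine ⟨h, hh, fun x hx => ?_⟩
    rw [segPair_apply]
    have h2 : φ x ∈ GrSeg.segrePiece k 𝒞R 𝒞S (-n) := by
      have : φ x ∈ φ '' (𝒬 (-n) : Set P) := ⟨x, hx, rfl⟩
      rw [hP.image_piece (-n)] at this
      exact this
    have h3 : SW.val ψ (κ h) = w := hhw
    rw [h3]
    have h4 : tpair βR βS w (φ x) = (g ∘ₗ ρ) (φ x) := by
      refine Submodule.span_induction (p := fun z _ => tpair βR βS w z = (g ∘ₗ ρ) z)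
        ?_ ?_ ?_ ?_ h2
      · rintro z ⟨c, hc, c', hc', rfl⟩
        exact hwa c hc c' hc'
      · rw [map_zero, map_zero]
      · intro z z' _ _ hz hz'
        rw [map_add, hz, hz', map_add]
      · intro c z _ hz
        rw [map_smul, hz, map_smul]
    rw [h4, LinearMap.comp_apply]
    congr 1
    exact LinearMap.congr_fun hρ x

end SegDual

end Groth.Agent.Lib.helper26.SegCan
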