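import Mathlib
import Groth.Prelude.Def_GrLC
import Groth.Prelude.Def_GrSeg
import Groth.Agent.Lib.Helper26.SegCan2
import Groth.Agent.Lib.Helper26.SegCan4
import Groth.Agent.Lib.Helper26.GorSeg3
import Groth.Agent.S19747

/-!
# The canonical module of a Segre product: `K_T ≅ K_R # K_S` (helper26)
-/

set_option autoImplicit false
set_option linter.unusedSectionVars false
set_option linter.dupNamespace false
universe u
open scoped TensorProduct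

namespace Groth.Agent.Lib.helper26.SegCan

open GrLC Groth.Agent.Lib.helper26.Kun Groth.Agent.Lib.helper19.GrConv
  Groth.Agent.Lib.helper19.GrMod Groth.Agent.Lib.helper19.GrLes
  Groth.Agent.Lib.helper26.GorS Groth.Agent.Lib.helper26.Seg Groth.Agent.Lib.helper26.Acyc
  Groth.Agent.Lib.helper26.GorSeg

attribute [local instance] gsmulAdd gsmulSelf

/-- the pieces of a finitely generated graded module are finite-dimensional -/
theorem finite_pcK {k : Type u} [Field k] {R : Type u} [CommRing R] [Algebra k R]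
    (𝒜 : ℤ → Submodule k R) [GradedAlgebra 𝒜] (hpos : ∀ n : ℤ, n < 0 → 𝒜 n = ⊥)
    (h0 : 𝒜 0 = Submodule.span k {(1 : R)}) [IsNoetherianRing R]
    {M : Type u} [AddCommGroup M] [Module R M] [Module k M] [IsScalarTower k R M]
    (ℳ : ℤ → AddSubgroup M) [DirectSum.Decomposition ℳ] [SetLike.GradedSMul 𝒜 ℳ]
    [Module.Finite R M] (n : ℤ) : Module.Finite k (pcK 𝒜 ℳ n) := by
  obtain ⟨s, hs1, hs2⟩ := Groth.Agent.Lib.helper19.GDual.exists_finset_span_piece 𝒜 ℳ hpos h0 n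
  have h1 : pcK 𝒜 ℳ n = Submodule.span k (s : Set M) := by
    apply le_antisymm
    · intro x hx
      exact hs2 x hx
    · rw [Submodule.span_le]
      intro x hx
      exact hs1 x hx
  rw [h1]
  exact Module.Finite.span_finset k s

/-- **the canonical module of a Segre product**: `K_R # K_S` is a *canonical module of `R # S` -/
theorem canonical_segre {k : Type u} [Field k] {R : Type u} [CommRing R] [Algebra k R]
    (𝒜 : ℤ → Submodule k R) [GradedAlgebra 𝒜] (hposR : ∀ n : ℤ, n < 0 → 𝒜 n = ⊥)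
    (h0R : 𝒜 0 = Submodule.span k {(1 : R)}) [Algebra.FiniteType k R]
    {S : Type u} [CommRing S] [Algebra k S] (ℬ : ℤ → Submodule k S)
    [GradedAlgebra ℬ] (hposS : ∀ n : ℤ, n < 0 → ℬ n = ⊥)
    (h0S : ℬ 0 = Submodule.span k {(1 : S)}) [Algebra.FiniteType k S]
    {T : Type u} [CommRing T] [Algebra k T] (𝒯 : ℤ → Submodule k T) [GradedAlgebra 𝒯]
    (ψ : T →ₐ[k] R ⊗[k] S) (hT : GrSeg.IsSegreRing 𝒜 ℬ 𝒯 ψ)
    (mR : HomogeneousIdeal 𝒜) (hmR : mR.toIdeal = irr 𝒜) (I : StarInjRes 𝒜 𝒜)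
    (mS : HomogeneousIdeal ℬ) (hmS : mS.toIdeal = irr ℬ) (J : StarInjRes ℬ ℬ)
    (mT : HomogeneousIdeal 𝒯) (hmT : mT.toIdeal = irr 𝒯) (IT : StarInjRes 𝒯 𝒯)
    (r s : ℕ) (hr : ringKrullDim R = ((r + 1 + 1 : ℕ) : WithBot ℕ∞))
    (hs : ringKrullDim S = ((s + 1 + 1 : ℕ) : WithBot ℕ∞))
    {ER : Type u} [AddCommGroup ER] [Module R ER] (𝓔R : ℤ → AddSubgroup ER)
    [DirectSum.Decomposition 𝓔R] [SetLike.GradedSMul 𝒜 𝓔R] (eR : (R ⧸ mR.toIdeal) →ₗ[R] ER)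
    (heR : IsStarInjHull 𝒜 (quotGr 𝒜 mR) 𝓔R eR)
    {CR : Type u} [AddCommGroup CR] [Module R CR] [Module k CR] [IsScalarTower k R CR]
    (𝒞R : ℤ → AddSubgroup CR) [DirectSum.Decomposition 𝒞R] [SetLike.GradedSMul 𝒜 𝒞R]
    (hCR : IsStarCanonical 𝒜 𝒞R 𝓔R mR (r + 1 + 1) I)
    {ES : Type u} [AddCommGroup ES] [Module S ES] (𝓔S : ℤ → AddSubgroup ES)
    [DirectSum.Decomposition 𝓔S] [SetLike.GradedSMul ℬ 𝓔S] (eS : (S ⧸ mS.toIdeal) →ₗ[S] ES)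
    (heS : IsStarInjHull ℬ (quotGr ℬ mS) 𝓔S eS)
    {CS : Type u} [AddCommGroup CS] [Module S CS] [Module k CS] [IsScalarTower k S CS]
    (𝒞S : ℤ → AddSubgroup CS) [DirectSum.Decomposition 𝒞S] [SetLike.GradedSMul ℬ 𝒞S]
    (hCS : IsStarCanonical ℬ 𝒞S 𝓔S mS (s + 1 + 1) J)
    {ET : Type u} [AddCommGroup ET] [Module T ET] (𝓔T : ℤ → AddSubgroup ET)
    [DirectSum.Decomposition 𝓔T] [SetLike.GradedSMul 𝒯 𝓔T] (eT : (T ⧸ mT.toIdeal) →ₗ[T] ET)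
    (heT : IsStarInjHull 𝒯 (quotGr 𝒯 mT) 𝓔T eT)
    {P : Type u} [AddCommGroup P] [Module T P] [Module k P] [IsScalarTower k T P]
    (𝒬 : ℤ → AddSubgroup P) [DirectSum.Decomposition 𝒬] [SetLike.GradedSMul 𝒯 𝒬]
    (φ : P →ₗ[k] CR ⊗[k] CS) (hP : GrSeg.IsSegreMod ψ 𝒞R 𝒞S 𝒬 φ) :
    IsStarCanonical 𝒯 𝒬 𝓔T mT ((r + 1) + (s + 1) + 1) IT := by
  classical
  have hntR : Nontrivial R := by
    by_contra hne
    rw [not_nontrivial_iff_subsingleton] at hne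
    rw [ringKrullDim_eq_bot_of_subsingleton] at hr
    exact absurd hr (WithBot.bot_ne_coe)
  have hntS : Nontrivial S := by
    by_contra hne
    rw [not_nontrivial_iff_subsingleton] at hne
    rw [ringKrullDim_eq_bot_of_subsingleton] at hs
    exact absurd hs (WithBot.bot_ne_coe)
  have hnoeR : IsNoetherianRing R := Algebra.FiniteType.isNoetherianRing k R
  have hnoeS : IsNoetherianRing S := Algebra.FiniteType.isNoetherianRing k S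
  have hψ := hT.1
  have hdegT : ∀ n : ℤ, (𝒯 n).map ψ.toLinearMap =
      Submodule.span k {x : R ⊗[k] S | ∃ a ∈ 𝒜 n, ∃ b ∈ ℬ n, x = a ⊗ₜ[k] b} := hT.2
  have hFT : Algebra.FiniteType k T := finiteType_segre 𝒜 ℬ 𝒯 ψ hdegT hψ hposR h0R hposS h0S
  have hnoeT : IsNoetherianRing T := Algebra.FiniteType.isNoetherianRing k T
  have hNT : Nontrivial T := ψ.toRingHom.domain_nontrivial
  have h0T : 𝒯 0 = Submodule.span k {(1 : T)} := pieceT_zero 𝒜 ℬ 𝒯 ψ hdegT hψ h0R h0S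
  have hposT : ∀ n : ℤ, n < 0 → 𝒯 n = ⊥ := by
    intro n hn
    rw [eq_bot_iff]
    intro t ht
    have h1 : ψ t ∈ (𝒯 n).map ψ.toLinearMap := ⟨t, ht, rfl⟩
    rw [hdegT n] at h1
    have h2 : Submodule.span k {x : R ⊗[k] S | ∃ a ∈ 𝒜 n, ∃ b ∈ ℬ n, x = a ⊗ₜ[k] b} = ⊥ := by
      rw [Submodule.span_eq_bot]
      rintro x ⟨a, ha, b, hb, rfl⟩
      rw [hposR n hn, Submodule.mem_bot] at ha
      rw [ha, TensorProduct.zero_tmul]
    rw [h2, Submodule.mem_bot] at h1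
    rw [Submodule.mem_bot]
    exact hψ (h1.trans (map_zero ψ).symm)
  obtain ⟨hfCR, φR, hφR⟩ := hCR
  obtain ⟨hfCS, φS, hφS⟩ := hCS
  have hfP : Module.Finite T P := Groth.Agent.S19747.result k R 𝒜 hposR h0R S ℬ hposS h0S T 𝒯 ψ hT
    CR 𝒞R CS 𝒞S P 𝒬 φ hP
  refine ⟨hfP, ?_⟩
  -- the `k`-structures on the resolutions
  let mkM : ∀ p, Module k ((resSelf 𝒜 I).X p).carrier := fun p =>
    Module.compHom _ (algebraMap k R)
  have stM : ∀ p, IsScalarTower k R ((resSelf 𝒜 I).X p).carrier := fun p =>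
    IsScalarTower.of_algebraMap_smul fun _ _ => rfl
  let mkN : ∀ p, Module k ((resSelf ℬ J).X p).carrier := fun p =>
    Module.compHom _ (algebraMap k S)
  have stN : ∀ p, IsScalarTower k S ((resSelf ℬ J).X p).carrier := fun p =>
    IsScalarTower.of_algebraMap_smul fun _ _ => rfl
  let mkT : Module k ((resSelf 𝒯 IT).H mT ((r + 1) + (s + 1) + 1)) :=
    Module.compHom _ (algebraMap k T)
  have stT : IsScalarTower k T ((resSelf 𝒯 IT).H mT ((r + 1) + (s + 1) + 1)) :=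
    IsScalarTower.of_algebraMap_smul fun _ _ => rfl
  have hvR : ∀ (q : ℕ) (d : ℤ), r + 1 + 1 < q → (resSelf 𝒜 I).Hcomp mR q d = ⊥ := by
    intro q d hq
    apply Hcomp_eq_bot_of_supportDim_lt 𝒜 (addGr 𝒜) (resSelf 𝒜 I) mR q _ d
    rw [Module.supportDim_self_eq_ringKrullDim, hr]
    exact_mod_cast hq
  have hvS : ∀ (q : ℕ) (d : ℤ), s + 1 + 1 < q → (resSelf ℬ J).Hcomp mS q d = ⊥ := by
    intro q d hq
    apply Hcomp_eq_bot_of_supportDim_lt ℬ (addGr ℬ) (resSelf ℬ J) mS q _ d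
    rw [Module.supportDim_self_eq_ringKrullDim, hs]
    exact_mod_cast hq
  obtain ⟨Φ, hΦi, hΦd⟩ := exists_segreH_top_final 𝒜 hposR h0R ℬ hposS h0S 𝒯 ψ hT mR hmR mS hmS
    mT hmT (addGr 𝒜) (resSelf 𝒜 I) (addGr ℬ) (resSelf ℬ J) (addGr 𝒯) ψ.toLinearMap
    (isSegreMod_self 𝒜 ℬ 𝒯 ψ hψ hdegT) (resSelf 𝒯 IT) r s hvR hvS ((r + 1) + (s + 1) + 1) rfl
  -- decompositions and graded structures of the local cohomology modules
  let decR : DirectSum.Decomposition ((resSelf 𝒜 I).Hgr mR (r + 1 + 1)) :=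
    hgrDecomposition (addGr 𝒜) (resAddG 𝒜 (addGr 𝒜) (resSelf 𝒜 I)) (idealAdd 𝒜 mR) (r + 1 + 1)
  let decS : DirectSum.Decomposition ((resSelf ℬ J).Hgr mS (s + 1 + 1)) :=
    hgrDecomposition (addGr ℬ) (resAddG ℬ (addGr ℬ) (resSelf ℬ J)) (idealAdd ℬ mS) (s + 1 + 1)
  let decT : DirectSum.Decomposition ((resSelf 𝒯 IT).Hgr mT ((r + 1) + (s + 1) + 1)) :=
    hgrDecomposition (addGr 𝒯) (resAddG 𝒯 (addGr 𝒯) (resSelf 𝒯 IT)) (idealAdd 𝒯 mT)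
      ((r + 1) + (s + 1) + 1)
  have gsR : SetLike.GradedSMul 𝒜 ((resSelf 𝒜 I).Hgr mR (r + 1 + 1)) :=
    hgr_gradedSMul' 𝒜 (addGr 𝒜) (resSelf 𝒜 I) mR (r + 1 + 1)
  have gsS : SetLike.GradedSMul ℬ ((resSelf ℬ J).Hgr mS (s + 1 + 1)) :=
    hgr_gradedSMul' ℬ (addGr ℬ) (resSelf ℬ J) mS (s + 1 + 1)
  -- the local cohomology modules of `R`, `S` are graded duals of the canonical modules
  let φR' : (CR →ₗ[R] ER) ≃ₗ[R] (resSelf 𝒜 I).H mR (r + 1 + 1) := φR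
  have hφR' : IsGrHom (fun d => (homDeg 𝒜 𝒞R 𝓔R d).toAddSubgroup)
      ((resSelf 𝒜 I).Hgr mR (r + 1 + 1)) φR'.toLinearMap := hφR
  let φS' : (CS →ₗ[S] ES) ≃ₗ[S] (resSelf ℬ J).H mS (s + 1 + 1) := φS
  have hφS' : IsGrHom (fun d => (homDeg ℬ 𝒞S 𝓔S d).toAddSubgroup)
      ((resSelf ℬ J).Hgr mS (s + 1 + 1)) φS'.toLinearMap := hφS
  have hR := isGDual_canPair 𝒜 hposR h0R mR hmR 𝓔R eR heR 𝒞R
    ((resSelf 𝒜 I).Hgr mR (r + 1 + 1)) φR' hφR'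
  have hS := isGDual_canPair ℬ hposS h0S mS hmS 𝓔S eS heS 𝒞S
    ((resSelf ℬ J).Hgr mS (s + 1 + 1)) φS' hφS'
  have hDT := isGDual_segPair 𝒜 ℬ ψ 𝒞R 𝒞S 𝒬 φ hP ((resSelf 𝒜 I).Hgr mR (r + 1 + 1))
    (canPair 𝒜 hposR h0R mR hmR 𝓔R eR heR φR') hR ((resSelf ℬ J).Hgr mS (s + 1 + 1))
    (canPair ℬ hposS h0S mS hmS 𝓔S eS heS φS') hS
    ((resSelf 𝒯 IT).Hgr mT ((r + 1) + (s + 1) + 1)) Φ hΦi hΦd
    (finite_pcK 𝒜 hposR h0R 𝒞R) (finite_pcK ℬ hposS h0S 𝒞S)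
  exact exists_equiv_of_isGDual 𝒯 hposT h0T mT hmT 𝓔T eT heT 𝒬
    ((resSelf 𝒯 IT).Hgr mT ((r + 1) + (s + 1) + 1)) _ hDT

end Groth.Agent.Lib.helper26.SegCan
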