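import Mathlib
import Groth.Prelude.Def_GrSeg
import Groth.Prelude.Def_GrLC
import Groth.Agent.Lib.Helper19.GLD5
import Groth.Agent.Lib.Helper19.GDual3
import Groth.Agent.Lib.Helper26.SegCan2
import Groth.Agent.Lib.Helper26.SegCan5
import Groth.Agent.Lib.Helper26.GorSeg3
import Groth.Agent.Lib.Helper26.KunQ

/-!
# Graded local duality in top degree for `dim R ≤ n`; the pairing of a *canonical module (helper26)

* `gld_main_le` : helper19's `GLD.main` with the hypothesis `dim R = n` weakened to `dim R ≤ n`;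
* `exists_pairing_of_canonical` : a *canonical module `C` of a graded ring defined over a field is
  the graded `k`-dual of `H^n_m(R)`.
* `equivOfSurjective` : restriction of scalars of `D ≃ Hom_B(M, N)` along a surjection `A → B`.
-/

set_option autoImplicit false
set_option linter.unusedSectionVars false
set_option linter.dupNamespace false
universe u

namespace Groth.Agent.Lib.helper26.ExtCan

open GrLC Groth.Agent.Lib.helper19.GrConv Groth.Agent.Lib.helper19.GLD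
  Groth.Agent.Lib.helper26.Seg Groth.Agent.Lib.helper26.SegCan

section Main

variable {k : Type u} [Field k] {R : Type u} [CommRing R] [Algebra k R] [IsNoetherianRing R]
  (𝒜 : ℤ → Submodule k R) [GradedAlgebra 𝒜]

/-- graded local duality in top degree, for `dim R ≤ n` -/
theorem gld_main_le (mR : HomogeneousIdeal 𝒜) (n : ℕ) (hn : ringKrullDim R ≤ n)
    (I : GrLC.StarInjRes 𝒜 𝒜) [Module k (I.H mR n)] [IsScalarTower k R (I.H mR n)]
    [DirectSum.Decomposition (I.Hgr mR n)]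
    (K : Type u) [AddCommGroup K] [Module R K] [Module k K] [IsScalarTower k R K]
    (𝒦 : ℤ → AddSubgroup K) [DirectSum.Decomposition 𝒦] [SetLike.GradedSMul 𝒜 𝒦]
    (βK : K →ₗ[k] I.H mR n →ₗ[k] k) (hK : GrSeg.IsGDual R (I.Hgr mR n) 𝒦 βK)
    (M : Type u) [AddCommGroup M] [Module R M]
    (ℳ : ℤ → AddSubgroup M) [DirectSum.Decomposition ℳ] [SetLike.GradedSMul 𝒜 ℳ] [Module.Finite R M]
    (EM : GrLC.StarInjRes 𝒜 ℳ) [Module k (EM.H mR n)] [IsScalarTower k R (EM.H mR n)]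
    [DirectSum.Decomposition (EM.Hgr mR n)]
    (D : Type u) [AddCommGroup D] [Module R D] [Module k D] [IsScalarTower k R D]
    (𝒟 : ℤ → AddSubgroup D) [DirectSum.Decomposition 𝒟] [SetLike.GradedSMul 𝒜 𝒟]
    (βD : D →ₗ[k] EM.H mR n →ₗ[k] k) (hD : GrSeg.IsGDual R (EM.Hgr mR n) 𝒟 βD) :
    ∃ ε : D ≃ₗ[R] (M →ₗ[R] K), ∀ (g : ℤ) (d : D), d ∈ 𝒟 g → ∀ (e : ℤ) (x : M), x ∈ ℳ e →
      ε d x ∈ 𝒦 (e + g) := by
  classical
  haveI : SetLike.GradedSMul (addGr 𝒜) ℳ :=
    ⟨fun {i j a b} ha hb => SetLike.GradedSMul.smul_mem (A := 𝒜) (B := ℳ) ha hb⟩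
  let a : HomogeneousIdeal (addGr 𝒜) := idealAdd 𝒜 mR
  let ER : GrLC.StarInjRes (addGr 𝒜) (addGr 𝒜) := resAdd 𝒜 𝒜 I
  let EM' : GrLC.StarInjRes (addGr 𝒜) ℳ :=
    { X := fun n => toA 𝒜 (EM.X n)
      d := EM.d
      ε := EM.ε
      d_grHom := EM.d_grHom
      ε_grHom := EM.ε_grHom
      ε_injective := EM.ε_injective
      exact_zero := EM.exact_zero
      exact_succ := EM.exact_succ
      starInj := fun n => isStarInj_toA 𝒜 (EM.X n) (EM.starInj n) }
  have hV : Vanish (𝒜 := addGr 𝒜) a n := vanish_of_dim a n hn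
  haveI : SetLike.GradedSMul 𝒜 (I.Hgr mR n) :=
    ⟨fun {i j r y} hr hy => Groth.Agent.Lib.helper19.GrLes.smul_mem_Hgr ER a n
      (show r ∈ addGr 𝒜 i from hr) hy⟩
  haveI : SetLike.GradedSMul 𝒜 (EM.Hgr mR n) :=
    ⟨fun {i j r y} hr hy => Groth.Agent.Lib.helper19.GrLes.smul_mem_Hgr EM' a n
      (show r ∈ addGr 𝒜 i from hr) hy⟩
  let T : M →+ (I.H mR n →ₗ[R] EM.H mR n) := Tt a n ER EM'
  exact exists_equiv 𝒜 ℳ (I.Hgr mR n) (EM.Hgr mR n) 𝒦 βK hK 𝒟 βD hD T
    (fun r x h => Tt_smul a n ER EM' r x h)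
    (fun e x hx j h hh => Tt_mem a n ER EM' hx hh)
    (fun y => Tt_gen a n hV ER EM' y)
    (fun b hb => Tt_univ a n hV ER EM' k b hb)

end Main

section Pair

attribute [local instance] Groth.Agent.Lib.helper26.Kun.gsmulSelf

variable {k : Type u} [Field k] {R : Type u} [CommRing R] [Nontrivial R] [Algebra k R]
  [IsNoetherianRing R]
  (𝒜 : ℤ → Submodule k R) [GradedAlgebra 𝒜]
  (hpos : ∀ n : ℤ, n < 0 → 𝒜 n = ⊥) (h0 : 𝒜 0 = Submodule.span k {(1 : R)})
  (m : HomogeneousIdeal 𝒜) (hm : m.toIdeal = irr 𝒜)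
  {E' : Type u} [AddCommGroup E'] [Module R E'] (𝓔 : ℤ → AddSubgroup E')
  [DirectSum.Decomposition 𝓔] [SetLike.GradedSMul 𝒜 𝓔]
  (e : (R ⧸ m.toIdeal) →ₗ[R] E') (he : IsStarInjHull 𝒜 (quotGr 𝒜 m) 𝓔 e)
  {C : Type u} [AddCommGroup C] [Module R C] [Module k C] [IsScalarTower k R C]
  (𝒞 : ℤ → AddSubgroup C) [DirectSum.Decomposition 𝒞] [SetLike.GradedSMul 𝒜 𝒞]

include hpos h0 hm he in
/-- a *canonical module is the graded `k`-dual of the top local cohomology -/
theorem exists_pairing_of_canonical (n : ℕ) (I : StarInjRes 𝒜 𝒜)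
    (hC : IsStarCanonical 𝒜 𝒞 𝓔 m n I) [Module k (I.H m n)] [IsScalarTower k R (I.H m n)]
    [DirectSum.Decomposition (I.Hgr m n)] :
    ∃ β : C →ₗ[k] I.H m n →ₗ[k] k, GrSeg.IsGDual R (I.Hgr m n) 𝒞 β := by
  obtain ⟨hfin, φ, hφ⟩ := hC
  haveI : SetLike.GradedSMul 𝒜 (I.Hgr m n) :=
    Groth.Agent.Lib.helper26.GorSeg.hgr_gradedSMul' 𝒜 (addGr 𝒜)
      (Groth.Agent.Lib.helper26.Kun.resSelf 𝒜 I) m n
  have h1 := isGDual_canPair 𝒜 hpos h0 m hm 𝓔 e he 𝒞 (I.Hgr m n) φ hφ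
  refine ⟨(canPair 𝒜 hpos h0 m hm 𝓔 e he φ).flip, ?_⟩
  apply Groth.Agent.Lib.helper19.GDual.isGDual_flip 𝒜 𝒞 (I.Hgr m n) _ h1
  intro j
  have h2 : Groth.Agent.Lib.helper19.GDual.pc 𝒜 𝒞 j = Groth.Agent.Lib.helper26.GorSeg.pcK 𝒜 𝒞 j := by
    ext x
    rw [Groth.Agent.Lib.helper19.GDual.mem_pc]
    rfl
  rw [h2]
  exact finite_pcK 𝒜 hpos h0 𝒞 j

end Pair

section Surj

variable {A B : Type u} [CommRing A] [CommRing B] [Algebra A B]
  (h : Function.Surjective (algebraMap A B))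
  {D M N : Type u} [AddCommGroup D] [Module A D] [Module B D] [IsScalarTower A B D]
  [AddCommGroup M] [Module A M] [Module B M] [IsScalarTower A B M]
  [AddCommGroup N] [Module A N] [Module B N] [IsScalarTower A B N]

/-- restriction of scalars of an isomorphism `D ≅ Hom_B(M, N)` along a surjection `A → B` -/
noncomputable def equivOfSurjective (ε : D ≃ₗ[B] (M →ₗ[B] N)) : D ≃ₗ[A] (M →ₗ[A] N) where
  toFun d := (ε d).restrictScalars A
  map_add' x y := by
    rw [map_add]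
    rfl
  map_smul' a x := by
    rw [RingHom.id_apply, ← algebraMap_smul B a x, map_smul]
    ext s
    show (algebraMap A B a • ε x) s = a • (ε x) s
    rw [LinearMap.smul_apply, algebraMap_smul]
  invFun g := ε.symm (g.extendScalarsOfSurjective h)
  left_inv d := by
    apply ε.injective
    rw [ε.apply_symm_apply]
    ext s
    rfl
  right_inv g := by
    ext s
    show (ε (ε.symm (g.extendScalarsOfSurjective h))) s = g s
    rw [ε.apply_symm_apply]
    rfl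

end Surj

end Groth.Agent.Lib.helper26.ExtCan
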