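import Mathlib
import Groth.Prelude.Def_GrLC
import Groth.Prelude.Def_CAlg
import Groth.Agent.Lib.Helper26.GorS6
import Groth.Agent.Lib.Helper19.GrFin4

/-!
# Gorenstein duality for the Hilbert functions: `dim H^n_m(R)_{a-i} = dim R_i` (helper26)
-/

set_option autoImplicit false
set_option linter.unusedSectionVars false
set_option linter.dupNamespace false
universe u

namespace Groth.Agent.Lib.helper26.GorS

open GrLC Groth.Agent.Lib.helper26.Can Groth.Agent.Lib.helper19.GrMod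

section Dual

variable {R : Type u} [CommRing R] (𝒜 : ℤ → AddSubgroup R) [GradedRing 𝒜]
  (hpos : ∀ n : ℤ, n < 0 → 𝒜 n = ⊥) (h0 : IsField (deg0 𝒜))
  (m : HomogeneousIdeal 𝒜)
  (hmsp : m.toIdeal = Ideal.span (⋃ n ∈ Set.Ioi (0 : ℤ), (𝒜 n : Set R)))
  {H : Type u} [AddCommGroup H] [Module R H] (ℋ : ℤ → AddSubgroup H)
  [SetLike.GradedSMul 𝒜 ℋ]

/-- the multiplication pairing `R_i → Hom(H_j, H_{i+j})` -/
def mulLeft (i j l : ℤ) (hl : i + j = l) :
    ↥(comp 𝒜 𝒜 i) →ₗ[deg0 𝒜] (↥(comp 𝒜 ℋ j) →ₗ[deg0 𝒜] ↥(comp 𝒜 ℋ l)) where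
  toFun r :=
    { toFun := fun h => ⟨(r : R) • (h : H), by
        have := smul_mem_add 𝒜 ℋ (show (r : R) ∈ 𝒜 i from r.2) (show (h : H) ∈ ℋ j from h.2)
        rw [hl] at this
        exact this⟩
      map_add' := fun h h' => Subtype.ext (smul_add _ _ _)
      map_smul' := fun c h => Subtype.ext (smul_comm _ _ _) }
  map_add' r r' := by
    apply LinearMap.ext
    intro h
    exact Subtype.ext (add_smul _ _ _)
  map_smul' c r := by
    apply LinearMap.ext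
    intro h
    apply Subtype.ext
    show ((c • r : ↥(comp 𝒜 𝒜 i)) : R) • (h : H) = c • ((r : R) • (h : H))
    exact smul_assoc _ _ _

/-- the multiplication pairing `H_j → Hom(R_i, H_{i+j})` -/
def mulRight (i j l : ℤ) (hl : i + j = l) :
    ↥(comp 𝒜 ℋ j) →ₗ[deg0 𝒜] (↥(comp 𝒜 𝒜 i) →ₗ[deg0 𝒜] ↥(comp 𝒜 ℋ l)) where
  toFun h :=
    { toFun := fun r => ⟨(r : R) • (h : H), by
        have := smul_mem_add 𝒜 ℋ (show (r : R) ∈ 𝒜 i from r.2) (show (h : H) ∈ ℋ j from h.2)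
        rw [hl] at this
        exact this⟩
      map_add' := fun r r' => Subtype.ext (add_smul _ _ _)
      map_smul' := fun c r => by
        apply Subtype.ext
        show ((c • r : ↥(comp 𝒜 𝒜 i)) : R) • (h : H) = c • ((r : R) • (h : H))
        exact smul_assoc _ _ _ }
  map_add' h h' := by
    apply LinearMap.ext
    intro r
    exact Subtype.ext (smul_add _ _ _)
  map_smul' c h := by
    apply LinearMap.ext
    intro r
    exact Subtype.ext (smul_comm _ _ _)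

end Dual

section Finrank

open Groth.Agent.Lib.helper19.GrLes

variable {R : Type u} [CommRing R] (𝒜 : ℤ → AddSubgroup R) [GradedRing 𝒜]
  (hpos : ∀ n : ℤ, n < 0 → 𝒜 n = ⊥) (h0 : IsField (deg0 𝒜))
  (m : HomogeneousIdeal 𝒜)
  (hmsp : m.toIdeal = Ideal.span (⋃ n ∈ Set.Ioi (0 : ℤ), (𝒜 n : Set R)))

include hpos h0 hmsp in
/-- the top piece of `H^n_m(R)` is one-dimensional when the socle is simple -/
theorem finrank_Hcomp_top [IsNoetherianRing R] (n : ℕ) (I : StarInjRes 𝒜 𝒜)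
    (hS : SimpleSoc m.toIdeal (I.H m n)) (a : ℤ)
    (ha : endDeg (I.Hgr m n) = ((a : WithTop ℤ) : WithBot (WithTop ℤ))) :
    Module.finrank (deg0 𝒜) (I.Hcomp m n a) = 1 := by
  classical
  let _ : Field (deg0 𝒜) := h0.toField
  let _ : DirectSum.Decomposition (I.Hgr m n) := hgrDecomposition 𝒜 I m n
  let _ : SetLike.GradedSMul 𝒜 (I.Hgr m n) := hgr_gradedSMul 𝒜 I m n
  obtain ⟨s, hsa, hs0, hssoc, hgen⟩ :=
    exists_top_of_simpleSoc 𝒜 hpos h0 m hmsp (I.Hgr m n) hS a ha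
  have htop : ∀ i : ℤ, a < i → I.Hgr m n i = ⊥ := by
    intro i hi
    by_contra hne
    have h1 := le_endDeg (I.Hgr m n) hne
    rw [ha, WithBot.coe_le_coe, WithTop.coe_le_coe] at h1
    omega
  have hv : (⟨s, hsa⟩ : ↥(I.Hcomp m n a)) ≠ 0 := fun h => hs0 (congrArg Subtype.val h)
  rw [finrank_eq_one_iff_of_nonzero' _ hv]
  intro w
  obtain ⟨c, hc0, hc⟩ := hgen w.1
    (smul_eq_zero_of_mem_top 𝒜 hpos h0 m hmsp (I.Hgr m n) htop w.2)
  exact ⟨⟨c, hc0⟩, Subtype.ext hc.symm⟩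

include hpos h0 hmsp in
/-- **Gorenstein duality for Hilbert functions**: `dim H^n_m(R)_{a-i} = dim R_i` -/
theorem finrank_Hcomp_eq [LocCoh.IsCohenMacaulayRing R] (n : ℕ) (hn : ringKrullDim R = n)
    (I : StarInjRes 𝒜 𝒜) (hS : SimpleSoc m.toIdeal (I.H m n)) (a : ℤ)
    (ha : endDeg (I.Hgr m n) = ((a : WithTop ℤ) : WithBot (WithTop ℤ))) (i : ℤ) :
    Module.finrank (deg0 𝒜) (I.Hcomp m n (a - i)) = Module.finrank (deg0 𝒜) (comp 𝒜 𝒜 i) := by
  classical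
  let _ : Field (deg0 𝒜) := h0.toField
  let _ : SetLike.GradedSMul 𝒜 (I.Hgr m n) := hgr_gradedSMul 𝒜 I m n
  have hfinV : Module.Finite (deg0 𝒜) (comp 𝒜 𝒜 i) :=
    Groth.Agent.Lib.helper19.GrFin.finite_comp 𝒜 hpos 𝒜 i
  have hfg := (Groth.Agent.Lib.helper19.GrFin.main 𝒜 hpos m hmsp n R 𝒜 I).1
  have hfinW : Module.Finite (deg0 𝒜) (I.Hcomp m n (a - i)) := Module.Finite.iff_fg.2 (hfg _)
  have hfinT : Module.Finite (deg0 𝒜) (I.Hcomp m n a) := Module.Finite.iff_fg.2 (hfg _)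
  have hT := finrank_Hcomp_top 𝒜 hpos h0 m hmsp n I hS a ha
  have e1 : i + (a - i) = a := by ring
  -- the two pairings
  have hB1 : Function.Injective (mulLeft 𝒜 (I.Hgr m n) i (a - i) a e1) := by
    rw [injective_iff_map_eq_zero]
    intro r hr
    by_contra hne
    have hne' : (r : R) ≠ 0 := fun h => hne (Subtype.ext h)
    obtain ⟨h, hh, hrh⟩ := exists_smul_ne_zero_of_simpleSoc' 𝒜 hpos h0 m hmsp n hn I hS a ha
      (show (r : R) ∈ 𝒜 i from r.2) hne'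
    have h2 := congrArg (fun f : ↥(comp 𝒜 (I.Hgr m n) (a - i)) →ₗ[deg0 𝒜]
      ↥(comp 𝒜 (I.Hgr m n) a) => ((f ⟨h, hh⟩ : ↥(comp 𝒜 (I.Hgr m n) a)) : I.H m n)) hr
    exact hrh h2
  have hB2 : Function.Injective (mulRight 𝒜 (I.Hgr m n) i (a - i) a e1) := by
    rw [injective_iff_map_eq_zero]
    intro h hh
    by_contra hne
    have hne' : (h : I.H m n) ≠ 0 := fun h' => hne (Subtype.ext h')
    obtain ⟨r, hr, hrh⟩ := exists_smul_ne_zero_of_simpleSoc 𝒜 hpos h0 m hmsp I n hS a ha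
      (show (h : I.H m n) ∈ I.Hgr m n (a - i) from h.2) hne'
    rw [sub_sub_cancel] at hr
    have h2 := congrArg (fun f : ↥(comp 𝒜 𝒜 i) →ₗ[deg0 𝒜]
      ↥(comp 𝒜 (I.Hgr m n) a) => ((f ⟨r, hr⟩ : ↥(comp 𝒜 (I.Hgr m n) a)) : I.H m n)) hh
    exact hrh h2
  have hWeq : Module.finrank (deg0 𝒜) ↥(comp 𝒜 (I.Hgr m n) (a - i)) =
      Module.finrank (deg0 𝒜) (I.Hcomp m n (a - i)) := rfl
  have hTeq : Module.finrank (deg0 𝒜) ↥(comp 𝒜 (I.Hgr m n) a) = 1 := hT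
  have hfinW' : Module.Finite (deg0 𝒜) ↥(comp 𝒜 (I.Hgr m n) (a - i)) := hfinW
  have hfinT' : Module.Finite (deg0 𝒜) ↥(comp 𝒜 (I.Hgr m n) a) := hfinT
  have h1 := LinearMap.finrank_le_finrank_of_injective hB1
  have h2 := LinearMap.finrank_le_finrank_of_injective hB2
  rw [Module.finrank_linearMap, hTeq, mul_one] at h1 h2
  rw [← hWeq]
  omega

end Finrank

end Groth.Agent.Lib.helper26.GorS
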