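import Mathlib
import Groth.Prelude.Def_GrLC
import Groth.Prelude.Def_CAlg
import Groth.Agent.Lib.Helper26.GorS9
import Groth.Agent.Lib.Helper26.Can11

/-!
# The *injective envelope of the residue field has a simple socle; the end of `H^n_m(R)` (helper26)
-/

set_option autoImplicit false
set_option linter.unusedSectionVars false
set_option linter.dupNamespace false
universe u

namespace Groth.Agent.Lib.helper26.GorS

open GrLC Groth.Agent.Lib.helper26.Can Groth.Agent.Lib.helper26.Seg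
  Groth.Agent.Lib.helper19.GrMod

section Hull

variable {R : Type u} [CommRing R] (𝒜 : ℤ → AddSubgroup R) [GradedRing 𝒜]
  (hpos : ∀ n : ℤ, n < 0 → 𝒜 n = ⊥) (h0 : IsField (deg0 𝒜))
  (m : HomogeneousIdeal 𝒜)
  (hmsp : m.toIdeal = Ideal.span (⋃ n ∈ Set.Ioi (0 : ℤ), (𝒜 n : Set R)))
  {E' : Type u} [AddCommGroup E'] [Module R E'] (𝓔 : ℤ → AddSubgroup E')
  [DirectSum.Decomposition 𝓔] [SetLike.GradedSMul 𝒜 𝓔]
  (e : (R ⧸ m.toIdeal) →ₗ[R] E') (he : IsStarInjHull 𝒜 (quotGr 𝒜 m) 𝓔 e)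

attribute [local instance] gsmulSub

include hpos h0 hmsp he in
/-- **the socle of the *injective envelope of `R/m` is simple** -/
theorem simpleSoc_hull [Nontrivial R] : SimpleSoc m.toIdeal E' := by
  classical
  let _ : Field (deg0 𝒜) := h0.toField
  have hirr : (idealSub 𝒜 m).toIdeal = irr (subGr 𝒜) := hmsp
  have he' := isStarInjHull_sub 𝒜 m 𝓔 e he
  have hu : e 1 ≠ 0 :=
    unit_ne_zero (subGr 𝒜) (subGr_eq_bot 𝒜 hpos) (idealSub 𝒜 m) hirr 𝓔 e he'
  refine ⟨e 1, hu, fun r hr => smul_unit_eq_zero (𝒜 := subGr 𝒜) (idealSub 𝒜 m) e hr,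
    fun y hy => ?_⟩
  have hz : ∀ j : ℤ, j ≠ 0 → ((DirectSum.decompose 𝓔 y j : 𝓔 j) : E') = 0 := by
    intro j hj
    by_contra hne
    have hsoc := smul_decompose_eq_zero 𝒜 m 𝓔 hy j
    obtain ⟨r, hr, hrx⟩ := exists_smul_eq_unit (subGr 𝒜) (subGr_eq_bot 𝒜 hpos) (subGr_zero 𝒜)
      (idealSub 𝒜 m) hirr 𝓔 e he' (SetLike.coe_mem (DirectSum.decompose 𝓔 y j)) hne
    have hr' : r ∈ 𝒜 (-j) := hr
    rcases lt_or_gt_of_ne hj with h | h
    · have hrm : r ∈ m.toIdeal := mem_toIdeal_of_mem 𝒜 m hmsp (by omega) hr'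
      rw [hsoc r hrm] at hrx
      exact hu hrx.symm
    · rw [hpos (-j) (by omega)] at hr'
      have hr0 : r = 0 := (AddSubgroup.mem_bot).1 hr'
      rw [hr0, zero_smul] at hrx
      exact hu hrx.symm
  have hy0 : y = ((DirectSum.decompose 𝓔 y 0 : 𝓔 0) : E') := by
    conv_lhs => rw [← DirectSum.sum_support_decompose 𝓔 y]
    apply Finset.sum_eq_single 0
    · intro j _ hj
      exact hz j hj
    · intro h
      rw [DFinsupp.notMem_support_iff] at h
      rw [h]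
      rfl
  obtain ⟨c, hc⟩ := exists_eq_smul_unit (subGr 𝒜) (subGr_eq_bot 𝒜 hpos) (subGr_zero 𝒜)
    (idealSub 𝒜 m) hirr 𝓔 e he' (x := y) (by rw [hy0]; exact SetLike.coe_mem _)
  exact ⟨algebraMap (deg0 𝒜) R c, hc⟩

end Hull

section EndDeg

variable {H : Type u} [AddCommGroup H] (ℋ : ℤ → AddSubgroup H)

/-- a graded object with a nonzero piece and vanishing pieces in high degrees has a finite end -/
theorem exists_endDeg_eq (hne : ∃ j : ℤ, ℋ j ≠ ⊥) (hb : ∃ r : ℤ, ∀ g : ℤ, r ≤ g → ℋ g = ⊥) :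
    ∃ a : ℤ, endDeg ℋ = ((a : WithTop ℤ) : WithBot (WithTop ℤ)) ∧ ℋ a ≠ ⊥ := by
  classical
  obtain ⟨r, hr⟩ := hb
  obtain ⟨a, ha, hmax⟩ := Int.exists_greatest_of_bdd (P := fun j => ℋ j ≠ ⊥)
    ⟨r, fun z hz => by
      by_contra hcon
      exact hz (hr z (by omega))⟩ hne
  refine ⟨a, le_antisymm ?_ ?_, ha⟩
  · apply Groth.Agent.Lib.helper19.GrLes.endDeg_le
    intro j hj
    rw [WithBot.coe_le_coe, WithTop.coe_le_coe]
    exact hmax j hj
  · exact Groth.Agent.Lib.helper19.GrLes.le_endDeg ℋ ha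

end EndDeg

end Groth.Agent.Lib.helper26.GorS
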