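import Mathlib
import Groth.Prelude.Def_GrLC
import Groth.Prelude.Def_CAlg
import Groth.Agent.Lib.Helper26.GorS10

/-!
# The *canonical module of a Gorenstein graded ring over a field is a shift of the ring (helper26)
-/

set_option autoImplicit false
set_option linter.unusedSectionVars false
set_option linter.dupNamespace false
universe u

namespace Groth.Agent.Lib.helper26.GorS

open GrLC Groth.Agent.Lib.helper26.Can Groth.Agent.Lib.helper26.Seg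
  Groth.Agent.Lib.helper19.GrMod

section Shift

variable {R : Type u} [CommRing R] (𝒜 : ℤ → AddSubgroup R) [GradedRing 𝒜]
  (hpos : ∀ n : ℤ, n < 0 → 𝒜 n = ⊥) (h0 : IsField (deg0 𝒜))
  (m : HomogeneousIdeal 𝒜)
  (hmsp : m.toIdeal = Ideal.span (⋃ n ∈ Set.Ioi (0 : ℤ), (𝒜 n : Set R)))
  {E' : Type u} [AddCommGroup E'] [Module R E'] (𝓔 : ℤ → AddSubgroup E')
  [DirectSum.Decomposition 𝓔] [SetLike.GradedSMul 𝒜 𝓔]
  (e : (R ⧸ m.toIdeal) →ₗ[R] E') (he : IsStarInjHull 𝒜 (quotGr 𝒜 m) 𝓔 e)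
  {C : Type u} [AddCommGroup C] [Module R C] (𝒞 : ℤ → AddSubgroup C)
  [DirectSum.Decomposition 𝒞] [SetLike.GradedSMul 𝒜 𝒞]

include hpos h0 hmsp in
/-- the top local cohomology of a graded ring over a field with simple socle has a finite end -/
theorem exists_endDeg_of_simpleSoc [IsNoetherianRing R] (n : ℕ) (I : StarInjRes 𝒜 𝒜)
    (hS : SimpleSoc m.toIdeal (I.H m n)) :
    ∃ a : ℤ, endDeg (I.Hgr m n) = ((a : WithTop ℤ) : WithBot (WithTop ℤ)) := by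
  classical
  let _ : DirectSum.Decomposition (I.Hgr m n) := hgrDecomposition 𝒜 I m n
  let _ : SetLike.GradedSMul 𝒜 (I.Hgr m n) := hgr_gradedSMul 𝒜 I m n
  obtain ⟨j₀, s₀, hs₀j, hs₀0, -, -⟩ :=
    exists_homogeneous_of_simpleSoc 𝒜 hpos h0 m hmsp (I.Hgr m n) hS
  have hne : ∃ j : ℤ, I.Hgr m n j ≠ ⊥ := ⟨j₀, fun h => hs₀0 (by
    rw [h] at hs₀j
    exact (AddSubgroup.mem_bot).1 hs₀j)⟩
  have hb : ∃ r : ℤ, ∀ g : ℤ, r ≤ g → I.Hgr m n g = ⊥ := by
    obtain ⟨r, hr⟩ := (Groth.Agent.Lib.helper19.GrFin.main 𝒜 hpos m hmsp n R 𝒜 I).2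
    refine ⟨r, fun g hg => ?_⟩
    have h1 := hr g hg
    rw [eq_bot_iff]
    intro x hx
    have hx' : x ∈ I.Hcomp m n g := hx
    rw [h1] at hx'
    exact (AddSubgroup.mem_bot).2 ((Submodule.mem_bot _).1 hx')
  obtain ⟨a, ha, -⟩ := exists_endDeg_eq (I.Hgr m n) hne hb
  exact ⟨a, ha⟩

include hpos h0 hmsp he in
/-- **the *canonical module of a Gorenstein graded ring over a field is `R(a)`** -/
theorem exists_shift_equiv [LocCoh.IsCohenMacaulayRing R] (n : ℕ) (hn : ringKrullDim R = n)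
    (I : StarInjRes 𝒜 𝒜) (hC : IsStarCanonical 𝒜 𝒞 𝓔 m n I)
    (hS : SimpleSoc m.toIdeal (I.H m n)) :
    ∃ (a : ℤ) (f : R →ₗ[R] C), Function.Bijective f ∧ IsGrHomDeg 𝒜 𝒞 f a := by
  classical
  let _ : Field (deg0 𝒜) := h0.toField
  let _ : DirectSum.Decomposition (I.Hgr m n) := hgrDecomposition 𝒜 I m n
  let _ : SetLike.GradedSMul 𝒜 (I.Hgr m n) := hgr_gradedSMul 𝒜 I m n
  have hntR : Nontrivial R := by
    by_contra hcon
    rw [not_nontrivial_iff_subsingleton] at hcon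
    rw [ringKrullDim_eq_bot_of_subsingleton] at hn
    exact absurd hn (by simp)
  have hC' := hC
  obtain ⟨hfin, φ, hφ⟩ := hC
  have _ : Module.Finite R C := hfin
  obtain ⟨a, ha⟩ := exists_endDeg_of_simpleSoc 𝒜 hpos h0 m hmsp n I hS
  obtain ⟨s, hsa, hs0, hssoc, hgen⟩ :=
    exists_top_of_simpleSoc 𝒜 hpos h0 m hmsp (I.Hgr m n) hS a ha
  have htop : ∀ i : ℤ, a < i → I.Hgr m n i = ⊥ := by
    intro i hi
    by_contra hne
    have h1 := Groth.Agent.Lib.helper19.GrLes.le_endDeg (I.Hgr m n) hne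
    rw [ha, WithBot.coe_le_coe, WithTop.coe_le_coe] at h1
    omega
  have hdimC : ∀ j : ℤ, Module.finrank (deg0 𝒜) (comp 𝒜 𝒞 j) =
      Module.finrank (deg0 𝒜) (I.Hcomp m n (-j)) := fun j =>
    finrank_comp_canonical_add 𝒜 hpos h0 m hmsp 𝓔 e he 𝒞 n I hC' j
  have hT := finrank_Hcomp_top 𝒜 hpos h0 m hmsp n I hS a ha
  have hC1 : Module.finrank (deg0 𝒜) (comp 𝒜 𝒞 (-a)) = 1 := by
    rw [hdimC, neg_neg]
    exact hT
  have hfinC : ∀ j : ℤ, Module.Finite (deg0 𝒜) (comp 𝒜 𝒞 j) := fun j =>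
    Groth.Agent.Lib.helper19.GrFin.finite_comp 𝒜 hpos 𝒞 j
  have hfinA : ∀ j : ℤ, Module.Finite (deg0 𝒜) (comp 𝒜 𝒜 j) := fun j =>
    Groth.Agent.Lib.helper19.GrFin.finite_comp 𝒜 hpos 𝒜 j
  obtain ⟨c₀', hc₀'0, -⟩ := finrank_eq_one_iff'.1 hC1
  have hc₀ : (c₀' : C) ∈ 𝒞 (-a) := c₀'.2
  have hc₀0 : (c₀' : C) ≠ 0 := fun h => hc₀'0 (Subtype.ext h)
  -- a functional detecting `c₀`
  obtain ⟨ψ₁, hψ₁, hψ₁c⟩ : ∃ ψ₁ : C →ₗ[R] E', ψ₁ ∈ homDeg 𝒜 𝒞 𝓔 a ∧ ψ₁ (c₀' : C) ≠ 0 := by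
    by_contra hcon
    push Not at hcon
    exact hc₀0 (eq_zero_of_forall_homDeg_add 𝒜 hpos h0 m hmsp 𝓔 e he 𝒞 a (c₀' : C) hc₀ hcon)
  have hφψ₁ : φ ψ₁ ∈ I.Hgr m n a := hφ a ψ₁ hψ₁
  obtain ⟨c', hc'0, hc'⟩ := hgen (φ ψ₁)
    (smul_eq_zero_of_mem_top 𝒜 hpos h0 m hmsp (I.Hgr m n) htop hφψ₁)
  -- the map
  let f : R →ₗ[R] C := LinearMap.toSpanSingleton R C (c₀' : C)
  have hfdeg : IsGrHomDeg 𝒜 𝒞 f (-a) := by
    intro g r hr
    show r • (c₀' : C) ∈ 𝒞 (g + -a)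
    exact smul_mem_add 𝒜 𝒞 hr hc₀
  have hinjh : ∀ (g : ℤ) (r : R), r ∈ 𝒜 g → f r = 0 → r = 0 := by
    intro g r hr hfr
    by_contra hne
    have hfr' : r • (c₀' : C) = 0 := hfr
    obtain ⟨h, hh, hrh⟩ := exists_smul_ne_zero_of_simpleSoc' 𝒜 hpos h0 m hmsp n hn I hS a ha
      hr hne
    have hrh_mem : r • h ∈ I.Hgr m n a := by
      have := smul_mem_add 𝒜 (I.Hgr m n) hr hh
      rwa [show g + (a - g) = a by ring] at this
    obtain ⟨c, hc0, hc⟩ := hgen (r • h)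
      (smul_eq_zero_of_mem_top 𝒜 hpos h0 m hmsp (I.Hgr m n) htop hrh_mem)
    have hcne : c ≠ 0 := by
      intro h'
      rw [h', zero_smul] at hc
      exact hrh hc
    -- `c' • r • φ.symm h = c • ψ₁`
    have h1 : c' • r • φ.symm h = c • ψ₁ := by
      apply φ.injective
      rw [map_smul, map_smul, φ.apply_symm_apply, map_smul, hc, hc', smul_comm]
    have h2 := congrArg (fun ψ : C →ₗ[R] E' => ψ (c₀' : C)) h1
    simp only [LinearMap.smul_apply] at h2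
    rw [← map_smul (φ.symm h) r, hfr', map_zero, smul_zero] at h2
    -- `c` is a unit
    obtain ⟨b, hb⟩ := h0.mul_inv_cancel (a := (⟨c, hc0⟩ : deg0 𝒜))
      (fun h' => hcne (congrArg Subtype.val h'))
    have hb' : c * (b : R) = 1 := congrArg Subtype.val hb
    apply hψ₁c
    calc ψ₁ (c₀' : C) = ((b : R) * c) • ψ₁ (c₀' : C) := by rw [mul_comm, hb', one_smul]
      _ = 0 := by rw [mul_smul, ← h2, smul_zero]
  have hinj : Function.Injective f :=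
    injective_of_homogeneous 𝒜 𝒞 (DirectSum.Decomposition.isInternal 𝒜)
      (DirectSum.Decomposition.isInternal 𝒞) f.toAddMonoidHom (-a) hfdeg hinjh
  -- surjectivity, piece by piece
  have hsurjg : ∀ g : ℤ, Function.Surjective
      (mulRight 𝒜 𝒞 g (-a) (g + -a) rfl ⟨(c₀' : C), hc₀⟩) := by
    intro g
    have hinjg : Function.Injective (mulRight 𝒜 𝒞 g (-a) (g + -a) rfl ⟨(c₀' : C), hc₀⟩) := by
      intro r r' hrr'
      apply Subtype.ext
      apply hinj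
      exact congrArg Subtype.val hrr'
    have hfr : Module.finrank (deg0 𝒜) (comp 𝒜 𝒜 g) =
        Module.finrank (deg0 𝒜) (comp 𝒜 𝒞 (g + -a)) := by
      rw [hdimC, show -(g + -a) = a - g by ring]
      exact (finrank_Hcomp_eq 𝒜 hpos h0 m hmsp n hn I hS a ha g).symm
    have _ := hfinA g
    have _ := hfinC (g + -a)
    exact (LinearMap.injective_iff_surjective_of_finrank_eq_finrank hfr).1 hinjg
  have hsurj : Function.Surjective f := by
    intro c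
    apply mem_range_of_components 𝒞 f.toAddMonoidHom c
    intro g'
    have hmem : ((DirectSum.decompose 𝒞 c g' : 𝒞 g') : C) ∈ 𝒞 (g' + a + -a) := by
      rw [show g' + a + -a = g' by ring]
      exact SetLike.coe_mem _
    obtain ⟨r, hr⟩ := hsurjg (g' + a) ⟨_, hmem⟩
    exact ⟨(r : R), congrArg Subtype.val hr⟩
  exact ⟨-a, f, ⟨hinj, hsurj⟩, hfdeg⟩

end Shift

end Groth.Agent.Lib.helper26.GorS
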