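import Mathlib
import Groth.Prelude.Def_GrLC
import Groth.Prelude.Def_GrSeg
import Groth.Agent.Lib.Helper26.GorSeg3
import Groth.Agent.Lib.Helper26.GorS9
import Groth.Agent.Lib.Helper26.GorS11
import Groth.Agent.Lib.Helper26.Seg25
import Groth.Agent.Lib.Helper26.KunS

/-!
# Segre products of Gorenstein graded rings with equal `a`-invariants are Gorenstein (helper26)
-/

set_option autoImplicit false
set_option linter.unusedSectionVars false
set_option linter.dupNamespace false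
universe u
open scoped TensorProduct

namespace Groth.Agent.Lib.helper26.GorSeg

open GrLC Groth.Agent.Lib.helper26.Kun Groth.Agent.Lib.helper19.GrConv
  Groth.Agent.Lib.helper19.GrMod Groth.Agent.Lib.helper19.GrLes
  Groth.Agent.Lib.helper26.GorS Groth.Agent.Lib.helper26.Seg Groth.Agent.Lib.helper26.Acyc

attribute [local instance] gsmulAdd gsmulSelf

section Self

variable {k : Type u} [Field k] {R : Type u} [CommRing R] [Algebra k R]
  (𝒜 : ℤ → Submodule k R) [GradedAlgebra 𝒜]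

/-- a *injective resolution of the ring with additive subgroups as pieces, as a resolution
of the ring graded by subspaces -/
noncomputable def resSelfInv (E : StarInjRes 𝒜 (addGr 𝒜)) : StarInjRes 𝒜 𝒜 where
  X := E.X
  d := E.d
  ε := E.ε
  d_grHom := E.d_grHom
  ε_grHom := fun g m hm => E.ε_grHom g m hm
  ε_injective := E.ε_injective
  exact_zero := E.exact_zero
  exact_succ := E.exact_succ
  starInj := E.starInj

theorem exists_starInjRes_self [IsNoetherianRing R] : Nonempty (StarInjRes 𝒜 𝒜) := by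
  obtain ⟨E⟩ := exists_starInjRes 𝒜 (addGr 𝒜)
  exact ⟨resSelfInv 𝒜 E⟩

theorem addGr_eq_bot_of_neg (hposR : ∀ n : ℤ, n < 0 → 𝒜 n = ⊥) (n : ℤ) (hn : n < 0) :
    addGr 𝒜 n = ⊥ := by
  rw [eq_bot_iff]
  intro t ht
  have h1 : t ∈ 𝒜 n := ht
  rw [hposR n hn, Submodule.mem_bot] at h1
  rw [AddSubgroup.mem_bot]
  exact h1

end Self

/-- **Segre products of rings with simple socles and equal `a`-invariants are Gorenstein**
(when Cohen–Macaulay) -/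
theorem gor_segre_of_simpleSoc {k : Type u} [Field k] {R : Type u} [CommRing R] [Algebra k R]
    (𝒜 : ℤ → Submodule k R) [GradedAlgebra 𝒜] (hposR : ∀ n : ℤ, n < 0 → 𝒜 n = ⊥)
    (h0R : 𝒜 0 = Submodule.span k {(1 : R)}) [Algebra.FiniteType k R]
    {S : Type u} [CommRing S] [Algebra k S] (ℬ : ℤ → Submodule k S)
    [GradedAlgebra ℬ] (hposS : ∀ n : ℤ, n < 0 → ℬ n = ⊥)
    (h0S : ℬ 0 = Submodule.span k {(1 : S)}) [Algebra.FiniteType k S]
    {T : Type u} [CommRing T] [Algebra k T] (𝒯 : ℤ → Submodule k T) [GradedAlgebra 𝒯]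
    (ψ : T →ₐ[k] R ⊗[k] S) (hψ : Function.Injective ψ)
    (hdegT : ∀ n : ℤ, (𝒯 n).map ψ.toLinearMap =
      Submodule.span k {x : R ⊗[k] S | ∃ a ∈ 𝒜 n, ∃ b ∈ ℬ n, x = a ⊗ₜ[k] b})
    [LocCoh.IsCohenMacaulayRing T]
    (mR : HomogeneousIdeal 𝒜) (hmR : mR.toIdeal = irr 𝒜) (I : StarInjRes 𝒜 𝒜)
    (mS : HomogeneousIdeal ℬ) (hmS : mS.toIdeal = irr ℬ) (J : StarInjRes ℬ ℬ)
    (r s : ℕ) (hr : ringKrullDim R = ((r + 2 : ℕ) : WithBot ℕ∞))
    (hs : ringKrullDim S = ((s + 2 : ℕ) : WithBot ℕ∞))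
    (hSR : SimpleSoc mR.toIdeal (I.H mR (r + 2)))
    (hSS : SimpleSoc mS.toIdeal (J.H mS (s + 2)))
    (haeq : endDeg (I.Hgr mR (r + 2)) = endDeg (J.Hgr mS (s + 2))) :
    LocCoh.IsGorensteinRing T := by
  classical
  have hntR : Nontrivial R := by
    by_contra hne
    rw [not_nontrivial_iff_subsingleton] at hne
    rw [ringKrullDim_eq_bot_of_subsingleton] at hr
    exact absurd hr (WithBot.bot_ne_coe)
  have hntS : Nontrivial S := by
    by_contra hne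
    rw [not_nontrivial_iff_subsingleton] at hne
    rw [ringKrullDim_eq_bot_of_subsingleton] at hs
    exact absurd hs (WithBot.bot_ne_coe)
  have hnoeR : IsNoetherianRing R := Algebra.FiniteType.isNoetherianRing k R
  have hnoeS : IsNoetherianRing S := Algebra.FiniteType.isNoetherianRing k S
  have hFT : Algebra.FiniteType k T := finiteType_segre 𝒜 ℬ 𝒯 ψ hdegT hψ hposR h0R hposS h0S
  have hnoeT : IsNoetherianRing T := Algebra.FiniteType.isNoetherianRing k T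
  have hNT : Nontrivial T := ψ.toRingHom.domain_nontrivial
  have h0T : 𝒯 0 = Submodule.span k {(1 : T)} := pieceT_zero 𝒜 ℬ 𝒯 ψ hdegT hψ h0R h0S
  have hposT : ∀ n : ℤ, n < 0 → addGr 𝒯 n = ⊥ := by
    intro n hn
    rw [eq_bot_iff]
    intro t ht
    have h1 : ψ t ∈ (𝒯 n).map ψ.toLinearMap := ⟨t, ht, rfl⟩
    rw [hdegT n] at h1
    have h2 : Submodule.span k {x : R ⊗[k] S | ∃ a ∈ 𝒜 n, ∃ b ∈ ℬ n, x = a ⊗ₜ[k] b} = ⊥ := by
      rw [Submodule.span_eq_bot]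
      rintro x ⟨a, ha, b, hb, rfl⟩
      rw [hposR n hn, Submodule.mem_bot] at ha
      rw [ha, TensorProduct.zero_tmul]
    rw [h2, Submodule.mem_bot] at h1
    rw [AddSubgroup.mem_bot]
    exact hψ (h1.trans (map_zero ψ).symm)
  obtain ⟨IT⟩ := exists_starInjRes_self 𝒯
  have hposR' := addGr_eq_bot_of_neg 𝒜 hposR
  have hposS' := addGr_eq_bot_of_neg ℬ hposS
  have hfR := isField_deg0_addGr 𝒜 h0R
  have hfS := isField_deg0_addGr ℬ h0S
  have hfT := isField_deg0_addGr 𝒯 h0T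
  have hmR' : (idealAdd 𝒜 mR).toIdeal =
      Ideal.span (⋃ n ∈ Set.Ioi (0 : ℤ), (addGr 𝒜 n : Set R)) := hmR
  have hmS' : (idealAdd ℬ mS).toIdeal =
      Ideal.span (⋃ n ∈ Set.Ioi (0 : ℤ), (addGr ℬ n : Set S)) := hmS
  have hmT' : (idealAdd 𝒯 (irrH 𝒯)).toIdeal =
      Ideal.span (⋃ n ∈ Set.Ioi (0 : ℤ), (addGr 𝒯 n : Set T)) := rfl
  obtain ⟨a, ha⟩ := exists_endDeg_of_simpleSoc (addGr 𝒜) hposR' hfR (idealAdd 𝒜 mR) hmR' (r + 2)
    (resAdd 𝒜 𝒜 I) hSR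
  obtain ⟨a', ha'⟩ := exists_endDeg_of_simpleSoc (addGr ℬ) hposS' hfS (idealAdd ℬ mS) hmS' (s + 2)
    (resAdd ℬ ℬ J) hSS
  have ha1 : endDeg (I.Hgr mR (r + 2)) = ((a : WithTop ℤ) : WithBot (WithTop ℤ)) := ha
  have ha1' : endDeg (J.Hgr mS (s + 2)) = ((a' : WithTop ℤ) : WithBot (WithTop ℤ)) := ha'
  have haa : a' = a := by
    have h1 : ((a : WithTop ℤ) : WithBot (WithTop ℤ)) = ((a' : WithTop ℤ) : WithBot (WithTop ℤ)) :=
      ha1.symm.trans (haeq.trans ha1')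
    rw [WithBot.coe_inj, WithTop.coe_inj] at h1
    exact h1.symm
  subst haa
  have hX : ∀ j : ℤ, j < a' → ∀ x ∈ I.Hgr mR (r + 1 + 1) j, x ≠ 0 →
      ∃ c ∈ 𝒜 (a' - j), c • x ≠ 0 := fun j _ x hx hne =>
    exists_smul_ne_zero_of_simpleSoc (addGr 𝒜) hposR' hfR (idealAdd 𝒜 mR) hmR' (resAdd 𝒜 𝒜 I)
      (r + 2) hSR a' ha hx hne
  have hY : ∀ j : ℤ, j < a' → ∀ y ∈ J.Hgr mS (s + 1 + 1) j, y ≠ 0 →
      ∃ c ∈ ℬ (a' - j), c • y ≠ 0 := fun j _ y hy hne =>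
    exists_smul_ne_zero_of_simpleSoc (addGr ℬ) hposS' hfS (idealAdd ℬ mS) hmS' (resAdd ℬ ℬ J)
      (s + 2) hSS a' ha' hy hne
  have htop : ∀ j : ℤ, a' < j → I.Hgr mR (r + 1 + 1) j = ⊥ ∨ J.Hgr mS (s + 1 + 1) j = ⊥ := by
    intro j hj
    left
    by_contra hne
    have h1 := le_endDeg (I.Hgr mR (r + 1 + 1)) hne
    rw [ha1, WithBot.coe_le_coe, WithTop.coe_le_coe] at h1
    omega
  have hsoc := segre_soc_ring 𝒜 hposR h0R ℬ hposS h0S 𝒯 ψ hψ hdegT mR hmR I mS hmS J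
    (irrH 𝒯) rfl IT r s hr hs (r + s + 3) (by omega) a' hX hY htop
  have hfr1 : Module.finrank (deg0 𝒜) (I.Hcomp mR (r + 2) a') = 1 :=
    finrank_Hcomp_top (addGr 𝒜) hposR' hfR (idealAdd 𝒜 mR) hmR' (r + 2) (resAdd 𝒜 𝒜 I) hSR a' ha
  have hfs1 : Module.finrank (deg0 ℬ) (J.Hcomp mS (s + 2) a') = 1 :=
    finrank_Hcomp_top (addGr ℬ) hposS' hfS (idealAdd ℬ mS) hmS' (s + 2) (resAdd ℬ ℬ J) hSS a' ha'
  have hk := kunneth_segre_ring_top 𝒜 hposR h0R ℬ hposS h0S 𝒯 ψ hψ hdegT mR hmR I mS hmS J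
    (irrH 𝒯) rfl IT r s hr hs a'
  rw [hfr1, hfs1, mul_one] at hk
  have hfT0 : IsField (deg0 𝒯) := hfT
  have hST : SimpleSoc (irrH 𝒯).toIdeal (IT.H (irrH 𝒯) (r + s + 3)) := by
    let _ : Field (deg0 𝒯) := hfT0.toField
    obtain ⟨v, hv0, hv⟩ := finrank_eq_one_iff'.1 hk
    refine ⟨v.1, fun h => hv0 (Subtype.ext h), (hsoc v.1).2 v.2, fun y hy => ?_⟩
    obtain ⟨c, hc⟩ := hv ⟨y, (hsoc y).1 hy⟩
    exact ⟨c.1, (congrArg Subtype.val hc).symm⟩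
  have hdim : ringKrullDim T = ((r + s + 3 : ℕ) : WithBot ℕ∞) := by
    have h1 := ringKrullDim_segre k R 𝒜 hposR h0R S ℬ hposS h0S T 𝒯 ψ hψ hdegT (r + 2) (s + 2)
      hr hs (by omega) (by omega)
    rw [h1]
    congr 1
    omega
  exact (gor_iff_simpleSoc (addGr 𝒯) hposT hfT (idealAdd 𝒯 (irrH 𝒯)) hmT' (r + s + 3) hdim
    (resAdd 𝒯 𝒯 IT)).2 hST

end Groth.Agent.Lib.helper26.GorSeg
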