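import Mathlib
import Groth.Prelude.Def_GrLC
import Groth.Prelude.Def_GrSeg
import Groth.Prelude.Def_CAlg
import Groth.Agent.Lib.Helper26.ExtCan1
import Groth.Agent.Lib.Helper26.ExtCan2
import Groth.Agent.Lib.Helper26.ExtCan3
import Groth.Agent.Lib.Helper26.ExtCan4
import Groth.Agent.Lib.Helper26.ExtCan5
import Groth.Agent.Lib.Helper26.ExtCan6
import Groth.Agent.Lib.Helper26.ExtCan7
import Groth.Agent.Lib.Helper26.CM7
import Groth.Agent.Lib.Helper26.GorS0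
import Groth.Agent.Lib.Helper26.GorS6
import Groth.Agent.Lib.Helper26.GorSeg4
import Groth.Agent.Lib.Helper26.KunR

/-!
# `K_S ≅ Ext^t_R(S, K_R)` for graded rings defined over a field (helper26): the core

* `isWeaklyRegular_canonical` : a homogeneous `R`-regular sequence is regular on the *canonical
  module of a Cohen–Macaulay graded ring `R`;
* `exists_equiv_hom_quot` : `K_S ≅ Hom_R(S, K_R/(x) K_R)` for a homogeneous `R`-regular sequence
  `x` of length `dim R - dim S` killing `S`.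
-/

set_option autoImplicit false
set_option linter.unusedSectionVars false
set_option linter.dupNamespace false
universe u

namespace Groth.Agent.Lib.helper26.ExtCan

open GrLC Groth.Agent.Lib.helper19.GrMod Groth.Agent.Lib.helper19.GrConv RingTheory.Sequence
  Groth.Agent.Lib.helper26.Seg Groth.Agent.Lib.helper26.Kun Groth.Agent.Lib.helper26.GorS
  Groth.Agent.Lib.helper26.GorSeg Groth.Agent.Lib.helper19.GrShift

attribute [local instance] gsmulAdd gsmulSelf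

section Small

variable {k : Type u} [Field k] {R : Type u} [CommRing R] [Algebra k R]
  (𝒜 : ℤ → Submodule k R) [GradedAlgebra 𝒜] (J : HomogeneousIdeal 𝒜)

theorem map_mk_irr : (irr 𝒜).map (Ideal.Quotient.mk J.toIdeal) = irr (qGr 𝒜 J) := by
  unfold irr
  rw [Ideal.map_span]
  congr 1
  ext z
  simp only [Set.mem_image, Set.mem_iUnion, SetLike.mem_coe]
  constructor
  · rintro ⟨a, ⟨i, hi, ha⟩, rfl⟩
    exact ⟨i, hi, mk_mem_qGr 𝒜 J ha⟩
  · rintro ⟨i, hi, a, ha, rfl⟩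
    exact ⟨a, ⟨i, hi, ha⟩, rfl⟩

omit [Algebra k R] in
theorem ringKrullDim_quot_ofList_add_le (rs : List R) (hreg : IsWeaklyRegular R rs) :
    ringKrullDim (R ⧸ Ideal.ofList rs) + ((rs.length : ℕ) : WithBot ℕ∞) ≤ ringKrullDim R := by
  have h1 := supportDim_quot_ofList_add_le rs R hreg
  rw [Module.supportDim_self_eq_ringKrullDim] at h1
  have h2 : Module.supportDim R (R ⧸ (Ideal.ofList rs • ⊤ : Submodule R R)) =
      ringKrullDim (R ⧸ Ideal.ofList rs) := by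
    rw [← Module.supportDim_quotient_eq_ringKrullDim]
    exact Module.supportDim_eq_of_equiv
      (Submodule.quotEquivOfEq _ _ (by rw [smul_eq_mul, Ideal.mul_top]))
  rwa [h2] at h1

variable (hpos : ∀ n : ℤ, n < 0 → 𝒜 n = ⊥) (h0 : 𝒜 0 = Submodule.span k {(1 : R)})

include hpos h0 in
theorem le_idealDepth_irr [IsNoetherianRing R] [LocCoh.IsCohenMacaulayRing R] [Nontrivial R]
    (n : ℕ) (hn : ringKrullDim R = n) : (n : ℕ∞) ≤ LocCoh.idealDepth (irr 𝒜) R := by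
  haveI : Algebra.FiniteType k R := finiteType_of_isNoetherianRing 𝒜 hpos h0
  have h1 := (Groth.Agent.Lib.helper26.Depth.isCohenMacaulayRing_iff_idealDepth_eq_height R).1
    inferInstance (irr 𝒜) (irr_ne_top 𝒜 hpos)
  rw [h1, height_irr 𝒜 hpos h0 n hn]

end Small

section Reg

variable {k : Type u} [Field k] {R : Type u} [CommRing R] [Algebra k R] [IsNoetherianRing R]
  [LocCoh.IsCohenMacaulayRing R]
  (𝒜 : ℤ → Submodule k R) [GradedAlgebra 𝒜]
  (hpos : ∀ n : ℤ, n < 0 → 𝒜 n = ⊥) (h0 : 𝒜 0 = Submodule.span k {(1 : R)})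
  (m : HomogeneousIdeal 𝒜) (hm : m.toIdeal = irr 𝒜)
  (n : ℕ) (hn : ringKrullDim R = n) (I : StarInjRes 𝒜 𝒜)
  {E' : Type u} [AddCommGroup E'] [Module R E'] (𝓔 : ℤ → AddSubgroup E')
  [DirectSum.Decomposition 𝓔] [SetLike.GradedSMul 𝒜 𝓔]
  (e : (R ⧸ m.toIdeal) →ₗ[R] E') (he : IsStarInjHull 𝒜 (quotGr 𝒜 m) 𝓔 e)
  {C : Type u} [AddCommGroup C] [Module R C] [Module k C] [IsScalarTower k R C]
  (𝒞 : ℤ → AddSubgroup C) [DirectSum.Decomposition 𝒞] [SetLike.GradedSMul 𝒜 𝒞]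
  (hC : IsStarCanonical 𝒜 𝒞 𝓔 m n I)

include hpos h0 hm hn he hC in
/-- a homogeneous `R`-regular sequence (of elements of positive degree) is regular on the
*canonical module -/
theorem isWeaklyRegular_canonical (ps : List (R × ℤ)) (hlen : ps.length ≤ n)
    (hps : ∀ p ∈ ps, 0 < p.2 ∧ p.1 ∈ 𝒜 p.2) (hreg : IsWeaklyRegular R (ps.map Prod.fst)) :
    IsWeaklyRegular C (ps.map Prod.fst) := by
  classical
  have hntR : Nontrivial R := by
    by_contra hne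
    rw [not_nontrivial_iff_subsingleton] at hne
    rw [ringKrullDim_eq_bot_of_subsingleton] at hn
    exact absurd hn (WithBot.bot_ne_coe)
  letI mkH : Module k (I.H m n) := Module.compHom _ (algebraMap k R)
  have stH : IsScalarTower k R (I.H m n) := IsScalarTower.of_algebraMap_smul fun _ _ => rfl
  letI decH : DirectSum.Decomposition (I.Hgr m n) :=
    hgrDecomposition (addGr 𝒜) (resAdd 𝒜 𝒜 I) (idealAdd 𝒜 m) n
  haveI gsH : SetLike.GradedSMul 𝒜 (I.Hgr m n) := hgr_gradedSMul' 𝒜 (addGr 𝒜) (resSelf 𝒜 I) m n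
  obtain ⟨β, hβ⟩ := exists_pairing_of_canonical 𝒜 hpos h0 m hm 𝓔 e he 𝒞 n I hC
  apply isWeaklyRegular_of_dual 𝒜 (I.Hgr m n) 𝒞 β hβ ps (fun p hp => (hps p hp).2)
  intro qs p rest hdec h hh
  have hdepth : (n : ℕ∞) ≤ LocCoh.idealDepth (idealAdd 𝒜 m).toIdeal R := by
    show (n : ℕ∞) ≤ LocCoh.idealDepth m.toIdeal R
    rw [hm]
    exact le_idealDepth_irr 𝒜 hpos h0 n hn
  have hmem : ∀ q ∈ qs, q.1 ∈ addGr 𝒜 q.2 ∧ q.1 ∈ (idealAdd 𝒜 m).toIdeal := by
    intro q hq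
    have hq' : q ∈ ps := by rw [hdec]; exact List.mem_append_left _ hq
    refine ⟨(hps q hq').2, ?_⟩
    show q.1 ∈ m.toIdeal
    rw [hm]
    exact mem_irr_of_mem 𝒜 (hps q hq').1 (hps q hq').2
  have hp : p ∈ ps := by rw [hdec]; exact List.mem_append_right _ List.mem_cons_self
  have hreg' : IsWeaklyRegular R (qs.map Prod.fst ++ [p.1]) := by
    have h1 : ps.map Prod.fst = (qs.map Prod.fst ++ [p.1]) ++ rest.map Prod.fst := by
      rw [hdec]; simp
    rw [h1, isWeaklyRegular_append_iff] at hreg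
    exact hreg.1
  have hlen' : qs.length < n := by
    have h1 : ps.length = qs.length + (rest.length + 1) := by rw [hdec]; simp
    omega
  exact exists_smul_eq_of_append (addGr 𝒜) (idealAdd 𝒜 m) (resAdd 𝒜 𝒜 I) n hn.le hdepth qs p.1 p.2
    hmem (hps p hp).2 hreg' hlen' h hh

end Reg

section Core

variable {k : Type u} [Field k] {R : Type u} [CommRing R] [Algebra k R] [IsNoetherianRing R]
  [LocCoh.IsCohenMacaulayRing R]
  (𝒜 : ℤ → Submodule k R) [GradedAlgebra 𝒜]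
  (hpos : ∀ n : ℤ, n < 0 → 𝒜 n = ⊥) (h0 : 𝒜 0 = Submodule.span k {(1 : R)})
  (m : HomogeneousIdeal 𝒜) (hm : m.toIdeal = irr 𝒜)
  (n : ℕ) (hn : ringKrullDim R = n) (I : StarInjRes 𝒜 𝒜)
  {E' : Type u} [AddCommGroup E'] [Module R E'] (𝓔 : ℤ → AddSubgroup E')
  [DirectSum.Decomposition 𝓔] [SetLike.GradedSMul 𝒜 𝓔]
  (e : (R ⧸ m.toIdeal) →ₗ[R] E') (he : IsStarInjHull 𝒜 (quotGr 𝒜 m) 𝓔 e)
  {C : Type u} [AddCommGroup C] [Module R C] [Module k C] [IsScalarTower k R C]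
  (𝒞 : ℤ → AddSubgroup C) [DirectSum.Decomposition 𝒞] [SetLike.GradedSMul 𝒜 𝒞]
  (hC : IsStarCanonical 𝒜 𝒞 𝓔 m n I)
  {S : Type u} [CommRing S] [Algebra k S] [IsNoetherianRing S] [Algebra R S] [IsScalarTower k R S]
  [Module.Finite R S]
  (𝒜' : ℤ → Submodule k S) [GradedAlgebra 𝒜']
  (hf : ∀ j : ℤ, ∀ r ∈ 𝒜 j, algebraMap R S r ∈ 𝒜' j)
  (hpos' : ∀ n : ℤ, n < 0 → 𝒜' n = ⊥) (h0' : 𝒜' 0 = Submodule.span k {(1 : S)})
  (m' : HomogeneousIdeal 𝒜') (hm' : m'.toIdeal = irr 𝒜')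
  (n' : ℕ) (hn' : ringKrullDim S = n') (I' : StarInjRes 𝒜' 𝒜')
  {E'' : Type u} [AddCommGroup E''] [Module S E''] (𝓔'' : ℤ → AddSubgroup E'')
  [DirectSum.Decomposition 𝓔''] [SetLike.GradedSMul 𝒜' 𝓔'']
  (e' : (S ⧸ m'.toIdeal) →ₗ[S] E'') (he' : IsStarInjHull 𝒜' (quotGr 𝒜' m') 𝓔'' e')
  {C' : Type u} [AddCommGroup C'] [Module S C'] [Module R C'] [IsScalarTower R S C'] [Module k C']
  [IsScalarTower k S C']
  (𝒞' : ℤ → AddSubgroup C') [DirectSum.Decomposition 𝒞'] [SetLike.GradedSMul 𝒜' 𝒞']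
  (hC' : IsStarCanonical 𝒜' 𝒞' 𝓔'' m' n' I')

include hpos h0 hm hn he hC hf hpos' h0' hm' hn' he' hC' in
/-- `K_S ≅ Hom_R(S, K_R/J K_R)` for `J` generated by a homogeneous `R`-regular sequence of length
`dim R - dim S` killing `S` -/
theorem exists_equiv_hom_quot (J : HomogeneousIdeal 𝒜) (ps : List (R × ℤ))
    (hJ : J.toIdeal = Ideal.ofList (ps.map Prod.fst)) (hlen : n' + ps.length = n)
    (hps : ∀ p ∈ ps, 0 < p.2 ∧ p.1 ∈ 𝒜 p.2 ∧ algebraMap R S p.1 = 0)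
    (hreg : IsWeaklyRegular R (ps.map Prod.fst)) :
    Nonempty (C' ≃ₗ[R] (S →ₗ[R] C ⧸ (J.toIdeal • ⊤ : Submodule R C))) := by
  classical
  have hntR : Nontrivial R := by
    by_contra hne
    rw [not_nontrivial_iff_subsingleton] at hne
    rw [ringKrullDim_eq_bot_of_subsingleton] at hn
    exact absurd hn (WithBot.bot_ne_coe)
  have hntS : Nontrivial S := by
    by_contra hne
    rw [not_nontrivial_iff_subsingleton] at hne
    rw [ringKrullDim_eq_bot_of_subsingleton] at hn'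
    exact absurd hn' (WithBot.bot_ne_coe)
  have hJS : ∀ a ∈ J.toIdeal, algebraMap R S a = 0 := by
    have hle : J.toIdeal ≤ RingHom.ker (algebraMap R S) := by
      rw [hJ, Ideal.ofList, Ideal.span_le]
      rintro r hr
      obtain ⟨p, hp, rfl⟩ := List.mem_map.1 hr
      exact (hps p hp).2.2
    exact fun a ha => hle ha
  have hntQ : Nontrivial (R ⧸ J.toIdeal) := by
    rw [Ideal.Quotient.nontrivial_iff]
    intro htop
    have h1 : (1 : R) ∈ J.toIdeal := by rw [htop]; trivial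
    have h2 := hJS 1 h1
    rw [map_one] at h2
    exact one_ne_zero h2
  -- the algebra structure of `S` over the quotient
  letI algQ : Algebra (R ⧸ J.toIdeal) S :=
    (Ideal.Quotient.lift J.toIdeal (algebraMap R S) hJS).toAlgebra
  have halgQ : ∀ a : R, algebraMap (R ⧸ J.toIdeal) S (Ideal.Quotient.mk J.toIdeal a) =
      algebraMap R S a := fun a => rfl
  haveI towRQS : IsScalarTower R (R ⧸ J.toIdeal) S := IsScalarTower.of_algebraMap_eq (fun x => rfl)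
  haveI towkQS : IsScalarTower k (R ⧸ J.toIdeal) S := IsScalarTower.of_algebraMap_eq (fun c => by
    rw [IsScalarTower.algebraMap_apply k R (R ⧸ J.toIdeal), Ideal.Quotient.algebraMap_eq, halgQ,
      ← IsScalarTower.algebraMap_apply])
  haveI finQS : Module.Finite (R ⧸ J.toIdeal) S := Module.Finite.of_restrictScalars_finite R _ _
  -- `C'` as a module over the quotient
  letI modQC : Module (R ⧸ J.toIdeal) C' := Module.compHom C' (algebraMap (R ⧸ J.toIdeal) S)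
  haveI towQSC : IsScalarTower (R ⧸ J.toIdeal) S C' :=
    IsScalarTower.of_algebraMap_smul (fun _ _ => rfl)
  have hmodQC : ∀ (q : R ⧸ J.toIdeal) (x : C'), q • x = algebraMap (R ⧸ J.toIdeal) S q • x :=
    fun _ _ => rfl
  haveI towRQC : IsScalarTower R (R ⧸ J.toIdeal) C' := IsScalarTower.of_algebraMap_smul (fun r x => by
    rw [hmodQC, Ideal.Quotient.algebraMap_eq, halgQ, algebraMap_smul])
  haveI towkQC : IsScalarTower k (R ⧸ J.toIdeal) C' := ⟨fun c q x => by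
    rw [hmodQC, hmodQC, Algebra.smul_def c q, map_mul,
      ← IsScalarTower.algebraMap_apply k (R ⧸ J.toIdeal) S, mul_smul, algebraMap_smul]⟩
  -- gradings
  have hφQ : ∀ j : ℤ, ∀ q ∈ qGr 𝒜 J j, algebraMap (R ⧸ J.toIdeal) S q ∈ 𝒜' j := by
    rintro j _ ⟨a, ha, rfl⟩
    exact hf j a ha
  haveI gsQS : SetLike.GradedSMul (qGr 𝒜 J) (addGr 𝒜') := ⟨fun {i j q s} hq hs => by
    show q • s ∈ 𝒜' (i + j)
    rw [Algebra.smul_def]
    exact SetLike.GradedMul.mul_mem (hφQ i q hq) hs⟩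
  haveI gsQC : SetLike.GradedSMul (qGr 𝒜 J) 𝒞' := ⟨fun {i j q x} hq hx => by
    rw [hmodQC]
    exact SetLike.GradedSMul.smul_mem (A := 𝒜') (B := 𝒞') (hφQ i q hq) hx⟩
  have hposQ : ∀ j : ℤ, j < 0 → qGr 𝒜 J j = ⊥ := fun j hj => qGr_eq_bot 𝒜 J (hpos j hj)
  have h0Q : qGr 𝒜 J 0 = Submodule.span k {(1 : R ⧸ J.toIdeal)} := qGr_eq_span_one 𝒜 J h0
  have hmQ : (mapQ 𝒜 J m).toIdeal = irr (qGr 𝒜 J) := by
    rw [mapQ_toIdeal, hm]
    exact map_mk_irr 𝒜 J
  have hleQ : Ideal.map (algebraMap (R ⧸ J.toIdeal) S) (mapQ 𝒜 J m).toIdeal ≤ m'.toIdeal := by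
    rw [hmQ, hm']
    exact map_irr_le (qGr 𝒜 J) 𝒜' hφQ
  have hpowQ : ∃ N : ℕ, m'.toIdeal ^ N ≤
      Ideal.map (algebraMap (R ⧸ J.toIdeal) S) (mapQ 𝒜 J m).toIdeal := by
    rw [hmQ, hm']
    exact exists_pow_irr_le_map (qGr 𝒜 J) 𝒜' hφQ hposQ h0Q hpos' h0'
  -- the dimension of the quotient
  have hdimQ : ringKrullDim (R ⧸ J.toIdeal) ≤ n' := by
    have h1 := ringKrullDim_quot_ofList_add_le (ps.map Prod.fst) hreg
    rw [← hJ, hn, List.length_map, ← hlen] at h1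
    generalize ringKrullDim (R ⧸ J.toIdeal) = dd at h1
    induction dd with
    | bot => exact bot_le
    | coe q =>
      have h3' : q + (ps.length : ℕ∞) ≤ ((n' + ps.length : ℕ) : ℕ∞) := by exact_mod_cast h1
      induction q with
      | top => simp at h3'
      | coe q =>
        have h4 : q + ps.length ≤ n' + ps.length := by exact_mod_cast h3'
        have h5 : q ≤ n' := by omega
        exact_mod_cast h5
  -- resolutions
  obtain ⟨Ib⟩ := exists_starInjRes_self (qGr 𝒜 J)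
  obtain ⟨EM⟩ := exists_starInjRes (qGr 𝒜 J) (addGr 𝒜')
  -- `k`-structures and decompositions
  letI mkH : Module k (I.H m n) := Module.compHom _ (algebraMap k R)
  have stH : IsScalarTower k R (I.H m n) := IsScalarTower.of_algebraMap_smul fun _ _ => rfl
  letI decH : DirectSum.Decomposition (I.Hgr m n) :=
    hgrDecomposition (addGr 𝒜) (resAdd 𝒜 𝒜 I) (idealAdd 𝒜 m) n
  letI mkH' : Module k (I'.H m' n') := Module.compHom _ (algebraMap k S)
  have stH' : IsScalarTower k S (I'.H m' n') := IsScalarTower.of_algebraMap_smul fun _ _ => rfl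
  letI decH' : DirectSum.Decomposition (I'.Hgr m' n') :=
    hgrDecomposition (addGr 𝒜') (resAdd 𝒜' 𝒜' I') (idealAdd 𝒜' m') n'
  letI mkHb : Module k (Ib.H (mapQ 𝒜 J m) n') := Module.compHom _ (algebraMap k (R ⧸ J.toIdeal))
  have stHb : IsScalarTower k (R ⧸ J.toIdeal) (Ib.H (mapQ 𝒜 J m) n') :=
    IsScalarTower.of_algebraMap_smul fun _ _ => rfl
  letI decHb : DirectSum.Decomposition (Ib.Hgr (mapQ 𝒜 J m) n') :=
    hgrDecomposition (addGr (qGr 𝒜 J)) (resAdd (qGr 𝒜 J) (qGr 𝒜 J) Ib)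
      (idealAdd (qGr 𝒜 J) (mapQ 𝒜 J m)) n'
  letI mkHM : Module k (EM.H (mapQ 𝒜 J m) n') := Module.compHom _ (algebraMap k (R ⧸ J.toIdeal))
  have stHM : IsScalarTower k (R ⧸ J.toIdeal) (EM.H (mapQ 𝒜 J m) n') :=
    IsScalarTower.of_algebraMap_smul fun _ _ => rfl
  letI decHM : DirectSum.Decomposition (EM.Hgr (mapQ 𝒜 J m) n') :=
    hgrDecomposition (addGr (qGr 𝒜 J)) (resAddG (qGr 𝒜 J) (addGr 𝒜') EM)
      (idealAdd (qGr 𝒜 J) (mapQ 𝒜 J m)) n'
  -- the pairings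
  obtain ⟨β, hβ⟩ := exists_pairing_of_canonical 𝒜 hpos h0 m hm 𝓔 e he 𝒞 n I hC
  obtain ⟨β', hβ'⟩ := exists_pairing_of_canonical 𝒜' hpos' h0' m' hm' 𝓔'' e' he' 𝒞' n' I' hC'
  -- the quotient of the canonical module
  have hhom : (J.toIdeal • ⊤ : Submodule R C).IsHomogeneous 𝒞 :=
    ideal_smul_top_isHomogeneous 𝒜 𝒞 J.toIdeal J.isHomogeneous
  letI decQ : DirectSum.Decomposition (quotPiece 𝒞 (J.toIdeal • ⊤ : Submodule R C)) :=
    quotDecomposition 𝒞 _ hhom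
  letI decK : DirectSum.Decomposition
      (shiftPiece (quotPiece 𝒞 (J.toIdeal • ⊤ : Submodule R C)) (ps.map Prod.snd).sum) :=
    shiftDecomposition _ _
  haveI towkQK : IsScalarTower k (R ⧸ J.toIdeal) (C ⧸ (J.toIdeal • ⊤ : Submodule R C)) :=
    IsScalarTower.of_algebraMap_smul (fun c z => by
      obtain ⟨x, rfl⟩ := Submodule.Quotient.mk_surjective _ z
      rw [IsScalarTower.algebraMap_apply k R (R ⧸ J.toIdeal), Ideal.Quotient.algebraMap_eq,
        Module.Quotient.mk_smul_mk, algebraMap_smul]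
      rfl)
  haveI gsQK : SetLike.GradedSMul (qGr 𝒜 J)
      (shiftPiece (quotPiece 𝒞 (J.toIdeal • ⊤ : Submodule R C)) (ps.map Prod.snd).sum) :=
    ⟨fun {i j q z} hq hz => by
      obtain ⟨a, ha, rfl⟩ := hq
      obtain ⟨c, hc, rfl⟩ := hz
      refine ⟨a • c, ?_, rfl⟩
      have h1 := smul_mem_add 𝒜 𝒞 ha hc
      have e1 : i + (j + (ps.map Prod.snd).sum) = i + j + (ps.map Prod.snd).sum := by ring
      rw [e1] at h1
      exact h1⟩
  have hmem : ∀ p ∈ ps, p.1 ∈ 𝒜 p.2 ∧ p.1 ∈ m.toIdeal := by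
    intro p hp
    refine ⟨(hps p hp).2.1, ?_⟩
    rw [hm]
    exact mem_irr_of_mem 𝒜 (hps p hp).1 (hps p hp).2.1
  have hdepth : (n : ℕ∞) ≤ LocCoh.idealDepth m.toIdeal R := by
    rw [hm]
    exact le_idealDepth_irr 𝒜 hpos h0 n hn
  obtain ⟨βK, hβK⟩ := isGDual_quot_res 𝒜 J m n' n ps hlen hJ hmem hreg hdepth I 𝒞 β hβ Ib
    (shiftPiece (quotPiece 𝒞 (J.toIdeal • ⊤ : Submodule R C)) (ps.map Prod.snd).sum)
    (fun j z => Iff.rfl)
  obtain ⟨βD, hβD⟩ := isGDual_over_base (qGr 𝒜 J) 𝒜' hφQ (mapQ 𝒜 J m) m' hleQ hpowQ n' I' EM 𝒞'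
    β' hβ'
  obtain ⟨ε, -⟩ := gld_main_le (qGr 𝒜 J) (mapQ 𝒜 J m) n' hdimQ Ib
    (C ⧸ (J.toIdeal • ⊤ : Submodule R C))
    (shiftPiece (quotPiece 𝒞 (J.toIdeal • ⊤ : Submodule R C)) (ps.map Prod.snd).sum) βK hβK
    S (addGr 𝒜') EM C' 𝒞' βD hβD
  exact ⟨equivOfSurjective Ideal.Quotient.mk_surjective ε⟩

end Core

end Groth.Agent.Lib.helper26.ExtCan
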