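import Mathlib
import Groth.Prelude.Def_GrLC2
import Groth.Agent.Lib.Helper26.GorB1
import Groth.Agent.Lib.Helper19.BassFlat2
import Groth.Agent.Lib.Helper19.BassInj1

/-!
# Bass numbers at a maximal ideal as lengths of `Ext` over the ring itself; socles (helper26)
-/

set_option autoImplicit false
set_option linter.unusedSectionVars false
universe u

namespace Groth.Agent.Lib.helper26.GorB

open CategoryTheory TensorProduct GrLC Groth.Agent.Lib.helper19.BassFlat

section Soc

variable {R : Type u} [CommRing R]

/-- the socle `0 :_M a` as a submodule -/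
def socSub (a : Ideal R) (M : Type u) [AddCommGroup M] [Module R M] : Submodule R M where
  carrier := {y | ∀ r ∈ a, r • y = 0}
  add_mem' := fun {x y} hx hy r hr => by rw [smul_add, hx r hr, hy r hr, add_zero]
  zero_mem' := fun r _ => smul_zero r
  smul_mem' := fun c x hx r hr => by rw [smul_comm, hx r hr, smul_zero]

theorem mem_socSub {a : Ideal R} {M : Type u} [AddCommGroup M] [Module R M] {y : M} :
    y ∈ socSub a M ↔ ∀ r ∈ a, r • y = 0 := Iff.rfl

/-- `Hom_R(R/a, N) ≅ 0 :_N a` -/
noncomputable def homQuotEquivSoc (a : Ideal R) (N : Type u) [AddCommGroup N] [Module R N] :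
    ((R ⧸ a) →ₗ[R] N) ≃ₗ[R] socSub a N where
  toFun f := ⟨f 1, fun r hr => by
    rw [← map_smul]
    have h1 : r • (1 : R ⧸ a) = 0 := by
      rw [Algebra.smul_def, mul_one]
      exact Ideal.Quotient.eq_zero_iff_mem.2 hr
    rw [h1, map_zero]⟩
  map_add' f g := Subtype.ext (LinearMap.add_apply f g 1)
  map_smul' c f := Subtype.ext (LinearMap.smul_apply c f 1)
  invFun y := Submodule.liftQ a (LinearMap.toSpanSingleton R N y.1) (fun r hr => by
    rw [LinearMap.mem_ker, LinearMap.toSpanSingleton_apply]
    exact y.2 r hr)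
  left_inv f := by
    apply LinearMap.ext
    intro z
    obtain ⟨r, rfl⟩ := Ideal.Quotient.mk_surjective z
    show Submodule.liftQ a (LinearMap.toSpanSingleton R N (f 1)) _ (Submodule.Quotient.mk r) = _
    rw [Submodule.liftQ_apply, LinearMap.toSpanSingleton_apply, ← map_smul]
    congr 1
    rw [Algebra.smul_def, mul_one]
    rfl
  right_inv y := by
    apply Subtype.ext
    show Submodule.liftQ a (LinearMap.toSpanSingleton R N y.1) _ (Submodule.Quotient.mk 1) = _
    rw [Submodule.liftQ_apply, LinearMap.toSpanSingleton_apply, one_smul]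

/-- an equivalence of modules restricts to the socles -/
noncomputable def socSubCongr (a : Ideal R) {M N : Type u} [AddCommGroup M] [Module R M]
    [AddCommGroup N] [Module R N] (e : M ≃ₗ[R] N) : socSub a M ≃ₗ[R] socSub a N where
  toFun y := ⟨e y.1, fun r hr => by rw [← map_smul, y.2 r hr, map_zero]⟩
  map_add' x y := Subtype.ext (map_add e x.1 y.1)
  map_smul' c x := Subtype.ext (map_smul e c x.1)
  invFun y := ⟨e.symm y.1, fun r hr => by rw [← map_smul, y.2 r hr, map_zero]⟩
  left_inv y := Subtype.ext (e.symm_apply_apply y.1)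
  right_inv y := Subtype.ext (e.apply_symm_apply y.1)

/-- an injective map whose range contains the socle induces an equivalence of socles -/
noncomputable def socSubOfInjective (a : Ideal R) {M N : Type u} [AddCommGroup M] [Module R M]
    [AddCommGroup N] [Module R N] (ι : M →ₗ[R] N) (hinj : Function.Injective ι)
    (hrange : ∀ y : N, (∀ r ∈ a, r • y = 0) → y ∈ LinearMap.range ι) :
    socSub a M ≃ₗ[R] socSub a N :=
  LinearEquiv.ofBijective
    { toFun := fun y => ⟨ι y.1, fun r hr => by rw [← map_smul, y.2 r hr, map_zero]⟩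
      map_add' := fun x y => Subtype.ext (map_add ι x.1 y.1)
      map_smul' := fun c x => Subtype.ext (map_smul ι c x.1) } (by
    constructor
    · intro x y hxy
      exact Subtype.ext (hinj (congrArg Subtype.val hxy))
    · intro y
      obtain ⟨x, hx⟩ := hrange y.1 y.2
      refine ⟨⟨x, fun r hr => hinj ?_⟩, Subtype.ext hx⟩
      rw [map_smul, hx, y.2 r hr, map_zero])

end Soc

section Len

variable (R : Type u) [CommRing R] [IsNoetherianRing R] (m : Ideal R) [m.IsMaximal]

/-- the length over a local flat `R`-algebra `A` with `m A` the maximal ideal of `A ⊗ V`, for `V`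
killed by the maximal ideal `m`, is the length of `V` over `R` -/
theorem length_tensor_of_killed' (A : Type u) [CommRing A] [Algebra R A] [IsLocalRing A]
    [Module.Flat R A] (hmax : m.map (algebraMap R A) = IsLocalRing.maximalIdeal A)
    (V : Type u) [AddCommGroup V] [Module R V]
    (h : ∀ a ∈ m, ∀ v : V, a • v = 0) :
    Module.length A (A ⊗[R] V) = Module.length R V := by
  classical
  obtain ⟨I, ⟨e⟩⟩ := exists_finsupp_of_killed m V h
  rw [e.length_eq, length_finsupp_quot]
  have e1 : A ⊗[R] V ≃ₗ[A] (I →₀ A ⊗[R] (R ⧸ m)) :=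
    (TensorProduct.AlgebraTensorModule.congr (LinearEquiv.refl A A) e).trans
      (TensorProduct.finsuppRight R A A (R ⧸ m) I)
  have h1 : Module.length A (A ⊗[R] V) = Module.length A (I →₀ A ⊗[R] (R ⧸ m)) :=
    LinearEquiv.length_eq e1
  rw [h1, Module.length_finsupp]
  have e2 : A ⊗[R] (R ⧸ m) ≃ₗ[A] (A ⧸ IsLocalRing.maximalIdeal A) :=
    (tensorQuot R A m).trans (Submodule.quotEquivOfEq _ _ hmax)
  have hsimple : IsSimpleModule A (A ⧸ IsLocalRing.maximalIdeal A) := by
    rw [isSimpleModule_iff_quot_maximal]
    exact ⟨_, inferInstance, ⟨LinearEquiv.refl _ _⟩⟩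
  have h2 : Module.length A (A ⊗[R] (R ⧸ m)) =
      Module.length A (A ⧸ IsLocalRing.maximalIdeal A) := LinearEquiv.length_eq e2
  rw [h2, Module.length_eq_one, mul_one]

/-- the length over `R_m` of `R_m ⊗ V`, for `V` killed by the maximal ideal `m`, is the length of
`V` over `R` -/
theorem length_tensor_of_killed (V : Type u) [AddCommGroup V] [Module R V]
    (h : ∀ a ∈ m, ∀ v : V, a • v = 0) :
    Module.length (Localization.AtPrime m) (Localization.AtPrime m ⊗[R] V) =
      Module.length R V :=
  length_tensor_of_killed' R m (Localization.AtPrime m)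
    Localization.AtPrime.map_eq_maximalIdeal V h

/-- **the Bass numbers at a maximal ideal are the lengths of `Ext_R(R/m, M)`** -/
theorem bassNum_eq_length_ext (M : Type u) [AddCommGroup M] [Module R M] (j : ℕ) :
    bassNum m M j = Module.length R
      (Abelian.Ext.{u} (ModuleCat.of R (R ⧸ m)) (ModuleCat.of R M) j) := by
  obtain ⟨ε⟩ := Groth.Agent.Lib.helper19.BassInj.nonempty_ext_localization R m M j
  rw [← length_tensor_of_killed R m _ (fun a ha x => smul_ext_quot_eq_zero R m M a ha j x)]
  exact ε.length_eq.symm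

end Len

end Groth.Agent.Lib.helper26.GorB
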