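import Mathlib
import Groth.Prelude.Def_GrLC
import Groth.Prelude.Def_GrLC2
import Groth.Prelude.Def_CAlg
import Groth.Agent.Lib.Helper26.GorB2
import Groth.Agent.Lib.Helper26.GorS6

/-!
# The type of a Cohen–Macaulay graded ring over a field is the length of the socle of its top
local cohomology (helper26)
-/

set_option autoImplicit false
set_option linter.unusedSectionVars false
set_option linter.dupNamespace false
universe u

namespace Groth.Agent.Lib.helper26.GorB

open CategoryTheory GrLC RingTheory.Sequence Groth.Agent.Lib.helper26.GorS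

section Rees'

variable {R : Type u} [CommRing R] (K : Type u) [AddCommGroup K] [Module R K]

/-- Rees' lemma with the length of the sequence as a variable -/
theorem rees' (rs : List R) (c : ℕ) (hc : rs.length = c) (M : Type u) [AddCommGroup M] [Module R M]
    (hreg : IsWeaklyRegular M rs) (hK : ∀ r ∈ rs, ∀ k : K, r • k = 0) :
    Nonempty (Abelian.Ext.{u} (ModuleCat.of R K) (ModuleCat.of R M) c ≃ₗ[R]
      (K →ₗ[R] (M ⧸ (Ideal.ofList rs • ⊤ : Submodule R M)))) := by
  subst hc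
  exact (rees K rs M hreg hK).2

end Rees'

section TypeCM

variable {R : Type u} [CommRing R] (𝒜 : ℤ → AddSubgroup R) [GradedRing 𝒜]
  (hpos : ∀ n : ℤ, n < 0 → 𝒜 n = ⊥) (h0 : IsField (deg0 𝒜))
  (m : HomogeneousIdeal 𝒜)
  (hmsp : m.toIdeal = Ideal.span (⋃ n ∈ Set.Ioi (0 : ℤ), (𝒜 n : Set R)))

include hpos h0 hmsp in
/-- **the type of a Cohen–Macaulay graded ring defined over a field**: the top Bass number at the
irrelevant ideal is the length of the socle of the top local cohomology -/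
theorem bassNum_eq_length_soc [LocCoh.IsCohenMacaulayRing R] [m.toIdeal.IsMaximal] (n : ℕ)
    (hn : ringKrullDim R = n) (I : StarInjRes 𝒜 𝒜) :
    bassNum m.toIdeal R n = Module.length R (socSub m.toIdeal (I.H m n)) := by
  classical
  obtain ⟨d, hd, x, hx, hall⟩ := exists_regular_sop 𝒜 hpos h0 m hmsp n hn
  obtain ⟨hreg, N, hN⟩ := hall 1 Nat.one_pos
  set y : Fin n → R := fun i => x i ^ 1 with hy
  have hyd : ∀ i, y i ∈ 𝒜 (d : ℤ) := fun i => by rw [hy]; simpa using hx i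
  have hdpos : (0 : ℤ) < (d : ℤ) := by exact_mod_cast hd
  have hmem : ∀ p ∈ psOf y (d : ℤ), p.1 ∈ 𝒜 p.2 ∧ p.1 ∈ m.toIdeal := by
    intro p hp
    obtain ⟨i, rfl⟩ := mem_psOf hp
    exact ⟨hyd i, mem_toIdeal_of_mem 𝒜 m hmsp hdpos (hyd i)⟩
  have hregp : IsWeaklyRegular R ((psOf y (d : ℤ)).map Prod.fst) := by
    rw [psOf_map_fst]; exact hreg
  have hNp : m.toIdeal ^ N ≤ Ideal.ofList ((psOf y (d : ℤ)).map Prod.fst) := by
    rw [psOf_map_fst, ofList_ofFn]; exact hN
  obtain ⟨ι, hinj, -, hrange⟩ := exists_iota' 𝒜 m I (psOf y (d : ℤ)) n (psOf_length y _) hmem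
    hregp ⟨N, hNp⟩
  have hmemx : ∀ r ∈ (psOf y (d : ℤ)).map Prod.fst, r ∈ m.toIdeal := by
    intro r hr
    obtain ⟨p, hp, rfl⟩ := List.mem_map.mp hr
    exact (hmem p hp).2
  have hK : ∀ r ∈ (psOf y (d : ℤ)).map Prod.fst, ∀ k : R ⧸ m.toIdeal, r • k = 0 := by
    intro r hr k
    obtain ⟨z, rfl⟩ := Ideal.Quotient.mk_surjective k
    rw [Algebra.smul_def]
    have h1 : algebraMap R (R ⧸ m.toIdeal) r = 0 :=
      Ideal.Quotient.eq_zero_iff_mem.2 (hmemx r hr)
    rw [h1, zero_mul]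
  have hlen : ((psOf y (d : ℤ)).map Prod.fst).length = n := by
    rw [List.length_map, psOf_length]
  obtain ⟨e1⟩ := rees' (R ⧸ m.toIdeal) ((psOf y (d : ℤ)).map Prod.fst) n hlen R hregp hK
  rw [bassNum_eq_length_ext R m.toIdeal R n]
  have e2 := homQuotEquivSoc m.toIdeal
    (R ⧸ (Ideal.ofList ((psOf y (d : ℤ)).map Prod.fst) • ⊤ : Submodule R R))
  have e3 : socSub m.toIdeal
      (R ⧸ (Ideal.ofList ((psOf y (d : ℤ)).map Prod.fst) • ⊤ : Submodule R R)) ≃ₗ[R]
      socSub m.toIdeal (R ⧸ Ideal.ofList ((psOf y (d : ℤ)).map Prod.fst)) :=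
    socSubCongr m.toIdeal (Submodule.quotEquivOfEq _ _ (by rw [smul_eq_mul, Ideal.mul_top]))
  have e4 : socSub m.toIdeal (R ⧸ Ideal.ofList ((psOf y (d : ℤ)).map Prod.fst)) ≃ₗ[R]
      socSub m.toIdeal (I.H m n) :=
    socSubOfInjective m.toIdeal ι hinj
      (fun z hz => (hrange z).mpr (fun p hp => hz _ (hmem p hp).2))
  exact (e1.trans (e2.trans (e3.trans e4))).length_eq

end TypeCM

end Groth.Agent.Lib.helper26.GorB
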