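import Mathlib
import Groth.Prelude.Def_GrLC
import Groth.Prelude.Def_GrSeg
import Groth.Prelude.Def_CAlg
import Groth.Agent.Lib.Helper26.ExtCan8
import Groth.Agent.Lib.Helper26.GorB3
import Groth.Agent.Lib.Helper26.GorS1
import Groth.Agent.Lib.Helper24.SopFinite
import Groth.Agent.Lib.Helper19.FibreCone2

/-!
# `K_S ≅ Ext^t_R(S, K_R)` for graded rings defined over a field (helper26)

`canonical_ext_k` : `R` a Cohen–Macaulay graded `k`-algebra (`R_0 = k`), `S` a finite graded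
`R`-algebra (`S_0 = k`), `t = dim R - dim S`; then `K_S ≅ Ext^t_R(S, K_R)` as `R`-modules.
-/

set_option autoImplicit false
set_option linter.unusedSectionVars false
set_option linter.dupNamespace false
universe u

namespace Groth.Agent.Lib.helper26.ExtCan

open GrLC Groth.Agent.Lib.helper19.GrMod Groth.Agent.Lib.helper19.GrConv RingTheory.Sequence
  Groth.Agent.Lib.helper26.Seg Groth.Agent.Lib.helper26.Kun Groth.Agent.Lib.helper26.GorS
  Groth.Agent.Lib.helper26.GorSeg CategoryTheory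

attribute [local instance] gsmulAdd gsmulSelf

section Ker

variable {k : Type u} [Field k] {R S : Type u} [CommRing R] [CommRing S] [Algebra k R]
  [Algebra k S] [Algebra R S]
  (𝒜 : ℤ → Submodule k R) [GradedAlgebra 𝒜] (𝒜' : ℤ → Submodule k S) [GradedAlgebra 𝒜']
  (hf : ∀ j : ℤ, ∀ r ∈ 𝒜 j, algebraMap R S r ∈ 𝒜' j)

include hf in
/-- the kernel of a degree-preserving homomorphism is homogeneous -/
theorem ker_isHomogeneous : (RingHom.ker (algebraMap R S)).IsHomogeneous 𝒜 := by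
  intro g a ha
  rw [RingHom.mem_ker] at ha ⊢
  have h1 := map_decompose_eq_zero (addGr 𝒜) (addGr 𝒜') (algebraMap R S).toAddMonoidHom 0
    (fun g a ha => by rw [add_zero]; exact hf g a ha) (a := a) ha g
  rw [coe_decompose_addGr] at h1
  exact h1

end Ker

section MainK

variable {k : Type u} [Field k] {R : Type u} [CommRing R] [Algebra k R] [IsNoetherianRing R]
  [LocCoh.IsCohenMacaulayRing R]
  (𝒜 : ℤ → Submodule k R) [GradedAlgebra 𝒜]
  (hpos : ∀ n : ℤ, n < 0 → 𝒜 n = ⊥) (h0 : 𝒜 0 = Submodule.span k {(1 : R)})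
  (m : HomogeneousIdeal 𝒜) (hm : m.toIdeal = irr 𝒜)
  (n : ℕ) (hn : ringKrullDim R = n) (I : StarInjRes 𝒜 𝒜)
  {E' : Type u} [AddCommGroup E'] [Module R E'] (𝓔 : ℤ → AddSubgroup E')
  [DirectSum.Decomposition 𝓔] [SetLike.GradedSMul 𝒜 𝓔]
  (e : (R ⧸ m.toIdeal) →ₗ[R] E') (he : IsStarInjHull 𝒜 (quotGr 𝒜 m) 𝓔 e)
  {C : Type u} [AddCommGroup C] [Module R C] [Module k C] [IsScalarTower k R C]
  (𝒞 : ℤ → AddSubgroup C) [DirectSum.Decomposition 𝒞] [SetLike.GradedSMul 𝒜 𝒞]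
  (hC : IsStarCanonical 𝒜 𝒞 𝓔 m n I)
  {S : Type u} [CommRing S] [Algebra k S] [IsNoetherianRing S] [Algebra R S] [IsScalarTower k R S]
  [Module.Finite R S]
  (𝒜' : ℤ → Submodule k S) [GradedAlgebra 𝒜']
  (hf : ∀ j : ℤ, ∀ r ∈ 𝒜 j, algebraMap R S r ∈ 𝒜' j)
  (hpos' : ∀ n : ℤ, n < 0 → 𝒜' n = ⊥) (h0' : 𝒜' 0 = Submodule.span k {(1 : S)})
  (m' : HomogeneousIdeal 𝒜') (hm' : m'.toIdeal = irr 𝒜')
  (n' : ℕ) (hn' : ringKrullDim S = n') (I' : StarInjRes 𝒜' 𝒜')
  {E'' : Type u} [AddCommGroup E''] [Module S E''] (𝓔'' : ℤ → AddSubgroup E'')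
  [DirectSum.Decomposition 𝓔''] [SetLike.GradedSMul 𝒜' 𝓔'']
  (e' : (S ⧸ m'.toIdeal) →ₗ[S] E'') (he' : IsStarInjHull 𝒜' (quotGr 𝒜' m') 𝓔'' e')
  {C' : Type u} [AddCommGroup C'] [Module S C'] [Module R C'] [IsScalarTower R S C'] [Module k C']
  [IsScalarTower k S C']
  (𝒞' : ℤ → AddSubgroup C') [DirectSum.Decomposition 𝒞'] [SetLike.GradedSMul 𝒜' 𝒞']
  (hC' : IsStarCanonical 𝒜' 𝒞' 𝓔'' m' n' I')

include hpos h0 hm hn he hC hf hpos' h0' hm' hn' he' hC' in
/-- **`K_S ≅ Ext^t_R(S, K_R)`**, `t = dim R - dim S`, for a finite graded algebra `S` over a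
Cohen–Macaulay graded ring `R` defined over the same field -/
theorem canonical_ext_k :
    Nonempty (C' ≃ₗ[R] Abelian.Ext.{u} (ModuleCat.of R S) (ModuleCat.of R C) (n - n')) := by
  classical
  have hntR : Nontrivial R := by
    by_contra hne
    rw [not_nontrivial_iff_subsingleton] at hne
    rw [ringKrullDim_eq_bot_of_subsingleton] at hn
    exact absurd hn (WithBot.bot_ne_coe)
  have hntS : Nontrivial S := by
    by_contra hne
    rw [not_nontrivial_iff_subsingleton] at hne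
    rw [ringKrullDim_eq_bot_of_subsingleton] at hn'
    exact absurd hn' (WithBot.bot_ne_coe)
  haveI hFT : Algebra.FiniteType k R := finiteType_of_isNoetherianRing 𝒜 hpos h0
  -- `dim S ≤ dim R`
  have hint : (algebraMap R S).IsIntegral :=
    algebraMap_isIntegral_iff.2 (Algebra.IsIntegral.of_finite R S)
  have hn'n : n' ≤ n := by
    have h1 := Groth.Agent.Lib.Helper24.SopFinite.ringKrullDim_le_of_isIntegral
      (algebraMap R S) hint
    rw [hn, hn'] at h1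
    exact_mod_cast h1
  -- the kernel
  have h𝔞hom : (RingHom.ker (algebraMap R S)).IsHomogeneous 𝒜 := ker_isHomogeneous 𝒜 𝒜' hf
  have h𝔞ne : RingHom.ker (algebraMap R S) ≠ ⊤ := RingHom.ker_ne_top _
  have h𝔞le : RingHom.ker (algebraMap R S) ≤ irr 𝒜 :=
    le_irr_of_isHomogeneous 𝒜 hpos h0 _ h𝔞hom h𝔞ne
  have h𝔞dim : ringKrullDim (R ⧸ RingHom.ker (algebraMap R S)) ≤
      ((n - (n - n') : ℕ) : WithBot ℕ∞) := by
    have e1 : n - (n - n') = n' := by omega
    rw [e1, ← hn']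
    apply Groth.Agent.Lib.helper19.FibreCone.ringKrullDim_le_of_isIntegral_of_injective
      (RingHom.kerLift (algebraMap R S)) _ (RingHom.kerLift_injective _)
    have h2 : (RingHom.kerLift (algebraMap R S)).comp
        (Ideal.Quotient.mk (RingHom.ker (algebraMap R S))) = algebraMap R S := by
      ext; rfl
    exact RingHom.IsIntegral.tower_top (Ideal.Quotient.mk _) _ (by rw [h2]; exact hint)
  -- the regular sequence
  obtain ⟨ps, hlen, hps, hreg⟩ := exists_regular_list_mem 𝒜 hpos h0 n hn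
    (RingHom.ker (algebraMap R S)) h𝔞hom h𝔞le (n - n') (Nat.sub_le _ _) h𝔞dim
  have hps' : ∀ p ∈ ps, 0 < p.2 ∧ p.1 ∈ 𝒜 p.2 ∧ algebraMap R S p.1 = 0 := fun p hp =>
    ⟨(hps p hp).1, (hps p hp).2.1, (hps p hp).2.2⟩
  have hlen' : n' + ps.length = n := by omega
  let J : HomogeneousIdeal 𝒜 := ⟨Ideal.ofList (ps.map Prod.fst),
    ofList_isHomogeneous 𝒜 ps (fun p hp => (hps p hp).2.1)⟩
  obtain ⟨ε⟩ := exists_equiv_hom_quot 𝒜 hpos h0 m hm n hn I 𝓔 e he 𝒞 hC 𝒜' hf hpos' h0' m' hm' n'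
    hn' I' 𝓔'' e' he' 𝒞' hC' J ps rfl hlen' hps' hreg
  -- Rees
  have hregC : IsWeaklyRegular C (ps.map Prod.fst) :=
    isWeaklyRegular_canonical 𝒜 hpos h0 m hm n hn I 𝓔 e he 𝒞 hC ps (by omega)
      (fun p hp => ⟨(hps p hp).1, (hps p hp).2.1⟩) hreg
  obtain ⟨ρ⟩ := Groth.Agent.Lib.helper26.GorB.rees' S (ps.map Prod.fst) (n - n') (by rw [List.length_map, hlen]) C hregC
    (by
      intro r hr s
      obtain ⟨p, hp, rfl⟩ := List.mem_map.1 hr
      rw [Algebra.smul_def, (hps p hp).2.2, zero_mul])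
  exact ⟨ε.trans ρ.symm⟩

end MainK

end Groth.Agent.Lib.helper26.ExtCan
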