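import Mathlib
import Groth.Prelude.Def_W4c2filtblowupsingRees
import Groth.Prelude.Def_Rees2
import Groth.Agent.Lib.Helper19.GrConv

/-!
# The extended Rees algebra of a filtration: basic structure (helper26)

For a filtration `𝓕` of ideals of `A`:
* `u_isSMulRegular`: `u = T⁻¹` is a nonzerodivisor of the extended Rees algebra;
* `finiteType_extRees`: the extended Rees algebra is of finite type over `A` if the Rees algebra is;
* `resHom`: when `F 1 ≤ m` for an ideal `m`, the ring map `extRees → A/m`, `f ↦ f₀ mod m`; for `A`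
  local and `m` its maximal ideal, its kernel `maxIdeal` is a maximal ideal, and every element
  outside of it has invertible degree zero component (`isUnit_decompose_zero`).
-/

set_option autoImplicit false
set_option linter.unusedSectionVars false
universe u

open Polynomial LaurentPolynomial

namespace Groth.Agent.Lib.helper26.ExtRees

open FiltBl Groth.Agent.Lib.helper19.GrConv

variable {A : Type u} [CommRing A] (𝓕 : FiltBl.IdealFiltration A)

theorem mem_extRees_iff (f : A[T;T⁻¹]) : f ∈ 𝓕.extRees ↔ ∀ n : ℤ, f.coeff n ∈ 𝓕.F n.toNat := Iff.rfl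

theorem mem_rees_iff (f : A[X]) : f ∈ 𝓕.rees ↔ ∀ n : ℕ, f.coeff n ∈ 𝓕.F n := Iff.rfl

/-- `u = T⁻¹` is a nonzerodivisor -/
theorem u_isSMulRegular : IsSMulRegular 𝓕.extRees 𝓕.u := by
  intro a b hab
  have h1 : ((𝓕.u • a : 𝓕.extRees) : A[T;T⁻¹]) = ((𝓕.u • b : 𝓕.extRees) : A[T;T⁻¹]) :=
    congrArg Subtype.val hab
  rw [smul_eq_mul, smul_eq_mul, Subalgebra.coe_mul, Subalgebra.coe_mul] at h1
  have h2 : ((𝓕.u : 𝓕.extRees) : A[T;T⁻¹]) = T (-1) := rfl
  rw [h2] at h1
  exact Subtype.ext ((LaurentPolynomial.isUnit_T (-1)).mul_left_cancel h1)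

theorem single_mem_extRees {n : ℤ} {a : A} (ha : a ∈ 𝓕.F n.toNat) :
    (AddMonoidAlgebra.single n a : A[T;T⁻¹]) ∈ 𝓕.extRees := by
  classical
  intro m
  rw [AddMonoidAlgebra.coeff_single, Finsupp.single_apply]
  split_ifs with h
  · subst h; exact ha
  · exact Ideal.zero_mem _

theorem coeff_toLaurent_eq (p : A[X]) (n : ℤ) :
    (toLaurent p).coeff n = if 0 ≤ n then p.coeff n.toNat else 0 := by
  classical
  induction p using Polynomial.induction_on' with
  | add p q hp hq =>
    rw [map_add, AddMonoidAlgebra.coeff_add, Finsupp.add_apply, hp, hq, Polynomial.coeff_add]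
    split_ifs <;> simp
  | monomial k a =>
    rw [← Polynomial.C_mul_X_pow_eq_monomial, Polynomial.toLaurent_C_mul_X_pow,
      ← LaurentPolynomial.single_eq_C_mul_T, AddMonoidAlgebra.coeff_single, Finsupp.single_apply,
      Polynomial.coeff_C_mul_X_pow]
    by_cases h0 : 0 ≤ n
    · rw [if_pos h0]
      by_cases h : (k : ℤ) = n
      · rw [if_pos h, if_pos (by omega)]
      · rw [if_neg h, if_neg (by omega)]
    · rw [if_neg h0, if_neg (by omega)]

theorem toLaurent_mem_extRees {p : A[X]} (hp : p ∈ 𝓕.rees) : toLaurent p ∈ 𝓕.extRees := by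
  intro n
  rw [coeff_toLaurent_eq]
  split_ifs with h
  · exact hp n.toNat
  · exact Ideal.zero_mem _

/-- the extended Rees algebra is generated by the image of the Rees algebra and `T⁻¹` -/
theorem extRees_eq_adjoin (t : Set A[X]) (ht : Algebra.adjoin A t = 𝓕.rees) :
    𝓕.extRees = Algebra.adjoin A ((toLaurentAlg : A[X] →ₐ[A] A[T;T⁻¹]) '' t ∪ {T (-1)}) := by
  classical
  apply le_antisymm
  · intro f hf
    have hsum : f = ∑ n ∈ f.coeff.support, AddMonoidAlgebra.single n (f.coeff n) := by
      conv_lhs => rw [← AddMonoidAlgebra.sum_coeff_single f]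
      rfl
    rw [hsum]
    refine Subalgebra.sum_mem _ fun n _ => ?_
    have hn : f.coeff n ∈ 𝓕.F n.toNat := hf n
    by_cases h0 : 0 ≤ n
    · have h1 : Polynomial.monomial n.toNat (f.coeff n) ∈ 𝓕.rees := by
        intro m
        rw [Polynomial.coeff_monomial]
        split_ifs with h
        · subst h; exact hn
        · exact Ideal.zero_mem _
      rw [← ht] at h1
      have h2 : (toLaurentAlg : A[X] →ₐ[A] A[T;T⁻¹]) (Polynomial.monomial n.toNat (f.coeff n)) ∈
          (Algebra.adjoin A t).map (toLaurentAlg : A[X] →ₐ[A] A[T;T⁻¹]) :=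
        ⟨_, h1, rfl⟩
      rw [AlgHom.map_adjoin] at h2
      have h3 : (toLaurentAlg : A[X] →ₐ[A] A[T;T⁻¹]) (Polynomial.monomial n.toNat (f.coeff n)) =
          AddMonoidAlgebra.single n (f.coeff n) := by
        rw [Polynomial.toLaurentAlg_apply, ← Polynomial.C_mul_X_pow_eq_monomial,
          Polynomial.toLaurent_C_mul_X_pow, ← LaurentPolynomial.single_eq_C_mul_T,
          Int.toNat_of_nonneg h0]
      rw [← h3]
      exact Algebra.adjoin_mono Set.subset_union_left h2
    · have h1 : (AddMonoidAlgebra.single n (f.coeff n) : A[T;T⁻¹]) =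
          f.coeff n • (T (-1) : A[T;T⁻¹]) ^ (-n).toNat := by
        rw [LaurentPolynomial.T_pow, LaurentPolynomial.single_eq_C_mul_T,
          LaurentPolynomial.smul_eq_C_mul]
        congr 2
        rw [Int.toNat_of_nonneg (by omega)]
        ring
      rw [h1]
      refine Subalgebra.smul_mem _ (Subalgebra.pow_mem _ ?_ _) _
      exact Algebra.subset_adjoin (Set.mem_union_right _ rfl)
  · rw [Algebra.adjoin_le_iff]
    rintro x (⟨p, hp, rfl⟩ | hx)
    · rw [Polynomial.toLaurentAlg_apply]
      refine toLaurent_mem_extRees 𝓕 ?_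
      rw [← ht]
      exact Algebra.subset_adjoin hp
    · rw [Set.mem_singleton_iff] at hx
      rw [hx]
      exact 𝓕.u.2

/-- finite generation of the extended Rees algebra from that of the Rees algebra -/
theorem finiteType_extRees (h : Algebra.FiniteType A 𝓕.rees) : Algebra.FiniteType A 𝓕.extRees := by
  classical
  rw [← Subalgebra.fg_iff_finiteType] at h ⊢
  obtain ⟨t, ht⟩ := h
  refine ⟨t.image (toLaurentAlg : A[X] →ₐ[A] A[T;T⁻¹]) ∪ {T (-1)}, ?_⟩
  rw [extRees_eq_adjoin 𝓕 (t : Set A[X]) ht]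
  congr 1
  push_cast
  rfl

theorem isNoetherianRing_extRees [IsNoetherianRing A] (h : Algebra.FiniteType A 𝓕.rees) :
    IsNoetherianRing 𝓕.extRees :=
  haveI := finiteType_extRees 𝓕 h
  Algebra.FiniteType.isNoetherianRing A 𝓕.extRees

end Groth.Agent.Lib.helper26.ExtRees
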