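import Mathlib
import Groth.Agent.Lib.Helper26.ExtRees3

/-!
# The extended Rees algebra of a filtration: the homogeneous maximal ideal (helper26)

When `F 1 ≤ m` for an ideal `m`: the ring map `resHom : extRees → A/m`, `f ↦ f₀ mod m`.  For `A`
local and `m` its maximal ideal, its kernel `maxIdeal` is a maximal ideal containing `u`, and every
element outside of it has invertible degree zero component (`isUnit_decompose_zero`).
-/

set_option autoImplicit false
set_option linter.unusedSectionVars false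
universe u

open Polynomial LaurentPolynomial

namespace Groth.Agent.Lib.helper26.ExtRees

open FiltBl Groth.Agent.Lib.helper19.GrConv

variable {A : Type u} [CommRing A] (𝓕 : FiltBl.IdealFiltration A)

section Res

variable (m : Ideal A) (hm : 𝓕.F 1 ≤ m)

include hm in
theorem F_le_of_pos {n : ℕ} (hn : 0 < n) : 𝓕.F n ≤ m :=
  (𝓕.antitone (Nat.succ_le_of_lt hn)).trans hm

include hm in
theorem mk_coeff_mul (f g : 𝓕.extRees) :
    Ideal.Quotient.mk m (((f * g : 𝓕.extRees) : A[T;T⁻¹]).coeff 0) =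
      Ideal.Quotient.mk m ((f : A[T;T⁻¹]).coeff 0) * Ideal.Quotient.mk m ((g : A[T;T⁻¹]).coeff 0) := by
  classical
  rw [Subalgebra.coe_mul, AddMonoidAlgebra.coeff_mul_apply_left, Finsupp.sum, map_sum]
  have hterm : ∀ h ∈ (f : A[T;T⁻¹]).coeff.support,
      Ideal.Quotient.mk m ((f : A[T;T⁻¹]).coeff h * (g : A[T;T⁻¹]).coeff (-h + 0)) =
        if h = 0 then Ideal.Quotient.mk m ((f : A[T;T⁻¹]).coeff 0) *
          Ideal.Quotient.mk m ((g : A[T;T⁻¹]).coeff 0) else 0 := by
    intro h _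
    by_cases h0 : h = 0
    · subst h0
      rw [if_pos rfl, map_mul]
      simp
    · rw [if_neg h0, Ideal.Quotient.eq_zero_iff_mem]
      rcases lt_or_gt_of_ne h0 with hneg | hpos
      · refine Ideal.mul_mem_left _ _ ?_
        have h1 := g.2 (-h + 0)
        exact F_le_of_pos 𝓕 m hm (by omega) h1
      · refine Ideal.mul_mem_right _ _ ?_
        have h1 := f.2 h
        exact F_le_of_pos 𝓕 m hm (by omega) h1
  rw [Finset.sum_congr rfl hterm, Finset.sum_ite_eq']
  split_ifs with h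
  · rfl
  · rw [Finsupp.mem_support_iff, not_not] at h
    rw [h, map_zero, zero_mul]

/-- the ring map `extRees → A/m`, `f ↦ f₀ mod m` -/
noncomputable def resHom : 𝓕.extRees →+* A ⧸ m where
  toFun f := Ideal.Quotient.mk m ((f : A[T;T⁻¹]).coeff 0)
  map_one' := by
    rw [Subalgebra.coe_one, ← LaurentPolynomial.T_zero, LaurentPolynomial.T_apply, if_pos rfl,
      map_one]
  map_mul' f g := mk_coeff_mul 𝓕 m hm f g
  map_zero' := by
    rw [Subalgebra.coe_zero, AddMonoidAlgebra.coeff_zero, Finsupp.zero_apply, map_zero]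
  map_add' f g := by
    rw [Subalgebra.coe_add, AddMonoidAlgebra.coeff_add, Finsupp.add_apply, map_add]

theorem resHom_apply (f : 𝓕.extRees) :
    resHom 𝓕 m hm f = Ideal.Quotient.mk m ((f : A[T;T⁻¹]).coeff 0) := rfl

theorem resHom_algebraMap (a : A) : resHom 𝓕 m hm (algebraMap A 𝓕.extRees a) =
    Ideal.Quotient.mk m a := by
  rw [resHom_apply]
  congr 1
  show (algebraMap A A[T;T⁻¹] a).coeff 0 = a
  rw [LaurentPolynomial.algebraMap_apply, Algebra.algebraMap_self, RingHom.id_apply,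
    LaurentPolynomial.C_apply, if_pos rfl]

theorem resHom_surjective : Function.Surjective (resHom 𝓕 m hm) := by
  intro y
  obtain ⟨a, rfl⟩ := Ideal.Quotient.mk_surjective y
  exact ⟨algebraMap A 𝓕.extRees a, resHom_algebraMap 𝓕 m hm a⟩

/-- the kernel of `resHom` -/
noncomputable def maxIdeal : Ideal 𝓕.extRees := RingHom.ker (resHom 𝓕 m hm)

theorem mem_maxIdeal_iff (f : 𝓕.extRees) :
    f ∈ maxIdeal 𝓕 m hm ↔ (f : A[T;T⁻¹]).coeff 0 ∈ m := by
  unfold maxIdeal
  rw [RingHom.mem_ker, resHom_apply, Ideal.Quotient.eq_zero_iff_mem]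

theorem maxIdeal_isMaximal [hmax : m.IsMaximal] : (maxIdeal 𝓕 m hm).IsMaximal := by
  have e := RingHom.quotientKerEquivOfSurjective (resHom_surjective 𝓕 m hm)
  have hF : IsField (A ⧸ m) := (Ideal.Quotient.maximal_ideal_iff_isField_quotient m).1 hmax
  exact (Ideal.Quotient.maximal_ideal_iff_isField_quotient _).2 (e.toMulEquiv.isField hF)

theorem u_mem_maxIdeal : 𝓕.u ∈ maxIdeal 𝓕 m hm := by
  rw [mem_maxIdeal_iff]
  have h2 : ((𝓕.u : 𝓕.extRees) : A[T;T⁻¹]) = T (-1) := rfl
  rw [h2, LaurentPolynomial.T_apply, if_neg (by omega)]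
  exact zero_mem _

end Res

section Grading

/-- the `ℤ`-grading of the extended Rees algebra, by additive subgroups -/
noncomputable abbrev gr : ℤ → AddSubgroup 𝓕.extRees := addGr (Rees.ldeg 𝓕.extRees)

theorem coe_decompose_ldeg (f : 𝓕.extRees) (n : ℤ) :
    (((DirectSum.decompose (Rees.ldeg 𝓕.extRees) f n : Rees.ldeg 𝓕.extRees n) : 𝓕.extRees) :
      A[T;T⁻¹]) = AddMonoidAlgebra.single n ((f : A[T;T⁻¹]).coeff n) := by
  classical
  have h1 : DirectSum.decompose (Rees.ldeg 𝓕.extRees) f = Rees.ldecompLin 𝓕.extRees f := rfl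
  rw [h1, Rees.ldecompLin_apply, Rees.ldecompAux, DFinsupp.finsetSum_apply]
  simp only [DirectSum.lof_eq_of]
  rw [AddSubmonoidClass.coe_finsetSum, AddSubmonoidClass.coe_finsetSum]
  rw [Finset.sum_eq_single n]
  · rw [DirectSum.of_eq_same, Rees.coe_coe_lcomp]
  · intro b _ hb
    rw [DirectSum.of_eq_of_ne _ _ _ hb.symm]
    rfl
  · intro hn
    rw [Finsupp.mem_support_iff, not_not] at hn
    rw [DirectSum.of_eq_same, Rees.coe_coe_lcomp, hn, AddMonoidAlgebra.single_zero]

variable [IsLocalRing A] (hm : 𝓕.F 1 ≤ IsLocalRing.maximalIdeal A)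

theorem isUnit_decompose_zero (s : 𝓕.extRees)
    (hs : s ∉ maxIdeal 𝓕 (IsLocalRing.maximalIdeal A) hm) :
    IsUnit ((DirectSum.decompose (gr 𝓕) s 0 : gr 𝓕 0) : 𝓕.extRees) := by
  rw [mem_maxIdeal_iff] at hs
  have hunit : IsUnit ((s : A[T;T⁻¹]).coeff 0) := by
    by_contra h
    exact hs ((IsLocalRing.mem_maximalIdeal _).2 h)
  have h1 : ((DirectSum.decompose (gr 𝓕) s 0 : gr 𝓕 0) : 𝓕.extRees) =
      algebraMap A 𝓕.extRees ((s : A[T;T⁻¹]).coeff 0) := by
    rw [coe_decompose_addGr]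
    apply Subtype.ext
    rw [coe_decompose_ldeg]
    show _ = algebraMap A A[T;T⁻¹] _
    rw [LaurentPolynomial.algebraMap_apply, Algebra.algebraMap_self, RingHom.id_apply]
    rfl
  rw [h1]
  exact hunit.map _

end Grading

end Groth.Agent.Lib.helper26.ExtRees
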