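import Mathlib
import Groth.Agent.Lib.Helper26.ExtRees1
import Groth.Agent.Lib.Helper26.ExtRees2
import Groth.Agent.Lib.Helper26.ExtRees4

/-!
# Extended Rees algebra versus associated graded ring: Gorenstein and Cohen–Macaulay (helper26)

`A` Noetherian local, `𝓕` a separated filtration with finitely generated Rees algebra.  Then the
extended Rees algebra `R'` is Gorenstein (Cohen–Macaulay) iff `G = R'/uR'` is.
-/

set_option autoImplicit false
set_option linter.unusedSectionVars false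
universe u

open Polynomial LaurentPolynomial LocCoh

namespace Groth.Agent.Lib.helper26.ExtRees

open FiltBl Groth.Agent.Lib.helper19.GrConv

variable {A : Type u} [CommRing A] [IsNoetherianRing A] [IsLocalRing A]
  (𝓕 : FiltBl.IdealFiltration A)

theorem F_one_le (hsep : ⨅ n, 𝓕.F n = ⊥) : 𝓕.F 1 ≤ IsLocalRing.maximalIdeal A := by
  by_contra h
  have h1 : 𝓕.F 1 = ⊤ := by
    by_contra h2
    exact h (IsLocalRing.le_maximalIdeal h2)
  have hall : ∀ n, 𝓕.F n = ⊤ := by
    intro n
    induction n with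
    | zero => exact 𝓕.zero_eq
    | succ n ih =>
      have := 𝓕.mul_le n 1
      rw [ih, h1, Ideal.top_mul] at this
      exact top_le_iff.mp this
  have : (⨅ n, 𝓕.F n) = ⊤ := by
    rw [iInf_eq_top]
    exact hall
  rw [hsep] at this
  exact bot_ne_top this

variable (hsep : ⨅ n, 𝓕.F n = ⊥) (hfg : Algebra.FiniteType A 𝓕.rees)

/-- the homogeneous maximal ideal of the extended Rees algebra -/
noncomputable abbrev MM : Ideal 𝓕.extRees :=
  maxIdeal 𝓕 (IsLocalRing.maximalIdeal A) (F_one_le 𝓕 hsep)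

instance : (MM 𝓕 hsep).IsMaximal := maxIdeal_isMaximal 𝓕 _ _

theorem span_u_le : Ideal.span {𝓕.u} ≤ MM 𝓕 hsep := by
  rw [Ideal.span_le, Set.singleton_subset_iff]
  exact u_mem_maxIdeal 𝓕 _ _

variable {G : Type u} [CommRing G] (φ : 𝓕.extRees →+* G) (hφ : Function.Surjective φ)
  (hker : RingHom.ker φ = Ideal.span {𝓕.u})

include hφ hker in
theorem comap_map_MM : ((MM 𝓕 hsep).map φ).comap φ = MM 𝓕 hsep := by
  rw [Ideal.comap_map_of_surjective _ hφ, ← RingHom.ker_eq_comap_bot, hker, sup_eq_left]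
  exact span_u_le 𝓕 hsep

include hφ hker in
theorem map_MM_isPrime : ((MM 𝓕 hsep).map φ).IsPrime := by
  refine Ideal.map_isPrime_of_surjective hφ ?_
  rw [hker]
  exact span_u_le 𝓕 hsep

include hfg hsep hφ hker in
theorem gor_iff : IsGorensteinRing 𝓕.extRees ↔ IsGorensteinRing G := by
  have hN : IsNoetherianRing 𝓕.extRees := isNoetherianRing_extRees 𝓕 hfg
  constructor
  · intro h
    exact isGorensteinRing_of_surjective φ hφ 𝓕.u hker (u_isSMulRegular 𝓕)
  · intro h
    haveI := map_MM_isPrime 𝓕 hsep φ hφ hker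
    have h1 : IsGorensteinLocalRing (Localization.AtPrime ((MM 𝓕 hsep).map φ)) :=
      h.isGorensteinLocalRing_localization _
    have h2 : IsGorensteinLocalRing (Localization.AtPrime (MM 𝓕 hsep)) :=
      (gorLocal_quot_iff φ hφ 𝓕.u hker (MM 𝓕 hsep) ((MM 𝓕 hsep).map φ)
        (comap_map_MM 𝓕 hsep φ hφ hker) (u_isSMulRegular 𝓕)).2 h1
    have hU := isUnit_decompose_zero 𝓕 (F_one_le 𝓕 hsep)
    have := @Groth.Agent.Lib.helper26.GorS.isGorensteinRing_of_localization 𝓕.extRees _ _ (gr 𝓕) _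
      (MM 𝓕 hsep) _
    exact this hU h2

include hfg hsep hφ hker in
theorem cm_iff : IsCohenMacaulayRing 𝓕.extRees ↔ IsCohenMacaulayRing G := by
  have hN : IsNoetherianRing 𝓕.extRees := isNoetherianRing_extRees 𝓕 hfg
  constructor
  · intro h
    exact isCohenMacaulayRing_of_surjective φ hφ 𝓕.u hker (u_isSMulRegular 𝓕)
  · intro h
    haveI := map_MM_isPrime 𝓕 hsep φ hφ hker
    have h1 : IsCohenMacaulayLocalRing (Localization.AtPrime ((MM 𝓕 hsep).map φ)) :=
      h.isCohenMacaulayLocalRing_localization _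
    have h2 : IsCohenMacaulayLocalRing (Localization.AtPrime (MM 𝓕 hsep)) :=
      (cmLocal_quot_iff φ hφ 𝓕.u hker (MM 𝓕 hsep) ((MM 𝓕 hsep).map φ)
        (comap_map_MM 𝓕 hsep φ hφ hker) (u_isSMulRegular 𝓕)).2 h1
    have hU := isUnit_decompose_zero 𝓕 (F_one_le 𝓕 hsep)
    have := @isCohenMacaulayRing_of_localization 𝓕.extRees _ _ (gr 𝓕) _ (MM 𝓕 hsep) _
    exact this hU h2

end Groth.Agent.Lib.helper26.ExtRees
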