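import Mathlib
import Groth.Agent.Lib.Helper26.ExtRees4

/-!
# The extended Rees algebra: inverting `u` gives the Laurent polynomial ring (helper26)
-/

set_option autoImplicit false
set_option linter.unusedSectionVars false
universe u

open Polynomial LaurentPolynomial

namespace Groth.Agent.Lib.helper26.ExtRees

open FiltBl

variable {A : Type u} [CommRing A] (𝓕 : FiltBl.IdealFiltration A)

theorem coeff_mul_T (f : A[T;T⁻¹]) (k m : ℤ) : (f * T k).coeff m = f.coeff (m - k) := by
  have h : (T k : A[T;T⁻¹]) = AddMonoidAlgebra.single k 1 := rfl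
  rw [h, AddMonoidAlgebra.coeff_mul_single_apply, mul_one, sub_eq_add_neg]

theorem exists_mul_T_neg_mem (f : A[T;T⁻¹]) : ∃ n : ℕ, f * T (-(n : ℤ)) ∈ 𝓕.extRees := by
  classical
  refine ⟨f.coeff.support.sup (fun m => m.toNat), fun m => ?_⟩
  rw [coeff_mul_T]
  by_cases hm : 0 < m
  · have : f.coeff (m - -((f.coeff.support.sup (fun m => m.toNat) : ℕ) : ℤ)) = 0 := by
      by_contra hne
      have hmem : (m - -((f.coeff.support.sup (fun m => m.toNat) : ℕ) : ℤ)) ∈ f.coeff.support :=
        Finsupp.mem_support_iff.mpr hne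
      have hle := Finset.le_sup (f := fun m : ℤ => m.toNat) hmem
      omega
    rw [this]
    exact Ideal.zero_mem _
  · have h0 : m.toNat = 0 := by omega
    rw [h0, 𝓕.zero_eq]
    exact Submodule.mem_top

theorem algebraMap_u : algebraMap 𝓕.extRees A[T;T⁻¹] 𝓕.u = T (-1) := rfl

/-- `R'[u⁻¹] = A[T, T⁻¹]` -/
instance isLocalization_away : IsLocalization.Away 𝓕.u A[T;T⁻¹] := by
  refine IsLocalization.Away.mk 𝓕.u ?_ ?_ ?_
  · rw [algebraMap_u]
    exact LaurentPolynomial.isUnit_T (-1)
  · intro s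
    obtain ⟨n, hn⟩ := exists_mul_T_neg_mem 𝓕 s
    refine ⟨n, ⟨_, hn⟩, ?_⟩
    rw [algebraMap_u, LaurentPolynomial.T_pow]
    show _ = s * T (-(n : ℤ))
    congr 2
    ring
  · intro a b hab
    refine ⟨0, ?_⟩
    rw [pow_zero, one_mul, one_mul]
    exact Subtype.ext hab

end Groth.Agent.Lib.helper26.ExtRees
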