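import Mathlib
import Groth.Agent.Lib.Helper26.ExtRees5
import Groth.Agent.Lib.Helper26.ExtRees6
import Groth.Agent.Lib.Helper26.ExtRees8

/-!
# Extended Rees algebra: `(S_2)`, and Cohen–Macaulayness off the positive part (helper26)
-/

set_option autoImplicit false
set_option linter.unusedSectionVars false
universe u

open Polynomial LaurentPolynomial LocCoh

namespace Groth.Agent.Lib.helper26.ExtRees

open FiltBl Groth.Agent.Lib.Helper24.HensDepth

variable {A : Type u} [CommRing A] [IsNoetherianRing A] (𝓕 : FiltBl.IdealFiltration A)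

section Away

/-- primes of `R'` not containing `u` and primes of `A[T, T⁻¹]` -/
theorem disjoint_powers_u (P : Ideal 𝓕.extRees) [hP : P.IsPrime] (hu : 𝓕.u ∉ P) :
    Disjoint ((Submonoid.powers 𝓕.u : Submonoid 𝓕.extRees) : Set 𝓕.extRees) (P : Set 𝓕.extRees) := by
  rw [Set.disjoint_left]
  rintro x ⟨n, rfl⟩ hx
  exact hu (hP.mem_of_pow_mem n hx)

theorem u_notMem_comap (Q : Ideal A[T;T⁻¹]) [hQ : Q.IsPrime] :
    𝓕.u ∉ Q.comap (algebraMap 𝓕.extRees A[T;T⁻¹]) := by
  intro h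
  rw [Ideal.mem_comap, algebraMap_u] at h
  exact hQ.ne_top (Ideal.eq_top_of_isUnit_mem _ h (LaurentPolynomial.isUnit_T (-1)))

/-- `R'_P ≃ A[T, T⁻¹]_Q` for `P = Q ∩ R'` -/
theorem nonempty_equiv_of_comap (P : Ideal 𝓕.extRees) [P.IsPrime] (Q : Ideal A[T;T⁻¹]) [Q.IsPrime]
    (hPQ : Q.comap (algebraMap 𝓕.extRees A[T;T⁻¹]) = P) :
    Nonempty (Localization.AtPrime P ≃+* Localization.AtPrime Q) :=
  nonempty_locEquiv' (Submonoid.powers 𝓕.u) P Q hPQ

end Away

section SkTwo

variable [IsLocalRing A] (hfg : Algebra.FiniteType A 𝓕.rees)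
  {G : Type u} [CommRing G] (φ : 𝓕.extRees →+* G) (hφ : Function.Surjective φ)
  (hker : RingHom.ker φ = Ideal.span {𝓕.u})

include hfg hφ hker in
theorem hasSk_two_iff :
    HasSk 2 𝓕.extRees 𝓕.extRees ↔ (HasSk 1 G G ∧ HasSk 2 A A) := by
  have hN : IsNoetherianRing 𝓕.extRees := isNoetherianRing_extRees 𝓕 hfg
  have hNG : IsNoetherianRing G := isNoetherianRing_of_surjective _ _ φ hφ
  rw [hasSk_iff_skAt, hasSk_iff_skAt]
  constructor
  · intro h
    refine ⟨?_, ?_⟩
    · intro q hq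
      haveI : (q.comap φ).IsPrime := Ideal.comap_isPrime φ q
      exact (skAt_quot_iff φ hφ 𝓕.u hker (q.comap φ) q rfl (u_isSMulRegular 𝓕) 1).1 (h _)
    · refine hasSk_of_laurent A 2 ?_
      rw [hasSk_iff_skAt]
      intro Q hQ
      haveI : (Q.comap (algebraMap 𝓕.extRees A[T;T⁻¹])).IsPrime := Ideal.comap_isPrime _ Q
      obtain ⟨e⟩ := nonempty_equiv_of_comap 𝓕 _ Q rfl
      exact skAt_of_ringEquiv 2 _ Q e (h _)
  · rintro ⟨hG, hA⟩ P hP
    by_cases hu : 𝓕.u ∈ P
    · have hle : RingHom.ker φ ≤ P := by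
        rw [hker, Ideal.span_le, Set.singleton_subset_iff]
        exact hu
      haveI : (P.map φ).IsPrime := Ideal.map_isPrime_of_surjective hφ hle
      have hc : (P.map φ).comap φ = P := by
        rw [Ideal.comap_map_of_surjective _ hφ, ← RingHom.ker_eq_comap_bot, sup_eq_left]
        exact hle
      exact (skAt_quot_iff φ hφ 𝓕.u hker P (P.map φ) hc (u_isSMulRegular 𝓕) 1).2 (hG _)
    · have hd := disjoint_powers_u 𝓕 P hu
      haveI : (P.map (algebraMap 𝓕.extRees A[T;T⁻¹])).IsPrime :=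
        map_isPrime_of_disjoint (Submonoid.powers 𝓕.u) P hd
      have hc := comap_map_of_disjoint (C := A[T;T⁻¹]) (Submonoid.powers 𝓕.u) P hd
      obtain ⟨e⟩ := nonempty_equiv_of_comap 𝓕 P _ hc
      have hB := hasSk_laurent A 2 hA
      rw [hasSk_iff_skAt] at hB
      exact skAt_of_ringEquiv 2 _ P e.symm (hB _)

end SkTwo

end Groth.Agent.Lib.helper26.ExtRees
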