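import Mathlib
import Groth.Agent.Lib.Helper26.ExtRees9

/-!
# Extended Rees algebra: Cohen–Macaulayness off the positive part (helper26)
-/

set_option autoImplicit false
set_option linter.unusedSectionVars false
universe u

open Polynomial LaurentPolynomial LocCoh

namespace Groth.Agent.Lib.helper26.ExtRees

open FiltBl Groth.Agent.Lib.Helper24.HensDepth

variable {A : Type u} [CommRing A] [IsNoetherianRing A] [Nontrivial A]
  (𝓕 : FiltBl.IdealFiltration A)
  (hfg : Algebra.FiniteType A 𝓕.rees)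
  {G : Type u} [CommRing G] (φ : 𝓕.extRees →+* G) (hφ : Function.Surjective φ)
  (hker : RingHom.ker φ = Ideal.span {𝓕.u}) (Rp : Ideal 𝓕.extRees)
  (hRp : Rp = Ideal.span {x : 𝓕.extRees | ∃ n : ℕ, 0 < n ∧ ∃ a ∈ 𝓕.F n,
    (x : LaurentPolynomial A) = LaurentPolynomial.C a * LaurentPolynomial.T (n : ℤ)})

theorem algebraMap_laurent (a : A) : algebraMap A A[T;T⁻¹] a = LaurentPolynomial.C a := by
  rw [LaurentPolynomial.algebraMap_apply, Algebra.algebraMap_self, RingHom.id_apply]

include hfg hφ hker hRp in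
theorem cm_off_iff :
    (∀ (P : Ideal 𝓕.extRees) [P.IsPrime], ¬ Rp ≤ P →
        IsCohenMacaulayLocalRing (Localization.AtPrime P)) ↔
      ((∀ (p : Ideal G) [p.IsPrime], ¬ Ideal.map φ Rp ≤ p →
          IsCohenMacaulayLocalRing (Localization.AtPrime p)) ∧
        (∀ (q : Ideal A) [q.IsPrime], ¬ 𝓕.F 1 ≤ q →
            IsCohenMacaulayLocalRing (Localization.AtPrime q))) := by
  have hN : IsNoetherianRing 𝓕.extRees := isNoetherianRing_extRees 𝓕 hfg
  constructor
  · intro h
    refine ⟨?_, ?_⟩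
    · intro p hp hnot
      haveI : (p.comap φ).IsPrime := Ideal.comap_isPrime φ p
      have h1 : ¬ Rp ≤ p.comap φ := fun hle => hnot (Ideal.map_le_iff_le_comap.2 hle)
      exact (cmLocal_quot_iff φ hφ 𝓕.u hker (p.comap φ) p rfl (u_isSMulRegular 𝓕)).1 (h _ h1)
    · intro q hq hnot
      obtain ⟨Q, hQ, hlies⟩ := Ideal.exists_isPrime_liesOver_of_faithfullyFlat (B := A[T;T⁻¹]) q
      haveI : (Q.comap (algebraMap 𝓕.extRees A[T;T⁻¹])).IsPrime := Ideal.comap_isPrime _ Q
      obtain ⟨e⟩ := nonempty_equiv_of_comap 𝓕 _ Q rfl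
      have h1 : ¬ Rp ≤ Q.comap (algebraMap 𝓕.extRees A[T;T⁻¹]) := by
        intro hle
        apply hnot
        intro a ha
        have hx : (LaurentPolynomial.C a * LaurentPolynomial.T ((1 : ℕ) : ℤ) : A[T;T⁻¹]) ∈
            𝓕.extRees := by
          rw [← LaurentPolynomial.single_eq_C_mul_T]
          exact single_mem_extRees 𝓕 (by simpa using ha)
        have hmem : (⟨_, hx⟩ : 𝓕.extRees) ∈ Rp := by
          rw [hRp]
          exact Ideal.subset_span ⟨1, Nat.one_pos, a, ha, rfl⟩
        have h2 := hle hmem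
        rw [Ideal.mem_comap] at h2
        have h3 : (LaurentPolynomial.C a * LaurentPolynomial.T ((1 : ℕ) : ℤ) : A[T;T⁻¹]) ∈ Q := h2
        have h4 : (LaurentPolynomial.C a : A[T;T⁻¹]) ∈ Q := by
          have := Ideal.mul_mem_right (LaurentPolynomial.T (-((1 : ℕ) : ℤ)) : A[T;T⁻¹]) Q h3
          rwa [mul_assoc, ← LaurentPolynomial.T_add, add_neg_cancel, LaurentPolynomial.T_zero,
            mul_one] at this
        rw [hlies.over, Ideal.mem_comap, algebraMap_laurent]
        exact h4
      have h2 : IsCohenMacaulayLocalRing (Localization.AtPrime Q) :=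
        Groth.Agent.S9808.cm_of_ringEquiv (h := h _ h1) e
      exact (cm_laurent_atPrime_iff A q Q).1 h2
  · rintro ⟨hG, hA⟩ P hP hnot
    by_cases hu : 𝓕.u ∈ P
    · have hle : RingHom.ker φ ≤ P := by
        rw [hker, Ideal.span_le, Set.singleton_subset_iff]
        exact hu
      haveI : (P.map φ).IsPrime := Ideal.map_isPrime_of_surjective hφ hle
      have hc : (P.map φ).comap φ = P := by
        rw [Ideal.comap_map_of_surjective _ hφ, ← RingHom.ker_eq_comap_bot, sup_eq_left]
        exact hle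
      have h1 : ¬ Ideal.map φ Rp ≤ P.map φ := by
        intro h
        apply hnot
        have := Ideal.map_le_iff_le_comap.1 h
        rwa [hc] at this
      exact (cmLocal_quot_iff φ hφ 𝓕.u hker P (P.map φ) hc (u_isSMulRegular 𝓕)).2 (hG _ h1)
    · have hd := disjoint_powers_u 𝓕 P hu
      haveI hQ : (P.map (algebraMap 𝓕.extRees A[T;T⁻¹])).IsPrime :=
        map_isPrime_of_disjoint (Submonoid.powers 𝓕.u) P hd
      have hc := comap_map_of_disjoint (C := A[T;T⁻¹]) (Submonoid.powers 𝓕.u) P hd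
      obtain ⟨e⟩ := nonempty_equiv_of_comap 𝓕 P _ hc
      set Q := P.map (algebraMap 𝓕.extRees A[T;T⁻¹]) with hQdef
      let q : Ideal A := Q.under A
      have hq : q.IsPrime := inferInstance
      have hlo : Q.LiesOver q := inferInstance
      have h1 : ¬ 𝓕.F 1 ≤ q := by
        intro hle
        apply hnot
        rw [hRp, Ideal.span_le]
        rintro x ⟨n, hn, a, ha, hx⟩
        have haq : a ∈ q := hle (F_le_of_pos 𝓕 (𝓕.F 1) le_rfl hn ha)
        have h2 : (LaurentPolynomial.C a : A[T;T⁻¹]) ∈ Q := by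
          have : algebraMap A A[T;T⁻¹] a ∈ Q := haq
          rwa [algebraMap_laurent] at this
        have h3 : algebraMap 𝓕.extRees A[T;T⁻¹] x ∈ Q := by
          show (x : A[T;T⁻¹]) ∈ Q
          rw [hx]
          exact Ideal.mul_mem_right _ _ h2
        have h4 : x ∈ Q.comap (algebraMap 𝓕.extRees A[T;T⁻¹]) := h3
        rw [hc] at h4
        exact h4
      have h2 : IsCohenMacaulayLocalRing (Localization.AtPrime Q) :=
        (cm_laurent_atPrime_iff A q Q).2 (hA q h1)
      exact Groth.Agent.S9808.cm_of_ringEquiv (h := h2) e.symm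

end Groth.Agent.Lib.helper26.ExtRees
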