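import Mathlib
import Groth.Agent.S2119
import Groth.Agent.Lib.Helper2.UfdLoc
import Groth.Agent.Lib.Helper10.GradedDomain
import Groth.Agent.Lib.Helper26.ExtRees5
import Groth.Agent.Lib.Helper26.ExtRees6

/-!
# Extended Rees algebra: unique factorization (helper26)

`R'` is a UFD iff `A` is a UFD and `G = R'/uR'` is a domain (`A` a Noetherian local domain,
`𝓕` separated with finitely generated Rees algebra, `R'` a domain).
-/

set_option autoImplicit false
set_option linter.unusedSectionVars false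
universe u

open Polynomial LaurentPolynomial

namespace Groth.Agent.Lib.helper26.ExtRees

open FiltBl Groth.Agent.Lib.helper10.GradedDomain

section Laurent

variable {A : Type u} [CommRing A] [IsDomain A]

theorem eq_single_of_mem_grade {f : A[T;T⁻¹]} {i : ℤ} (h : f ∈ AddMonoidAlgebra.grade A i) :
    f = AddMonoidAlgebra.single i (f.coeff i) := by
  classical
  rw [AddMonoidAlgebra.mem_grade_iff] at h
  ext m
  rw [AddMonoidAlgebra.coeff_single, Finsupp.single_apply]
  split_ifs with hm
  · rw [hm]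
  · by_contra hne
    have := h (Finsupp.mem_support_iff.mpr hne)
    rw [Finset.mem_singleton] at this
    exact hm this.symm

theorem C_mul_coeff_zero (c : A) (z : A[T;T⁻¹]) :
    (LaurentPolynomial.C c * z).coeff 0 = c * z.coeff 0 := by
  rw [← LaurentPolynomial.single_eq_C, AddMonoidAlgebra.coeff_single_mul_apply]
  simp

/-- if `C c` is prime in `A[T, T⁻¹]` then `c` is prime in `A` -/
theorem prime_of_prime_C {c : A} (h : Prime (LaurentPolynomial.C c : A[T;T⁻¹])) : Prime c := by
  refine ⟨?_, ?_, ?_⟩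
  · intro h0
    apply h.ne_zero
    rw [h0, map_zero]
  · intro hu
    exact h.not_unit (hu.map _)
  · intro x y hxy
    obtain ⟨w, hw⟩ := hxy
    have h1 : (LaurentPolynomial.C c : A[T;T⁻¹]) ∣ LaurentPolynomial.C x * LaurentPolynomial.C y :=
      ⟨LaurentPolynomial.C w, by rw [← map_mul, ← map_mul, hw]⟩
    rcases h.dvd_or_dvd h1 with ⟨z, hz⟩ | ⟨z, hz⟩
    · left
      refine ⟨z.coeff 0, ?_⟩
      have := congrArg (fun f : A[T;T⁻¹] => f.coeff 0) hz
      simp only [C_mul_coeff_zero, LaurentPolynomial.C_apply, if_true] at this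
      exact this
    · right
      refine ⟨z.coeff 0, ?_⟩
      have := congrArg (fun f : A[T;T⁻¹] => f.coeff 0) hz
      simp only [C_mul_coeff_zero, LaurentPolynomial.C_apply, if_true] at this
      exact this

/-- `A` is a UFD if `A[T, T⁻¹]` is -/
theorem ufd_of_ufd_laurent [h : UniqueFactorizationMonoid A[T;T⁻¹]] :
    UniqueFactorizationMonoid A := by
  classical
  rw [UniqueFactorizationMonoid.iff_exists_prime_mem_of_isPrime]
  intro q hq0 hq
  obtain ⟨a, haq, ha0⟩ : ∃ a ∈ q, a ≠ 0 := by
    by_contra hcon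
    push Not at hcon
    exact hq0 ((Submodule.eq_bot_iff _).2 hcon)
  let Q : Ideal A[T;T⁻¹] := RingHom.ker (AddMonoidAlgebra.mapRingHom ℤ (Ideal.Quotient.mk q))
  haveI : IsDomain (A ⧸ q) := (Ideal.Quotient.isDomain_iff_prime q).2 hq
  have hQ : Q.IsPrime := RingHom.ker_isPrime _
  have hmemQ : ∀ f : A[T;T⁻¹], f ∈ Q ↔ ∀ n, f.coeff n ∈ q := by
    intro f
    rw [RingHom.mem_ker]
    constructor
    · intro h n
      have := congrArg (fun g => AddMonoidAlgebra.coeff g n) h
      simp only [AddMonoidAlgebra.coeff_mapRingHom, AddMonoidAlgebra.coeff_zero,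
        Finsupp.zero_apply] at this
      exact Ideal.Quotient.eq_zero_iff_mem.mp this
    · intro h
      ext n
      rw [AddMonoidAlgebra.coeff_mapRingHom, AddMonoidAlgebra.coeff_zero, Finsupp.zero_apply]
      exact Ideal.Quotient.eq_zero_iff_mem.mpr (h n)
  have hCa0 : (LaurentPolynomial.C a : A[T;T⁻¹]) ≠ 0 := by
    intro h0
    apply ha0
    have := congrArg (fun f : A[T;T⁻¹] => f.coeff 0) h0
    simpa using this
  have hCaQ : (LaurentPolynomial.C a : A[T;T⁻¹]) ∈ Q := by
    rw [hmemQ]
    intro n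
    rw [LaurentPolynomial.C_apply]
    split_ifs
    · exact haq
    · exact zero_mem _
  obtain ⟨f, hfprime, hfassoc⟩ := UniqueFactorizationMonoid.exists_prime_factors _ hCa0
  have hprodQ : f.prod ∈ Q := by
    obtain ⟨w, hw⟩ := hfassoc.symm
    rw [← hw]
    exact Ideal.mul_mem_right _ _ hCaQ
  obtain ⟨b, hbf, hbQ⟩ := (hQ.multiset_prod_mem_iff_exists_mem f).1 hprodQ
  have hbdvd : b ∣ LaurentPolynomial.C a := (Multiset.dvd_prod hbf).trans hfassoc.dvd
  obtain ⟨b', hb'⟩ := hbdvd
  have hmem0 : b * b' ∈ AddMonoidAlgebra.grade A (0 : ℤ) := by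
    rw [← hb', ← LaurentPolynomial.single_eq_C]
    exact AddMonoidAlgebra.single_mem_grade _ _
  obtain ⟨i, hi⟩ := homogeneous_left_of_mul (AddMonoidAlgebra.grade A) b b' 0 hmem0
    (by rw [← hb']; exact hCa0)
  have hbs := eq_single_of_mem_grade hi
  set c := b.coeff i with hc
  have hcq : c ∈ q := (hmemQ b).1 hbQ i
  have hassoc : Associated b (LaurentPolynomial.C c : A[T;T⁻¹]) := by
    refine ⟨(LaurentPolynomial.isUnit_T (-i)).unit, ?_⟩
    rw [IsUnit.unit_spec, hbs, LaurentPolynomial.single_eq_C_mul_T, mul_assoc,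
      ← LaurentPolynomial.T_add, add_neg_cancel, LaurentPolynomial.T_zero, mul_one]
  have hCc : Prime (LaurentPolynomial.C c : A[T;T⁻¹]) := hassoc.prime (hfprime b hbf)
  exact ⟨c, hcq, prime_of_prime_C hCc⟩

theorem ufd_laurent [UniqueFactorizationMonoid A] : UniqueFactorizationMonoid A[T;T⁻¹] :=
  Groth.Agent.Lib.helper2.UfdLoc.ufd_of_isLocalization
    (Submonoid.powers (Polynomial.X : Polynomial A)) A[T;T⁻¹]

end Laurent

end Groth.Agent.Lib.helper26.ExtRees
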