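import Mathlib
import Groth.Agent.Lib.Helper26.ExtRees11

/-!
# Extended Rees algebra: unique factorization, main statement (helper26)
-/

set_option autoImplicit false
set_option linter.unusedSectionVars false
universe u

open Polynomial LaurentPolynomial

namespace Groth.Agent.Lib.helper26.ExtRees

open FiltBl Groth.Agent.Lib.helper10.GradedDomain

variable {A : Type u} [CommRing A] [IsDomain A] [IsNoetherianRing A] [IsLocalRing A]
  (𝓕 : FiltBl.IdealFiltration A) (hsep : ⨅ n, 𝓕.F n = ⊥)
  (hfg : Algebra.FiniteType A 𝓕.rees) [IsDomain 𝓕.extRees]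

theorem u_ne_zero : 𝓕.u ≠ 0 := by
  intro h
  have h2 : ((𝓕.u : 𝓕.extRees) : A[T;T⁻¹]) = T (-1) := rfl
  rw [h] at h2
  have := congrArg (fun f : A[T;T⁻¹] => f.coeff (-1)) h2
  simp at this

theorem mem_ldeg_iff_coe (f : 𝓕.extRees) (i : ℤ) :
    f ∈ Rees.ldeg 𝓕.extRees i ↔ (f : A[T;T⁻¹]) ∈ AddMonoidAlgebra.grade A i := Iff.rfl

include hsep in
theorem u_irreducible : Irreducible 𝓕.u := by
  classical
  have hm := F_one_le 𝓕 hsep
  refine ⟨?_, ?_⟩
  · intro hu
    have h1 := u_mem_maxIdeal 𝓕 (IsLocalRing.maximalIdeal A) hm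
    have h2 : (maxIdeal 𝓕 (IsLocalRing.maximalIdeal A) hm).IsMaximal := maxIdeal_isMaximal 𝓕 _ _
    exact h2.ne_top (Ideal.eq_top_of_isUnit_mem _ h1 hu)
  · intro a b hab
    have hmem : a * b ∈ Rees.ldeg 𝓕.extRees (-1) := by
      rw [← hab, mem_ldeg_iff_coe]
      show (T (-1) : A[T;T⁻¹]) ∈ _
      exact AddMonoidAlgebra.single_mem_grade _ _
    have hne : a * b ≠ 0 := by
      rw [← hab]
      exact u_ne_zero 𝓕
    obtain ⟨i, hi⟩ := homogeneous_left_of_mul (Rees.ldeg 𝓕.extRees) a b (-1) hmem hne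
    obtain ⟨j, hj⟩ := homogeneous_right_of_mul (Rees.ldeg 𝓕.extRees) a b (-1) hmem hne
    rw [mem_ldeg_iff_coe] at hi hj
    have ha := eq_single_of_mem_grade hi
    have hb := eq_single_of_mem_grade hj
    set α := (a : A[T;T⁻¹]).coeff i with hα
    set β := (b : A[T;T⁻¹]).coeff j with hβ
    have hprod : (AddMonoidAlgebra.single (i + j) (α * β) : A[T;T⁻¹]) =
        AddMonoidAlgebra.single (-1) 1 := by
      rw [← AddMonoidAlgebra.single_mul_single, ← ha, ← hb, ← Subalgebra.coe_mul, ← hab]
      rfl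
    have hij : i + j = -1 ∧ α * β = 1 := by
      have h1 := congrArg (fun f : A[T;T⁻¹] => f.coeff (-1)) hprod
      simp only [AddMonoidAlgebra.coeff_single, Finsupp.single_eq_same, Finsupp.single_apply] at h1
      split_ifs at h1 with h
      · exact ⟨h, h1⟩
      · exact absurd h1 zero_ne_one
    have hαu : IsUnit α := IsUnit.of_mul_eq_one _ hij.2
    have hβu : IsUnit β := IsUnit.of_mul_eq_one _ (by rw [mul_comm]; exact hij.2)
    have hi0 : i ≤ 0 := by
      by_contra hpos
      push Not at hpos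
      have h1 : α ∈ 𝓕.F i.toNat := a.2 i
      have h2 := F_le_of_pos 𝓕 _ hm (n := i.toNat) (by omega) h1
      exact (IsLocalRing.mem_maximalIdeal _).1 h2 hαu
    have hj0 : j ≤ 0 := by
      by_contra hpos
      push Not at hpos
      have h1 : β ∈ 𝓕.F j.toNat := b.2 j
      have h2 := F_le_of_pos 𝓕 _ hm (n := j.toNat) (by omega) h1
      exact (IsLocalRing.mem_maximalIdeal _).1 h2 hβu
    have hcase : i = 0 ∨ j = 0 := by omega
    rcases hcase with h0 | h0
    · left
      have : a = algebraMap A 𝓕.extRees α := by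
        apply Subtype.ext
        rw [ha, h0]
        show _ = algebraMap A A[T;T⁻¹] _
        rw [LaurentPolynomial.algebraMap_apply, Algebra.algebraMap_self, RingHom.id_apply]
        rfl
      rw [this]
      exact hαu.map _
    · right
      have : b = algebraMap A 𝓕.extRees β := by
        apply Subtype.ext
        rw [hb, h0]
        show _ = algebraMap A A[T;T⁻¹] _
        rw [LaurentPolynomial.algebraMap_apply, Algebra.algebraMap_self, RingHom.id_apply]
        rfl
      rw [this]
      exact hβu.map _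

include hsep hfg in
theorem ufd_iff :
    UniqueFactorizationMonoid 𝓕.extRees ↔ (UniqueFactorizationMonoid A ∧ IsDomain 𝓕.Gr) := by
  have hN : IsNoetherianRing 𝓕.extRees := isNoetherianRing_extRees 𝓕 hfg
  constructor
  · intro h
    refine ⟨?_, ?_⟩
    · haveI : UniqueFactorizationMonoid A[T;T⁻¹] :=
        Groth.Agent.Lib.helper2.UfdLoc.ufd_of_isLocalization (Submonoid.powers 𝓕.u) A[T;T⁻¹]
      exact ufd_of_ufd_laurent
    · have hp : Prime 𝓕.u :=
        UniqueFactorizationMonoid.irreducible_iff_prime.1 (u_irreducible 𝓕 hsep)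
      exact (Ideal.Quotient.isDomain_iff_prime _).2
        ((Ideal.span_singleton_prime (u_ne_zero 𝓕)).2 hp)
  · rintro ⟨hA, hG⟩
    have hp : Prime 𝓕.u :=
      (Ideal.span_singleton_prime (u_ne_zero 𝓕)).1 ((Ideal.Quotient.isDomain_iff_prime _).1 hG)
    haveI : UniqueFactorizationMonoid A[T;T⁻¹] := ufd_laurent
    have hcl : Submonoid.closure ({𝓕.u} : Set 𝓕.extRees) = Submonoid.powers 𝓕.u :=
      (Submonoid.powers_eq_closure 𝓕.u).symm
    have key : ∀ (M : Submonoid 𝓕.extRees), M = Submonoid.powers 𝓕.u →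
        ∃ _ : IsDomain (Localization M), UniqueFactorizationMonoid (Localization M) := by
      rintro M rfl
      have e : A[T;T⁻¹] ≃ₐ[𝓕.extRees] Localization (Submonoid.powers 𝓕.u) :=
        IsLocalization.algEquiv (Submonoid.powers 𝓕.u) _ _
      have hd : IsDomain (Localization (Submonoid.powers 𝓕.u)) :=
        IsLocalization.isDomain_localization
          (powers_le_nonZeroDivisors_of_noZeroDivisors (u_ne_zero 𝓕))
      exact ⟨hd, e.toRingEquiv.toMulEquiv.uniqueFactorizationMonoid inferInstance⟩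
    obtain ⟨hd, hS⟩ := key _ hcl
    exact Groth.Agent.S2119.result (fun a ha _ => WfDvdMonoid.exists_factors a ha) {𝓕.u}
      (by rintro _ rfl; exact hp) hS

end Groth.Agent.Lib.helper26.ExtRees
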