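/-
Helper library (helper26): covering a fibre by elementary étale neighbourhoods (Raynaud–Gruson).
Part 2: quasi-compactness of the fibre; cancellation and common refinement of elementary étale
neighbourhoods.
-/
import Mathlib
import Groth.Agent.Lib.Helper26.FibCov1

set_option autoImplicit false
set_option linter.style.haveILetI false
set_option linter.unusedSectionVars false

namespace Groth.Agent.Lib.helper26.FibCov

open TensorProduct IsLocalRing

universe u

/-- the fibre over a prime is quasi-compact: finite subcovers -/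
theorem exists_finite_subcover {R S : Type u} [CommRing R] [CommRing S] [Algebra R S]
    (p : Ideal R) [hp : p.IsPrime]
    (U : PrimeSpectrum S → Set (PrimeSpectrum S))
    (hU : ∀ q : PrimeSpectrum S, q.asIdeal.LiesOver p → IsOpen (U q) ∧ q ∈ U q) :
    ∃ T : Finset (PrimeSpectrum S), (∀ q ∈ T, q.asIdeal.LiesOver p) ∧
      ∀ q₂ : PrimeSpectrum S, q₂.asIdeal.LiesOver p → ∃ q ∈ T, q₂ ∈ U q := by
  classical
  let K : Set (PrimeSpectrum S) := PrimeSpectrum.comap (algebraMap R S) ⁻¹' {⟨p, hp⟩}
  have hKmem : ∀ q : PrimeSpectrum S, q ∈ K ↔ q.asIdeal.LiesOver p := by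
    intro q
    constructor
    · intro h
      exact ⟨(congrArg PrimeSpectrum.asIdeal h).symm⟩
    · intro h
      exact PrimeSpectrum.ext h.over.symm
  have hK : IsCompact K := by
    rw [isCompact_iff_compactSpace]
    exact (PrimeSpectrum.preimageHomeomorphFiber R S ⟨p, hp⟩).symm.compactSpace
  obtain ⟨T, hT⟩ := hK.elim_finite_subcover (fun q : K => interior (U q.1))
    (fun q => isOpen_interior) (by
      intro q hq
      rw [Set.mem_iUnion]
      refine ⟨⟨q, hq⟩, ?_⟩
      have h := hU q ((hKmem q).mp hq)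
      rw [h.1.interior_eq]
      exact h.2)
  refine ⟨T.image Subtype.val, ?_, ?_⟩
  · intro q hq
    obtain ⟨q', -, rfl⟩ := Finset.mem_image.mp hq
    exact (hKmem q'.1).mp q'.2
  · intro q₂ hq₂
    have h := hT ((hKmem q₂).mpr hq₂)
    simp only [Set.mem_iUnion] at h
    obtain ⟨q, hqT, hq⟩ := h
    exact ⟨q.1, Finset.mem_image.mpr ⟨q, hqT, rfl⟩, interior_subset hq⟩

/-- cancellation of bijective residue field maps -/
theorem bijective_mapₐ_cancel {A B C : Type u} [CommRing A] [CommRing B] [CommRing C]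
    [Algebra A B] [Algebra B C] [Algebra A C] [IsScalarTower A B C] (a : Ideal A) (b : Ideal B)
    (c : Ideal C) [a.IsPrime] [b.IsPrime] [c.IsPrime] [hba : b.LiesOver a] [hcb : c.LiesOver b]
    [hca : c.LiesOver a]
    (h1 : Function.Bijective (Ideal.ResidueField.mapₐ a b (Algebra.ofId A B) hba.over))
    (h3 : Function.Bijective (Ideal.ResidueField.mapₐ a c (Algebra.ofId A C) hca.over)) :
    Function.Bijective (Ideal.ResidueField.mapₐ b c (Algebra.ofId B C) hcb.over) := by
  have key : (Ideal.ResidueField.mapₐ a c (Algebra.ofId A C) hca.over).toRingHom =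
      (Ideal.ResidueField.mapₐ b c (Algebra.ofId B C) hcb.over).toRingHom.comp
        (Ideal.ResidueField.mapₐ a b (Algebra.ofId A B) hba.over).toRingHom := by
    apply Ideal.ResidueField.ringHom_ext
    ext r
    simp only [AlgHom.toRingHom_eq_coe, RingHom.comp_apply, RingHom.coe_coe,
      Ideal.ResidueField.mapₐ_apply, Ideal.ResidueField.map_algebraMap, Algebra.ofId_apply]
    rw [← IsScalarTower.algebraMap_apply A B C]
  have h4 : (⇑(Ideal.ResidueField.mapₐ a c (Algebra.ofId A C) hca.over) : _ → _) =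
      ⇑(Ideal.ResidueField.mapₐ b c (Algebra.ofId B C) hcb.over) ∘
        ⇑(Ideal.ResidueField.mapₐ a b (Algebra.ofId A B) hba.over) := by
    funext x
    exact congrArg (fun f : a.ResidueField →+* c.ResidueField => f x) key
  rw [h4] at h3
  exact (Function.Bijective.of_comp_iff _ h1).mp h3

/-- cancellation for elementary étale neighbourhoods -/
theorem isEtaleNhd_cancel {A B C : Type u} [CommRing A] [CommRing B] [CommRing C] [Algebra A B]
    [Algebra B C] [Algebra A C] [IsScalarTower A B C] (a : Ideal A) (b : Ideal B) (c : Ideal C)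
    [a.IsPrime] [b.IsPrime] [c.IsPrime]
    (h1 : FlatCA.IsEtaleNhd A B a b) (h3 : FlatCA.IsEtaleNhd A C a c) [hcb : c.LiesOver b] :
    FlatCA.IsEtaleNhd B C b c := by
  obtain ⟨et1, hba, hb1⟩ := h1
  obtain ⟨et3, hca, hb3⟩ := h3
  haveI := et1
  haveI := et3
  haveI := hba
  haveI := hca
  haveI : Algebra.Etale B C := Algebra.Etale.of_restrictScalars A B C
  exact ⟨inferInstance, hcb, bijective_mapₐ_cancel a b c hb1 hb3⟩

set_option maxHeartbeats 1600000 in
/-- finitely many elementary étale neighbourhoods of `(R, p)` have a common refinement -/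
theorem exists_common_refinement {R : Type u} [CommRing R] (p : Ideal R) [p.IsPrime]
    {ι : Type*} (R' : ι → Type u) [∀ i, CommRing (R' i)] [∀ i, Algebra R (R' i)]
    (p' : ∀ i, Ideal (R' i)) [∀ i, (p' i).IsPrime]
    (h : ∀ i, FlatCA.IsEtaleNhd R (R' i) p (p' i)) (T : Finset ι) :
    ∃ (R'' : Type u) (_ : CommRing R'') (_ : Algebra R R'') (p'' : Ideal R'') (_ : p''.IsPrime),
      FlatCA.IsEtaleNhd R R'' p p'' ∧
      ∀ i ∈ T, ∃ φ : R' i →ₐ[R] R'', p''.comap φ.toRingHom = p' i := by
  classical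
  induction T using Finset.induction_on with
  | empty =>
    haveI : IsLocalization.Away (1 : R) R :=
      IsLocalization.away_of_isUnit_of_bijective R isUnit_one Function.bijective_id
    haveI hpp : p.LiesOver p := ⟨rfl⟩
    exact ⟨R, inferInstance, inferInstance, p, inferInstance,
      Groth.Agent.Lib.helper26.DevMain.isEtaleNhd_away (1 : R) R p p, fun i hi => by simp at hi⟩
  | insert i T hiT ih =>
    obtain ⟨R₁, _, _, p₁, hp₁, hEt₁, hφ⟩ := ih
    obtain ⟨W, _, algRW, algR₁W, algR'W, twRR₁W, twRR'W, hpo⟩ :=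
      Groth.Agent.Lib.helper26.RGFlat.exists_pushout_model R R₁ (R' i)
    haveI hp'p : (p' i).LiesOver p := (h i).2.1
    haveI hp₁p : p₁.LiesOver p := hEt₁.2.1
    obtain ⟨P, hPprime, hPp₁, hPp'⟩ :=
      Groth.Agent.Lib.helper3.BijRes.exists_prime_over p p₁ hEt₁.2.2 (R' i) W (p' i)
    haveI := hPprime
    haveI := hPp₁
    haveI := hPp'
    have hEt2 : FlatCA.IsEtaleNhd (R' i) W (p' i) P :=
      Groth.Agent.Lib.helper26.DevMain.isEtaleNhd_pushout p p₁ hEt₁ (R' i) W (p' i) P
    have hEtW : FlatCA.IsEtaleNhd R W p P :=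
      Groth.Agent.Lib.helper26.DevMain.isEtaleNhd_trans p (p' i) P (h i) hEt2
    refine ⟨W, inferInstance, algRW, P, hPprime, hEtW, ?_⟩
    intro j hj
    rcases Finset.mem_insert.mp hj with rfl | hjT
    · refine ⟨IsScalarTower.toAlgHom R (R' j) W, ?_⟩
      exact hPp'.over.symm
    · obtain ⟨φ, hφj⟩ := hφ j hjT
      refine ⟨(IsScalarTower.toAlgHom R R₁ W).comp φ, ?_⟩
      have h1 : P.comap (IsScalarTower.toAlgHom R R₁ W).toRingHom = p₁ := hPp₁.over.symm
      rw [← hφj, ← h1, Ideal.comap_comap]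
      rfl

end Groth.Agent.Lib.helper26.FibCov
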