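/-
Helper library (helper26): covering a fibre by elementary étale neighbourhoods (Raynaud–Gruson).
Part 10: projectivity after refinement of the base neighbourhood, and over finite products.
-/
import Mathlib
import Groth.Agent.Lib.Helper26.FibCov2
import Groth.Agent.Lib.Helper26.Purity5

set_option autoImplicit false
set_option linter.style.haveILetI false
set_option linter.unusedSectionVars false

namespace Groth.Agent.Lib.helper26.FibCov

open TensorProduct IsLocalRing

universe u

/-- the `RestrictScalars` copy is linearly equivalent to the module with a compatible action -/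
noncomputable def restrictScalarsEquiv (A C M : Type u) [CommRing A] [CommRing C] [Algebra A C]
    [AddCommGroup M] [Module C M] [Module A M] [IsScalarTower A C M] :
    M ≃ₗ[A] RestrictScalars A C M :=
  { (RestrictScalars.addEquiv A C M).symm with
    map_smul' := fun a x => by
      show (RestrictScalars.addEquiv A C M).symm (a • x) =
        a • (RestrictScalars.addEquiv A C M).symm x
      rw [RestrictScalars.smul_def, AddEquiv.apply_symm_apply, algebraMap_smul] }

set_option maxHeartbeats 1600000 in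
/-- projectivity over `R''` passes to the finite product -/
theorem projective_pi_tensor {S R'' : Type u} [CommRing S] [CommRing R''] (N : Type u)
    [AddCommGroup N] [Module S N] {ι : Type u} [Finite ι] (W : ι → Type u)
    [∀ i, CommRing (W i)] [∀ i, Algebra S (W i)] [∀ i, Algebra R'' (W i)]
    (h : ∀ i, Module.Projective R'' (RestrictScalars R'' (W i) (W i ⊗[S] N))) :
    Module.Projective R'' (RestrictScalars R'' (∀ i, W i) ((∀ i, W i) ⊗[S] N)) := by
  classical
  haveI := Fintype.ofFinite ι
  let e₀ : ((∀ i, W i) ⊗[S] N) ≃ₗ[S] ∀ i, W i ⊗[S] N := TensorProduct.piLeft S N W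
  have he₀ : ∀ (c : ∀ i, W i) (n : N), e₀ (c ⊗ₜ n) = fun i => c i ⊗ₜ n := by
    intro c n
    simp [e₀]
    rfl
  haveI := h
  haveI : Module.Projective R'' (Π₀ i, RestrictScalars R'' (W i) (W i ⊗[S] N)) := inferInstance
  haveI : Module.Projective R'' (∀ i, RestrictScalars R'' (W i) (W i ⊗[S] N)) :=
    Module.Projective.of_equiv (DFinsupp.linearEquivFunOnFintype (R := R'')
      (M := fun i => RestrictScalars R'' (W i) (W i ⊗[S] N)))
  have hsm : ∀ (r : R'') (z : (∀ i, W i) ⊗[S] N),
      e₀ ((algebraMap R'' (∀ i, W i) r) • z) = fun i => algebraMap R'' (W i) r • e₀ z i := by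
    intro r z
    induction z using TensorProduct.induction_on with
    | zero =>
      rw [smul_zero, map_zero]
      funext i
      show (0 : W i ⊗[S] N) = algebraMap R'' (W i) r • (0 : W i ⊗[S] N)
      rw [smul_zero]
    | tmul c n =>
      rw [TensorProduct.smul_tmul', he₀]
      funext i
      show ((algebraMap R'' (∀ i, W i) r) • c) i ⊗ₜ[S] n =
        algebraMap R'' (W i) r • (e₀ (c ⊗ₜ n) i)
      rw [he₀, TensorProduct.smul_tmul']
      rfl
    | add a b ha hb =>
      rw [smul_add, map_add, ha, hb]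
      funext i
      show algebraMap R'' (W i) r • (e₀ a i) + algebraMap R'' (W i) r • (e₀ b i) =
        algebraMap R'' (W i) r • (e₀ (a + b) i)
      rw [map_add, ← smul_add]
      rfl
  let e : RestrictScalars R'' (∀ i, W i) ((∀ i, W i) ⊗[S] N) ≃ₗ[R'']
      ∀ i, RestrictScalars R'' (W i) (W i ⊗[S] N) :=
    { toFun := fun z => e₀ z
      invFun := fun z => e₀.symm z
      left_inv := fun z => e₀.symm_apply_apply z
      right_inv := fun z => e₀.apply_symm_apply z
      map_add' := fun a b => map_add e₀ a b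
      map_smul' := fun r z => hsm r z }
  exact Module.Projective.of_equiv e.symm

set_option maxHeartbeats 1600000 in
/-- refining the base neighbourhood of a compatible pair of étale algebras with projective
module: the pushout is étale over `S`, its fibre over `p''` hits everything the fibre over `p₁`
hits, and the module stays projective -/
theorem exists_refined_projective {R S : Type u} [CommRing R] [CommRing S] [Algebra R S]
    (N : Type u) [AddCommGroup N] [Module S N]
    (p : Ideal R) [p.IsPrime]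
    {R₁ S₁ : Type u} [CommRing R₁] [CommRing S₁] [Algebra R R₁] [Algebra S S₁] [Algebra R₁ S₁]
    [Algebra R S₁] [IsScalarTower R R₁ S₁] [IsScalarTower R S S₁]
    (p₁ : Ideal R₁) [p₁.IsPrime] (hEtR : FlatCA.IsEtaleNhd R R₁ p p₁) [hEtS : Algebra.Etale S S₁]
    (hproj : Module.Projective R₁ (RestrictScalars R₁ S₁ (S₁ ⊗[S] N)))
    (R'' : Type u) [CommRing R''] [Algebra R R''] (p'' : Ideal R'') [p''.IsPrime]
    (hEt'' : FlatCA.IsEtaleNhd R R'' p p'')
    (φ : R₁ →ₐ[R] R'') (hφ : p''.comap φ.toRingHom = p₁) :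
    ∃ (W : Type u) (_ : CommRing W) (_ : Algebra R'' W) (_ : Algebra S W) (_ : Algebra R W)
      (_ : IsScalarTower R R'' W) (_ : IsScalarTower R S W),
      Algebra.Etale S W ∧
      (∀ (y : Ideal S₁) [y.IsPrime], y.LiesOver p₁ → ∃ x : Ideal W, x.IsPrime ∧
        x.comap (algebraMap S W) = y.comap (algebraMap S S₁)) ∧
      Module.Projective R'' (RestrictScalars R'' W (W ⊗[S] N)) := by
  letI algR₁R'' : Algebra R₁ R'' := φ.toRingHom.toAlgebra
  haveI twRR₁R'' : IsScalarTower R R₁ R'' :=
    IsScalarTower.of_algebraMap_eq fun r => (φ.commutes r).symm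
  haveI hp''p₁ : p''.LiesOver p₁ := ⟨hφ.symm⟩
  have hEt₁ : FlatCA.IsEtaleNhd R₁ R'' p₁ p'' := isEtaleNhd_cancel p p₁ p'' hEtR hEt''
  haveI : Algebra.Etale R₁ R'' := hEt₁.1
  obtain ⟨W, _, algR₁W, algR''W, algS₁W, twR₁R''W, twR₁S₁W, hpo⟩ :=
    Groth.Agent.Lib.helper26.RGFlat.exists_pushout_model R₁ R'' S₁
  letI algSW : Algebra S W := ((algebraMap S₁ W).comp (algebraMap S S₁)).toAlgebra
  haveI twSS₁W : IsScalarTower S S₁ W := IsScalarTower.of_algebraMap_eq fun _ => rfl
  letI algRW : Algebra R W := ((algebraMap R'' W).comp (algebraMap R R'')).toAlgebra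
  haveI twRR''W : IsScalarTower R R'' W := IsScalarTower.of_algebraMap_eq fun _ => rfl
  haveI twRSW : IsScalarTower R S W := IsScalarTower.of_algebraMap_eq fun r => by
    show algebraMap R'' W (algebraMap R R'' r) = algebraMap S₁ W (algebraMap S S₁ (algebraMap R S r))
    rw [IsScalarTower.algebraMap_apply R R₁ R'', ← IsScalarTower.algebraMap_apply R₁ R'' W,
      IsScalarTower.algebraMap_apply R₁ S₁ W, ← IsScalarTower.algebraMap_apply R R₁ S₁,
      IsScalarTower.algebraMap_apply R S S₁]
  haveI hpo' : Algebra.IsPushout R₁ S₁ R'' W := Algebra.IsPushout.symm hpo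
  haveI : Algebra.Etale S₁ W := Algebra.Etale.of_equiv (Algebra.IsPushout.equiv R₁ S₁ R'' W)
  haveI : Algebra.Etale S W := Algebra.Etale.comp S S₁ W
  refine ⟨W, inferInstance, algR''W, algSW, algRW, twRR''W, twRSW, inferInstance, ?_, ?_⟩
  · intro y hy hyp₁
    obtain ⟨x, hxprime, hxp'', hxy⟩ :=
      Groth.Agent.Lib.helper3.BijRes.exists_prime_over p₁ p'' hEt₁.2.2 S₁ W y
    refine ⟨x, hxprime, ?_⟩
    have h1 : x.comap (algebraMap S W) = (x.comap (algebraMap S₁ W)).comap (algebraMap S S₁) := by
      rw [Ideal.comap_comap]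
      rfl
    rw [h1]
    congr 1
    exact hxy.over.symm
  · -- projectivity
    haveI : Module.Projective R₁ (S₁ ⊗[S] N) :=
      Module.Projective.of_equiv (restrictScalarsEquiv R₁ S₁ (S₁ ⊗[S] N)).symm
    have h1 : Module.Projective R'' (W ⊗[S₁] (S₁ ⊗[S] N)) :=
      Groth.Agent.Lib.helper26.Purity.projective_of_isPushout_of_isBaseChange
        (A := R₁) (B := S₁) (S₁ ⊗[S] N) R'' W (W ⊗[S₁] (S₁ ⊗[S] N)) hpo'
        (TensorProduct.mk S₁ W (S₁ ⊗[S] N) 1) (TensorProduct.isBaseChange S₁ (S₁ ⊗[S] N) W)
    let e : W ⊗[S₁] (S₁ ⊗[S] N) ≃ₗ[W] W ⊗[S] N :=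
      AlgebraTensorModule.cancelBaseChange S S₁ W W N
    haveI := h1
    haveI : Module.Projective R'' (W ⊗[S] N) :=
      Module.Projective.of_equiv (e.restrictScalars R'')
    exact Module.Projective.of_equiv (restrictScalarsEquiv R'' W (W ⊗[S] N))

end Groth.Agent.Lib.helper26.FibCov
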