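/-
Helper library (helper26): covering a fibre by elementary étale neighbourhoods (Raynaud–Gruson).
Part 3: the core statement (finite presentation and freeness over the local ring after étale
localisation) in a form stable under further étale localisation of the base.
-/
import Mathlib
import Groth.Agent.Lib.Helper26.FibCov2

set_option autoImplicit false
set_option linter.style.haveILetI false
set_option linter.unusedSectionVars false

namespace Groth.Agent.Lib.helper26.FibCov

open TensorProduct IsLocalRing

universe u

set_option maxHeartbeats 3200000 in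
/-- the main case of the core statement over the local ring of a further elementary étale
neighbourhood `(R'', p'')` of `(R', p')` -/
theorem core_of_devissage' {R' S' : Type u} [CommRing R'] [CommRing S'] [Algebra R' S']
    [Algebra.FiniteType R' S']
    (N' : Type u) [AddCommGroup N'] [Module S' N'] [Module R' N'] [IsScalarTower R' S' N']
    [Module.Finite S' N']
    (p' : Ideal R') [p'.IsPrime] (q' : Ideal S') [q'.IsPrime] [q'.LiesOver p']
    (hfl' : FlatCA.FlatAt R' q' N') (hK' : FlatCA.HasCompleteDevissageAt R' S' N' p' q')
    (R'' : Type u) [CommRing R''] [Algebra R' R''] (p'' : Ideal R'') [p''.IsPrime]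
    (hEt : FlatCA.IsEtaleNhd R' R'' p' p'')
    (C : Type u) [CommRing C] [Algebra (Localization.AtPrime p'') C] [Algebra S' C] [Algebra R' C]
    [IsScalarTower R' (Localization.AtPrime p'') C] [IsScalarTower R' S' C]
    [Algebra.IsPushout R' (Localization.AtPrime p'') S' C]
    (NC : Type u) [AddCommGroup NC] [Module C NC] [Module S' NC] [IsScalarTower S' C NC]
    [Module (Localization.AtPrime p'') NC] [IsScalarTower (Localization.AtPrime p'') C NC]
    (f : N' →ₗ[S'] NC) (hf : IsBaseChange C f) :
    Module.FinitePresentation C NC ∧ Module.Free (Localization.AtPrime p'') NC := by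
  obtain ⟨et, hp''p', hbij⟩ := hEt
  haveI := et
  haveI := hp''p'
  haveI h𝔪p' : (maximalIdeal (Localization.AtPrime p'')).LiesOver p' :=
    Ideal.LiesOver.trans (maximalIdeal (Localization.AtPrime p'')) p'' p'
  have hκ : Function.Bijective (Ideal.ResidueField.mapₐ p'
      (maximalIdeal (Localization.AtPrime p'')) (Algebra.ofId R' (Localization.AtPrime p''))
      h𝔪p'.over) :=
    Groth.Agent.Lib.helper26.GeomIrr.bijective_mapₐ_comp p' p'' _ hbij
      (Groth.Agent.Lib.helper26.RGFlat.bijective_mapₐ_atPrime p'')
  obtain ⟨x', hx'prime, hx'𝔪, hx'q'⟩ :=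
    Groth.Agent.Lib.helper3.BijRes.exists_prime_over p' (maximalIdeal (Localization.AtPrime p''))
      hκ S' C q'
  haveI := hx'prime
  haveI := hx'𝔪
  haveI := hx'q'
  have hKC : FlatCA.HasCompleteDevissageAt (Localization.AtPrime p'') C NC
      (maximalIdeal (Localization.AtPrime p'')) x' :=
    Groth.Agent.Lib.helper26.DevTr.hasCompleteDevissageAt_baseChange R' S' N' p' q' hK'
      (Localization.AtPrime p'') (maximalIdeal (Localization.AtPrime p'')) hκ C NC f hf x'
  -- flatness over `R'`
  letI modR'NC : Module R' NC := Module.compHom NC (algebraMap R' C)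
  haveI twR'CNC : IsScalarTower R' C NC := IsScalarTower.of_algebraMap_smul fun _ _ => rfl
  haveI : Module.Flat R' R'' := inferInstance
  haveI : Module.Flat R'' (Localization.AtPrime p'') := IsLocalization.flat _ p''.primeCompl
  haveI : Module.Flat R' (Localization.AtPrime p'') :=
    Module.Flat.trans R' R'' (Localization.AtPrime p'')
  haveI : Algebra.IsPushout R' S' (Localization.AtPrime p'') C := Algebra.IsPushout.symm inferInstance
  haveI : Module.Flat S' C :=
    Module.Flat.of_linearEquiv
      (Algebra.IsPushout.equiv R' S' (Localization.AtPrime p'') C).symm.toLinearEquiv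
  have hflC : FlatCA.FlatAt R' x' NC :=
    (Groth.Agent.Lib.helper3.FlatAtLib.flatAt_iff_of_isBaseChange (A := R') q' x' f hf).mp hfl'
  -- flatness over `R''`
  letI algR''C : Algebra R'' C :=
    ((algebraMap (Localization.AtPrime p'') C).comp
      (algebraMap R'' (Localization.AtPrime p''))).toAlgebra
  haveI twR''AC : IsScalarTower R'' (Localization.AtPrime p'') C :=
    IsScalarTower.of_algebraMap_eq fun _ => rfl
  haveI twR'R''C : IsScalarTower R' R'' C := IsScalarTower.of_algebraMap_eq fun r => by
    show algebraMap R' C r = algebraMap (Localization.AtPrime p'') C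
      (algebraMap R'' (Localization.AtPrime p'') (algebraMap R' R'' r))
    rw [← IsScalarTower.algebraMap_apply R' R'' (Localization.AtPrime p''),
      ← IsScalarTower.algebraMap_apply R' (Localization.AtPrime p'') C]
  letI modR''NC : Module R'' NC := Module.compHom NC (algebraMap R'' C)
  haveI twR''CNC : IsScalarTower R'' C NC := IsScalarTower.of_algebraMap_smul fun _ _ => rfl
  haveI twR'R''NC : IsScalarTower R' R'' NC := IsScalarTower.of_algebraMap_smul fun r x => by
    show algebraMap R'' C (algebraMap R' R'' r) • x = algebraMap R' C r • x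
    rw [← IsScalarTower.algebraMap_apply R' R'' C]
  have hflC'' : FlatCA.FlatAt R'' x' NC :=
    (Groth.Agent.Lib.helper3.FlatAtLib.flatAt_iff_of_etale (R := R') (R' := R'') x' NC).mp hflC
  -- flatness over the local ring
  haveI twR''ANC : IsScalarTower R'' (Localization.AtPrime p'') NC :=
    IsScalarTower.of_algebraMap_smul fun r x => by
      show algebraMap R'' (Localization.AtPrime p'') r • x = algebraMap R'' C r • x
      rw [IsScalarTower.algebraMap_apply R'' (Localization.AtPrime p'') C,
        algebraMap_smul C (algebraMap R'' (Localization.AtPrime p'') r) x]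
  have hflA : FlatCA.FlatAt (Localization.AtPrime p'') x' NC := by
    unfold FlatCA.FlatAt at hflC'' ⊢
    haveI : IsScalarTower R'' (Localization.AtPrime p'') (LocalizedModule x'.primeCompl NC) :=
      IsScalarTower.of_algebraMap_smul (fun r x => by
        induction x using LocalizedModule.induction_on with
        | h m s =>
          rw [LocalizedModule.smul'_mk, LocalizedModule.smul'_mk, algebraMap_smul])
    exact (Module.flat_iff_of_isLocalization (Localization.AtPrime p'') p''.primeCompl _).mpr hflC''
  obtain ⟨D, ⟨DA⟩⟩ := hKC
  have h := Groth.Agent.Lib.helper3.CDev.main D DA hflA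
  exact ⟨h.1, h.2.1⟩

/-- The conclusion of the core statement, stable under further étale localisation of the base:
for every elementary étale neighbourhood `(R'', p'')` of `(R', p')`, every base change of `N` to a
pushout `C` of `R''_{p''}` and `S'` over `R'` is finitely presented over `C` and free over
`R''_{p''}`. -/
def StableCore (R S : Type u) [CommRing R] [CommRing S] [Algebra R S] (N : Type u)
    [AddCommGroup N] [Module S N] (p : Ideal R) [p.IsPrime] (q : Ideal S) [q.IsPrime] : Prop :=
  ∃ (R' S' : Type u) (_ : CommRing R') (_ : CommRing S') (_ : Algebra R R') (_ : Algebra S S')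
    (_ : Algebra R' S') (_ : Algebra R S') (_ : IsScalarTower R R' S') (_ : IsScalarTower R S S')
    (p' : Ideal R') (q' : Ideal S') (_ : p'.IsPrime) (_ : q'.IsPrime),
    FlatCA.IsEtaleNhd R R' p p' ∧ FlatCA.IsEtaleNhd S S' q q' ∧ q'.LiesOver p' ∧
    ∀ (R'' : Type u) [CommRing R''] [Algebra R' R''] (p'' : Ideal R'') [p''.IsPrime],
      FlatCA.IsEtaleNhd R' R'' p' p'' →
    ∀ (C : Type u) [CommRing C] [Algebra (Localization.AtPrime p'') C] [Algebra S' C] [Algebra R' C]
      [Algebra S C] [IsScalarTower R' (Localization.AtPrime p'') C] [IsScalarTower R' S' C]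
      [IsScalarTower S S' C] [Algebra.IsPushout R' (Localization.AtPrime p'') S' C]
      (NC : Type u) [AddCommGroup NC] [Module C NC] [Module S NC] [IsScalarTower S C NC]
      [Module (Localization.AtPrime p'') NC] [IsScalarTower (Localization.AtPrime p'') C NC]
      (f : N →ₗ[S] NC), IsBaseChange C f →
      Module.FinitePresentation C NC ∧ Module.Free (Localization.AtPrime p'') NC

set_option maxHeartbeats 1600000 in
theorem stableCore {R S : Type u} [CommRing R] [CommRing S] [Algebra R S] [Algebra.FiniteType R S]
    (N : Type u) [AddCommGroup N] [Module S N] [Module R N] [IsScalarTower R S N]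
    [Module.Finite S N]
    (p : Ideal R) [p.IsPrime] (q : Ideal S) [q.IsPrime] [hqp : q.LiesOver p]
    (hflat : FlatCA.FlatAt R q N) : StableCore R S N p q := by
  by_cases hsupp : ∃ x ∈ Module.support (p.Fiber S) (FlatCA.fiberMod p S N),
      x.asIdeal = FlatCA.fiberIdeal p q
  · obtain ⟨R', S', _, _, algRR', algSS', algR'S', algRS', twRR'S', twRSS', p', q', hp', hq', hEtR,
      hEtS, hq'p', hall⟩ := Groth.Agent.S1252.result N p q hsupp
    refine ⟨R', S', inferInstance, inferInstance, algRR', algSS', algR'S', algRS', twRR'S', twRSS',
      p', q', hp', hq', hEtR, hEtS, hq'p', ?_⟩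
    intro R'' _ _ p'' _ hEt C _ _ _ _ _ _ _ _ _ NC _ _ _ _ _ _ f hf
    haveI : Algebra.Etale R R' := hEtR.1
    haveI : Algebra.Etale S S' := hEtS.1
    haveI hq'q : q'.LiesOver q := hEtS.2.1
    have hK' := hall (S' ⊗[S] N) (TensorProduct.mk S S' N 1) (TensorProduct.isBaseChange S N S')
    haveI : Algebra.FiniteType R' S' := by
      haveI : Algebra.FiniteType S S' := inferInstance
      haveI : Algebra.FiniteType R S' := Algebra.FiniteType.trans (S := S) inferInstance inferInstance
      exact Algebra.FiniteType.of_restrictScalars_finiteType R R' S'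
    have hfl' : FlatCA.FlatAt R' q' (S' ⊗[S] N) :=
      (Groth.Agent.Lib.helper3.ElemDev.chain₁ (R := R) (R' := R') (TensorProduct.mk S S' N 1)
        (TensorProduct.isBaseChange S N S') (LinearEquiv.refl S' (S' ⊗[S] N)) q q').mp hflat
    letI modS'NC : Module S' NC := Module.compHom NC (algebraMap S' C)
    haveI twS'CNC : IsScalarTower S' C NC := IsScalarTower.of_algebraMap_smul fun _ _ => rfl
    haveI twSS'NC : IsScalarTower S S' NC := IsScalarTower.of_algebraMap_smul fun s x => by
      show algebraMap S' C (algebraMap S S' s) • x = s • x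
      rw [← IsScalarTower.algebraMap_apply S S' C, algebraMap_smul]
    let h : S' ⊗[S] N →ₗ[S'] NC := (TensorProduct.isBaseChange S N S').lift f
    have hcomp : (h.restrictScalars S).comp (TensorProduct.mk S S' N 1) = f := by
      ext n
      exact (TensorProduct.isBaseChange S N S').lift_eq f n
    have hh : IsBaseChange C h := by
      apply IsBaseChange.of_comp (TensorProduct.isBaseChange S N S')
      rw [hcomp]
      exact hf
    exact core_of_devissage' (S' ⊗[S] N) p' q' hfl' hK' R'' p'' hEt C NC h hh
  · obtain ⟨g, hgann, hgq⟩ := Groth.Agent.Lib.helper26.DevMain.exists_annihilator_notMem p N q hsupp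
    haveI hq'prime : (q.map (algebraMap S (Localization.Away g))).IsPrime :=
      Groth.Agent.Lib.helper3.Shrink.isPrime_map_away g (Localization.Away g) q hgq
    haveI hq'q : (q.map (algebraMap S (Localization.Away g))).LiesOver q :=
      ⟨(Groth.Agent.Lib.helper3.Shrink.under_map_away g (Localization.Away g) q hgq).symm⟩
    haveI hq'p : (q.map (algebraMap S (Localization.Away g))).LiesOver p :=
      Ideal.LiesOver.trans _ q p
    haveI : IsLocalization.Away (1 : R) R :=
      IsLocalization.away_of_isUnit_of_bijective R isUnit_one Function.bijective_id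
    haveI hpp : p.LiesOver p := ⟨rfl⟩
    refine ⟨R, Localization.Away g, inferInstance, inferInstance, inferInstance, inferInstance,
      inferInstance, inferInstance, inferInstance, inferInstance, p,
      q.map (algebraMap S (Localization.Away g)), inferInstance, inferInstance,
      Groth.Agent.Lib.helper26.DevMain.isEtaleNhd_away (1 : R) R p p,
      Groth.Agent.Lib.helper26.DevMain.isEtaleNhd_away g (Localization.Away g) q _, hq'p, ?_⟩
    intro R'' _ _ p'' _ hEt C _ _ _ _ _ _ _ _ _ NC _ _ _ _ _ _ f hf
    have hunit : IsUnit (algebraMap S C g) := by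
      rw [IsScalarTower.algebraMap_apply S (Localization.Away g) C]
      exact (IsLocalization.Away.algebraMap_isUnit g).map _
    haveI : Subsingleton NC := by
      refine subsingleton_of_forall_eq 0 fun x => ?_
      induction x using hf.inductionOn with
      | zero => rfl
      | tmul n =>
        obtain ⟨v, hv⟩ := hunit
        have h1 : g • n = 0 := Module.mem_annihilator.mp hgann n
        have h2 : algebraMap S C g • f n = 0 := by
          rw [algebraMap_smul, ← map_smul, h1, map_zero]
        rw [← hv] at h2
        have h3 := congrArg (fun y => (↑v⁻¹ : C) • y) h2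
        simpa [smul_smul] using h3
      | smul c x hx => rw [hx, smul_zero]
      | add a b ha hb => rw [ha, hb, add_zero]
    exact ⟨inferInstance, inferInstance⟩

end Groth.Agent.Lib.helper26.FibCov
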