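/-
Helper library (helper26): covering a fibre by elementary étale neighbourhoods (Raynaud–Gruson).
Part 4: transporting the local data at a point of the fibre to a common refinement.
-/
import Mathlib
import Groth.Agent.Lib.Helper26.FibCov3

set_option autoImplicit false
set_option linter.style.haveILetI false
set_option linter.unusedSectionVars false

namespace Groth.Agent.Lib.helper26.FibCov

open TensorProduct IsLocalRing

universe u

set_option maxHeartbeats 3200000 in
/-- the local data at one point, transported to a refinement `(R'', p'')` of `(R', p')` and a model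
`SA` of `S ⊗ R''_{p''}` -/
theorem exists_local_cover {R S R' S' : Type u} [CommRing R] [CommRing S] [CommRing R']
    [CommRing S'] [Algebra R S] [Algebra R R'] [Algebra S S'] [Algebra R' S'] [Algebra R S']
    [IsScalarTower R R' S'] [IsScalarTower R S S']
    (N : Type u) [AddCommGroup N] [Module S N]
    (p : Ideal R) [p.IsPrime] (q : Ideal S) [q.IsPrime]
    (p' : Ideal R') [p'.IsPrime] (q' : Ideal S') [q'.IsPrime]
    (hEtR : FlatCA.IsEtaleNhd R R' p p') (hEtS : FlatCA.IsEtaleNhd S S' q q')
    (hstab : ∀ (R'' : Type u) [CommRing R''] [Algebra R' R''] (p'' : Ideal R'') [p''.IsPrime],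
      FlatCA.IsEtaleNhd R' R'' p' p'' →
      ∀ (C : Type u) [CommRing C] [Algebra (Localization.AtPrime p'') C] [Algebra S' C]
        [Algebra R' C] [Algebra S C] [IsScalarTower R' (Localization.AtPrime p'') C]
        [IsScalarTower R' S' C] [IsScalarTower S S' C]
        [Algebra.IsPushout R' (Localization.AtPrime p'') S' C]
        (NC : Type u) [AddCommGroup NC] [Module C NC] [Module S NC] [IsScalarTower S C NC]
        [Module (Localization.AtPrime p'') NC] [IsScalarTower (Localization.AtPrime p'') C NC]
        (f : N →ₗ[S] NC), IsBaseChange C f →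
        Module.FinitePresentation C NC ∧ Module.Free (Localization.AtPrime p'') NC)
    (R'' : Type u) [CommRing R''] [Algebra R R''] (p'' : Ideal R'') [p''.IsPrime]
    (hEt'' : FlatCA.IsEtaleNhd R R'' p p'') (φ : R' →ₐ[R] R'') (hφ : p''.comap φ.toRingHom = p')
    (SA NA : Type u) [CommRing SA] [Algebra R SA] [Algebra S SA]
    [Algebra (Localization.AtPrime p'') SA]
    [IsScalarTower R S SA] [IsScalarTower R (Localization.AtPrime p'') SA]
    [Algebra.IsPushout R S (Localization.AtPrime p'') SA]
    [AddCommGroup NA] [Module SA NA] [Module S NA] [IsScalarTower S SA NA]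
    (f : N →ₗ[S] NA) (hf : IsBaseChange SA f) :
    ∃ (C : Type u) (_ : CommRing C) (_ : Algebra SA C) (_ : Algebra (Localization.AtPrime p'') C)
      (_ : IsScalarTower (Localization.AtPrime p'') SA C) (_ : Algebra S C)
      (_ : IsScalarTower S SA C),
      Algebra.Etale SA C ∧ Module.FinitePresentation C (C ⊗[SA] NA) ∧
      Module.Free (Localization.AtPrime p'') (C ⊗[SA] NA) ∧
      ∀ (y : Ideal S') [y.IsPrime], y.LiesOver p' →
        ∃ (x' : Ideal C), x'.IsPrime ∧ x'.LiesOver (maximalIdeal (Localization.AtPrime p'')) ∧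
          x'.comap (algebraMap S C) = y.comap (algebraMap S S') := by
  haveI : Algebra.Etale R R' := hEtR.1
  haveI : Algebra.Etale S S' := hEtS.1
  letI algR'R'' : Algebra R' R'' := φ.toRingHom.toAlgebra
  haveI twRR'R'' : IsScalarTower R R' R'' := IsScalarTower.of_algebraMap_eq fun r =>
    (φ.commutes r).symm
  haveI hp''p' : p''.LiesOver p' := ⟨hφ.symm⟩
  have hEt' : FlatCA.IsEtaleNhd R' R'' p' p'' := isEtaleNhd_cancel p p' p'' hEtR hEt''
  haveI twRR'A : IsScalarTower R R' (Localization.AtPrime p'') :=
    IsScalarTower.of_algebraMap_eq fun r => by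
      rw [IsScalarTower.algebraMap_apply R R'' (Localization.AtPrime p''),
        IsScalarTower.algebraMap_apply R' R'' (Localization.AtPrime p''),
        ← IsScalarTower.algebraMap_apply R R' R'']
  obtain ⟨C, _, algSAC, algAC, twASAC, algSC, twSSAC, algS'C, algR'C, twR'AC, twR'S'C, twSS'C, hpoC,
    hEtC⟩ := Groth.Agent.Lib.helper26.RGFlat.exists_model (R := R) (S := S) (R' := R') (S' := S')
      (Localization.AtPrime p'') SA
  haveI := hpoC
  have hfC : IsBaseChange C (((TensorProduct.mk SA C NA 1).restrictScalars S).comp f) :=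
    IsBaseChange.comp hf (TensorProduct.isBaseChange SA NA C)
  obtain ⟨hfp, hfree⟩ := hstab R'' p'' hEt' C (C ⊗[SA] NA) _ hfC
  refine ⟨C, inferInstance, algSAC, algAC, twASAC, algSC, twSSAC, hEtC, hfp, hfree, ?_⟩
  intro y hy hyp'
  haveI h𝔪p' : (maximalIdeal (Localization.AtPrime p'')).LiesOver p' :=
    Ideal.LiesOver.trans (maximalIdeal (Localization.AtPrime p'')) p'' p'
  have hκ : Function.Bijective (Ideal.ResidueField.mapₐ p'
      (maximalIdeal (Localization.AtPrime p'')) (Algebra.ofId R' (Localization.AtPrime p''))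
      h𝔪p'.over) :=
    Groth.Agent.Lib.helper26.GeomIrr.bijective_mapₐ_comp p' p'' _ hEt'.2.2
      (Groth.Agent.Lib.helper26.RGFlat.bijective_mapₐ_atPrime p'')
  obtain ⟨x', hx'prime, hx'𝔪, hx'y⟩ :=
    Groth.Agent.Lib.helper3.BijRes.exists_prime_over p' (maximalIdeal (Localization.AtPrime p''))
      hκ S' C y
  refine ⟨x', hx'prime, hx'𝔪, ?_⟩
  have h1 : x'.under S = (x'.under S').under S := by rw [Ideal.under_under]
  have h2 : x'.under S' = y := hx'y.over.symm
  show x'.under S = y.under S
  rw [h1, h2]

end Groth.Agent.Lib.helper26.FibCov
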