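/-
Helper library (helper26): covering a fibre by elementary étale neighbourhoods (Raynaud–Gruson).
Part 5: the covering theorem (family version): if `N` is flat at all points of the fibre over `p`
there are an elementary étale neighbourhood `(R'', p'')` of `(R, p)` and, over the local ring `A` of
`R''` at `p''`, finitely many étale `S_A`-algebras `C i` whose closed fibres cover the fibre of `S`
over `p`, with `C i ⊗ N_A` finitely presented over `C i` and free over `A`.
-/
import Mathlib
import Groth.Agent.Lib.Helper26.FibCov4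

set_option autoImplicit false
set_option linter.style.haveILetI false
set_option linter.unusedSectionVars false

namespace Groth.Agent.Lib.helper26.FibCov

open TensorProduct IsLocalRing

universe u

set_option maxHeartbeats 3200000 in
theorem exists_cover_free {R S : Type u} [CommRing R] [CommRing S] [Algebra R S]
    [Algebra.FiniteType R S]
    (N : Type u) [AddCommGroup N] [Module S N] [Module R N] [IsScalarTower R S N]
    [Module.Finite S N]
    (p : Ideal R) [p.IsPrime]
    (hflat : ∀ (q : Ideal S) [q.IsPrime], q.LiesOver p → FlatCA.FlatAt R q N) :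
    ∃ (R'' : Type u) (_ : CommRing R'') (_ : Algebra R R'') (p'' : Ideal R'') (_ : p''.IsPrime),
      FlatCA.IsEtaleNhd R R'' p p'' ∧
      ∀ (SA NA : Type u) [CommRing SA] [Algebra R SA] [Algebra S SA]
        [Algebra (Localization.AtPrime p'') SA]
        [IsScalarTower R S SA] [IsScalarTower R (Localization.AtPrime p'') SA]
        [Algebra.IsPushout R S (Localization.AtPrime p'') SA]
        [AddCommGroup NA] [Module SA NA] [Module S NA] [IsScalarTower S SA NA]
        (f : N →ₗ[S] NA), IsBaseChange SA f →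
        ∃ (ι : Type u) (_ : Finite ι) (C : ι → Type u) (_ : ∀ i, CommRing (C i))
          (_ : ∀ i, Algebra SA (C i)) (_ : ∀ i, Algebra (Localization.AtPrime p'') (C i))
          (_ : ∀ i, IsScalarTower (Localization.AtPrime p'') SA (C i))
          (_ : ∀ i, Algebra S (C i)) (_ : ∀ i, IsScalarTower S SA (C i)),
          (∀ i, Algebra.Etale SA (C i) ∧ Module.FinitePresentation (C i) (C i ⊗[SA] NA) ∧
            Module.Free (Localization.AtPrime p'') (C i ⊗[SA] NA)) ∧
          ∀ (q : Ideal S) [q.IsPrime], q.LiesOver p → ∃ (i : ι) (x' : Ideal (C i)), x'.IsPrime ∧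
            x'.LiesOver (maximalIdeal (Localization.AtPrime p'')) ∧
            x'.comap (algebraMap S (C i)) = q := by
  classical
  have hlocal : ∀ q : {q : PrimeSpectrum S // q.asIdeal.LiesOver p},
      StableCore R S N p q.1.asIdeal := fun q => by
    haveI := q.2
    exact stableCore N p q.1.asIdeal (hflat q.1.asIdeal q.2)
  unfold StableCore at hlocal
  choose R' S' cR' cS' aRR' aSS' aR'S' aRS' tw1 tw2 p' q' hp' hq' hEtR hEtS hq'p' hstab
    using hlocal
  have hUex : ∀ q : {q : PrimeSpectrum S // q.asIdeal.LiesOver p},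
      ∃ U : Set (PrimeSpectrum S), IsOpen U ∧ q.1 ∈ U ∧
        ∀ (q₂ : Ideal S) [hq₂ : q₂.IsPrime], q₂.LiesOver p →
          (⟨q₂, hq₂⟩ : PrimeSpectrum S) ∈ U →
          ∃ (y : Ideal (S' q)) (_ : y.IsPrime), y.LiesOver q₂ ∧ y.LiesOver (p' q) := fun q => by
    haveI := hq'p' q
    exact exists_open_hit p q.1.asIdeal (p' q) (q' q) (hEtR q) (hEtS q)
  choose U hUopen hUmem hUhit using hUex
  let U' : PrimeSpectrum S → Set (PrimeSpectrum S) := fun q =>
    if h : q.asIdeal.LiesOver p then U ⟨q, h⟩ else Set.univ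
  obtain ⟨T, hTover, hTcover⟩ := exists_finite_subcover p U' (fun q hq => by
    simp only [U', dif_pos hq]
    exact ⟨hUopen _, hUmem _⟩)
  let j : ↥T → {q : PrimeSpectrum S // q.asIdeal.LiesOver p} :=
    fun t => ⟨t.1, hTover t.1 t.2⟩
  obtain ⟨R'', cR'', aRR'', p'', hp'', hEt'', hφ⟩ :=
    exists_common_refinement p (fun t : ↥T => R' (j t)) (fun t => p' (j t))
      (fun t => hEtR (j t)) Finset.univ
  choose φ hφc using (fun t : ↥T => hφ t (Finset.mem_univ t))
  refine ⟨R'', cR'', aRR'', p'', hp'', hEt'', ?_⟩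
  intro SA NA _ _ _ _ _ _ _ _ _ _ _ f hf
  have hloc := fun t : ↥T => exists_local_cover N p (j t).1.asIdeal (p' (j t)) (q' (j t))
    (hEtR (j t)) (hEtS (j t)) (hstab (j t)) R'' p'' hEt'' (φ t) (hφc t) SA NA f hf
  choose C cC aSAC aAC twASAC aSC twSSAC hC using hloc
  refine ⟨↥T, inferInstance, C, cC, aSAC, aAC, twASAC, aSC, twSSAC,
    fun t => ⟨(hC t).1, (hC t).2.1, (hC t).2.2.1⟩, ?_⟩
  intro q hq hqp
  obtain ⟨q₀, hq₀T, hq₀⟩ := hTcover ⟨q, hq⟩ hqp
  have hq₀p := hTover q₀ hq₀T
  simp only [U', dif_pos hq₀p] at hq₀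
  obtain ⟨y, hy, hyq, hyp'⟩ := hUhit ⟨q₀, hq₀p⟩ q hqp hq₀
  obtain ⟨x', hx'prime, hx'𝔪, hx'⟩ := (hC ⟨q₀, hq₀T⟩).2.2.2 y hyp'
  refine ⟨⟨q₀, hq₀T⟩, x', hx'prime, hx'𝔪, ?_⟩
  rw [hx']
  exact hyq.over.symm

end Groth.Agent.Lib.helper26.FibCov
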