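/-
Helper library (helper26): covering a fibre by elementary étale neighbourhoods (Raynaud–Gruson).
Part 6: from an étale algebra `C` over `SA` with `C ⊗ NA` flat over `A` to a basic open of
`Spec SA` on which `NA` is flat over `A` (and finitely presented).
-/
import Mathlib
import Groth.Agent.Lib.Helper26.FibCov5
import Groth.Agent.Lib.Helper3.FlatAtLib2
import Groth.Agent.Lib.Helper3.FpLoc3

set_option autoImplicit false
set_option linter.style.haveILetI false
set_option linter.unusedSectionVars false

namespace Groth.Agent.Lib.helper26.FibCov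

open TensorProduct IsLocalRing

universe u

set_option maxHeartbeats 1600000 in
theorem exists_basicOpen_flat {A SA : Type u} [CommRing A] [CommRing SA] [Algebra A SA]
    (NA : Type u) [AddCommGroup NA] [Module SA NA] [Module A NA] [IsScalarTower A SA NA]
    (C : Type u) [CommRing C] [Algebra SA C] [Algebra A C] [IsScalarTower A SA C]
    [Algebra.Etale SA C] [Module.Flat A (C ⊗[SA] NA)] (x' : Ideal C) [hx' : x'.IsPrime] :
    ∃ g : SA, g ∉ x'.under SA ∧ Module.Flat A (LocalizedModule (Submonoid.powers g) NA) ∧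
      (Module.FinitePresentation C (C ⊗[SA] NA) →
        Module.FinitePresentation (Localization.Away g)
          (LocalizedModule (Submonoid.powers g) NA)) := by
  haveI : Module.Flat SA C := inferInstance
  haveI : Algebra.FinitePresentation SA C := inferInstance
  have hopen : IsOpenMap (PrimeSpectrum.comap (algebraMap SA C)) :=
    PrimeSpectrum.isOpenMap_comap_of_hasGoingDown_of_finitePresentation
  have hU : IsOpen (Set.range (PrimeSpectrum.comap (algebraMap SA C))) := hopen.isOpen_range
  haveI hQ₀prime : (x'.under SA).IsPrime := Ideal.IsPrime.under SA x'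
  have hQ₀U : (⟨x'.under SA, hQ₀prime⟩ : PrimeSpectrum SA) ∈
      Set.range (PrimeSpectrum.comap (algebraMap SA C)) := ⟨⟨x', hx'⟩, rfl⟩
  obtain ⟨_, ⟨g, rfl⟩, hQ₀g, hgU⟩ :=
    PrimeSpectrum.isTopologicalBasis_basic_opens.exists_subset_of_mem_open hQ₀U hU
  have hg2 : ∀ (P : Ideal SA) [P.IsPrime], g ∉ P →
      ∃ (Q' : Ideal C) (_ : Q'.IsPrime), Q'.under SA = P := by
    intro P hP hgP
    obtain ⟨Q', hQ'⟩ := hgU (show (⟨P, hP⟩ : PrimeSpectrum SA) ∈ _ from hgP)
    exact ⟨Q'.asIdeal, Q'.2, congrArg PrimeSpectrum.asIdeal hQ'⟩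
  refine ⟨g, hQ₀g, ?_, ?_⟩
  · rw [Groth.Agent.Lib.helper3.FlatAtLib.flat_away_iff]
    intro P hP hgP
    obtain ⟨Q', hQ'prime, hQ'P⟩ := @hg2 P hP hgP
    haveI := hQ'prime
    haveI : Q'.LiesOver P := ⟨hQ'P.symm⟩
    rw [Groth.Agent.Lib.helper3.FlatAtLib.flatAt_iff_of_isBaseChange (A := A)
      P Q' (TensorProduct.mk SA C NA 1) (TensorProduct.isBaseChange SA NA C)]
    exact flatAt_of_flat (C ⊗[SA] NA) Q'
  · intro hfp
    have hu : ∀ t : Submonoid.powers g, IsUnit
        (((algebraMap C (Localization (Submonoid.powers (algebraMap SA C g)))).comp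
          (algebraMap SA C)) t) := by
      rintro ⟨t, n, rfl⟩
      change IsUnit (algebraMap C (Localization (Submonoid.powers (algebraMap SA C g)))
        (algebraMap SA C (g ^ n)))
      rw [map_pow]
      exact IsLocalization.map_units (Localization (Submonoid.powers (algebraMap SA C g)))
        (⟨algebraMap SA C g ^ n, n, rfl⟩ : Submonoid.powers (algebraMap SA C g))
    have hff := Groth.Agent.Lib.helper3.FpLoc.bc_faithfullyFlat (A := SA) (B := C)
      (Submonoid.powers g) (Submonoid.powers (algebraMap SA C g)) hu (by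
        intro P hP hdisj
        have hgP : g ∉ P := fun h =>
          (Set.disjoint_left.mp hdisj) (Submonoid.mem_powers g) h
        obtain ⟨Q', hQ'prime, hQ'P⟩ := @hg2 P hP hgP
        refine ⟨Q', hQ'prime, ?_, ?_⟩
        · rw [Set.disjoint_left]
          rintro x ⟨n, rfl⟩ hx
          have h1 : algebraMap SA C g ∈ Q' := hQ'prime.mem_of_pow_mem n hx
          apply hgP
          rw [← hQ'P]
          exact h1
        · exact hQ'P)
    haveI := hfp
    exact Groth.Agent.Lib.helper3.FpLoc.fp_bc_down (A := SA) (B := C)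
      (TensorProduct.mk SA C NA 1) (TensorProduct.isBaseChange SA NA C)
      (Submonoid.powers g) (Submonoid.powers (algebraMap SA C g)) hu hff inferInstance

end Groth.Agent.Lib.helper26.FibCov
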