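/-
Helper library (helper26): covering a fibre by elementary étale neighbourhoods (Raynaud–Gruson).
Part 7: flatness and finite presentation of `N_A` near every point of the closed fibre of `S_A`.
-/
import Mathlib
import Groth.Agent.Lib.Helper26.FibCov6

set_option autoImplicit false
set_option linter.style.haveILetI false
set_option linter.unusedSectionVars false

namespace Groth.Agent.Lib.helper26.FibCov

open TensorProduct IsLocalRing

universe u

set_option maxHeartbeats 3200000 in
theorem exists_basicOpen_at {R S : Type u} [CommRing R] [CommRing S] [Algebra R S]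
    [Algebra.FiniteType R S]
    (N : Type u) [AddCommGroup N] [Module S N] [Module R N] [IsScalarTower R S N]
    [Module.Finite S N]
    (p : Ideal R) [p.IsPrime]
    (hflat : ∀ (q : Ideal S) [q.IsPrime], q.LiesOver p → FlatCA.FlatAt R q N) :
    ∃ (R' : Type u) (_ : CommRing R') (_ : Algebra R R') (p' : Ideal R') (_ : p'.IsPrime),
      FlatCA.IsEtaleNhd R R' p p' ∧
      ∀ (SA NA : Type u) [CommRing SA] [Algebra R SA] [Algebra S SA]
        [Algebra (Localization.AtPrime p') SA]
        [IsScalarTower R S SA] [IsScalarTower R (Localization.AtPrime p') SA]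
        [Algebra.IsPushout R S (Localization.AtPrime p') SA]
        [AddCommGroup NA] [Module SA NA] [Module S NA] [IsScalarTower S SA NA]
        [Module (Localization.AtPrime p') NA] [IsScalarTower (Localization.AtPrime p') SA NA]
        (f : N →ₗ[S] NA), IsBaseChange SA f →
        ∀ (Q : Ideal SA) [Q.IsPrime], Q.LiesOver (maximalIdeal (Localization.AtPrime p')) →
        ∃ g : SA, g ∉ Q ∧
          Module.FinitePresentation (Localization.Away g)
            (LocalizedModule (Submonoid.powers g) NA) ∧
          Module.Flat (Localization.AtPrime p') (LocalizedModule (Submonoid.powers g) NA) := by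
  obtain ⟨R', cR', aRR', p', hp', hEt, hall⟩ := exists_cover_free N p hflat
  refine ⟨R', cR', aRR', p', hp', hEt, ?_⟩
  intro SA NA _ _ _ _ _ _ _ _ _ _ _ _ _ f hf Q hQ hQ𝔪
  obtain ⟨ι, _, C, cC, aSAC, aAC, twASAC, aSC, twSSAC, hC, hcov⟩ := hall SA NA f hf
  obtain ⟨etR, hp'p, hbijR⟩ := hEt
  haveI := hp'p
  haveI h𝔪p : (maximalIdeal (Localization.AtPrime p')).LiesOver p :=
    Ideal.LiesOver.trans (maximalIdeal (Localization.AtPrime p')) p' p
  have hκRA : Function.Bijective (Ideal.ResidueField.mapₐ p
      (maximalIdeal (Localization.AtPrime p')) (Algebra.ofId R (Localization.AtPrime p'))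
      h𝔪p.over) :=
    Groth.Agent.Lib.helper26.GeomIrr.bijective_mapₐ_comp p p' _ hbijR
      (Groth.Agent.Lib.helper26.RGFlat.bijective_mapₐ_atPrime p')
  haveI hqprime : (Q.under S).IsPrime := Ideal.IsPrime.under S Q
  have hqp : (Q.under S).LiesOver p := by
    constructor
    rw [Ideal.under_under, ← Ideal.under_under (B := Localization.AtPrime p'), ← hQ𝔪.over]
    exact h𝔪p.over
  obtain ⟨i, x', hx'prime, hx'𝔪, hx'q⟩ := hcov (Q.under S) hqp
  haveI := hx'prime
  haveI : Algebra.IsPushout R (Localization.AtPrime p') S SA := Algebra.IsPushout.symm inferInstance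
  have h₂ : (x'.under SA).under (Localization.AtPrime p') =
      maximalIdeal (Localization.AtPrime p') := by
    rw [Ideal.under_under]
    exact hx'𝔪.over.symm
  have h₃ : Q.under S = (x'.under SA).under S := by
    rw [Ideal.under_under]
    exact hx'q.symm
  haveI : (x'.under SA).IsPrime := Ideal.IsPrime.under SA x'
  have hQeq : Q = x'.under SA :=
    Groth.Agent.Lib.helper3.BijRes.eq_of_under_eq p (maximalIdeal (Localization.AtPrime p'))
      hκRA.2 S SA Q (x'.under SA) hQ𝔪.over.symm h₂ h₃
  haveI := (hC i).1
  haveI := (hC i).2.2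
  haveI : Module.Flat (Localization.AtPrime p') (C i ⊗[SA] NA) := inferInstance
  obtain ⟨g, hg, hfl, hfp⟩ := exists_basicOpen_flat (A := Localization.AtPrime p') (SA := SA)
    NA (C i) x'
  refine ⟨g, ?_, hfp (hC i).2.1, hfl⟩
  rw [hQeq]
  exact hg

end Groth.Agent.Lib.helper26.FibCov
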