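/-
Helper library (helper26): covering a fibre by elementary étale neighbourhoods (Raynaud–Gruson).
Part 8: finite products of the covering algebras: freeness, finite presentation and primes.
-/
import Mathlib

set_option autoImplicit false
set_option linter.style.haveILetI false
set_option linter.unusedSectionVars false

namespace Groth.Agent.Lib.helper26.FibCov

open TensorProduct IsLocalRing

universe u

section Pi

variable {A SA : Type u} [CommRing A] [CommRing SA] [Algebra A SA]
  (NA : Type u) [AddCommGroup NA] [Module SA NA]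
  {ι : Type u} [Finite ι] (C : ι → Type u) [∀ i, CommRing (C i)] [∀ i, Algebra SA (C i)]
  [∀ i, Algebra A (C i)] [∀ i, IsScalarTower A SA (C i)]

/-- freeness over `A` passes to the finite product -/
theorem free_pi_tensor (h : ∀ i, Module.Free A (C i ⊗[SA] NA)) :
    Module.Free A ((∀ i, C i) ⊗[SA] NA) := by
  classical
  haveI := Fintype.ofFinite ι
  let e : ((∀ i, C i) ⊗[SA] NA) ≃ₗ[SA] ∀ i, C i ⊗[SA] NA := TensorProduct.piLeft SA NA C
  haveI := h
  haveI : Module.Free A (∀ i, C i ⊗[SA] NA) := Module.Free.pi _ _
  exact Module.Free.of_equiv (e.restrictScalars A).symm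

set_option maxHeartbeats 1600000 in
/-- finite presentation over the finite product ring -/
theorem finitePresentation_pi_tensor
    (h : ∀ i, Module.FinitePresentation (C i) (C i ⊗[SA] NA)) :
    Module.FinitePresentation (∀ i, C i) ((∀ i, C i) ⊗[SA] NA) := by
  classical
  haveI := Fintype.ofFinite ι
  -- the factors as modules over the product
  letI algC : ∀ i, Algebra (∀ i, C i) (C i) := fun i => (Pi.evalRingHom C i).toAlgebra
  haveI twSAC : ∀ i, IsScalarTower SA (∀ i, C i) (C i) := fun i =>
    IsScalarTower.of_algebraMap_eq fun _ => rfl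
  -- each factor is a finitely presented module over the product
  haveI fpC : ∀ i, Module.FinitePresentation (∀ i, C i) (C i) := fun i => by
    let l : (∀ i, C i) →ₗ[∀ i, C i] C i :=
      { toFun := fun c => c i
        map_add' := fun _ _ => rfl
        map_smul' := fun c x => rfl }
    have hl : Function.Surjective l := fun x => ⟨Pi.single i x, by simp [l]⟩
    refine Module.finitePresentation_of_surjective l hl ?_
    have hker : LinearMap.ker l = Ideal.span {(1 : ∀ i, C i) - Pi.single i 1} := by
      apply le_antisymm
      · intro x hx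
        have hxi : x i = 0 := hx
        have : x = x * ((1 : ∀ i, C i) - Pi.single i 1) := by
          funext j
          by_cases hj : j = i
          · subst hj
            simp [hxi]
          · simp [Pi.single_eq_of_ne hj]
        rw [this]
        exact Ideal.mul_mem_left _ _ (Ideal.subset_span rfl)
      · rw [Ideal.span_le]
        rintro _ rfl
        show l _ = 0
        simp [l]
    rw [hker]
    exact ⟨{(1 : ∀ i, C i) - Pi.single i 1}, by simp⟩
  haveI fpM : ∀ i, Module.FinitePresentation (∀ i, C i) (C i ⊗[SA] NA) := fun i => by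
    haveI := h i
    exact Module.FinitePresentation.trans (∀ i, C i) (C i ⊗[SA] NA) (C i)
  haveI : Module.FinitePresentation (∀ i, C i) (∀ i, C i ⊗[SA] NA) :=
    Module.FinitePresentation.pi _
  -- the comparison map is linear over the product
  let e₀ : ((∀ i, C i) ⊗[SA] NA) ≃ₗ[SA] ∀ i, C i ⊗[SA] NA := TensorProduct.piLeft SA NA C
  have he₀ : ∀ (c : ∀ i, C i) (n : NA), e₀ (c ⊗ₜ n) = fun i => c i ⊗ₜ n := by
    intro c n
    simp [e₀]
    rfl
  let e : ((∀ i, C i) ⊗[SA] NA) ≃ₗ[∀ i, C i] ∀ i, C i ⊗[SA] NA :=
    { e₀ with
      map_smul' := fun c z => by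
        show e₀ (c • z) = c • e₀ z
        induction z using TensorProduct.induction_on with
        | zero => simp
        | tmul c' n =>
          rw [TensorProduct.smul_tmul', he₀, he₀]
          funext i
          show (c i * c' i) ⊗ₜ[SA] n = c • (c' i ⊗ₜ[SA] n)
          rw [TensorProduct.smul_tmul']
          rfl
        | add a b ha hb =>
          rw [smul_add, map_add, ha, hb, map_add, smul_add] }
  exact Module.FinitePresentation.of_equiv e.symm

end Pi

/-- primes of a factor give primes of the product -/
theorem exists_prime_pi {S A : Type u} [CommRing S] [CommRing A] {ι : Type u} (C : ι → Type u)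
    [∀ i, CommRing (C i)] [∀ i, Algebra S (C i)] [∀ i, Algebra A (C i)]
    (𝔪 : Ideal A) (i : ι) (x' : Ideal (C i)) [hx' : x'.IsPrime] [hx'𝔪 : x'.LiesOver 𝔪] :
    ∃ X' : Ideal (∀ i, C i), X'.IsPrime ∧
      X'.comap (algebraMap S (∀ i, C i)) = x'.comap (algebraMap S (C i)) ∧ X'.LiesOver 𝔪 := by
  refine ⟨x'.comap (Pi.evalRingHom C i), Ideal.comap_isPrime _ _, ?_, ⟨?_⟩⟩
  · exact Ideal.ext fun s => Iff.rfl
  · rw [hx'𝔪.over]
    exact Ideal.ext fun s => Iff.rfl

end Groth.Agent.Lib.helper26.FibCov
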