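/-
Helper library (helper26): covering a fibre by elementary étale neighbourhoods (Raynaud–Gruson).
Part 9: the covering theorem with a single étale algebra (the finite product).
-/
import Mathlib
import Groth.Agent.Lib.Helper26.FibCov5
import Groth.Agent.Lib.Helper26.FibCov8

set_option autoImplicit false
set_option linter.style.haveILetI false
set_option linter.unusedSectionVars false

namespace Groth.Agent.Lib.helper26.FibCov

open TensorProduct IsLocalRing

universe u

set_option maxHeartbeats 3200000 in
theorem exists_cover_free_pi {R S : Type u} [CommRing R] [CommRing S] [Algebra R S]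
    [Algebra.FiniteType R S]
    (N : Type u) [AddCommGroup N] [Module S N] [Module R N] [IsScalarTower R S N]
    [Module.Finite S N]
    (p : Ideal R) [p.IsPrime]
    (hflat : ∀ (q : Ideal S) [q.IsPrime], q.LiesOver p → FlatCA.FlatAt R q N) :
    ∃ (R' : Type u) (_ : CommRing R') (_ : Algebra R R') (p' : Ideal R') (_ : p'.IsPrime),
      FlatCA.IsEtaleNhd R R' p p' ∧
      ∀ (SA NA : Type u) [CommRing SA] [Algebra R SA] [Algebra S SA]
        [Algebra (Localization.AtPrime p') SA]
        [IsScalarTower R S SA] [IsScalarTower R (Localization.AtPrime p') SA]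
        [Algebra.IsPushout R S (Localization.AtPrime p') SA]
        [AddCommGroup NA] [Module SA NA] [Module S NA] [IsScalarTower S SA NA]
        (f : N →ₗ[S] NA), IsBaseChange SA f →
        ∃ (C : Type u) (_ : CommRing C) (_ : Algebra SA C)
          (_ : Algebra (Localization.AtPrime p') C)
          (_ : IsScalarTower (Localization.AtPrime p') SA C) (_ : Algebra S C)
          (_ : IsScalarTower S SA C),
          Algebra.Etale SA C ∧
          (∀ (q : Ideal S) [q.IsPrime], q.LiesOver p → ∃ x' : Ideal C, x'.IsPrime ∧
            x'.comap (algebraMap S C) = q ∧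
            x'.LiesOver (maximalIdeal (Localization.AtPrime p'))) ∧
          Module.FinitePresentation C (C ⊗[SA] NA) ∧
          Module.Free (Localization.AtPrime p') (C ⊗[SA] NA) := by
  obtain ⟨R', cR', aRR', p', hp', hEt, hall⟩ := exists_cover_free N p hflat
  refine ⟨R', cR', aRR', p', hp', hEt, ?_⟩
  intro SA NA _ _ _ _ _ _ _ _ _ _ _ f hf
  obtain ⟨ι, hι, C, cC, aSAC, aAC, twASAC, aSC, twSSAC, hC, hcov⟩ := hall SA NA f hf
  haveI : ∀ i, Algebra.Etale SA (C i) := fun i => (hC i).1
  refine ⟨∀ i, C i, inferInstance, inferInstance, inferInstance, inferInstance, inferInstance,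
    inferInstance, inferInstance, ?_, ?_, ?_⟩
  · intro q hq hqp
    obtain ⟨i, x', hx'prime, hx'𝔪, hx'q⟩ := hcov q hqp
    haveI := hx'prime
    haveI := hx'𝔪
    obtain ⟨X', hX'prime, hX'q, hX'𝔪⟩ := exists_prime_pi (S := S)
      (A := Localization.AtPrime p') C (maximalIdeal (Localization.AtPrime p')) i x'
    exact ⟨X', hX'prime, hX'q.trans hx'q, hX'𝔪⟩
  · exact finitePresentation_pi_tensor NA C fun i => (hC i).2.1
  · exact free_pi_tensor (A := Localization.AtPrime p') NA C fun i => (hC i).2.2

end Groth.Agent.Lib.helper26.FibCov
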