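/-
Helper library (helper26): the complete dévissage of a zero module.
-/
import Mathlib
import Groth.Prelude.Def_FlatCA

set_option autoImplicit false
set_option linter.style.haveILetI false
set_option linter.unusedSectionVars false

namespace Groth.Agent.Lib.helper26.ZeroDev

open AlgebraicGeometry CategoryTheory TensorProduct

universe u

/-- an isomorphism is geometrically irreducible -/
theorem geomIrredFibres_self (R : Type u) [CommRing R] : FlatCA.GeomIrredFibres R R := by
  constructor
  intro K _ y Z fst snd h
  have hiso : IsIso (Spec.map (CommRingCat.ofHom (algebraMap R R))) := by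
    have : algebraMap R R = RingHom.id R := rfl
    rw [this]
    have h2 : CommRingCat.ofHom (RingHom.id R) = 𝟙 (CommRingCat.of R) := rfl
    rw [h2, Spec.map_id]
    infer_instance
  haveI : IsIso snd := h.isIso_snd_of_isIso
  have e : Z ≅ Spec (.of K) := asIso snd
  exact (e.hom.homeomorph).symm.surjective.irreducibleSpace (e.hom.homeomorph).symm.continuous

/-- the complete dévissage (one step, rank zero) of a zero module -/
noncomputable def zeroDevissage (R S : Type u) [CommRing R] [CommRing S] [Algebra R S] (N : Type u)
    [AddCommGroup N] [Module S N] [Subsingleton N] (rr : Ideal R) [hrr : rr.IsPrime] :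
    FlatCA.CompleteDevissage R S N rr :=
  letI tRS : IsScalarTower R S PUnit.{u + 1} := ⟨fun _ _ _ => rfl⟩
  letI tRR : IsScalarTower R R PUnit.{u + 1} := ⟨fun _ _ _ => rfl⟩
  letI tRP : IsScalarTower R PUnit.{u + 1} PUnit.{u + 1} := ⟨fun _ _ _ => rfl⟩
  letI tSP : IsScalarTower S PUnit.{u + 1} PUnit.{u + 1} := ⟨fun _ _ _ => rfl⟩
  haveI hp : (rr.map (algebraMap R R)).IsPrime := by
    have : rr.map (algebraMap R R) = rr := Ideal.map_id rr
    rw [this]
    exact hrr
  { n := 1
    pos := Nat.one_pos
    A := fun _ => PUnit.{u + 1}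
    B := fun _ => R
    M := fun _ => PUnit.{u + 1}
    r := fun _ => 0
    hp := fun _ => hp
    α := fun _ => 0
    surjSA := fun _ => ⟨0, rfl⟩
    fpSA := by
      refine Algebra.FinitePresentation.of_surjective (f := Algebra.ofId S PUnit.{u + 1})
        (fun _ => ⟨0, rfl⟩) ?_
      have : RingHom.ker (Algebra.ofId S PUnit.{u + 1}).toRingHom = ⊤ := by
        rw [Ideal.eq_top_iff_one]
        rfl
      rw [this]
      exact ⟨{1}, by simp⟩
    surjBA' := fun i hi => absurd hi (by omega)
    fpBA' := fun i hi => absurd hi (by omega)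
    finiteBA := fun _ _ => Module.Finite.of_surjective (0 : R →ₗ[R] PUnit.{u + 1})
      (fun _ => ⟨0, rfl⟩)
    smooth := fun _ _ => inferInstance
    geomIrred := fun _ _ => geomIrredFibres_self R
    finiteM := fun _ _ => inferInstance
    isoN := LinearEquiv.ofSubsingleton N PUnit.{u + 1}
    isoCoker := fun i hi => absurd hi (by omega)
    fibreIso := fun _ _ => by
      haveI : Subsingleton ((rr.map (algebraMap R R)).ResidueField ⊗[R] (Fin 0 → R)) :=
        inferInstance
      haveI : Subsingleton ((rr.map (algebraMap R R)).ResidueField ⊗[R] PUnit.{u + 1}) :=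
        inferInstance
      exact ⟨fun _ _ _ => Subsingleton.elim _ _, fun y => ⟨0, Subsingleton.elim _ _⟩⟩
    cokerLast := fun _ => ⟨0, rfl⟩ }

end Groth.Agent.Lib.helper26.ZeroDev
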