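/-
Helper library (helper26): covering a fibre by elementary étale neighbourhoods carrying complete
dévissages (Raynaud–Gruson). Part 1: the local statement, stable under étale localisation of the
base, and its transport to a refinement.
-/
import Mathlib
import Groth.Agent.Lib.Helper26.FibCov2
import Groth.Agent.Lib.Helper26.ZeroDev

set_option autoImplicit false
set_option linter.style.haveILetI false
set_option linter.unusedSectionVars false

namespace Groth.Agent.Lib.helper26.FibCov

open TensorProduct IsLocalRing

universe u

/-- Existence of complete dévissages after étale localisation, stable under further étale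
localisation of the base. -/
def StableDev (R S : Type u) [CommRing R] [CommRing S] [Algebra R S] (N : Type u)
    [AddCommGroup N] [Module S N] (p : Ideal R) [p.IsPrime] (q : Ideal S) [q.IsPrime] : Prop :=
  ∃ (R' S' : Type u) (_ : CommRing R') (_ : CommRing S') (_ : Algebra R R') (_ : Algebra S S')
    (_ : Algebra R' S') (_ : Algebra R S') (_ : IsScalarTower R R' S') (_ : IsScalarTower R S S')
    (p' : Ideal R') (q' : Ideal S') (_ : p'.IsPrime) (_ : q'.IsPrime),
    FlatCA.IsEtaleNhd R R' p p' ∧ FlatCA.IsEtaleNhd S S' q q' ∧ q'.LiesOver p' ∧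
    ∀ (R'' : Type u) [CommRing R''] [Algebra R' R''] (p'' : Ideal R'') [p''.IsPrime],
      FlatCA.IsEtaleNhd R' R'' p' p'' →
    ∀ (C : Type u) [CommRing C] [Algebra R'' C] [Algebra S' C] [Algebra R' C]
      [Algebra S C] [IsScalarTower R' R'' C] [IsScalarTower R' S' C]
      [IsScalarTower S S' C] [Algebra.IsPushout R' R'' S' C]
      (NC : Type u) [AddCommGroup NC] [Module C NC] [Module S NC] [IsScalarTower S C NC]
      (f : N →ₗ[S] NC), IsBaseChange C f → Nonempty (FlatCA.CompleteDevissage R'' C NC p'')

set_option maxHeartbeats 1600000 in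
theorem stableDev {R S : Type u} [CommRing R] [CommRing S] [Algebra R S] [Algebra.FiniteType R S]
    (N : Type u) [AddCommGroup N] [Module S N] [Module R N] [IsScalarTower R S N]
    [Module.Finite S N]
    (p : Ideal R) [p.IsPrime] (q : Ideal S) [q.IsPrime] [hqp : q.LiesOver p] :
    StableDev R S N p q := by
  by_cases hsupp : ∃ x ∈ Module.support (p.Fiber S) (FlatCA.fiberMod p S N),
      x.asIdeal = FlatCA.fiberIdeal p q
  · obtain ⟨R', S', _, _, algRR', algSS', algR'S', algRS', twRR'S', twRSS', p', q', hp', hq', hEtR,
      hEtS, hq'p', hall⟩ := Groth.Agent.S1252.result N p q hsupp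
    refine ⟨R', S', inferInstance, inferInstance, algRR', algSS', algR'S', algRS', twRR'S', twRSS',
      p', q', hp', hq', hEtR, hEtS, hq'p', ?_⟩
    intro R'' _ _ p'' _ hEt C _ _ _ _ _ _ _ _ _ NC _ _ _ _ f hf
    haveI : Algebra.Etale R R' := hEtR.1
    haveI : Algebra.Etale S S' := hEtS.1
    haveI hq'q : q'.LiesOver q := hEtS.2.1
    have hK' := hall (S' ⊗[S] N) (TensorProduct.mk S S' N 1) (TensorProduct.isBaseChange S N S')
    haveI : Algebra.FiniteType R' S' := by
      haveI : Algebra.FiniteType S S' := inferInstance
      haveI : Algebra.FiniteType R S' := Algebra.FiniteType.trans (S := S) inferInstance inferInstance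
      exact Algebra.FiniteType.of_restrictScalars_finiteType R R' S'
    letI modS'NC : Module S' NC := Module.compHom NC (algebraMap S' C)
    haveI twS'CNC : IsScalarTower S' C NC := IsScalarTower.of_algebraMap_smul fun _ _ => rfl
    haveI twSS'NC : IsScalarTower S S' NC := IsScalarTower.of_algebraMap_smul fun s x => by
      show algebraMap S' C (algebraMap S S' s) • x = s • x
      rw [← IsScalarTower.algebraMap_apply S S' C, algebraMap_smul]
    let h : S' ⊗[S] N →ₗ[S'] NC := (TensorProduct.isBaseChange S N S').lift f
    have hcomp : (h.restrictScalars S).comp (TensorProduct.mk S S' N 1) = f := by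
      ext n
      exact (TensorProduct.isBaseChange S N S').lift_eq f n
    have hh : IsBaseChange C h := by
      apply IsBaseChange.of_comp (TensorProduct.isBaseChange S N S')
      rw [hcomp]
      exact hf
    obtain ⟨et, hp''p', hκ⟩ := hEt
    haveI := hp''p'
    obtain ⟨x', hx'prime, hx'p'', hx'q'⟩ :=
      Groth.Agent.Lib.helper3.BijRes.exists_prime_over p' p'' hκ S' C q'
    haveI := hx'prime
    haveI := hx'p''
    haveI := hx'q'
    obtain ⟨D, -⟩ := Groth.Agent.Lib.helper26.DevTr.hasCompleteDevissageAt_baseChange R' S'
      (S' ⊗[S] N) p' q' hK' R'' p'' hκ C NC h hh x'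
    exact ⟨D⟩
  · obtain ⟨g, hgann, hgq⟩ := Groth.Agent.Lib.helper26.DevMain.exists_annihilator_notMem p N q hsupp
    haveI hq'prime : (q.map (algebraMap S (Localization.Away g))).IsPrime :=
      Groth.Agent.Lib.helper3.Shrink.isPrime_map_away g (Localization.Away g) q hgq
    haveI hq'q : (q.map (algebraMap S (Localization.Away g))).LiesOver q :=
      ⟨(Groth.Agent.Lib.helper3.Shrink.under_map_away g (Localization.Away g) q hgq).symm⟩
    haveI hq'p : (q.map (algebraMap S (Localization.Away g))).LiesOver p :=
      Ideal.LiesOver.trans _ q p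
    haveI : IsLocalization.Away (1 : R) R :=
      IsLocalization.away_of_isUnit_of_bijective R isUnit_one Function.bijective_id
    haveI hpp : p.LiesOver p := ⟨rfl⟩
    refine ⟨R, Localization.Away g, inferInstance, inferInstance, inferInstance, inferInstance,
      inferInstance, inferInstance, inferInstance, inferInstance, p,
      q.map (algebraMap S (Localization.Away g)), inferInstance, inferInstance,
      Groth.Agent.Lib.helper26.DevMain.isEtaleNhd_away (1 : R) R p p,
      Groth.Agent.Lib.helper26.DevMain.isEtaleNhd_away g (Localization.Away g) q _, hq'p, ?_⟩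
    intro R'' _ _ p'' _ hEt C _ _ _ _ _ _ _ _ _ NC _ _ _ _ f hf
    have hunit : IsUnit (algebraMap S C g) := by
      rw [IsScalarTower.algebraMap_apply S (Localization.Away g) C]
      exact (IsLocalization.Away.algebraMap_isUnit g).map _
    haveI : Subsingleton NC := by
      refine subsingleton_of_forall_eq 0 fun x => ?_
      induction x using hf.inductionOn with
      | zero => rfl
      | tmul n =>
        obtain ⟨v, hv⟩ := hunit
        have h1 : g • n = 0 := Module.mem_annihilator.mp hgann n
        have h2 : algebraMap S C g • f n = 0 := by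
          rw [algebraMap_smul, ← map_smul, h1, map_zero]
        rw [← hv] at h2
        have h3 := congrArg (fun y => (↑v⁻¹ : C) • y) h2
        simpa [smul_smul] using h3
      | smul c x hx => rw [hx, smul_zero]
      | add a b ha hb => rw [ha, hb, add_zero]
    exact ⟨Groth.Agent.Lib.helper26.ZeroDev.zeroDevissage R'' C NC p''⟩

end Groth.Agent.Lib.helper26.FibCov
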