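/-
Helper library (helper26): covering a fibre by elementary étale neighbourhoods carrying complete
dévissages (Raynaud–Gruson). Part 2: transport to a refinement and the covering theorem.
-/
import Mathlib
import Groth.Agent.Lib.Helper26.FibCovD1

set_option autoImplicit false
set_option linter.style.haveILetI false
set_option linter.unusedSectionVars false

namespace Groth.Agent.Lib.helper26.FibCov

open TensorProduct IsLocalRing

universe u

set_option maxHeartbeats 3200000 in
/-- the local dévissage data at one point, transported to a refinement `(R'', p'')` of `(R', p')`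
and a model `SA` of `S ⊗ R''` -/
theorem exists_local_cover_dev {R S R' S' : Type u} [CommRing R] [CommRing S] [CommRing R']
    [CommRing S'] [Algebra R S] [Algebra R R'] [Algebra S S'] [Algebra R' S'] [Algebra R S']
    [IsScalarTower R R' S'] [IsScalarTower R S S']
    (N : Type u) [AddCommGroup N] [Module S N]
    (p : Ideal R) [p.IsPrime] (q : Ideal S) [q.IsPrime]
    (p' : Ideal R') [p'.IsPrime] (q' : Ideal S') [q'.IsPrime]
    (hEtR : FlatCA.IsEtaleNhd R R' p p') (hEtS : FlatCA.IsEtaleNhd S S' q q')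
    (hstab : ∀ (R'' : Type u) [CommRing R''] [Algebra R' R''] (p'' : Ideal R'') [p''.IsPrime],
      FlatCA.IsEtaleNhd R' R'' p' p'' →
      ∀ (C : Type u) [CommRing C] [Algebra R'' C] [Algebra S' C] [Algebra R' C]
        [Algebra S C] [IsScalarTower R' R'' C] [IsScalarTower R' S' C]
        [IsScalarTower S S' C] [Algebra.IsPushout R' R'' S' C]
        (NC : Type u) [AddCommGroup NC] [Module C NC] [Module S NC] [IsScalarTower S C NC]
        (f : N →ₗ[S] NC), IsBaseChange C f → Nonempty (FlatCA.CompleteDevissage R'' C NC p''))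
    (R'' : Type u) [CommRing R''] [Algebra R R''] (p'' : Ideal R'') [p''.IsPrime]
    (hEt'' : FlatCA.IsEtaleNhd R R'' p p'') (φ : R' →ₐ[R] R'') (hφ : p''.comap φ.toRingHom = p')
    (SA NA : Type u) [CommRing SA] [Algebra R SA] [Algebra S SA] [Algebra R'' SA]
    [IsScalarTower R S SA] [IsScalarTower R R'' SA] [Algebra.IsPushout R S R'' SA]
    [AddCommGroup NA] [Module SA NA] [Module S NA] [IsScalarTower S SA NA]
    (f : N →ₗ[S] NA) (hf : IsBaseChange SA f) :
    ∃ (C : Type u) (_ : CommRing C) (_ : Algebra SA C) (_ : Algebra R'' C)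
      (_ : IsScalarTower R'' SA C) (_ : Algebra S C) (_ : IsScalarTower S SA C),
      Algebra.Etale SA C ∧ Nonempty (FlatCA.CompleteDevissage R'' C (C ⊗[SA] NA) p'') ∧
      ∀ (y : Ideal S') [y.IsPrime], y.LiesOver p' →
        ∃ (x' : Ideal C), x'.IsPrime ∧ x'.LiesOver p'' ∧
          x'.comap (algebraMap S C) = y.comap (algebraMap S S') := by
  haveI : Algebra.Etale R R' := hEtR.1
  haveI : Algebra.Etale S S' := hEtS.1
  letI algR'R'' : Algebra R' R'' := φ.toRingHom.toAlgebra
  haveI twRR'R'' : IsScalarTower R R' R'' := IsScalarTower.of_algebraMap_eq fun r =>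
    (φ.commutes r).symm
  haveI hp''p' : p''.LiesOver p' := ⟨hφ.symm⟩
  have hEt' : FlatCA.IsEtaleNhd R' R'' p' p'' := isEtaleNhd_cancel p p' p'' hEtR hEt''
  obtain ⟨C, _, algSAC, algAC, twASAC, algSC, twSSAC, algS'C, algR'C, twR'AC, twR'S'C, twSS'C, hpoC,
    hEtC⟩ := Groth.Agent.Lib.helper26.RGFlat.exists_model (R := R) (S := S) (R' := R') (S' := S')
      R'' SA
  haveI := hpoC
  have hfC : IsBaseChange C (((TensorProduct.mk SA C NA 1).restrictScalars S).comp f) :=
    IsBaseChange.comp hf (TensorProduct.isBaseChange SA NA C)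
  have hD := hstab R'' p'' hEt' C (C ⊗[SA] NA) _ hfC
  refine ⟨C, inferInstance, algSAC, algAC, twASAC, algSC, twSSAC, hEtC, hD, ?_⟩
  intro y hy hyp'
  obtain ⟨x', hx'prime, hx'p'', hx'y⟩ :=
    Groth.Agent.Lib.helper3.BijRes.exists_prime_over p' p'' hEt'.2.2 S' C y
  refine ⟨x', hx'prime, hx'p'', ?_⟩
  have h1 : x'.under S = (x'.under S').under S := by rw [Ideal.under_under]
  have h2 : x'.under S' = y := hx'y.over.symm
  show x'.under S = y.under S
  rw [h1, h2]

end Groth.Agent.Lib.helper26.FibCov
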