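/-
Helper library (helper26): covering a fibre by elementary étale neighbourhoods carrying complete
dévissages (Raynaud–Gruson). Part 3: the covering theorem (family version).
-/
import Mathlib
import Groth.Agent.Lib.Helper26.FibCovD2

set_option autoImplicit false
set_option linter.style.haveILetI false
set_option linter.unusedSectionVars false

namespace Groth.Agent.Lib.helper26.FibCov

open TensorProduct IsLocalRing

universe u

set_option maxHeartbeats 3200000 in
theorem exists_cover_dev {R S : Type u} [CommRing R] [CommRing S] [Algebra R S]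
    [Algebra.FiniteType R S]
    (N : Type u) [AddCommGroup N] [Module S N] [Module R N] [IsScalarTower R S N]
    [Module.Finite S N]
    (p : Ideal R) [p.IsPrime] :
    ∃ (R'' : Type u) (_ : CommRing R'') (_ : Algebra R R'') (p'' : Ideal R'') (_ : p''.IsPrime),
      FlatCA.IsEtaleNhd R R'' p p'' ∧
      ∀ (SA NA : Type u) [CommRing SA] [Algebra S SA] [Algebra R'' SA] [Algebra R SA]
        [IsScalarTower R S SA] [IsScalarTower R R'' SA] [Algebra.IsPushout R S R'' SA]
        [AddCommGroup NA] [Module SA NA] [Module S NA] [IsScalarTower S SA NA]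
        (f : N →ₗ[S] NA), IsBaseChange SA f →
        ∃ (ι : Type u) (_ : Finite ι) (C : ι → Type u) (_ : ∀ i, CommRing (C i))
          (_ : ∀ i, Algebra SA (C i)) (_ : ∀ i, Algebra R'' (C i))
          (_ : ∀ i, IsScalarTower R'' SA (C i)),
          (∀ i, Algebra.Etale SA (C i) ∧
            Nonempty (FlatCA.CompleteDevissage R'' (C i) (C i ⊗[SA] NA) p'')) ∧
          ∀ (Q : Ideal SA) [Q.IsPrime], Q.LiesOver p'' → ∃ (i : ι) (Q' : Ideal (C i)),
            Q'.IsPrime ∧ Q'.comap (algebraMap SA (C i)) = Q := by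
  classical
  have hlocal : ∀ q : {q : PrimeSpectrum S // q.asIdeal.LiesOver p},
      StableDev R S N p q.1.asIdeal := fun q => by
    haveI := q.2
    exact stableDev N p q.1.asIdeal
  unfold StableDev at hlocal
  choose R' S' cR' cS' aRR' aSS' aR'S' aRS' tw1 tw2 p' q' hp' hq' hEtR hEtS hq'p' hstab
    using hlocal
  have hUex : ∀ q : {q : PrimeSpectrum S // q.asIdeal.LiesOver p},
      ∃ U : Set (PrimeSpectrum S), IsOpen U ∧ q.1 ∈ U ∧
        ∀ (q₂ : Ideal S) [hq₂ : q₂.IsPrime], q₂.LiesOver p →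
          (⟨q₂, hq₂⟩ : PrimeSpectrum S) ∈ U →
          ∃ (y : Ideal (S' q)) (_ : y.IsPrime), y.LiesOver q₂ ∧ y.LiesOver (p' q) := fun q => by
    haveI := hq'p' q
    exact exists_open_hit p q.1.asIdeal (p' q) (q' q) (hEtR q) (hEtS q)
  choose U hUopen hUmem hUhit using hUex
  let U' : PrimeSpectrum S → Set (PrimeSpectrum S) := fun q =>
    if h : q.asIdeal.LiesOver p then U ⟨q, h⟩ else Set.univ
  obtain ⟨T, hTover, hTcover⟩ := exists_finite_subcover p U' (fun q hq => by
    simp only [U', dif_pos hq]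
    exact ⟨hUopen _, hUmem _⟩)
  let j : ↥T → {q : PrimeSpectrum S // q.asIdeal.LiesOver p} :=
    fun t => ⟨t.1, hTover t.1 t.2⟩
  obtain ⟨R'', cR'', aRR'', p'', hp'', hEt'', hφ⟩ :=
    exists_common_refinement p (fun t : ↥T => R' (j t)) (fun t => p' (j t))
      (fun t => hEtR (j t)) Finset.univ
  choose φ hφc using (fun t : ↥T => hφ t (Finset.mem_univ t))
  refine ⟨R'', cR'', aRR'', p'', hp'', hEt'', ?_⟩
  intro SA NA _ _ _ _ _ _ _ _ _ _ _ f hf
  have hloc := fun t : ↥T => exists_local_cover_dev N p (j t).1.asIdeal (p' (j t)) (q' (j t))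
    (hEtR (j t)) (hEtS (j t)) (hstab (j t)) R'' p'' hEt'' (φ t) (hφc t) SA NA f hf
  choose C cC aSAC aAC twASAC aSC twSSAC hC using hloc
  refine ⟨↥T, inferInstance, C, cC, aSAC, aAC, twASAC, fun t => ⟨(hC t).1, (hC t).2.1⟩, ?_⟩
  intro Q hQ hQp''
  obtain ⟨etR, hp''p, hκ⟩ := hEt''
  haveI := hp''p
  haveI hqprime : (Q.under S).IsPrime := Ideal.IsPrime.under S Q
  have hqp : (Q.under S).LiesOver p := by
    constructor
    rw [Ideal.under_under, ← Ideal.under_under (B := R''), ← hQp''.over]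
    exact hp''p.over
  obtain ⟨q₀, hq₀T, hq₀⟩ := hTcover ⟨Q.under S, hqprime⟩ hqp
  have hq₀p := hTover q₀ hq₀T
  simp only [U', dif_pos hq₀p] at hq₀
  obtain ⟨y, hy, hyq, hyp'⟩ := hUhit ⟨q₀, hq₀p⟩ (Q.under S) hqp hq₀
  obtain ⟨x', hx'prime, hx'p'', hx'⟩ := (hC ⟨q₀, hq₀T⟩).2.2 y hyp'
  refine ⟨⟨q₀, hq₀T⟩, x', hx'prime, ?_⟩
  haveI := hx'prime
  haveI : Algebra.IsPushout R R'' S SA := Algebra.IsPushout.symm inferInstance
  have h₂ : (x'.under SA).under R'' = p'' := by
    rw [Ideal.under_under]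
    exact hx'p''.over.symm
  have h₃ : Q.under S = (x'.under SA).under S := by
    rw [Ideal.under_under]
    show Q.under S = x'.comap (algebraMap S (C ⟨q₀, hq₀T⟩))
    rw [hx']
    exact hyq.over
  haveI : (x'.under SA).IsPrime := Ideal.IsPrime.under SA x'
  have hQeq : Q = x'.under SA :=
    Groth.Agent.Lib.helper3.BijRes.eq_of_under_eq p p'' hκ.2 S SA Q (x'.under SA)
      hQp''.over.symm h₂ h₃
  exact hQeq.symm

end Groth.Agent.Lib.helper26.FibCov
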