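import Mathlib
import Groth.Agent.Lib.Helper26.FiniteOverHens

/-!
# Universe-polymorphic version of `henselianLocalRing_of_finite` (helper26)
-/

universe u v

namespace Groth.Agent.Lib.helper26.FiniteOverHens

open IsLocalRing Groth.Agent.Lib.helper26.PairHens

theorem henselianLocalRing_of_ringEquiv {R S : Type*} [CommRing R] [CommRing S] (e : R ≃+* S)
    [HenselianLocalRing R] : HenselianLocalRing S := by
  have : IsLocalRing S := e.isLocalRing
  have hR : HenselianRing R (maximalIdeal R) := inferInstance
  have h1 := henselianRing_of_ringEquiv e _ hR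
  have h2 : (maximalIdeal R).map (e : R →+* S) = maximalIdeal S :=
    IsLocalRing.map_ringEquiv_maximalIdeal e
  rw [h2] at h1
  exact henselianLocalRing_of_henselianRing S h1

/-- A finite local algebra (in any universe) over a henselian local ring is henselian. -/
theorem henselianLocalRing_of_finite' (R : Type u) [CommRing R] [HenselianLocalRing R]
    (D : Type v) [CommRing D] [IsLocalRing D] [Algebra R D] [Module.Finite R D] :
    HenselianLocalRing D := by
  let eR : ULift.{v} R ≃+* R := ULift.ringEquiv
  let eD : ULift.{u} D ≃+* D := ULift.ringEquiv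
  have : HenselianLocalRing (ULift.{v} R) := henselianLocalRing_of_ringEquiv eR.symm
  have : IsLocalRing (ULift.{u} D) := eD.symm.isLocalRing
  let alg : Algebra (ULift.{v} R) (ULift.{u} D) :=
    ((eD.symm : D →+* ULift.{u} D).comp ((algebraMap R D).comp (eR : ULift.{v} R →+* R))).toAlgebra
  have hfin : @Module.Finite (ULift.{v} R) (ULift.{u} D) _ _ alg.toModule := by
    refine @Module.Finite.of_equiv_equiv R D (ULift.{v} R) (ULift.{u} D) _ _ _ _ _ alg
      eR.symm eD.symm ?_ _
    apply RingHom.ext
    intro r
    rfl
  have : HenselianLocalRing (ULift.{u} D) :=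
    @henselianLocalRing_of_finite (ULift.{v} R) _ _ (ULift.{u} D) _ _ alg hfin
  exact henselianLocalRing_of_ringEquiv eD

end Groth.Agent.Lib.helper26.FiniteOverHens
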