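import Mathlib
import Groth.Agent.Lib.Helper26.FlatCrit5
import Groth.Agent.Lib.Helper26.Sk3

/-!
# Four-term sequences: flatness of the cokernel and depth of the closed fibre of the kernel
(helper26)
-/

set_option autoImplicit false
universe u

open CategoryTheory Abelian RingTheory.Sequence LocCoh IsLocalRing TensorProduct Function
open scoped Pointwise

namespace Groth.Agent.Lib.helper26.FlatCrit

open Groth.Agent.Lib.helper26.Depth
open Groth.Agent.Lib.helper8.LocalFlat

section P

variable (A B : Type u) [CommRing A] [CommRing B] [IsNoetherianRing A] [IsNoetherianRing B]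
  [IsLocalRing A] [IsLocalRing B] [Algebra A B] [IsLocalHom (algebraMap A B)] (J : Ideal B)
  {F E0 E1 G : Type u} [AddCommGroup F] [Module B F] [Module A F] [IsScalarTower A B F]
  [Module.Finite B F]
  [AddCommGroup E0] [Module B E0] [Module A E0] [IsScalarTower A B E0] [Module.Finite B E0]
  [Module.Flat A E0]
  [AddCommGroup E1] [Module B E1] [Module A E1] [IsScalarTower A B E1] [Module.Finite B E1]
  [Module.Flat A E1]
  [AddCommGroup G] [Module B G] [Module A G] [IsScalarTower A B G] [Module.Finite B G]
  (f : F →ₗ[B] E0) (u : E0 →ₗ[B] E1) (v : E1 →ₗ[B] G)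
  (hf : Injective f) (hfu : Exact f u) (huv : Exact u v) (hv : Surjective v)

include hf hfu huv hv

omit [IsNoetherianRing A] [IsNoetherianRing B] [IsLocalRing A] [IsLocalRing B]
  [IsLocalHom (algebraMap A B)] [Module.Finite B F] [Module.Finite B E0] [Module.Finite B E1]
  [Module.Finite B G] in
/-- (P1) `G` flat ⟹ `F` flat. -/
theorem flat_ker_of_flat_coker [Module.Flat A G] : Module.Flat A F := by
  set I := LinearMap.ker (v.restrictScalars A) with hI
  have hex1 : Exact I.subtype (v.restrictScalars A) := LinearMap.exact_subtype_ker_map _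
  have hIflat : Module.Flat A I :=
    Groth.Agent.Lib.helper17.FlatSES.flat_left_of_exact I.subtype (v.restrictScalars A)
      I.injective_subtype hv hex1
  let u' : E0 →ₗ[A] I := (u.restrictScalars A).codRestrict I (fun x => by
    rw [hI, LinearMap.mem_ker]
    exact huv.apply_apply_eq_zero x)
  have hu' : Surjective u' := by
    rintro ⟨y, hy⟩
    obtain ⟨x, rfl⟩ := (huv y).mp hy
    exact ⟨x, rfl⟩
  have hex0 : Exact (f.restrictScalars A) u' := by
    intro x
    change u' x = 0 ↔ x ∈ Set.range f
    rw [← hfu x]
    constructor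
    · intro h
      exact congrArg Subtype.val h
    · intro h
      exact Subtype.ext h
  exact Groth.Agent.Lib.helper17.FlatSES.flat_left_of_exact (f.restrictScalars A) u' hf hu' hex0

omit [IsNoetherianRing A] [IsLocalHom (algebraMap A B)] [IsLocalRing B] [Module.Finite B G] in
/-- (P2) `G` flat ⟹ `depth_J (F ⊗ L) ≥ 2` for all `L` of finite length. -/
theorem two_le_idealDepth_tensor_of_flat_coker [Module.Flat A G]
    (h0 : 2 ≤ idealDepth J (E0 ⊗[A] (A ⧸ maximalIdeal A)))
    (h1 : 1 ≤ idealDepth J (E1 ⊗[A] (A ⧸ maximalIdeal A)))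
    (L : Type u) [AddCommGroup L] [Module A L] (hL : IsFiniteLength A L) :
    2 ≤ idealDepth J (F ⊗[A] L) := by
  have hLn : IsNoetherian A L := (isFiniteLength_iff_isNoetherian_isArtinian.mp hL).1
  have hfL : Module.Finite A L := inferInstance
  have : Module.Finite B (F ⊗[A] L) := finite_tensor_left F L
  have : Module.Finite B (E0 ⊗[A] L) := finite_tensor_left E0 L
  have : Module.Finite B (E1 ⊗[A] L) := finite_tensor_left E1 L
  obtain ⟨hinj, hex⟩ := rTensor_exact_of_flat_coker (f.restrictScalars A) (u.restrictScalars A)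
    (v.restrictScalars A) hf hfu huv hv L
  have h0L := le_idealDepth_tensor_of_isFiniteLength A B E0 J 2 h0 L hL
  have h1L := le_idealDepth_tensor_of_isFiniteLength A B E1 J 1 h1 L hL
  exact two_le_idealDepth_of_exact J (AlgebraTensorModule.rTensor A L f)
    (AlgebraTensorModule.rTensor A L u) hinj hex h0L h1L

end P

end Groth.Agent.Lib.helper26.FlatCrit
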