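import Mathlib
import Groth.Agent.Lib.Helper26.FlatCrit6

/-!
# Four-term sequences: depth of the closed fibre of the kernel gives flatness of the cokernel
(helper26)
-/

set_option autoImplicit false
set_option linter.unusedSectionVars false
universe u

open CategoryTheory Abelian RingTheory.Sequence LocCoh IsLocalRing TensorProduct Function
open scoped Pointwise

namespace Groth.Agent.Lib.helper26.FlatCrit

open Groth.Agent.Lib.helper26.Depth
open Groth.Agent.Lib.helper8.LocalFlat

section local_

variable {A B : Type u} [CommRing A] [CommRing B] [Algebra A B] (S : Submonoid B)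
  {F E0 E1 G : Type u} [AddCommGroup F] [Module B F] [Module A F] [IsScalarTower A B F]
  [AddCommGroup E0] [Module B E0] [Module A E0] [IsScalarTower A B E0]
  [AddCommGroup E1] [Module B E1] [Module A E1] [IsScalarTower A B E1] [Module.Flat A E1]
  [AddCommGroup G] [Module B G] [Module A G] [IsScalarTower A B G]
  (f : F →ₗ[B] E0) (u : E0 →ₗ[B] E1) (v : E1 →ₗ[B] G)

/-- the localized four-term sequence stays left exact after tensoring when `G_S` is flat. -/
theorem locMap_rTensor_exact (hf : Injective f) (hfu : Exact f u) (huv : Exact u v)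
    (hv : Surjective v) (hG : Module.Flat A (LocalizedModule S G))
    (L : Type u) [AddCommGroup L] [Module A L] :
    Injective (((locMap S f).restrictScalars A).rTensor L) ∧
      Exact (((locMap S f).restrictScalars A).rTensor L)
        (((locMap S u).restrictScalars A).rTensor L) := by
  have : Module.Flat A (LocalizedModule S E1) := flat_localizedModule S E1
  exact rTensor_exact_of_flat_coker ((locMap S f).restrictScalars A)
    ((locMap S u).restrictScalars A) ((locMap S v).restrictScalars A)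
    (IsLocalizedModule.map_injective S _ _ f hf)
    (IsLocalizedModule.map_exact S _ _ _ f u hfu)
    (IsLocalizedModule.map_exact S _ _ _ u v huv)
    (IsLocalizedModule.map_surjective S _ _ v hv) L

end local_

section P3

variable (A B : Type u) [CommRing A] [CommRing B] [IsNoetherianRing A] [IsNoetherianRing B]
  [IsLocalRing A] [IsLocalRing B] [Algebra A B] [IsLocalHom (algebraMap A B)] (J : Ideal B)
  {F E0 E1 G : Type u} [AddCommGroup F] [Module B F] [Module A F] [IsScalarTower A B F]
  [Module.Finite B F]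
  [AddCommGroup E0] [Module B E0] [Module A E0] [IsScalarTower A B E0] [Module.Finite B E0]
  [Module.Flat A E0]
  [AddCommGroup E1] [Module B E1] [Module A E1] [IsScalarTower A B E1] [Module.Finite B E1]
  [Module.Flat A E1]
  [AddCommGroup G] [Module B G] [Module A G] [IsScalarTower A B G] [Module.Finite B G]
  (f : F →ₗ[B] E0) (u : E0 →ₗ[B] E1) (v : E1 →ₗ[B] G)
  (hf : Injective f) (hfu : Exact f u) (huv : Exact u v) (hv : Surjective v)
  (hGU : ∀ q : PrimeSpectrum B, ¬ J ≤ q.asIdeal →
    Module.Flat A (LocalizedModule q.asIdeal.primeCompl G))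

include hf hfu huv hv hGU

/-- Step d: `F ⊗ k → E⁰ ⊗ k` is injective when `depth_J (F ⊗ k) ≥ 1`. -/
theorem rTensor_residue_injective
    (hF : 1 ≤ idealDepth J (F ⊗[A] (A ⧸ maximalIdeal A))) :
    Injective ((f.restrictScalars A).rTensor (A ⧸ maximalIdeal A)) := by
  have : Module.Finite B (F ⊗[A] (A ⧸ maximalIdeal A)) := finite_tensor_left F _
  rw [injective_iff_map_eq_zero]
  intro x hx
  apply eq_zero_of_locally_torsion J _ hF x
  intro q hq hJq
  obtain ⟨hinj, -⟩ := locMap_rTensor_exact q.primeCompl f u v hf hfu huv hv (hGU ⟨q, hq⟩ hJq)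
    (A ⧸ maximalIdeal A)
  obtain ⟨s, hs, hsx⟩ := exists_smul_eq_zero_of_locMap_injective q.primeCompl
    (A ⧸ maximalIdeal A) f hinj x hx
  exact ⟨s, hs, hsx⟩

/-- Step e: `F ⊗ k → E⁰ ⊗ k → E¹ ⊗ k` is exact when `depth_J (F ⊗ k) ≥ 2`. -/
theorem rTensor_residue_exact
    (hF : 2 ≤ idealDepth J (F ⊗[A] (A ⧸ maximalIdeal A)))
    (h0 : 2 ≤ idealDepth J (E0 ⊗[A] (A ⧸ maximalIdeal A)))
    (h1 : 1 ≤ idealDepth J (E1 ⊗[A] (A ⧸ maximalIdeal A))) :
    Exact ((f.restrictScalars A).rTensor (A ⧸ maximalIdeal A))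
      ((u.restrictScalars A).rTensor (A ⧸ maximalIdeal A)) := by
  have : Module.Finite B (F ⊗[A] (A ⧸ maximalIdeal A)) := finite_tensor_left F _
  have : Module.Finite B (E0 ⊗[A] (A ⧸ maximalIdeal A)) := finite_tensor_left E0 _
  have : Module.Finite B (E1 ⊗[A] (A ⧸ maximalIdeal A)) := finite_tensor_left E1 _
  have hF1 : 1 ≤ idealDepth J (F ⊗[A] (A ⧸ maximalIdeal A)) := le_trans (by norm_num) hF
  have hinj := rTensor_residue_injective A B J f u v hf hfu huv hv hGU hF1
  set fk : F ⊗[A] (A ⧸ maximalIdeal A) →ₗ[B] E0 ⊗[A] (A ⧸ maximalIdeal A) :=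
    AlgebraTensorModule.rTensor A (A ⧸ maximalIdeal A) f with hfk
  set uk : E0 ⊗[A] (A ⧸ maximalIdeal A) →ₗ[B] E1 ⊗[A] (A ⧸ maximalIdeal A) :=
    AlgebraTensorModule.rTensor A (A ⧸ maximalIdeal A) u with huk
  have hcomp : ∀ x, uk (fk x) = 0 := by
    intro x
    change ((u.restrictScalars A).rTensor (A ⧸ maximalIdeal A))
      (((f.restrictScalars A).rTensor (A ⧸ maximalIdeal A)) x) = 0
    rw [← LinearMap.comp_apply, ← LinearMap.rTensor_comp]
    have : (u.restrictScalars A) ∘ₗ (f.restrictScalars A) = 0 := by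
      ext y
      exact hfu.apply_apply_eq_zero y
    rw [this, LinearMap.rTensor_zero, LinearMap.zero_apply]
  let fk' : F ⊗[A] (A ⧸ maximalIdeal A) →ₗ[B] LinearMap.ker uk :=
    fk.codRestrict (LinearMap.ker uk) (fun x => LinearMap.mem_ker.mpr (hcomp x))
  have hfk'inj : Injective fk' := by
    intro a b hab
    apply hinj
    exact congrArg Subtype.val hab
  have hKdepth : 2 ≤ idealDepth J (LinearMap.ker uk) := two_le_idealDepth_ker J uk h0 h1
  have hCdepth : 1 ≤ idealDepth J (LinearMap.ker uk ⧸ LinearMap.range fk') := by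
    have h3 := min_le_idealDepth_X₃ J fk' (LinearMap.range fk').mkQ hfk'inj
      (Submodule.mkQ_surjective _) (LinearMap.exact_map_mkQ_range _)
    refine le_trans ?_ h3
    rw [le_min_iff]
    refine ⟨le_trans (by norm_num) hKdepth, ?_⟩
    have : (2 : ℕ∞) - 1 ≤ idealDepth J (F ⊗[A] (A ⧸ maximalIdeal A)) - 1 :=
      tsub_le_tsub_right hF 1
    refine le_trans ?_ this
    exact le_of_eq (by rfl)
  have hC : Subsingleton (LinearMap.ker uk ⧸ LinearMap.range fk') := by
    apply subsingleton_of_torsion_of_one_le_idealDepth J _ _ hCdepth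
    intro c q hq hJq
    obtain ⟨⟨y, hy⟩, rfl⟩ := Submodule.Quotient.mk_surjective _ c
    obtain ⟨-, hexq⟩ := locMap_rTensor_exact q.primeCompl f u v hf hfu huv hv (hGU ⟨q, hq⟩ hJq)
      (A ⧸ maximalIdeal A)
    obtain ⟨s, hs, x, hx⟩ := exists_smul_mem_range_of_locMap_exact q.primeCompl
      (A ⧸ maximalIdeal A) f u hexq y (LinearMap.mem_ker.mp hy)
    refine ⟨s, hs, ?_⟩
    rw [← Submodule.Quotient.mk_smul, Submodule.Quotient.mk_eq_zero]
    refine ⟨x, Subtype.ext ?_⟩
    exact hx
  have hrange : LinearMap.range fk' = ⊤ := Submodule.Quotient.subsingleton_iff.mp hC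
  intro y
  constructor
  · intro hy
    have hmem : (⟨y, LinearMap.mem_ker.mpr hy⟩ : LinearMap.ker uk) ∈ LinearMap.range fk' := by
      rw [hrange]
      trivial
    obtain ⟨x, hx⟩ := hmem
    exact ⟨x, congrArg Subtype.val hx⟩
  · rintro ⟨x, rfl⟩
    exact hcomp x

/-- (P3) `depth_J (F ⊗ k) ≥ 2` ⟹ `G` flat over `A`. -/
theorem flat_coker_of_two_le_idealDepth
    (hF : 2 ≤ idealDepth J (F ⊗[A] (A ⧸ maximalIdeal A)))
    (h0 : 2 ≤ idealDepth J (E0 ⊗[A] (A ⧸ maximalIdeal A)))
    (h1 : 1 ≤ idealDepth J (E1 ⊗[A] (A ⧸ maximalIdeal A))) : Module.Flat A G := by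
  have hF1 : 1 ≤ idealDepth J (F ⊗[A] (A ⧸ maximalIdeal A)) := le_trans (by norm_num) hF
  have hinj := rTensor_residue_injective A B J f u v hf hfu huv hv hGU hF1
  have hex := rTensor_residue_exact A B J f u v hf hfu huv hv hGU hF h0 h1
  -- the image
  set I := LinearMap.range u with hI
  let u' : E0 →ₗ[B] I := u.rangeRestrict
  have hu' : Surjective u' := u.surjective_rangeRestrict
  have hex0 : Exact (f.restrictScalars A) (u'.restrictScalars A) := by
    intro x
    change u' x = 0 ↔ x ∈ Set.range f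
    rw [← hfu x]
    constructor
    · intro h
      exact congrArg Subtype.val h
    · intro h
      exact Subtype.ext h
  have hex1 : Exact (I.subtype.restrictScalars A) (v.restrictScalars A) := by
    intro y
    change v y = 0 ↔ y ∈ Set.range I.subtype
    rw [huv y]
    constructor
    · rintro ⟨x, rfl⟩
      exact ⟨⟨u x, ⟨x, rfl⟩⟩, rfl⟩
    · rintro ⟨⟨y, ⟨x, rfl⟩⟩, rfl⟩
      exact ⟨x, rfl⟩
  have hIflat : Module.Flat A I :=
    flat_of_injective_rTensor_residue A B I (f.restrictScalars A) (u'.restrictScalars A) hex0 hu'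
      hinj
  -- `I ⊗ k → E¹ ⊗ k` injective
  have hιk : Injective ((I.subtype.restrictScalars A).rTensor (A ⧸ maximalIdeal A)) := by
    rw [injective_iff_map_eq_zero]
    intro z hz
    have hu'A : Surjective (u'.restrictScalars A) := hu'
    obtain ⟨y, rfl⟩ := LinearMap.rTensor_surjective (A ⧸ maximalIdeal A) hu'A z
    have hcompu : (I.subtype.restrictScalars A) ∘ₗ (u'.restrictScalars A) = u.restrictScalars A := by
      ext x
      rfl
    rw [← LinearMap.comp_apply, ← LinearMap.rTensor_comp, hcompu] at hz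
    obtain ⟨x, rfl⟩ := (hex y).mp hz
    rw [← LinearMap.comp_apply, ← LinearMap.rTensor_comp]
    have : (u'.restrictScalars A) ∘ₗ (f.restrictScalars A) = 0 := by
      apply LinearMap.ext
      intro y
      apply Subtype.ext
      exact hfu.apply_apply_eq_zero y
    rw [this, LinearMap.rTensor_zero, LinearMap.zero_apply]
  exact flat_of_injective_rTensor_residue A B G (I.subtype.restrictScalars A)
    (v.restrictScalars A) hex1 hv hιk

end P3

end Groth.Agent.Lib.helper26.FlatCrit
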