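import Mathlib
import Groth.Agent.Lib.Helper26.FlatCrit7

/-!
# Four-term sequences: the equivalences (helper26)
-/

set_option autoImplicit false
set_option linter.unusedSectionVars false
universe u

open CategoryTheory Abelian RingTheory.Sequence LocCoh IsLocalRing TensorProduct Function
open scoped Pointwise

namespace Groth.Agent.Lib.helper26.FlatCrit

open Groth.Agent.Lib.helper26.Depth
open Groth.Agent.Lib.helper8.LocalFlat
open Groth.Agent.Lib.Helper24.FlatDepth

section main

variable (A B : Type u) [CommRing A] [CommRing B] [IsNoetherianRing A] [IsNoetherianRing B]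
  [IsLocalRing A] [IsLocalRing B] [Algebra A B] [IsLocalHom (algebraMap A B)] (J : Ideal B)
  {F E0 E1 G : Type u} [AddCommGroup F] [Module B F] [Module A F] [IsScalarTower A B F]
  [Module.Finite B F]
  [AddCommGroup E0] [Module B E0] [Module A E0] [IsScalarTower A B E0] [Module.Finite B E0]
  [Module.Flat A E0]
  [AddCommGroup E1] [Module B E1] [Module A E1] [IsScalarTower A B E1] [Module.Finite B E1]
  [Module.Flat A E1]
  [AddCommGroup G] [Module B G] [Module A G] [IsScalarTower A B G] [Module.Finite B G]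
  (f : F →ₗ[B] E0) (u : E0 →ₗ[B] E1) (v : E1 →ₗ[B] G)
  (hf : Injective f) (hfu : Exact f u) (huv : Exact u v) (hv : Surjective v)
  (hGU : ∀ q : PrimeSpectrum B, ¬ J ≤ q.asIdeal →
    Module.Flat A (LocalizedModule q.asIdeal.primeCompl G))

include hf hfu huv hv hGU

theorem four_term_equivalences
    (h0 : 2 ≤ idealDepth J
      (E0 ⧸ ((maximalIdeal A).map (algebraMap A B)) • (⊤ : Submodule B E0)))
    (h1 : 1 ≤ idealDepth J
      (E1 ⧸ ((maximalIdeal A).map (algebraMap A B)) • (⊤ : Submodule B E1))) :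
    (2 ≤ idealDepth J (F ⧸ ((maximalIdeal A).map (algebraMap A B)) • (⊤ : Submodule B F)) ↔
      Module.Flat A G) ∧
    (Module.Flat A G ↔ ∀ n : ℕ, 2 ≤ idealDepth J
      (F ⧸ (((maximalIdeal A).map (algebraMap A B)) ^ (n + 1)) • (⊤ : Submodule B F))) ∧
    (Module.Flat A G → Module.Flat A F) := by
  have h0k : 2 ≤ idealDepth J (E0 ⊗[A] (A ⧸ maximalIdeal A)) := by
    rw [idealDepth_congr (tensorQuotEquiv A B E0 (maximalIdeal A))]
    exact h0
  have h1k : 1 ≤ idealDepth J (E1 ⊗[A] (A ⧸ maximalIdeal A)) := by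
    rw [idealDepth_congr (tensorQuotEquiv A B E1 (maximalIdeal A))]
    exact h1
  have hP3 : 2 ≤ idealDepth J
      (F ⧸ ((maximalIdeal A).map (algebraMap A B)) • (⊤ : Submodule B F)) → Module.Flat A G := by
    intro h
    have hFk : 2 ≤ idealDepth J (F ⊗[A] (A ⧸ maximalIdeal A)) := by
      rw [idealDepth_congr (tensorQuotEquiv A B F (maximalIdeal A))]
      exact h
    exact flat_coker_of_two_le_idealDepth A B J f u v hf hfu huv hv hGU hFk h0k h1k
  have hP2 : Module.Flat A G → ∀ n : ℕ, 2 ≤ idealDepth J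
      (F ⧸ (((maximalIdeal A).map (algebraMap A B)) ^ (n + 1)) • (⊤ : Submodule B F)) := by
    intro hG n
    have hfl0 := isFiniteLength_quot_pow A A (n + 1)
    have hfl : IsFiniteLength A (A ⧸ maximalIdeal A ^ (n + 1)) :=
      (Submodule.quotEquivOfEq _ _ (by rw [smul_eq_mul, Ideal.mul_top])).isFiniteLength hfl0
    have h := two_le_idealDepth_tensor_of_flat_coker A B J f u v hf hfu huv hv h0k h1k
      (A ⧸ maximalIdeal A ^ (n + 1)) hfl
    rw [idealDepth_congr (tensorQuotEquiv A B F (maximalIdeal A ^ (n + 1))), Ideal.map_pow] at h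
    exact h
  have hpow1 : ∀ h : 2 ≤ idealDepth J
      (F ⧸ (((maximalIdeal A).map (algebraMap A B)) ^ (0 + 1)) • (⊤ : Submodule B F)),
      2 ≤ idealDepth J (F ⧸ ((maximalIdeal A).map (algebraMap A B)) • (⊤ : Submodule B F)) := by
    intro h
    have e : ((maximalIdeal A).map (algebraMap A B)) ^ (0 + 1) • (⊤ : Submodule B F) =
        ((maximalIdeal A).map (algebraMap A B)) • (⊤ : Submodule B F) := by
      rw [zero_add, pow_one]
    rw [idealDepth_congr (Submodule.quotEquivOfEq _ _ e)] at h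
    exact h
  refine ⟨⟨hP3, fun hG => hpow1 (hP2 hG 0)⟩, ⟨hP2, fun h => hP3 (hpow1 (h 0))⟩, fun hG => ?_⟩
  exact flat_ker_of_flat_coker A B f u v hf hfu huv hv

end main

end Groth.Agent.Lib.helper26.FlatCrit
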