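import Mathlib
import Groth.Agent.Lib.Helper26.FlatCrit8

/-!
# Four-term sequences: lifting sections of the kernels through infinitesimal neighbourhoods
(helper26)

For `0 → F → E⁰ → E¹ → G → 0` as in `FlatCrit7`, write `K_L = ker (u ⊗ L)`.  If
`depth_J K_k ≥ 3` then `K_L → K_{L''}` is surjective for every surjection `L → L''` of
`A`-modules of finite length, and consequently (Krull) `F ⊗ k → E⁰ ⊗ k → E¹ ⊗ k` is exact and
`G` is flat.
-/

set_option autoImplicit false
set_option linter.unusedSectionVars false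
set_option linter.style.haveILetI false
universe u

open CategoryTheory Abelian RingTheory.Sequence LocCoh IsLocalRing TensorProduct Function
open scoped Pointwise

namespace Groth.Agent.Lib.helper26.FlatCrit

open Groth.Agent.Lib.helper26.Depth
open Groth.Agent.Lib.helper8.LocalFlat
open Groth.Agent.Lib.Helper24.FlatDepth

section KerT

variable {A B : Type u} [CommRing A] [CommRing B] [Algebra A B]
  {E0 E1 : Type u}
  [AddCommGroup E0] [Module B E0] [Module A E0] [IsScalarTower A B E0]
  [AddCommGroup E1] [Module B E1] [Module A E1] [IsScalarTower A B E1]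
  (u : E0 →ₗ[B] E1)

variable (A) in
/-- the kernel of `u ⊗ L`. -/
abbrev kerT (L : Type u) [AddCommGroup L] [Module A L] : Submodule B (E0 ⊗[A] L) :=
  LinearMap.ker (AlgebraTensorModule.rTensor A L u)

variable {L L' L'' : Type u} [AddCommGroup L] [Module A L] [AddCommGroup L'] [Module A L']
  [AddCommGroup L''] [Module A L'']

lemma rTensor_lTensor_comm (φ : L →ₗ[A] L') (x : E0 ⊗[A] L) :
    AlgebraTensorModule.rTensor A L' u (AlgebraTensorModule.lTensor B E0 φ x) =
      AlgebraTensorModule.lTensor B E1 φ (AlgebraTensorModule.rTensor A L u x) := by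
  induction x using TensorProduct.induction_on with
  | zero => simp
  | add a b ha hb => simp only [map_add, ha, hb]
  | tmul a l => simp

variable (A) in
/-- the map `K_L → K_{L'}` induced by `φ : L → L'`. -/
noncomputable def kerMapL (φ : L →ₗ[A] L') : kerT A u L →ₗ[B] kerT A u L' :=
  ((AlgebraTensorModule.lTensor B E0 φ).comp (kerT A u L).subtype).codRestrict (kerT A u L')
    (fun x => by
      rw [LinearMap.mem_ker, LinearMap.comp_apply, rTensor_lTensor_comm, Submodule.subtype_apply,
        LinearMap.mem_ker.mp x.2, map_zero])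

@[simp]
lemma kerMapL_coe (φ : L →ₗ[A] L') (x : kerT A u L) :
    ((kerMapL A u φ x : kerT A u L') : E0 ⊗[A] L') = AlgebraTensorModule.lTensor B E0 φ x.1 := rfl

lemma kerMapL_injective [Module.Flat A E0] (φ : L →ₗ[A] L') (hφ : Injective φ) :
    Injective (kerMapL A u φ) := by
  intro x y hxy
  apply Subtype.ext
  have h1 : Injective (AlgebraTensorModule.lTensor B E0 φ) :=
    Module.Flat.lTensor_preserves_injective_linearMap φ hφ
  apply h1
  have := congrArg Subtype.val hxy
  simpa using this

lemma kerMapL_exact [Module.Flat A E1] (ι : L →ₗ[A] L') (π : L' →ₗ[A] L'') (hι : Injective ι)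
    (hπ : Surjective π) (hex : Exact ι π) : Exact (kerMapL A u ι) (kerMapL A u π) := by
  intro x
  constructor
  · intro hx
    have h1 : AlgebraTensorModule.lTensor B E0 π x.1 = 0 := by
      have := congrArg Subtype.val hx
      simpa using this
    have h2 : Exact (ι.lTensor E0) (π.lTensor E0) := lTensor_exact E0 hex hπ
    obtain ⟨s, hs⟩ := (h2 x.1).mp h1
    have hs' : AlgebraTensorModule.lTensor B E0 ι s = x.1 := hs
    have h3 : Injective (AlgebraTensorModule.lTensor B E1 ι) :=
      Module.Flat.lTensor_preserves_injective_linearMap ι hι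
    have h4 : AlgebraTensorModule.rTensor A L u s = 0 := by
      apply h3
      rw [← rTensor_lTensor_comm, hs', LinearMap.mem_ker.mp x.2, map_zero]
    exact ⟨⟨s, LinearMap.mem_ker.mpr h4⟩, Subtype.ext hs'⟩
  · rintro ⟨s, rfl⟩
    apply Subtype.ext
    rw [kerMapL_coe, kerMapL_coe]
    change (π.lTensor E0) ((ι.lTensor E0) s.1) = 0
    rw [← LinearMap.comp_apply, ← LinearMap.lTensor_comp, hex.linearMap_comp_eq_zero,
      LinearMap.lTensor_zero, LinearMap.zero_apply]

variable (A) in
/-- `K_L ≃ K_{L'}` for `L ≃ L'`. -/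
noncomputable def kerEquivL (e : L ≃ₗ[A] L') : kerT A u L ≃ₗ[B] kerT A u L' :=
  LinearEquiv.ofLinearMap (kerMapL A u e.toLinearMap) (kerMapL A u e.symm.toLinearMap)
    (by
      ext x
      rw [LinearMap.comp_apply, kerMapL_coe, kerMapL_coe]
      change (e.toLinearMap.lTensor E0) ((e.symm.toLinearMap.lTensor E0) x.1) = _
      rw [← LinearMap.comp_apply, ← LinearMap.lTensor_comp]
      simp)
    (by
      ext x
      rw [LinearMap.comp_apply, kerMapL_coe, kerMapL_coe]
      change (e.symm.toLinearMap.lTensor E0) ((e.toLinearMap.lTensor E0) x.1) = _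
      rw [← LinearMap.comp_apply, ← LinearMap.lTensor_comp]
      simp)

end KerT

section Lift

variable (A B : Type u) [CommRing A] [CommRing B] [IsNoetherianRing A] [IsNoetherianRing B]
  [IsLocalRing A] [IsLocalRing B] [Algebra A B] [IsLocalHom (algebraMap A B)] (J : Ideal B)
  {F E0 E1 G : Type u} [AddCommGroup F] [Module B F] [Module A F] [IsScalarTower A B F]
  [Module.Finite B F]
  [AddCommGroup E0] [Module B E0] [Module A E0] [IsScalarTower A B E0] [Module.Finite B E0]
  [Module.Flat A E0]
  [AddCommGroup E1] [Module B E1] [Module A E1] [IsScalarTower A B E1] [Module.Finite B E1]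
  [Module.Flat A E1]
  [AddCommGroup G] [Module B G] [Module A G] [IsScalarTower A B G] [Module.Finite B G]
  (f : F →ₗ[B] E0) (u : E0 →ₗ[B] E1) (v : E1 →ₗ[B] G)
  (hf : Injective f) (hfu : Exact f u) (huv : Exact u v) (hv : Surjective v)
  (hGU : ∀ q : PrimeSpectrum B, ¬ J ≤ q.asIdeal →
    Module.Flat A (LocalizedModule q.asIdeal.primeCompl G))

include hf hfu huv hv hGU

/-- Step II: if `depth_J K_S ≥ 3` for the kernel `S` of a surjection `L → L''` of modules of finite
length, then `K_L → K_{L''}` is surjective. -/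
theorem kerMapL_surjective_of_three_le_idealDepth
    {S L L'' : Type u} [AddCommGroup S] [Module A S] [AddCommGroup L] [Module A L]
    [AddCommGroup L''] [Module A L''] (hL : IsFiniteLength A L)
    (ι : S →ₗ[A] L) (π : L →ₗ[A] L'') (hι : Injective ι) (hπ : Surjective π) (hιπ : Exact ι π)
    (h0 : 2 ≤ idealDepth J (E0 ⊗[A] (A ⧸ maximalIdeal A)))
    (h1 : 1 ≤ idealDepth J (E1 ⊗[A] (A ⧸ maximalIdeal A)))
    (hS : 3 ≤ idealDepth J (kerT A u S)) : Surjective (kerMapL A u π) := by
  obtain ⟨hLn, hLa⟩ := isFiniteLength_iff_isNoetherian_isArtinian.mp hL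
  have hSn : IsNoetherian A S := isNoetherian_of_injective ι hι
  have hL''n : IsNoetherian A L'' := isNoetherian_of_surjective π (LinearMap.range_eq_top.mpr hπ)
  have hL''a : IsArtinian A L'' := isArtinian_of_surjective L π hπ
  have hL'' : IsFiniteLength A L'' := isFiniteLength_iff_isNoetherian_isArtinian.mpr ⟨hL''n, hL''a⟩
  have hfL : Module.Finite A L := inferInstance
  have hfS : Module.Finite A S := inferInstance
  have hfL'' : Module.Finite A L'' := inferInstance
  have : Module.Finite B (E0 ⊗[A] L) := finite_tensor_left E0 L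
  have : Module.Finite B (E1 ⊗[A] L) := finite_tensor_left E1 L
  have : Module.Finite B (E0 ⊗[A] L'') := finite_tensor_left E0 L''
  have : Module.Finite B (E1 ⊗[A] L'') := finite_tensor_left E1 L''
  have : Module.Finite B (E0 ⊗[A] S) := finite_tensor_left E0 S
  have h0L := le_idealDepth_tensor_of_isFiniteLength A B E0 J 2 h0 L hL
  have h1L := le_idealDepth_tensor_of_isFiniteLength A B E1 J 1 h1 L hL
  have h0L'' := le_idealDepth_tensor_of_isFiniteLength A B E0 J 2 h0 L'' hL''
  have h1L'' := le_idealDepth_tensor_of_isFiniteLength A B E1 J 1 h1 L'' hL''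
  have hKL : 2 ≤ idealDepth J (kerT A u L) := two_le_idealDepth_ker J _ h0L h1L
  have hKL'' : 2 ≤ idealDepth J (kerT A u L'') := two_le_idealDepth_ker J _ h0L'' h1L''
  set a := kerMapL A u ι with ha
  set ρ := kerMapL A u π with hρ
  have hainj : Injective a := kerMapL_injective u ι hι
  have hex : Exact a ρ := kerMapL_exact u ι π hι hπ hιπ
  set W := LinearMap.range ρ with hW
  have hex' : Exact a ρ.rangeRestrict := by
    intro x
    rw [← hex x]
    constructor
    · intro h
      exact congrArg Subtype.val h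
    · intro h
      exact Subtype.ext h
  have : Module.Finite B (kerT A u S) := inferInstance
  have : Module.Finite B (kerT A u L) := inferInstance
  have : Module.Finite B (kerT A u L'') := inferInstance
  have : Module.Finite B W := inferInstance
  have : Module.Finite B (kerT A u L'' ⧸ W) := inferInstance
  have hWdepth : 2 ≤ idealDepth J W := by
    have h3 := min_le_idealDepth_X₃ (N' := kerT A u S) (N := kerT A u L) (N'' := W) J a
      ρ.rangeRestrict hainj ρ.surjective_rangeRestrict hex'
    refine le_trans ?_ h3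
    rw [le_min_iff]
    refine ⟨hKL, ?_⟩
    have : (3 : ℕ∞) - 1 ≤ idealDepth J (kerT A u S) - 1 := tsub_le_tsub_right hS 1
    refine le_trans ?_ this
    exact le_of_eq (by rfl)
  have hTdepth : 1 ≤ idealDepth J (kerT A u L'' ⧸ W) := by
    have h3 := min_le_idealDepth_X₃ (N' := W) (N := kerT A u L'') (N'' := kerT A u L'' ⧸ W) J
      W.subtype W.mkQ W.injective_subtype
      (Submodule.mkQ_surjective _) (LinearMap.exact_subtype_mkQ W)
    refine le_trans ?_ h3
    rw [le_min_iff]
    refine ⟨le_trans (by norm_num) hKL'', ?_⟩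
    have : (2 : ℕ∞) - 1 ≤ idealDepth J W - 1 := tsub_le_tsub_right hWdepth 1
    refine le_trans ?_ this
    exact le_of_eq (by rfl)
  have hT : Subsingleton (kerT A u L'' ⧸ W) := by
    apply subsingleton_of_torsion_of_one_le_idealDepth J _ _ hTdepth
    intro c q hq hJq
    obtain ⟨⟨y, hy⟩, rfl⟩ := Submodule.Quotient.mk_surjective _ c
    obtain ⟨-, hexq⟩ := locMap_rTensor_exact q.primeCompl f u v hf hfu huv hv (hGU ⟨q, hq⟩ hJq) L''
    obtain ⟨s, hs, x, hx⟩ := exists_smul_mem_range_of_locMap_exact q.primeCompl L'' f u hexq y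
      (LinearMap.mem_ker.mp hy)
    refine ⟨s, hs, ?_⟩
    rw [← Submodule.Quotient.mk_smul, Submodule.Quotient.mk_eq_zero]
    obtain ⟨x', rfl⟩ := LinearMap.lTensor_surjective F hπ x
    have hz : AlgebraTensorModule.rTensor A L f x' ∈ kerT A u L := by
      rw [LinearMap.mem_ker]
      change ((u.restrictScalars A).rTensor L) (((f.restrictScalars A).rTensor L) x') = 0
      rw [← LinearMap.comp_apply, ← LinearMap.rTensor_comp]
      have : (u.restrictScalars A) ∘ₗ (f.restrictScalars A) = 0 := by
        ext y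
        exact hfu.apply_apply_eq_zero y
      rw [this, LinearMap.rTensor_zero, LinearMap.zero_apply]
    refine ⟨⟨_, hz⟩, Subtype.ext ?_⟩
    rw [kerMapL_coe]
    change AlgebraTensorModule.lTensor B E0 π (AlgebraTensorModule.rTensor A L f x') = s • y
    rw [← rTensor_lTensor_comm]
    exact hx
  have hWtop : W = ⊤ := Submodule.Quotient.subsingleton_iff.mp hT
  exact LinearMap.range_eq_top.mp hWtop

/-- Step III: `depth_J K_S ≥ 3` for every `S` of finite length, if it holds for `S = k`. -/
theorem three_le_idealDepth_kerT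
    (h0 : 2 ≤ idealDepth J (E0 ⊗[A] (A ⧸ maximalIdeal A)))
    (h1 : 1 ≤ idealDepth J (E1 ⊗[A] (A ⧸ maximalIdeal A)))
    (h3 : 3 ≤ idealDepth J (kerT A u (A ⧸ maximalIdeal A)))
    (S : Type u) [AddCommGroup S] [Module A S] (hS : IsFiniteLength A S) :
    3 ≤ idealDepth J (kerT A u S) := by
  induction hS with
  | @of_subsingleton S _ _ hSs =>
    have hsub : Subsingleton (kerT A u S) := inferInstance
    have hsub' : Subsingleton (Submodule B (kerT A u S)) :=
      (Submodule.subsingleton_iff B).mpr inferInstance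
    rw [idealDepth_eq_top_of_smul_top_eq_top J (kerT A u S) (Subsingleton.elim _ _)]
    exact le_top
  | @of_simple_quotient S _ _ Q hsimple hQ ih =>
    have hSfl : IsFiniteLength A S := IsFiniteLength.of_simple_quotient hQ
    have hSn : IsNoetherian A S := (isFiniteLength_iff_isNoetherian_isArtinian.mp hSfl).1
    have hQn : IsNoetherian A Q := (isFiniteLength_iff_isNoetherian_isArtinian.mp hQ).1
    have hfS : Module.Finite A S := inferInstance
    have hfQ : Module.Finite A Q := inferInstance
    have hfSQ : Module.Finite A (S ⧸ Q) := inferInstance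
    have : Module.Finite B (E0 ⊗[A] S) := finite_tensor_left E0 S
    have : Module.Finite B (E0 ⊗[A] Q) := finite_tensor_left E0 Q
    have : Module.Finite B (E0 ⊗[A] (S ⧸ Q)) := finite_tensor_left E0 (S ⧸ Q)
    have : Module.Finite B (E0 ⊗[A] (A ⧸ maximalIdeal A)) := finite_tensor_left E0 _
    have : Module.Finite B (kerT A u S) := inferInstance
    have : Module.Finite B (kerT A u Q) := inferInstance
    have : Module.Finite B (kerT A u (S ⧸ Q)) := inferInstance
    have : Module.Finite B (kerT A u (A ⧸ maximalIdeal A)) := inferInstance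
    have hsurj : Surjective (kerMapL A u Q.mkQ) :=
      kerMapL_surjective_of_three_le_idealDepth A B J f u v hf hfu huv hv hGU hSfl Q.subtype Q.mkQ
        Q.injective_subtype (Submodule.mkQ_surjective Q) (LinearMap.exact_subtype_mkQ Q) h0 h1 ih
    have hinj : Injective (kerMapL A u Q.subtype) := kerMapL_injective u _ Q.injective_subtype
    have hex : Exact (kerMapL A u Q.subtype) (kerMapL A u Q.mkQ) :=
      kerMapL_exact u _ _ Q.injective_subtype (Submodule.mkQ_surjective Q)
        (LinearMap.exact_subtype_mkQ Q)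
    obtain ⟨I, hI, ⟨e⟩⟩ := isSimpleModule_iff_quot_maximal.mp hsimple
    obtain rfl : I = maximalIdeal A := IsLocalRing.eq_maximalIdeal hI
    have h2 : 3 ≤ idealDepth J (kerT A u (S ⧸ Q)) := by
      rw [idealDepth_congr (kerEquivL A u e)]
      exact h3
    exact le_trans (le_min ih h2)
      (min_le_idealDepth_X₂ (N' := kerT A u Q) (N := kerT A u S) (N'' := kerT A u (S ⧸ Q)) J
        (kerMapL A u Q.subtype) (kerMapL A u Q.mkQ) hinj hsurj hex)

/-- Step IV (Krull): `F ⊗ k → E⁰ ⊗ k → E¹ ⊗ k` is exact when `depth_J K_k ≥ 3`. -/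
theorem rTensor_residue_exact_of_three_le_idealDepth
    (h0 : 2 ≤ idealDepth J (E0 ⊗[A] (A ⧸ maximalIdeal A)))
    (h1 : 1 ≤ idealDepth J (E1 ⊗[A] (A ⧸ maximalIdeal A)))
    (h3 : 3 ≤ idealDepth J (kerT A u (A ⧸ maximalIdeal A))) :
    Exact ((f.restrictScalars A).rTensor (A ⧸ maximalIdeal A))
      ((u.restrictScalars A).rTensor (A ⧸ maximalIdeal A)) := by
  have hcomp : ∀ x, ((u.restrictScalars A).rTensor (A ⧸ maximalIdeal A))
      (((f.restrictScalars A).rTensor (A ⧸ maximalIdeal A)) x) = 0 := by
    intro x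
    rw [← LinearMap.comp_apply, ← LinearMap.rTensor_comp]
    have : (u.restrictScalars A) ∘ₗ (f.restrictScalars A) = 0 := by
      ext y
      exact hfu.apply_apply_eq_zero y
    rw [this, LinearMap.rTensor_zero, LinearMap.zero_apply]
  intro ybar
  constructor
  swap
  · rintro ⟨x, rfl⟩
    exact hcomp x
  intro hy
  have hyK : ybar ∈ kerT A u (A ⧸ maximalIdeal A) := LinearMap.mem_ker.mpr hy
  set mB : Ideal B := (maximalIdeal A).map (algebraMap A B) with hmB
  have hmBne : mB ≠ ⊤ := by
    intro h
    have hle : mB ≤ maximalIdeal B := IsLocalRing.map_maximalIdeal_le (algebraMap A B)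
    rw [h] at hle
    exact (IsLocalRing.maximalIdeal.isMaximal B).ne_top (top_le_iff.mp hle)
  obtain ⟨y₀, hy₀⟩ := theta_surjective A B E0 (maximalIdeal A) ybar
  -- the approximations
  have happrox : ∀ n : ℕ, ∃ yn : E0, u yn ∈ mB ^ (n + 1) • (⊤ : Submodule B E1) ∧
      yn - y₀ ∈ mB • (⊤ : Submodule B E0) := by
    intro n
    have hle : maximalIdeal A ^ (n + 1) ≤ maximalIdeal A := Ideal.pow_le_self (Nat.succ_ne_zero n)
    set π : (A ⧸ maximalIdeal A ^ (n + 1)) →ₗ[A] (A ⧸ maximalIdeal A) :=
      (Ideal.Quotient.factorₐ A hle).toLinearMap with hπdef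
    have hπ1 : π 1 = 1 := map_one (Ideal.Quotient.factorₐ A hle)
    have hπ : Surjective π := Ideal.Quotient.factor_surjective hle
    have hfl0 := isFiniteLength_quot_pow A A (n + 1)
    have hfl : IsFiniteLength A (A ⧸ maximalIdeal A ^ (n + 1)) :=
      (Submodule.quotEquivOfEq _ _ (by rw [smul_eq_mul, Ideal.mul_top])).isFiniteLength hfl0
    obtain ⟨hLn, hLa⟩ := isFiniteLength_iff_isNoetherian_isArtinian.mp hfl
    have hSfl : IsFiniteLength A (LinearMap.ker π) :=
      isFiniteLength_iff_isNoetherian_isArtinian.mpr ⟨inferInstance, inferInstance⟩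
    have hS3 := three_le_idealDepth_kerT A B J f u v hf hfu huv hv hGU h0 h1 h3 (LinearMap.ker π)
      hSfl
    have hsurj := kerMapL_surjective_of_three_le_idealDepth A B J f u v hf hfu huv hv hGU hfl
      (LinearMap.ker π).subtype π (LinearMap.ker π).injective_subtype hπ
      (LinearMap.exact_subtype_ker_map π) h0 h1 hS3
    obtain ⟨xn, hxn⟩ := hsurj ⟨ybar, hyK⟩
    have hxn' : AlgebraTensorModule.lTensor B E0 π xn.1 = ybar := by
      have := congrArg Subtype.val hxn
      simpa using this
    obtain ⟨yn, hyn⟩ := theta_surjective A B E0 (maximalIdeal A ^ (n + 1)) xn.1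
    refine ⟨yn, ?_, ?_⟩
    · have h4 : theta A B E1 (maximalIdeal A ^ (n + 1)) (u yn) = 0 := by
        have h5 : theta A B E1 (maximalIdeal A ^ (n + 1)) (u yn) =
            AlgebraTensorModule.rTensor A _ u (theta A B E0 (maximalIdeal A ^ (n + 1)) yn) := rfl
        rw [h5, hyn]
        exact LinearMap.mem_ker.mp xn.2
      have h6 : u yn ∈ LinearMap.ker (theta A B E1 (maximalIdeal A ^ (n + 1))) :=
        LinearMap.mem_ker.mpr h4
      rw [ker_theta, Ideal.map_pow] at h6
      exact h6
    · have h4 : theta A B E0 (maximalIdeal A) yn = ybar := by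
        rw [← hxn', ← hyn]
        change yn ⊗ₜ[A] (1 : A ⧸ maximalIdeal A) = yn ⊗ₜ[A] (π 1)
        rw [hπ1]
      have h6 : yn - y₀ ∈ LinearMap.ker (theta A B E0 (maximalIdeal A)) := by
        rw [LinearMap.mem_ker, map_sub, h4, hy₀, sub_self]
      rw [ker_theta] at h6
      exact h6
  -- Krull
  set N₀ : Submodule B E1 := (mB • (⊤ : Submodule B E0)).map u with hN₀
  have hmem : ∀ i : ℕ, N₀.mkQ (u y₀) ∈ mB ^ i • (⊤ : Submodule B (E1 ⧸ N₀)) := by
    intro i
    cases i with
    | zero =>
      rw [pow_zero, Ideal.one_eq_top, Submodule.top_smul]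
      trivial
    | succ n =>
      obtain ⟨yn, hyn1, hyn2⟩ := happrox n
      have h7 : N₀.mkQ (u y₀) = N₀.mkQ (u yn) := by
        rw [← sub_eq_zero, ← map_sub, ← map_sub, Submodule.mkQ_apply,
          Submodule.Quotient.mk_eq_zero]
        have : y₀ - yn = -(yn - y₀) := (neg_sub yn y₀).symm
        rw [this, map_neg]
        exact neg_mem (Submodule.mem_map_of_mem hyn2)
      rw [h7]
      have h8 : N₀.mkQ (u yn) ∈ (mB ^ (n + 1) • (⊤ : Submodule B E1)).map N₀.mkQ :=
        Submodule.mem_map_of_mem hyn1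
      rw [Submodule.map_smul''] at h8
      have h9 : mB ^ (n + 1) • (⊤ : Submodule B E1).map N₀.mkQ ≤
          mB ^ (n + 1) • (⊤ : Submodule B (E1 ⧸ N₀)) := smul_mono_right _ le_top
      exact h9 h8
  have hzero : N₀.mkQ (u y₀) = 0 := by
    have h9 : N₀.mkQ (u y₀) ∈ (⨅ i : ℕ, mB ^ i • ⊤ : Submodule B (E1 ⧸ N₀)) :=
      (Submodule.mem_iInf _).mpr hmem
    rw [Ideal.iInf_pow_smul_eq_bot_of_isLocalRing mB hmBne] at h9
    exact (Submodule.mem_bot B).mp h9
  rw [Submodule.mkQ_apply, Submodule.Quotient.mk_eq_zero] at hzero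
  obtain ⟨z, hz, hzu⟩ := hzero
  have hker : u (y₀ - z) = 0 := by rw [map_sub, hzu, sub_self]
  obtain ⟨w, hw⟩ := (hfu (y₀ - z)).mp hker
  refine ⟨theta A B F (maximalIdeal A) w, ?_⟩
  have h10 : ((f.restrictScalars A).rTensor (A ⧸ maximalIdeal A)) (theta A B F (maximalIdeal A) w) =
      theta A B E0 (maximalIdeal A) (f w) := rfl
  rw [h10, hw, map_sub, hy₀]
  have h11 : z ∈ LinearMap.ker (theta A B E0 (maximalIdeal A)) := by
    rw [ker_theta]
    exact hz
  rw [LinearMap.mem_ker.mp h11, sub_zero]

/-- Step V: `G` is flat over `A` when `depth_J K_k ≥ 3`. -/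
theorem flat_coker_of_three_le_idealDepth
    (h0 : 2 ≤ idealDepth J (E0 ⊗[A] (A ⧸ maximalIdeal A)))
    (h1 : 1 ≤ idealDepth J (E1 ⊗[A] (A ⧸ maximalIdeal A)))
    (h3 : 3 ≤ idealDepth J (kerT A u (A ⧸ maximalIdeal A))) : Module.Flat A G := by
  have hex := rTensor_residue_exact_of_three_le_idealDepth A B J f u v hf hfu huv hv hGU h0 h1 h3
  set I := LinearMap.range u with hI
  let u' : E0 →ₗ[B] I := u.rangeRestrict
  have hu' : Surjective u' := u.surjective_rangeRestrict
  have hex1 : Exact (I.subtype.restrictScalars A) (v.restrictScalars A) := by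
    intro y
    change v y = 0 ↔ y ∈ Set.range I.subtype
    rw [huv y]
    constructor
    · rintro ⟨x, rfl⟩
      exact ⟨⟨u x, ⟨x, rfl⟩⟩, rfl⟩
    · rintro ⟨⟨y, ⟨x, rfl⟩⟩, rfl⟩
      exact ⟨x, rfl⟩
  have hιk : Injective ((I.subtype.restrictScalars A).rTensor (A ⧸ maximalIdeal A)) := by
    rw [injective_iff_map_eq_zero]
    intro z hz
    have hu'A : Surjective (u'.restrictScalars A) := hu'
    obtain ⟨y, rfl⟩ := LinearMap.rTensor_surjective (A ⧸ maximalIdeal A) hu'A z
    have hcompu : (I.subtype.restrictScalars A) ∘ₗ (u'.restrictScalars A) = u.restrictScalars A := by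
      ext x
      rfl
    rw [← LinearMap.comp_apply, ← LinearMap.rTensor_comp, hcompu] at hz
    obtain ⟨x, rfl⟩ := (hex y).mp hz
    rw [← LinearMap.comp_apply, ← LinearMap.rTensor_comp]
    have : (u'.restrictScalars A) ∘ₗ (f.restrictScalars A) = 0 := by
      apply LinearMap.ext
      intro y
      apply Subtype.ext
      exact hfu.apply_apply_eq_zero y
    rw [this, LinearMap.rTensor_zero, LinearMap.zero_apply]
  exact flat_of_injective_rTensor_residue A B G (I.subtype.restrictScalars A)
    (v.restrictScalars A) hex1 hv hιk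

end Lift

end Groth.Agent.Lib.helper26.FlatCrit
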