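import Mathlib
import Groth.Agent.Lib.Helper26.FlatCrit9
import Groth.Agent.Lib.Helper19.LCTors
import Groth.Agent.Lib.Helper2.DepthLC

/-!
# Four-term sequences: vanishing of `H²_J` of the closed fibre of the kernel (helper26)

If `H²_J(F/mF) = 0` then `G` and `F` are flat and `depth_J (F/mF) ≥ 2`.
-/

set_option autoImplicit false
set_option linter.unusedSectionVars false
set_option linter.style.haveILetI false
universe u

open CategoryTheory Abelian RingTheory.Sequence LocCoh IsLocalRing TensorProduct Function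
open scoped Pointwise

namespace Groth.Agent.Lib.helper26.FlatCrit

open Groth.Agent.Lib.helper26.Depth
open Groth.Agent.Lib.helper8.LocalFlat
open Groth.Agent.Lib.Helper24.FlatDepth

/-- An element that is locally torsion off `V(J)` is killed by a power of `J`. -/
theorem exists_pow_smul_eq_zero_of_locally_torsion {B : Type u} [CommRing B] [IsNoetherianRing B]
    (J : Ideal B) {N : Type u} [AddCommGroup N] [Module B N] (x : N)
    (h : ∀ q : Ideal B, q.IsPrime → ¬ J ≤ q → ∃ s, s ∉ q ∧ s • x = 0) :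
    ∃ n : ℕ, ∀ a ∈ J ^ n, a • x = 0 := by
  have h1 : J ≤ (Ideal.torsionOf B N x).radical := by
    rw [Ideal.radical_eq_sInf]
    apply le_sInf
    rintro q ⟨hq1, hq2⟩
    by_contra hJq
    obtain ⟨s, hs, hsx⟩ := h q hq2 hJq
    exact hs (hq1 ((Ideal.mem_torsionOf_iff x s).mpr hsx))
  obtain ⟨n, hn⟩ := Ideal.exists_pow_le_of_le_radical_of_fg h1 (IsNoetherian.noetherian J)
  exact ⟨n, fun a ha => (Ideal.mem_torsionOf_iff x a).mp (hn ha)⟩

section main

variable (A B : Type u) [CommRing A] [CommRing B] [IsNoetherianRing A] [IsNoetherianRing B]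
  [IsLocalRing A] [IsLocalRing B] [Algebra A B] [IsLocalHom (algebraMap A B)] (J : Ideal B)
  {F E0 E1 G : Type u} [AddCommGroup F] [Module B F] [Module A F] [IsScalarTower A B F]
  [Module.Finite B F]
  [AddCommGroup E0] [Module B E0] [Module A E0] [IsScalarTower A B E0] [Module.Finite B E0]
  [Module.Flat A E0]
  [AddCommGroup E1] [Module B E1] [Module A E1] [IsScalarTower A B E1] [Module.Finite B E1]
  [Module.Flat A E1]
  [AddCommGroup G] [Module B G] [Module A G] [IsScalarTower A B G] [Module.Finite B G]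
  (f : F →ₗ[B] E0) (u : E0 →ₗ[B] E1) (v : E1 →ₗ[B] G)
  (hf : Injective f) (hfu : Exact f u) (huv : Exact u v) (hv : Surjective v)
  (hGU : ∀ q : PrimeSpectrum B, ¬ J ≤ q.asIdeal →
    Module.Flat A (LocalizedModule q.asIdeal.primeCompl G))

include hf hfu huv hv hGU

/-- Step I: `H²_J(F ⊗ k) = 0` gives `depth_J K_k ≥ 3`. -/
theorem three_le_idealDepth_kerT_residue
    (h0 : 2 ≤ idealDepth J (E0 ⊗[A] (A ⧸ maximalIdeal A)))
    (h1 : 1 ≤ idealDepth J (E1 ⊗[A] (A ⧸ maximalIdeal A)))
    (hH2 : Subsingleton (LocCoh.H J 2 (F ⊗[A] (A ⧸ maximalIdeal A)))) :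
    3 ≤ idealDepth J (kerT A u (A ⧸ maximalIdeal A)) := by
  have : Module.Finite B (F ⊗[A] (A ⧸ maximalIdeal A)) := finite_tensor_left F _
  have : Module.Finite B (E0 ⊗[A] (A ⧸ maximalIdeal A)) := finite_tensor_left E0 _
  have : Module.Finite B (E1 ⊗[A] (A ⧸ maximalIdeal A)) := finite_tensor_left E1 _
  have : Module.Finite B (kerT A u (A ⧸ maximalIdeal A)) := inferInstance
  set fk : F ⊗[A] (A ⧸ maximalIdeal A) →ₗ[B] E0 ⊗[A] (A ⧸ maximalIdeal A) :=
    AlgebraTensorModule.rTensor A (A ⧸ maximalIdeal A) f with hfk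
  have hcomp : ∀ x, AlgebraTensorModule.rTensor A (A ⧸ maximalIdeal A) u (fk x) = 0 := by
    intro x
    change ((u.restrictScalars A).rTensor (A ⧸ maximalIdeal A))
      (((f.restrictScalars A).rTensor (A ⧸ maximalIdeal A)) x) = 0
    rw [← LinearMap.comp_apply, ← LinearMap.rTensor_comp]
    have : (u.restrictScalars A) ∘ₗ (f.restrictScalars A) = 0 := by
      ext y
      exact hfu.apply_apply_eq_zero y
    rw [this, LinearMap.rTensor_zero, LinearMap.zero_apply]
  let fk' : F ⊗[A] (A ⧸ maximalIdeal A) →ₗ[B] kerT A u (A ⧸ maximalIdeal A) :=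
    fk.codRestrict _ (fun x => LinearMap.mem_ker.mpr (hcomp x))
  have hker : LinearMap.ker fk' ≤ DRing.torsionSub J (F ⊗[A] (A ⧸ maximalIdeal A)) := by
    intro x hx
    have hx' : fk x = 0 := congrArg Subtype.val (LinearMap.mem_ker.mp hx)
    apply exists_pow_smul_eq_zero_of_locally_torsion J x
    intro q hq hJq
    obtain ⟨hinj, -⟩ := locMap_rTensor_exact q.primeCompl f u v hf hfu huv hv (hGU ⟨q, hq⟩ hJq)
      (A ⧸ maximalIdeal A)
    obtain ⟨s, hs, hsx⟩ := exists_smul_eq_zero_of_locMap_injective q.primeCompl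
      (A ⧸ maximalIdeal A) f hinj x hx'
    exact ⟨s, hs, hsx⟩
  have hcoker : Groth.Agent.Lib.helper19.LCZero.IsTors J
      (kerT A u (A ⧸ maximalIdeal A) ⧸ LinearMap.range fk') := by
    intro c
    apply exists_pow_smul_eq_zero_of_locally_torsion J c
    intro q hq hJq
    obtain ⟨⟨y, hy⟩, rfl⟩ := Submodule.Quotient.mk_surjective _ c
    obtain ⟨-, hexq⟩ := locMap_rTensor_exact q.primeCompl f u v hf hfu huv hv (hGU ⟨q, hq⟩ hJq)
      (A ⧸ maximalIdeal A)
    obtain ⟨s, hs, x, hx⟩ := exists_smul_mem_range_of_locMap_exact q.primeCompl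
      (A ⧸ maximalIdeal A) f u hexq y (LinearMap.mem_ker.mp hy)
    refine ⟨s, hs, ?_⟩
    rw [← Submodule.Quotient.mk_smul, Submodule.Quotient.mk_eq_zero]
    exact ⟨x, Subtype.ext hx⟩
  have hbij := Groth.Agent.Lib.helper19.LCTors.H_map_bijective_of_ker_coker_torsion J fk' hker
    hcoker 2 (by norm_num)
  have hH2K : Subsingleton (LocCoh.H J 2 (kerT A u (A ⧸ maximalIdeal A))) :=
    hbij.2.subsingleton
  have hK2 : 2 ≤ idealDepth J (kerT A u (A ⧸ maximalIdeal A)) := two_le_idealDepth_ker J _ h0 h1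
  have hlow := (Groth.Agent.Lib.helper2.DepthLC.vanish_iff_le_idealDepth J
    (kerT A u (A ⧸ maximalIdeal A)) 2).mpr (by exact_mod_cast hK2)
  have h3 := (Groth.Agent.Lib.helper2.DepthLC.vanish_iff_le_idealDepth J
    (kerT A u (A ⧸ maximalIdeal A)) 3).mp (by
      intro i hi
      by_cases hi2 : i < 2
      · exact hlow i hi2
      · obtain rfl : i = 2 := by omega
        exact hH2K)
  exact_mod_cast h3

/-- The four-term criterion with `H²_J(F/mF) = 0`. -/
theorem four_term_of_H2_vanish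
    (h0 : 2 ≤ idealDepth J
      (E0 ⧸ ((maximalIdeal A).map (algebraMap A B)) • (⊤ : Submodule B E0)))
    (h1 : 1 ≤ idealDepth J
      (E1 ⧸ ((maximalIdeal A).map (algebraMap A B)) • (⊤ : Submodule B E1)))
    (hH2 : Subsingleton (LocCoh.H J 2
      (F ⧸ ((maximalIdeal A).map (algebraMap A B)) • (⊤ : Submodule B F)))) :
    Module.Flat A F ∧ Module.Flat A G ∧
      2 ≤ idealDepth J (F ⧸ ((maximalIdeal A).map (algebraMap A B)) • (⊤ : Submodule B F)) := by
  have h0k : 2 ≤ idealDepth J (E0 ⊗[A] (A ⧸ maximalIdeal A)) := by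
    rw [idealDepth_congr (tensorQuotEquiv A B E0 (maximalIdeal A))]
    exact h0
  have h1k : 1 ≤ idealDepth J (E1 ⊗[A] (A ⧸ maximalIdeal A)) := by
    rw [idealDepth_congr (tensorQuotEquiv A B E1 (maximalIdeal A))]
    exact h1
  have hH2k : Subsingleton (LocCoh.H J 2 (F ⊗[A] (A ⧸ maximalIdeal A))) := by
    let e := (localCohomology J 2).mapIso (tensorQuotEquiv A B F (maximalIdeal A)).toModuleIso
    exact (e.toLinearEquiv.toEquiv).subsingleton
  have h3 := three_le_idealDepth_kerT_residue A B J f u v hf hfu huv hv hGU h0k h1k hH2k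
  have hG : Module.Flat A G :=
    flat_coker_of_three_le_idealDepth A B J f u v hf hfu huv hv hGU h0k h1k h3
  obtain ⟨e1, -, e3⟩ := four_term_equivalences A B J f u v hf hfu huv hv hGU h0 h1
  exact ⟨e3 hG, hG, e1.mpr hG⟩

end main

end Groth.Agent.Lib.helper26.FlatCrit
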