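import Mathlib
import Groth.Agent.Lib.Helper26.FlatCrit10
import Groth.Agent.Lib.Helper26.FibMod1
import Groth.Agent.Lib.Helper26.LocTrans

/-!
# Four-term sequences: transfer of the local criterion to the stalks at a prime (helper26)
-/

set_option autoImplicit false
set_option linter.unusedSectionVars false
set_option linter.style.haveILetI false
universe u

open CategoryTheory Abelian RingTheory.Sequence LocCoh IsLocalRing TensorProduct Function
open scoped Pointwise

namespace Groth.Agent.Lib.helper26.FlatCrit

open Groth.Agent.Lib.helper26.Depth
open Groth.Agent.Lib.helper8.LocalFlat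
open Groth.Agent.Lib.Helper24.FlatDepth

attribute [local instance] Localization.AtPrime.algebraOfLiesOver

section Structures

variable (A B : Type u) [CommRing A] [CommRing B] [Algebra A B] (q : Ideal B) [q.IsPrime]
  (X : Type u) [AddCommGroup X] [Module B X]

/-- the `A_p`-module structure on `X_q`. -/
@[reducible] noncomputable def modAtPrime :
    Module (Localization.AtPrime (q.comap (algebraMap A B))) (LocalizedModule q.primeCompl X) :=
  Module.compHom _ (algebraMap (Localization.AtPrime (q.comap (algebraMap A B)))
    (Localization.AtPrime q))

attribute [local instance] modAtPrime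

theorem isScalarTower_atPrime :
    IsScalarTower (Localization.AtPrime (q.comap (algebraMap A B))) (Localization.AtPrime q)
      (LocalizedModule q.primeCompl X) :=
  IsScalarTower.of_algebraMap_smul fun _ _ => rfl

attribute [local instance] isScalarTower_atPrime

theorem isScalarTower_atPrime' [Module A X] [IsScalarTower A B X] :
    IsScalarTower A (Localization.AtPrime (q.comap (algebraMap A B)))
      (LocalizedModule q.primeCompl X) := by
  refine IsScalarTower.of_algebraMap_smul fun r x => ?_
  change (algebraMap (Localization.AtPrime (q.comap (algebraMap A B))) (Localization.AtPrime q)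
    (algebraMap A (Localization.AtPrime (q.comap (algebraMap A B))) r)) • x = r • x
  rw [← IsScalarTower.algebraMap_apply A (Localization.AtPrime (q.comap (algebraMap A B)))
    (Localization.AtPrime q),
    IsScalarTower.algebraMap_apply A B (Localization.AtPrime q), algebraMap_smul, algebraMap_smul]

attribute [local instance] isScalarTower_atPrime'

theorem flat_atPrime_iff [Module A X] [IsScalarTower A B X] :
    Module.Flat (Localization.AtPrime (q.comap (algebraMap A B))) (LocalizedModule q.primeCompl X) ↔
      Module.Flat A (LocalizedModule q.primeCompl X) :=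
  Module.flat_iff_of_isLocalization (Localization.AtPrime (q.comap (algebraMap A B)))
    (q.comap (algebraMap A B)).primeCompl (LocalizedModule q.primeCompl X)

end Structures

section Fibre

variable (A B : Type u) [CommRing A] [CommRing B] [Algebra A B] (q : Ideal B) [q.IsPrime]
  (X : Type u) [AddCommGroup X] [Module B X]

attribute [local instance] modAtPrime isScalarTower_atPrime isScalarTower_atPrime'

theorem map_maximalIdeal_atPrime :
    (maximalIdeal (Localization.AtPrime (q.comap (algebraMap A B)))).map
      (algebraMap (Localization.AtPrime (q.comap (algebraMap A B))) (Localization.AtPrime q)) =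
      (q.comap (algebraMap A B)).map (algebraMap A (Localization.AtPrime q)) := by
  rw [← Localization.AtPrime.map_eq_maximalIdeal, Ideal.map_map, ← IsScalarTower.algebraMap_eq]

/-- `FibMod A_p B_q X_q ≃ FibLocMod A B q X`. -/
noncomputable def fibEquiv :
    EGA4.FibMod (Localization.AtPrime (q.comap (algebraMap A B))) (Localization.AtPrime q)
      (LocalizedModule q.primeCompl X) ≃ₗ[Localization.AtPrime q] EGA4.FibLocMod A B q X :=
  Submodule.quotEquivOfEq _ _ (by rw [EGA4.mB, map_maximalIdeal_atPrime])

theorem idealDepth_fibLocMod [IsNoetherianRing B] [Module.Finite B X] :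
    idealDepth (q.map (algebraMap B (EGA4.FibLocRing A B q))) (EGA4.FibLocMod A B q X) =
      idealDepth (maximalIdeal (Localization.AtPrime q))
        (EGA4.FibMod (Localization.AtPrime (q.comap (algebraMap A B))) (Localization.AtPrime q)
          (LocalizedModule q.primeCompl X)) := by
  rw [idealDepth_congr (fibEquiv A B q X)]
  have h2 := idealDepth_map_eq (A := Localization.AtPrime q) (B := EGA4.FibLocRing A B q)
    (maximalIdeal (Localization.AtPrime q)) (EGA4.FibLocMod A B q X)
  have hJ : (maximalIdeal (Localization.AtPrime q)).map
      (algebraMap (Localization.AtPrime q) (EGA4.FibLocRing A B q)) =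
      q.map (algebraMap B (EGA4.FibLocRing A B q)) := by
    rw [← Localization.AtPrime.map_eq_maximalIdeal, Ideal.map_map,
      ← IsScalarTower.algebraMap_eq]
  rw [hJ] at h2
  exact h2.symm

end Fibre

section Double

variable (A B : Type u) [CommRing A] [CommRing B] [Algebra A B] (q : Ideal B) [q.IsPrime]
  (G : Type u) [AddCommGroup G] [Module B G] [Module A G] [IsScalarTower A B G]

attribute [local instance] modAtPrime isScalarTower_atPrime isScalarTower_atPrime'

/-- flatness of the stalks of `G_q` follows from flatness of the stalks of `G`. -/
theorem flat_double_localization (Q : Ideal (Localization.AtPrime q)) [Q.IsPrime]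
    (h : Module.Flat A
      (LocalizedModule (Q.comap (algebraMap B (Localization.AtPrime q))).primeCompl G)) :
    Module.Flat (Localization.AtPrime (q.comap (algebraMap A B)))
      (LocalizedModule Q.primeCompl (LocalizedModule q.primeCompl G)) := by
  let f0 : G →ₗ[B] LocalizedModule q.primeCompl G := LocalizedModule.mkLinearMap q.primeCompl G
  let g : LocalizedModule q.primeCompl G →ₗ[Localization.AtPrime q]
      LocalizedModule Q.primeCompl (LocalizedModule q.primeCompl G) :=
    LocalizedModule.mkLinearMap Q.primeCompl (LocalizedModule q.primeCompl G)
  have hf0 : IsBaseChange (Localization.AtPrime q) f0 :=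
    IsLocalizedModule.isBaseChange q.primeCompl _ f0
  have hg : IsBaseChange (Localization.AtPrime Q) g :=
    IsLocalizedModule.isBaseChange Q.primeCompl _ g
  have hfg := IsBaseChange.comp hf0 hg
  have hT : IsLocalization.AtPrime (Localization.AtPrime Q)
      (Q.comap (algebraMap B (Localization.AtPrime q))) :=
    IsLocalization.isLocalization_isLocalization_atPrime_isLocalization q.primeCompl
      (Localization.AtPrime Q) Q
  have hloc : IsLocalizedModule (Q.comap (algebraMap B (Localization.AtPrime q))).primeCompl
      ((g.restrictScalars B).comp f0) :=
    (isLocalizedModule_iff_isBaseChange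
      (Q.comap (algebraMap B (Localization.AtPrime q))).primeCompl (Localization.AtPrime Q) _).mpr hfg
  let e0 : LocalizedModule Q.primeCompl (LocalizedModule q.primeCompl G) ≃ₗ[B]
      LocalizedModule (Q.comap (algebraMap B (Localization.AtPrime q))).primeCompl G :=
    IsLocalizedModule.linearEquiv (Q.comap (algebraMap B (Localization.AtPrime q))).primeCompl
      ((g.restrictScalars B).comp f0)
      (LocalizedModule.mkLinearMap (Q.comap (algebraMap B (Localization.AtPrime q))).primeCompl G)
  have hA : Module.Flat A (LocalizedModule Q.primeCompl (LocalizedModule q.primeCompl G)) :=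
    Module.Flat.of_linearEquiv (e0.restrictScalars A)
  exact (Module.flat_iff_of_isLocalization (Localization.AtPrime (q.comap (algebraMap A B)))
    (q.comap (algebraMap A B)).primeCompl _).mpr hA

end Double

section Transfer

variable (A B : Type u) [CommRing A] [CommRing B] [IsNoetherianRing A] [IsNoetherianRing B]
  [Algebra A B] (q : Ideal B) [q.IsPrime]
  {F E0 E1 G : Type u} [AddCommGroup F] [Module B F] [Module A F] [IsScalarTower A B F]
  [Module.Finite B F]
  [AddCommGroup E0] [Module B E0] [Module A E0] [IsScalarTower A B E0] [Module.Finite B E0]
  [Module.Flat A E0]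
  [AddCommGroup E1] [Module B E1] [Module A E1] [IsScalarTower A B E1] [Module.Finite B E1]
  [Module.Flat A E1]
  [AddCommGroup G] [Module B G] [Module A G] [IsScalarTower A B G] [Module.Finite B G]
  (f : F →ₗ[B] E0) (u : E0 →ₗ[B] E1) (v : E1 →ₗ[B] G)
  (hf : Injective f) (hfu : Exact f u) (huv : Exact u v) (hv : Surjective v)

attribute [local instance] modAtPrime isScalarTower_atPrime isScalarTower_atPrime'

include hf hfu huv hv

/-- The four-term criterion at the stalk of a prime `q`, given flatness of `G` at all proper
generizations of `q`. -/
theorem local_four_term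
    (hG : ∀ q' : Ideal B, ∀ _ : q'.IsPrime, q' < q →
      Module.Flat A (LocalizedModule q'.primeCompl G))
    (h0 : 2 ≤ idealDepth (q.map (algebraMap B (EGA4.FibLocRing A B q))) (EGA4.FibLocMod A B q E0))
    (h1 : 1 ≤ idealDepth (q.map (algebraMap B (EGA4.FibLocRing A B q))) (EGA4.FibLocMod A B q E1)) :
    (2 ≤ idealDepth (q.map (algebraMap B (EGA4.FibLocRing A B q))) (EGA4.FibLocMod A B q F) ↔
      Module.Flat A (LocalizedModule q.primeCompl G)) := by
  rw [idealDepth_fibLocMod A B q F]
  rw [idealDepth_fibLocMod A B q E0] at h0
  rw [idealDepth_fibLocMod A B q E1] at h1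
  haveI : Module.Flat (Localization.AtPrime (q.comap (algebraMap A B)))
      (LocalizedModule q.primeCompl E0) :=
    (flat_atPrime_iff A B q E0).mpr (flat_localizedModule q.primeCompl E0)
  haveI : Module.Flat (Localization.AtPrime (q.comap (algebraMap A B)))
      (LocalizedModule q.primeCompl E1) :=
    (flat_atPrime_iff A B q E1).mpr (flat_localizedModule q.primeCompl E1)
  have hf' : Injective (LocalizedModule.map q.primeCompl f) :=
    LocalizedModule.map_injective q.primeCompl f hf
  have hv' : Surjective (LocalizedModule.map q.primeCompl v) :=
    LocalizedModule.map_surjective q.primeCompl v hv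
  have hfu' : Exact (LocalizedModule.map q.primeCompl f) (LocalizedModule.map q.primeCompl u) :=
    LocalizedModule.map_exact q.primeCompl f u hfu
  have huv' : Exact (LocalizedModule.map q.primeCompl u) (LocalizedModule.map q.primeCompl v) :=
    LocalizedModule.map_exact q.primeCompl u v huv
  have hGU' : ∀ Q : PrimeSpectrum (Localization.AtPrime q),
      ¬ maximalIdeal (Localization.AtPrime q) ≤ Q.asIdeal →
      Module.Flat (Localization.AtPrime (q.comap (algebraMap A B)))
        (LocalizedModule Q.asIdeal.primeCompl (LocalizedModule q.primeCompl G)) := by
    intro Q hQ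
    apply flat_double_localization
    apply hG _ inferInstance
    have hle : Q.asIdeal.comap (algebraMap B (Localization.AtPrime q)) ≤ q := by
      have h1 : Q.asIdeal ≤ maximalIdeal (Localization.AtPrime q) :=
        le_maximalIdeal Q.2.ne_top
      have h2 := Ideal.comap_mono (f := algebraMap B (Localization.AtPrime q)) h1
      have h4 : (maximalIdeal (Localization.AtPrime q)).comap
          (algebraMap B (Localization.AtPrime q)) = q :=
        Localization.AtPrime.under_maximalIdeal (I := q)
      rwa [h4] at h2
    refine lt_of_le_of_ne hle ?_
    intro heq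
    apply hQ
    have h3 : Ideal.map (algebraMap B (Localization.AtPrime q))
        (Q.asIdeal.comap (algebraMap B (Localization.AtPrime q))) = Q.asIdeal :=
      IsLocalization.map_under q.primeCompl (Localization.AtPrime q) Q.asIdeal
    rw [heq, Localization.AtPrime.map_eq_maximalIdeal] at h3
    exact h3.le
  have key := four_term_equivalences (Localization.AtPrime (q.comap (algebraMap A B)))
    (Localization.AtPrime q) (maximalIdeal (Localization.AtPrime q))
    (LocalizedModule.map q.primeCompl f) (LocalizedModule.map q.primeCompl u)
    (LocalizedModule.map q.primeCompl v) hf' hfu' huv' hv' hGU' h0 h1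
  exact key.1.trans (flat_atPrime_iff A B q G)

end Transfer

end Groth.Agent.Lib.helper26.FlatCrit
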