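import Mathlib
import Groth.Agent.Lib.Helper26.FlatCrit11
import Groth.Agent.S0387

/-!
# Four-term sequences: flatness of the cokernel at a prime versus flatness and fibre depth of the
kernel on a neighbourhood (helper26)
-/

set_option autoImplicit false
set_option linter.unusedSectionVars false
set_option linter.style.haveILetI false
universe u

open CategoryTheory Abelian RingTheory.Sequence LocCoh IsLocalRing TensorProduct Function
open scoped Pointwise

namespace Groth.Agent.Lib.helper26.FlatCrit

open Groth.Agent.Lib.helper26.Depth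

section main

variable (A B : Type u) [CommRing A] [CommRing B] [IsNoetherianRing A] [IsNoetherianRing B]
  [Algebra A B] (J : Ideal B)
  {F E0 E1 G : Type u} [AddCommGroup F] [Module B F] [Module A F] [IsScalarTower A B F]
  [Module.Finite B F]
  [AddCommGroup E0] [Module B E0] [Module A E0] [IsScalarTower A B E0] [Module.Finite B E0]
  [Module.Flat A E0]
  [AddCommGroup E1] [Module B E1] [Module A E1] [IsScalarTower A B E1] [Module.Finite B E1]
  [Module.Flat A E1]
  [AddCommGroup G] [Module B G] [Module A G] [IsScalarTower A B G] [Module.Finite B G]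
  (f : F →ₗ[B] E0) (u : E0 →ₗ[B] E1) (v : E1 →ₗ[B] G)
  (hf : Injective f) (hfu : Exact f u) (huv : Exact u v) (hv : Surjective v)

include hf hfu huv hv

/-- `G_q` flat ⟹ `F_q` flat. -/
theorem flat_localizedModule_ker (q : Ideal B) [q.IsPrime]
    (hG : Module.Flat A (LocalizedModule q.primeCompl G)) :
    Module.Flat A (LocalizedModule q.primeCompl F) := by
  haveI := flat_localizedModule (A := A) q.primeCompl E0
  haveI := flat_localizedModule (A := A) q.primeCompl E1
  exact flat_ker_of_flat_coker A B (locMap q.primeCompl f) (locMap q.primeCompl u)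
    (locMap q.primeCompl v)
    (IsLocalizedModule.map_injective q.primeCompl _ _ f hf)
    (IsLocalizedModule.map_exact q.primeCompl _ _ _ f u hfu)
    (IsLocalizedModule.map_exact q.primeCompl _ _ _ u v huv)
    (IsLocalizedModule.map_surjective q.primeCompl _ _ v hv)

theorem flatAt_coker_iff (hft : Algebra.FiniteType A B)
    (hGU : ∀ q : PrimeSpectrum B, ¬ J ≤ q.asIdeal →
      Module.Flat A (LocalizedModule q.asIdeal.primeCompl G))
    (h0 : ∀ q : PrimeSpectrum B, J ≤ q.asIdeal →
      2 ≤ idealDepth (q.asIdeal.map (algebraMap B (EGA4.FibLocRing A B q.asIdeal)))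
        (EGA4.FibLocMod A B q.asIdeal E0))
    (h1 : ∀ q : PrimeSpectrum B, J ≤ q.asIdeal →
      1 ≤ idealDepth (q.asIdeal.map (algebraMap B (EGA4.FibLocRing A B q.asIdeal)))
        (EGA4.FibLocMod A B q.asIdeal E1))
    (n : PrimeSpectrum B) :
    Module.Flat A (LocalizedModule n.asIdeal.primeCompl G) ↔
      ∃ s : B, s ∉ n.asIdeal ∧ ∀ q : PrimeSpectrum B, s ∉ q.asIdeal →
        Module.Flat A (LocalizedModule q.asIdeal.primeCompl F) ∧
        (J ≤ q.asIdeal →
          2 ≤ idealDepth (q.asIdeal.map (algebraMap B (EGA4.FibLocRing A B q.asIdeal)))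
            (EGA4.FibLocMod A B q.asIdeal F)) := by
  constructor
  · intro hn
    haveI : Algebra.FinitePresentation A B := Algebra.FinitePresentation.of_finiteType.mp hft
    haveI : Module.FinitePresentation B G := Module.finitePresentation_of_finite B G
    have hopen := Groth.Agent.S0387.result (R := A) (S := B) (M := G)
    obtain ⟨V, ⟨s, rfl⟩, hnV, hVU⟩ :=
      PrimeSpectrum.isTopologicalBasis_basic_opens.exists_subset_of_mem_open
        (show n ∈ {q : PrimeSpectrum B | Module.Flat A (LocalizedModule q.asIdeal.primeCompl G)}
          from hn) hopen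
    refine ⟨s, hnV, fun q hsq => ?_⟩
    have hGq : Module.Flat A (LocalizedModule q.asIdeal.primeCompl G) := hVU hsq
    refine ⟨flat_localizedModule_ker A B f u v hf hfu huv hv q.asIdeal hGq, fun hJq => ?_⟩
    refine (local_four_term A B q.asIdeal f u v hf hfu huv hv ?_ (h0 q hJq) (h1 q hJq)).mpr hGq
    intro q' hq' hlt
    exact hVU (show (⟨q', hq'⟩ : PrimeSpectrum B) ∈ (PrimeSpectrum.basicOpen s : Set _) from
      fun hs => hsq (hlt.le hs))
  · rintro ⟨s, hsn, H⟩
    have key : ∀ m : ℕ, ∀ q : PrimeSpectrum B, q.asIdeal.height.toNat = m → s ∉ q.asIdeal →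
        Module.Flat A (LocalizedModule q.asIdeal.primeCompl G) := by
      intro m
      induction m using Nat.strong_induction_on with
      | _ m ih =>
        intro q hqm hsq
        by_cases hJq : J ≤ q.asIdeal
        · refine (local_four_term A B q.asIdeal f u v hf hfu huv hv ?_ (h0 q hJq) (h1 q hJq)).mp
            ((H q hsq).2 hJq)
          intro q' hq' hlt
          have hlt' : q'.height < q.asIdeal.height :=
            Ideal.height_strict_mono_of_isPrime_of_isPrime hlt
          obtain ⟨a, ha⟩ := ENat.ne_top_iff_exists.mp (Ideal.height_ne_top_of_isPrime (I := q'))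
          obtain ⟨b, hb⟩ := ENat.ne_top_iff_exists.mp
            (Ideal.height_ne_top_of_isPrime (I := q.asIdeal))
          have hab : a < b := by
            rw [← ha, ← hb] at hlt'
            exact_mod_cast hlt'
          have hbm : b = m := by
            rw [← hb] at hqm
            simpa using hqm
          have haq : (⟨q', hq'⟩ : PrimeSpectrum B).asIdeal.height.toNat = a := by
            change q'.height.toNat = a
            rw [← ha]
            simp
          exact ih a (hbm ▸ hab) ⟨q', hq'⟩ haq (fun hs => hsq (hlt.le hs))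
        · exact hGU q hJq
    exact key _ n rfl hsn

end main

end Groth.Agent.Lib.helper26.FlatCrit
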