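import Mathlib
import Groth.Agent.Lib.Helper26.FlatCrit11

/-!
# Four-term sequences at the stalk of a prime, depth along an arbitrary ideal (helper26)
-/

set_option autoImplicit false
set_option linter.unusedSectionVars false
set_option linter.style.haveILetI false
universe u

open CategoryTheory Abelian RingTheory.Sequence LocCoh IsLocalRing TensorProduct Function
open scoped Pointwise

namespace Groth.Agent.Lib.helper26.FlatCrit

open Groth.Agent.Lib.helper26.Depth
open Groth.Agent.Lib.helper8.LocalFlat
open Groth.Agent.Lib.Helper24.FlatDepth

attribute [local instance] Localization.AtPrime.algebraOfLiesOver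

section Fibre

variable (A B : Type u) [CommRing A] [CommRing B] [Algebra A B] (q : Ideal B) [q.IsPrime]
  (X : Type u) [AddCommGroup X] [Module B X]

attribute [local instance] modAtPrime isScalarTower_atPrime isScalarTower_atPrime'

theorem idealDepth_fibLocMod_ideal [IsNoetherianRing B] [Module.Finite B X] (J : Ideal B) :
    idealDepth (J.map (algebraMap B (EGA4.FibLocRing A B q))) (EGA4.FibLocMod A B q X) =
      idealDepth (J.map (algebraMap B (Localization.AtPrime q)))
        (EGA4.FibMod (Localization.AtPrime (q.comap (algebraMap A B))) (Localization.AtPrime q)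
          (LocalizedModule q.primeCompl X)) := by
  rw [idealDepth_congr (fibEquiv A B q X)]
  have h2 := idealDepth_map_eq (A := Localization.AtPrime q) (B := EGA4.FibLocRing A B q)
    (J.map (algebraMap B (Localization.AtPrime q))) (EGA4.FibLocMod A B q X)
  have hJ : (J.map (algebraMap B (Localization.AtPrime q))).map
      (algebraMap (Localization.AtPrime q) (EGA4.FibLocRing A B q)) =
      J.map (algebraMap B (EGA4.FibLocRing A B q)) := by
    rw [Ideal.map_map, ← IsScalarTower.algebraMap_eq]
  rw [hJ] at h2
  exact h2.symm

end Fibre

section Transfer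

variable (A B : Type u) [CommRing A] [CommRing B] [IsNoetherianRing A] [IsNoetherianRing B]
  [Algebra A B] (q : Ideal B) [q.IsPrime]
  {F E0 E1 G : Type u} [AddCommGroup F] [Module B F] [Module A F] [IsScalarTower A B F]
  [Module.Finite B F]
  [AddCommGroup E0] [Module B E0] [Module A E0] [IsScalarTower A B E0] [Module.Finite B E0]
  [Module.Flat A E0]
  [AddCommGroup E1] [Module B E1] [Module A E1] [IsScalarTower A B E1] [Module.Finite B E1]
  [Module.Flat A E1]
  [AddCommGroup G] [Module B G] [Module A G] [IsScalarTower A B G] [Module.Finite B G]
  (f : F →ₗ[B] E0) (u : E0 →ₗ[B] E1) (v : E1 →ₗ[B] G)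
  (hf : Injective f) (hfu : Exact f u) (huv : Exact u v) (hv : Surjective v)

attribute [local instance] modAtPrime isScalarTower_atPrime isScalarTower_atPrime'

include hf hfu huv hv

/-- The four-term criterion at the stalk of a prime `q` with depth taken along an ideal `J`,
given flatness of `G` at the generizations of `q` off `V(J)`. -/
theorem local_four_term_ideal (J : Ideal B)
    (hG : ∀ q' : Ideal B, ∀ _ : q'.IsPrime, q' ≤ q → ¬ J ≤ q' →
      Module.Flat A (LocalizedModule q'.primeCompl G))
    (h0 : 2 ≤ idealDepth (J.map (algebraMap B (EGA4.FibLocRing A B q))) (EGA4.FibLocMod A B q E0))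
    (h1 : 1 ≤ idealDepth (J.map (algebraMap B (EGA4.FibLocRing A B q))) (EGA4.FibLocMod A B q E1)) :
    (2 ≤ idealDepth (J.map (algebraMap B (EGA4.FibLocRing A B q))) (EGA4.FibLocMod A B q F) ↔
      Module.Flat A (LocalizedModule q.primeCompl G)) := by
  rw [idealDepth_fibLocMod_ideal A B q F]
  rw [idealDepth_fibLocMod_ideal A B q E0] at h0
  rw [idealDepth_fibLocMod_ideal A B q E1] at h1
  haveI : Module.Flat (Localization.AtPrime (q.comap (algebraMap A B)))
      (LocalizedModule q.primeCompl E0) :=
    (flat_atPrime_iff A B q E0).mpr (flat_localizedModule q.primeCompl E0)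
  haveI : Module.Flat (Localization.AtPrime (q.comap (algebraMap A B)))
      (LocalizedModule q.primeCompl E1) :=
    (flat_atPrime_iff A B q E1).mpr (flat_localizedModule q.primeCompl E1)
  have hf' : Injective (LocalizedModule.map q.primeCompl f) :=
    LocalizedModule.map_injective q.primeCompl f hf
  have hv' : Surjective (LocalizedModule.map q.primeCompl v) :=
    LocalizedModule.map_surjective q.primeCompl v hv
  have hfu' : Exact (LocalizedModule.map q.primeCompl f) (LocalizedModule.map q.primeCompl u) :=
    LocalizedModule.map_exact q.primeCompl f u hfu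
  have huv' : Exact (LocalizedModule.map q.primeCompl u) (LocalizedModule.map q.primeCompl v) :=
    LocalizedModule.map_exact q.primeCompl u v huv
  have hGU' : ∀ Q : PrimeSpectrum (Localization.AtPrime q),
      ¬ J.map (algebraMap B (Localization.AtPrime q)) ≤ Q.asIdeal →
      Module.Flat (Localization.AtPrime (q.comap (algebraMap A B)))
        (LocalizedModule Q.asIdeal.primeCompl (LocalizedModule q.primeCompl G)) := by
    intro Q hQ
    apply flat_double_localization
    apply hG _ inferInstance
    · have h1 : Q.asIdeal ≤ maximalIdeal (Localization.AtPrime q) :=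
        le_maximalIdeal Q.2.ne_top
      have h2 := Ideal.comap_mono (f := algebraMap B (Localization.AtPrime q)) h1
      have h4 : (maximalIdeal (Localization.AtPrime q)).comap
          (algebraMap B (Localization.AtPrime q)) = q :=
        Localization.AtPrime.under_maximalIdeal (I := q)
      rwa [h4] at h2
    · intro hJ
      exact hQ (Ideal.map_le_iff_le_comap.mpr hJ)
  have key := four_term_equivalences (Localization.AtPrime (q.comap (algebraMap A B)))
    (Localization.AtPrime q) (J.map (algebraMap B (Localization.AtPrime q)))
    (LocalizedModule.map q.primeCompl f) (LocalizedModule.map q.primeCompl u)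
    (LocalizedModule.map q.primeCompl v) hf' hfu' huv' hv' hGU' h0 h1
  exact key.1.trans (flat_atPrime_iff A B q G)

end Transfer

end Groth.Agent.Lib.helper26.FlatCrit
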