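import Mathlib

/-!
# Kernel of a surjection onto a flat algebra (helper26)

If `φ : H → B` is a surjective `A`-algebra map with `B` flat over `A`, then
`ker φ ∩ IH ⊆ IH · ker φ`; hence if `ker φ` is finitely generated, contained in `IH`, and
`IH ⊆ Jac(H)`, then `ker φ = 0`.
-/

universe u

namespace Groth.Agent.Lib.helper26.FlatKer

variable {A : Type u} [CommRing A] (I : Ideal A) {H B : Type u} [CommRing H] [CommRing B]
  [Algebra A H] [Algebra A B]

theorem mem_mul_ker_of_flat [Module.Flat A B] (φ : H →ₐ[A] B) (hφ : Function.Surjective φ)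
    (x : H) (hx : x ∈ RingHom.ker φ) (hxI : x ∈ I.map (algebraMap A H)) :
    x ∈ I.map (algebraMap A H) * RingHom.ker φ := by
  classical
  have h1 : x ∈ I • (⊤ : Submodule A H) := by
    rw [Ideal.smul_top_eq_map]; exact hxI
  rw [← Submodule.span_univ, ← Set.range_id (α := H),
    Submodule.mem_ideal_smul_span_iff_exists_sum] at h1
  obtain ⟨a, ha, hsum⟩ := h1
  rw [Finsupp.sum] at hsum
  simp only [id] at hsum
  -- sum over the support
  set s := a.support with hs
  have hsum' : ∑ i : s, a i.1 • (i.1 : H) = x := by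
    rw [← hsum]
    exact Finset.sum_coe_sort s (fun i => a i • i)
  have hrel : ∑ i : s, a i.1 • φ (i.1 : H) = 0 := by
    have : φ x = 0 := hx
    rw [← hsum', map_sum] at this
    simpa only [map_smul] using this
  obtain ⟨k, c, y, hy, hc⟩ := Module.Flat.isTrivialRelation_of_sum_smul_eq_zero (R := A) (M := B)
    (f := fun i : s => a i.1) (x := fun i : s => φ (i.1 : H)) hrel
  have hy : ∀ i : s, φ (i.1 : H) = ∑ j, c i j • y j := hy
  have hc : ∀ j, ∑ i : s, a i.1 * c i j = 0 := hc
  choose ytil hytil using fun j => hφ (y j)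
  -- the elements `κ i ∈ ker φ`
  let κ : s → H := fun i => (i.1 : H) - ∑ j, c i j • ytil j
  have hκ : ∀ i, κ i ∈ RingHom.ker φ := by
    intro i
    rw [RingHom.mem_ker]
    show φ ((i.1 : H) - ∑ j, c i j • ytil j) = 0
    rw [map_sub, map_sum, hy i, sub_eq_zero]
    refine Finset.sum_congr rfl fun j _ => ?_
    rw [map_smul, hytil]
  have hx2 : x = ∑ i : s, a i.1 • κ i := by
    have h3 : ∑ i : s, a i.1 • ∑ j, c i j • ytil j = 0 := by
      simp only [Finset.smul_sum, smul_smul]
      rw [Finset.sum_comm]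
      refine Finset.sum_eq_zero fun j _ => ?_
      rw [← Finset.sum_smul, hc j, zero_smul]
    rw [← hsum']
    simp only [κ, smul_sub, Finset.sum_sub_distrib, h3, sub_zero]
  rw [hx2]
  refine Ideal.sum_mem _ fun i _ => ?_
  rw [Algebra.smul_def]
  exact Ideal.mul_mem_mul (Ideal.mem_map_of_mem _ (ha i.1)) (hκ i)

theorem ker_eq_bot_of_flat [Module.Flat A B] (φ : H →ₐ[A] B) (hφ : Function.Surjective φ)
    (hfg : (RingHom.ker φ).FG) (hle : RingHom.ker φ ≤ I.map (algebraMap A H))
    (hjac : I.map (algebraMap A H) ≤ Ideal.jacobson ⊥) : RingHom.ker φ = ⊥ := by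
  apply Submodule.eq_bot_of_le_smul_of_le_jacobson_bot (I.map (algebraMap A H)) _ hfg _ hjac
  intro x hx
  rw [Ideal.smul_eq_mul]
  exact mem_mul_ker_of_flat I φ hφ x hx (hle hx)

end Groth.Agent.Lib.helper26.FlatKer
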