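import Groth.Agent.Lib.Helper26.FunFldSep
import Groth.Agent.S11000

/-!
# Separably generated function fields with algebraically closed constants are geometric (helper26)
-/

set_option autoImplicit false
universe u v

open TensorProduct IntermediateField

namespace Groth.Agent.Lib.helper26.FunFldGeom

open scoped IntermediateField.algebraAdjoinAdjoin

/-- Base change of a finite formally unramified algebra over a field to a field is reduced
(with the field structure given as `IsField`). -/
theorem isReduced_tensor_of_isField {F M A : Type*} [Field F] [CommRing M] [Algebra F M]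
    (hM : IsField M) [CommRing A] [Algebra F A] [Algebra.FormallyUnramified F A]
    [Module.Finite F A] : IsReduced (M ⊗[F] A) := by
  letI : Field M := hM.toField
  exact Algebra.FormallyUnramified.isReduced_of_field M (M ⊗[F] A)

/-- If `K/E` is finite separable and `E ⊗[k] k'` is a field, then `k' ⊗[k] K` is reduced. -/
theorem isReduced_tensor_aux {k E K k' : Type*} [Field k] [Field E] [Field K] [Field k']
    [Algebra k E] [Algebra E K] [Algebra k K] [IsScalarTower k E K] [Algebra k k']
    (hE : IsField (E ⊗[k] k')) [Module.Finite E K] [Algebra.IsSeparable E K] :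
    IsReduced (k' ⊗[k] K) := by
  have hunr : Algebra.FormallyUnramified E K := Algebra.FormallyUnramified.of_isSeparable E K
  have h1 : IsReduced ((E ⊗[k] k') ⊗[E] K) := isReduced_tensor_of_isField hE
  have h2 : IsReduced (K ⊗[E] (E ⊗[k] k')) :=
    isReduced_of_injective (Algebra.TensorProduct.comm E K (E ⊗[k] k')).toRingHom
      (Algebra.TensorProduct.comm E K (E ⊗[k] k')).injective
  have h3 : IsReduced (K ⊗[k] k') :=
    isReduced_of_injective (Algebra.TensorProduct.cancelBaseChange k E K K k').symm.toRingHom
      (Algebra.TensorProduct.cancelBaseChange k E K K k').symm.injective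
  exact isReduced_of_injective (Algebra.TensorProduct.comm k k' K).toRingHom
      (Algebra.TensorProduct.comm k k' K).injective

section Transc

variable {k : Type u} {K : Type v} [Field k] [Field K] [Algebra k K]

open Polynomial in
/-- A basis of an algebraic extension `k'/k` stays linearly independent over `k(x)` for `x`
transcendental, inside any common overfield. -/
theorem linearIndependent_adjoin_of_transcendental
    {k' : Type*} [Field k'] [Algebra k k'] [Algebra.IsAlgebraic k k']
    {Ω : Type*} [Field Ω] [Algebra k Ω] [Algebra k' Ω] [IsScalarTower k k' Ω]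
    (x : Ω) (hx : Transcendental k x) {ι : Type*} (b : Module.Basis ι k k') :
    LinearIndependent k⟮x⟯ (fun i => algebraMap k' Ω (b i)) := by
  rw [← LinearIndependent.iff_fractionRing (R := Algebra.adjoin k {x}) (K := k⟮x⟯)]
  have hx' : Transcendental k' x := by
    intro h
    exact hx (h.restrictScalars k)
  rw [linearIndependent_iff']
  intro s g hg i hi
  have hmem : ∀ j, ∃ f : k[X], aeval x f = (g j : Ω) := by
    intro j
    have h1 : (g j : Ω) ∈ (aeval x : k[X] →ₐ[k] Ω).range := by
      rw [← Algebra.adjoin_singleton_eq_range_aeval]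
      exact (g j).2
    exact h1
  choose f hf using hmem
  let P : k'[X] := ∑ j ∈ s, C (b j) * (f j).map (algebraMap k k')
  have hP : aeval x P = 0 := by
    rw [map_sum, ← hg]
    apply Finset.sum_congr rfl
    intro j _
    rw [map_mul, aeval_C, aeval_map_algebraMap, hf, mul_comm]
    rfl
  have hP0 : P = 0 := by
    by_contra hne
    exact hx' ⟨P, hne, hP⟩
  have hcoeff : ∀ n j, j ∈ s → (f j).coeff n = 0 := by
    intro n
    have h1 : ∑ j ∈ s, (f j).coeff n • b j = 0 := by
      have := congrArg (fun Q : k'[X] => Q.coeff n) hP0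
      simp only [P, finsetSum_coeff, coeff_C_mul, coeff_map, coeff_zero] at this
      rw [← this]
      apply Finset.sum_congr rfl
      intro j _
      rw [Algebra.smul_def, mul_comm]
    exact linearIndependent_iff'.1 b.linearIndependent s (fun j => (f j).coeff n) h1
  have hfi : f i = 0 := by
    ext n
    rw [hcoeff n i hi, coeff_zero]
  apply Subtype.ext
  rw [← hf, hfi, map_zero]
  rfl

/-- `k' ⊗[k] k(x)` is a field when `k'/k` is algebraic and `x` is transcendental. -/
theorem isField_tensor_adjoin_transcendental (k' : Type*) [Field k'] [Algebra k k']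
    [Algebra.IsAlgebraic k k'] (x : K) (hx : Transcendental k x) : IsField (k' ⊗[k] k⟮x⟯) := by
  let σ : k' →ₐ[k] AlgebraicClosure K := IsAlgClosed.lift
  let τ : k⟮x⟯ →ₐ[k] AlgebraicClosure K :=
    (IsScalarTower.toAlgHom k K (AlgebraicClosure K)).comp k⟮x⟯.val
  refine IntermediateField.LinearDisjoint.isField_of_isAlgebraic' (fa := σ) (fb := τ) ?_
    (Or.inl inferInstance)
  have hτ : τ.fieldRange = k⟮algebraMap K (AlgebraicClosure K) x⟯ := by
    rw [IntermediateField.fieldRange_comp_val, IntermediateField.adjoin_map, Set.image_singleton]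
    rfl
  rw [hτ]
  have hxΩ : Transcendental k (algebraMap K (AlgebraicClosure K) x) :=
    (transcendental_algebraMap_iff (algebraMap K (AlgebraicClosure K)).injective).2 hx
  letI : Algebra k' (AlgebraicClosure K) := σ.toRingHom.toAlgebra
  haveI : IsScalarTower k k' (AlgebraicClosure K) :=
    IsScalarTower.of_algebraMap_eq (fun c => (σ.commutes c).symm)
  obtain ⟨ι, ⟨b⟩⟩ := Module.Basis.exists_basis k k'
  let e : k' ≃ₐ[k] σ.fieldRange := AlgEquiv.ofInjectiveField σ
  let b' : Module.Basis ι k σ.fieldRange := b.map e.toLinearEquiv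
  apply IntermediateField.LinearDisjoint.of_basis_left b'
  have hfun : (σ.fieldRange.val ∘ b') = fun i => algebraMap k' (AlgebraicClosure K) (b i) := by
    funext i
    rfl
  rw [hfun]
  exact linearIndependent_adjoin_of_transcendental _ hxΩ b

/-- If `K` is finite separable over `k(x)` with `x` transcendental, then `k' ⊗[k] K` is reduced
for every algebraic extension `k'/k`. -/
theorem isReduced_tensor (k' : Type*) [Field k'] [Algebra k k']
    [Algebra.IsAlgebraic k k'] (x : K) (hx : Transcendental k x)
    [Module.Finite k⟮x⟯ K] [Algebra.IsSeparable k⟮x⟯ K] : IsReduced (k' ⊗[k] K) := by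
  have hE : IsField (k⟮x⟯ ⊗[k] k') :=
    (Algebra.TensorProduct.comm k k⟮x⟯ k').toMulEquiv.isField
      (isField_tensor_adjoin_transcendental k' x hx)
  exact isReduced_tensor_aux (E := k⟮x⟯) hE

end Transc

section Sep

variable {k : Type u} {K : Type v} [Field k] [Field K] [Algebra k K]

/-- If `k` is algebraically closed in `K` and `k'/k` is finite separable then `k' ⊗[k] K` is a
field. -/
theorem isField_tensor_of_isSeparable
    (hcl : ∀ y : K, IsAlgebraic k y → y ∈ Set.range (algebraMap k K))
    (k' : Type*) [Field k'] [Algebra k k'] [FiniteDimensional k k'] [Algebra.IsSeparable k k'] :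
    IsField (k' ⊗[k] K) := by
  have halg : Algebra.IsAlgebraic k k' := Algebra.IsAlgebraic.of_finite k k'
  obtain ⟨α, hα⟩ := Field.exists_primitive_element k k'
  let σ : k' →ₐ[k] AlgebraicClosure K := IsAlgClosed.lift
  let τ : K →ₐ[k] AlgebraicClosure K := IsScalarTower.toAlgHom k K (AlgebraicClosure K)
  refine IntermediateField.LinearDisjoint.isField_of_isAlgebraic' (fa := σ) (fb := τ) ?_
    (Or.inl halg)
  set β : AlgebraicClosure K := σ α with hβ
  have hβint : IsIntegral k β := (Algebra.IsIntegral.isIntegral α).map σ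
  have hrange : σ.fieldRange = k⟮β⟯ := by
    rw [AlgHom.fieldRange_eq_map, ← hα, IntermediateField.adjoin_map, Set.image_singleton]
  rw [hrange, IntermediateField.linearDisjoint_iff']
  change k⟮β⟯.LinearDisjoint K
  let pb := IntermediateField.adjoin.powerBasis hβint
  apply IntermediateField.LinearDisjoint.of_basis_left pb.basis
  have hirr : Irreducible ((minpoly k β).map (algebraMap k K)) :=
    Groth.Agent.S11000.irreducible_map hcl (minpoly.monic hβint) (minpoly.irreducible hβint)
  have hmin : (minpoly k β).map (algebraMap k K) = minpoly K β := by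
    apply minpoly.eq_of_irreducible_of_monic hirr
    · rw [Polynomial.aeval_map_algebraMap]
      exact minpoly.aeval k β
    · exact (minpoly.monic hβint).map _
  have hli := linearIndependent_pow (K := K) β
  rw [← hmin, Polynomial.natDegree_map] at hli
  have hfun : (k⟮β⟯.val ∘ pb.basis) = fun i : Fin (minpoly k β).natDegree => β ^ (i : ℕ) := by
    funext i
    change ((pb.basis i : k⟮β⟯) : AlgebraicClosure K) = β ^ (i : ℕ)
    rw [pb.basis_eq_pow]
    simp [pb]
  rw [hfun]
  exact hli

end Sep

section PurelyInsep

/-- If `k'/k₁` is purely inseparable, `F` is a field over `k₁` and `k' ⊗[k₁] F` is reduced, then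
`k' ⊗[k₁] F` is a field. -/
theorem isField_tensor_of_isPurelyInseparable {k₁ k' F : Type*} [Field k₁] [Field k']
    [Algebra k₁ k'] [IsPurelyInseparable k₁ k'] [CommRing F] [Algebra k₁ F] (hF : IsField F)
    (hred : IsReduced (k' ⊗[k₁] F)) : IsField (k' ⊗[k₁] F) := by
  have hFnt : Nontrivial F := hF.nontrivial
  have hinjR : Function.Injective
      (Algebra.TensorProduct.includeRight : F →ₐ[k₁] k' ⊗[k₁] F) :=
    Algebra.TensorProduct.includeRight_injective (algebraMap k₁ k').injective
  have hnt : Nontrivial (k' ⊗[k₁] F) := hinjR.nontrivial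
  obtain ⟨q, hq⟩ := ExpChar.exists k₁
  have hqR : ExpChar (k' ⊗[k₁] F) q :=
    expChar_of_injective_algebraMap (algebraMap k₁ (k' ⊗[k₁] F)).injective q
  have hqF : ExpChar F q := expChar_of_injective_algebraMap (algebraMap k₁ F).injective q
  have key : ∀ z : k' ⊗[k₁] F, ∃ (n : ℕ) (w : F), z ^ q ^ n = (1 : k') ⊗ₜ[k₁] w := by
    intro z
    induction z using TensorProduct.induction_on with
    | zero =>
      refine ⟨0, 0, ?_⟩
      rw [pow_zero, pow_one, TensorProduct.tmul_zero]
    | tmul a f =>
      obtain ⟨n, c, hc⟩ := IsPurelyInseparable.pow_mem k₁ q a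
      refine ⟨n, c • f ^ q ^ n, ?_⟩
      rw [Algebra.TensorProduct.tmul_pow, ← hc, Algebra.algebraMap_eq_smul_one,
        TensorProduct.smul_tmul]
    | add z₁ z₂ h₁ h₂ =>
      obtain ⟨n₁, w₁, hw₁⟩ := h₁
      obtain ⟨n₂, w₂, hw₂⟩ := h₂
      refine ⟨n₁ + n₂, w₁ ^ q ^ n₂ + w₂ ^ q ^ n₁, ?_⟩
      rw [add_pow_expChar_pow, TensorProduct.tmul_add]
      congr 1
      · rw [pow_add, pow_mul, hw₁, Algebra.TensorProduct.tmul_pow, one_pow]
      · rw [add_comm n₁ n₂, pow_add, pow_mul, hw₂, Algebra.TensorProduct.tmul_pow, one_pow]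
  refine ⟨exists_pair_ne _, mul_comm, ?_⟩
  intro z hz
  obtain ⟨n, w, hw⟩ := key z
  have hw0 : w ≠ 0 := by
    rintro rfl
    rw [TensorProduct.tmul_zero] at hw
    exact hz (eq_zero_of_pow_eq_zero hw)
  obtain ⟨w', hw'⟩ := hF.mul_inv_cancel hw0
  have hpos : 0 < q ^ n := expChar_pow_pos k₁ q n
  refine ⟨z ^ (q ^ n - 1) * ((1 : k') ⊗ₜ[k₁] w'), ?_⟩
  rw [← mul_assoc, ← pow_succ', Nat.sub_add_cancel hpos, hw, Algebra.TensorProduct.tmul_mul_tmul,
    one_mul, hw']
  rfl

/-- Two-step criterion: `ks ⊗[k] K` a field, `k'/ks` purely inseparable and `k' ⊗[k] K` reduced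
imply that `k' ⊗[k] K` is a field. -/
theorem isField_tensor_aux {k ks k' K : Type*} [Field k] [Field ks] [Field k'] [Field K]
    [Algebra k ks] [Algebra ks k'] [Algebra k k'] [IsScalarTower k ks k'] [Algebra k K]
    [IsPurelyInseparable ks k'] (hF : IsField (ks ⊗[k] K)) (hred : IsReduced (k' ⊗[k] K)) :
    IsField (k' ⊗[k] K) := by
  have hred' : IsReduced (k' ⊗[ks] (ks ⊗[k] K)) :=
    isReduced_of_injective
      (Algebra.TensorProduct.cancelBaseChange k ks k' k' K).toRingHom
      (Algebra.TensorProduct.cancelBaseChange k ks k' k' K).injective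
  have h := isField_tensor_of_isPurelyInseparable hF hred'
  exact (Algebra.TensorProduct.cancelBaseChange k ks k' k' K).symm.toMulEquiv.isField h

end PurelyInsep

section Main

variable {k : Type u} {K : Type v} [Field k] [Field K] [Algebra k K]

/-- A function field of one variable with a separating variable (and algebraically closed
constants) is geometric. -/
theorem isGeometric_of_isSeparable (hK : FunFld.IsFunctionField k K) (x : K)
    (hx : Transcendental k x) (hsep : Algebra.IsSeparable k⟮x⟯ K) : FunFld.IsGeometric k K := by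
  intro k' _ _ hfin
  have halg : Algebra.IsAlgebraic k k' := Algebra.IsAlgebraic.of_finite k k'
  have hfinK : Module.Finite k⟮x⟯ K := by
    obtain ⟨⟨x₀, hx₀, hfin₀⟩, -⟩ := hK
    have hess : Algebra.EssFiniteType k K := FunFldSep.essFiniteType_of_finite_adjoin x₀
    have hess' : Algebra.EssFiniteType k⟮x⟯ K := Algebra.EssFiniteType.of_comp k k⟮x⟯ K
    have hunr : Algebra.FormallyUnramified k⟮x⟯ K :=
      Algebra.FormallyUnramified.of_isSeparable k⟮x⟯ K
    exact Algebra.FormallyUnramified.finite_of_free k⟮x⟯ K
  have hred : IsReduced (k' ⊗[k] K) := isReduced_tensor k' x hx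
  have hF : IsField ((separableClosure k k') ⊗[k] K) :=
    isField_tensor_of_isSeparable hK.2 (separableClosure k k')
  exact isField_tensor_aux (ks := separableClosure k k') hF hred

end Main

end Groth.Agent.Lib.helper26.FunFldGeom
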