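import Mathlib

/-!
# Generic points near a point of a locally Noetherian quasi-sober space (helper26)
-/

set_option autoImplicit false
universe u

namespace Groth.Agent.Lib.helper26.GenericNhd

open TopologicalSpace

/-- In a quasi-sober space, a point `x` with an open Noetherian neighbourhood `V` has an open
neighbourhood `U` all of whose generic points (points with no proper generization)
specialize to `x`. -/
theorem exists_open_nhd {X : Type u} [TopologicalSpace X] [QuasiSober X] (V : Set X) (hV : IsOpen V)
    [NoetherianSpace V] (x : X) (hx : x ∈ V) :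
    ∃ U : Set X, IsOpen U ∧ x ∈ U ∧ ∀ ξ ∈ U, (∀ ξ' : X, ξ' ⤳ ξ → ξ' = ξ) → ξ ⤳ x := by
  classical
  have hqs : QuasiSober V := (hV.isOpenEmbedding_subtypeVal).quasiSober
  let xV : V := ⟨x, hx⟩
  have hfin : (irreducibleComponents V).Finite := NoetherianSpace.finite_irreducibleComponents
  let Bad : Set (Set V) := {Z | Z ∈ irreducibleComponents V ∧ xV ∉ Z}
  have hBadfin : Bad.Finite := hfin.subset fun Z hZ => hZ.1
  have hCclosed : IsClosed (⋃ Z ∈ Bad, Z) :=
    hBadfin.isClosed_biUnion fun Z hZ => isClosed_of_mem_irreducibleComponents Z hZ.1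
  let W : Set V := (⋃ Z ∈ Bad, Z)ᶜ
  have hWopen : IsOpen W := hCclosed.isOpen_compl
  refine ⟨Subtype.val '' W, hV.isOpenMap_subtype_val W hWopen, ⟨xV, ?_, rfl⟩, ?_⟩
  · simp only [W, Set.mem_compl_iff, Set.mem_iUnion, not_exists]
    intro Z hZ hxZ
    exact hZ.2 hxZ
  · rintro _ ⟨ξ, hξW, rfl⟩ hgen
    -- the irreducible component of `ξ` in `V`
    obtain ⟨η, hη⟩ := QuasiSober.sober (isIrreducible_irreducibleComponent (x := ξ))
      (isClosed_irreducibleComponent (x := ξ))
    have hηξ : η ⤳ ξ := by
      rw [specializes_iff_mem_closure, hη.def]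
      exact mem_irreducibleComponent
    have hηξ' : (η : X) ⤳ (ξ : X) := (Topology.IsInducing.subtypeVal.specializes_iff).mpr hηξ
    have heq : η = ξ := Subtype.ext (hgen _ hηξ')
    have hxZ : xV ∈ irreducibleComponent ξ := by
      by_contra hcon
      apply hξW
      simp only [Set.mem_iUnion]
      exact ⟨irreducibleComponent ξ, ⟨irreducibleComponent_mem_irreducibleComponents ξ, hcon⟩,
        mem_irreducibleComponent⟩
    have hξx : ξ ⤳ xV := by
      rw [specializes_iff_mem_closure, ← heq, hη.def]
      exact hxZ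
    exact (Topology.IsInducing.subtypeVal.specializes_iff).mpr hξx

end Groth.Agent.Lib.helper26.GenericNhd
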