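/-
Helper library (helper26): geometric irreducibility of fibres after an elementary étale
localisation.  Part 16: refined packaging — the new algebra `D` is a principal open of the
pushout `T` of `B` along `R → R'`.
-/
import Mathlib
import Groth.Agent.Lib.Helper26.GeomIrrNbhd9

set_option autoImplicit false
set_option linter.style.haveILetI false
set_option linter.unusedSectionVars false

namespace Groth.Agent.Lib.helper26.GeomIrr

open TensorProduct AlgebraicGeometry

universe u

/-- the refined conclusion: an elementary étale neighbourhood `(R', p')` of `(R, p)`, the pushout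
`T` of `B` along `R → R'`, and a principal open `D` of `T` which is an elementary étale
neighbourhood `(D, yD)` of `(B, y)`, smooth of relative dimension `n` over `R'` with
geometrically irreducible fibres. -/
def Concl2 {R : Type u} [CommRing R] (p : Ideal R) [p.IsPrime] (B : Type u) [CommRing B]
    [Algebra R B] (n : ℕ) (y : Ideal B) [y.IsPrime] : Prop :=
  ∃ (R' : Type u) (_ : CommRing R') (_ : Algebra R R') (p' : Ideal R') (_ : p'.IsPrime)
    (T : Type u) (_ : CommRing T) (_ : Algebra R T) (_ : Algebra R' T) (_ : Algebra B T)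
    (_ : IsScalarTower R R' T) (_ : IsScalarTower R B T)
    (D : Type u) (_ : CommRing D) (_ : Algebra T D) (_ : Algebra R' D) (_ : Algebra B D)
    (_ : Algebra R D) (_ : IsScalarTower B T D) (_ : IsScalarTower R' T D)
    (_ : IsScalarTower R R' D) (_ : IsScalarTower R B D)
    (yD : Ideal D) (_ : yD.IsPrime) (_ : yD.LiesOver p'),
    Algebra.IsPushout R R' B T ∧
    IsOpenImmersion (Spec.map (CommRingCat.ofHom (algebraMap T D))) ∧
    FlatCA.IsEtaleNhd R R' p p' ∧ FlatCA.IsEtaleNhd B D y yD ∧
    FlatCA.SmoothRelDim n R' D ∧ FlatCA.GeomIrredFibres R' D ∧ FlatCA.PurelyTranscendental p' yD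

section Pack

variable {R : Type u} [CommRing R] (p : Ideal R) [p.IsPrime] (B : Type u) [CommRing B] [Algebra R B]
  (n : ℕ) (y : Ideal B) [y.IsPrime] [hy : y.LiesOver p]
  (R₁ : Type u) [CommRing R₁] [Algebra R R₁] [Algebra.Etale R R₁] (P₁ : Ideal R₁) [P₁.IsPrime]
  [hP₁ : P₁.LiesOver p]
  (hbij : Function.Bijective (Ideal.ResidueField.mapₐ p P₁ (Algebra.ofId R R₁) hP₁.over))
  (B₁ : Type u) [CommRing B₁] [Algebra R₁ B₁] [Algebra B B₁] [Algebra R B₁]
  [IsScalarTower R R₁ B₁] [IsScalarTower R B B₁] [Algebra.IsPushout R R₁ B B₁]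
  (y₁ : Ideal B₁) [y₁.IsPrime] [hy₁ : y₁.LiesOver P₁] [hy₁y : y₁.LiesOver y]
  (hPT₁ : FlatCA.PurelyTranscendental P₁ y₁)
  (f : R₁) (g : B₁) (hf : f ∉ P₁) (hg : g ∉ y₁)
  (H : ∀ (R' D : Type u) [CommRing R'] [CommRing D] [Algebra R₁ R'] [IsLocalization.Away f R']
        [Algebra B₁ D] [IsLocalization.Away (algebraMap R₁ B₁ f * g) D] [Algebra R₁ D]
        [IsScalarTower R₁ B₁ D] [Algebra R' D] [IsScalarTower R₁ R' D],
        FlatCA.SmoothRelDim n R' D ∧ FlatCA.GeomIrredFibres R' D)

omit hy in
include hbij hPT₁ hf hg H in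
theorem concl2_of_loc : Concl2 p B n y := by
  have hfy : algebraMap R₁ B₁ f ∉ y₁ := fun hmem =>
    hf (by rw [hy₁.over]; exact Ideal.mem_comap.mpr hmem)
  -- the rings
  let R' := Localization.Away f
  let T := Localization.Away (algebraMap R₁ B₁ f)
  let D := Localization.Away (algebraMap B₁ T g)
  haveI hDloc : IsLocalization.Away (algebraMap R₁ B₁ f * g) D :=
    IsLocalization.Away.mul' T D (algebraMap R₁ B₁ f) g
  have hunitT : IsUnit (algebraMap R₁ T f) := by
    rw [IsScalarTower.algebraMap_apply R₁ B₁ T]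
    exact IsLocalization.Away.algebraMap_isUnit _
  letI algR'T : Algebra R' T := (IsLocalization.Away.lift f hunitT).toAlgebra
  haveI twR₁R'T : IsScalarTower R₁ R' T := IsScalarTower.of_algebraMap_eq fun r =>
    (IsLocalization.Away.lift_eq f hunitT r).symm
  haveI twR₁R'D : IsScalarTower R₁ R' D :=
    IsScalarTower.of_algebraMap_eq (R := R₁) (S := R') (A := D) fun r => by
    rw [IsScalarTower.algebraMap_apply R' T D (algebraMap R₁ R' r),
      ← IsScalarTower.algebraMap_apply R₁ R' T, ← IsScalarTower.algebraMap_apply R₁ T D]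
  haveI twRR'T : IsScalarTower R R' T :=
    IsScalarTower.of_algebraMap_eq (R := R) (S := R') (A := T) fun r => by
    rw [IsScalarTower.algebraMap_apply R R₁ T, IsScalarTower.algebraMap_apply R₁ R' T,
      ← IsScalarTower.algebraMap_apply R R₁ R']
  haveI twRBT : IsScalarTower R B T :=
    IsScalarTower.of_algebraMap_eq (R := R) (S := B) (A := T) fun r => by
    rw [IsScalarTower.algebraMap_apply B B₁ T, ← IsScalarTower.algebraMap_apply R B B₁,
      ← IsScalarTower.algebraMap_apply R B₁ T]
  haveI twRR'D : IsScalarTower R R' D :=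
    IsScalarTower.of_algebraMap_eq (R := R) (S := R') (A := D) fun r => by
    rw [IsScalarTower.algebraMap_apply R R₁ D, IsScalarTower.algebraMap_apply R₁ R' D,
      ← IsScalarTower.algebraMap_apply R R₁ R']
  haveI twRBD : IsScalarTower R B D :=
    IsScalarTower.of_algebraMap_eq (R := R) (S := B) (A := D) fun r => by
    rw [IsScalarTower.algebraMap_apply B B₁ D, ← IsScalarTower.algebraMap_apply R B B₁,
      ← IsScalarTower.algebraMap_apply R B₁ D]
  obtain ⟨hsmD, hgiD⟩ := H R' D
  -- the element we localise `B₁` at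
  set h : B₁ := algebraMap R₁ B₁ f * g with hh
  have hhy : h ∉ y₁ := by
    intro hmem
    rcases (inferInstance : y₁.IsPrime).mem_or_mem hmem with h1 | h1
    · exact hfy h1
    · exact hg h1
  -- the primes
  haveI hp'prime : (P₁.map (algebraMap R₁ R')).IsPrime :=
    Groth.Agent.Lib.helper3.Shrink.isPrime_map_away f R' P₁ hf
  haveI hyDprime : (y₁.map (algebraMap B₁ D)).IsPrime :=
    Groth.Agent.Lib.helper3.Shrink.isPrime_map_away h D y₁ hhy
  haveI hp'P₁ : (P₁.map (algebraMap R₁ R')).LiesOver P₁ :=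
    ⟨(Groth.Agent.Lib.helper3.Shrink.under_map_away f R' P₁ hf).symm⟩
  haveI hyDy₁ : (y₁.map (algebraMap B₁ D)).LiesOver y₁ :=
    ⟨(Groth.Agent.Lib.helper3.Shrink.under_map_away h D y₁ hhy).symm⟩
  haveI hyDp' : (y₁.map (algebraMap B₁ D)).LiesOver (P₁.map (algebraMap R₁ R')) :=
    Groth.Agent.Lib.helper3.Shrink.liesOver_map_map f h R' D P₁ y₁ hf hhy
  haveI hp'p : (P₁.map (algebraMap R₁ R')).LiesOver p := Ideal.LiesOver.trans _ P₁ _
  haveI hyDy : (y₁.map (algebraMap B₁ D)).LiesOver y := Ideal.LiesOver.trans _ y₁ _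
  -- residue fields
  have hb1 : Function.Bijective (Ideal.ResidueField.mapₐ P₁ (P₁.map (algebraMap R₁ R'))
      (Algebra.ofId R₁ R') hp'P₁.over) := bijective_mapₐ_away f R' P₁ _
  have hb2 : Function.Bijective (Ideal.ResidueField.mapₐ y₁ (y₁.map (algebraMap B₁ D))
      (Algebra.ofId B₁ D) hyDy₁.over) := bijective_mapₐ_away h D y₁ _
  have hb3 : Function.Bijective (Ideal.ResidueField.mapₐ y y₁ (Algebra.ofId B B₁) hy₁y.over) :=
    Groth.Agent.Lib.helper3.BijRes.residueField_map_bijective p P₁ hbij.2 B B₁ y y₁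
  have hbR : Function.Bijective (Ideal.ResidueField.mapₐ p (P₁.map (algebraMap R₁ R'))
      (Algebra.ofId R R') hp'p.over) := bijective_mapₐ_comp p P₁ _ hbij hb1
  have hbB : Function.Bijective (Ideal.ResidueField.mapₐ y (y₁.map (algebraMap B₁ D))
      (Algebra.ofId B D) hyDy.over) := bijective_mapₐ_comp y y₁ _ hb3 hb2
  -- étaleness
  haveI : Algebra.Etale R₁ R' := Algebra.Etale.of_isLocalizationAway f
  haveI : Algebra.Etale R R' := Algebra.Etale.comp R R₁ R'
  haveI : Algebra.IsPushout R B R₁ B₁ := Algebra.IsPushout.symm inferInstance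
  haveI : Algebra.Etale B B₁ := Algebra.Etale.of_equiv (Algebra.IsPushout.equiv R B R₁ B₁)
  haveI : Algebra.Etale B₁ D := Algebra.Etale.of_isLocalizationAway h
  haveI : Algebra.Etale B D := Algebra.Etale.comp B B₁ D
  -- purely transcendental
  have hPTD : FlatCA.PurelyTranscendental (P₁.map (algebraMap R₁ R')) (y₁.map (algebraMap B₁ D)) :=
    Groth.Agent.Lib.helper3.Shrink.purelyTranscendental_of_bijective P₁ (P₁.map (algebraMap R₁ R'))
      B₁ D y₁ (y₁.map (algebraMap B₁ D)) hb1.2 hb2 hPT₁
  -- the pushout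
  haveI hpo1 : Algebra.IsPushout R₁ R' B₁ T := by
    haveI : IsLocalization (Algebra.algebraMapSubmonoid B₁ (Submonoid.powers f)) T := by
      have e : Algebra.algebraMapSubmonoid B₁ (Submonoid.powers f) =
          Submonoid.powers (algebraMap R₁ B₁ f) := by simp
      rw [e]
      infer_instance
    exact Algebra.IsPushout.symm (Algebra.isPushout_of_isLocalization (Submonoid.powers f) R' B₁ T)
  have hpo : Algebra.IsPushout R R' B T := by
    haveI : Algebra.IsPushout R R₁ B B₁ := inferInstance
    exact (Algebra.IsPushout.comp_iff (R := R) (S := R₁) (T := R') (R' := B) (S' := B₁)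
      (T' := T)).mpr hpo1
  have hopen : IsOpenImmersion (Spec.map (CommRingCat.ofHom (algebraMap T D))) :=
    IsOpenImmersion.of_isLocalization (algebraMap B₁ T g)
  exact ⟨R', inferInstance, inferInstance, P₁.map (algebraMap R₁ R'), inferInstance,
    T, inferInstance, inferInstance, algR'T, inferInstance, twRR'T, twRBT,
    D, inferInstance, inferInstance, inferInstance, inferInstance, inferInstance, inferInstance,
    inferInstance, twRR'D, twRBD,
    y₁.map (algebraMap B₁ D), inferInstance, hyDp',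
    hpo, hopen, ⟨inferInstance, hp'p, hbR⟩, ⟨inferInstance, hyDy, hbB⟩, hsmD, hgiD, hPTD⟩

end Pack

end Groth.Agent.Lib.helper26.GeomIrr
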