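/-
Helper library (helper26): geometric irreducibility of fibres after an elementary étale
localisation.  Part 17: the refined conclusion `Concl2` for smooth algebras.
-/
import Mathlib
import Groth.Agent.Lib.Helper26.GeomIrrNbhd16
import Groth.Agent.Lib.Helper26.GeomIrrNbhd15
import Groth.Agent.Lib.Helper3.OneStep1

set_option autoImplicit false
set_option linter.style.haveILetI false
set_option linter.unusedSectionVars false

namespace Groth.Agent.Lib.helper26.GeomIrr

open TensorProduct AlgebraicGeometry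

universe u

section E0

attribute [local instance] Algebra.TensorProduct.rightAlgebra

variable {R : Type u} [CommRing R] (p : Ideal R) [p.IsPrime] (B : Type u) [CommRing B] [Algebra R B]
  (n : ℕ) (hsm : FlatCA.SmoothRelDim n R B) (y : Ideal B) [y.IsPrime] [hy : y.LiesOver p]
  (hPT : FlatCA.PurelyTranscendental p y)
  (R₁ : Type u) [CommRing R₁] [Algebra R R₁] [Algebra.Etale R R₁] (P₁ : Ideal R₁) [P₁.IsPrime]
  [hP₁ : P₁.LiesOver p]
  (hbij : Function.Bijective (Ideal.ResidueField.mapₐ p P₁ (Algebra.ofId R R₁) (P₁.over_def p)))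
  (A₁ : Type u) [CommRing A₁] [Algebra R₁ A₁] [Algebra R A₁] [IsScalarTower R R₁ A₁]
  [Algebra.IsIntegral R₁ A₁] [Module.Flat R₁ A₁] [Algebra.FinitePresentation R₁ A₁]
  (P' : Ideal A₁) [P'.IsPrime] [hP' : P'.LiesOver P₁]
  (huniq : ∀ P'' : Ideal A₁, P''.IsPrime → P''.LiesOver P₁ → P'' = P')
  (φ : B →ₐ[R] A₁) (hyφ : y ≤ P'.comap φ)

include hsm hPT hbij huniq hyφ in
theorem concl2_of_multisection : Concl2 p B n y := by
  obtain ⟨f, g, hf, hg, H⟩ := exists_loc_geomIrred_bc p B n hsm y hPT R₁ P₁ hbij A₁ P' huniq φ hyφ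
  have hPT₁ : FlatCA.PurelyTranscendental P₁ (bcPrime p B y R₁ P₁ hbij) :=
    Groth.Agent.Lib.helper3.BijRes.purelyTranscendental_baseChange p P₁ hbij.2 B (R₁ ⊗[R] B) y
      (bcPrime p B y R₁ P₁ hbij) hPT
  exact concl2_of_loc p B n y R₁ P₁ hbij (R₁ ⊗[R] B) (bcPrime p B y R₁ P₁ hbij) hPT₁ f g hf hg H

end E0

theorem concl2_of_quasiFinite {R : Type u} [CommRing R] (p : Ideal R) [p.IsPrime] (B : Type u)
    [CommRing B] [Algebra R B] (n : ℕ) (hsm : FlatCA.SmoothRelDim n R B) (y : Ideal B) [y.IsPrime]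
    [hy : y.LiesOver p] (hPT : FlatCA.PurelyTranscendental p y)
    (C : Type u) [CommRing C] [Algebra R C] [Algebra.FinitePresentation R C] [Module.Flat R C]
    (q : Ideal C) [q.IsPrime] [q.LiesOver p] [Algebra.QuasiFiniteAt R q] (φ₀ : B →ₐ[R] C)
    (hyq : y ≤ q.comap φ₀) : Concl2 p B n y := by
  obtain ⟨R₁, _, _, _, P₁, _, _, e, he, Q', _, _, hQ'q, heQ', hbij, hfin, huniq⟩ :=
    Algebra.exists_etale_isIdempotentElem_forall_liesOver_eq p q
  haveI : Module.Finite R₁ (Localization.Away e) := hfin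
  haveI : Module.Flat R₁ (Localization.Away e) :=
    Module.Flat.trans R₁ (R₁ ⊗[R] C) (Localization.Away e)
  haveI : Algebra.FinitePresentation R₁ (Localization.Away e) :=
    Algebra.FinitePresentation.trans R₁ (R₁ ⊗[R] C) (Localization.Away e)
  haveI hP'prime : (Q'.map (algebraMap (R₁ ⊗[R] C) (Localization.Away e))).IsPrime :=
    Groth.Agent.Lib.helper3.Shrink.isPrime_map_away e (Localization.Away e) Q' heQ'
  have hP'under : (Q'.map (algebraMap (R₁ ⊗[R] C) (Localization.Away e))).under (R₁ ⊗[R] C) = Q' :=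
    Groth.Agent.Lib.helper3.Shrink.under_map_away e (Localization.Away e) Q' heQ'
  haveI hP'Q' : (Q'.map (algebraMap (R₁ ⊗[R] C) (Localization.Away e))).LiesOver Q' :=
    ⟨hP'under.symm⟩
  haveI hP'P₁ : (Q'.map (algebraMap (R₁ ⊗[R] C) (Localization.Away e))).LiesOver P₁ :=
    Ideal.LiesOver.trans _ Q' _
  have huniq' : ∀ P'' : Ideal (Localization.Away e), P''.IsPrime → P''.LiesOver P₁ →
      P'' = Q'.map (algebraMap (R₁ ⊗[R] C) (Localization.Away e)) := by
    intro P'' hP'' hP''P₁
    haveI := hP''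
    haveI : (P''.under (R₁ ⊗[R] C)).IsPrime := Ideal.IsPrime.under _ P''
    haveI : (P''.under (R₁ ⊗[R] C)).LiesOver P₁ := by
      refine ⟨?_⟩
      rw [Ideal.under_under]
      exact hP''P₁.over
    have heP'' : e ∉ P''.under (R₁ ⊗[R] C) := fun hmem =>
      hP''.ne_top (Ideal.eq_top_of_isUnit_mem _ (Ideal.mem_comap.mp hmem)
        (IsLocalization.Away.algebraMap_isUnit e))
    have h1 := huniq (P''.under (R₁ ⊗[R] C)) inferInstance inferInstance heP''
    apply Groth.Agent.Lib.helper3.Shrink.eq_of_under_eq_loc (Submonoid.powers e)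
    rw [h1, hP'under]
  let φ : B →ₐ[R] Localization.Away e :=
    ((IsScalarTower.toAlgHom R (R₁ ⊗[R] C) (Localization.Away e)).comp
      (Algebra.TensorProduct.includeRight : C →ₐ[R] R₁ ⊗[R] C)).comp φ₀
  have hyφ : y ≤ (Q'.map (algebraMap (R₁ ⊗[R] C) (Localization.Away e))).comap φ := by
    intro b hb
    rw [Ideal.mem_comap]
    have h1 : φ₀ b ∈ q := hyq hb
    rw [← hQ'q, Ideal.mem_comap] at h1
    exact Ideal.mem_map_of_mem _ h1
  exact concl2_of_multisection p B n hsm y hPT R₁ P₁ hbij (Localization.Away e)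
    (Q'.map (algebraMap (R₁ ⊗[R] C) (Localization.Away e))) huniq' φ hyφ

/-- **Geometrically irreducible fibres after elementary étale localisation, refined form** for
an algebra smooth of relative dimension `n`. -/
theorem concl2_of_smooth {R : Type u} [CommRing R] (p : Ideal R) [p.IsPrime] (B : Type u)
    [CommRing B] [Algebra R B] (n : ℕ) (hsm : FlatCA.SmoothRelDim n R B) (y : Ideal B) [y.IsPrime]
    [hy : y.LiesOver p] (hPT : FlatCA.PurelyTranscendental p y) : Concl2 p B n y := by
  haveI : Algebra.Smooth R B := Groth.Agent.Lib.helper3.OneStep.algebra_smooth n hsm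
  haveI : Algebra.FinitePresentation R B := inferInstance
  haveI : Algebra.IsSmoothAt R y := inferInstance
  obtain ⟨f, hfy, n', alg, tw, hse⟩ :=
    Algebra.IsSmoothAt.exists_isStandardEtale_mvPolynomial (R := R) (p := y)
  letI := alg
  haveI := tw
  haveI : Algebra.Etale (MvPolynomial (Fin n') R) (Localization.Away f) := inferInstance
  haveI hyfprime : (y.map (algebraMap B (Localization.Away f))).IsPrime :=
    Groth.Agent.Lib.helper3.Shrink.isPrime_map_away f (Localization.Away f) y hfy
  have hyfunder : (y.map (algebraMap B (Localization.Away f))).under B = y :=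
    Groth.Agent.Lib.helper3.Shrink.under_map_away f (Localization.Away f) y hfy
  haveI : (y.map (algebraMap B (Localization.Away f))).LiesOver y := ⟨hyfunder.symm⟩
  haveI : (y.map (algebraMap B (Localization.Away f))).LiesOver p := Ideal.LiesOver.trans _ y _
  obtain ⟨C, _, _, hfp, hflat, q, hq, hqp, hqf, φ₀, hφ₀⟩ :=
    exists_multisection p n' (Localization.Away f) (y.map (algebraMap B (Localization.Away f)))
  haveI := hfp
  haveI := hflat
  haveI := hq
  haveI := hqp
  haveI := hqf
  refine concl2_of_quasiFinite p B n hsm y hPT C q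
    (φ₀.comp (IsScalarTower.toAlgHom R B (Localization.Away f))) ?_
  intro b hb
  rw [Ideal.mem_comap]
  have h1 : algebraMap B (Localization.Away f) b ∈ y.map (algebraMap B (Localization.Away f)) :=
    Ideal.mem_map_of_mem _ hb
  exact hφ₀ h1

end Groth.Agent.Lib.helper26.GeomIrr
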