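import Mathlib
import Groth.Prelude.Def_GrLC
import Groth.Prelude.Def_CAlg
import Groth.Agent.Lib.Helper26.GorS6
import Groth.Agent.Lib.Helper26.Ver8
import Groth.Agent.Lib.Helper26.Can14
import Groth.Agent.Lib.Helper26.Seg5
import Groth.Agent.Lib.Helper26.GrCM15
import Groth.Agent.Lib.Helper26.KunT
import Groth.Agent.Lib.Helper2.DepthLC
import Groth.Agent.S13224
import Groth.Agent.S0318

/-!
# Veronese subrings of graded rings defined over a field: dimension and Cohen–Macaulayness (helper26)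
-/

set_option autoImplicit false
set_option linter.unusedSectionVars false
set_option linter.dupNamespace false
universe u

namespace Groth.Agent.Lib.helper26.GorS

open GrLC Groth.Agent.Lib.helper26.Can Groth.Agent.Lib.helper26.Ver RingTheory.Sequence

section IrrHom

variable {A : Type u} [CommRing A] (𝒜 : ℤ → AddSubgroup A) [GradedRing 𝒜]

/-- the irrelevant ideal as a homogeneous ideal -/
def irrHom : HomogeneousIdeal 𝒜 :=
  ⟨Ideal.span (⋃ n ∈ Set.Ioi (0 : ℤ), (𝒜 n : Set A)), by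
    apply Ideal.homogeneous_span
    intro x hx
    obtain ⟨n, -, hxn⟩ := Set.mem_iUnion₂.1 hx
    exact ⟨n, hxn⟩⟩

theorem irrHom_toIdeal :
    (irrHom 𝒜).toIdeal = Ideal.span (⋃ n ∈ Set.Ioi (0 : ℤ), (𝒜 n : Set A)) := rfl

end IrrHom

section VerDim

variable {R : Type u} [CommRing R] {R' : Type u} [CommRing R']
variable {𝒜 : ℤ → AddSubgroup R} [GradedRing 𝒜] {𝒜' : ℤ → AddSubgroup R'} [GradedRing 𝒜']
  (D : VerData 𝒜 𝒜')

/-- `R` is integral over its Veronese subring -/
theorem ver_isIntegral : D.φ.IsIntegral := by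
  classical
  intro x
  rw [← DirectSum.sum_support_decompose 𝒜 x]
  refine Finset.sum_induction _ (fun y => D.φ.IsIntegralElem y)
    (fun a b ha hb => RingHom.IsIntegralElem.add D.φ ha hb) (D.φ.isIntegralElem_zero) ?_
  intro g _
  have h1 : ((DirectSum.decompose 𝒜 x g : 𝒜 g) : R) ^ D.q ∈ 𝒜 (D.q • g) :=
    SetLike.pow_mem_graded D.q (SetLike.coe_mem _)
  have h2 : D.q • g = g * D.q := by rw [nsmul_eq_mul, mul_comm]
  rw [h2, ← D.hdeg g] at h1
  obtain ⟨r', -, hr'⟩ := h1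
  have h3 : D.φ r' = ((DirectSum.decompose 𝒜 x g : 𝒜 g) : R) ^ D.q := hr'
  refine ⟨Polynomial.X ^ D.q - Polynomial.C r', Polynomial.monic_X_pow_sub_C r' D.hq.ne', ?_⟩
  rw [Polynomial.eval₂_sub, Polynomial.eval₂_X_pow, Polynomial.eval₂_C, h3, sub_self]

theorem ver_ringKrullDim (hφ : Function.Injective D.φ) : ringKrullDim R' = ringKrullDim R :=
  le_antisymm
    (Groth.Agent.Lib.helper26.Seg.ringKrullDim_le_of_isIntegral_of_injective D.φ
      (ver_isIntegral D) hφ)
    (Groth.Agent.Lib.helper26.Seg.ringKrullDim_le_of_isIntegral D.φ (ver_isIntegral D))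

end VerDim

section VerCM

attribute [local instance] gsmulSub

variable {R : Type u} [CommRing R] {R' : Type u} [CommRing R']
variable {𝒜 : ℤ → AddSubgroup R} [GradedRing 𝒜] {𝒜' : ℤ → AddSubgroup R'} [GradedRing 𝒜']
  (D : VerData 𝒜 𝒜')
  (hpos : ∀ n : ℤ, n < 0 → 𝒜 n = ⊥) (h0 : IsField (deg0 𝒜))
  (m : HomogeneousIdeal 𝒜)
  (hmsp : m.toIdeal = Ideal.span (⋃ n ∈ Set.Ioi (0 : ℤ), (𝒜 n : Set R)))

include hpos h0 hmsp in
/-- the lower graded local cohomology of a Cohen–Macaulay graded ring vanishes -/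
theorem H_subsingleton_of_lt [LocCoh.IsCohenMacaulayRing R] (n : ℕ) (hn : ringKrullDim R = n)
    (I : StarInjRes 𝒜 𝒜) (i : ℕ) (hi : i < n) : Subsingleton (I.H m i) := by
  obtain ⟨d, hd, x, hx, hall⟩ := exists_regular_sop 𝒜 hpos h0 m hmsp n hn
  obtain ⟨hreg, -, -⟩ := hall 1 Nat.one_pos
  have hdpos : (0 : ℤ) < (d : ℤ) := by exact_mod_cast hd
  have hmem : ∀ r ∈ List.ofFn (fun i => x i ^ 1), r ∈ m.toIdeal := by
    intro r hr
    rw [List.mem_ofFn] at hr
    obtain ⟨j, rfl⟩ := hr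
    rw [pow_one]
    exact mem_toIdeal_of_mem 𝒜 m hmsp hdpos (hx j)
  have h1 := Groth.Agent.Lib.helper26.Depth.length_le_idealDepth (I := m.toIdeal) hreg hmem
  rw [List.length_ofFn] at h1
  obtain ⟨e⟩ := Groth.Agent.S13224.result R 𝒜 m R 𝒜 I i
  have : Subsingleton (LocCoh.H m.toIdeal i R) :=
    Groth.Agent.S0318.H_vanish_below m.toIdeal R i
      (lt_of_lt_of_le (by exact_mod_cast hi) h1)
  exact e.toEquiv.subsingleton

/-- the inclusion of the Veronese subring as a semilinear map -/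
def verIncl : R' →ₛₗ[D.φ] R :=
  { toFun := D.φ
    map_add' := map_add D.φ
    map_smul' := fun r x => by
      rw [smul_eq_mul, map_mul]
      rfl }

include hpos h0 hmsp in
/-- **the Veronese subring of a Cohen–Macaulay graded ring defined over a field is
Cohen–Macaulay** -/
theorem ver_isCohenMacaulayRing [LocCoh.IsCohenMacaulayRing R] (hφ : Function.Injective D.φ)
    (n : ℕ) (hn : ringKrullDim R = n) : LocCoh.IsCohenMacaulayRing R' := by
  have hNR' : IsNoetherianRing R' := D.isNoetherianRing hφ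
  have hpos' := ver_pos' D hφ hpos
  have h0' := ver_isField_deg0' D hφ h0
  have hntR' : Nontrivial R' := nontrivial_of_isField_deg0 h0'
  obtain ⟨I⟩ := Groth.Agent.S13215.result R 𝒜 R 𝒜
  obtain ⟨I'⟩ := Groth.Agent.S13215.result R' 𝒜' R' 𝒜'
  have hvan : ∀ i : ℕ, i < n → Subsingleton (LocCoh.H (irrHom 𝒜').toIdeal i R') := by
    intro i hi
    have h1 := H_subsingleton_of_lt hpos h0 m hmsp n hn I i hi
    obtain ⟨θ, hθinj, -, -⟩ := exists_theta D (verIncl D) hφ (fun j => D.hdeg j) I m hmsp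
      (irrHom 𝒜') (irrHom_toIdeal 𝒜') hφ I' i
    have h2 : Subsingleton (I'.H (irrHom 𝒜') i) := hθinj.subsingleton
    obtain ⟨e⟩ := Groth.Agent.S13224.result R' 𝒜' (irrHom 𝒜') R' 𝒜' I' i
    exact e.symm.toEquiv.subsingleton
  have hdepth : (n : ℕ∞) ≤ LocCoh.idealDepth (irrHom 𝒜').toIdeal R' :=
    (Groth.Agent.Lib.helper2.DepthLC.vanish_iff_le_idealDepth (irrHom 𝒜').toIdeal R' n).mp hvan
  let _ : Field (deg0 𝒜') := h0'.toField
  have hFT : Algebra.FiniteType (deg0 𝒜') R' :=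
    finiteType_of_isNoetherianRing (subGr 𝒜') (subGr_eq_bot 𝒜' hpos') (subGr_zero 𝒜')
  have hsd : Module.supportDim R' R' = n := by
    rw [Module.supportDim_self_eq_ringKrullDim, ver_ringKrullDim D hφ, hn]
  rw [Groth.Agent.Lib.helper26.Kun.isCohenMacaulayRing_iff_forall_localizedModule R']
  intro q _
  exact Groth.Agent.Lib.helper26.GrCM.isCohenMacaulayModule_of_le_idealDepth (subGr 𝒜')
    (subGr_eq_bot 𝒜' hpos') (subGr_zero 𝒜') 𝒜' n hsd hdepth q

end VerCM

end Groth.Agent.Lib.helper26.GorS
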