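import Mathlib
import Groth.Prelude.Def_GrLC
import Groth.Prelude.Def_CAlg
import Groth.Agent.Lib.Helper26.GorS7

/-!
# The socle of the top local cohomology of a Veronese subring (helper26)
-/

set_option autoImplicit false
set_option linter.unusedSectionVars false
set_option linter.dupNamespace false
universe u

namespace Groth.Agent.Lib.helper26.GorS

open GrLC Groth.Agent.Lib.helper26.Can Groth.Agent.Lib.helper26.Ver
  Groth.Agent.Lib.helper19.GrMod

section VerSoc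

variable {R : Type u} [CommRing R] [IsNoetherianRing R] {R' : Type u} [CommRing R']
variable {𝒜 : ℤ → AddSubgroup R} [GradedRing 𝒜] {𝒜' : ℤ → AddSubgroup R'} [GradedRing 𝒜']
  (D : VerData 𝒜 𝒜')
  (hpos : ∀ n : ℤ, n < 0 → 𝒜 n = ⊥) (h0 : IsField (deg0 𝒜))
  (m : HomogeneousIdeal 𝒜)
  (hmsp : m.toIdeal = Ideal.span (⋃ n ∈ Set.Ioi (0 : ℤ), (𝒜 n : Set R)))
  (m' : HomogeneousIdeal 𝒜')
  (hm'sp : m'.toIdeal = Ideal.span (⋃ j ∈ Set.Ioi (0 : ℤ), (𝒜' j : Set R')))

include hmsp hm'sp in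
theorem φ_mem_toIdeal {r' : R'} (hr' : r' ∈ m'.toIdeal) : D.φ r' ∈ m.toIdeal := by
  have h1 : D.φ r' ∈ (irr 𝒜').map D.φ := Ideal.mem_map_of_mem D.φ (by
    show r' ∈ Ideal.span _
    rw [← hm'sp]; exact hr')
  have h2 := D.map_irr_le h1
  rw [hmsp]
  exact h2

include hpos h0 hmsp hm'sp in
/-- **if the socle of `H^n_m(R)` is simple and `q` divides the end `a` of `H^n_m(R)`, the socle of
`H^n_{m'}(R^{(q)})` is simple** -/
theorem ver_simpleSoc_of_dvd (hφ : Function.Injective D.φ) (n : ℕ) (I : StarInjRes 𝒜 𝒜)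
    (I' : StarInjRes 𝒜' 𝒜') (hS : SimpleSoc m.toIdeal (I.H m n)) (a : ℤ)
    (ha : endDeg (I.Hgr m n) = ((a : WithTop ℤ) : WithBot (WithTop ℤ)))
    (hdvd : (D.q : ℤ) ∣ a) : SimpleSoc m'.toIdeal (I'.H m' n) := by
  classical
  have hNR' : IsNoetherianRing R' := D.isNoetherianRing hφ
  have hpos' := ver_pos' D hφ hpos
  let _ : DirectSum.Decomposition (I.Hgr m n) := hgrDecomposition 𝒜 I m n
  let _ : SetLike.GradedSMul 𝒜 (I.Hgr m n) := hgr_gradedSMul 𝒜 I m n
  let _ : DirectSum.Decomposition (I'.Hgr m' n) := hgrDecomposition 𝒜' I' m' n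
  let _ : SetLike.GradedSMul 𝒜' (I'.Hgr m' n) := hgr_gradedSMul 𝒜' I' m' n
  obtain ⟨θ, hθinj, hθmem, hθsurj⟩ := exists_theta D (verIncl D) hφ (fun j => D.hdeg j) I m hmsp
    m' hm'sp hφ I' n
  obtain ⟨s, hsa, hs0, hssoc, hgen⟩ :=
    exists_top_of_simpleSoc 𝒜 hpos h0 m hmsp (I.Hgr m n) hS a ha
  obtain ⟨a', ha'⟩ := hdvd
  have haq : a = a' * D.q := by rw [ha', mul_comm]
  have htop : ∀ i : ℤ, a < i → I.Hgr m n i = ⊥ := by
    intro i hi
    by_contra hne
    have h1 := Groth.Agent.Lib.helper19.GrLes.le_endDeg (I.Hgr m n) hne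
    rw [ha, WithBot.coe_le_coe, WithTop.coe_le_coe] at h1
    omega
  obtain ⟨s', hs', hθs'⟩ := hθsurj a' s (by rw [← haq]; exact hsa)
  have hq : (0 : ℤ) < D.q := by exact_mod_cast D.hq
  refine ⟨s', fun h => hs0 (by rw [← hθs', h, map_zero]), fun r' hr' => ?_, fun y' hy' => ?_⟩
  · apply hθinj
    rw [map_smulₛₗ, hθs', map_zero]
    exact hssoc _ (φ_mem_toIdeal D m hmsp m' hm'sp hr')
  · -- the components of `y'`
    have hcomp : ∀ j : ℤ, ∀ r' ∈ m'.toIdeal,
        r' • ((DirectSum.decompose (I'.Hgr m' n) y' j : I'.Hgr m' n j) : I'.H m' n) = 0 :=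
      fun j => smul_decompose_eq_zero 𝒜' m' (I'.Hgr m' n) hy' j
    have hzero : ∀ j : ℤ, j ≠ a' →
        ((DirectSum.decompose (I'.Hgr m' n) y' j : I'.Hgr m' n j) : I'.H m' n) = 0 := by
      intro j hj
      by_contra hne
      have hne' : θ ((DirectSum.decompose (I'.Hgr m' n) y' j : I'.Hgr m' n j) : I'.H m' n) ≠ 0 :=
        fun h => hne (hθinj (h.trans (map_zero θ).symm))
      have hmem := hθmem j _ (SetLike.coe_mem (DirectSum.decompose (I'.Hgr m' n) y' j))
      obtain ⟨r, hr, hrne⟩ := exists_smul_ne_zero_of_simpleSoc 𝒜 hpos h0 m hmsp I n hS a ha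
        hmem hne'
      have e1 : a - j * D.q = (a' - j) * D.q := by rw [haq]; ring
      rw [e1, ← D.hdeg (a' - j)] at hr
      obtain ⟨r', hr'mem, hr'⟩ := hr
      have hr'' : D.φ r' = r := hr'
      rcases lt_trichotomy (a' - j) 0 with hlt | heq | hgt
      · have : r' = 0 := by
          have h1 : r' ∈ 𝒜' (a' - j) := hr'mem
          rwa [hpos' _ hlt, AddSubgroup.mem_bot] at h1
        apply hrne
        rw [← hr'', this, map_zero, zero_smul]
      · exact hj (by omega)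
      · have hr'm : r' ∈ m'.toIdeal := by
          rw [hm'sp]
          exact Ideal.subset_span (Set.mem_biUnion (Set.mem_Ioi.mpr hgt) hr'mem)
        apply hrne
        rw [← hr'', ← map_smulₛₗ, hcomp j r' hr'm, map_zero]
    have hy'eq : y' = ((DirectSum.decompose (I'.Hgr m' n) y' a' : I'.Hgr m' n a') : I'.H m' n) := by
      conv_lhs => rw [← DirectSum.sum_support_decompose (I'.Hgr m' n) y']
      by_cases hsupp : a' ∈ (DirectSum.decompose (I'.Hgr m' n) y').support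
      · rw [Finset.sum_eq_single_of_mem a' hsupp (fun j _ hj => hzero j hj)]
      · rw [Finset.sum_eq_zero (fun j hjs => hzero j (fun h => hsupp (h ▸ hjs)))]
        rw [DFinsupp.notMem_support_iff] at hsupp
        rw [hsupp]
        rfl
    have hmem := hθmem a' _ (SetLike.coe_mem (DirectSum.decompose (I'.Hgr m' n) y' a'))
    rw [← haq] at hmem
    obtain ⟨c, hc0, hc⟩ := hgen _ (smul_eq_zero_of_mem_top 𝒜 hpos h0 m hmsp (I.Hgr m n) htop hmem)
    have hc0' : c ∈ 𝒜 ((0 : ℤ) * D.q) := by rw [zero_mul]; exact hc0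
    rw [← D.hdeg 0] at hc0'
    obtain ⟨c', -, hc'⟩ := hc0'
    have hc'' : D.φ c' = c := hc'
    refine ⟨c', ?_⟩
    rw [hy'eq]
    apply hθinj
    rw [hc, map_smulₛₗ, hθs', hc'']

end VerSoc

end Groth.Agent.Lib.helper26.GorS
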