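import Mathlib
import Groth.Prelude.Def_GrLC
import Groth.Prelude.Def_CAlg
import Groth.Agent.Lib.Helper26.GorS11
import Groth.Agent.Lib.Helper26.GorS8
import Groth.Agent.Lib.Helper26.Can8

/-!
# The Hilbert function of a standard graded ring of positive depth (helper26)

`R` standard graded over the field `R_0`, with a homogeneous non-zero-divisor of positive degree and
`dim R_1 ≥ 2`.  Then `dim R_i ≥ 2` for all `i ≥ 1`.
-/

set_option autoImplicit false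
set_option linter.unusedSectionVars false
set_option linter.dupNamespace false
universe u

namespace Groth.Agent.Lib.helper26.GorS

open GrLC Groth.Agent.Lib.helper26.Can Groth.Agent.Lib.helper26.Seg
  Groth.Agent.Lib.helper19.GrMod

section Std

variable {R : Type u} [CommRing R] (𝒜 : ℤ → AddSubgroup R) [GradedRing 𝒜]
  (hpos : ∀ n : ℤ, n < 0 → 𝒜 n = ⊥) (h0 : IsField (deg0 𝒜))
  (hstd : Ideal.span (⋃ n ∈ Set.Ioi (0 : ℤ), (𝒜 n : Set R)) =
    Ideal.span ((𝒜 1 : AddSubgroup R) : Set R))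

include h0 hstd in
/-- if `R_j` (`j ≥ 1`) is spanned by one element, so is `R_{j+1}` -/
theorem exists_gen_succ {j : ℤ} (hj : 1 ≤ j) (w : R) (hw : w ∈ 𝒜 j)
    (hgen : ∀ v ∈ 𝒜 j, ∃ c ∈ 𝒜 0, v = c * w) :
    ∃ v₀ ∈ 𝒜 (j + 1), ∀ v ∈ 𝒜 (j + 1), ∃ c ∈ 𝒜 0, v = c * v₀ := by
  classical
  -- reduction: it suffices that products `r * l` are multiples of `v₀`
  have key : ∀ v₀ : R, (∀ r ∈ 𝒜 j, ∀ l ∈ 𝒜 1, ∃ c ∈ 𝒜 0, r * l = c * v₀) →
      ∀ v ∈ 𝒜 (j + 1), ∃ c ∈ 𝒜 0, v = c * v₀ := by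
    intro v₀ hprod v hv
    have h1 := mem_closure_mul_of_mem_succ 𝒜 hstd (by omega : (0 : ℤ) ≤ j) hv
    have h2 : AddSubgroup.closure {y : R | ∃ r ∈ 𝒜 j, ∃ l ∈ 𝒜 1, y = r * l} ≤
        (𝒜 0).map (AddMonoidHom.mulRight v₀) := by
      rw [AddSubgroup.closure_le]
      rintro y ⟨r, hr, l, hl, rfl⟩
      obtain ⟨c, hc, hcv⟩ := hprod r hr l hl
      exact ⟨c, hc, hcv.symm⟩
    obtain ⟨c, hc, hcv⟩ := h2 h1
    exact ⟨c, hc, hcv.symm⟩
  by_cases hw0 : w = 0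
  · refine ⟨0, zero_mem _, key 0 ?_⟩
    intro r hr l hl
    obtain ⟨c, -, hc⟩ := hgen r hr
    exact ⟨0, zero_mem _, by rw [hc, hw0, mul_zero, zero_mul, zero_mul]⟩
  · -- a nonzero product `r₀ * l₀`
    have hw' : w ∈ 𝒜 (j - 1 + 1) := by rwa [sub_add_cancel]
    have h1 := mem_closure_mul_of_mem_succ 𝒜 hstd (by omega : (0 : ℤ) ≤ j - 1) hw'
    obtain ⟨r₀, hr₀, l₀, hl₀, hne⟩ : ∃ r₀ ∈ 𝒜 (j - 1), ∃ l₀ ∈ 𝒜 1, r₀ * l₀ ≠ 0 := by
      by_contra hcon
      push Not at hcon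
      apply hw0
      have h2 : AddSubgroup.closure {y : R | ∃ r ∈ 𝒜 (j - 1), ∃ l ∈ 𝒜 1, y = r * l} ≤ ⊥ := by
        rw [AddSubgroup.closure_le]
        rintro y ⟨r, hr, l, hl, rfl⟩
        exact (AddSubgroup.mem_bot).2 (hcon r hr l hl)
      exact (AddSubgroup.mem_bot).1 (h2 h1)
    have hmul : ∀ l ∈ 𝒜 1, r₀ * l ∈ 𝒜 j := by
      intro l hl
      have := SetLike.GradedMul.mul_mem (A := 𝒜) hr₀ hl
      rwa [sub_add_cancel] at this
    obtain ⟨c₀, hc₀, hc₀w⟩ := hgen _ (hmul l₀ hl₀)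
    have hc₀ne : c₀ ≠ 0 := by
      intro h
      rw [h, zero_mul] at hc₀w
      exact hne hc₀w
    obtain ⟨b, hb⟩ := h0.mul_inv_cancel (a := (⟨c₀, hc₀⟩ : deg0 𝒜))
      (fun h' => hc₀ne (congrArg Subtype.val h'))
    have hb' : c₀ * (b : R) = 1 := congrArg Subtype.val hb
    have hbmem : (b : R) ∈ 𝒜 0 := b.2
    have hv₀ : l₀ * w ∈ 𝒜 (j + 1) := by
      have := SetLike.GradedMul.mul_mem (A := 𝒜) hl₀ hw
      rwa [add_comm] at this
    refine ⟨l₀ * w, hv₀, key (l₀ * w) ?_⟩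
    have hlw : ∀ l ∈ 𝒜 1, ∃ c ∈ 𝒜 0, l * w = c * (l₀ * w) := by
      intro l hl
      obtain ⟨c', hc', hc'w⟩ := hgen _ (hmul l hl)
      refine ⟨(b : R) * c', ?_, ?_⟩
      · have := SetLike.GradedMul.mul_mem (A := 𝒜) hbmem hc'
        rwa [add_zero] at this
      · have e1 : c₀ * (l * w) = c' * (l₀ * w) := by
          calc c₀ * (l * w) = l * (c₀ * w) := by ring
            _ = l * (r₀ * l₀) := by rw [hc₀w]
            _ = l₀ * (r₀ * l) := by ring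
            _ = l₀ * (c' * w) := by rw [hc'w]
            _ = c' * (l₀ * w) := by ring
        calc l * w = ((b : R) * c₀) * (l * w) := by rw [mul_comm (b : R), hb', one_mul]
          _ = (b : R) * (c₀ * (l * w)) := by ring
          _ = (b : R) * (c' * (l₀ * w)) := by rw [e1]
          _ = (b : R) * c' * (l₀ * w) := by ring
    intro r hr l hl
    obtain ⟨c, hc, hcw⟩ := hgen r hr
    obtain ⟨c', hc', hc'w⟩ := hlw l hl
    refine ⟨c * c', ?_, ?_⟩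
    · have := SetLike.GradedMul.mul_mem (A := 𝒜) hc hc'
      rwa [add_zero] at this
    · calc r * l = c * (l * w) := by rw [hcw]; ring
        _ = c * (c' * (l₀ * w)) := by rw [hc'w]
        _ = c * c' * (l₀ * w) := by ring

include hpos h0 hstd in
/-- **the Hilbert function of a standard graded ring with a homogeneous non-zero-divisor of
positive degree and `dim R_1 ≥ 2` is at least two in all positive degrees** -/
theorem two_le_finrank_std [IsNoetherianRing R] (x : R) (d : ℕ) (hd : 0 < d)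
    (hx : x ∈ 𝒜 (d : ℤ)) (hreg : IsSMulRegular R x)
    (hR1 : 2 ≤ Module.finrank (deg0 𝒜) (comp 𝒜 𝒜 1)) (i : ℤ) (hi : 1 ≤ i) :
    2 ≤ Module.finrank (deg0 𝒜) (comp 𝒜 𝒜 i) := by
  classical
  let _ : Field (deg0 𝒜) := h0.toField
  have hfinA : ∀ j : ℤ, Module.Finite (deg0 𝒜) (comp 𝒜 𝒜 j) := fun j =>
    Groth.Agent.Lib.helper19.GrFin.finite_comp 𝒜 hpos 𝒜 j
  by_contra hlt
  have hle : Module.finrank (deg0 𝒜) (comp 𝒜 𝒜 i) ≤ 1 := by omega
  have _ := hfinA i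
  obtain ⟨w, hwgen⟩ := finrank_le_one_iff.1 hle
  -- all later pieces are spanned by one element
  have hall : ∀ j : ℤ, i ≤ j → ∃ w ∈ 𝒜 j, ∀ v ∈ 𝒜 j, ∃ c ∈ 𝒜 0, v = c * w := by
    intro j hj
    induction j, hj using Int.le_induction with
    | base =>
      refine ⟨(w : R), w.2, fun v hv => ?_⟩
      obtain ⟨c, hc⟩ := hwgen ⟨v, hv⟩
      exact ⟨(c : R), c.2, (congrArg Subtype.val hc).symm⟩
    | succ j hj ih =>
      obtain ⟨w', hw', hgen'⟩ := ih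
      exact exists_gen_succ 𝒜 h0 hstd (by omega) w' hw' hgen'
  set t : ℕ := i.toNat with ht
  have hti : (t : ℤ) = i := by rw [ht]; exact Int.toNat_of_nonneg (by omega)
  have hxt : x ^ t ∈ 𝒜 ((t * d : ℕ) : ℤ) := by
    have h1 : x ^ t ∈ 𝒜 (t • (d : ℤ)) := SetLike.pow_mem_graded t hx
    have h2 : t • (d : ℤ) = ((t * d : ℕ) : ℤ) := by
      rw [nsmul_eq_mul]; push_cast; ring
    rwa [h2] at h1
  have hjl : i ≤ ((t * d : ℕ) : ℤ) + 1 := by
    have h1 : t ≤ t * d := Nat.le_mul_of_pos_right t hd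
    have h2 : (t : ℤ) ≤ ((t * d : ℕ) : ℤ) := by exact_mod_cast h1
    omega
  obtain ⟨w', hw', hgen'⟩ := hall _ hjl
  have hle' : Module.finrank (deg0 𝒜) (comp 𝒜 𝒜 (((t * d : ℕ) : ℤ) + 1)) ≤ 1 := by
    apply finrank_le_one (⟨w', hw'⟩ : ↥(comp 𝒜 𝒜 (((t * d : ℕ) : ℤ) + 1)))
    intro v
    obtain ⟨c, hc, hcv⟩ := hgen' v.1 v.2
    exact ⟨⟨c, hc⟩, Subtype.ext hcv.symm⟩
  have hinj : Function.Injective
      (mulLeft 𝒜 𝒜 ((t * d : ℕ) : ℤ) 1 (((t * d : ℕ) : ℤ) + 1) rfl ⟨x ^ t, hxt⟩) := by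
    intro r r' hrr'
    apply Subtype.ext
    have h1 : x ^ t • (r : R) = x ^ t • (r' : R) := congrArg Subtype.val hrr'
    exact (hreg.pow t) h1
  have _ := hfinA (((t * d : ℕ) : ℤ) + 1)
  have h3 := LinearMap.finrank_le_finrank_of_injective hinj
  omega

end Std

end Groth.Agent.Lib.helper26.GorS
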