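import Mathlib
import Groth.Prelude.Def_GrLC
import Groth.Prelude.Def_CAlg
import Groth.Agent.Lib.Helper26.GorS12

/-!
# If a Veronese subring of a Gorenstein standard graded ring is Gorenstein, `q` divides `a(R)`
(helper26)
-/

set_option autoImplicit false
set_option linter.unusedSectionVars false
set_option linter.dupNamespace false
universe u

namespace Groth.Agent.Lib.helper26.GorS

open GrLC Groth.Agent.Lib.helper26.Can Groth.Agent.Lib.helper26.Ver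
  Groth.Agent.Lib.helper19.GrMod

section VerDvd

variable {R : Type u} [CommRing R] {R' : Type u} [CommRing R']
variable {𝒜 : ℤ → AddSubgroup R} [GradedRing 𝒜] {𝒜' : ℤ → AddSubgroup R'} [GradedRing 𝒜']
  (D : VerData 𝒜 𝒜')
  (hpos : ∀ n : ℤ, n < 0 → 𝒜 n = ⊥) (h0 : IsField (deg0 𝒜))
  (m : HomogeneousIdeal 𝒜)
  (hmsp : m.toIdeal = Ideal.span (⋃ n ∈ Set.Ioi (0 : ℤ), (𝒜 n : Set R)))
  (m' : HomogeneousIdeal 𝒜')
  (hm'sp : m'.toIdeal = Ideal.span (⋃ j ∈ Set.Ioi (0 : ℤ), (𝒜' j : Set R')))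

include hpos h0 hmsp hm'sp in
/-- the top piece of `H^n_{m'}(R^{(q)})`, when its socle is simple, gives a one-dimensional piece
`H^n_m(R)_{a'q}` -/
theorem ver_top_piece [IsNoetherianRing R] (hφ : Function.Injective D.φ) (n : ℕ)
    (I : StarInjRes 𝒜 𝒜) (I' : StarInjRes 𝒜' 𝒜')
    (hS' : SimpleSoc m'.toIdeal (I'.H m' n)) :
    ∃ a' : ℤ, endDeg (I'.Hgr m' n) = ((a' : WithTop ℤ) : WithBot (WithTop ℤ)) ∧
      I.Hgr m n (a' * D.q) ≠ ⊥ ∧
      Module.finrank (deg0 𝒜) (I.Hcomp m n (a' * D.q)) ≤ 1 := by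
  classical
  let _ : Field (deg0 𝒜) := h0.toField
  have hNR' : IsNoetherianRing R' := D.isNoetherianRing hφ
  have hpos' := ver_pos' D hφ hpos
  have h0' := ver_isField_deg0' D hφ h0
  let _ : DirectSum.Decomposition (I.Hgr m n) := hgrDecomposition 𝒜 I m n
  let _ : SetLike.GradedSMul 𝒜 (I.Hgr m n) := hgr_gradedSMul 𝒜 I m n
  let _ : DirectSum.Decomposition (I'.Hgr m' n) := hgrDecomposition 𝒜' I' m' n
  let _ : SetLike.GradedSMul 𝒜' (I'.Hgr m' n) := hgr_gradedSMul 𝒜' I' m' n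
  obtain ⟨θ, hθinj, hθmem, hθsurj⟩ := exists_theta D (verIncl D) hφ (fun j => D.hdeg j) I m hmsp
    m' hm'sp hφ I' n
  obtain ⟨a', ha'⟩ := exists_endDeg_of_simpleSoc 𝒜' hpos' h0' m' hm'sp n I' hS'
  obtain ⟨s', hs'a, hs'0, hs'soc, hgen'⟩ :=
    exists_top_of_simpleSoc 𝒜' hpos' h0' m' hm'sp (I'.Hgr m' n) hS' a' ha'
  have htop' : ∀ i : ℤ, a' < i → I'.Hgr m' n i = ⊥ := by
    intro i hi
    by_contra hne
    have h1 := Groth.Agent.Lib.helper19.GrLes.le_endDeg (I'.Hgr m' n) hne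
    rw [ha', WithBot.coe_le_coe, WithTop.coe_le_coe] at h1
    omega
  have h1 : θ s' ∈ I.Hgr m n (a' * D.q) := hθmem a' s' hs'a
  have h1ne : θ s' ≠ 0 := fun h => hs'0 (hθinj (h.trans (map_zero θ).symm))
  refine ⟨a', ha', fun hbot => h1ne (by
    rw [hbot] at h1
    exact (AddSubgroup.mem_bot).1 h1), ?_⟩
  apply finrank_le_one (⟨θ s', h1⟩ : ↥(I.Hcomp m n (a' * D.q)))
  intro v
  obtain ⟨y', hy', hθy'⟩ := hθsurj a' v.1 v.2
  obtain ⟨c', hc'0, hc'⟩ := hgen' y'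
    (smul_eq_zero_of_mem_top 𝒜' hpos' h0' m' hm'sp (I'.Hgr m' n) htop' hy')
  have hφc' : D.φ c' ∈ 𝒜 0 := by
    have h2 : D.φ c' ∈ (𝒜' 0).map (D.φ : R' →+ R) := ⟨c', hc'0, rfl⟩
    rw [D.hdeg 0, zero_mul] at h2
    exact h2
  refine ⟨⟨D.φ c', hφc'⟩, Subtype.ext ?_⟩
  show D.φ c' • θ s' = v.1
  rw [← hθy', hc', map_smulₛₗ]

include hpos h0 hmsp hm'sp in
/-- **if `R` and `R^{(q)}` have simple socles in top local cohomology and `dim R_i ≥ 2` for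
`i ≥ 1`, then `q` divides `a(R)`** -/
theorem ver_dvd_of_simpleSoc [LocCoh.IsCohenMacaulayRing R] (hφ : Function.Injective D.φ) (n : ℕ)
    (hn : ringKrullDim R = n)
    (I : StarInjRes 𝒜 𝒜) (I' : StarInjRes 𝒜' 𝒜')
    (hS : SimpleSoc m.toIdeal (I.H m n)) (hS' : SimpleSoc m'.toIdeal (I'.H m' n)) (a : ℤ)
    (ha : endDeg (I.Hgr m n) = ((a : WithTop ℤ) : WithBot (WithTop ℤ)))
    (hbig : ∀ i : ℤ, 1 ≤ i → 2 ≤ Module.finrank (deg0 𝒜) (comp 𝒜 𝒜 i)) :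
    (D.q : ℤ) ∣ a := by
  classical
  obtain ⟨a', -, hne, hle1⟩ := ver_top_piece D hpos h0 m hmsp m' hm'sp hφ n I I' hS'
  have hle : a' * D.q ≤ a := by
    have h1 := Groth.Agent.Lib.helper19.GrLes.le_endDeg (I.Hgr m n) hne
    rw [ha, WithBot.coe_le_coe, WithTop.coe_le_coe] at h1
    exact h1
  by_contra hndvd
  have hlt : a' * D.q < a := lt_of_le_of_ne hle (fun h => hndvd ⟨a', by rw [← h]; ring⟩)
  have h2 := finrank_Hcomp_eq 𝒜 hpos h0 m hmsp n hn I hS a ha (a - a' * D.q)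
  rw [sub_sub_cancel] at h2
  have h3 := hbig (a - a' * D.q) (by omega)
  omega

end VerDvd

end Groth.Agent.Lib.helper26.GorS
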