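import Mathlib
import Groth.Prelude.Def_GrLC
import Groth.Prelude.Def_CAlg
import Groth.Agent.Lib.Helper26.GorS13

/-!
# A graded module with a partially perfect pairing into its top piece (helper26)

`R` standard graded over the field `k = R_0` with a homogeneous regular sequence `x, y` of positive
degrees, `H` a graded `R`-module on which `x` is surjective, `s ∈ H_b`.  A `k`-linear functional `ψ`
on `H` is *represented in degree `j`* (`InSpan j ψ`) if `ψ(h) s = r h` on `H_j` for some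
`r ∈ R_{b-j}`.  If the pairings `R_t × H_{b-t} → H_b` are nondegenerate on the left and every
functional is represented in the degrees `iq`, every functional is represented in every degree.
-/

set_option autoImplicit false
set_option linter.unusedSectionVars false
set_option linter.dupNamespace false
universe u

namespace Groth.Agent.Lib.helper26.GorS

open GrLC Groth.Agent.Lib.helper26.Can Groth.Agent.Lib.helper26.Seg
  Groth.Agent.Lib.helper19.GrMod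

section Core

variable {R : Type u} [CommRing R] (𝒜 : ℤ → AddSubgroup R) [GradedRing 𝒜]
  (hpos : ∀ n : ℤ, n < 0 → 𝒜 n = ⊥) (h0 : IsField (deg0 𝒜))
  (hstd : Ideal.span (⋃ n ∈ Set.Ioi (0 : ℤ), (𝒜 n : Set R)) =
    Ideal.span ((𝒜 1 : AddSubgroup R) : Set R))
  {H : Type u} [AddCommGroup H] [Module R H] (ℋ : ℤ → AddSubgroup H)
  [DirectSum.Decomposition ℋ] [SetLike.GradedSMul 𝒜 ℋ]
  (b : ℤ) (s : H)

/-- the functional `ψ` is, on `H_j`, multiplication by an element of `R_{b-j}` (into `k s`) -/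
def InSpan (j : ℤ) (ψ : H →ₗ[deg0 𝒜] deg0 𝒜) : Prop :=
  ∃ r ∈ 𝒜 (b - j), ∀ h ∈ ℋ j, ((ψ h : deg0 𝒜) : R) • s = r • h

/-- `u ⋆ ψ = ψ (u • ·)` -/
def star (u : R) (ψ : H →ₗ[deg0 𝒜] deg0 𝒜) : H →ₗ[deg0 𝒜] deg0 𝒜 where
  toFun h := ψ (u • h)
  map_add' h h' := by rw [smul_add, map_add]
  map_smul' c h := by
    rw [smul_comm, map_smul]
    rfl

theorem star_apply (u : R) (ψ : H →ₗ[deg0 𝒜] deg0 𝒜) (h : H) : star 𝒜 u ψ h = ψ (u • h) := rfl

include hstd in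
/-- if `l ⋆ ψ` is represented for all linear forms `l`, then `r ⋆ ψ` is represented for all
homogeneous `r` of positive degree -/
theorem inSpan_star_of_linear {j : ℤ} (ψ : H →ₗ[deg0 𝒜] deg0 𝒜)
    (hlin : ∀ l ∈ 𝒜 1, InSpan 𝒜 ℋ b s (j - 1) (star 𝒜 l ψ)) (d : ℤ) (hd : 0 < d) (r : R)
    (hr : r ∈ 𝒜 d) : InSpan 𝒜 ℋ b s (j - d) (star 𝒜 r ψ) := by
  classical
  have hr' : r ∈ 𝒜 (d - 1 + 1) := by rwa [sub_add_cancel]
  have h1 := mem_closure_mul_of_mem_succ 𝒜 hstd (by omega : (0 : ℤ) ≤ d - 1) hr'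
  refine AddSubgroup.closure_induction (p := fun r _ => InSpan 𝒜 ℋ b s (j - d) (star 𝒜 r ψ))
    ?_ ?_ ?_ ?_ h1
  · rintro _ ⟨u, hu, l, hl, rfl⟩
    obtain ⟨ρ, hρ, hρl⟩ := hlin l hl
    refine ⟨ρ * u, ?_, fun h hh => ?_⟩
    · have := SetLike.GradedMul.mul_mem (A := 𝒜) hρ hu
      rwa [show b - (j - 1) + (d - 1) = b - (j - d) by ring] at this
    · have huh : u • h ∈ ℋ (j - 1) := by
        have := smul_mem_add 𝒜 ℋ hu hh
        rwa [show d - 1 + (j - d) = j - 1 by ring] at this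
      have h2 := hρl (u • h) huh
      rw [star_apply] at h2
      rw [star_apply, mul_smul ρ u h, ← h2, mul_comm u l, mul_smul l u h]
  · refine ⟨0, zero_mem _, fun h _ => ?_⟩
    rw [star_apply, zero_smul, map_zero, Subring.coe_zero, zero_smul]
  · rintro r₁ r₂ _ _ ⟨ρ₁, hρ₁, h₁⟩ ⟨ρ₂, hρ₂, h₂⟩
    refine ⟨ρ₁ + ρ₂, add_mem hρ₁ hρ₂, fun h hh => ?_⟩
    have e1 := h₁ h hh
    have e2 := h₂ h hh
    rw [star_apply] at e1 e2
    rw [star_apply, add_smul r₁ r₂ h, map_add, Subring.coe_add, add_smul, add_smul, e1, e2]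
  · rintro r₁ _ ⟨ρ₁, hρ₁, h₁⟩
    refine ⟨-ρ₁, neg_mem hρ₁, fun h hh => ?_⟩
    have e1 := h₁ h hh
    rw [star_apply] at e1
    rw [star_apply, neg_smul, map_neg, Subring.coe_neg, neg_smul, neg_smul, e1]

include hstd in
/-- the key step: if `l ⋆ ψ` is represented for all linear forms `l`, then `ψ` is represented -/
theorem inSpan_of_linear
    (hN3 : ∀ (t : ℤ) (r : R), r ∈ 𝒜 t → r ≠ 0 → ∃ h ∈ ℋ (b - t), r • h ≠ 0)
    (x y : R) (dx dy : ℤ) (hdx : 0 < dx) (hdy : 0 < dy) (hx : x ∈ 𝒜 dx) (hy : y ∈ 𝒜 dy)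
    (hyreg : ∀ r r' : R, y * r = x * r' → ∃ r'' : R, r = x * r'')
    (hxsurj : ∀ (j : ℤ) (h : H), h ∈ ℋ j → ∃ h' ∈ ℋ (j - dx), h = x • h')
    (j : ℤ) (ψ : H →ₗ[deg0 𝒜] deg0 𝒜)
    (hlin : ∀ l ∈ 𝒜 1, InSpan 𝒜 ℋ b s (j - 1) (star 𝒜 l ψ)) : InSpan 𝒜 ℋ b s j ψ := by
  classical
  obtain ⟨ρx, hρx, hρxe⟩ := inSpan_star_of_linear 𝒜 hstd ℋ b s ψ hlin dx hdx x hx
  obtain ⟨ρy, hρy, hρye⟩ := inSpan_star_of_linear 𝒜 hstd ℋ b s ψ hlin dy hdy y hy
  -- `y ρx = x ρy`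
  have hkey : y * ρx = x * ρy := by
    by_contra hne
    have hne' : y * ρx - x * ρy ≠ 0 := fun h => hne (sub_eq_zero.1 h)
    have hm1 : y * ρx ∈ 𝒜 (b - j + dx + dy) := by
      have := SetLike.GradedMul.mul_mem (A := 𝒜) hy hρx
      rwa [show dy + (b - (j - dx)) = b - j + dx + dy by ring] at this
    have hm2 : x * ρy ∈ 𝒜 (b - j + dx + dy) := by
      have := SetLike.GradedMul.mul_mem (A := 𝒜) hx hρy
      rwa [show dx + (b - (j - dy)) = b - j + dx + dy by ring] at this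
    obtain ⟨h, hh, hrh⟩ := hN3 _ _ (sub_mem hm1 hm2) hne'
    apply hrh
    have hyh : y • h ∈ ℋ (j - dx) := by
      have := smul_mem_add 𝒜 ℋ hy hh
      rwa [show dy + (b - (b - j + dx + dy)) = j - dx by ring] at this
    have hxh : x • h ∈ ℋ (j - dy) := by
      have := smul_mem_add 𝒜 ℋ hx hh
      rwa [show dx + (b - (b - j + dx + dy)) = j - dy by ring] at this
    have e1 := hρxe (y • h) hyh
    have e2 := hρye (x • h) hxh
    rw [star_apply] at e1 e2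
    rw [sub_smul, mul_comm y, mul_smul, mul_comm x, mul_smul, ← e1, ← e2, smul_comm x y h, sub_self]
  obtain ⟨r'', hr''⟩ := hyreg ρx ρy hkey
  -- the homogeneous component
  have hρx' : ρx = ((DirectSum.decompose 𝒜 r'' (b - j) : 𝒜 (b - j)) : R) * x := by
    have h1 : ρx = ((DirectSum.decompose 𝒜 ρx (b - (j - dx)) : 𝒜 (b - (j - dx))) : R) :=
      (DirectSum.decompose_of_mem_same 𝒜 hρx).symm
    have h2 : ρx = r'' • x := by rw [hr'', smul_eq_mul, mul_comm]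
    conv_lhs => rw [h1]
    conv_lhs => rw [h2]
    rw [decompose_smul_apply' 𝒜 𝒜 r'' hx (b - (j - dx))]
    rw [coe_decompose_congr 𝒜 r'' (show b - (j - dx) - dx = b - j by ring)]
    rfl
  refine ⟨((DirectSum.decompose 𝒜 r'' (b - j) : 𝒜 (b - j)) : R), SetLike.coe_mem _, fun h hh => ?_⟩
  obtain ⟨h', hh', rfl⟩ := hxsurj j h hh
  have e1 := hρxe h' hh'
  rw [star_apply] at e1
  rw [e1, hρx', mul_smul]

/-- induction on the degree of the multipliers -/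
theorem inSpan_of_star
    (hbase : ∀ (j : ℤ) (ψ : H →ₗ[deg0 𝒜] deg0 𝒜),
      (∀ l ∈ 𝒜 1, InSpan 𝒜 ℋ b s (j - 1) (star 𝒜 l ψ)) → InSpan 𝒜 ℋ b s j ψ) (p : ℕ) :
    ∀ (j : ℤ) (ψ : H →ₗ[deg0 𝒜] deg0 𝒜),
      (∀ u ∈ 𝒜 (p : ℤ), InSpan 𝒜 ℋ b s (j - p) (star 𝒜 u ψ)) → InSpan 𝒜 ℋ b s j ψ := by
  induction p with
  | zero =>
    intro j ψ h
    obtain ⟨r, hr, hre⟩ := h 1 (SetLike.GradedOne.one_mem (A := 𝒜))
    rw [Nat.cast_zero, sub_zero] at hr hre
    refine ⟨r, hr, fun h hh => ?_⟩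
    have := hre h hh
    rwa [star_apply, one_smul] at this
  | succ p ih =>
    intro j ψ h
    apply ih j ψ
    intro u' hu'
    apply hbase (j - p) (star 𝒜 u' ψ)
    intro l hl
    have hmem : u' * l ∈ 𝒜 ((p + 1 : ℕ) : ℤ) := by
      have := SetLike.GradedMul.mul_mem (A := 𝒜) hu' hl
      rwa [show (p : ℤ) + 1 = ((p + 1 : ℕ) : ℤ) by push_cast; ring] at this
    have h1 := h (u' * l) hmem
    have e : j - ((p + 1 : ℕ) : ℤ) = j - p - 1 := by push_cast; ring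
    rw [e] at h1
    have e2 : star 𝒜 (u' * l) ψ = star 𝒜 l (star 𝒜 u' ψ) := by
      apply LinearMap.ext
      intro h
      rw [star_apply, star_apply, star_apply, mul_smul]
    rwa [e2] at h1

/-- every functional is represented in every degree if this holds in the degrees `iq` -/
theorem inSpan_all (q : ℕ) (hq : 0 < q)
    (hper : ∀ (i : ℤ) (ψ : H →ₗ[deg0 𝒜] deg0 𝒜), InSpan 𝒜 ℋ b s (i * q) ψ)
    (hbase : ∀ (j : ℤ) (ψ : H →ₗ[deg0 𝒜] deg0 𝒜),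
      (∀ l ∈ 𝒜 1, InSpan 𝒜 ℋ b s (j - 1) (star 𝒜 l ψ)) → InSpan 𝒜 ℋ b s j ψ)
    (j : ℤ) (ψ : H →ₗ[deg0 𝒜] deg0 𝒜) : InSpan 𝒜 ℋ b s j ψ := by
  have hq' : (q : ℤ) ≠ 0 := by exact_mod_cast hq.ne'
  have h1 : 0 ≤ j % (q : ℤ) := Int.emod_nonneg j hq'
  have h2 : j % (q : ℤ) + q * (j / q) = j := Int.emod_add_mul_ediv j q
  apply inSpan_of_star 𝒜 ℋ b s hbase (j % (q : ℤ)).toNat j ψ
  intro u _
  have e : j - ((j % (q : ℤ)).toNat : ℤ) = (j / q) * q := by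
    rw [Int.toNat_of_nonneg h1]
    linarith
  rw [e]
  exact hper _ _

include h0 in
/-- representability of all functionals gives nondegeneracy on the right -/
theorem exists_smul_ne_zero_of_inSpan (hs0 : s ≠ 0)
    (hall : ∀ (j : ℤ) (ψ : H →ₗ[deg0 𝒜] deg0 𝒜), InSpan 𝒜 ℋ b s j ψ) {j : ℤ} {h : H}
    (hh : h ∈ ℋ j) (hne : h ≠ 0) : ∃ r ∈ 𝒜 (b - j), r • h ≠ 0 := by
  classical
  let _ : Field (deg0 𝒜) := h0.toField
  obtain ⟨ψ, hψ⟩ := Module.Projective.exists_dual_ne_zero (deg0 𝒜) hne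
  obtain ⟨r, hr, hre⟩ := hall j ψ
  refine ⟨r, hr, ?_⟩
  rw [← hre h hh]
  intro hzero
  obtain ⟨c, hc⟩ := h0.mul_inv_cancel hψ
  have hc' : ((ψ h : deg0 𝒜) : R) * (c : R) = 1 := congrArg Subtype.val hc
  apply hs0
  calc s = ((c : R) * ((ψ h : deg0 𝒜) : R)) • s := by rw [mul_comm, hc', one_smul]
    _ = 0 := by rw [mul_smul, hzero, smul_zero]

end Core

end Groth.Agent.Lib.helper26.GorS
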