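import Mathlib
import Groth.Prelude.Def_GrLC
import Groth.Prelude.Def_CAlg
import Groth.Agent.Lib.Helper26.GorS14
import Groth.Agent.Lib.Helper26.LCTop
import Groth.Agent.Lib.Helper26.Can7
import Groth.Agent.S13224

/-!
# Nondegeneracy of the multiplication pairings: auxiliary statements (helper26)
-/

set_option autoImplicit false
set_option linter.unusedSectionVars false
set_option linter.dupNamespace false
universe u

namespace Groth.Agent.Lib.helper26.GorS

open GrLC Groth.Agent.Lib.helper26.Can Groth.Agent.Lib.helper26.Seg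
  Groth.Agent.Lib.helper19.GrMod

theorem exists_rep_of_nondeg {K V W T : Type*} [Field K] [AddCommGroup V] [Module K V]
    [AddCommGroup W] [Module K W] [AddCommGroup T] [Module K T] [FiniteDimensional K V]
    [FiniteDimensional K W] (B : V → W → T)
    (hadd₁ : ∀ v v' w, B (v + v') w = B v w + B v' w)
    (hsmul₁ : ∀ (c : K) v w, B (c • v) w = c • B v w)
    (hadd₂ : ∀ v w w', B v (w + w') = B v w + B v w')
    (hsmul₂ : ∀ (c : K) v w, B v (c • w) = c • B v w)
    (hL : ∀ v, (∀ w, B v w = 0) → v = 0) (hR : ∀ w, (∀ v, B v w = 0) → w = 0)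
    (t₀ : T) (ht₀ : t₀ ≠ 0) (hgen : ∀ t : T, ∃ c : K, t = c • t₀)
    (ψ : W → K) (hψadd : ∀ w w', ψ (w + w') = ψ w + ψ w')
    (hψsmul : ∀ (c : K) w, ψ (c • w) = c * ψ w) : ∃ v, ∀ w, B v w = ψ w • t₀ := by
  classical
  -- the coordinate
  have huniq : ∀ c c' : K, c • t₀ = c' • t₀ → c = c' := by
    intro c c' h
    by_contra hne
    have h1 : (c - c') • t₀ = 0 := by rw [sub_smul, h, sub_self]
    rcases smul_eq_zero.1 h1 with h2 | h2
    · exact hne (sub_eq_zero.1 h2)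
    · exact ht₀ h2
  choose χ hχ using hgen
  have hχadd : ∀ t t', χ (t + t') = χ t + χ t' := by
    intro t t'
    apply huniq
    rw [← hχ, add_smul, ← hχ, ← hχ]
  have hχsmul : ∀ (c : K) t, χ (c • t) = c * χ t := by
    intro c t
    apply huniq
    rw [← hχ, mul_smul, ← hχ]
  let Φ : V →ₗ[K] Module.Dual K W :=
    { toFun := fun v =>
        { toFun := fun w => χ (B v w)
          map_add' := fun w w' => by rw [hadd₂, hχadd]
          map_smul' := fun c w => by rw [hsmul₂, hχsmul]; rfl }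
      map_add' := fun v v' => by
        apply LinearMap.ext; intro w
        show χ (B (v + v') w) = χ (B v w) + χ (B v' w)
        rw [hadd₁, hχadd]
      map_smul' := fun c v => by
        apply LinearMap.ext; intro w
        show χ (B (c • v) w) = c • χ (B v w)
        rw [hsmul₁, hχsmul]; rfl }
  let Ψ : W →ₗ[K] Module.Dual K V :=
    { toFun := fun w =>
        { toFun := fun v => χ (B v w)
          map_add' := fun v v' => by rw [hadd₁, hχadd]
          map_smul' := fun c v => by rw [hsmul₁, hχsmul]; rfl }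
      map_add' := fun w w' => by
        apply LinearMap.ext; intro v
        show χ (B v (w + w')) = χ (B v w) + χ (B v w')
        rw [hadd₂, hχadd]
      map_smul' := fun c w => by
        apply LinearMap.ext; intro v
        show χ (B v (c • w)) = c • χ (B v w)
        rw [hsmul₂, hχsmul]; rfl }
  have hzero : ∀ t : T, χ t = 0 → t = 0 := by
    intro t ht
    rw [hχ t, ht, zero_smul]
  have hΦ : Function.Injective Φ := by
    rw [injective_iff_map_eq_zero]
    intro v hv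
    apply hL
    intro w
    apply hzero
    exact congrArg (fun f : Module.Dual K W => f w) hv
  have hΨ : Function.Injective Ψ := by
    rw [injective_iff_map_eq_zero]
    intro w hw
    apply hR
    intro v
    apply hzero
    exact congrArg (fun f : Module.Dual K V => f v) hw
  have h1 := LinearMap.finrank_le_finrank_of_injective hΦ
  have h2 := LinearMap.finrank_le_finrank_of_injective hΨ
  rw [Subspace.dual_finrank_eq] at h1 h2
  have hsurj : Function.Surjective Φ :=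
    (LinearMap.injective_iff_surjective_of_finrank_eq_finrank
      (by rw [Subspace.dual_finrank_eq]; omega)).1 hΦ
  obtain ⟨v, hv⟩ := hsurj
    { toFun := ψ
      map_add' := hψadd
      map_smul' := fun c w => by rw [hψsmul]; rfl }
  refine ⟨v, fun w => ?_⟩
  have h3 : χ (B v w) = ψ w := congrArg (fun f : Module.Dual K W => f w) hv
  rw [hχ (B v w), h3]

section Aux

variable {R : Type u} [CommRing R] (𝒜 : ℤ → AddSubgroup R) [GradedRing 𝒜]
  (hpos : ∀ n : ℤ, n < 0 → 𝒜 n = ⊥) (h0 : IsField (deg0 𝒜))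
  (hstd : Ideal.span (⋃ n ∈ Set.Ioi (0 : ℤ), (𝒜 n : Set R)) =
    Ideal.span ((𝒜 1 : AddSubgroup R) : Set R))
  {H : Type u} [AddCommGroup H] [Module R H] (ℋ : ℤ → AddSubgroup H)
  [DirectSum.Decomposition ℋ] [SetLike.GradedSMul 𝒜 ℋ]
  (b : ℤ) (s : H)

/-- powers of a non-zero-divisor are non-zero-divisors -/
theorem eq_zero_of_pow_mul_eq_zero {x : R} (hxreg : ∀ r : R, x * r = 0 → r = 0) (k : ℕ) (r : R)
    (h : x ^ k * r = 0) : r = 0 := by
  induction k with
  | zero => rwa [pow_zero, one_mul] at h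
  | succ k ih =>
    apply ih
    apply hxreg
    rw [← mul_assoc, ← pow_succ']
    exact h

include hpos hstd in
/-- nondegeneracy on the left in the degrees `iq` propagates to all degrees -/
theorem nondeg_left_of_periodic (q : ℕ) (hq : 0 < q)
    (hN2 : ∀ (i : ℤ) (r : R), r ∈ 𝒜 (i * q) → r ≠ 0 → ∃ h ∈ ℋ (b - i * q), r • h ≠ 0)
    (x : R) (dx : ℕ) (hdx : 0 < dx) (hx : x ∈ 𝒜 (dx : ℤ)) (hxreg : ∀ r : R, x * r = 0 → r = 0)
    (t : ℤ) (r : R) (hr : r ∈ 𝒜 t) (hne : r ≠ 0) : ∃ h ∈ ℋ (b - t), r • h ≠ 0 := by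
  classical
  by_contra hcon
  push Not at hcon
  have ht0 : 0 ≤ t := by
    by_contra hneg
    push Not at hneg
    rw [hpos t hneg, AddSubgroup.mem_bot] at hr
    exact hne hr
  have hq' : (q : ℤ) ≠ 0 := by exact_mod_cast hq.ne'
  have hqpos : (0 : ℤ) < q := by exact_mod_cast hq
  have h1 : 0 ≤ t % (q : ℤ) := Int.emod_nonneg t hq'
  have h2 : t % (q : ℤ) < q := Int.emod_lt_of_pos t hqpos
  have h3 : t % (q : ℤ) + q * (t / q) = t := Int.emod_add_mul_ediv t q
  set i₁ : ℕ := ((q : ℤ) - t % (q : ℤ)).toNat with hi₁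
  have hi₁e : (i₁ : ℤ) = (q : ℤ) - t % (q : ℤ) := by
    rw [hi₁]; exact Int.toNat_of_nonneg (by omega)
  have hi₁pos : 0 < i₁ := by
    have : (0 : ℤ) < (i₁ : ℤ) := by rw [hi₁e]; omega
    exact_mod_cast this
  have hti : t + (i₁ : ℤ) = (t / q + 1) * q := by
    rw [hi₁e]; linarith
  -- `r` kills `R_{i₁}`
  have hc1 : ∀ u ∈ 𝒜 (i₁ : ℤ), r * u = 0 := by
    intro u hu
    by_contra hru
    have hmem : r * u ∈ 𝒜 ((t / q + 1) * q) := by
      have := SetLike.GradedMul.mul_mem (A := 𝒜) hr hu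
      rwa [hti] at this
    obtain ⟨h, hh, hrh⟩ := hN2 _ _ hmem hru
    apply hrh
    have huh : u • h ∈ ℋ (b - t) := by
      have := smul_mem_add 𝒜 ℋ hu hh
      rwa [show (i₁ : ℤ) + (b - (t / q + 1) * q) = b - t by rw [← hti]; ring] at this
    rw [mul_smul]
    exact hcon _ huh
  -- `r` kills all higher pieces
  have hc2 : ∀ p : ℕ, ∀ w ∈ 𝒜 ((i₁ : ℤ) + p), r * w = 0 := by
    intro p
    induction p with
    | zero =>
      intro w hw
      rw [Nat.cast_zero, add_zero] at hw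
      exact hc1 w hw
    | succ p ih =>
      intro w hw
      have hw' : w ∈ 𝒜 ((i₁ : ℤ) + p + 1) := by
        rwa [show (i₁ : ℤ) + ((p + 1 : ℕ) : ℤ) = (i₁ : ℤ) + p + 1 by push_cast; ring] at hw
      have h4 := mem_closure_mul_of_mem_succ 𝒜 hstd (by omega : (0 : ℤ) ≤ (i₁ : ℤ) + p) hw'
      refine AddSubgroup.closure_induction (p := fun w _ => r * w = 0) ?_ ?_ ?_ ?_ h4
      · rintro _ ⟨u, hu, l, _, rfl⟩
        rw [← mul_assoc, ih u hu, zero_mul]
      · exact mul_zero r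
      · intro w₁ w₂ _ _ e1 e2
        rw [mul_add, e1, e2, add_zero]
      · intro w₁ _ e1
        rw [mul_neg, e1, neg_zero]
  -- hence `r x^{i₁} = 0`
  have hxp : x ^ i₁ ∈ 𝒜 ((i₁ : ℤ) + ((i₁ * dx - i₁ : ℕ) : ℤ)) := by
    have h5 : x ^ i₁ ∈ 𝒜 (i₁ • (dx : ℤ)) := SetLike.pow_mem_graded i₁ hx
    have h6 : i₁ ≤ i₁ * dx := Nat.le_mul_of_pos_right i₁ hdx
    have h7 : i₁ • (dx : ℤ) = (i₁ : ℤ) + ((i₁ * dx - i₁ : ℕ) : ℤ) := by
      rw [nsmul_eq_mul, Nat.cast_sub h6]; push_cast; ring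
    rwa [h7] at h5
  have h8 := hc2 _ _ hxp
  rw [mul_comm] at h8
  exact hne (eq_zero_of_pow_mul_eq_zero hxreg i₁ r h8)

include h0 in
/-- a perfect pairing in one degree: every functional on `H_j` is represented -/
theorem inSpan_of_nondeg (hs : s ∈ ℋ b) (hs0 : s ≠ 0)
    (hsgen : ∀ y ∈ ℋ b, ∃ c ∈ 𝒜 0, y = c • s) (j : ℤ)
    (hL : ∀ r ∈ 𝒜 (b - j), r ≠ 0 → ∃ h ∈ ℋ j, r • h ≠ 0)
    (hR : ∀ h ∈ ℋ j, h ≠ 0 → ∃ r ∈ 𝒜 (b - j), r • h ≠ 0)
    (hfinA : Module.Finite (deg0 𝒜) (comp 𝒜 𝒜 (b - j)))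
    (hfinH : Module.Finite (deg0 𝒜) (comp 𝒜 ℋ j)) (ψ : H →ₗ[deg0 𝒜] deg0 𝒜) :
    InSpan 𝒜 ℋ b s j ψ := by
  classical
  let _ : Field (deg0 𝒜) := h0.toField
  have e1 : b - j + j = b := by ring
  have hv : (⟨s, hs⟩ : ↥(comp 𝒜 ℋ b)) ≠ 0 := fun h => hs0 (congrArg Subtype.val h)
  obtain ⟨v, hv⟩ := exists_rep_of_nondeg (K := deg0 𝒜) (V := ↥(comp 𝒜 𝒜 (b - j)))
    (W := ↥(comp 𝒜 ℋ j)) (T := ↥(comp 𝒜 ℋ b))
    (fun v w => ⟨(v : R) • (w : H), by
      have := smul_mem_add 𝒜 ℋ (show (v : R) ∈ 𝒜 (b - j) from v.2) (show (w : H) ∈ ℋ j from w.2)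
      rw [e1] at this
      exact this⟩)
    (fun v v' w => Subtype.ext (add_smul _ _ _))
    (fun c v w => Subtype.ext (by
      show ((c • v : ↥(comp 𝒜 𝒜 (b - j))) : R) • (w : H) = c • ((v : R) • (w : H))
      exact smul_assoc _ _ _))
    (fun v w w' => Subtype.ext (smul_add _ _ _))
    (fun c v w => Subtype.ext (smul_comm _ _ _))
    (fun v hv => by
      by_contra hne
      have hne' : (v : R) ≠ 0 := fun h => hne (Subtype.ext h)
      obtain ⟨h, hh, hrh⟩ := hL (v : R) v.2 hne'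
      exact hrh (congrArg Subtype.val (hv ⟨h, hh⟩)))
    (fun w hw => by
      by_contra hne
      have hne' : (w : H) ≠ 0 := fun h => hne (Subtype.ext h)
      obtain ⟨r, hr, hrh⟩ := hR (w : H) w.2 hne'
      exact hrh (congrArg Subtype.val (hw ⟨r, hr⟩)))
    (⟨s, hs⟩ : ↥(comp 𝒜 ℋ b)) hv
    (fun w => by
      obtain ⟨c, hc0, hc⟩ := hsgen w.1 w.2
      exact ⟨⟨c, hc0⟩, Subtype.ext hc⟩)
    (fun w => ψ (w : H))
    (fun w w' => by
      show ψ ((w : H) + (w' : H)) = _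
      rw [map_add])
    (fun c w => by
      show ψ (c • (w : H)) = _
      rw [map_smul]
      rfl)
  refine ⟨(v : R), v.2, fun h hh => ?_⟩
  exact (congrArg Subtype.val (hv ⟨h, hh⟩)).symm

end Aux

section Surj

variable {R : Type u} [CommRing R] [IsNoetherianRing R] (𝒜 : ℤ → AddSubgroup R) [GradedRing 𝒜]
  (m : HomogeneousIdeal 𝒜)

/-- **a non-zero-divisor acts surjectively on the top local cohomology** -/
theorem Hgr_smul_surjective (n : ℕ) (hn : ringKrullDim R = n) (I : StarInjRes 𝒜 𝒜)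
    [DirectSum.Decomposition (I.Hgr m n)] [SetLike.GradedSMul 𝒜 (I.Hgr m n)]
    (x : R) (dx : ℤ) (hx : x ∈ 𝒜 dx) (hxreg : ∀ r : R, x * r = 0 → r = 0)
    (j : ℤ) (h : I.H m n) (hh : h ∈ I.Hgr m n j) :
    ∃ h' ∈ I.Hgr m n (j - dx), h = x • h' := by
  classical
  obtain ⟨ε⟩ := Groth.Agent.S13224.result R 𝒜 m R 𝒜 I n
  have hxnzd : x ∈ nonZeroDivisors R := by
    rw [mem_nonZeroDivisors_iff]
    refine ⟨fun r hr => hxreg r hr, fun r hr => hxreg r (by rw [mul_comm]; exact hr)⟩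
  have hdim : Module.supportDim R (R ⧸ Ideal.span {x}) < (n : WithBot ℕ∞) := by
    rw [Module.supportDim_quotient_eq_ringKrullDim]
    have h1 := ringKrullDim_quotient_succ_le_of_nonZeroDivisor hxnzd
    rw [hn] at h1
    by_contra hcon
    push Not at hcon
    have h2 : ((n : WithBot ℕ∞)) + 1 ≤ (n : WithBot ℕ∞) := le_trans (by gcongr) h1
    have h3 : ((n + 1 : ℕ) : WithBot ℕ∞) ≤ ((n : ℕ) : WithBot ℕ∞) := by
      push_cast
      exact h2
    have h4 : (n + 1 : ℕ) ≤ n := by exact_mod_cast h3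
    omega
  have h1 := mem_smul_top_H m.toIdeal (Ideal.span {x}) n hn.le hdim (ε h)
  have h2 := mem_smul_top_of_equiv ε (Ideal.span {x}) h1
  rw [LinearEquiv.symm_apply_apply, Submodule.ideal_span_singleton_smul] at h2
  obtain ⟨y, -, hy⟩ := (Submodule.mem_smul_pointwise_iff_exists _ _ _).1 h2
  refine ⟨((DirectSum.decompose (I.Hgr m n) y (j - dx) : I.Hgr m n (j - dx)) : I.H m n),
    SetLike.coe_mem _, ?_⟩
  rw [← decompose_smul_apply 𝒜 (I.Hgr m n) hx y j, hy]
  exact (DirectSum.decompose_of_mem_same (I.Hgr m n) hh).symm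

end Surj

end Groth.Agent.Lib.helper26.GorS
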