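import Mathlib
import Groth.Prelude.Def_GrLC
import Groth.Prelude.Def_CAlg
import Groth.Agent.Lib.Helper26.GorS15

/-!
# If a Veronese subring of a Cohen–Macaulay standard graded ring of dimension `≥ 2` is Gorenstein,
so is the ring (helper26)
-/

set_option autoImplicit false
set_option linter.unusedSectionVars false
set_option linter.dupNamespace false
universe u

namespace Groth.Agent.Lib.helper26.GorS

open GrLC Groth.Agent.Lib.helper26.Can Groth.Agent.Lib.helper26.Ver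
  Groth.Agent.Lib.helper19.GrMod

section VerGor

variable {R : Type u} [CommRing R] {R' : Type u} [CommRing R']
variable {𝒜 : ℤ → AddSubgroup R} [GradedRing 𝒜] {𝒜' : ℤ → AddSubgroup R'} [GradedRing 𝒜']
  (D : VerData 𝒜 𝒜')
  (hpos : ∀ n : ℤ, n < 0 → 𝒜 n = ⊥) (h0 : IsField (deg0 𝒜))
  (m : HomogeneousIdeal 𝒜)
  (hmsp : m.toIdeal = Ideal.span (⋃ n ∈ Set.Ioi (0 : ℤ), (𝒜 n : Set R)))
  (m' : HomogeneousIdeal 𝒜')
  (hm'sp : m'.toIdeal = Ideal.span (⋃ j ∈ Set.Ioi (0 : ℤ), (𝒜' j : Set R')))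

include hpos h0 hmsp hm'sp in
/-- the pairings of `R` and `H^n_m(R)` in the degrees `iq`, when the socle of `H^n_{m'}(R^{(q)})` is
simple -/
theorem ver_nondeg [IsNoetherianRing R] [LocCoh.IsCohenMacaulayRing R']
    (hφ : Function.Injective D.φ) (n : ℕ) (hn' : ringKrullDim R' = n)
    (I : StarInjRes 𝒜 𝒜) (I' : StarInjRes 𝒜' 𝒜')
    (hS' : SimpleSoc m'.toIdeal (I'.H m' n)) :
    ∃ (a' : ℤ) (s : I.H m n), s ∈ I.Hgr m n (a' * D.q) ∧ s ≠ 0 ∧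
      (∀ y ∈ I.Hgr m n (a' * D.q), ∃ c ∈ 𝒜 0, y = c • s) ∧
      (∀ (i : ℤ) (h : I.H m n), h ∈ I.Hgr m n (i * D.q) → h ≠ 0 →
        ∃ r ∈ 𝒜 (a' * D.q - i * D.q), r • h ≠ 0) ∧
      (∀ (i : ℤ) (r : R), r ∈ 𝒜 (i * D.q) → r ≠ 0 →
        ∃ h ∈ I.Hgr m n (a' * D.q - i * D.q), r • h ≠ 0) := by
  classical
  let _ : Field (deg0 𝒜) := h0.toField
  have hNR' : IsNoetherianRing R' := D.isNoetherianRing hφ
  have hpos' := ver_pos' D hφ hpos
  have h0' := ver_isField_deg0' D hφ h0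
  let _ : DirectSum.Decomposition (I.Hgr m n) := hgrDecomposition 𝒜 I m n
  let _ : SetLike.GradedSMul 𝒜 (I.Hgr m n) := hgr_gradedSMul 𝒜 I m n
  let _ : DirectSum.Decomposition (I'.Hgr m' n) := hgrDecomposition 𝒜' I' m' n
  let _ : SetLike.GradedSMul 𝒜' (I'.Hgr m' n) := hgr_gradedSMul 𝒜' I' m' n
  obtain ⟨θ, hθinj, hθmem, hθsurj⟩ := exists_theta D (verIncl D) hφ (fun j => D.hdeg j) I m hmsp
    m' hm'sp hφ I' n
  obtain ⟨a', ha'⟩ := exists_endDeg_of_simpleSoc 𝒜' hpos' h0' m' hm'sp n I' hS'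
  obtain ⟨s', hs'a, hs'0, hs'soc, hgen'⟩ :=
    exists_top_of_simpleSoc 𝒜' hpos' h0' m' hm'sp (I'.Hgr m' n) hS' a' ha'
  have htop' : ∀ i : ℤ, a' < i → I'.Hgr m' n i = ⊥ := by
    intro i hi
    by_contra hne
    have h1 := Groth.Agent.Lib.helper19.GrLes.le_endDeg (I'.Hgr m' n) hne
    rw [ha', WithBot.coe_le_coe, WithTop.coe_le_coe] at h1
    omega
  have h1 : θ s' ∈ I.Hgr m n (a' * D.q) := hθmem a' s' hs'a
  have h1ne : θ s' ≠ 0 := fun h => hs'0 (hθinj (h.trans (map_zero θ).symm))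
  refine ⟨a', θ s', h1, h1ne, ?_, ?_, ?_⟩
  · intro y hy
    obtain ⟨y', hy', hθy'⟩ := hθsurj a' y hy
    obtain ⟨c', hc'0, hc'⟩ := hgen' y'
      (smul_eq_zero_of_mem_top 𝒜' hpos' h0' m' hm'sp (I'.Hgr m' n) htop' hy')
    have hφc' : D.φ c' ∈ 𝒜 0 := by
      have h2 : D.φ c' ∈ (𝒜' 0).map (D.φ : R' →+ R) := ⟨c', hc'0, rfl⟩
      rw [D.hdeg 0, zero_mul] at h2
      exact h2
    refine ⟨D.φ c', hφc', ?_⟩
    rw [← hθy', hc', map_smulₛₗ]
  · intro i h hh hne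
    obtain ⟨h', hh', hθh'⟩ := hθsurj i h hh
    have hne' : h' ≠ 0 := fun h0' => hne (by rw [← hθh', h0', map_zero])
    obtain ⟨r', hr', hr'ne⟩ := exists_smul_ne_zero_of_simpleSoc 𝒜' hpos' h0' m' hm'sp I' n hS' a'
      ha' hh' hne'
    refine ⟨D.φ r', ?_, ?_⟩
    · have h2 : D.φ r' ∈ (𝒜' (a' - i)).map (D.φ : R' →+ R) := ⟨r', hr', rfl⟩
      rw [D.hdeg (a' - i)] at h2
      rwa [show (a' - i) * (D.q : ℤ) = a' * D.q - i * D.q by ring] at h2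
    · rw [← hθh', ← map_smulₛₗ]
      exact fun h3 => hr'ne (hθinj (h3.trans (map_zero θ).symm))
  · intro i r hr hne
    rw [← D.hdeg i] at hr
    obtain ⟨r', hr', hφr'⟩ := hr
    have hφr'' : D.φ r' = r := hφr'
    have hne' : r' ≠ 0 := fun h0' => hne (by rw [← hφr'', h0', map_zero])
    obtain ⟨h', hh', hrh'⟩ := exists_smul_ne_zero_of_simpleSoc' 𝒜' hpos' h0' m' hm'sp n hn' I' hS'
      a' ha' hr' hne'
    refine ⟨θ h', ?_, ?_⟩
    · have h2 := hθmem (a' - i) h' hh'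
      rwa [show (a' - i) * (D.q : ℤ) = a' * D.q - i * D.q by ring] at h2
    · rw [← hφr'', ← map_smulₛₗ]
      exact fun h3 => hrh' (hθinj (h3.trans (map_zero θ).symm))

variable (hstd : Ideal.span (⋃ n ∈ Set.Ioi (0 : ℤ), (𝒜 n : Set R)) =
    Ideal.span ((𝒜 1 : AddSubgroup R) : Set R))

include hpos h0 hmsp hm'sp hstd in
/-- **if `R` is Cohen–Macaulay standard graded of dimension `≥ 2` and the socle of
`H^n_{m'}(R^{(q)})` is simple, then the socle of `H^n_m(R)` is simple and `a(R) = a' q`** -/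
theorem simpleSoc_of_ver [LocCoh.IsCohenMacaulayRing R] [LocCoh.IsCohenMacaulayRing R']
    (hφ : Function.Injective D.φ) (n : ℕ) (hn : ringKrullDim R = n) (hn' : ringKrullDim R' = n)
    (h2 : 2 ≤ n) (I : StarInjRes 𝒜 𝒜) (I' : StarInjRes 𝒜' 𝒜')
    (hS' : SimpleSoc m'.toIdeal (I'.H m' n)) :
    SimpleSoc m.toIdeal (I.H m n) ∧
      ∃ a' : ℤ, endDeg (I.Hgr m n) = (((a' * D.q : ℤ) : WithTop ℤ) : WithBot (WithTop ℤ)) := by
  classical
  let _ : Field (deg0 𝒜) := h0.toField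
  let _ : DirectSum.Decomposition (I.Hgr m n) := hgrDecomposition 𝒜 I m n
  let _ : SetLike.GradedSMul 𝒜 (I.Hgr m n) := hgr_gradedSMul 𝒜 I m n
  obtain ⟨a', s, hs, hs0, hsgen, hN1, hN2⟩ :=
    ver_nondeg D hpos h0 m hmsp m' hm'sp hφ n hn' I I' hS'
  -- a regular sequence of length two
  obtain ⟨d, hd, x, hx, hall⟩ := exists_regular_sop 𝒜 hpos h0 m hmsp n hn
  obtain ⟨hreg, -⟩ := hall 1 one_pos
  obtain ⟨n'', rfl⟩ : ∃ n'' : ℕ, n = n'' + 2 := ⟨n - 2, by omega⟩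
  rw [List.ofFn_succ, RingTheory.Sequence.isWeaklyRegular_cons_iff, List.ofFn_succ,
    RingTheory.Sequence.isWeaklyRegular_cons_iff, pow_one, pow_one] at hreg
  obtain ⟨hreg0, hreg1, -⟩ := hreg
  have hxreg : ∀ r : R, x 0 * r = 0 → r = 0 := by
    intro r hr
    apply hreg0
    show x 0 • r = x 0 • 0
    rw [smul_eq_mul, hr, smul_zero]
  have hyreg : ∀ r r' : R, x (Fin.succ 0) * r = x 0 * r' → ∃ r'' : R, r = x 0 * r'' := by
    intro r r' hrr'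
    have h3 : x (Fin.succ 0) • (Submodule.Quotient.mk r : QuotSMulTop (x 0) R) =
        x (Fin.succ 0) • 0 := by
      rw [smul_zero, ← Submodule.Quotient.mk_smul, Submodule.Quotient.mk_eq_zero, smul_eq_mul, hrr']
      exact Submodule.smul_mem_pointwise_smul r' (x 0) ⊤ Submodule.mem_top
    have h4 := hreg1 h3
    rw [Submodule.Quotient.mk_eq_zero] at h4
    obtain ⟨r'', -, hr''⟩ := (Submodule.mem_smul_pointwise_iff_exists _ _ _).1 h4
    exact ⟨r'', hr''.symm⟩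
  have hdz : (0 : ℤ) < (d : ℤ) := by exact_mod_cast hd
  have hN3 := nondeg_left_of_periodic 𝒜 hpos hstd (I.Hgr m (n'' + 2)) (a' * D.q) D.q D.hq hN2
    (x 0) d hd (hx 0) hxreg
  have hxsurj : ∀ (j : ℤ) (h : I.H m (n'' + 2)), h ∈ I.Hgr m (n'' + 2) j →
      ∃ h' ∈ I.Hgr m (n'' + 2) (j - (d : ℤ)), h = x 0 • h' := fun j h hh =>
    Hgr_smul_surjective 𝒜 m (n'' + 2) hn I (x 0) (d : ℤ) (hx 0) hxreg j h hh
  have hfg := (Groth.Agent.Lib.helper19.GrFin.main 𝒜 hpos m hmsp (n'' + 2) R 𝒜 I).1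
  have hper : ∀ (i : ℤ) (ψ : I.H m (n'' + 2) →ₗ[deg0 𝒜] deg0 𝒜),
      InSpan 𝒜 (I.Hgr m (n'' + 2)) (a' * D.q) s (i * D.q) ψ := by
    intro i ψ
    have hfinH : Module.Finite (deg0 𝒜) (I.Hcomp m (n'' + 2) (i * D.q)) :=
      Module.Finite.iff_fg.2 (hfg _)
    refine inSpan_of_nondeg 𝒜 h0 (I.Hgr m (n'' + 2)) (a' * D.q) s hs hs0 hsgen (i * D.q) ?_
      (fun h hh hne => hN1 i h hh hne)
      (Groth.Agent.Lib.helper19.GrFin.finite_comp 𝒜 hpos 𝒜 _) hfinH ψ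
    intro r hr hne
    obtain ⟨h, hh, hrh⟩ := hN3 _ r hr hne
    rw [sub_sub_cancel] at hh
    exact ⟨h, hh, hrh⟩
  have hbase : ∀ (j : ℤ) (ψ : I.H m (n'' + 2) →ₗ[deg0 𝒜] deg0 𝒜),
      (∀ l ∈ 𝒜 1, InSpan 𝒜 (I.Hgr m (n'' + 2)) (a' * D.q) s (j - 1) (star 𝒜 l ψ)) →
        InSpan 𝒜 (I.Hgr m (n'' + 2)) (a' * D.q) s j ψ := fun j ψ hlin =>
    inSpan_of_linear 𝒜 hstd (I.Hgr m (n'' + 2)) (a' * D.q) s hN3 (x 0) (x (Fin.succ 0)) d d hdz hdz
      (hx 0) (hx _) hyreg hxsurj j ψ hlin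
  have hallS := inSpan_all 𝒜 (I.Hgr m (n'' + 2)) (a' * D.q) s D.q D.hq hper hbase
  have hsep : ∀ {j : ℤ} {h : I.H m (n'' + 2)}, h ∈ I.Hgr m (n'' + 2) j → h ≠ 0 →
      ∃ r ∈ 𝒜 (a' * D.q - j), r • h ≠ 0 := fun hh hne =>
    exists_smul_ne_zero_of_inSpan 𝒜 h0 (I.Hgr m (n'' + 2)) (a' * D.q) s hs0 hallS hh hne
  have htop : ∀ j : ℤ, a' * D.q < j → I.Hgr m (n'' + 2) j = ⊥ := by
    intro j hj
    rw [eq_bot_iff]
    intro h hh
    rw [AddSubgroup.mem_bot]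
    by_contra hne
    obtain ⟨r, hr, hrh⟩ := hsep hh hne
    rw [hpos _ (by omega), AddSubgroup.mem_bot] at hr
    exact hrh (by rw [hr, zero_smul])
  have hsoc : ∀ r ∈ m.toIdeal, r • s = 0 :=
    smul_eq_zero_of_mem_top 𝒜 hpos h0 m hmsp (I.Hgr m (n'' + 2)) htop hs
  refine ⟨⟨s, hs0, hsoc, fun y hy => ?_⟩, a', le_antisymm ?_ ?_⟩
  · have hz : ∀ j : ℤ, j ≠ a' * D.q →
        ((DirectSum.decompose (I.Hgr m (n'' + 2)) y j : I.Hgr m (n'' + 2) j) :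
          I.H m (n'' + 2)) = 0 := by
      intro j hj
      by_contra hne
      have hsocj := smul_decompose_eq_zero 𝒜 m (I.Hgr m (n'' + 2)) hy j
      obtain ⟨r, hr, hrh⟩ := hsep (SetLike.coe_mem (DirectSum.decompose (I.Hgr m (n'' + 2)) y j)) hne
      rcases lt_or_gt_of_ne hj with hlt | hgt
      · exact hrh (hsocj r (mem_toIdeal_of_mem 𝒜 m hmsp (by omega) hr))
      · rw [hpos _ (by omega), AddSubgroup.mem_bot] at hr
        exact hrh (by rw [hr, zero_smul])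
    have hy0 : y = ((DirectSum.decompose (I.Hgr m (n'' + 2)) y (a' * D.q) :
        I.Hgr m (n'' + 2) (a' * D.q)) : I.H m (n'' + 2)) := by
      conv_lhs => rw [← DirectSum.sum_support_decompose (I.Hgr m (n'' + 2)) y]
      apply Finset.sum_eq_single (a' * (D.q : ℤ))
      · intro j _ hj
        exact hz j hj
      · intro h
        rw [DFinsupp.notMem_support_iff] at h
        rw [h]
        rfl
    obtain ⟨c, -, hc⟩ := hsgen _ (SetLike.coe_mem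
      (DirectSum.decompose (I.Hgr m (n'' + 2)) y (a' * D.q)))
    exact ⟨c, hy0.trans hc⟩
  · apply Groth.Agent.Lib.helper19.GrLes.endDeg_le
    intro j hj
    rw [WithBot.coe_le_coe, WithTop.coe_le_coe]
    by_contra hlt
    push Not at hlt
    exact hj (htop j hlt)
  · apply Groth.Agent.Lib.helper19.GrLes.le_endDeg
    intro hbot
    rw [hbot, AddSubgroup.mem_bot] at hs
    exact hs0 hs

end VerGor

end Groth.Agent.Lib.helper26.GorS
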