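import Mathlib
import Groth.Prelude.Def_GrLC
import Groth.Prelude.Def_GrLC2
import Groth.Prelude.Def_CAlg
import Groth.Agent.Lib.Helper26.GorB3
import Groth.Agent.Lib.Helper26.GorS16

/-!
# The type of a Veronese subring of a Gorenstein standard graded ring (helper26)
-/

set_option autoImplicit false
set_option linter.unusedSectionVars false
set_option linter.dupNamespace false
universe u

namespace Groth.Agent.Lib.helper26.GorB

open CategoryTheory GrLC Groth.Agent.Lib.helper26.GorS Groth.Agent.Lib.helper26.Can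
  Groth.Agent.Lib.helper26.Ver Groth.Agent.Lib.helper19.GrMod

section Len0

variable {R : Type u} [CommRing R] (𝒜 : ℤ → AddSubgroup R) [GradedRing 𝒜]
  (hpos : ∀ n : ℤ, n < 0 → 𝒜 n = ⊥) (h0 : IsField (deg0 𝒜))
  (m : HomogeneousIdeal 𝒜)
  (hmsp : m.toIdeal = Ideal.span (⋃ n ∈ Set.Ioi (0 : ℤ), (𝒜 n : Set R)))

include hpos h0 hmsp in
/-- for a module killed by `R_+`, the length over `R` is the length over `R_0` -/
theorem length_eq_length_deg0 (V : Type u) [AddCommGroup V] [Module R V]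
    (hV : ∀ a ∈ m.toIdeal, ∀ v : V, a • v = 0) :
    Module.length R V = Module.length (deg0 𝒜) V := by
  apply WithBot.coe_injective
  rw [Module.coe_length, Module.coe_length]
  apply Order.krullDim_eq_of_orderIso
  exact
    { toFun := fun p => p.restrictScalars (deg0 𝒜)
      invFun := fun q =>
        { carrier := q
          add_mem' := fun ha hb => q.add_mem ha hb
          zero_mem' := q.zero_mem
          smul_mem' := fun r v hv => by
            have h1 := smul_eq_decompose_zero_smul 𝒜 hpos h0 m hmsp (y := v)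
              (fun a ha => hV a ha v) r
            show r • v ∈ q
            rw [h1]
            exact q.smul_mem (⟨_, (DirectSum.decompose 𝒜 r 0).2⟩ : deg0 𝒜) hv }
      left_inv := fun p => by
        ext v
        rfl
      right_inv := fun q => by
        ext v
        rfl
      map_rel_iff' := by
        intro p p'
        exact Iff.rfl }

end Len0

section VerSocle

variable {R : Type u} [CommRing R] {R' : Type u} [CommRing R']
variable {𝒜 : ℤ → AddSubgroup R} [GradedRing 𝒜] {𝒜' : ℤ → AddSubgroup R'} [GradedRing 𝒜']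
  (D : VerData 𝒜 𝒜')
  (hpos : ∀ n : ℤ, n < 0 → 𝒜 n = ⊥) (h0 : IsField (deg0 𝒜))
  (m : HomogeneousIdeal 𝒜)
  (hmsp : m.toIdeal = Ideal.span (⋃ n ∈ Set.Ioi (0 : ℤ), (𝒜 n : Set R)))
  (m' : HomogeneousIdeal 𝒜')
  (hm'sp : m'.toIdeal = Ideal.span (⋃ j ∈ Set.Ioi (0 : ℤ), (𝒜' j : Set R')))
  (hstd : Ideal.span (⋃ n ∈ Set.Ioi (0 : ℤ), (𝒜 n : Set R)) =
    Ideal.span ((𝒜 1 : AddSubgroup R) : Set R))

include hstd in
/-- in a standard graded ring, an element killed by `R_p` is killed by `R_{p+t}` -/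
theorem smul_eq_zero_of_forall_smul {H : Type u} [AddCommGroup H] [Module R H] (h : H) (p : ℤ)
    (hp : 0 ≤ p) (hkill : ∀ u ∈ 𝒜 p, u • h = 0) (t : ℕ) :
    ∀ r ∈ 𝒜 (p + t), r • h = 0 := by
  induction t with
  | zero =>
    intro r hr
    rw [Nat.cast_zero, add_zero] at hr
    exact hkill r hr
  | succ t ih =>
    intro r hr
    have hr' : r ∈ 𝒜 (p + t + 1) := by
      rwa [show p + ((t + 1 : ℕ) : ℤ) = p + t + 1 by push_cast; ring] at hr
    have h4 := mem_closure_mul_of_mem_succ 𝒜 hstd (by omega : (0 : ℤ) ≤ p + t) hr'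
    refine AddSubgroup.closure_induction (p := fun r _ => r • h = 0) ?_ ?_ ?_ ?_ h4
    · rintro _ ⟨u, hu, l, _, rfl⟩
      rw [mul_comm, mul_smul, ih u hu, smul_zero]
    · exact zero_smul R h
    · intro w₁ w₂ _ _ e1 e2
      rw [add_smul, e1, e2, add_zero]
    · intro w₁ _ e1
      rw [neg_smul, e1, neg_zero]

include hpos h0 hmsp hm'sp hstd in
/-- **the socle of `H^n_{m'}(R^{(q)})` for `R` Gorenstein standard graded** is the piece of degree
`j₀`, `j₀ q = a(R) - ρ`, `0 ≤ ρ < q` -/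
theorem ver_soc_iff [IsNoetherianRing R] (hφ : Function.Injective D.φ) (n : ℕ)
    (I : StarInjRes 𝒜 𝒜) (I' : StarInjRes 𝒜' 𝒜')
    (hS : SimpleSoc m.toIdeal (I.H m n)) (a : ℤ)
    (ha : endDeg (I.Hgr m n) = ((a : WithTop ℤ) : WithBot (WithTop ℤ)))
    (ρ j₀ : ℤ) (hρ0 : 0 ≤ ρ) (hρq : ρ < D.q) (hj₀ : j₀ * D.q = a - ρ) (y' : I'.H m' n) :
    (∀ r' ∈ m'.toIdeal, r' • y' = 0) ↔ y' ∈ I'.Hgr m' n j₀ := by
  classical
  have hNR' : IsNoetherianRing R' := D.isNoetherianRing hφ
  have hpos' := ver_pos' D hφ hpos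
  have h0' := ver_isField_deg0' D hφ h0
  let _ : DirectSum.Decomposition (I.Hgr m n) := hgrDecomposition 𝒜 I m n
  let _ : SetLike.GradedSMul 𝒜 (I.Hgr m n) := hgr_gradedSMul 𝒜 I m n
  let _ : DirectSum.Decomposition (I'.Hgr m' n) := hgrDecomposition 𝒜' I' m' n
  let _ : SetLike.GradedSMul 𝒜' (I'.Hgr m' n) := hgr_gradedSMul 𝒜' I' m' n
  obtain ⟨θ, hθinj, hθmem, hθsurj⟩ := exists_theta D (verIncl D) hφ (fun j => D.hdeg j) I m hmsp
    m' hm'sp hφ I' n
  have hq : (0 : ℤ) < D.q := by exact_mod_cast D.hq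
  have htop : ∀ i : ℤ, a < i → I.Hgr m n i = ⊥ := by
    intro i hi
    by_contra hne
    have h1 := Groth.Agent.Lib.helper19.GrLes.le_endDeg (I.Hgr m n) hne
    rw [ha, WithBot.coe_le_coe, WithTop.coe_le_coe] at h1
    omega
  have htop' : ∀ j : ℤ, j₀ < j → I'.Hgr m' n j = ⊥ := by
    intro j hj
    rw [eq_bot_iff]
    intro y hy
    rw [AddSubgroup.mem_bot]
    apply hθinj
    rw [map_zero]
    have h1 := hθmem j y hy
    have h2 : a < j * D.q := by nlinarith
    rw [htop _ h2, AddSubgroup.mem_bot] at h1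
    exact h1
  constructor
  · intro hy'
    have hcomp : ∀ j : ℤ, ∀ r' ∈ m'.toIdeal,
        r' • ((DirectSum.decompose (I'.Hgr m' n) y' j : I'.Hgr m' n j) : I'.H m' n) = 0 :=
      fun j => smul_decompose_eq_zero 𝒜' m' (I'.Hgr m' n) hy' j
    have hz : ∀ j : ℤ, j ≠ j₀ →
        ((DirectSum.decompose (I'.Hgr m' n) y' j : I'.Hgr m' n j) : I'.H m' n) = 0 := by
      intro j hj
      rcases lt_or_gt_of_ne hj with hlt | hgt
      · by_contra hne
        have hne' : θ ((DirectSum.decompose (I'.Hgr m' n) y' j : I'.Hgr m' n j) : I'.H m' n) ≠ 0 :=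
          fun h => hne (hθinj (h.trans (map_zero θ).symm))
        have hmem := hθmem j _ (SetLike.coe_mem (DirectSum.decompose (I'.Hgr m' n) y' j))
        obtain ⟨r, hr, hrne⟩ := exists_smul_ne_zero_of_simpleSoc 𝒜 hpos h0 m hmsp I n hS a ha
          hmem hne'
        apply hrne
        -- `R_q` kills the image
        have hkill : ∀ u ∈ 𝒜 (D.q : ℤ), u •
            θ ((DirectSum.decompose (I'.Hgr m' n) y' j : I'.Hgr m' n j) : I'.H m' n) = 0 := by
          intro u hu
          have hu' : u ∈ 𝒜 ((1 : ℤ) * D.q) := by rwa [one_mul]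
          rw [← D.hdeg 1] at hu'
          obtain ⟨u', hu'mem, hu'φ⟩ := hu'
          have hu'' : D.φ u' = u := hu'φ
          have hu'm : u' ∈ m'.toIdeal := by
            rw [hm'sp]
            exact Ideal.subset_span (Set.mem_biUnion (Set.mem_Ioi.mpr one_pos) hu'mem)
          rw [← hu'', ← map_smulₛₗ, hcomp j u' hu'm, map_zero]
        have ht : 0 ≤ a - j * D.q - D.q := by nlinarith
        have hr' : r ∈ 𝒜 ((D.q : ℤ) + ((a - j * D.q - D.q).toNat : ℤ)) := by
          rw [Int.toNat_of_nonneg ht]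
          rwa [show (D.q : ℤ) + (a - j * D.q - D.q) = a - j * D.q by ring]
        exact smul_eq_zero_of_forall_smul hstd _ (D.q : ℤ) hq.le hkill _ r hr'
      · have h' : ∀ z ∈ I'.Hgr m' n j, z = 0 := by
          intro z hz
          rwa [htop' j hgt, AddSubgroup.mem_bot] at hz
        exact h' _ (SetLike.coe_mem (DirectSum.decompose (I'.Hgr m' n) y' j))
    have hy0 : y' = ((DirectSum.decompose (I'.Hgr m' n) y' j₀ : I'.Hgr m' n j₀) : I'.H m' n) := by
      conv_lhs => rw [← DirectSum.sum_support_decompose (I'.Hgr m' n) y']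
      apply Finset.sum_eq_single j₀
      · intro j _ hj
        exact hz j hj
      · intro h
        rw [DFinsupp.notMem_support_iff] at h
        rw [h]
        rfl
    rw [hy0]
    exact SetLike.coe_mem _
  · intro hy'
    exact smul_eq_zero_of_mem_top 𝒜' hpos' h0' m' hm'sp (I'.Hgr m' n) htop' hy'

include hmsp hm'sp in
/-- the pieces `H^n_{m'}(R^{(q)})_j` and `H^n_m(R)_{jq}` have the same dimension -/
theorem ver_finrank_Hcomp [IsNoetherianRing R] (hφ : Function.Injective D.φ) (n : ℕ)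
    (I : StarInjRes 𝒜 𝒜) (I' : StarInjRes 𝒜' 𝒜') (j : ℤ) :
    Module.finrank (deg0 𝒜') (I'.Hcomp m' n j) =
      Module.finrank (deg0 𝒜) (I.Hcomp m n (j * D.q)) := by
  classical
  obtain ⟨θ, hθinj, hθmem, hθsurj⟩ := exists_theta D (verIncl D) hφ (fun j => D.hdeg j) I m hmsp
    m' hm'sp hφ I' n
  let f : ↥(I'.Hcomp m' n j) →+ ↥(I.Hcomp m n (j * D.q)) :=
    { toFun := fun y => ⟨θ y.1, hθmem j y.1 y.2⟩
      map_zero' := Subtype.ext (map_zero θ)
      map_add' := fun x y => Subtype.ext (map_add θ x.1 y.1) }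
  have hf : Function.Bijective f := by
    constructor
    · intro x y hxy
      exact Subtype.ext (hθinj (congrArg Subtype.val hxy))
    · intro y
      obtain ⟨x, hx, hxy⟩ := hθsurj j y.1 y.2
      exact ⟨⟨x, hx⟩, Subtype.ext hxy⟩
  have hrank := rank_eq_of_equiv_equiv (deg0Map D) (AddEquiv.ofBijective f hf)
    (deg0Map_bijective D hφ) (fun c y => by
      apply Subtype.ext
      show θ ((c : R') • (y : I'.H m' n)) = D.φ (c : R') • θ (y : I'.H m' n)
      rw [map_smulₛₗ])
  unfold Module.finrank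
  rw [hrank]

end VerSocle

end Groth.Agent.Lib.helper26.GorB
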