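import Mathlib
import Groth.Prelude.Def_GrLC
import Groth.Prelude.Def_GrLC2
import Groth.Prelude.Def_CAlg
import Groth.Agent.Lib.Helper26.GorB4

/-!
# The type of a Veronese subring of a Gorenstein standard graded ring: `r(R^{(q)}) = dim R_ρ`
(helper26)
-/

set_option autoImplicit false
set_option linter.unusedSectionVars false
set_option linter.dupNamespace false
universe u

namespace Groth.Agent.Lib.helper26.GorB

open CategoryTheory GrLC Groth.Agent.Lib.helper26.GorS Groth.Agent.Lib.helper26.Can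
  Groth.Agent.Lib.helper26.Ver Groth.Agent.Lib.helper19.GrMod

section VerType

variable {R : Type u} [CommRing R] {R' : Type u} [CommRing R']
variable {𝒜 : ℤ → AddSubgroup R} [GradedRing 𝒜] {𝒜' : ℤ → AddSubgroup R'} [GradedRing 𝒜']
  (D : VerData 𝒜 𝒜')
  (hpos : ∀ n : ℤ, n < 0 → 𝒜 n = ⊥) (h0 : IsField (deg0 𝒜))
  (m : HomogeneousIdeal 𝒜)
  (hmsp : m.toIdeal = Ideal.span (⋃ n ∈ Set.Ioi (0 : ℤ), (𝒜 n : Set R)))
  (m' : HomogeneousIdeal 𝒜')
  (hm'sp : m'.toIdeal = Ideal.span (⋃ j ∈ Set.Ioi (0 : ℤ), (𝒜' j : Set R')))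
  (hstd : Ideal.span (⋃ n ∈ Set.Ioi (0 : ℤ), (𝒜 n : Set R)) =
    Ideal.span ((𝒜 1 : AddSubgroup R) : Set R))

include hpos h0 hmsp hm'sp hstd in
/-- **the type of the Veronese subring of a Gorenstein standard graded ring** -/
theorem ver_bassNum [LocCoh.IsCohenMacaulayRing R] [m'.toIdeal.IsMaximal]
    (hφ : Function.Injective D.φ) (n : ℕ) (hn : ringKrullDim R = n)
    (I : StarInjRes 𝒜 𝒜) (hS : SimpleSoc m.toIdeal (I.H m n)) (a : ℤ)
    (ha : endDeg (I.Hgr m n) = ((a : WithTop ℤ) : WithBot (WithTop ℤ)))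
    (ρ : ℤ) (hρ0 : 0 ≤ ρ) (hρq : ρ < D.q) (hρa : (D.q : ℤ) ∣ a - ρ) :
    bassNum m'.toIdeal R' n = (Module.finrank (deg0 𝒜) (comp 𝒜 𝒜 ρ) : ℕ∞) := by
  classical
  have hNR' : IsNoetherianRing R' := D.isNoetherianRing hφ
  have hpos' := ver_pos' D hφ hpos
  have h0' := ver_isField_deg0' D hφ h0
  have hCM' : LocCoh.IsCohenMacaulayRing R' := ver_isCohenMacaulayRing D hpos h0 m hmsp hφ n hn
  have hn' : ringKrullDim R' = n := by rw [ver_ringKrullDim D hφ, hn]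
  obtain ⟨I'⟩ := Groth.Agent.S13215.result R' 𝒜' R' 𝒜'
  obtain ⟨j₀, hj₀⟩ := hρa
  have hj₀' : j₀ * (D.q : ℤ) = a - ρ := by rw [hj₀, mul_comm]
  let _ : Field (deg0 𝒜') := h0'.toField
  have h1 := bassNum_eq_length_soc 𝒜' hpos' h0' m' hm'sp n hn' I'
  have h2 := length_eq_length_deg0 𝒜' hpos' h0' m' hm'sp
    ↥(socSub m'.toIdeal (I'.H m' n)) (fun a ha v => Subtype.ext (v.2 a ha))
  have hiff := ver_soc_iff D hpos h0 m hmsp m' hm'sp hstd hφ n I I' hS a ha ρ j₀ hρ0 hρq hj₀'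
  let e : ↥(socSub m'.toIdeal (I'.H m' n)) ≃ₗ[deg0 𝒜'] ↥(I'.Hcomp m' n j₀) :=
    { toFun := fun y => ⟨y.1, (hiff y.1).mp y.2⟩
      invFun := fun y => ⟨y.1, (hiff y.1).mpr y.2⟩
      map_add' := fun _ _ => rfl
      map_smul' := fun _ _ => rfl
      left_inv := fun _ => rfl
      right_inv := fun _ => rfl }
  have h3 : Module.length (deg0 𝒜') ↥(socSub m'.toIdeal (I'.H m' n)) =
      Module.length (deg0 𝒜') ↥(I'.Hcomp m' n j₀) := e.length_eq
  have hfg := (Groth.Agent.Lib.helper19.GrFin.main 𝒜' hpos' m' hm'sp n R' 𝒜' I').1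
  have hfin : Module.Finite (deg0 𝒜') ↥(I'.Hcomp m' n j₀) := Module.Finite.iff_fg.2 (hfg _)
  have h4 := Module.length_eq_finrank (deg0 𝒜') ↥(I'.Hcomp m' n j₀)
  have h5 := ver_finrank_Hcomp D m hmsp m' hm'sp hφ n I I' j₀
  have h6 := finrank_Hcomp_eq 𝒜 hpos h0 m hmsp n hn I hS a ha ρ
  rw [h1, h2, h3, h4, h5, hj₀', h6]

end VerType

end Groth.Agent.Lib.helper26.GorB
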