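import Mathlib
import Groth.Agent.Lib.Helper19.CanLoc1
import Groth.Agent.Lib.Helper19.GrHomDec2

/-!
# The localization at `m` of a `m`-torsion *injective graded module is injective (helper26)

Generalizes helper19's `CanLoc.injective_localized` from `*E(R/m)` to any `m`-torsion *injective module.
-/

set_option autoImplicit false
set_option linter.unusedSectionVars false
universe u

namespace Groth.Agent.Lib.helper26.GorInj

open TensorProduct IsLocalRing GrLC CategoryTheory DirectSum
open Groth.Agent.Lib.helper19.BassFlat Groth.Agent.Lib.helper19.BassFlat3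
open Groth.Agent.Lib.helper19.BassInj Groth.Agent.Lib.helper19.BassZero
open Groth.Agent.Lib.helper19.BassShift Groth.Agent.Lib.helper19.GrTwist
open Groth.Agent.Lib.helper19.CanLoc

section G
variable {ι : Type} [AddCommGroup ι] [DecidableEq ι] [Module.Free ℤ ι] [Module.Finite ℤ ι]
variable {R : Type u} [CommRing R] [IsNoetherianRing R] (𝒜 : ι → AddSubgroup R) [GradedRing 𝒜]
  (m : HomogeneousIdeal 𝒜) [hm : m.toIdeal.IsPrime]
  {X : Type u} [AddCommGroup X] [Module R X] (𝒳 : ι → AddSubgroup X)
  [DirectSum.Decomposition 𝒳] [SetLike.GradedSMul 𝒜 𝒳]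
  (hX : GrLC.IsStarInj 𝒜 𝒳) (htors : GrLC.gam m.toIdeal X = ⊤)

include htors in
/-- an associated prime of a `m`-torsion module contains `m` -/
theorem le_of_mem_associatedPrimes (q : Ideal R) (hqa : q ∈ associatedPrimes R X) :
    m.toIdeal ≤ q := by
  obtain ⟨hq, y, hy⟩ := (isAssociatedPrime_iff).1 hqa
  have hmem : ∀ a : R, a ∈ q ↔ a • y = 0 := by
    intro a
    rw [hy, Submodule.mem_colon_singleton, Submodule.mem_bot]
  have hy' : y ∈ GrLC.gam m.toIdeal X := by rw [htors]; trivial
  obtain ⟨k, hk⟩ := hy'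
  have h1 : m.toIdeal ^ k ≤ q := fun a ha => (hmem a).2 (hk a ha)
  exact hq.le_of_pow_le h1

include hX htors in
/-- positive Bass numbers of a `m`-torsion *injective module at primes inside `m` vanish -/
theorem bassNum_eq_zero_of_le' (p : Ideal R) [p.IsPrime] (hpm : p ≤ m.toIdeal) (j : ℕ)
    (hj : 1 ≤ j) : bassNum p X j = 0 := by
  have hq : (Ideal.homogeneousCore 𝒜 p).toIdeal.IsPrime := homogeneousCore_isPrime 𝒜 p
  have hqp : (Ideal.homogeneousCore 𝒜 p).toIdeal ≤ p := Ideal.toIdeal_homogeneousCore_le 𝒜 p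
  have hprime : (p.map (Ideal.Quotient.mk (Ideal.homogeneousCore 𝒜 p).toIdeal)).IsPrime :=
    Ideal.map_isPrime_of_surjective Ideal.Quotient.mk_surjective (by rwa [Ideal.mk_ker])
  obtain ⟨d, hd⟩ := ENat.ne_top_iff_exists.1 (Ideal.height_ne_top_of_isPrime
    (I := p.map (Ideal.Quotient.mk (Ideal.homogeneousCore 𝒜 p).toIdeal)))
  obtain ⟨h1, h2⟩ := bassNum_eq_bassNum_core_shift 𝒜 𝒳 p d hd.symm
  by_cases hjd : j < d
  · exact h1 j hjd
  · obtain ⟨j', rfl⟩ : ∃ j', j = d + j' := ⟨j - d, by omega⟩
    rw [h2]
    cases j' with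
    | zero =>
      rw [bassNum_zero_eq_zero_iff]
      intro hass
      have hmq := le_of_mem_associatedPrimes 𝒜 m htors _ hass
      have hpq : p = (Ideal.homogeneousCore 𝒜 p).toIdeal :=
        le_antisymm (hpm.trans hmq) hqp
      have hbot : p.map (Ideal.Quotient.mk (Ideal.homogeneousCore 𝒜 p).toIdeal) = ⊥ := by
        rw [eq_bot_iff, Ideal.map_le_iff_le_comap]
        intro x hx
        rw [Ideal.mem_comap, Ideal.mem_bot, Ideal.Quotient.eq_zero_iff_mem, ← hpq]
        exact hx
      rw [hbot, Ideal.height_bot] at hd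
      have : d = 0 := by exact_mod_cast hd
      omega
    | succ j'' =>
      exact bassNum_homogeneous_succ_eq_zero 𝒜 𝒳 hX (Ideal.homogeneousCore 𝒜 p) j''

include hX htors in
/-- the localization of a `m`-torsion *injective module at `m` is an injective `R_m`-module -/
theorem injective_localized' : Module.Injective (Localization.AtPrime m.toIdeal)
    (LocalizedModule m.toIdeal.primeCompl X) := by
  have hall : ∀ (P : Ideal (Localization.AtPrime m.toIdeal)) [P.IsPrime] (j : ℕ), 0 + 1 ≤ j →
      bassNum P (LocalizedModule m.toIdeal.primeCompl X) j = 0 := by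
    intro P hP j hj
    rw [bassNum_localizedModule R m.toIdeal.primeCompl X P j]
    apply bassNum_eq_zero_of_le' 𝒜 m 𝒳 hX htors _ _ j (by omega)
    have h1 : P ≤ maximalIdeal (Localization.AtPrime m.toIdeal) :=
      IsLocalRing.le_maximalIdeal hP.ne_top
    have h2 := Ideal.comap_mono (f := algebraMap R (Localization.AtPrime m.toIdeal)) h1
    have h3 : Ideal.comap (algebraMap R (Localization.AtPrime m.toIdeal))
        (maximalIdeal (Localization.AtPrime m.toIdeal)) = m.toIdeal :=
      Localization.AtPrime.under_maximalIdeal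
    rwa [h3] at h2
  have := hasInjectiveDimensionLT_of_bassNum (Localization.AtPrime m.toIdeal)
    (LocalizedModule m.toIdeal.primeCompl X) 0 hall
  have hinj : Injective (ModuleCat.of (Localization.AtPrime m.toIdeal)
    (LocalizedModule m.toIdeal.primeCompl X)) := inferInstance
  exact (Module.injective_iff_injective_object _ _).2 hinj

end G

end Groth.Agent.Lib.helper26.GorInj
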