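import Mathlib
import Groth.Prelude.Def_CAlg
import Groth.Agent.Lib.Helper26.GorS4

/-!
# From the localization at a *maximal ideal to the whole graded ring, general form (helper26)

`R` a Noetherian `ℤ`-graded ring and `𝔪` a prime ideal such that every element outside `𝔪` has, for
every prime `p`, a homogeneous component outside `p` (e.g. `(R, 𝔪)` *local).  If `R_𝔪` is a Gorenstein
local ring then `R` is a Gorenstein ring.  Same proof as `GorS4`, with the weaker hypothesis.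
-/

set_option autoImplicit false
set_option linter.unusedSectionVars false
set_option linter.dupNamespace false
universe u

namespace Groth.Agent.Lib.helper26.GorS

open Groth.Agent.Lib.helper19.GrTwist LocCoh

open scoped AlgebraMonoidAlgebra

section Theta'

variable {R : Type u} [CommRing R] (𝒜 : ℤ → AddSubgroup R) [GradedRing 𝒜]
  (𝔪 : Ideal R) [h𝔪 : 𝔪.IsPrime]
  (p : Ideal R) [hp : p.IsPrime]
  (hne : ∀ s : R, s ∉ 𝔪 → ∃ g : ℤ, ((DirectSum.decompose 𝒜 s g : 𝒜 g) : R) ∉ p)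

theorem coeff_gZero' (s : R) (g : ℤ) :
    (gZero 𝒜 p s).coeff (-g) = Ideal.Quotient.mk p ((DirectSum.decompose 𝒜 s g : 𝒜 g) : R) := by
  unfold gZero
  rw [RingHom.comp_apply, AddMonoidAlgebra.coeff_mapRingHom]
  have h := coeff_coact 𝒜 (-AddMonoidHom.id ℤ) (neg_injective.comp fun _ _ h => h) s g
  have h2 : (-AddMonoidHom.id ℤ) g = -g := rfl
  rw [h2] at h
  rw [h]

include hne in
theorem gZero_ne_zero' {s : R} (hs : s ∉ 𝔪) : gZero 𝒜 p s ≠ 0 := by
  intro h
  obtain ⟨g, hg⟩ := hne s hs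
  have h1 := coeff_gZero' 𝒜 p s g
  rw [h] at h1
  apply hg
  rw [← Ideal.Quotient.eq_zero_iff_mem, ← h1]
  rfl

/-- `R_𝔪 → Frac((R/p)[ℤ])` -/
noncomputable def thetaL' : Localization.AtPrime 𝔪 →+* FractionRing (AddMonoidAlgebra (R ⧸ p) ℤ) :=
  IsLocalization.lift (M := 𝔪.primeCompl)
    (g := (algebraMap (AddMonoidAlgebra (R ⧸ p) ℤ)
      (FractionRing (AddMonoidAlgebra (R ⧸ p) ℤ))).comp (gZero 𝒜 p))
    (fun s => by
      rw [RingHom.comp_apply]
      apply IsUnit.mk0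
      rw [Ne, map_eq_zero_iff _ (IsFractionRing.injective _ _)]
      exact gZero_ne_zero' 𝒜 𝔪 p hne s.2)

theorem thetaL'_algebraMap (r : R) :
    thetaL' 𝒜 𝔪 p hne (algebraMap R (Localization.AtPrime 𝔪) r) =
      algebraMap (AddMonoidAlgebra (R ⧸ p) ℤ) (FractionRing (AddMonoidAlgebra (R ⧸ p) ℤ))
        (gZero 𝒜 p r) :=
  IsLocalization.lift_eq _ r

/-- `R_𝔪[ℤ] → Frac((R/p)[ℤ])` -/
noncomputable def theta' :
    AddMonoidAlgebra (Localization.AtPrime 𝔪) ℤ →+* FractionRing (AddMonoidAlgebra (R ⧸ p) ℤ) :=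
  AddMonoidAlgebra.liftNCRingHom (thetaL' 𝒜 𝔪 p hne)
    ((algebraMap (AddMonoidAlgebra (R ⧸ p) ℤ)
      (FractionRing (AddMonoidAlgebra (R ⧸ p) ℤ)) : _ →* _).comp
      (AddMonoidAlgebra.of (R ⧸ p) ℤ)) (fun _ _ => Commute.all _ _)

theorem theta'_single (i : ℤ) (l : Localization.AtPrime 𝔪) :
    theta' 𝒜 𝔪 p hne (AddMonoidAlgebra.single i l) = thetaL' 𝒜 𝔪 p hne l *
      algebraMap (AddMonoidAlgebra (R ⧸ p) ℤ) (FractionRing (AddMonoidAlgebra (R ⧸ p) ℤ))
        (AddMonoidAlgebra.single i 1) := by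
  unfold theta'
  rw [AddMonoidAlgebra.liftNCRingHom_single]
  rfl

theorem theta'_bigPhi (r : R) :
    theta' 𝒜 𝔪 p hne (bigPhi 𝒜 (Localization.AtPrime 𝔪) r) =
      algebraMap (AddMonoidAlgebra (R ⧸ p) ℤ) (FractionRing (AddMonoidAlgebra (R ⧸ p) ℤ))
        (AddMonoidAlgebra.single 0 (Ideal.Quotient.mk p r)) := by
  have h : (theta' 𝒜 𝔪 p hne).comp (bigPhi 𝒜 (Localization.AtPrime 𝔪)) =
      (algebraMap (AddMonoidAlgebra (R ⧸ p) ℤ) (FractionRing (AddMonoidAlgebra (R ⧸ p) ℤ))).comp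
        (AddMonoidAlgebra.singleZeroRingHom.comp (Ideal.Quotient.mk p)) := by
    apply ringHom_ext_of_homogeneous 𝒜
    intro i a ha
    rw [RingHom.comp_apply, bigPhi_of_mem 𝒜 _ ha, theta'_single, thetaL'_algebraMap,
      gZero_of_mem 𝒜 p ha, ← map_mul, AddMonoidAlgebra.single_mul_single, mul_one, neg_add_cancel]
    rfl
  exact RingHom.congr_fun h r

theorem comap_ker_theta' :
    (RingHom.ker (theta' 𝒜 𝔪 p hne)).comap (bigPhi 𝒜 (Localization.AtPrime 𝔪)) = p := by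
  ext x
  rw [Ideal.mem_comap, RingHom.mem_ker, theta'_bigPhi,
    map_eq_zero_iff _ (IsFractionRing.injective _ _)]
  constructor
  · intro h
    have h1 := congrArg (fun f => AddMonoidAlgebra.coeff f 0) h
    simp only [AddMonoidAlgebra.coeff_single, Finsupp.single_eq_same] at h1
    exact Ideal.Quotient.eq_zero_iff_mem.mp h1
  · intro h
    rw [Ideal.Quotient.eq_zero_iff_mem.mpr h, AddMonoidAlgebra.single_zero]

end Theta'

section Main'

variable {R : Type u} [CommRing R] [IsNoetherianRing R] (𝒜 : ℤ → AddSubgroup R) [GradedRing 𝒜]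
  (𝔪 : Ideal R) [h𝔪 : 𝔪.IsPrime]
  (hne : ∀ (p : Ideal R) [p.IsPrime] (s : R), s ∉ 𝔪 →
    ∃ g : ℤ, ((DirectSum.decompose 𝒜 s g : 𝒜 g) : R) ∉ p)

/-- a copy of `R_𝔪[t, t⁻¹]`, to be made an `R`-algebra through `Φ` -/
def LaurentAt' (𝔪 : Ideal R) [𝔪.IsPrime] : Type u := AddMonoidAlgebra (Localization.AtPrime 𝔪) ℤ

noncomputable instance : CommRing (LaurentAt' 𝔪) :=
  inferInstanceAs (CommRing (AddMonoidAlgebra (Localization.AtPrime 𝔪) ℤ))

@[reducible] noncomputable def laurentAlgebra' : Algebra R (LaurentAt' 𝔪) :=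
  (bigPhi 𝒜 (Localization.AtPrime 𝔪)).toAlgebra

include hne in
/-- **graded → global**: if `R_𝔪` is Gorenstein then `R` is a Gorenstein ring -/
theorem isGorensteinRing_of_localization'
    (hG : IsGorensteinLocalRing (Localization.AtPrime 𝔪)) : IsGorensteinRing R := by
  have hL : IsGorensteinRing (Localization.AtPrime 𝔪) :=
    { isGorensteinLocalRing_localization := fun P _ =>
        Groth.Agent.Lib.helper19.Gor.gor_localization (Localization.AtPrime 𝔪) P }
  have hS : IsGorensteinRing (LaurentAt' 𝔪) := isGorensteinRing_laurent (Localization.AtPrime 𝔪)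
  refine { isGorensteinLocalRing_localization := fun p hp => ?_ }
  let _ : Algebra R (LaurentAt' 𝔪) := laurentAlgebra' 𝒜 𝔪
  have hflat : Module.Flat R (LaurentAt' 𝔪) := bigPhi_flat 𝒜 (Localization.AtPrime 𝔪)
  let Q : Ideal (LaurentAt' 𝔪) := RingHom.ker (theta' 𝒜 𝔪 p (fun s hs => hne p s hs))
  have hQ : Q.IsPrime := RingHom.ker_isPrime _
  have hlies : Q.LiesOver p := ⟨(comap_ker_theta' 𝒜 𝔪 p (fun s hs => hne p s hs)).symm⟩
  have h1 := hS.isGorensteinLocalRing_localization Q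
  exact ((Groth.Agent.Lib.helper17.GorRing.gor_atPrime_iff R (LaurentAt' 𝔪) p Q).mp h1).1

end Main'

end Groth.Agent.Lib.helper26.GorS
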