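import Mathlib
import Groth.Agent.Lib.Helper26.GorInj1
import Groth.Agent.Lib.Helper26.GorS4b
import Groth.Agent.Lib.Helper19.GorTop1
import Groth.Agent.Lib.Helper19.GrShift
import Groth.Agent.Lib.Helper19.MinRes1
import Groth.Agent.Lib.Helper19.HullTools
import Groth.Agent.Lib.Helper2.DepthLC
import Groth.Agent.S13244
import Groth.Agent.S13224
import Groth.Agent.S11617
import Groth.Agent.S11175
import Groth.Agent.S0325

/-!
# A Cohen–Macaulay *local `ℤ`-graded ring is Gorenstein iff `H^n_m(R)` is *injective (helper26)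
-/

set_option autoImplicit false
set_option linter.unusedSectionVars false
universe u

namespace Groth.Agent.Lib.helper26.GorInj

open TensorProduct IsLocalRing GrLC CategoryTheory DirectSum
open Groth.Agent.Lib.helper19.GrMod

section Loc

variable {ι : Type} [AddCommGroup ι] [DecidableEq ι] [Module.Free ℤ ι] [Module.Finite ℤ ι]
variable {R : Type u} [CommRing R] [IsNoetherianRing R] (𝒜 : ι → AddSubgroup R) [GradedRing 𝒜]
  (m : HomogeneousIdeal 𝒜) [hmp : m.toIdeal.IsPrime]

/-- the localization at `m` of (a module isomorphic to) the graded local cohomology `H^i_m(R)` is the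
local cohomology of the local ring `R_m` -/
theorem nonempty_localized_equiv (I : StarInjRes 𝒜 𝒜) (i : ℕ) {Y : Type u} [AddCommGroup Y]
    [Module R Y] (φ : I.H m i ≃ₗ[R] Y) :
    Nonempty (LocalizedModule m.toIdeal.primeCompl Y ≃ₗ[Localization.AtPrime m.toIdeal]
      LocCoh.H (maximalIdeal (Localization.AtPrime m.toIdeal)) i
        (Localization.AtPrime m.toIdeal)) := by
  let e3 : Localization.AtPrime m.toIdeal ⊗[R] Y ≃ₗ[Localization.AtPrime m.toIdeal]
      LocalizedModule m.toIdeal.primeCompl Y :=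
    (IsLocalizedModule.isBaseChange m.toIdeal.primeCompl (Localization.AtPrime m.toIdeal)
      (LocalizedModule.mkLinearMap m.toIdeal.primeCompl Y)).equiv
  obtain ⟨ψ⟩ := Groth.Agent.S13224.result R 𝒜 m R 𝒜 I i
  let e4 : Localization.AtPrime m.toIdeal ⊗[R] Y ≃ₗ[Localization.AtPrime m.toIdeal]
      Localization.AtPrime m.toIdeal ⊗[R] LocCoh.H m.toIdeal i R :=
    TensorProduct.AlgebraTensorModule.congr
      (LinearEquiv.refl (Localization.AtPrime m.toIdeal) (Localization.AtPrime m.toIdeal))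
      (φ.symm.trans ψ)
  obtain ⟨e5⟩ := Groth.Agent.S11617.result R (Localization.AtPrime m.toIdeal) m.toIdeal R i
  have e6 : LocCoh.H (m.toIdeal.map (algebraMap R (Localization.AtPrime m.toIdeal))) i
      (Localization.AtPrime m.toIdeal ⊗[R] R) ≃ₗ[Localization.AtPrime m.toIdeal]
      LocCoh.H (maximalIdeal (Localization.AtPrime m.toIdeal)) i
        (Localization.AtPrime m.toIdeal) := by
    rw [Localization.AtPrime.map_eq_maximalIdeal]
    exact ((localCohomology (maximalIdeal (Localization.AtPrime m.toIdeal)) i).mapIso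
      (TensorProduct.AlgebraTensorModule.rid R (Localization.AtPrime m.toIdeal)
        (Localization.AtPrime m.toIdeal)).toModuleIso).toLinearEquiv
  exact ⟨e3.symm.trans (e4.trans (e5.trans e6))⟩

omit [Module.Free ℤ ι] [Module.Finite ℤ ι] [IsNoetherianRing R] hmp in
/-- the graded local cohomology is `m`-torsion -/
theorem gam_eq_top_of_equiv (I : StarInjRes 𝒜 𝒜) (i : ℕ) {Y : Type u} [AddCommGroup Y]
    [Module R Y] (φ : I.H m i ≃ₗ[R] Y) : GrLC.gam m.toIdeal Y = ⊤ := by
  rw [eq_top_iff]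
  intro y _
  obtain ⟨h, rfl⟩ := φ.surjective y
  obtain ⟨z, rfl⟩ := Submodule.mkQ_surjective _ h
  obtain ⟨k, hk⟩ := z.2.1
  refine ⟨k, fun r hr => ?_⟩
  rw [← map_smul, ← map_smul]
  have : r • z = 0 := Subtype.ext (hk r hr)
  rw [this, map_zero, map_zero]

end Loc

section CMLocal

variable (A : Type u) [CommRing A] [LocCoh.IsCohenMacaulayLocalRing A]

/-- the local cohomology of a Cohen–Macaulay local ring is concentrated in degree `dim A` -/
theorem subsingleton_H_of_ne (n : ℕ) (hn : ringKrullDim A = n) (i : ℕ) (hi : i ≠ n) :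
    Subsingleton (LocCoh.H (maximalIdeal A) i A) := by
  rcases lt_or_gt_of_ne hi with h | h
  · have hdepth : (n : ℕ∞) ≤ LocCoh.idealDepth (maximalIdeal A) A := by
      have h1 := LocCoh.IsCohenMacaulayLocalRing.supportDim_eq_depth (R := A)
      rw [Module.supportDim_self_eq_ringKrullDim, hn] at h1
      have h2 : (n : ℕ∞) = LocCoh.depth A A := by exact_mod_cast h1
      rw [h2]
      rfl
    exact (Groth.Agent.Lib.helper2.DepthLC.vanish_iff_le_idealDepth (maximalIdeal A) A n).2
      hdepth i h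
  · exact Groth.Agent.S0325.result A (maximalIdeal A) n hn.le A i h

end CMLocal

section Main

variable {R : Type u} [CommRing R] [LocCoh.IsCohenMacaulayRing R] (𝒜 : ℤ → AddSubgroup R)
  [GradedRing 𝒜] (m : HomogeneousIdeal 𝒜) (hm : GrLC.IsStarLocal 𝒜 m) (n : ℕ)
  (hn : m.toIdeal.height = n) (I : GrLC.StarInjRes 𝒜 𝒜)

include hm in
/-- every element outside `m` has a homogeneous component outside any given prime -/
theorem exists_decompose_notMem (p : Ideal R) [hp : p.IsPrime] (s : R) (hs : s ∉ m.toIdeal) :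
    ∃ g : ℤ, ((DirectSum.decompose 𝒜 s g : 𝒜 g) : R) ∉ p := by
  classical
  by_contra hcon
  push Not at hcon
  apply hs
  have hcore : (Ideal.homogeneousCore 𝒜 p).toIdeal ≤ m.toIdeal := by
    apply Groth.Agent.Lib.helper19.GrHomDec.le_of_isHomogeneous_ne_top 𝒜 m hm _
      (Ideal.homogeneousCore 𝒜 p).isHomogeneous
    intro h
    apply hp.ne_top
    rw [eq_top_iff, ← h]
    exact Ideal.toIdeal_homogeneousCore_le 𝒜 p
  rw [← DirectSum.sum_support_decompose 𝒜 s]
  apply Ideal.sum_mem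
  intro g _
  apply hcore
  exact Ideal.mem_homogeneousCore_of_homogeneous_of_mem ⟨g, (DirectSum.decompose 𝒜 s g).2⟩ (hcon g)

include hm hn in
/-- if `H^n_m(R)` is (isomorphic to) a *injective graded module then `R` is Gorenstein -/
theorem gor_of_starInj (X : GrLC.GMod.{u} 𝒜) (φ : I.H m n ≃ₗ[R] X.carrier)
    (hX : GrLC.IsStarInj 𝒜 X.gr) : LocCoh.IsGorensteinRing R := by
  have hN : IsNoetherianRing R := inferInstance
  have hmp : m.toIdeal.IsPrime := Groth.Agent.Lib.helper19.GorTop.isPrime_of_isStarLocal 𝒜 m hm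
  have hCM : LocCoh.IsCohenMacaulayLocalRing (Localization.AtPrime m.toIdeal) :=
    LocCoh.IsCohenMacaulayRing.isCohenMacaulayLocalRing_localization m.toIdeal
  have hnA : ringKrullDim (Localization.AtPrime m.toIdeal) = n := by
    rw [IsLocalization.AtPrime.ringKrullDim_eq_height m.toIdeal (Localization.AtPrime m.toIdeal),
      hn]
    rfl
  have htors := gam_eq_top_of_equiv 𝒜 m I n φ
  have hinjX := injective_localized' 𝒜 m X.gr hX htors
  obtain ⟨τ⟩ := nonempty_localized_equiv 𝒜 m I n φ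
  have hinjH := Groth.Agent.Lib.helper19.HullTools.injective_of_linearEquiv τ hinjX
  have hG : LocCoh.IsGorensteinLocalRing (Localization.AtPrime m.toIdeal) :=
    (Groth.Agent.S11175.result (Localization.AtPrime m.toIdeal)).2
      ⟨n, fun i hi => subsingleton_H_of_ne (Localization.AtPrime m.toIdeal) n hnA i hi, hinjH⟩
  exact Groth.Agent.Lib.helper26.GorS.isGorensteinRing_of_localization' 𝒜 m.toIdeal
    (fun p _ s hs => exists_decompose_notMem 𝒜 m hm p s hs) hG

end Main

section Main2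

variable {R : Type u} [CommRing R] [LocCoh.IsGorensteinRing R] (𝒜 : ℤ → AddSubgroup R)
  [GradedRing 𝒜] (m : HomogeneousIdeal 𝒜) (hm : GrLC.IsStarLocal 𝒜 m) (n : ℕ)
  (hn : m.toIdeal.height = n) (I : GrLC.StarInjRes 𝒜 𝒜)

include hm hn in
/-- if `R` is Gorenstein then `H^n_m(R)` is *injective -/
theorem starInj_of_gor : ∃ (X : GrLC.GMod.{u} 𝒜) (φ : I.H m n ≃ₗ[R] X.carrier),
    GrLC.IsStarInj 𝒜 X.gr ∧ GrLC.IsGrHom (I.Hgr m n) X.gr φ.toLinearMap := by
  classical
  have hN : IsNoetherianRing R := inferInstance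
  let _ : DirectSum.Decomposition (GrLC.quotGr 𝒜 m) :=
    quotDecomposition 𝒜 m.toIdeal m.isHomogeneous
  have : SetLike.GradedSMul 𝒜 (GrLC.quotGr 𝒜 m) := quot_gradedSMul 𝒜 𝒜 m.toIdeal
  let C : GrLC.GMod.{u} 𝒜 := GrLC.GMod.of 𝒜 (R ⧸ m.toIdeal) (GrLC.quotGr 𝒜 m)
  obtain ⟨⟨J, η, hull⟩⟩ := Groth.Agent.Lib.helper19.MinRes.exists_memb 𝒜 C
  obtain ⟨g, φ, hφ⟩ := Groth.Agent.S13244.result R 𝒜 m hm n hn I J.carrier J.gr η hull
  have hS : GrLC.IsStarInj 𝒜 (Groth.Agent.Lib.helper19.GrShift.shiftGMod 𝒜 J g).gr := by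
    let _ : DirectSum.Decomposition (Groth.Agent.Lib.helper19.GrShift.shiftPiece J.gr g) :=
      Groth.Agent.Lib.helper19.GrShift.shiftDecomposition J.gr g
    have : SetLike.GradedSMul 𝒜 (Groth.Agent.Lib.helper19.GrShift.shiftPiece J.gr g) :=
      Groth.Agent.Lib.helper19.GrShift.shift_gradedSMul 𝒜 J.gr g
    exact Groth.Agent.Lib.helper19.GrShift.starInj_shift 𝒜 J.gr hull.starInj g
  refine ⟨Groth.Agent.Lib.helper19.GrShift.shiftGMod 𝒜 J g, φ, hS, ?_⟩
  intro d x hx
  exact hφ d x hx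

end Main2

end Groth.Agent.Lib.helper26.GorInj
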