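import Mathlib
import Groth.Prelude.Def_GrLC
import Groth.Agent.S18656

/-!
# No gaps in the top local cohomology of a standard graded ring (helper26)

`H^r_m(R)_g = 0 ⇒ H^r_m(R)_{g+1} = 0` for `R` standard graded of dimension `r ≥ 1`
(extracted from the proof of `S18656`, without the `IsStarLocal` hypothesis).
-/

set_option autoImplicit false
set_option linter.unusedSectionVars false
set_option linter.dupNamespace false
universe u

namespace Groth.Agent.Lib.helper26.GorSeg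

open GrLC

theorem Hgr_succ_eq_bot {R : Type u} [CommRing R] [IsNoetherianRing R] (𝒜 : ℤ → AddSubgroup R)
    [GradedRing 𝒜] (m : HomogeneousIdeal 𝒜)
    (hmsp : m.toIdeal = Ideal.span (⋃ n ∈ Set.Ioi (0 : ℤ), (𝒜 n : Set R)))
    (hstd : Ideal.span (⋃ n ∈ Set.Ioi (0 : ℤ), (𝒜 n : Set R)) =
      Ideal.span ((𝒜 1 : AddSubgroup R) : Set R))
    (r : ℕ) (hr : ringKrullDim R = r) (h1 : 1 ≤ r) (I : StarInjRes 𝒜 𝒜) (g : ℤ)
    (hg : I.Hgr m r g = ⊥) : I.Hgr m r (g + 1) = ⊥ := by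
  classical
  -- generators of m in degree one
  have hfg : (Ideal.span ((𝒜 1 : AddSubgroup R) : Set R)).FG := IsNoetherian.noetherian _
  obtain ⟨s', hs'sub, hs'eq⟩ := (Submodule.fg_span_iff_fg_span_finset_subset _).1 hfg
  have hxs1 : ∀ x ∈ s'.toList, x ∈ 𝒜 1 := fun x hx => hs'sub (Finset.mem_toList.1 hx)
  have hxsm : Ideal.ofList s'.toList = m.toIdeal := by
    rw [hmsp, hstd]
    show Ideal.span {r | r ∈ s'.toList} = Ideal.span ((𝒜 1 : AddSubgroup R) : Set R)
    have h1 : {r | r ∈ s'.toList} = (s' : Set R) := by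
      ext r
      simp [Finset.mem_toList]
    rw [h1]
    exact hs'eq.symm
  have hps1 : (s'.toList.map (fun x => (x, (1 : ℤ)))).map Prod.fst = s'.toList := by
    rw [List.map_map]
    exact List.map_id _
  -- the residue module
  have hK : (m.toIdeal : Submodule R R).IsHomogeneous 𝒜 := m.isHomogeneous
  let _ : DirectSum.Decomposition
      (Groth.Agent.Lib.helper19.GrMod.quotPiece 𝒜 (m.toIdeal : Submodule R R)) :=
    Groth.Agent.Lib.helper19.GrMod.quotDecomposition 𝒜 _ hK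
  let _ : SetLike.GradedSMul 𝒜
      (Groth.Agent.Lib.helper19.GrMod.quotPiece 𝒜 (m.toIdeal : Submodule R R)) :=
    Groth.Agent.Lib.helper19.GrMod.quot_gradedSMul 𝒜 𝒜 _
  obtain ⟨F⟩ := Groth.Agent.S13215.result R 𝒜 (R ⧸ (m.toIdeal : Submodule R R))
    (Groth.Agent.Lib.helper19.GrMod.quotPiece 𝒜 (m.toIdeal : Submodule R R))
  have hF : Subsingleton (F.H m r) := by
    obtain ⟨e⟩ := Groth.Agent.S13224.result R 𝒜 m _ _ F r
    have : Subsingleton (LocCoh.H m.toIdeal r (R ⧸ (m.toIdeal : Submodule R R))) := by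
      refine Groth.Agent.Lib.helper19.LCZero.H_subsingleton_of_torsion m.toIdeal
        (R ⧸ (m.toIdeal : Submodule R R)) (fun q => ⟨1, fun b hb => ?_⟩) r (by omega)
      obtain ⟨y, rfl⟩ := Submodule.mkQ_surjective _ q
      rw [← map_smul, Submodule.mkQ_apply, Submodule.Quotient.mk_eq_zero]
      rw [pow_one] at hb
      exact Ideal.mul_mem_right _ _ hb
    exact e.toEquiv.subsingleton
  have hvan : ∀ (K : Type u) [AddCommGroup K] [Module R K],
      Subsingleton (LocCoh.H m.toIdeal (r + 1) K) := by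
    intro K _ _
    apply Groth.Agent.Lib.helper19.LCGroth.vanish
    calc Module.supportDim R K ≤ ringKrullDim R := Module.supportDim_le_ringKrullDim R K
      _ = (r : WithBot ℕ∞) := hr
      _ < ((r + 1 : ℕ) : WithBot ℕ∞) := by exact_mod_cast Nat.lt_succ_self r
  have hgen := Groth.Agent.Lib.helper19.GrCok.mem_ofList_smul_top m r hvan
    (s'.toList.map (fun x => (x, (1 : ℤ)))) R 𝒜 I (R ⧸ (m.toIdeal : Submodule R R))
    (Groth.Agent.Lib.helper19.GrMod.quotPiece 𝒜 (m.toIdeal : Submodule R R)) F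
    (m.toIdeal : Submodule R R).mkQ (Groth.Agent.Lib.helper19.GrMod.mkQ_isGrHom 𝒜 _)
    (Submodule.mkQ_surjective _)
    (by rw [Submodule.ker_mkQ, hps1, hxsm, smul_eq_mul, Ideal.mul_top])
    (by
      intro p hp
      obtain ⟨x, hx, rfl⟩ := List.mem_map.1 hp
      exact hxs1 x hx) hF
  rw [hps1] at hgen
  have hint := Groth.Agent.S13225.result R 𝒜 m R 𝒜 I r
  let _ : DirectSum.Decomposition (I.Hgr m r) := hint.chooseDecomposition
  let _ : SetLike.GradedSMul 𝒜 (I.Hgr m r) :=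
    ⟨fun _ _ _ _ hx hy => Groth.Agent.Lib.helper19.GrLes.smul_mem_Hgr I m r hx hy⟩
  exact Groth.Agent.S18656.piece_succ_eq_bot 𝒜 (I.Hgr m r) s'.toList 1 hxs1 hgen g hg

/-- no gaps below a nonzero piece -/
theorem Hgr_ne_bot_of_le {R : Type u} [CommRing R] [IsNoetherianRing R] (𝒜 : ℤ → AddSubgroup R)
    [GradedRing 𝒜] (m : HomogeneousIdeal 𝒜)
    (hmsp : m.toIdeal = Ideal.span (⋃ n ∈ Set.Ioi (0 : ℤ), (𝒜 n : Set R)))
    (hstd : Ideal.span (⋃ n ∈ Set.Ioi (0 : ℤ), (𝒜 n : Set R)) =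
      Ideal.span ((𝒜 1 : AddSubgroup R) : Set R))
    (r : ℕ) (hr : ringKrullDim R = r) (h1 : 1 ≤ r) (I : StarInjRes 𝒜 𝒜) (c : ℤ)
    (hc : I.Hgr m r c ≠ ⊥) (j : ℤ) (hj : j ≤ c) : I.Hgr m r j ≠ ⊥ := by
  intro hbot
  have hiter : ∀ i : ℕ, I.Hgr m r (j + i) = ⊥ := by
    intro i
    induction i with
    | zero => simpa using hbot
    | succ i ih =>
      have h2 := Hgr_succ_eq_bot 𝒜 m hmsp hstd r hr h1 I _ ih
      rw [add_assoc] at h2
      exact_mod_cast h2
  have h2 := hiter (c - j).toNat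
  have h3 : j + ((c - j).toNat : ℤ) = c := by omega
  rw [h3] at h2
  exact hc h2

end Groth.Agent.Lib.helper26.GorSeg
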