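import Mathlib
import Groth.Prelude.Def_GrLC
import Groth.Agent.S13215
import Groth.Agent.S13224
import Groth.Agent.S11625
import Groth.Agent.Lib.Helper19.GrLes8

/-!
# Multiplication by a homogeneous regular element is surjective on the top local cohomology
(helper26)
-/

set_option autoImplicit false
set_option linter.unusedSectionVars false
set_option linter.dupNamespace false
universe u
open scoped Pointwise

namespace Groth.Agent.Lib.helper26.GorSeg

open GrLC Groth.Agent.Lib.helper19.GrMod Groth.Agent.Lib.helper19.GrLes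

section Surj

variable {R : Type u} [CommRing R] [IsNoetherianRing R] (𝒜 : ℤ → AddSubgroup R) [GradedRing 𝒜]

/-- multiplication by a homogeneous regular element of degree `e` maps `H^n_a(R)_{g-e}` onto
`H^n_a(R)_g` for `n = dim R` -/
theorem smul_surjective_top (a : HomogeneousIdeal 𝒜) (E : StarInjRes 𝒜 𝒜) (n : ℕ)
    (hn : ringKrullDim R = n) (x : R) (e : ℤ) (hx : x ∈ 𝒜 e) (hreg : IsSMulRegular R x)
    (g : ℤ) (w : E.H a n) (hw : w ∈ E.Hgr a n g) : ∃ h ∈ E.Hgr a n (g - e), x • h = w := by
  classical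
  let K : Submodule R R := x • (⊤ : Submodule R R)
  have hK : K.IsHomogeneous 𝒜 := smul_top_isHomogeneous (ℳ := 𝒜) hx
  let _ : DirectSum.Decomposition (quotPiece 𝒜 K) := quotDecomposition 𝒜 K hK
  let _ : SetLike.GradedSMul 𝒜 (quotPiece 𝒜 K) := quot_gradedSMul 𝒜 𝒜 K
  obtain ⟨F⟩ := Groth.Agent.S13215.result R 𝒜 (R ⧸ K) (quotPiece 𝒜 K)
  have hker : LinearMap.ker K.mkQ = LinearMap.range (x • (LinearMap.id : R →ₗ[R] R)) := by
    rw [Submodule.ker_mkQ]
    exact smul_top_eq_range x
  obtain ⟨ψ, δ, -, -, -, hP1, -, -, -, -, -⟩ := les_regular E F x e hx hreg K.mkQ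
    (mkQ_isGrHom 𝒜 K) (Submodule.mkQ_surjective K) hker a
  have hKI : (K : Ideal R) = Ideal.span {x} := by
    ext y
    rw [Ideal.mem_span_singleton']
    constructor
    · intro hy
      obtain ⟨m, -, rfl⟩ := (Submodule.mem_smul_pointwise_iff_exists _ _ _).1 hy
      exact ⟨m, by rw [smul_eq_mul, mul_comm]⟩
    · rintro ⟨m, rfl⟩
      rw [mul_comm]
      exact Submodule.smul_mem_pointwise_smul _ _ _ Submodule.mem_top
  have hdim : Module.supportDim R (R ⧸ K) < (n : WithBot ℕ∞) := by
    have h1 : Module.supportDim R (R ⧸ K) = ringKrullDim (R ⧸ (K : Ideal R)) :=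
      Module.supportDim_quotient_eq_ringKrullDim (K : Ideal R)
    have h2 : ringKrullDim (R ⧸ (K : Ideal R)) = ringKrullDim (R ⧸ Ideal.span {x}) :=
      ringKrullDim_eq_of_ringEquiv (Ideal.quotEquivOfEq hKI)
    have hx0 : x ∈ nonZeroDivisors R := by
      rw [mem_nonZeroDivisors_iff_right]
      intro y hy
      apply hreg
      show x * y = x * 0
      rw [mul_zero, mul_comm]
      exact hy
    have h3 : ringKrullDim (R ⧸ Ideal.span {x}) + 1 ≤ ringKrullDim R :=
      ringKrullDim_quotient_succ_le_of_nonZeroDivisor hx0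
    rw [h1, h2]
    rw [hn] at h3
    generalize ringKrullDim (R ⧸ Ideal.span {x}) = d at h3
    induction d with
    | bot => exact WithBot.bot_lt_coe _
    | coe q =>
      have h3' : q + 1 ≤ (n : ℕ∞) := by exact_mod_cast h3
      induction q with
      | top => simp at h3'
      | coe q =>
        have h4 : q + 1 ≤ n := by exact_mod_cast h3'
        have h5 : q < n := by omega
        exact_mod_cast h5
  have hF : Subsingleton (F.H a n) := by
    obtain ⟨eq⟩ := Groth.Agent.S13224.result R 𝒜 a (R ⧸ K) (quotPiece 𝒜 K) F n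
    have : Subsingleton (LocCoh.H a.toIdeal n (R ⧸ K)) :=
      Groth.Agent.S11625.result R a.toIdeal (R ⧸ K) n hdim
    exact eq.toEquiv.subsingleton
  exact hP1 n g w hw (Subsingleton.elim _ _)

end Surj

end Groth.Agent.Lib.helper26.GorSeg
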