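import Mathlib
import Groth.Prelude.Def_GrLC
import Groth.Agent.Lib.Helper26.GorSeg6
import Groth.Agent.Lib.Helper26.GorS9
import Groth.Agent.Lib.Helper26.GorS11

/-!
# A perfect pairing into a one-dimensional piece forces the top degree (helper26)

`R` a Cohen–Macaulay graded ring over a field `k = R_0` of dimension `n ≥ 2`, `H = H^n_m(R)`.
If `H_c` is one-dimensional and the pairings `R_{c-j} × H_j → H_c` are nondegenerate on both sides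
for all `j ≤ c`, then `H_j = 0` for `j > c` (so `c = a(R)`), and `R` is Gorenstein.
-/

set_option autoImplicit false
set_option linter.unusedSectionVars false
set_option linter.dupNamespace false
universe u
open scoped Pointwise

namespace Groth.Agent.Lib.helper26.GorSeg

open GrLC Groth.Agent.Lib.helper19.GrMod Groth.Agent.Lib.helper19.GrLes
  Groth.Agent.Lib.helper26.GorS RingTheory.Sequence

section Core

variable {R : Type u} [CommRing R] (𝒜 : ℤ → AddSubgroup R) [GradedRing 𝒜]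
  (hpos : ∀ n : ℤ, n < 0 → 𝒜 n = ⊥) (h0 : IsField (deg0 𝒜))
  (m : HomogeneousIdeal 𝒜)
  (hmsp : m.toIdeal = Ideal.span (⋃ n ∈ Set.Ioi (0 : ℤ), (𝒜 n : Set R)))

include hpos h0 hmsp in
/-- every linear map `H_j → H_c` is multiplication by an element of `R_{c-j}` -/
theorem exists_rep [IsNoetherianRing R] (n : ℕ) (I : StarInjRes 𝒜 𝒜) (c : ℤ)
    (hT : Module.finrank (deg0 𝒜) (I.Hcomp m n c) = 1)
    (hP2 : ∀ j : ℤ, j ≤ c → ∀ x ∈ I.Hgr m n j, x ≠ 0 → ∃ ρ ∈ 𝒜 (c - j), ρ • x ≠ 0)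
    (hP3 : ∀ j : ℤ, j ≤ c → ∀ ρ ∈ 𝒜 (c - j), ρ ≠ 0 → ∃ x ∈ I.Hgr m n j, ρ • x ≠ 0)
    (j : ℤ) (hj : j ≤ c)
    (L : ↥(I.Hcomp m n j) →ₗ[deg0 𝒜] ↥(I.Hcomp m n c)) :
    ∃ f ∈ 𝒜 (c - j), ∀ (h : I.H m n) (hh : h ∈ I.Hgr m n j),
      f • h = ((L ⟨h, hh⟩ : ↥(I.Hcomp m n c)) : I.H m n) := by
  classical
  let _ : Field (deg0 𝒜) := h0.toField
  let _ : SetLike.GradedSMul 𝒜 (I.Hgr m n) := hgr_gradedSMul 𝒜 I m n
  have hfinV : Module.Finite (deg0 𝒜) (comp 𝒜 𝒜 (c - j)) :=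
    Groth.Agent.Lib.helper19.GrFin.finite_comp 𝒜 hpos 𝒜 (c - j)
  have hfg := (Groth.Agent.Lib.helper19.GrFin.main 𝒜 hpos m hmsp n R 𝒜 I).1
  have hfinW : Module.Finite (deg0 𝒜) ↥(comp 𝒜 (I.Hgr m n) j) :=
    Module.Finite.iff_fg.2 (hfg j)
  have hfinT : Module.Finite (deg0 𝒜) ↥(comp 𝒜 (I.Hgr m n) c) :=
    Module.Finite.iff_fg.2 (hfg c)
  have e1 : (c - j) + j = c := by ring
  have hB1 : Function.Injective (mulLeft 𝒜 (I.Hgr m n) (c - j) j c e1) := by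
    rw [injective_iff_map_eq_zero]
    intro r hr
    by_contra hne
    have hne' : (r : R) ≠ 0 := fun h => hne (Subtype.ext h)
    obtain ⟨h, hh, hrh⟩ := hP3 j hj (r : R) r.2 hne'
    have h2 := congrArg (fun f : ↥(comp 𝒜 (I.Hgr m n) j) →ₗ[deg0 𝒜]
      ↥(comp 𝒜 (I.Hgr m n) c) => ((f ⟨h, hh⟩ : ↥(comp 𝒜 (I.Hgr m n) c)) : I.H m n)) hr
    exact hrh h2
  have hB2 : Function.Injective (mulRight 𝒜 (I.Hgr m n) (c - j) j c e1) := by
    rw [injective_iff_map_eq_zero]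
    intro h hh
    by_contra hne
    have hne' : (h : I.H m n) ≠ 0 := fun h' => hne (Subtype.ext h')
    obtain ⟨r, hr, hrh⟩ := hP2 j hj (h : I.H m n) h.2 hne'
    have h2 := congrArg (fun f : ↥(comp 𝒜 𝒜 (c - j)) →ₗ[deg0 𝒜]
      ↥(comp 𝒜 (I.Hgr m n) c) => ((f ⟨r, hr⟩ : ↥(comp 𝒜 (I.Hgr m n) c)) : I.H m n)) hh
    exact hrh h2
  have hTeq : Module.finrank (deg0 𝒜) ↥(comp 𝒜 (I.Hgr m n) c) = 1 := hT
  have h1 := LinearMap.finrank_le_finrank_of_injective hB1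
  have h2 := LinearMap.finrank_le_finrank_of_injective hB2
  rw [Module.finrank_linearMap, hTeq, mul_one] at h1 h2
  have heq : Module.finrank (deg0 𝒜) ↥(comp 𝒜 𝒜 (c - j)) =
      Module.finrank (deg0 𝒜) (↥(comp 𝒜 (I.Hgr m n) j) →ₗ[deg0 𝒜] ↥(comp 𝒜 (I.Hgr m n) c)) := by
    rw [Module.finrank_linearMap, hTeq, mul_one]
    omega
  have hsurj : Function.Surjective (mulLeft 𝒜 (I.Hgr m n) (c - j) j c e1) := by
    have hr : LinearMap.range (mulLeft 𝒜 (I.Hgr m n) (c - j) j c e1) = ⊤ := by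
      have hfinHom : FiniteDimensional (deg0 𝒜)
          (↥(comp 𝒜 (I.Hgr m n) j) →ₗ[deg0 𝒜] ↥(comp 𝒜 (I.Hgr m n) c)) := inferInstance
      refine @Submodule.eq_top_of_finrank_eq ↥(deg0 𝒜)
        (↥(comp 𝒜 (I.Hgr m n) j) →ₗ[deg0 𝒜] ↥(comp 𝒜 (I.Hgr m n) c)) inferInstance _ _ hfinHom _ ?_
      rw [LinearMap.finrank_range_of_inj hB1]
      exact heq
    exact LinearMap.range_eq_top.1 hr
  obtain ⟨f, hf⟩ := hsurj L
  refine ⟨(f : R), f.2, fun h hh => ?_⟩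
  have h3 := congrArg (fun g : ↥(comp 𝒜 (I.Hgr m n) j) →ₗ[deg0 𝒜]
      ↥(comp 𝒜 (I.Hgr m n) c) => ((g ⟨h, hh⟩ : ↥(comp 𝒜 (I.Hgr m n) c)) : I.H m n)) hf
  exact h3

include hpos h0 hmsp in
/-- **a perfect pairing into a one-dimensional piece `H_c` forces `H_j = 0` for `j > c`** -/
theorem Hgr_eq_bot_of_perfect [IsNoetherianRing R] [LocCoh.IsCohenMacaulayRing R] (n : ℕ)
    (hn : ringKrullDim R = ((n + 2 : ℕ) : WithBot ℕ∞)) (I : StarInjRes 𝒜 𝒜) (c : ℤ)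
    (hT : Module.finrank (deg0 𝒜) (I.Hcomp m (n + 2) c) = 1)
    (hP2 : ∀ j : ℤ, j ≤ c → ∀ x ∈ I.Hgr m (n + 2) j, x ≠ 0 → ∃ ρ ∈ 𝒜 (c - j), ρ • x ≠ 0)
    (hP3 : ∀ j : ℤ, j ≤ c → ∀ ρ ∈ 𝒜 (c - j), ρ ≠ 0 → ∃ x ∈ I.Hgr m (n + 2) j, ρ • x ≠ 0)
    (j' : ℤ) (hj' : c < j') : I.Hgr m (n + 2) j' = ⊥ := by
  classical
  let _ : Field (deg0 𝒜) := h0.toField
  let _ : SetLike.GradedSMul 𝒜 (I.Hgr m (n + 2)) := hgr_gradedSMul 𝒜 I m (n + 2)
  rw [eq_bot_iff]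
  intro w hw
  rw [AddSubgroup.mem_bot]
  by_contra hw0
  -- the generator of the one-dimensional piece
  obtain ⟨u, hu0, hu⟩ := finrank_eq_one_iff'.1 hT
  -- a functional not vanishing at `w`
  have hwv : (⟨w, hw⟩ : ↥(I.Hcomp m (n + 2) j')) ≠ 0 := fun h => hw0 (congrArg Subtype.val h)
  obtain ⟨φ, hφ⟩ : ∃ φ : Module.Dual (deg0 𝒜) ↥(I.Hcomp m (n + 2) j'), φ ⟨w, hw⟩ ≠ 0 := by
    by_contra hcon
    push Not at hcon
    exact hwv ((Module.forall_dual_apply_eq_zero_iff (deg0 𝒜) _).1 hcon)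
  let z : ↥(I.Hcomp m (n + 2) j') →ₗ[deg0 𝒜] ↥(I.Hcomp m (n + 2) c) := φ.smulRight u
  have hzw : z ⟨w, hw⟩ ≠ 0 := by
    show φ ⟨w, hw⟩ • u ≠ 0
    exact smul_ne_zero hφ hu0
  -- the regular sequence
  obtain ⟨d, hd, x, hx, hall⟩ := exists_regular_sop 𝒜 hpos h0 m hmsp (n + 2) hn
  set t : ℕ := (j' - c).toNat + 1 with ht
  obtain ⟨hreg, -⟩ := hall t (Nat.succ_pos _)
  set e : ℤ := ((t * d : ℕ) : ℤ) with he
  have hec : j' - c < e := by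
    have h1 : (1 : ℤ) ≤ (d : ℤ) := by exact_mod_cast hd
    have h2 : j' - c < (t : ℤ) := by
      rw [ht]
      push_cast
      have := Int.self_le_toNat (j' - c)
      omega
    have h3 : (t : ℤ) ≤ (t : ℤ) * (d : ℤ) := by nlinarith
    rw [he]
    push_cast
    omega
  set a1 : R := x 0 ^ t with ha1
  set a2 : R := x 1 ^ t with ha2
  have ha1m : a1 ∈ 𝒜 e := by
    have := SetLike.pow_mem_graded t (hx 0)
    rw [he]
    push_cast
    rwa [nsmul_eq_mul] at this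
  have ha2m : a2 ∈ 𝒜 e := by
    have := SetLike.pow_mem_graded t (hx 1)
    rw [he]
    push_cast
    rwa [nsmul_eq_mul] at this
  have hlist : (List.ofFn fun i : Fin (n + 2) => x i ^ t) =
      a1 :: a2 :: List.ofFn (fun i : Fin n => x i.succ.succ ^ t) := by
    rw [List.ofFn_succ, List.ofFn_succ]
    rfl
  rw [hlist, isWeaklyRegular_cons_iff, isWeaklyRegular_cons_iff] at hreg
  obtain ⟨hreg1, hreg2, -⟩ := hreg
  -- multiplication by `a1`, `a2` on the pieces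
  have e1 : e + (j' - e) = j' := by ring
  have e2 : e + (j' - e - e) = j' - e := by ring
  have hle1 : j' - e ≤ c := by omega
  have hle2 : j' - e - e ≤ c := by
    have : (0 : ℤ) ≤ e := by rw [he]; exact Int.natCast_nonneg _
    omega
  let ML1 : ↥(I.Hcomp m (n + 2) (j' - e)) →ₗ[deg0 𝒜] ↥(I.Hcomp m (n + 2) j') :=
    mulLeft 𝒜 (I.Hgr m (n + 2)) e (j' - e) j' e1 (⟨a1, ha1m⟩ : ↥(comp 𝒜 𝒜 e))
  let ML2 : ↥(I.Hcomp m (n + 2) (j' - e)) →ₗ[deg0 𝒜] ↥(I.Hcomp m (n + 2) j') :=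
    mulLeft 𝒜 (I.Hgr m (n + 2)) e (j' - e) j' e1 (⟨a2, ha2m⟩ : ↥(comp 𝒜 𝒜 e))
  obtain ⟨f1, hf1m, hf1⟩ := exists_rep 𝒜 hpos h0 m hmsp (n + 2) I c hT hP2 hP3 (j' - e) hle1
    (z ∘ₗ ML1)
  obtain ⟨f2, hf2m, hf2⟩ := exists_rep 𝒜 hpos h0 m hmsp (n + 2) I c hT hP2 hP3 (j' - e) hle1
    (z ∘ₗ ML2)
  -- `a1 f2 = a2 f1`
  have hrel : a1 * f2 - a2 * f1 = 0 := by
    by_contra hne
    have hmem : a1 * f2 - a2 * f1 ∈ 𝒜 (c - (j' - e - e)) := by
      have h1 := SetLike.GradedMul.mul_mem (A := 𝒜) ha1m hf2m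
      have h2 := SetLike.GradedMul.mul_mem (A := 𝒜) ha2m hf1m
      have e3 : e + (c - (j' - e)) = c - (j' - e - e) := by ring
      rw [e3] at h1 h2
      exact sub_mem h1 h2
    obtain ⟨h, hh, hne'⟩ := hP3 (j' - e - e) hle2 _ hmem hne
    apply hne'
    have hm1 : a1 • h ∈ I.Hgr m (n + 2) (j' - e) := by
      have := smul_mem_add 𝒜 (I.Hgr m (n + 2)) ha1m hh
      rwa [e2] at this
    have hm2 : a2 • h ∈ I.Hgr m (n + 2) (j' - e) := by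
      have := smul_mem_add 𝒜 (I.Hgr m (n + 2)) ha2m hh
      rwa [e2] at this
    have h3 := hf2 (a1 • h) hm1
    have h4 := hf1 (a2 • h) hm2
    have h5 : ML2 ⟨a1 • h, hm1⟩ = ML1 ⟨a2 • h, hm2⟩ := by
      apply Subtype.ext
      show a2 • (a1 • h) = a1 • (a2 • h)
      exact smul_comm _ _ _
    rw [sub_smul, mul_smul, mul_smul, smul_comm a1 f2 h, smul_comm a2 f1 h, h3, h4,
      LinearMap.comp_apply, LinearMap.comp_apply, h5, sub_self]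
  -- hence `a1 ∣ f1`, and `f1 = 0` by degrees
  have hf1zero : f1 = 0 := by
    have h1 : a2 * f1 = a1 * f2 := (sub_eq_zero.1 hrel).symm
    have h2 : Submodule.Quotient.mk (p := a1 • (⊤ : Submodule R R)) f1 = 0 := by
      apply hreg2
      show a2 • Submodule.Quotient.mk (p := a1 • (⊤ : Submodule R R)) f1 =
        a2 • (0 : QuotSMulTop a1 R)
      rw [smul_zero, ← Submodule.Quotient.mk_smul, smul_eq_mul, h1,
        Submodule.Quotient.mk_eq_zero]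
      exact Submodule.smul_mem_pointwise_smul _ _ _ Submodule.mem_top
    rw [Submodule.Quotient.mk_eq_zero] at h2
    obtain ⟨g, -, hg⟩ := (Submodule.mem_smul_pointwise_iff_exists _ _ _).1 h2
    have h3 : ((DirectSum.decompose 𝒜 f1 (c - (j' - e)) : 𝒜 (c - (j' - e))) : R) = f1 :=
      DirectSum.decompose_of_mem_same 𝒜 hf1m
    rw [← h3, ← hg, decompose_smul_apply 𝒜 𝒜 ha1m g (c - (j' - e))]
    have h4 : c - (j' - e) - e < 0 := by omega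
    have h5 : ((DirectSum.decompose 𝒜 g (c - (j' - e) - e) : 𝒜 (c - (j' - e) - e)) : R) ∈
        (⊥ : AddSubgroup R) := by
      rw [← hpos _ h4]
      exact SetLike.coe_mem _
    rw [(AddSubgroup.mem_bot).1 h5, smul_zero]
  -- conclusion: `z w = 0`
  obtain ⟨h0', hh0, hw'⟩ := smul_surjective_top 𝒜 m I (n + 2) hn a1 e ha1m hreg1 j' w hw
  have h6 := hf1 h0' hh0
  rw [hf1zero, zero_smul] at h6
  have h7 : ML1 ⟨h0', hh0⟩ = ⟨w, hw⟩ := Subtype.ext hw'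
  have h8 : z ⟨w, hw⟩ = 0 := by
    rw [← h7]
    apply Subtype.ext
    rw [ZeroMemClass.coe_zero]
    exact h6.symm
  exact hzw h8

end Core

end Groth.Agent.Lib.helper26.GorSeg
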