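import Mathlib
import Groth.Prelude.Def_GrLC
import Groth.Agent.Lib.Helper26.GorSeg7

/-!
# A perfect pairing into a one-dimensional piece: end and Gorenstein property (helper26)

Continuation of `GorSeg7`: with the hypotheses there, `a(R) = c` and `R` is Gorenstein.
-/

set_option autoImplicit false
set_option linter.unusedSectionVars false
set_option linter.dupNamespace false
universe u
open scoped Pointwise

namespace Groth.Agent.Lib.helper26.GorSeg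

open GrLC Groth.Agent.Lib.helper19.GrMod Groth.Agent.Lib.helper19.GrLes
  Groth.Agent.Lib.helper26.GorS RingTheory.Sequence

section Core

variable {R : Type u} [CommRing R] (𝒜 : ℤ → AddSubgroup R) [GradedRing 𝒜]
  (hpos : ∀ n : ℤ, n < 0 → 𝒜 n = ⊥) (h0 : IsField (deg0 𝒜))
  (m : HomogeneousIdeal 𝒜)
  (hmsp : m.toIdeal = Ideal.span (⋃ n ∈ Set.Ioi (0 : ℤ), (𝒜 n : Set R)))

include hpos h0 hmsp in
/-- the end of the top local cohomology is `c` -/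
theorem endDeg_of_perfect [IsNoetherianRing R] [LocCoh.IsCohenMacaulayRing R] (n : ℕ)
    (hn : ringKrullDim R = ((n + 2 : ℕ) : WithBot ℕ∞)) (I : StarInjRes 𝒜 𝒜) (c : ℤ)
    (hT : Module.finrank (deg0 𝒜) (I.Hcomp m (n + 2) c) = 1)
    (hP2 : ∀ j : ℤ, j ≤ c → ∀ x ∈ I.Hgr m (n + 2) j, x ≠ 0 → ∃ ρ ∈ 𝒜 (c - j), ρ • x ≠ 0)
    (hP3 : ∀ j : ℤ, j ≤ c → ∀ ρ ∈ 𝒜 (c - j), ρ ≠ 0 → ∃ x ∈ I.Hgr m (n + 2) j, ρ • x ≠ 0) :
    endDeg (I.Hgr m (n + 2)) = ((c : WithTop ℤ) : WithBot (WithTop ℤ)) := by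
  classical
  let _ : Field (deg0 𝒜) := h0.toField
  apply le_antisymm
  · apply endDeg_le
    intro j hj
    rw [WithBot.coe_le_coe, WithTop.coe_le_coe]
    by_contra hlt
    push Not at hlt
    exact hj (Hgr_eq_bot_of_perfect 𝒜 hpos h0 m hmsp n hn I c hT hP2 hP3 j hlt)
  · apply le_endDeg
    intro hbot
    obtain ⟨u, hu0, -⟩ := finrank_eq_one_iff'.1 hT
    apply hu0
    apply Subtype.ext
    have h1 : (u : I.H m (n + 2)) ∈ I.Hgr m (n + 2) c := u.2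
    rw [hbot, AddSubgroup.mem_bot] at h1
    exact h1

include hpos h0 hmsp in
/-- the socle of the top local cohomology is simple -/
theorem simpleSoc_of_perfect [IsNoetherianRing R] [LocCoh.IsCohenMacaulayRing R] (n : ℕ)
    (hn : ringKrullDim R = ((n + 2 : ℕ) : WithBot ℕ∞)) (I : StarInjRes 𝒜 𝒜) (c : ℤ)
    (hT : Module.finrank (deg0 𝒜) (I.Hcomp m (n + 2) c) = 1)
    (hP2 : ∀ j : ℤ, j ≤ c → ∀ x ∈ I.Hgr m (n + 2) j, x ≠ 0 → ∃ ρ ∈ 𝒜 (c - j), ρ • x ≠ 0)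
    (hP3 : ∀ j : ℤ, j ≤ c → ∀ ρ ∈ 𝒜 (c - j), ρ ≠ 0 → ∃ x ∈ I.Hgr m (n + 2) j, ρ • x ≠ 0) :
    SimpleSoc m.toIdeal (I.H m (n + 2)) := by
  classical
  let _ : Field (deg0 𝒜) := h0.toField
  let _ : DirectSum.Decomposition (I.Hgr m (n + 2)) := hgrDecomposition 𝒜 I m (n + 2)
  let _ : SetLike.GradedSMul 𝒜 (I.Hgr m (n + 2)) := hgr_gradedSMul 𝒜 I m (n + 2)
  have htop : ∀ j : ℤ, c < j → I.Hgr m (n + 2) j = ⊥ := fun j hj =>
    Hgr_eq_bot_of_perfect 𝒜 hpos h0 m hmsp n hn I c hT hP2 hP3 j hj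
  obtain ⟨u, hu0, hu⟩ := finrank_eq_one_iff'.1 hT
  have hu0' : (u : I.H m (n + 2)) ≠ 0 := fun h => hu0 (Subtype.ext h)
  refine ⟨(u : I.H m (n + 2)), hu0', ?_, ?_⟩
  · exact smul_eq_zero_of_mem_top 𝒜 hpos h0 m hmsp (I.Hgr m (n + 2)) htop u.2
  · intro y hy
    -- all components of `y` outside degree `c` vanish
    have hcomp : ∀ j : ℤ, j ≠ c →
        ((DirectSum.decompose (I.Hgr m (n + 2)) y j : I.Hgr m (n + 2) j) : I.H m (n + 2)) = 0 := by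
      intro j hj
      rcases lt_or_gt_of_ne hj with hlt | hgt
      · by_contra hne
        obtain ⟨ρ, hρ, hρy⟩ := hP2 j hlt.le _ (SetLike.coe_mem _) hne
        apply hρy
        apply smul_decompose_eq_zero 𝒜 m (I.Hgr m (n + 2)) hy j ρ
        exact mem_toIdeal_of_mem 𝒜 m hmsp (by omega) hρ
      · have h1 : ∀ z ∈ I.Hgr m (n + 2) j, z = 0 := by
          intro z hz
          rwa [htop j hgt, AddSubgroup.mem_bot] at hz
        exact h1 _ (SetLike.coe_mem _)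
    have hyc : y ∈ I.Hgr m (n + 2) c := by
      rw [← DirectSum.sum_support_decompose (I.Hgr m (n + 2)) y]
      apply AddSubgroup.sum_mem
      intro j _
      by_cases hj : j = c
      · subst hj
        exact SetLike.coe_mem _
      · rw [hcomp j hj]
        exact zero_mem _
    obtain ⟨a, ha⟩ := hu ⟨y, hyc⟩
    refine ⟨((a : deg0 𝒜) : R), ?_⟩
    have h1 := congrArg (fun z : ↥(I.Hcomp m (n + 2) c) => (z : I.H m (n + 2))) ha
    exact h1.symm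

include hpos h0 hmsp in
/-- **`R` is Gorenstein** -/
theorem gor_of_perfect [IsNoetherianRing R] [LocCoh.IsCohenMacaulayRing R] (n : ℕ)
    (hn : ringKrullDim R = ((n + 2 : ℕ) : WithBot ℕ∞)) (I : StarInjRes 𝒜 𝒜) (c : ℤ)
    (hT : Module.finrank (deg0 𝒜) (I.Hcomp m (n + 2) c) = 1)
    (hP2 : ∀ j : ℤ, j ≤ c → ∀ x ∈ I.Hgr m (n + 2) j, x ≠ 0 → ∃ ρ ∈ 𝒜 (c - j), ρ • x ≠ 0)
    (hP3 : ∀ j : ℤ, j ≤ c → ∀ ρ ∈ 𝒜 (c - j), ρ ≠ 0 → ∃ x ∈ I.Hgr m (n + 2) j, ρ • x ≠ 0) :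
    LocCoh.IsGorensteinRing R :=
  (gor_iff_simpleSoc 𝒜 hpos h0 m hmsp (n + 2) hn I).2
    (simpleSoc_of_perfect 𝒜 hpos h0 m hmsp n hn I c hT hP2 hP3)

end Core

end Groth.Agent.Lib.helper26.GorSeg
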