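import Mathlib
import Groth.Prelude.Def_GrLC
import Groth.Prelude.Def_GrSeg
import Groth.Agent.Lib.Helper26.GorSeg2

/-!
# Descent of perfect pairings from a Segre product to its factors (helper26)

`H` a graded `T`-module presented as the Segre product `X # Y` (`T = R # S`).
If the pairings `T_{c-j} × H_j → H_c` are nondegenerate on both sides, then so are the pairings
`R_{c-j} × X_j → X_c` (in degrees where `Y_j ≠ 0`, resp. `S_{c-j} ≠ 0`), and symmetrically for `Y`.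
-/

set_option autoImplicit false
set_option linter.unusedSectionVars false
set_option linter.dupNamespace false
universe u
open scoped TensorProduct

namespace Groth.Agent.Lib.helper26.GorSeg

open GrLC Groth.Agent.Lib.helper26.Kun Groth.Agent.Lib.helper19.GrConv
  Groth.Agent.Lib.helper26.GorS Groth.Agent.Lib.helper26.Seg

section LinAlg

variable {k : Type u} [Field k] {V W : Type u} [AddCommGroup V] [Module k V]
  [AddCommGroup W] [Module k W]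

/-- a pure tensor of nonzero vectors over a field is nonzero -/
theorem tmul_ne_zero_of_ne_zero {v : V} {w : W} (hv : v ≠ 0) (hw : w ≠ 0) : v ⊗ₜ[k] w ≠ 0 := by
  obtain ⟨f, hf⟩ : ∃ f : Module.Dual k V, f v ≠ 0 := by
    by_contra hcon
    push Not at hcon
    exact hv ((Module.forall_dual_apply_eq_zero_iff k v).1 hcon)
  obtain ⟨g, hg⟩ : ∃ g : Module.Dual k W, g w ≠ 0 := by
    by_contra hcon
    push Not at hcon
    exact hw ((Module.forall_dual_apply_eq_zero_iff k w).1 hcon)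
  intro h
  have h1 := congrArg (fun z => TensorProduct.lid k k (TensorProduct.map f g z)) h
  simp only [TensorProduct.map_tmul, TensorProduct.lid_tmul, map_zero, smul_eq_mul] at h1
  exact mul_ne_zero hf hg h1

end LinAlg

section Pair

variable {k : Type u} [Field k] {R : Type u} [CommRing R] [Algebra k R]
  (𝒜 : ℤ → Submodule k R) [GradedAlgebra 𝒜]
  {S : Type u} [CommRing S] [Algebra k S] (ℬ : ℤ → Submodule k S) [GradedAlgebra ℬ]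
  {T : Type u} [CommRing T] [Algebra k T] (𝒯 : ℤ → Submodule k T) [GradedAlgebra 𝒯]
  (ψ : T →ₐ[k] R ⊗[k] S) (hT : GrSeg.IsSegreRing 𝒜 ℬ 𝒯 ψ)
  {X : Type u} [AddCommGroup X] [Module R X] [Module k X] [IsScalarTower k R X]
  (𝒳 : ℤ → AddSubgroup X) [SetLike.GradedSMul 𝒜 𝒳]
  {Y : Type u} [AddCommGroup Y] [Module S Y] [Module k Y] [IsScalarTower k S Y]
  (𝒴 : ℤ → AddSubgroup Y) [SetLike.GradedSMul ℬ 𝒴]
  {H : Type u} [AddCommGroup H] [Module T H] (ℋ : ℤ → AddSubgroup H)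
  (Φ : H →ₗ[T] SW ψ X Y) (hΦi : Function.Injective Φ)
  (hΦd : ∀ d : ℤ, (fun x => SW.val ψ (Φ x)) '' (ℋ d : Set H) =
    (GrSeg.segrePiece k 𝒳 𝒴 d : Set (X ⊗[k] Y)))
  (c : ℤ)

/-- an element of `R_e # S_e` whose `R`-components kill `x` kills `x ⊗ y` -/
theorem act_eq_zero_of_left {e : ℤ} {x : X} (hx : ∀ ρ ∈ 𝒜 e, ρ • x = 0) (y : Y)
    {z : R ⊗[k] S} (hz : z ∈ GrSeg.segrePiece k 𝒜 ℬ e) :
    GrSeg.act k R S X Y z (x ⊗ₜ[k] y) = 0 := by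
  refine Submodule.span_induction (p := fun z _ => GrSeg.act k R S X Y z (x ⊗ₜ[k] y) = 0)
    ?_ ?_ ?_ ?_ hz
  · rintro _ ⟨ρ, hρ, σ, -, rfl⟩
    rw [GrSeg.act_tmul, hx ρ hρ, TensorProduct.zero_tmul]
  · rw [map_zero, LinearMap.zero_apply]
  · intro z z' _ _ h h'
    rw [map_add, LinearMap.add_apply, h, h', add_zero]
  · intro a z _ h
    rw [map_smul, LinearMap.smul_apply, h, smul_zero]

theorem act_eq_zero_of_right {e : ℤ} (x : X) {y : Y} (hy : ∀ σ ∈ ℬ e, σ • y = 0)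
    {z : R ⊗[k] S} (hz : z ∈ GrSeg.segrePiece k 𝒜 ℬ e) :
    GrSeg.act k R S X Y z (x ⊗ₜ[k] y) = 0 := by
  refine Submodule.span_induction (p := fun z _ => GrSeg.act k R S X Y z (x ⊗ₜ[k] y) = 0)
    ?_ ?_ ?_ ?_ hz
  · rintro _ ⟨ρ, -, σ, hσ, rfl⟩
    rw [GrSeg.act_tmul, hy σ hσ, TensorProduct.tmul_zero]
  · rw [map_zero, LinearMap.zero_apply]
  · intro z z' _ _ h h'
    rw [map_add, LinearMap.add_apply, h, h', add_zero]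
  · intro a z _ h
    rw [map_smul, LinearMap.smul_apply, h, smul_zero]

/-- `ρ ⊗ σ` with `ρ` killing `X_j` kills `X_j # Y_j` -/
theorem act_tmul_eq_zero_of_left {j : ℤ} {ρ : R} (hρ : ∀ x ∈ 𝒳 j, ρ • x = 0) (σ : S)
    {w : X ⊗[k] Y} (hw : w ∈ GrSeg.segrePiece k 𝒳 𝒴 j) :
    GrSeg.act k R S X Y (ρ ⊗ₜ[k] σ) w = 0 := by
  refine Submodule.span_induction (p := fun w _ => GrSeg.act k R S X Y (ρ ⊗ₜ[k] σ) w = 0)
    ?_ ?_ ?_ ?_ hw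
  · rintro _ ⟨x, hx, y, -, rfl⟩
    rw [GrSeg.act_tmul, hρ x hx, TensorProduct.zero_tmul]
  · rw [map_zero]
  · intro z z' _ _ h h'
    rw [map_add, h, h', add_zero]
  · intro a z _ h
    rw [map_smul, h, smul_zero]

theorem act_tmul_eq_zero_of_right {j : ℤ} (ρ : R) {σ : S} (hσ : ∀ y ∈ 𝒴 j, σ • y = 0)
    {w : X ⊗[k] Y} (hw : w ∈ GrSeg.segrePiece k 𝒳 𝒴 j) :
    GrSeg.act k R S X Y (ρ ⊗ₜ[k] σ) w = 0 := by
  refine Submodule.span_induction (p := fun w _ => GrSeg.act k R S X Y (ρ ⊗ₜ[k] σ) w = 0)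
    ?_ ?_ ?_ ?_ hw
  · rintro _ ⟨x, -, y, hy, rfl⟩
    rw [GrSeg.act_tmul, hσ y hy, TensorProduct.tmul_zero]
  · rw [map_zero]
  · intro z z' _ _ h h'
    rw [map_add, h, h', add_zero]
  · intro a z _ h
    rw [map_smul, h, smul_zero]

include hT hΦi hΦd in
/-- nondegeneracy on the right descends to `X` -/
theorem left_sep
    (hH2 : ∀ j : ℤ, ∀ h ∈ ℋ j, h ≠ 0 → ∃ t ∈ 𝒯 (c - j), t • h ≠ 0)
    (j : ℤ) (y : Y) (hy : y ∈ 𝒴 j) (hy0 : y ≠ 0) (x : X) (hx : x ∈ 𝒳 j) (hx0 : x ≠ 0) :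
    ∃ ρ ∈ 𝒜 (c - j), ρ • x ≠ 0 := by
  by_contra hcon
  push Not at hcon
  have hxy : x ⊗ₜ[k] y ∈ (GrSeg.segrePiece k 𝒳 𝒴 j : Set (X ⊗[k] Y)) :=
    Submodule.subset_span ⟨x, hx, y, hy, rfl⟩
  rw [← hΦd j] at hxy
  obtain ⟨h, hh, hhv⟩ := hxy
  have hhv' : SW.val ψ (Φ h) = x ⊗ₜ[k] y := hhv
  have hne : h ≠ 0 := by
    intro h0
    rw [h0, map_zero] at hhv'
    exact tmul_ne_zero_of_ne_zero hx0 hy0 hhv'.symm
  obtain ⟨t, ht, hth⟩ := hH2 j h hh hne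
  apply hth
  apply hΦi
  rw [map_zero, map_smul]
  apply SW.ext ψ
  rw [SW.val_smul, hhv']
  have h1 : ψ t ∈ GrSeg.segrePiece k 𝒜 ℬ (c - j) := by
    rw [← hT.2 (c - j)]
    exact ⟨t, ht, rfl⟩
  exact act_eq_zero_of_left 𝒜 ℬ hcon y h1

include hT hΦi hΦd in
/-- nondegeneracy on the right descends to `Y` -/
theorem right_sep
    (hH2 : ∀ j : ℤ, ∀ h ∈ ℋ j, h ≠ 0 → ∃ t ∈ 𝒯 (c - j), t • h ≠ 0)
    (j : ℤ) (x : X) (hx : x ∈ 𝒳 j) (hx0 : x ≠ 0) (y : Y) (hy : y ∈ 𝒴 j) (hy0 : y ≠ 0) :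
    ∃ σ ∈ ℬ (c - j), σ • y ≠ 0 := by
  by_contra hcon
  push Not at hcon
  have hxy : x ⊗ₜ[k] y ∈ (GrSeg.segrePiece k 𝒳 𝒴 j : Set (X ⊗[k] Y)) :=
    Submodule.subset_span ⟨x, hx, y, hy, rfl⟩
  rw [← hΦd j] at hxy
  obtain ⟨h, hh, hhv⟩ := hxy
  have hhv' : SW.val ψ (Φ h) = x ⊗ₜ[k] y := hhv
  have hne : h ≠ 0 := by
    intro h0
    rw [h0, map_zero] at hhv'
    exact tmul_ne_zero_of_ne_zero hx0 hy0 hhv'.symm
  obtain ⟨t, ht, hth⟩ := hH2 j h hh hne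
  apply hth
  apply hΦi
  rw [map_zero, map_smul]
  apply SW.ext ψ
  rw [SW.val_smul, hhv']
  have h1 : ψ t ∈ GrSeg.segrePiece k 𝒜 ℬ (c - j) := by
    rw [← hT.2 (c - j)]
    exact ⟨t, ht, rfl⟩
  exact act_eq_zero_of_right 𝒜 ℬ x hcon h1

include hT hΦi hΦd in
/-- nondegeneracy on the left descends to `X` -/
theorem left_faith
    (hH3 : ∀ i : ℤ, ∀ t ∈ 𝒯 i, t ≠ 0 → ∃ h ∈ ℋ (c - i), t • h ≠ 0)
    (i : ℤ) (σ : S) (hσ : σ ∈ ℬ i) (hσ0 : σ ≠ 0) (ρ : R) (hρ : ρ ∈ 𝒜 i) (hρ0 : ρ ≠ 0) :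
    ∃ x ∈ 𝒳 (c - i), ρ • x ≠ 0 := by
  by_contra hcon
  push Not at hcon
  have hρσ : ρ ⊗ₜ[k] σ ∈ GrSeg.segrePiece k 𝒜 ℬ i :=
    Submodule.subset_span ⟨ρ, hρ, σ, hσ, rfl⟩
  rw [← hT.2 i] at hρσ
  obtain ⟨t, ht, htψ⟩ := hρσ
  have htψ' : ψ t = ρ ⊗ₜ[k] σ := htψ
  have hne : t ≠ 0 := by
    intro h0
    rw [h0, map_zero] at htψ'
    exact tmul_ne_zero_of_ne_zero hρ0 hσ0 htψ'.symm
  obtain ⟨h, hh, hth⟩ := hH3 i t ht hne
  apply hth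
  apply hΦi
  rw [map_zero, map_smul]
  apply SW.ext ψ
  rw [SW.val_smul, htψ']
  have h1 : SW.val ψ (Φ h) ∈ (GrSeg.segrePiece k 𝒳 𝒴 (c - i) : Set (X ⊗[k] Y)) := by
    rw [← hΦd (c - i)]
    exact ⟨h, hh, rfl⟩
  exact act_tmul_eq_zero_of_left 𝒳 𝒴 hcon σ h1

include hT hΦi hΦd in
/-- nondegeneracy on the left descends to `Y` -/
theorem right_faith
    (hH3 : ∀ i : ℤ, ∀ t ∈ 𝒯 i, t ≠ 0 → ∃ h ∈ ℋ (c - i), t • h ≠ 0)
    (i : ℤ) (ρ : R) (hρ : ρ ∈ 𝒜 i) (hρ0 : ρ ≠ 0) (σ : S) (hσ : σ ∈ ℬ i) (hσ0 : σ ≠ 0) :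
    ∃ y ∈ 𝒴 (c - i), σ • y ≠ 0 := by
  by_contra hcon
  push Not at hcon
  have hρσ : ρ ⊗ₜ[k] σ ∈ GrSeg.segrePiece k 𝒜 ℬ i :=
    Submodule.subset_span ⟨ρ, hρ, σ, hσ, rfl⟩
  rw [← hT.2 i] at hρσ
  obtain ⟨t, ht, htψ⟩ := hρσ
  have htψ' : ψ t = ρ ⊗ₜ[k] σ := htψ
  have hne : t ≠ 0 := by
    intro h0
    rw [h0, map_zero] at htψ'
    exact tmul_ne_zero_of_ne_zero hρ0 hσ0 htψ'.symm
  obtain ⟨h, hh, hth⟩ := hH3 i t ht hne
  apply hth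
  apply hΦi
  rw [map_zero, map_smul]
  apply SW.ext ψ
  rw [SW.val_smul, htψ']
  have h1 : SW.val ψ (Φ h) ∈ (GrSeg.segrePiece k 𝒳 𝒴 (c - i) : Set (X ⊗[k] Y)) := by
    rw [← hΦd (c - i)]
    exact ⟨h, hh, rfl⟩
  exact act_tmul_eq_zero_of_right 𝒳 𝒴 ρ hcon h1

end Pair

end Groth.Agent.Lib.helper26.GorSeg
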