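import Mathlib
import Groth.Prelude.Def_GrLC
import Groth.Prelude.Def_GrSeg
import Groth.Agent.Lib.Helper26.Seg10
import Groth.Agent.Lib.Helper26.KunT

/-!
# Cohen–Macaulayness of Segre products of standard graded Cohen–Macaulay rings via `a`-invariants
(helper26)
-/

set_option autoImplicit false
set_option linter.unusedSectionVars false
set_option linter.dupNamespace false
universe u
open scoped TensorProduct

namespace Groth.Agent.Lib.helper26.Kun

open GrLC Groth.Agent.Lib.helper19.GrConv Groth.Agent.Lib.helper19.GrMod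
  Groth.Agent.Lib.helper26.Seg Groth.Agent.Lib.helper26.GrCM Groth.Agent.Lib.helper26.Acyc

section Standard

variable {k : Type u} [Field k] {R : Type u} [CommRing R] [Algebra k R]
  (𝒜 : ℤ → Submodule k R) [GradedAlgebra 𝒜]
  (hpos : ∀ n : ℤ, n < 0 → 𝒜 n = ⊥) (h0 : 𝒜 0 = Submodule.span k {(1 : R)})
  (hstd : irr 𝒜 = Ideal.span ((𝒜 1 : Submodule k R) : Set R))

include hstd in
theorem irr_pow_le_span (j : ℕ) :
    irr 𝒜 ^ j ≤ Ideal.span ((𝒜 (j : ℤ) : Submodule k R) : Set R) := by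
  induction j with
  | zero =>
    intro x _
    have h1 : (1 : R) ∈ Ideal.span ((𝒜 ((0 : ℕ) : ℤ) : Submodule k R) : Set R) :=
      Ideal.subset_span (SetLike.GradedOne.one_mem (A := 𝒜))
    have := Ideal.mul_mem_left _ x h1
    rwa [mul_one] at this
  | succ j ih =>
    rw [pow_succ]
    refine (Ideal.mul_mono ih hstd.le).trans ?_
    rw [Ideal.span_mul_span']
    apply Ideal.span_mono
    rintro _ ⟨a, ha, b, hb, rfl⟩
    have h := SetLike.GradedMul.mul_mem (A := 𝒜) ha hb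
    have e : ((j : ℕ) : ℤ) + 1 = ((j + 1 : ℕ) : ℤ) := by push_cast; ring
    rw [e] at h
    exact h

include hpos h0 hstd in
/-- a standard graded ring of positive dimension is nonzero in every nonnegative degree -/
theorem piece_ne_bot_of_standard [Algebra.FiniteType k R] (r : ℕ) (hr : ringKrullDim R = r)
    (h1r : 1 ≤ r) (n : ℤ) (hn : 0 ≤ n) : 𝒜 n ≠ ⊥ := by
  intro hbot
  have hntR : Nontrivial R := by
    by_contra hne
    rw [not_nontrivial_iff_subsingleton] at hne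
    rw [ringKrullDim_eq_bot_of_subsingleton] at hr
    exact absurd hr (by simp)
  obtain ⟨j, rfl⟩ := Int.eq_ofNat_of_zero_le hn
  have hnil : irr 𝒜 ^ j = ⊥ := by
    rw [eq_bot_iff]
    refine (irr_pow_le_span 𝒜 hstd j).trans ?_
    rw [hbot]
    rw [Ideal.span_le]
    intro x hx
    have hx' : x = 0 := (Submodule.mem_bot k).1 hx
    rw [hx']
    exact zero_mem _
  have hmax := irr_isMaximal 𝒜 hpos h0
  have hprime : (irr 𝒜).IsPrime := hmax.isPrime
  have hht := height_irr 𝒜 hpos h0 r hr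
  have hmin : irr 𝒜 ∈ minimalPrimes R := by
    rw [minimalPrimes_eq_minimals]
    refine ⟨hprime, fun Q hQ _ => ?_⟩
    have hQp : Q.IsPrime := hQ
    apply hQp.le_of_pow_le (n := j)
    rw [hnil]
    exact bot_le
  have h0' : (irr 𝒜).height = 0 := Ideal.height_eq_zero_iff.2 hmin
  rw [hht] at h0'
  have : (r : ℕ∞) = 0 := h0'
  have : r = 0 := by exact_mod_cast this
  omega

end Standard

section EndDeg

variable {H : Type u} [AddCommGroup H]

theorem endDeg_lt_zero_iff (ℋ : ℤ → AddSubgroup H) :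
    endDeg ℋ < 0 ↔ ∀ n : ℤ, 0 ≤ n → ℋ n = ⊥ := by
  unfold endDeg
  constructor
  · intro h n hn
    by_contra hne
    have h1 : (((n : WithTop ℤ)) : WithBot (WithTop ℤ)) ≤
        ⨆ (n : ℤ) (_ : ℋ n ≠ ⊥), ((n : WithTop ℤ) : WithBot (WithTop ℤ)) :=
      le_iSup₂ (f := fun (n : ℤ) (_ : ℋ n ≠ ⊥) => ((n : WithTop ℤ) : WithBot (WithTop ℤ))) n hne
    have h2 := lt_of_le_of_lt h1 h
    have h3 : (((n : WithTop ℤ)) : WithBot (WithTop ℤ)) < (((0 : ℤ) : WithTop ℤ) : WithBot (WithTop ℤ)) :=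
      h2
    rw [WithBot.coe_lt_coe, WithTop.coe_lt_coe] at h3
    omega
  · intro h
    have h1 : (⨆ (n : ℤ) (_ : ℋ n ≠ ⊥), ((n : WithTop ℤ) : WithBot (WithTop ℤ))) ≤
        ((((-1 : ℤ)) : WithTop ℤ) : WithBot (WithTop ℤ)) := by
      refine iSup₂_le fun n hne => ?_
      rw [WithBot.coe_le_coe, WithTop.coe_le_coe]
      by_contra hlt
      exact hne (h n (by omega))
    refine lt_of_le_of_lt h1 ?_
    show ((((-1 : ℤ)) : WithTop ℤ) : WithBot (WithTop ℤ)) < (((0 : ℤ) : WithTop ℤ) : WithBot (WithTop ℤ))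
    rw [WithBot.coe_lt_coe, WithTop.coe_lt_coe]
    omega

end EndDeg

section Main

theorem Hgr_eq_bot_iff {k : Type u} [Field k] {R : Type u} [CommRing R] [Algebra k R]
    (𝒜 : ℤ → Submodule k R) [GradedAlgebra 𝒜] (I : StarInjRes 𝒜 𝒜) (mR : HomogeneousIdeal 𝒜)
    (i : ℕ) (n : ℤ) : I.Hgr mR i n = ⊥ ↔ I.Hcomp mR i n = ⊥ := by
  constructor
  · intro h
    rw [eq_bot_iff]
    intro x hx
    have hx' : x ∈ I.Hgr mR i n := hx
    rw [h] at hx'
    exact (Submodule.mem_bot _).2 ((AddSubgroup.mem_bot).1 hx')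
  · intro h
    rw [eq_bot_iff]
    intro x hx
    have hx' : x ∈ I.Hcomp mR i n := hx
    rw [h] at hx'
    exact (AddSubgroup.mem_bot).2 ((Submodule.mem_bot _).1 hx')

/-- **Cohen–Macaulayness of `R # S`** for standard graded Cohen–Macaulay `R`, `S` of dimensions
`r, s ≥ 2`, in terms of `a`-invariants -/
theorem cm_segre_ring_iff_ainv {k : Type u} [Field k] {R : Type u} [CommRing R] [Algebra k R]
    (𝒜 : ℤ → Submodule k R) [GradedAlgebra 𝒜] (hposR : ∀ n : ℤ, n < 0 → 𝒜 n = ⊥)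
    (h0R : 𝒜 0 = Submodule.span k {(1 : R)}) [Algebra.FiniteType k R]
    {S : Type u} [CommRing S] [Algebra k S] (ℬ : ℤ → Submodule k S)
    [GradedAlgebra ℬ] (hposS : ∀ n : ℤ, n < 0 → ℬ n = ⊥)
    (h0S : ℬ 0 = Submodule.span k {(1 : S)}) [Algebra.FiniteType k S]
    {T : Type u} [CommRing T] [Algebra k T] (𝒯 : ℤ → Submodule k T) [GradedAlgebra 𝒯]
    (ψ : T →ₐ[k] R ⊗[k] S) (hψ : Function.Injective ψ)
    (hdegT : ∀ n : ℤ, (𝒯 n).map ψ.toLinearMap =
      Submodule.span k {x : R ⊗[k] S | ∃ a ∈ 𝒜 n, ∃ b ∈ ℬ n, x = a ⊗ₜ[k] b})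
    [LocCoh.IsCohenMacaulayRing R] [LocCoh.IsCohenMacaulayRing S]
    (mR : HomogeneousIdeal 𝒜) (hmR : mR.toIdeal = irr 𝒜)
    (hstdR : irr 𝒜 = Ideal.span ((𝒜 1 : Submodule k R) : Set R)) (I : StarInjRes 𝒜 𝒜)
    (mS : HomogeneousIdeal ℬ) (hmS : mS.toIdeal = irr ℬ)
    (hstdS : irr ℬ = Ideal.span ((ℬ 1 : Submodule k S) : Set S)) (J : StarInjRes ℬ ℬ)
    (r s : ℕ) (hr : ringKrullDim R = r) (hs : ringKrullDim S = s) (h2r : 2 ≤ r) (h2s : 2 ≤ s) :
    LocCoh.IsCohenMacaulayRing T ↔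
      endDeg (I.Hgr mR r) < 0 ∧ endDeg (J.Hgr mS s) < 0 := by
  rw [cm_segre_ring_iff 𝒜 hposR h0R ℬ hposS h0S 𝒯 ψ hψ hdegT mR hmR I mS hmS J r s hr hs h2r h2s,
    endDeg_lt_zero_iff, endDeg_lt_zero_iff]
  have hA := piece_ne_bot_of_standard 𝒜 hposR h0R hstdR r hr (by omega)
  have hB := piece_ne_bot_of_standard ℬ hposS h0S hstdS s hs (by omega)
  constructor
  · rintro ⟨h1, h2⟩
    refine ⟨fun n hn => ?_, fun n hn => ?_⟩
    · rw [Hgr_eq_bot_iff]
      rcases h2 n with h | h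
      · exact h
      · exact absurd h (hB n hn)
    · rw [Hgr_eq_bot_iff]
      rcases h1 n with h | h
      · exact absurd h (hA n hn)
      · exact h
  · rintro ⟨h1, h2⟩
    refine ⟨fun n => ?_, fun n => ?_⟩
    · rcases lt_or_ge n 0 with hn | hn
      · exact Or.inl (hposR n hn)
      · exact Or.inr ((Hgr_eq_bot_iff ℬ J mS s n).1 (h2 n hn))
    · rcases lt_or_ge n 0 with hn | hn
      · exact Or.inr (hposS n hn)
      · exact Or.inl ((Hgr_eq_bot_iff 𝒜 I mR r n).1 (h1 n hn))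

end Main

end Groth.Agent.Lib.helper26.Kun
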