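import Mathlib
import Groth.Prelude.Def_GrLC
import Groth.Prelude.Def_GrSeg
import Groth.Agent.Lib.Helper26.GorSeg4
import Groth.Agent.Lib.Helper26.GorSeg8
import Groth.Agent.Lib.Helper26.GorSeg9
import Groth.Agent.Lib.Helper26.GorSeg10
import Groth.Agent.Lib.Helper26.KunU
import Groth.Agent.S0341

/-!
# A Gorenstein Segre product of standard graded Cohen–Macaulay rings has Gorenstein factors
with equal `a`-invariants (helper26)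
-/

set_option autoImplicit false
set_option linter.unusedSectionVars false
set_option linter.dupNamespace false
universe u
open scoped TensorProduct

namespace Groth.Agent.Lib.helper26.GorSeg

open GrLC Groth.Agent.Lib.helper26.Kun Groth.Agent.Lib.helper19.GrConv
  Groth.Agent.Lib.helper19.GrMod Groth.Agent.Lib.helper19.GrLes
  Groth.Agent.Lib.helper26.GorS Groth.Agent.Lib.helper26.Seg Groth.Agent.Lib.helper26.Acyc

attribute [local instance] gsmulAdd gsmulSelf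

/-- **descent of the perfect pairings from a Gorenstein Segre product to its factors** -/
theorem perfect_of_segre_gor {k : Type u} [Field k] {R : Type u} [CommRing R] [Algebra k R]
    (𝒜 : ℤ → Submodule k R) [GradedAlgebra 𝒜] (hposR : ∀ n : ℤ, n < 0 → 𝒜 n = ⊥)
    (h0R : 𝒜 0 = Submodule.span k {(1 : R)}) [Algebra.FiniteType k R]
    {S : Type u} [CommRing S] [Algebra k S] (ℬ : ℤ → Submodule k S)
    [GradedAlgebra ℬ] (hposS : ∀ n : ℤ, n < 0 → ℬ n = ⊥)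
    (h0S : ℬ 0 = Submodule.span k {(1 : S)}) [Algebra.FiniteType k S]
    {T : Type u} [CommRing T] [Algebra k T] (𝒯 : ℤ → Submodule k T) [GradedAlgebra 𝒯]
    (ψ : T →ₐ[k] R ⊗[k] S) (hψ : Function.Injective ψ)
    (hdegT : ∀ n : ℤ, (𝒯 n).map ψ.toLinearMap =
      Submodule.span k {x : R ⊗[k] S | ∃ a ∈ 𝒜 n, ∃ b ∈ ℬ n, x = a ⊗ₜ[k] b})
    [LocCoh.IsCohenMacaulayRing R] [LocCoh.IsCohenMacaulayRing S] [LocCoh.IsGorensteinRing T]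
    (mR : HomogeneousIdeal 𝒜) (hmR : mR.toIdeal = irr 𝒜)
    (hstdR : irr 𝒜 = Ideal.span ((𝒜 1 : Submodule k R) : Set R)) (I : StarInjRes 𝒜 𝒜)
    (mS : HomogeneousIdeal ℬ) (hmS : mS.toIdeal = irr ℬ)
    (hstdS : irr ℬ = Ideal.span ((ℬ 1 : Submodule k S) : Set S)) (J : StarInjRes ℬ ℬ)
    (r s : ℕ) (hr : ringKrullDim R = ((r + 2 : ℕ) : WithBot ℕ∞))
    (hs : ringKrullDim S = ((s + 2 : ℕ) : WithBot ℕ∞)) :
    ∃ c : ℤ,
      Module.finrank (deg0 𝒜) (I.Hcomp mR (r + 2) c) = 1 ∧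
      Module.finrank (deg0 ℬ) (J.Hcomp mS (s + 2) c) = 1 ∧
      (∀ j : ℤ, j ≤ c → ∀ x ∈ I.Hgr mR (r + 2) j, x ≠ 0 → ∃ ρ ∈ 𝒜 (c - j), ρ • x ≠ 0) ∧
      (∀ j : ℤ, j ≤ c → ∀ ρ ∈ 𝒜 (c - j), ρ ≠ 0 → ∃ x ∈ I.Hgr mR (r + 2) j, ρ • x ≠ 0) ∧
      (∀ j : ℤ, j ≤ c → ∀ y ∈ J.Hgr mS (s + 2) j, y ≠ 0 → ∃ σ ∈ ℬ (c - j), σ • y ≠ 0) ∧
      (∀ j : ℤ, j ≤ c → ∀ σ ∈ ℬ (c - j), σ ≠ 0 → ∃ y ∈ J.Hgr mS (s + 2) j, σ • y ≠ 0) := by
  classical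
  have hntR : Nontrivial R := by
    by_contra hne
    rw [not_nontrivial_iff_subsingleton] at hne
    rw [ringKrullDim_eq_bot_of_subsingleton] at hr
    exact absurd hr (WithBot.bot_ne_coe)
  have hntS : Nontrivial S := by
    by_contra hne
    rw [not_nontrivial_iff_subsingleton] at hne
    rw [ringKrullDim_eq_bot_of_subsingleton] at hs
    exact absurd hs (WithBot.bot_ne_coe)
  have hnoeR : IsNoetherianRing R := Algebra.FiniteType.isNoetherianRing k R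
  have hnoeS : IsNoetherianRing S := Algebra.FiniteType.isNoetherianRing k S
  have hT : GrSeg.IsSegreRing 𝒜 ℬ 𝒯 ψ := ⟨hψ, hdegT⟩
  have hFT : Algebra.FiniteType k T := finiteType_segre 𝒜 ℬ 𝒯 ψ hdegT hψ hposR h0R hposS h0S
  have hnoeT : IsNoetherianRing T := Algebra.FiniteType.isNoetherianRing k T
  have hNT : Nontrivial T := ψ.toRingHom.domain_nontrivial
  have h0T : 𝒯 0 = Submodule.span k {(1 : T)} := pieceT_zero 𝒜 ℬ 𝒯 ψ hdegT hψ h0R h0S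
  have hposT : ∀ n : ℤ, n < 0 → addGr 𝒯 n = ⊥ := by
    intro n hn
    rw [eq_bot_iff]
    intro t ht
    have h1 : ψ t ∈ (𝒯 n).map ψ.toLinearMap := ⟨t, ht, rfl⟩
    rw [hdegT n] at h1
    have h2 : Submodule.span k {x : R ⊗[k] S | ∃ a ∈ 𝒜 n, ∃ b ∈ ℬ n, x = a ⊗ₜ[k] b} = ⊥ := by
      rw [Submodule.span_eq_bot]
      rintro x ⟨a, ha, b, hb, rfl⟩
      rw [hposR n hn, Submodule.mem_bot] at ha
      rw [ha, TensorProduct.zero_tmul]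
    rw [h2, Submodule.mem_bot] at h1
    rw [AddSubgroup.mem_bot]
    exact hψ (h1.trans (map_zero ψ).symm)
  have hCMT : LocCoh.IsCohenMacaulayRing T :=
    { isCohenMacaulayLocalRing_localization := fun p _ => by
        have := LocCoh.IsGorensteinRing.isGorensteinLocalRing_localization (A := T) p
        exact Groth.Agent.S0341.result (Localization.AtPrime p) }
  obtain ⟨IT⟩ := exists_starInjRes_self 𝒯
  have hposR' := addGr_eq_bot_of_neg 𝒜 hposR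
  have hposS' := addGr_eq_bot_of_neg ℬ hposS
  have hfR := isField_deg0_addGr 𝒜 h0R
  have hfS := isField_deg0_addGr ℬ h0S
  have hfT := isField_deg0_addGr 𝒯 h0T
  have hmR' : (idealAdd 𝒜 mR).toIdeal =
      Ideal.span (⋃ n ∈ Set.Ioi (0 : ℤ), (addGr 𝒜 n : Set R)) := hmR
  have hmS' : (idealAdd ℬ mS).toIdeal =
      Ideal.span (⋃ n ∈ Set.Ioi (0 : ℤ), (addGr ℬ n : Set S)) := hmS
  have hmT' : (idealAdd 𝒯 (irrH 𝒯)).toIdeal =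
      Ideal.span (⋃ n ∈ Set.Ioi (0 : ℤ), (addGr 𝒯 n : Set T)) := rfl
  have hstdR' : Ideal.span (⋃ n ∈ Set.Ioi (0 : ℤ), (addGr 𝒜 n : Set R)) =
      Ideal.span ((addGr 𝒜 1 : AddSubgroup R) : Set R) := hstdR
  have hstdS' : Ideal.span (⋃ n ∈ Set.Ioi (0 : ℤ), (addGr ℬ n : Set S)) =
      Ideal.span ((addGr ℬ 1 : AddSubgroup S) : Set S) := hstdS
  have hdim : ringKrullDim T = ((r + s + 3 : ℕ) : WithBot ℕ∞) := by
    have h1 := ringKrullDim_segre k R 𝒜 hposR h0R S ℬ hposS h0S T 𝒯 ψ hψ hdegT (r + 2) (s + 2)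
      hr hs (by omega) (by omega)
    rw [h1]
    congr 1
    omega
  have hST : SimpleSoc (irrH 𝒯).toIdeal (IT.H (irrH 𝒯) (r + s + 3)) :=
    (gor_iff_simpleSoc (addGr 𝒯) hposT hfT (idealAdd 𝒯 (irrH 𝒯)) hmT' (r + s + 3) hdim
      (resAdd 𝒯 𝒯 IT)).1 inferInstance
  obtain ⟨c, hc⟩ := exists_endDeg_of_simpleSoc (addGr 𝒯) hposT hfT (idealAdd 𝒯 (irrH 𝒯)) hmT'
    (r + s + 3) (resAdd 𝒯 𝒯 IT) hST
  have hfT1 : Module.finrank (deg0 𝒯) (IT.Hcomp (irrH 𝒯) (r + s + 3) c) = 1 :=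
    finrank_Hcomp_top (addGr 𝒯) hposT hfT (idealAdd 𝒯 (irrH 𝒯)) hmT' (r + s + 3)
      (resAdd 𝒯 𝒯 IT) hST c hc
  have hk := kunneth_segre_ring_top 𝒜 hposR h0R ℬ hposS h0S 𝒯 ψ hψ hdegT mR hmR I mS hmS J
    (irrH 𝒯) rfl IT r s hr hs c
  rw [hfT1] at hk
  obtain ⟨hfr1, hfs1⟩ := mul_eq_one.mp hk.symm
  -- the pairings of `T`
  have hH2 : ∀ j : ℤ, ∀ h ∈ (resSelf 𝒯 IT).Hgr (irrH 𝒯) (r + s + 3) j, h ≠ 0 →
      ∃ t ∈ 𝒯 (c - j), t • h ≠ 0 := fun j h hh hne =>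
    exists_smul_ne_zero_of_simpleSoc (addGr 𝒯) hposT hfT (idealAdd 𝒯 (irrH 𝒯)) hmT'
      (resAdd 𝒯 𝒯 IT) (r + s + 3) hST c hc hh hne
  have hH3 : ∀ i : ℤ, ∀ t ∈ 𝒯 i, t ≠ 0 →
      ∃ h ∈ (resSelf 𝒯 IT).Hgr (irrH 𝒯) (r + s + 3) (c - i), t • h ≠ 0 := fun i t ht hne =>
    exists_smul_ne_zero_of_simpleSoc' (addGr 𝒯) hposT hfT (idealAdd 𝒯 (irrH 𝒯)) hmT'
      (r + s + 3) hdim (resAdd 𝒯 𝒯 IT) hST c hc ht hne
  -- the Künneth isomorphism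
  let mkM : ∀ p, Module k ((resSelf 𝒜 I).X p).carrier := fun p =>
    Module.compHom _ (algebraMap k R)
  have stM : ∀ p, IsScalarTower k R ((resSelf 𝒜 I).X p).carrier := fun p =>
    IsScalarTower.of_algebraMap_smul fun _ _ => rfl
  let mkN : ∀ p, Module k ((resSelf ℬ J).X p).carrier := fun p =>
    Module.compHom _ (algebraMap k S)
  have stN : ∀ p, IsScalarTower k S ((resSelf ℬ J).X p).carrier := fun p =>
    IsScalarTower.of_algebraMap_smul fun _ _ => rfl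
  have hvR : ∀ (q : ℕ) (d : ℤ), r + 1 + 1 < q → (resSelf 𝒜 I).Hcomp mR q d = ⊥ := by
    intro q d hq
    apply Hcomp_eq_bot_of_supportDim_lt 𝒜 (addGr 𝒜) (resSelf 𝒜 I) mR q _ d
    rw [Module.supportDim_self_eq_ringKrullDim, hr]
    exact_mod_cast hq
  have hvS : ∀ (q : ℕ) (d : ℤ), s + 1 + 1 < q → (resSelf ℬ J).Hcomp mS q d = ⊥ := by
    intro q d hq
    apply Hcomp_eq_bot_of_supportDim_lt ℬ (addGr ℬ) (resSelf ℬ J) mS q _ d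
    rw [Module.supportDim_self_eq_ringKrullDim, hs]
    exact_mod_cast hq
  obtain ⟨Φ, hΦi, hΦd⟩ := exists_segreH_top_final 𝒜 hposR h0R ℬ hposS h0S 𝒯 ψ hT mR hmR mS hmS
    (irrH 𝒯) rfl (addGr 𝒜) (resSelf 𝒜 I) (addGr ℬ) (resSelf ℬ J) (addGr 𝒯) ψ.toLinearMap
    (isSegreMod_self 𝒜 ℬ 𝒯 ψ hψ hdegT) (resSelf 𝒯 IT) r s hvR hvS (r + s + 3) (by omega)
  have gsR : SetLike.GradedSMul 𝒜 ((resSelf 𝒜 I).Hgr mR (r + 1 + 1)) :=
    hgr_gradedSMul' 𝒜 (addGr 𝒜) (resSelf 𝒜 I) mR (r + 1 + 1)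
  have gsS : SetLike.GradedSMul ℬ ((resSelf ℬ J).Hgr mS (s + 1 + 1)) :=
    hgr_gradedSMul' ℬ (addGr ℬ) (resSelf ℬ J) mS (s + 1 + 1)
  -- nonvanishing of the pieces
  have hRc : I.Hgr mR (r + 2) c ≠ ⊥ := by
    intro hbot
    rw [Hgr_eq_bot_iff] at hbot
    rw [hbot] at hfr1
    simp at hfr1
  have hSc : J.Hgr mS (s + 2) c ≠ ⊥ := by
    intro hbot
    rw [Hgr_eq_bot_iff] at hbot
    rw [hbot] at hfs1
    simp at hfs1
  have hRne : ∀ j : ℤ, j ≤ c → ∃ x ∈ I.Hgr mR (r + 2) j, x ≠ 0 := by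
    intro j hj
    have h1 := Hgr_ne_bot_of_le (addGr 𝒜) (idealAdd 𝒜 mR) hmR' hstdR' (r + 2) hr (by omega)
      (resAdd 𝒜 𝒜 I) c hRc j hj
    exact (AddSubgroup.bot_or_exists_ne_zero _).resolve_left h1
  have hSne : ∀ j : ℤ, j ≤ c → ∃ y ∈ J.Hgr mS (s + 2) j, y ≠ 0 := by
    intro j hj
    have h1 := Hgr_ne_bot_of_le (addGr ℬ) (idealAdd ℬ mS) hmS' hstdS' (s + 2) hs (by omega)
      (resAdd ℬ ℬ J) c hSc j hj
    exact (AddSubgroup.bot_or_exists_ne_zero _).resolve_left h1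
  have hAne : ∀ i : ℤ, 0 ≤ i → ∃ ρ ∈ 𝒜 i, ρ ≠ 0 := fun i hi =>
    Submodule.exists_mem_ne_zero_of_ne_bot
      (piece_ne_bot_of_standard 𝒜 hposR h0R hstdR (r + 2) hr (by omega) i hi)
  have hBne : ∀ i : ℤ, 0 ≤ i → ∃ σ ∈ ℬ i, σ ≠ 0 := fun i hi =>
    Submodule.exists_mem_ne_zero_of_ne_bot
      (piece_ne_bot_of_standard ℬ hposS h0S hstdS (s + 2) hs (by omega) i hi)
  refine ⟨c, hfr1, hfs1, ?_, ?_, ?_, ?_⟩
  · intro j hj x hx hx0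
    obtain ⟨y, hy, hy0⟩ := hSne j hj
    exact left_sep 𝒜 ℬ 𝒯 ψ hT ((resSelf 𝒜 I).Hgr mR (r + 1 + 1))
      ((resSelf ℬ J).Hgr mS (s + 1 + 1)) ((resSelf 𝒯 IT).Hgr (irrH 𝒯) (r + s + 3)) Φ hΦi hΦd c
      hH2 j y hy hy0 x hx hx0
  · intro j hj ρ hρ hρ0
    obtain ⟨σ, hσ, hσ0⟩ := hBne (c - j) (by omega)
    have h1 := left_faith 𝒜 ℬ 𝒯 ψ hT ((resSelf 𝒜 I).Hgr mR (r + 1 + 1))
      ((resSelf ℬ J).Hgr mS (s + 1 + 1)) ((resSelf 𝒯 IT).Hgr (irrH 𝒯) (r + s + 3)) Φ hΦi hΦd c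
      hH3 (c - j) σ hσ hσ0 ρ hρ hρ0
    have e : c - (c - j) = j := by ring
    rwa [e] at h1
  · intro j hj y hy hy0
    obtain ⟨x, hx, hx0⟩ := hRne j hj
    exact right_sep 𝒜 ℬ 𝒯 ψ hT ((resSelf 𝒜 I).Hgr mR (r + 1 + 1))
      ((resSelf ℬ J).Hgr mS (s + 1 + 1)) ((resSelf 𝒯 IT).Hgr (irrH 𝒯) (r + s + 3)) Φ hΦi hΦd c
      hH2 j x hx hx0 y hy hy0
  · intro j hj σ hσ hσ0
    obtain ⟨ρ, hρ, hρ0⟩ := hAne (c - j) (by omega)
    have h1 := right_faith 𝒜 ℬ 𝒯 ψ hT ((resSelf 𝒜 I).Hgr mR (r + 1 + 1))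
      ((resSelf ℬ J).Hgr mS (s + 1 + 1)) ((resSelf 𝒯 IT).Hgr (irrH 𝒯) (r + s + 3)) Φ hΦi hΦd c
      hH3 (c - j) ρ hρ hρ0 σ hσ hσ0
    have e : c - (c - j) = j := by ring
    rwa [e] at h1

end Groth.Agent.Lib.helper26.GorSeg
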