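import Mathlib
import Groth.Prelude.Def_GrLC
import Groth.Prelude.Def_GrSeg
import Groth.Agent.Lib.Helper26.GorSeg11

/-!
# Gorenstein Segre products: the factors are Gorenstein with equal negative `a`-invariants
(helper26)
-/

set_option autoImplicit false
set_option linter.unusedSectionVars false
set_option linter.dupNamespace false
universe u
open scoped TensorProduct

namespace Groth.Agent.Lib.helper26.GorSeg

open GrLC Groth.Agent.Lib.helper26.Kun Groth.Agent.Lib.helper19.GrConv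
  Groth.Agent.Lib.helper19.GrMod Groth.Agent.Lib.helper19.GrLes
  Groth.Agent.Lib.helper26.GorS Groth.Agent.Lib.helper26.Seg Groth.Agent.Lib.helper26.Acyc

attribute [local instance] gsmulAdd gsmulSelf

/-- **if `R # S` is Gorenstein (`R`, `S` standard graded Cohen–Macaulay of dimension `≥ 2`), then
`R` and `S` are Gorenstein and `a(R) = a(S) < 0`** -/
theorem gor_factors_of_segre_gor {k : Type u} [Field k] {R : Type u} [CommRing R] [Algebra k R]
    (𝒜 : ℤ → Submodule k R) [GradedAlgebra 𝒜] (hposR : ∀ n : ℤ, n < 0 → 𝒜 n = ⊥)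
    (h0R : 𝒜 0 = Submodule.span k {(1 : R)}) [Algebra.FiniteType k R]
    {S : Type u} [CommRing S] [Algebra k S] (ℬ : ℤ → Submodule k S)
    [GradedAlgebra ℬ] (hposS : ∀ n : ℤ, n < 0 → ℬ n = ⊥)
    (h0S : ℬ 0 = Submodule.span k {(1 : S)}) [Algebra.FiniteType k S]
    {T : Type u} [CommRing T] [Algebra k T] (𝒯 : ℤ → Submodule k T) [GradedAlgebra 𝒯]
    (ψ : T →ₐ[k] R ⊗[k] S) (hψ : Function.Injective ψ)
    (hdegT : ∀ n : ℤ, (𝒯 n).map ψ.toLinearMap =
      Submodule.span k {x : R ⊗[k] S | ∃ a ∈ 𝒜 n, ∃ b ∈ ℬ n, x = a ⊗ₜ[k] b})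
    [LocCoh.IsCohenMacaulayRing R] [LocCoh.IsCohenMacaulayRing S] [LocCoh.IsGorensteinRing T]
    (mR : HomogeneousIdeal 𝒜) (hmR : mR.toIdeal = irr 𝒜)
    (hstdR : irr 𝒜 = Ideal.span ((𝒜 1 : Submodule k R) : Set R)) (I : StarInjRes 𝒜 𝒜)
    (mS : HomogeneousIdeal ℬ) (hmS : mS.toIdeal = irr ℬ)
    (hstdS : irr ℬ = Ideal.span ((ℬ 1 : Submodule k S) : Set S)) (J : StarInjRes ℬ ℬ)
    (r s : ℕ) (hr : ringKrullDim R = ((r + 2 : ℕ) : WithBot ℕ∞))
    (hs : ringKrullDim S = ((s + 2 : ℕ) : WithBot ℕ∞)) :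
    LocCoh.IsGorensteinRing R ∧ LocCoh.IsGorensteinRing S ∧
      endDeg (I.Hgr mR (r + 2)) = endDeg (J.Hgr mS (s + 2)) ∧
      endDeg (I.Hgr mR (r + 2)) < 0 := by
  classical
  have hntR : Nontrivial R := by
    by_contra hne
    rw [not_nontrivial_iff_subsingleton] at hne
    rw [ringKrullDim_eq_bot_of_subsingleton] at hr
    exact absurd hr (WithBot.bot_ne_coe)
  have hntS : Nontrivial S := by
    by_contra hne
    rw [not_nontrivial_iff_subsingleton] at hne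
    rw [ringKrullDim_eq_bot_of_subsingleton] at hs
    exact absurd hs (WithBot.bot_ne_coe)
  have hnoeR : IsNoetherianRing R := Algebra.FiniteType.isNoetherianRing k R
  have hnoeS : IsNoetherianRing S := Algebra.FiniteType.isNoetherianRing k S
  have hCMT : LocCoh.IsCohenMacaulayRing T :=
    { isCohenMacaulayLocalRing_localization := fun p _ => by
        have := LocCoh.IsGorensteinRing.isGorensteinLocalRing_localization (A := T) p
        exact Groth.Agent.S0341.result (Localization.AtPrime p) }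
  have hposR' := addGr_eq_bot_of_neg 𝒜 hposR
  have hposS' := addGr_eq_bot_of_neg ℬ hposS
  have hfR := isField_deg0_addGr 𝒜 h0R
  have hfS := isField_deg0_addGr ℬ h0S
  have hmR' : (idealAdd 𝒜 mR).toIdeal =
      Ideal.span (⋃ n ∈ Set.Ioi (0 : ℤ), (addGr 𝒜 n : Set R)) := hmR
  have hmS' : (idealAdd ℬ mS).toIdeal =
      Ideal.span (⋃ n ∈ Set.Ioi (0 : ℤ), (addGr ℬ n : Set S)) := hmS
  obtain ⟨c, hTR, hTS, hR2, hR3, hS2, hS3⟩ := perfect_of_segre_gor 𝒜 hposR h0R ℬ hposS h0S 𝒯 ψ hψ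
    hdegT mR hmR hstdR I mS hmS hstdS J r s hr hs
  have hGR : LocCoh.IsGorensteinRing R :=
    gor_of_perfect (addGr 𝒜) hposR' hfR (idealAdd 𝒜 mR) hmR' r hr (resAdd 𝒜 𝒜 I) c hTR hR2 hR3
  have hGS : LocCoh.IsGorensteinRing S :=
    gor_of_perfect (addGr ℬ) hposS' hfS (idealAdd ℬ mS) hmS' s hs (resAdd ℬ ℬ J) c hTS hS2 hS3
  have haR : endDeg (I.Hgr mR (r + 2)) = ((c : WithTop ℤ) : WithBot (WithTop ℤ)) :=
    endDeg_of_perfect (addGr 𝒜) hposR' hfR (idealAdd 𝒜 mR) hmR' r hr (resAdd 𝒜 𝒜 I) c hTR hR2 hR3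
  have haS : endDeg (J.Hgr mS (s + 2)) = ((c : WithTop ℤ) : WithBot (WithTop ℤ)) :=
    endDeg_of_perfect (addGr ℬ) hposS' hfS (idealAdd ℬ mS) hmS' s hs (resAdd ℬ ℬ J) c hTS hS2 hS3
  refine ⟨hGR, hGS, haR.trans haS.symm, ?_⟩
  exact ((cm_segre_ring_iff_ainv 𝒜 hposR h0R ℬ hposS h0S 𝒯 ψ hψ hdegT mR hmR hstdR I mS hmS hstdS J
    (r + 2) (s + 2) hr hs (by omega) (by omega)).1 hCMT).1

end Groth.Agent.Lib.helper26.GorSeg
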