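import Mathlib
import Groth.Prelude.Def_GrLC
import Groth.Prelude.Def_GrSeg
import Groth.Agent.Lib.Helper26.GorSeg4
import Groth.Agent.Lib.Helper26.GorB5

/-!
# The type of the Segre product of Gorenstein standard graded rings (helper26)
-/

set_option autoImplicit false
set_option linter.unusedSectionVars false
set_option linter.dupNamespace false
universe u
open scoped TensorProduct

namespace Groth.Agent.Lib.helper26.GorSeg

open GrLC Groth.Agent.Lib.helper26.Kun Groth.Agent.Lib.helper19.GrConv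
  Groth.Agent.Lib.helper19.GrMod Groth.Agent.Lib.helper19.GrLes
  Groth.Agent.Lib.helper26.GorS Groth.Agent.Lib.helper26.Seg Groth.Agent.Lib.helper26.Acyc
  Groth.Agent.Lib.helper26.GorB

attribute [local instance] gsmulAdd gsmulSelf

/-- **the type of the Segre product of rings with simple socles**, `a(S) ≤ a(R)`, `R` standard
graded -/
theorem bassNum_segre {k : Type u} [Field k] {R : Type u} [CommRing R] [Algebra k R]
    (𝒜 : ℤ → Submodule k R) [GradedAlgebra 𝒜] (hposR : ∀ n : ℤ, n < 0 → 𝒜 n = ⊥)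
    (h0R : 𝒜 0 = Submodule.span k {(1 : R)}) [Algebra.FiniteType k R]
    {S : Type u} [CommRing S] [Algebra k S] (ℬ : ℤ → Submodule k S)
    [GradedAlgebra ℬ] (hposS : ∀ n : ℤ, n < 0 → ℬ n = ⊥)
    (h0S : ℬ 0 = Submodule.span k {(1 : S)}) [Algebra.FiniteType k S]
    {T : Type u} [CommRing T] [Algebra k T] (𝒯 : ℤ → Submodule k T) [GradedAlgebra 𝒯]
    (ψ : T →ₐ[k] R ⊗[k] S) (hψ : Function.Injective ψ)
    (hdegT : ∀ n : ℤ, (𝒯 n).map ψ.toLinearMap =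
      Submodule.span k {x : R ⊗[k] S | ∃ a ∈ 𝒜 n, ∃ b ∈ ℬ n, x = a ⊗ₜ[k] b})
    [LocCoh.IsCohenMacaulayRing R] [LocCoh.IsCohenMacaulayRing T]
    (mR : HomogeneousIdeal 𝒜) (hmR : mR.toIdeal = irr 𝒜)
    (hstdR : irr 𝒜 = Ideal.span ((𝒜 1 : Submodule k R) : Set R)) (I : StarInjRes 𝒜 𝒜)
    (mS : HomogeneousIdeal ℬ) (hmS : mS.toIdeal = irr ℬ) (J : StarInjRes ℬ ℬ)
    (mT : HomogeneousIdeal 𝒯) [mT.toIdeal.IsMaximal] (hmT : mT.toIdeal = irr 𝒯)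
    (r s : ℕ) (hr : ringKrullDim R = ((r + 2 : ℕ) : WithBot ℕ∞))
    (hs : ringKrullDim S = ((s + 2 : ℕ) : WithBot ℕ∞))
    (hSR : SimpleSoc mR.toIdeal (I.H mR (r + 2)))
    (hSS : SimpleSoc mS.toIdeal (J.H mS (s + 2)))
    (a b : ℤ) (ha : endDeg (I.Hgr mR (r + 2)) = ((a : WithTop ℤ) : WithBot (WithTop ℤ)))
    (hb : endDeg (J.Hgr mS (s + 2)) = ((b : WithTop ℤ) : WithBot (WithTop ℤ))) (hab : b ≤ a) :
    bassNum mT.toIdeal T (r + s + 3) = (Module.finrank k (𝒜 (a - b)) : ℕ∞) := by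
  classical
  have hntR : Nontrivial R := by
    by_contra hne
    rw [not_nontrivial_iff_subsingleton] at hne
    rw [ringKrullDim_eq_bot_of_subsingleton] at hr
    exact absurd hr (WithBot.bot_ne_coe)
  have hntS : Nontrivial S := by
    by_contra hne
    rw [not_nontrivial_iff_subsingleton] at hne
    rw [ringKrullDim_eq_bot_of_subsingleton] at hs
    exact absurd hs (WithBot.bot_ne_coe)
  have hnoeR : IsNoetherianRing R := Algebra.FiniteType.isNoetherianRing k R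
  have hnoeS : IsNoetherianRing S := Algebra.FiniteType.isNoetherianRing k S
  have hFT : Algebra.FiniteType k T := finiteType_segre 𝒜 ℬ 𝒯 ψ hdegT hψ hposR h0R hposS h0S
  have hnoeT : IsNoetherianRing T := Algebra.FiniteType.isNoetherianRing k T
  have hNT : Nontrivial T := ψ.toRingHom.domain_nontrivial
  have h0T : 𝒯 0 = Submodule.span k {(1 : T)} := pieceT_zero 𝒜 ℬ 𝒯 ψ hdegT hψ h0R h0S
  have hposT : ∀ n : ℤ, n < 0 → addGr 𝒯 n = ⊥ := by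
    intro n hn
    rw [eq_bot_iff]
    intro t ht
    have h1 : ψ t ∈ (𝒯 n).map ψ.toLinearMap := ⟨t, ht, rfl⟩
    rw [hdegT n] at h1
    have h2 : Submodule.span k {x : R ⊗[k] S | ∃ a ∈ 𝒜 n, ∃ b ∈ ℬ n, x = a ⊗ₜ[k] b} = ⊥ := by
      rw [Submodule.span_eq_bot]
      rintro x ⟨a, ha, b, hb, rfl⟩
      rw [hposR n hn, Submodule.mem_bot] at ha
      rw [ha, TensorProduct.zero_tmul]
    rw [h2, Submodule.mem_bot] at h1
    rw [AddSubgroup.mem_bot]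
    exact hψ (h1.trans (map_zero ψ).symm)
  obtain ⟨IT⟩ := exists_starInjRes_self 𝒯
  have hposR' := addGr_eq_bot_of_neg 𝒜 hposR
  have hposS' := addGr_eq_bot_of_neg ℬ hposS
  have hfR := isField_deg0_addGr 𝒜 h0R
  have hfS := isField_deg0_addGr ℬ h0S
  have hfT := isField_deg0_addGr 𝒯 h0T
  have hmR' : (idealAdd 𝒜 mR).toIdeal =
      Ideal.span (⋃ n ∈ Set.Ioi (0 : ℤ), (addGr 𝒜 n : Set R)) := hmR
  have hmS' : (idealAdd ℬ mS).toIdeal =
      Ideal.span (⋃ n ∈ Set.Ioi (0 : ℤ), (addGr ℬ n : Set S)) := hmS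
  have hmT' : (idealAdd 𝒯 mT).toIdeal =
      Ideal.span (⋃ n ∈ Set.Ioi (0 : ℤ), (addGr 𝒯 n : Set T)) := hmT
  have hstd' : Ideal.span (⋃ n ∈ Set.Ioi (0 : ℤ), (addGr 𝒜 n : Set R)) =
      Ideal.span ((addGr 𝒜 1 : AddSubgroup R) : Set R) := hstdR
  have hX : ∀ j : ℤ, j < b → ∀ x ∈ I.Hgr mR (r + 1 + 1) j, x ≠ 0 →
      ∃ c ∈ 𝒜 (b - j), c • x ≠ 0 := by
    intro j hj x hx hne
    by_contra hcon
    push Not at hcon
    obtain ⟨c, hc, hcx⟩ := exists_smul_ne_zero_of_simpleSoc (addGr 𝒜) hposR' hfR (idealAdd 𝒜 mR)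
      hmR' (resAdd 𝒜 𝒜 I) (r + 2) hSR a ha hx hne
    have h1 := smul_eq_zero_of_forall_smul (𝒜 := addGr 𝒜) hstd' x (b - j) (by omega) hcon
      (a - b).toNat c
    apply hcx
    apply h1
    have e : b - j + ((a - b).toNat : ℤ) = a - j := by
      rw [Int.toNat_of_nonneg (by omega)]
      ring
    rw [e]
    exact hc
  have hY : ∀ j : ℤ, j < b → ∀ y ∈ J.Hgr mS (s + 1 + 1) j, y ≠ 0 →
      ∃ c ∈ ℬ (b - j), c • y ≠ 0 := fun j _ y hy hne =>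
    exists_smul_ne_zero_of_simpleSoc (addGr ℬ) hposS' hfS (idealAdd ℬ mS) hmS' (resAdd ℬ ℬ J)
      (s + 2) hSS b hb hy hne
  have htop : ∀ j : ℤ, b < j → I.Hgr mR (r + 1 + 1) j = ⊥ ∨ J.Hgr mS (s + 1 + 1) j = ⊥ := by
    intro j hj
    right
    by_contra hne
    have h1 := le_endDeg (J.Hgr mS (s + 1 + 1)) hne
    have hb1 : endDeg (J.Hgr mS (s + 1 + 1)) = ((b : WithTop ℤ) : WithBot (WithTop ℤ)) := hb
    rw [hb1, WithBot.coe_le_coe, WithTop.coe_le_coe] at h1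
    omega
  have hiff := segre_soc_ring 𝒜 hposR h0R ℬ hposS h0S 𝒯 ψ hψ hdegT mR hmR I mS hmS J
    mT hmT IT r s hr hs (r + s + 3) (by omega) b hX hY htop
  have hdim : ringKrullDim T = ((r + s + 3 : ℕ) : WithBot ℕ∞) := by
    have h1 := ringKrullDim_segre k R 𝒜 hposR h0R S ℬ hposS h0S T 𝒯 ψ hψ hdegT (r + 2) (s + 2)
      hr hs (by omega) (by omega)
    rw [h1]
    congr 1
    omega
  have hmaxT : (idealAdd 𝒯 mT).toIdeal.IsMaximal := ‹mT.toIdeal.IsMaximal›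
  let _ : Field (deg0 (addGr 𝒯)) := hfT.toField
  have h1 := bassNum_eq_length_soc (addGr 𝒯) hposT hfT (idealAdd 𝒯 mT) hmT' (r + s + 3) hdim
    (resAdd 𝒯 𝒯 IT)
  have h2 := length_eq_length_deg0 (addGr 𝒯) hposT hfT (idealAdd 𝒯 mT) hmT'
    ↥(socSub (idealAdd 𝒯 mT).toIdeal ((resAdd 𝒯 𝒯 IT).H (idealAdd 𝒯 mT) (r + s + 3)))
    (fun a ha v => Subtype.ext (v.2 a ha))
  let e : ↥(socSub (idealAdd 𝒯 mT).toIdeal ((resAdd 𝒯 𝒯 IT).H (idealAdd 𝒯 mT) (r + s + 3)))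
      ≃ₗ[deg0 (addGr 𝒯)] ↥((resAdd 𝒯 𝒯 IT).Hcomp (idealAdd 𝒯 mT) (r + s + 3) b) :=
    { toFun := fun y => ⟨y.1, (hiff y.1).mp y.2⟩
      invFun := fun y => ⟨y.1, (hiff y.1).mpr y.2⟩
      map_add' := fun _ _ => rfl
      map_smul' := fun _ _ => rfl
      left_inv := fun _ => rfl
      right_inv := fun _ => rfl }
  have h3 := e.length_eq
  have hfg := (Groth.Agent.Lib.helper19.GrFin.main (addGr 𝒯) hposT (idealAdd 𝒯 mT) hmT'
    (r + s + 3) T (addGr 𝒯) (resAdd 𝒯 𝒯 IT)).1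
  have hfin : Module.Finite (deg0 (addGr 𝒯))
      ↥((resAdd 𝒯 𝒯 IT).Hcomp (idealAdd 𝒯 mT) (r + s + 3) b) := Module.Finite.iff_fg.2 (hfg _)
  have h4 := Module.length_eq_finrank (deg0 (addGr 𝒯))
    ↥((resAdd 𝒯 𝒯 IT).Hcomp (idealAdd 𝒯 mT) (r + s + 3) b)
  have h5 : Module.finrank (deg0 (addGr 𝒯))
      ↥((resAdd 𝒯 𝒯 IT).Hcomp (idealAdd 𝒯 mT) (r + s + 3) b) = _ :=
    kunneth_segre_ring_top 𝒜 hposR h0R ℬ hposS h0S 𝒯 ψ hψ hdegT mR hmR I mS hmS J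
      mT hmT IT r s hr hs b
  have h6 : Module.finrank (deg0 𝒜) (I.Hcomp mR (r + 2) (a - (a - b))) = _ :=
    finrank_Hcomp_eq (addGr 𝒜) hposR' hfR (idealAdd 𝒜 mR) hmR' (r + 2) hr (resAdd 𝒜 𝒜 I) hSR a ha
      (a - b)
  rw [sub_sub_cancel] at h6
  have h7 : Module.finrank (deg0 ℬ) (J.Hcomp mS (s + 2) b) = 1 :=
    finrank_Hcomp_top (addGr ℬ) hposS' hfS (idealAdd ℬ mS) hmS' (s + 2) (resAdd ℬ ℬ J) hSS b hb
  have h8 := finrank_comp_self 𝒜 h0R (a - b)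
  have h9 : bassNum mT.toIdeal T (r + s + 3) = _ := h1
  rw [h9, h2, h3, h4, h5, h6, h7, mul_one]
  exact congrArg _ h8
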