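import Mathlib
import Groth.Agent.Lib.Helper26.GrUnit1

/-!
# `ℤ`-graded rings with a homogeneous unit of degree one (helper26)

If `t ∈ S₁` is a unit then `S₀ ≅ S/(t - 1)`, and `t - 1` is a non-zero-divisor.
-/

set_option autoImplicit false
set_option linter.unusedSectionVars false
universe u

namespace Groth.Agent.Lib.helper26.GrUnit

open DirectSum
open GrLoc (D0)
open scoped Classical

variable {S : Type u} [CommRing S] (𝒮 : ℤ → AddSubgroup S) [GradedRing 𝒮]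
variable (t : Sˣ) (ht : (t : S) ∈ 𝒮 (1 : ℤ)) (ht' : ((t⁻¹ : Sˣ) : S) ∈ 𝒮 (-(1 : ℤ)))

include ht ht' in
theorem zpow_mem_one (k : ℤ) : ((t ^ k : Sˣ) : S) ∈ 𝒮 k := by
  have h := zpow_mem 𝒮 t 1 (by simpa using ht) (by simpa using ht') k
  simpa using h

include ht ht' in
theorem mul_zpow_neg_mem {n : ℤ} {a : S} (ha : a ∈ 𝒮 n) : a * ((t ^ (-n) : Sˣ) : S) ∈ 𝒮 0 := by
  have := SetLike.GradedMul.mul_mem ha (zpow_mem_one 𝒮 t ht ht' (-n))
  rwa [add_neg_cancel] at this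

/-- the additive maps `S_n → S₀`, `a ↦ a t^{-n}` -/
noncomputable def evAdd (n : ℤ) : 𝒮 n →+ D0 𝒮 where
  toFun a := ⟨(a : S) * ((t ^ (-n) : Sˣ) : S), mul_zpow_neg_mem 𝒮 t ht ht' a.2⟩
  map_zero' := by
    apply Subtype.ext
    simp
  map_add' a b := by
    apply Subtype.ext
    simp [add_mul]

/-- evaluation at `t = 1`: `S → S₀`, `∑ aₙ ↦ ∑ aₙ t^{-n}` -/
noncomputable def ev : S →+* D0 𝒮 :=
  (DirectSum.toSemiring (evAdd 𝒮 t ht ht')
    (by
      apply Subtype.ext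
      show (1 : S) * ((t ^ (-(0 : ℤ)) : Sˣ) : S) = 1
      simp)
    (by
      intro i j ai aj
      apply Subtype.ext
      show ((ai : S) * (aj : S)) * ((t ^ (-(i + j)) : Sˣ) : S) =
        ((ai : S) * ((t ^ (-i) : Sˣ) : S)) * ((aj : S) * ((t ^ (-j) : Sˣ) : S))
      rw [neg_add, zpow_add, Units.val_mul]
      ring)).comp
    (DirectSum.decomposeRingEquiv 𝒮).toRingHom

theorem coe_ev_of_mem {n : ℤ} {a : S} (ha : a ∈ 𝒮 n) :
    ((ev 𝒮 t ht ht' a : D0 𝒮) : S) = a * ((t ^ (-n) : Sˣ) : S) := by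
  unfold ev
  rw [RingHom.comp_apply]
  have h1 : (DirectSum.decomposeRingEquiv 𝒮).toRingHom a =
      DirectSum.of (fun i => 𝒮 i) n ⟨a, ha⟩ := DirectSum.decompose_of_mem 𝒮 ha
  rw [h1, DirectSum.toSemiring_of]
  rfl

theorem ev_coe (x : D0 𝒮) : ev 𝒮 t ht ht' (x : S) = x := by
  apply Subtype.ext
  rw [coe_ev_of_mem 𝒮 t ht ht' (n := 0) x.2, neg_zero, zpow_zero, Units.val_one, mul_one]

theorem ev_surjective : Function.Surjective (ev 𝒮 t ht ht') :=
  fun x => ⟨(x : S), ev_coe 𝒮 t ht ht' x⟩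

theorem ev_t : ev 𝒮 t ht ht' (t : S) = 1 := by
  apply Subtype.ext
  rw [coe_ev_of_mem 𝒮 t ht ht' ht, ← Units.val_mul, ← zpow_one_add, add_neg_cancel, zpow_zero,
    Units.val_one]
  rfl

theorem zpow_sub_one_mem (k : ℤ) :
    ((t ^ k : Sˣ) : S) - 1 ∈ Ideal.span {(t : S) - 1} := by
  induction k using Int.induction_on with
  | zero => simp
  | succ k ih =>
    have : ((t ^ ((k : ℤ) + 1) : Sˣ) : S) - 1 =
        ((t ^ (k : ℤ) : Sˣ) : S) * ((t : S) - 1) + (((t ^ (k : ℤ) : Sˣ) : S) - 1) := by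
      rw [zpow_add_one, Units.val_mul]
      ring
    rw [this]
    exact Ideal.add_mem _ (Ideal.mul_mem_left _ _ (Ideal.mem_span_singleton_self _)) ih
  | pred k ih =>
    have : ((t ^ (-(k : ℤ) - 1) : Sˣ) : S) - 1 =
        (((t ^ (-(k : ℤ)) : Sˣ) : S) - 1) -
          ((t ^ (-(k : ℤ) - 1) : Sˣ) : S) * ((t : S) - 1) := by
      have h1 : ((t ^ (-(k : ℤ)) : Sˣ) : S) = ((t ^ (-(k : ℤ) - 1) : Sˣ) : S) * (t : S) := by
        rw [← Units.val_mul, ← zpow_add_one, sub_add_cancel]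
      rw [h1]
      ring
    rw [this]
    exact Ideal.sub_mem _ ih (Ideal.mul_mem_left _ _ (Ideal.mem_span_singleton_self _))

theorem sub_ev_mem (z : S) : z - ((ev 𝒮 t ht ht' z : D0 𝒮) : S) ∈ Ideal.span {(t : S) - 1} := by
  rw [← DirectSum.sum_support_decompose 𝒮 z, map_sum]
  rw [AddSubmonoidClass.coe_finset_sum, ← Finset.sum_sub_distrib]
  refine Ideal.sum_mem _ fun n _ => ?_
  rw [coe_ev_of_mem 𝒮 t ht ht' (SetLike.coe_mem (DirectSum.decompose 𝒮 z n))]
  have : ((DirectSum.decompose 𝒮 z n : 𝒮 n) : S) -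
      ((DirectSum.decompose 𝒮 z n : 𝒮 n) : S) * ((t ^ (-n) : Sˣ) : S) =
      -(((DirectSum.decompose 𝒮 z n : 𝒮 n) : S) * (((t ^ (-n) : Sˣ) : S) - 1)) := by ring
  rw [this]
  exact Ideal.neg_mem_iff _ |>.2 (Ideal.mul_mem_left _ _ (zpow_sub_one_mem t (-n)))

theorem ker_ev : RingHom.ker (ev 𝒮 t ht ht') = Ideal.span {(t : S) - 1} := by
  apply le_antisymm
  · intro z hz
    rw [RingHom.mem_ker] at hz
    have := sub_ev_mem 𝒮 t ht ht' z
    rwa [hz, ZeroMemClass.coe_zero, sub_zero] at this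
  · rw [Ideal.span_singleton_le_iff_mem, RingHom.mem_ker, map_sub, ev_t, map_one, sub_self]

include ht in
/-- `t - 1` is a non-zero-divisor -/
theorem isSMulRegular_sub_one : IsSMulRegular S ((t : S) - 1) := by
  rw [isSMulRegular_iff_right_eq_zero_of_smul]
  intro w hw
  rw [smul_eq_mul, sub_mul, one_mul, sub_eq_zero] at hw
  by_contra hne
  have hsupp : (DirectSum.decompose 𝒮 w).support.Nonempty := by
    rw [Finset.nonempty_iff_ne_empty]
    intro h
    apply hne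
    rw [← DirectSum.sum_support_decompose 𝒮 w, h, Finset.sum_empty]
  set n₀ := (DirectSum.decompose 𝒮 w).support.min' hsupp with hn₀
  have hmem : n₀ ∈ (DirectSum.decompose 𝒮 w).support := Finset.min'_mem _ hsupp
  have hne0 : ((DirectSum.decompose 𝒮 w n₀ : 𝒮 n₀) : S) ≠ 0 := by
    rw [DFinsupp.mem_support_iff] at hmem
    intro h
    apply hmem
    exact Subtype.ext h
  have hprev : ((DirectSum.decompose 𝒮 w (n₀ - 1) : 𝒮 (n₀ - 1)) : S) = 0 := by
    by_contra h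
    have hm : n₀ - 1 ∈ (DirectSum.decompose 𝒮 w).support := by
      rw [DFinsupp.mem_support_iff]
      intro h'
      apply h
      rw [h']
      rfl
    have := Finset.min'_le _ _ hm
    omega
  have h1 := DirectSum.coe_decompose_mul_add_of_left_mem 𝒮 (i := 1) (j := n₀ - 1) (a := (t : S))
    (b := w) ht
  rw [hprev, mul_zero, hw] at h1
  apply hne0
  have h2 : (1 : ℤ) + (n₀ - 1) = n₀ := by ring
  rw [h2] at h1
  exact h1

end Groth.Agent.Lib.helper26.GrUnit
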