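import Mathlib
import Groth.Agent.Lib.Helper26.GrLoc5
import Groth.Agent.Lib.Helper26.GrUnit4
import Groth.Agent.Lib.Helper26.ExtRees2
import Groth.Agent.Lib.Helper17.GorRing
import Groth.Agent.Lib.Helper17.GorIso

/-!
# Local rings of `Proj` of a Gorenstein graded ring satisfying condition (#) (helper26)
-/

set_option autoImplicit false
set_option linter.unusedSectionVars false
universe u

namespace Groth.Agent.Lib.helper26.GrLoc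

open DirectSum LocCoh
open scoped Classical Pointwise

/-- a local Gorenstein ring is a Gorenstein local ring -/
theorem isGorensteinLocalRing_of_isGorensteinRing (R : Type u) [CommRing R] [h : IsGorensteinRing R]
    [IsLocalRing R] : IsGorensteinLocalRing R := by
  have h1 := h.isGorensteinLocalRing_localization (IsLocalRing.maximalIdeal R)
  have e : R ≃+* Localization.AtPrime (IsLocalRing.maximalIdeal R) :=
    (IsLocalization.atUnits R (IsLocalRing.maximalIdeal R).primeCompl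
      (fun x hx => IsLocalRing.notMem_maximalIdeal.1 hx)).toRingEquiv
  exact Groth.Agent.Lib.helper17.GorIso.isGorensteinLocalRing_of_ringEquiv e h1

variable {A : Type u} [CommRing A] (𝒜 : ℕ → AddSubgroup A) [GradedRing 𝒜]
variable (p : Ideal A) [hp : p.IsPrime]

/-- under condition (#), all pieces of large degree miss `p` -/
theorem exists_notMem_of_sharp (hph : p.IsHomogeneous 𝒜)
    (hirr : ¬ (HomogeneousIdeal.irrelevant 𝒜).toIdeal ≤ p)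
    (hsharp : ∃ d₀ : ℕ, ∀ d : ℕ, d₀ ≤ d → ∀ n : ℕ, 1 ≤ n →
      𝒜 ((n + 1) * d) = AddSubgroup.closure ((𝒜 d : Set A) * (𝒜 (n * d) : Set A))) :
    ∃ d₀ : ℕ, ∀ d : ℕ, d₀ ≤ d → ∃ g ∈ 𝒜 d, g ∉ p := by
  obtain ⟨e, f, he, hf, hfp⟩ := exists_pos_notMem 𝒜 p hph hirr
  obtain ⟨d₀, hd₀⟩ := hsharp
  refine ⟨d₀, fun d hd => ?_⟩
  by_contra hcon
  push_neg at hcon
  have h1 := hd₀ d hd (2 * e - 1) (by omega)
  have h2 : (2 * e - 1 + 1) * d = (2 * d) • e := by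
    have : 2 * e - 1 + 1 = 2 * e := by omega
    rw [this, smul_eq_mul]
    ring
  have h3 : f ^ (2 * d) ∈ 𝒜 ((2 * e - 1 + 1) * d) := by
    rw [h2]
    exact SetLike.pow_mem_graded (2 * d) hf
  rw [h1] at h3
  have hle : AddSubgroup.closure ((𝒜 d : Set A) * (𝒜 ((2 * e - 1) * d) : Set A)) ≤
      p.toAddSubgroup := by
    rw [AddSubgroup.closure_le]
    rintro _ ⟨a, ha, b, _, rfl⟩
    exact Ideal.mul_mem_right _ _ (hcon a ha)
  exact hfp (hp.mem_of_pow_mem _ (hle h3))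

variable {d : ℕ} {g g' : A} (hg : g ∈ 𝒜 d) (hgp : g ∉ p) (hg' : g' ∈ 𝒜 (d + 1)) (hgp' : g' ∉ p)

/-- the homogeneous unit `g'/g` of degree one of `T⁻¹A` -/
noncomputable def tUnit1 : (SS 𝒜 p)ˣ where
  val := IsLocalization.mk' (SS 𝒜 p) g' (⟨g, mem_homCompl 𝒜 p hg hgp⟩ : homCompl 𝒜 p)
  inv := IsLocalization.mk' (SS 𝒜 p) g (⟨g', mem_homCompl 𝒜 p hg' hgp'⟩ : homCompl 𝒜 p)
  val_inv := IsLocalization.mk'_mul_mk'_eq_one
    (⟨g', mem_homCompl 𝒜 p hg' hgp'⟩ : homCompl 𝒜 p) (⟨g, mem_homCompl 𝒜 p hg hgp⟩ : homCompl 𝒜 p)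
  inv_val := IsLocalization.mk'_mul_mk'_eq_one
    (⟨g, mem_homCompl 𝒜 p hg hgp⟩ : homCompl 𝒜 p) (⟨g', mem_homCompl 𝒜 p hg' hgp'⟩ : homCompl 𝒜 p)

theorem tUnit1_mem :
    ((tUnit1 𝒜 p hg hgp hg' hgp' : (SS 𝒜 p)ˣ) : SS 𝒜 p) ∈ grS 𝒜 p (1 : ℤ) := by
  have := mk'_mem_gr cN 𝒜 (homCompl 𝒜 p) (homCompl_hom 𝒜 p) hg'
    (⟨g, mem_homCompl 𝒜 p hg hgp⟩ : homCompl 𝒜 p) hg
  have h0 : cN (d + 1) - cN d = (1 : ℤ) := by simp
  rwa [h0] at this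

theorem tUnit1_inv_mem :
    (((tUnit1 𝒜 p hg hgp hg' hgp')⁻¹ : (SS 𝒜 p)ˣ) : SS 𝒜 p) ∈ grS 𝒜 p (-(1 : ℤ)) := by
  have := mk'_mem_gr cN 𝒜 (homCompl 𝒜 p) (homCompl_hom 𝒜 p) hg
    (⟨g', mem_homCompl 𝒜 p hg' hgp'⟩ : homCompl 𝒜 p) hg'
  have h0 : cN d - cN (d + 1) = (-(1 : ℤ)) := by simp
  rwa [h0] at this

/-- `A_(p)` is Gorenstein if `A` is and (#) holds -/
theorem isGorensteinLocalRing_atPrime [IsGorensteinRing A] (hph : p.IsHomogeneous 𝒜)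
    (hirr : ¬ (HomogeneousIdeal.irrelevant 𝒜).toIdeal ≤ p)
    (hsharp : ∃ d₀ : ℕ, ∀ d : ℕ, d₀ ≤ d → ∀ n : ℕ, 1 ≤ n →
      𝒜 ((n + 1) * d) = AddSubgroup.closure ((𝒜 d : Set A) * (𝒜 (n * d) : Set A))) :
    IsGorensteinLocalRing (HomogeneousLocalization.AtPrime 𝒜 p) := by
  obtain ⟨d₀, hd₀⟩ := exists_notMem_of_sharp 𝒜 p hph hirr hsharp
  obtain ⟨g, hg, hgp⟩ := hd₀ d₀ le_rfl
  obtain ⟨g', hg', hgp'⟩ := hd₀ (d₀ + 1) (Nat.le_succ _)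
  haveI : IsGorensteinRing (SS 𝒜 p) :=
    Groth.Agent.Lib.helper17.GorRing.isGorensteinRing_of_isLocalization (homCompl 𝒜 p)
  haveI := isLocalRing_zero 𝒜 p hph
  haveI : IsGorensteinRing (D0 (grS 𝒜 p)) :=
    Groth.Agent.Lib.helper26.ExtRees.isGorensteinRing_of_surjective
      (GrUnit.ev (grS 𝒜 p) (tUnit1 𝒜 p hg hgp hg' hgp') (tUnit1_mem 𝒜 p hg hgp hg' hgp')
        (tUnit1_inv_mem 𝒜 p hg hgp hg' hgp'))
      (GrUnit.ev_surjective _ _ _ _) _ (GrUnit.ker_ev _ _ _ _)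
      (GrUnit.isSMulRegular_sub_one (grS 𝒜 p) _ (tUnit1_mem 𝒜 p hg hgp hg' hgp'))
  have h0 := isGorensteinLocalRing_of_isGorensteinRing (D0 (grS 𝒜 p))
  exact Groth.Agent.Lib.helper17.GorIso.isGorensteinLocalRing_of_ringEquiv (zeroEquiv 𝒜 p hph).symm h0

end Groth.Agent.Lib.helper26.GrLoc
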