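import Mathlib
import Groth.Agent.Lib.Helper26.GrUnit1

/-!
# The degree zero part of an integrally closed `ℤ`-graded domain is integrally closed (helper26)
-/

set_option autoImplicit false
set_option linter.unusedSectionVars false
universe u

namespace Groth.Agent.Lib.helper26.GrUnit

open DirectSum
open GrLoc (D0)
open scoped Classical

variable {S : Type u} [CommRing S] (𝒮 : ℤ → AddSubgroup S) [GradedRing 𝒮]

/-- a `ℤ`-graded ring without homogeneous zero divisors is a domain -/
theorem isDomain_of_homogeneous [Nontrivial S]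
    (h : ∀ {x y : S}, SetLike.IsHomogeneousElem 𝒮 x → SetLike.IsHomogeneousElem 𝒮 y →
      x * y = 0 → x = 0 ∨ y = 0) : IsDomain S := by
  have hb : (⊥ : Ideal S).IsPrime := by
    refine (Ideal.IsHomogeneous.bot 𝒮).isPrime_of_homogeneous_mem_or_mem bot_ne_top ?_
    intro x y hx hy hxy
    rw [Ideal.mem_bot] at hxy ⊢
    rw [Ideal.mem_bot]
    exact h hx hy hxy
  exact IsDomain.of_bot_isPrime S

theorem isIntegrallyClosed_zero [IsDomain S] [IsIntegrallyClosed S] :
    IsIntegrallyClosed (D0 𝒮) := by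
  rw [isIntegrallyClosed_iff (FractionRing (D0 𝒮))]
  intro x hx
  obtain ⟨a, b, hb, rfl⟩ := IsFractionRing.div_surjective (A := D0 𝒮) x
  have hb0 : b ≠ 0 := nonZeroDivisors.ne_zero hb
  have hbS : (b : S) ≠ 0 := fun h => hb0 (Subtype.ext h)
  have hinj : Function.Injective (algebraMap (D0 𝒮) (FractionRing S)) := by
    rw [IsScalarTower.algebraMap_eq (D0 𝒮) S (FractionRing S)]
    exact (IsFractionRing.injective S (FractionRing S)).comp Subtype.val_injective
  have hinj' : Function.Injective (Algebra.ofId (D0 𝒮) (FractionRing S)) := hinj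
  let ι : FractionRing (D0 𝒮) →ₐ[D0 𝒮] FractionRing S := IsFractionRing.liftAlgHom hinj'
  have h1 : IsIntegral (D0 𝒮) (ι (algebraMap (D0 𝒮) (FractionRing (D0 𝒮)) a /
      algebraMap (D0 𝒮) (FractionRing (D0 𝒮)) b)) := hx.map ι
  have h2 : IsIntegral S (ι (algebraMap (D0 𝒮) (FractionRing (D0 𝒮)) a /
      algebraMap (D0 𝒮) (FractionRing (D0 𝒮)) b)) := h1.tower_top
  obtain ⟨w, hw⟩ := (isIntegrallyClosed_iff (FractionRing S)).1 inferInstance h2
  rw [map_div₀, AlgHom.commutes, AlgHom.commutes, IsScalarTower.algebraMap_apply (D0 𝒮) S (FractionRing S) a,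
    IsScalarTower.algebraMap_apply (D0 𝒮) S (FractionRing S) b] at hw
  have hbK : algebraMap S (FractionRing S) (algebraMap (D0 𝒮) S b) ≠ 0 := by
    rw [Ne, map_eq_zero_iff _ (IsFractionRing.injective S (FractionRing S))]
    exact hbS
  have hwb : w * (b : S) = (a : S) := by
    apply IsFractionRing.injective S (FractionRing S)
    rw [map_mul, hw]
    exact div_mul_cancel₀ _ hbK
  -- pass to the degree zero component
  have hw0 : ((DirectSum.decompose 𝒮 w 0 : 𝒮 0) : S) * (b : S) = (a : S) := by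
    have h := DirectSum.coe_decompose_mul_add_of_right_mem 𝒮 (i := 0) (j := 0) (a := w)
      (b := (b : S)) b.2
    rw [add_zero, hwb, DirectSum.decompose_of_mem_same 𝒮 a.2] at h
    exact h.symm
  refine ⟨⟨((DirectSum.decompose 𝒮 w 0 : 𝒮 0) : S), SetLike.coe_mem _⟩, ?_⟩
  have hbK0 : algebraMap (D0 𝒮) (FractionRing (D0 𝒮)) b ≠ 0 := by
    rw [Ne, map_eq_zero_iff _ (IsFractionRing.injective (D0 𝒮) (FractionRing (D0 𝒮)))]
    exact hb0
  rw [eq_div_iff hbK0, ← map_mul]
  congr 1
  exact Subtype.ext hw0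

end Groth.Agent.Lib.helper26.GrUnit
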