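import Mathlib
import Groth.Agent.Lib.Helper26.GrLoc5
import Groth.Agent.Lib.Helper26.GrUnit5
import Groth.Agent.Lib.Helper26.ExtRees7

/-!
# Local rings of `Proj` of a normal graded ring (helper26)
-/

set_option autoImplicit false
set_option linter.unusedSectionVars false
universe u

namespace Groth.Agent.Lib.helper26.GrLoc

open DirectSum LocCoh
open scoped Classical

variable {A : Type u} [CommRing A] (𝒜 : ℕ → AddSubgroup A) [GradedRing 𝒜]
variable (p : Ideal A) [hp : p.IsPrime]

theorem isDomain_SS (hph : p.IsHomogeneous 𝒜) [IsDomain (Localization.AtPrime p)] :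
    IsDomain (SS 𝒜 p) := by
  haveI : Nontrivial (SS 𝒜 p) := by
    refine ⟨⟨0, 1, fun h => ?_⟩⟩
    have := congrArg (toAtPrime 𝒜 p) h
    rw [map_zero, map_one] at this
    exact zero_ne_one this
  refine GrUnit.isDomain_of_homogeneous (grS 𝒜 p) ?_
  rintro x y ⟨i, hx⟩ ⟨j, hy⟩ hxy
  have h := congrArg (toAtPrime 𝒜 p) hxy
  rw [map_mul, map_zero] at h
  rcases mul_eq_zero.1 h with h | h
  · left
    exact toAtPrime_eq_zero 𝒜 p hph hx h
  · right
    exact toAtPrime_eq_zero 𝒜 p hph hy h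

theorem isIntegrallyClosed_SS (hph : p.IsHomogeneous 𝒜) [IsDomain (Localization.AtPrime p)]
    (hA : ∀ (q : Ideal A) [q.IsPrime], IsIntegrallyClosed (Localization.AtPrime q)) :
    haveI := isDomain_SS 𝒜 p hph
    IsIntegrallyClosed (SS 𝒜 p) := by
  haveI := isDomain_SS 𝒜 p hph
  refine IsIntegrallyClosed.of_localization_maximal fun Q _ hQ => ?_
  haveI : Q.IsPrime := hQ.isPrime
  haveI : (Q.comap (algebraMap A (SS 𝒜 p))).IsPrime := Ideal.comap_isPrime _ Q
  obtain ⟨e⟩ := Groth.Agent.Lib.helper26.ExtRees.nonempty_locEquiv' (homCompl 𝒜 p)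
    (Q.comap (algebraMap A (SS 𝒜 p))) Q rfl
  haveI := hA (Q.comap (algebraMap A (SS 𝒜 p)))
  exact IsIntegrallyClosed.of_equiv e

/-- `A_(p)` is an integrally closed domain if all `A_q` are -/
theorem isIntegrallyClosed_atPrime (hph : p.IsHomogeneous 𝒜)
    (hA : ∀ (q : Ideal A) [q.IsPrime], IsDomain (Localization.AtPrime q) ∧
      IsIntegrallyClosed (Localization.AtPrime q)) :
    IsDomain (HomogeneousLocalization.AtPrime 𝒜 p) ∧
      IsIntegrallyClosed (HomogeneousLocalization.AtPrime 𝒜 p) := by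
  haveI := (hA p).1
  haveI := isDomain_SS 𝒜 p hph
  haveI := isIntegrallyClosed_SS 𝒜 p hph (fun q _ => (hA q).2)
  haveI : IsDomain (HomogeneousLocalization.AtPrime 𝒜 p) :=
    Function.Injective.isDomain
      (algebraMap (HomogeneousLocalization.AtPrime 𝒜 p) (Localization.AtPrime p))
      (HomogeneousLocalization.val_injective _)
  haveI := GrUnit.isIntegrallyClosed_zero (grS 𝒜 p)
  exact ⟨inferInstance, IsIntegrallyClosed.of_equiv (zeroEquiv 𝒜 p hph)⟩

end Groth.Agent.Lib.helper26.GrLoc
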