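import Mathlib
import Groth.Agent.Lib.Helper26.FiniteOverHens
import Groth.Agent.Lib.Helper26.PairHensIntegral
import Groth.Agent.Lib.Helper26.PairHensLocal

/-!
# Integral closure of a henselian valuation ring in an algebraic extension (helper26)

* `mem_or_inv_mem_of_root`: if `B` is a local ring integrally closed in a field `M` and `x : M` is a
  root of a polynomial over `B` with a unit coefficient then `x ∈ B` or `x⁻¹ ∈ B`.
* `isLocalRing_integralClosure`: the integral closure of a henselian local ring in a field is local.
-/

set_option autoImplicit false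
set_option linter.style.haveILetI false

open Polynomial

namespace Groth.Agent.Lib.helper26.HensValNorm

universe u

section LemmaV

variable {B M : Type*} [CommRing B] [IsLocalRing B] [Field M] [Algebra B M]

theorem mem_or_inv_mem_of_root
    (hB : ∀ x : M, IsIntegral B x → x ∈ (algebraMap B M).range)
    (x : M) : ∀ (n : ℕ) (p : B[X]), p.natDegree = n → aeval x p = 0 →
      (∃ i, IsUnit (p.coeff i)) →
      x ∈ (algebraMap B M).range ∨ x⁻¹ ∈ (algebraMap B M).range := by
  intro n
  induction n using Nat.strong_induction_on with
  | _ n ih =>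
    intro p hn hp hunit
    by_cases hlc : IsUnit p.leadingCoeff
    · left
      apply hB
      obtain ⟨c, hc⟩ := hlc.exists_left_inv
      refine ⟨C c * p, ?_, ?_⟩
      · have hne : p ≠ 0 := fun h0 => by
          rw [h0, leadingCoeff_zero] at hlc
          exact not_isUnit_zero hlc
        rw [Monic, leadingCoeff_mul' (by rw [leadingCoeff_C, hc]; exact one_ne_zero),
          leadingCoeff_C, hc]
      · rw [← aeval_def, map_mul, hp, mul_zero]
    · -- leading coefficient is a non-unit
      have hn1 : 1 ≤ n := by
        by_contra h0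
        have h0' : p.natDegree = 0 := by omega
        obtain ⟨i, hi⟩ := hunit
        rcases Nat.eq_zero_or_pos i with rfl | hipos
        · apply hlc
          rwa [leadingCoeff, h0']
        · rw [coeff_eq_zero_of_natDegree_lt (by omega)] at hi
          exact not_isUnit_zero hi
      have hy : IsIntegral B (p.leadingCoeff • x) := isIntegral_leadingCoeff_smul p x hp
      obtain ⟨b, hb⟩ := hB _ hy
      set p' : B[X] := C b * X ^ (n - 1) + p.eraseLead with hp'
      have hroot : aeval x p' = 0 := by
        have h1 : aeval x p = aeval x (p.eraseLead) + aeval x (C p.leadingCoeff * X ^ p.natDegree) := by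
          conv_lhs => rw [← eraseLead_add_C_mul_X_pow p]
          rw [map_add]
        rw [hp] at h1
        rw [hp', map_add, map_mul, aeval_C, map_pow, aeval_X, hb]
        rw [map_mul, aeval_C, map_pow, aeval_X, hn] at h1
        have h2 : x ^ n = x ^ (n - 1) * x := by
          rw [← pow_succ]; congr 1; omega
        rw [h2] at h1
        rw [Algebra.smul_def]
        rw [h1]; ring
      have hdeg : p'.natDegree < n := by
        have h1 : (C b * X ^ (n - 1)).natDegree ≤ n - 1 := natDegree_C_mul_X_pow_le b (n - 1)
        have h2 : p.eraseLead.natDegree ≤ n - 1 := by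
          have := eraseLead_natDegree_le p
          rw [hn] at this; exact this
        have h3 := natDegree_add_le (C b * X ^ (n - 1)) p.eraseLead
        have : p'.natDegree ≤ n - 1 := h3.trans (max_le h1 h2)
        omega
      by_cases hunit' : ∃ i, IsUnit (p'.coeff i)
      · exact ih _ hdeg p' rfl hroot hunit'
      · right
        push Not at hunit'
        -- coefficient of p at n-1 must be the unit
        have hcoeff : ∀ i, i ≠ n - 1 → p'.coeff i = if i = n then 0 else p.coeff i := by
          intro i hi
          rw [hp', coeff_add, coeff_C_mul, coeff_X_pow, if_neg hi, mul_zero, zero_add,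
            eraseLead_coeff, hn]
        obtain ⟨i, hi⟩ := hunit
        have hin : i = n - 1 := by
          by_contra hne
          have h1 := hcoeff i hne
          by_cases hi2 : i = n
          · apply hlc
            rw [leadingCoeff, hn, ← hi2]; exact hi
          · rw [if_neg hi2] at h1
            exact hunit' i (h1 ▸ hi)
        have h2 : p'.coeff (n - 1) = b + p.coeff (n - 1) := by
          rw [hp', coeff_add, coeff_C_mul, coeff_X_pow, if_pos rfl, mul_one, eraseLead_coeff, hn,
            if_neg (by omega)]
        have hbunit : IsUnit b := by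
          have h3 : ¬ IsUnit (b + p.coeff (n - 1)) := h2 ▸ hunit' (n - 1)
          have h4 : IsUnit (p.coeff (n - 1)) := hin ▸ hi
          by_contra hb'
          have h5 : b + p.coeff (n - 1) ∈ IsLocalRing.maximalIdeal B :=
            (IsLocalRing.mem_maximalIdeal _).mpr h3
          have h6 : b ∈ IsLocalRing.maximalIdeal B := (IsLocalRing.mem_maximalIdeal _).mpr hb'
          have h7 : p.coeff (n - 1) ∈ IsLocalRing.maximalIdeal B := by
            have := (IsLocalRing.maximalIdeal B).sub_mem h5 h6
            simpa using this
          exact ((IsLocalRing.mem_maximalIdeal _).mp h7) h4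
        obtain ⟨b', hb'⟩ := hbunit.exists_left_inv
        refine ⟨b' * p.leadingCoeff, ?_⟩
        have hbM : algebraMap B M b' * algebraMap B M b = 1 := by
          rw [← map_mul, hb', map_one]
        have hbne : algebraMap B M b ≠ 0 := fun h0 => by
          rw [h0, mul_zero] at hbM; exact zero_ne_one hbM
        have hxne : x ≠ 0 := fun h0 => by
          rw [h0, smul_zero] at hb; exact hbne hb
        rw [map_mul]
        rw [Algebra.smul_def] at hb
        field_simp
        rw [mul_assoc, ← hb]
        exact hbM

end LemmaV

section Local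

variable (R : Type u) [CommRing R] [HenselianLocalRing R] (M : Type u) [Field M] [Algebra R M]

/-- The integral closure of a henselian local ring in a field is a local ring. -/
theorem isLocalRing_integralClosure : IsLocalRing (integralClosure R M) := by
  classical
  apply IsLocalRing.of_unique_max_ideal
  obtain ⟨n₁, hn₁⟩ := Ideal.exists_maximal (integralClosure R M)
  refine ⟨n₁, hn₁, ?_⟩
  intro n₂ hn₂
  by_contra hne
  have hsup : n₁ ⊔ n₂ = ⊤ := hn₁.coprime_of_ne hn₂ (Ne.symm hne)
  obtain ⟨b₁, hb₁, b₂, hb₂, hsum⟩ : ∃ b₁ ∈ n₁, ∃ b₂ ∈ n₂, b₁ + b₂ = 1 := by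
    have h1 : (1 : integralClosure R M) ∈ n₁ ⊔ n₂ := by rw [hsup]; trivial
    exact Submodule.mem_sup.mp h1
  have hint : IsIntegral R b₁ := by
    have h1 : IsIntegral R (algebraMap (integralClosure R M) M b₁) := b₁.2
    exact (isIntegral_algebraMap_iff (Subtype.val_injective)).mp h1
  let C : Subalgebra R (integralClosure R M) := Algebra.adjoin R {b₁}
  haveI hfin : Module.Finite R C := by
    have := hint.fg_adjoin_singleton
    exact Module.Finite.iff_fg.mpr this
  haveI : Algebra.IsIntegral R (integralClosure R M) := inferInstance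
  haveI : Algebra.IsIntegral C (integralClosure R M) :=
    Algebra.IsIntegral.tower_top (R := R) (S := C) (T := integralClosure R M)
  let q₁ : Ideal C := n₁.comap (algebraMap C (integralClosure R M))
  let q₂ : Ideal C := n₂.comap (algebraMap C (integralClosure R M))
  haveI hq₁ : q₁.IsMaximal := Ideal.isMaximal_comap_of_isIntegral_of_isMaximal n₁
  haveI hq₂ : q₂.IsMaximal := Ideal.isMaximal_comap_of_isIntegral_of_isMaximal n₂
  obtain ⟨e, he, heq, hother⟩ :=
    Groth.Agent.Lib.helper26.FiniteOverHens.exists_idempotent_of_isMaximal R C q₁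
  have he1 : e = 1 := by
    rcases (IsIdempotentElem.iff_eq_zero_or_one).mp he with h0 | h1
    · exfalso; apply heq; rw [h0]; exact q₁.zero_mem
    · exact h1
  have hqq : q₂ = q₁ := by
    by_contra hne'
    have := hother q₂ hq₂ hne'
    rw [he1] at this
    exact hq₂.ne_top ((Ideal.eq_top_iff_one _).mpr this)
  let b₁' : C := ⟨b₁, Algebra.subset_adjoin (Set.mem_singleton b₁)⟩
  have h1 : b₁' ∈ q₁ := by
    show algebraMap C (integralClosure R M) b₁' ∈ n₁
    exact hb₁
  have h2 : b₁' ∈ q₂ := hqq ▸ h1
  have h3 : b₁ ∈ n₂ := h2
  have h4 : (1 : integralClosure R M) ∈ n₂ := hsum ▸ n₂.add_mem h3 hb₂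
  exact hn₂.ne_top ((Ideal.eq_top_iff_one _).mpr h4)

end Local

section Val

/-- In a valuation ring, a nonempty finite set has an element dividing all the others. -/
theorem exists_dvd_all {R : Type*} [CommRing R] [IsDomain R] [ValuationRing R] (s : Finset R)
    (hs : s.Nonempty) : ∃ a ∈ s, ∀ b ∈ s, a ∣ b := by
  classical
  induction hs using Finset.Nonempty.cons_induction with
  | singleton a => exact ⟨a, Finset.mem_singleton_self a, fun b hb => by
      rw [Finset.mem_singleton] at hb; rw [hb]⟩
  | cons a s ha hs ih =>
    obtain ⟨c, hc, hcall⟩ := ih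
    rcases ValuationRing.dvd_total a c with h | h
    · refine ⟨a, Finset.mem_cons_self a s, fun b hb => ?_⟩
      rw [Finset.mem_cons] at hb
      rcases hb with rfl | hb
      · exact dvd_rfl
      · exact h.trans (hcall b hb)
    · refine ⟨c, Finset.mem_cons.mpr (Or.inr hc), fun b hb => ?_⟩
      rw [Finset.mem_cons] at hb
      rcases hb with rfl | hb
      · exact h
      · exact hcall b hb

variable (R : Type u) [CommRing R] [IsDomain R] [ValuationRing R] [HenselianLocalRing R]
  (M : Type u) [Field M] [Algebra R M]

/-- For a henselian valuation ring `R` and an element `x` of a field `M` which is algebraic over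
`R`: `x` or `x⁻¹` is integral over `R`. -/
theorem isIntegral_or_inv (hinj : Function.Injective (algebraMap R M)) (x : M)
    (hx : IsAlgebraic R x) :
    IsIntegral R x ∨ IsIntegral R x⁻¹ := by
  classical
  obtain ⟨p, hp0, hp⟩ := hx
  have hsupp : (p.support.image p.coeff).Nonempty :=
    (Polynomial.nonempty_support_iff.mpr hp0).image _
  obtain ⟨a, ha, hall⟩ := exists_dvd_all (p.support.image p.coeff) hsupp
  obtain ⟨j, hj, rfl⟩ := Finset.mem_image.mp ha
  have hdvd : C (p.coeff j) ∣ p := by
    rw [Polynomial.C_dvd_iff_dvd_coeff]
    intro i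
    by_cases hi : i ∈ p.support
    · exact hall _ (Finset.mem_image_of_mem _ hi)
    · rw [Polynomial.notMem_support_iff.mp hi]; exact dvd_zero _
  obtain ⟨p', hp'⟩ := hdvd
  have hj0 : p.coeff j ≠ 0 := Polynomial.mem_support_iff.mp hj
  have hcoeff : p'.coeff j = 1 := by
    have h1 : p.coeff j = p.coeff j * p'.coeff j := by
      conv_lhs => rw [hp', Polynomial.coeff_C_mul]
    have h2 : p.coeff j * 1 = p.coeff j * p'.coeff j := by rw [mul_one]; exact h1
    exact (mul_left_cancel₀ hj0 h2).symm
  have hroot : aeval x p' = 0 := by
    rw [hp', map_mul, aeval_C] at hp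
    rcases mul_eq_zero.mp hp with h | h
    · exfalso
      exact hj0 (hinj (by rw [h, map_zero]))
    · exact h
  haveI hloc : IsLocalRing (integralClosure R M) := isLocalRing_integralClosure R M
  have hB : ∀ y : M, IsIntegral (integralClosure R M) y →
      y ∈ (algebraMap (integralClosure R M) M).range := by
    intro y hy
    have : IsIntegral R y := isIntegral_trans y hy
    exact ⟨⟨y, this⟩, rfl⟩
  have key := mem_or_inv_mem_of_root hB x _ (p'.map (algebraMap R (integralClosure R M))) rfl
    (by rw [aeval_map_algebraMap]; exact hroot)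
    ⟨j, by rw [coeff_map, hcoeff, map_one]; exact isUnit_one⟩
  rcases key with ⟨b, hb⟩ | ⟨b, hb⟩
  · left; rw [← hb]; exact b.2
  · right; rw [← hb]; exact b.2

end Val

section Main

variable (R : Type u) [CommRing R] [IsDomain R] [ValuationRing R] [HenselianLocalRing R]
  (K : Type u) [Field K] [Algebra R K] [IsFractionRing R K]
  (L : Type u) [Field L] [Algebra R L] [Algebra K L] [IsScalarTower R K L]
  [Algebra.IsAlgebraic K L]

theorem isIntegral_of_norm_mem (α : L)
    (h : Algebra.norm K (IntermediateField.AdjoinSimple.gen K α) ∈ (algebraMap R K).range) :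
    IsIntegral R α := by
  classical
  by_contra hα
  let M := AlgebraicClosure L
  haveI : IsScalarTower R K M := IsScalarTower.of_algebraMap_eq (fun r => by
    rw [IsScalarTower.algebraMap_apply R L M, IsScalarTower.algebraMap_apply R K L,
      ← IsScalarTower.algebraMap_apply K L M])
  haveI : Algebra.IsAlgebraic K M := Algebra.IsAlgebraic.trans K L M
  have hinj : Function.Injective (algebraMap R M) := by
    rw [IsScalarTower.algebraMap_eq R K M]
    exact (algebraMap K M).injective.comp (IsFractionRing.injective R K)
  set α' : M := algebraMap L M α with hα'def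
  have hα' : ¬ IsIntegral R α' := fun h' =>
    hα ((isIntegral_algebraMap_iff (algebraMap L M).injective).mp h')
  have hKα : IsIntegral K α := Algebra.IsIntegral.isIntegral α
  have hKα' : IsIntegral K α' := hKα.algebraMap
  have hmin : minpoly K α' = minpoly K α := minpoly.algebraMap_eq (algebraMap L M).injective α
  set f := minpoly K α with hf
  have hsplit : (f.map (algebraMap K M)).Splits := IsAlgClosed.splits _
  have hnorm := IntermediateField.AdjoinSimple.norm_gen_eq_prod_roots (K := K) (F := M) α hsplit
  obtain ⟨r, hr⟩ := h
  have hrM : algebraMap R M r = (f.aroots M).prod := by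
    rw [← hnorm, ← hr, ← IsScalarTower.algebraMap_apply]
  haveI hloc : IsLocalRing (integralClosure R M) := isLocalRing_integralClosure R M
  have hroot : ∀ β ∈ f.aroots M, ¬ IsIntegral R β := by
    intro β hβ hint
    have hconj : IsConjRoot K α' β :=
      (isConjRoot_iff_mem_minpoly_aroots hKα').mpr (hmin ▸ hβ)
    obtain ⟨σ, hσ⟩ := hconj.exists_algEquiv
    apply hα'
    rw [← hσ]
    exact hint.map (σ.toAlgHom.restrictScalars R)
  have hinvmem : ∀ y : M, ¬ IsIntegral R y →
      ∃ b ∈ IsLocalRing.maximalIdeal (integralClosure R M), (b : M) = y⁻¹ := by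
    intro y hy
    have halg : IsAlgebraic R y :=
      (IsFractionRing.isAlgebraic_iff R K M).mpr (Algebra.IsAlgebraic.isAlgebraic y)
    rcases isIntegral_or_inv R M hinj y halg with h1 | h1
    · exact absurd h1 hy
    · refine ⟨⟨y⁻¹, h1⟩, ?_, rfl⟩
      rw [IsLocalRing.mem_maximalIdeal, mem_nonunits_iff]
      intro hu
      obtain ⟨c, hc⟩ := hu.exists_right_inv
      apply hy
      have hc' : y⁻¹ * (c : M) = 1 := congrArg Subtype.val hc
      have hy0 : y ≠ 0 := fun h0 => by
        rw [h0, inv_zero, zero_mul] at hc'; exact zero_ne_one hc'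
      have : y = (c : M) := by
        have h2 : y * (y⁻¹ * (c : M)) = y * 1 := by rw [hc']
        rw [← mul_assoc, mul_inv_cancel₀ hy0, one_mul, mul_one] at h2
        exact h2.symm
      rw [this]; exact c.2
  have hprod : ∀ s : Multiset M, s ≠ 0 → (∀ y ∈ s, ¬ IsIntegral R y) →
      ∃ b ∈ IsLocalRing.maximalIdeal (integralClosure R M), (b : M) = s.prod⁻¹ := by
    intro s
    induction s using Multiset.induction_on with
    | empty => intro h; exact absurd rfl h
    | cons a s ih =>
      intro _ hall
      obtain ⟨b₁, hb₁, hb₁'⟩ := hinvmem a (hall a (Multiset.mem_cons_self a s))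
      by_cases hs : s = 0
      · refine ⟨b₁, hb₁, ?_⟩
        rw [hs, Multiset.prod_cons, Multiset.prod_zero, mul_one]; exact hb₁'
      · obtain ⟨b₂, hb₂, hb₂'⟩ := ih hs (fun y hy => hall y (Multiset.mem_cons_of_mem hy))
        refine ⟨b₁ * b₂, Ideal.mul_mem_right _ _ hb₁, ?_⟩
        rw [Multiset.prod_cons, mul_inv, ← hb₁', ← hb₂']; rfl
  have hne : f.aroots M ≠ 0 := by
    intro h0
    have : α' ∈ f.aroots M := by
      rw [Polynomial.mem_aroots]
      exact ⟨minpoly.ne_zero hKα, by rw [← hmin]; exact minpoly.aeval K α'⟩
    rw [h0] at this; exact Multiset.notMem_zero _ this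
  obtain ⟨b, hb, hb'⟩ := hprod _ hne hroot
  rw [← hrM] at hb'
  have hr0 : algebraMap R M r ≠ 0 := by
    rw [hrM]; intro h0
    rw [Multiset.prod_eq_zero_iff] at h0
    exact hroot 0 h0 isIntegral_zero
  have h1 : algebraMap R (integralClosure R M) r * b = 1 := by
    apply Subtype.ext
    show algebraMap R M r * (b : M) = 1
    rw [hb', mul_inv_cancel₀ hr0]
  exact (IsLocalRing.mem_maximalIdeal _).mp hb (IsUnit.of_mul_eq_one _ (by rw [mul_comm]; exact h1))

end Main

section Complete

/-- A valuation ring of height one which is `t`-adically complete is a henselian local ring. -/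
theorem henselianLocalRing_of_complete (R : Type u) [CommRing R] [IsDomain R] [ValuationRing R]
    [Ring.KrullDimLE 1 R] (t : R) (ht : t ≠ 0) [IsAdicComplete (Ideal.span {t}) R] :
    HenselianLocalRing R := by
  have hH : HenselianRing R (Ideal.span {t}) := inferInstance
  have hle : Ideal.span {t} ≤ IsLocalRing.maximalIdeal R := by
    have := hH.jac
    rwa [IsLocalRing.jacobson_eq_maximalIdeal ⊥ bot_ne_top] at this
  have hrad : IsLocalRing.maximalIdeal R ≤ (Ideal.span {t}).radical := by
    rw [Ideal.radical_eq_sInf]
    refine le_sInf ?_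
    rintro P ⟨hP, hPprime⟩
    have hne : P ≠ ⊥ := by
      intro h0
      have : t ∈ P := hP (Ideal.subset_span (Set.mem_singleton t))
      rw [h0, Ideal.mem_bot] at this
      exact ht this
    have hmax : P.IsMaximal := hPprime.isMaximal_of_ne_bot hne
    rw [IsLocalRing.eq_maximalIdeal hmax]
  exact Groth.Agent.Lib.helper26.PairHens.henselianLocalRing_of_henselianRing R
    (Groth.Agent.Lib.helper26.PairHens.henselianRing_of_le_radical hH hle hrad)

/-- The main theorem: integrality is detected by the norm. -/
theorem isIntegral_iff_norm_mem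
    (R : Type u) [CommRing R] [IsDomain R] [ValuationRing R] [Ring.KrullDimLE 1 R]
    (t : R) (ht : t ≠ 0) [IsAdicComplete (Ideal.span {t}) R]
    (L : Type u) [Field L] [Algebra R L] [Algebra (FractionRing R) L]
    [IsScalarTower R (FractionRing R) L] [Algebra.IsAlgebraic (FractionRing R) L] (α : L) :
    IsIntegral R α ↔
      Algebra.norm (FractionRing R) (IntermediateField.AdjoinSimple.gen (FractionRing R) α) ∈
        (algebraMap R (FractionRing R)).range := by
  constructor
  · intro hα
    haveI : IsScalarTower R (IntermediateField.adjoin (FractionRing R) {α}) L :=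
      IsScalarTower.of_algebraMap_eq (fun r => rfl)
    have hgen : IsIntegral R (IntermediateField.AdjoinSimple.gen (FractionRing R) α) := by
      rw [← isIntegral_algebraMap_iff
        (algebraMap (IntermediateField.adjoin (FractionRing R) {α}) L).injective]
      exact hα
    have h1 := Algebra.isIntegral_norm (FractionRing R) hgen
    obtain ⟨y, hy⟩ := IsIntegrallyClosed.isIntegral_iff.mp h1
    exact ⟨y, hy⟩
  · intro h
    haveI := henselianLocalRing_of_complete R t ht
    exact isIntegral_of_norm_mem R (FractionRing R) L α h

end Complete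

end Groth.Agent.Lib.helper26.HensValNorm
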