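import Mathlib
import Groth.Agent.Lib.Helper26.PairHensCalc

/-!
# Henselian finitely presented maps (helper26)

* `exists_algHom_apply_eq_zero_fin`: finitely many elements of an étale neighbourhood dying in
  the henselization die in a further neighbourhood.
* `isPairHenselization_of_jointly_epi`: `Hens(S, IS)` is `Hens(T, IT)` for any `T` generated by
  `S` and `Hens(A, I)`.
* `exists_fp_of_surjective`: a quotient of `Hens(Pol, I Pol)` (`Pol` f.p. over `A`) by a finitely
  generated ideal is `Hens(R, IR)` for some f.p. `A`-algebra `R`.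
-/

universe u

namespace Groth.Agent.Lib.helper26.PairHens

open Groth.Agent.Lib.helper26.PairNbhd Groth.Agent.Lib.helper26.HenselPair TensorProduct

variable {A : Type u} [CommRing A] {I : Ideal A}

/-- Finitely many elements of an étale neighbourhood dying in the henselization die in a further
étale neighbourhood. -/
theorem exists_algHom_apply_eq_zero_fin {B : Type u} [CommRing B] [Algebra A B]
    (hB : Hens2.IsPairHenselization A I B) (A' : Type u) [CommRing A'] [Algebra A A']
    [Algebra.Etale A A'] (h : IsNbhd I A') (φ : A' →ₐ[A] B) :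
    ∀ (q : ℕ) (s : Fin q → A'), (∀ j, φ (s j) = 0) →
      ∃ (k : Idx A I) (ψ : A' →ₐ[A] k.C), ∀ j, ψ (s j) = 0 := by
  intro q
  induction q with
  | zero =>
    intro s _
    obtain ⟨k, ⟨e⟩⟩ := exists_idx A' h
    exact ⟨k, e.toAlgHom, fun j => j.elim0⟩
  | succ q ih =>
    intro s hs
    obtain ⟨k, ψ, hψ⟩ := ih (fun j => s j.castSucc) (fun j => hs _)
    have := k.etale
    obtain ⟨φk⟩ := exists_algHom_of_henselianRing k.C k.isNbhd B _ hB.1 le_rfl
    have hcomp : φk.comp ψ = φ := algHom_ext_of_henselianRing A' h B _ hB.1 le_rfl _ _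
    have h0 : φk (ψ (s (Fin.last q))) = 0 := by
      have := AlgHom.congr_fun hcomp (s (Fin.last q))
      rw [AlgHom.comp_apply] at this
      rw [this, hs]
    obtain ⟨k', ψ', hψ'⟩ := exists_algHom_apply_eq_zero hB k.C k.isNbhd φk _ h0
    refine ⟨k', ψ'.comp ψ, fun j => ?_⟩
    refine Fin.lastCases ?_ (fun j => ?_) j
    · exact hψ'
    · rw [AlgHom.comp_apply, hψ j, map_zero]

/-- `Hens(S, IS)` is a henselization of `(T, IT)` for `T` generated by `S` and `Ah = Hens(A, I)`. -/
theorem isPairHenselization_of_jointly_epi {Ah : Type u} [CommRing Ah] [Algebra A Ah]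
    (hAh : Hens2.IsPairHenselization A I Ah) (S : Type u) [CommRing S] [Algebra A S]
    (C : Type u) [CommRing C] [Algebra S C]
    (hC : Hens2.IsPairHenselization S (I.map (algebraMap A S)) C)
    (T : Type u) [CommRing T] (i₁ : Ah →+* T) (i₂ : S →+* T)
    (hi : ∀ a, i₁ (algebraMap A Ah a) = i₂ (algebraMap A S a))
    [Algebra T C] (hcompat : ∀ s : S, algebraMap T C (i₂ s) = algebraMap S C s)
    (hepi : ∀ (D : Type u) [CommRing D] (g₁ g₂ : T →+* D), g₁.comp i₁ = g₂.comp i₁ →
      g₁.comp i₂ = g₂.comp i₂ → g₁ = g₂) :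
    Hens2.IsPairHenselization T (I.map (i₂.comp (algebraMap A S))) C := by
  have hmap : (I.map (i₂.comp (algebraMap A S))).map (algebraMap T C) =
      (I.map (algebraMap A S)).map (algebraMap S C) := by
    rw [Ideal.map_map, Ideal.map_map]
    congr 1
    ext a
    simp only [RingHom.comp_apply, hcompat]
  refine ⟨by rw [hmap]; exact hC.1, ?_⟩
  intro D _ J g hD hIJ
  obtain ⟨gS, hgS'⟩ : ∃ gS : S →+* D, ∀ s, gS s = g (i₂ s) := ⟨g.comp i₂, fun s => rfl⟩
  have hIJS : (I.map (algebraMap A S)).map gS ≤ J := by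
    refine le_trans (le_of_eq ?_) hIJ
    rw [Ideal.map_map, Ideal.map_map]
    congr 1
    ext a
    simp only [RingHom.comp_apply, hgS']
  obtain ⟨ε, hε, hεuniq⟩ := hC.2 D J gS hD hIJS
  obtain ⟨f₀, hf₀⟩ : ∃ f₀ : A →+* D, ∀ a, f₀ a = g (i₂ (algebraMap A S a)) :=
    ⟨g.comp (i₂.comp (algebraMap A S)), fun a => rfl⟩
  have hIJ₀ : I.map f₀ ≤ J := by
    refine le_trans (le_of_eq ?_) hIJ
    rw [Ideal.map_map]
    congr 1
    ext a
    simp only [RingHom.comp_apply, hf₀]
  obtain ⟨u, -, huuniq⟩ := hAh.2 D J f₀ hD hIJ₀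
  have key : ∀ ε' : C →+* D, ε'.comp (algebraMap S C) = gS → ε'.comp (algebraMap T C) = g := by
    intro ε' hε'
    apply hepi
    · have h1 : (ε'.comp (algebraMap T C)).comp i₁ = u := by
        apply huuniq
        ext a
        simp only [RingHom.comp_apply]
        rw [hi, hcompat, hf₀, ← hgS', ← hε']
        rfl
      have h2 : g.comp i₁ = u := by
        apply huuniq
        ext a
        simp only [RingHom.comp_apply]
        rw [hi, hf₀]
      rw [h1, h2]
    · ext s
      simp only [RingHom.comp_apply]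
      rw [hcompat, ← hgS', ← hε']
      rfl
  refine ⟨ε, key ε hε, ?_⟩
  intro ε' hε'
  apply hεuniq
  show ε'.comp (algebraMap S C) = gS
  ext s
  rw [RingHom.comp_apply, hgS', ← hε', RingHom.comp_apply, hcompat]

theorem exists_fp_of_surjective_aux (A : Type u) [CommRing A] (I : Ideal A) (B : Type u)
    [CommRing B] [Algebra A B]
    (Pol : Type u) [CommRing Pol] [Algebra A Pol] [Algebra.FinitePresentation A Pol]
    (P : Type u) [CommRing P] [Algebra Pol P] [Algebra A P] [IsScalarTower A Pol P]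
    (hP : Hens2.IsPairHenselization Pol (I.map (algebraMap A Pol)) P)
    (φ : P →ₐ[A] B) (hφ : Function.Surjective φ)
    (C' : Type u) [CommRing C'] [Algebra Pol C'] [Algebra A C'] [IsScalarTower A Pol C']
    [Algebra.Etale Pol C'] (hnb : IsNbhd (I.map (algebraMap A Pol)) C')
    (ψ : C' →ₐ[Pol] P) {l : ℕ} (s : Fin l → P) (hs : Submodule.span P (Set.range s) = RingHom.ker φ)
    (y : Fin l → C') (hy : ∀ i, ψ (y i) = s i) :
    ∃ (R : Type u) (_ : CommRing R) (_ : Algebra A R) (_ : Algebra R B) (_ : IsScalarTower A R B),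
      Algebra.FinitePresentation A R ∧ Hens2.IsPairHenselization R (I.map (algebraMap A R)) B := by
  let _ : Algebra C' P := ψ.toRingHom.toAlgebra
  have htower : IsScalarTower Pol C' P := IsScalarTower.of_algHom ψ
  have hP' := isPairHenselization_of_tower hP C' hnb
  set K : Ideal C' := Ideal.span (Set.range y) with hK
  have hKφ : ∀ c ∈ K, (φ.toRingHom.comp ψ.toRingHom) c = 0 := by
    intro c hc
    have hle : K ≤ RingHom.ker (φ.toRingHom.comp ψ.toRingHom) := by
      rw [hK, Ideal.span_le]
      rintro _ ⟨i, rfl⟩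
      show φ (ψ (y i)) = 0
      rw [hy]
      have : s i ∈ RingHom.ker φ := by
        rw [← hs]; exact Submodule.subset_span ⟨i, rfl⟩
      exact this
    exact hle hc
  let ρ : C' ⧸ K →+* B := Ideal.Quotient.lift K (φ.toRingHom.comp ψ.toRingHom) hKφ
  let _ : Algebra (C' ⧸ K) B := ρ.toAlgebra
  have hAkC : ∀ a : A, ψ (algebraMap A C' a) = algebraMap A P a := by
    intro a
    rw [IsScalarTower.algebraMap_apply A Pol C', ψ.commutes,
      ← IsScalarTower.algebraMap_apply]
  have htower2 : IsScalarTower A (C' ⧸ K) B := by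
    refine IsScalarTower.of_algebraMap_eq (R := A) (S := C' ⧸ K) (A := B) ?_
    intro a
    show algebraMap A B a = ρ (algebraMap A (C' ⧸ K) a)
    rw [IsScalarTower.algebraMap_apply A C' (C' ⧸ K), Ideal.Quotient.algebraMap_eq,
      Ideal.Quotient.lift_mk]
    show algebraMap A B a = φ (ψ (algebraMap A C' a))
    rw [hAkC, φ.commutes]
  have hfp1 : Algebra.FinitePresentation Pol C' := inferInstance
  have hfp2 : Algebra.FinitePresentation A C' :=
    Algebra.FinitePresentation.trans A Pol C'
  have hfp3 : Algebra.FinitePresentation A (C' ⧸ K) :=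
    Algebra.FinitePresentation.quotient (Submodule.fg_span (Set.finite_range y))
  refine ⟨C' ⧸ K, inferInstance, inferInstance, inferInstance, htower2, hfp3, ?_⟩
  have hker : RingHom.ker φ.toRingHom =
      (RingHom.ker (Ideal.Quotient.mk K)).map (algebraMap C' P) := by
    rw [Ideal.mk_ker, hK, Ideal.map_span]
    have : (algebraMap C' P) '' Set.range y = Set.range s := by
      ext z
      constructor
      · rintro ⟨_, ⟨i, rfl⟩, rfl⟩
        exact ⟨i, (hy i).symm⟩
      · rintro ⟨i, rfl⟩
        exact ⟨y i, ⟨i, rfl⟩, hy i⟩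
    rw [this]
    exact hs.symm
  have key := isPairHenselization_of_surjective hP' (Ideal.Quotient.mk K)
    Ideal.Quotient.mk_surjective φ.toRingHom hφ hker (fun c => rfl)
  have hideal : ((I.map (algebraMap A Pol)).map
      (algebraMap Pol C')).map (Ideal.Quotient.mk K) =
      I.map (algebraMap A (C' ⧸ K)) := by
    rw [Ideal.map_map, Ideal.map_map]
    congr 1
    ext a
    simp only [RingHom.comp_apply]
    rw [← IsScalarTower.algebraMap_apply A Pol C',
      IsScalarTower.algebraMap_apply A C' (C' ⧸ K), Ideal.Quotient.algebraMap_eq]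
  rw [hideal] at key
  exact key

/-- A quotient of `Hens(Pol, I Pol)` (`Pol` finitely presented over `A`) by a finitely generated
ideal is `Hens(R, IR)` for some finitely presented `A`-algebra `R`. -/
theorem exists_fp_of_surjective (A : Type u) [CommRing A] (I : Ideal A) (B : Type u) [CommRing B]
    [Algebra A B] (Pol : Type u) [CommRing Pol] [Algebra A Pol] [Algebra.FinitePresentation A Pol]
    (P : Type u) [CommRing P] [Algebra Pol P] [Algebra A P] [IsScalarTower A Pol P]
    (hP : Hens2.IsPairHenselization Pol (I.map (algebraMap A Pol)) P)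
    (φ : P →ₐ[A] B) (hφ : Function.Surjective φ) (hfg : (RingHom.ker φ).FG) :
    ∃ (R : Type u) (_ : CommRing R) (_ : Algebra A R) (_ : Algebra R B) (_ : IsScalarTower A R B),
      Algebra.FinitePresentation A R ∧ Hens2.IsPairHenselization R (I.map (algebraMap A R)) B := by
  obtain ⟨l, s, hs⟩ := Submodule.fg_iff_exists_fin_generating_family.mp hfg
  obtain ⟨k, ψ, y, hy⟩ := exists_stage_fin hP s
  have := k.etale
  exact exists_fp_of_surjective_aux A I B Pol P hP φ hφ k.C k.isNbhd ψ s hs y hy

/-- An algebra map from a finitely presented `A`-algebra to a henselization `C` of `(S, J)`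
(`S` an `A`-algebra) factors through a stage. -/
theorem exists_stage_algHom {A : Type u} [CommRing A] {S : Type u} [CommRing S] [Algebra A S]
    {J : Ideal S} {C : Type u} [CommRing C] [Algebra S C] [Algebra A C] [IsScalarTower A S C]
    (hC : Hens2.IsPairHenselization S J C) (R : Type u) [CommRing R] [Algebra A R]
    [Algebra.FinitePresentation A R] (γ : R →ₐ[A] C) :
    ∃ (k : Idx S J) (ρ : R →ₐ[A] k.C) (ψ : k.C →ₐ[S] C), ∀ r, ψ (ρ r) = γ r := by
  obtain ⟨p, fR, hfR, hfgR⟩ := Algebra.FinitePresentation.out (R := A) (A := R)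
  obtain ⟨q, r, hr⟩ := Submodule.fg_iff_exists_fin_generating_family.mp hfgR
  obtain ⟨k₀, ψ₀, z, hz⟩ := exists_stage_fin hC (fun i => γ (fR (MvPolynomial.X i)))
  have := k₀.etale
  let θ₀ : MvPolynomial (Fin p) A →ₐ[A] k₀.C := MvPolynomial.aeval z
  have hθ₀ : (ψ₀.restrictScalars A).comp θ₀ = γ.comp fR := by
    apply MvPolynomial.algHom_ext
    intro i
    show ψ₀ (MvPolynomial.aeval z (MvPolynomial.X i)) = γ (fR (MvPolynomial.X i))
    rw [MvPolynomial.aeval_X, hz]
  have hkill₀ : ∀ j, ψ₀ (θ₀ (r j)) = 0 := by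
    intro j
    have h1 := AlgHom.congr_fun hθ₀ (r j)
    have h2 : r j ∈ RingHom.ker fR.toRingHom := by
      rw [← hr]; exact Submodule.subset_span ⟨j, rfl⟩
    have h3 : fR (r j) = 0 := h2
    simp only [AlgHom.comp_apply, h3, map_zero] at h1
    exact h1
  obtain ⟨k, u, hu⟩ := exists_algHom_apply_eq_zero_fin hC k₀.C k₀.isNbhd ψ₀ q
    (fun j => θ₀ (r j)) hkill₀
  have := k.etale
  obtain ⟨ψ⟩ := exists_algHom_of_henselianRing k.C k.isNbhd C _ hC.1 le_rfl
  have hψu : ψ.comp u = ψ₀ := algHom_ext_of_henselianRing k₀.C k₀.isNbhd C _ hC.1 le_rfl _ _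
  let g : MvPolynomial (Fin p) A →ₐ[A] k.C := (u.restrictScalars A).comp θ₀
  have hker : RingHom.ker fR.toRingHom ≤ RingHom.ker g.toRingHom := by
    rw [← hr]
    show Ideal.span (Set.range r) ≤ _
    rw [Ideal.span_le]
    rintro _ ⟨j, rfl⟩
    exact hu j
  refine ⟨k, AlgHom.liftOfSurjective fR hfR g hker, ψ, fun x => ?_⟩
  obtain ⟨x, rfl⟩ := hfR x
  rw [AlgHom.liftOfSurjective_apply]
  show ψ (u (θ₀ x)) = γ (fR x)
  have h1 := AlgHom.congr_fun hψu (θ₀ x)
  rw [AlgHom.comp_apply] at h1
  rw [h1]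
  exact AlgHom.congr_fun hθ₀ x

end Groth.Agent.Lib.helper26.PairHens
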