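import Mathlib
import Groth.Agent.Lib.Helper26.DirLimHens
import Groth.Agent.Lib.Helper26.PairHensFP
import Groth.Agent.Lib.Helper26.HenselPairIdem

/-!
# Henselian finitely presented maps via filtered colimits, converse direction (helper26)

If `Hom_A(B, -)` commutes with filtered colimits of Henselian pairs over `(A, I)` then `B` is a
henselization of a finitely presented `A`-algebra.
-/

universe u

namespace Groth.Agent.Lib.helper26.HfpColim

open Groth.Agent.Lib.helper26.HenselPair Groth.Agent.Lib.helper26.PairHens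
open Groth.Agent.Lib.helper26.PairNbhd

variable {A : Type u} [CommRing A] (I : Ideal A) (B : Type u) [CommRing B] [Algebra A B]

/-- The factorisation half of "`Hom_A(B, -)` commutes with filtered colimits of Henselian pairs". -/
def FactorsThroughStage : Prop :=
  ∀ (κ : Type u) [Preorder κ] [IsDirectedOrder κ] [Nonempty κ]
    (Ra : κ → Type u) [∀ a, CommRing (Ra a)] [∀ a, Algebra A (Ra a)]
    [∀ a, HenselianRing (Ra a) (I.map (algebraMap A (Ra a)))]
    (t : ∀ a b : κ, a ≤ b → (Ra a →+* Ra b)) [DirectedSystem Ra (fun a b hab => t a b hab)],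
    (∀ (a b : κ) (hab : a ≤ b), (t a b hab).comp (algebraMap A (Ra a)) = algebraMap A (Ra b)) →
    ∀ [Algebra A (DirectLimit Ra t)],
    (∀ (a : κ) (x : A), algebraMap A (DirectLimit Ra t) x =
      DirectLimit.Ring.of Ra t a (algebraMap A (Ra a) x)) →
    ∀ χ : B →ₐ[A] DirectLimit Ra t, ∃ (a : κ) (φ : B →ₐ[A] Ra a),
        ∀ x : B, DirectLimit.Ring.of Ra t a (φ x) = χ x

variable {I B}

/-- If `B` is the colimit of a directed system of Henselian pairs then the identity of `B` factors
through a stage. -/
theorem exists_section_of_colimit (h : FactorsThroughStage I B)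
    {κ : Type u} [Preorder κ] [IsDirectedOrder κ] [Nonempty κ]
    (Ra : κ → Type u) [∀ a, CommRing (Ra a)] [∀ a, Algebra A (Ra a)]
    [∀ a, HenselianRing (Ra a) (I.map (algebraMap A (Ra a)))]
    (t : ∀ a b : κ, a ≤ b → (Ra a →+* Ra b)) [DirectedSystem Ra (fun a b hab => t a b hab)]
    (ht : ∀ (a b : κ) (hab : a ≤ b), (t a b hab).comp (algebraMap A (Ra a)) = algebraMap A (Ra b))
    (lam : ∀ a, Ra a →ₐ[A] B) (hlam : ∀ a b (hab : a ≤ b) (x : Ra a), lam b (t a b hab x) = lam a x)
    (hsurj : ∀ y : B, ∃ (a : κ) (x : Ra a), lam a x = y)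
    (hinj : ∀ (a : κ) (x : Ra a), lam a x = 0 → ∃ (b : κ) (hab : a ≤ b), t a b hab x = 0) :
    ∃ (a : κ) (φ : B →ₐ[A] Ra a), ∀ x, lam a (φ x) = x := by
  let a₀ : κ := Classical.arbitrary κ
  letI algL : Algebra A (DirectLimit Ra t) :=
    ((DirectLimit.Ring.of Ra t a₀).comp (algebraMap A (Ra a₀))).toAlgebra
  have halg : ∀ (a : κ) (x : A), algebraMap A (DirectLimit Ra t) x =
      DirectLimit.Ring.of Ra t a (algebraMap A (Ra a) x) := by
    intro a x
    obtain ⟨c, hac, ha₀c⟩ := exists_ge_ge a a₀
    show DirectLimit.Ring.of Ra t a₀ (algebraMap A (Ra a₀) x) = _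
    rw [← DirectLimit.Ring.of_f ha₀c, ← DirectLimit.Ring.of_f hac]
    have h1 := RingHom.congr_fun (ht a₀ c ha₀c) x
    have h2 := RingHom.congr_fun (ht a c hac) x
    simp only [RingHom.comp_apply] at h1 h2
    rw [h1, h2]
  let Λ : DirectLimit Ra t →+* B :=
    DirectLimit.Ring.lift Ra t B (fun a => (lam a : Ra a →+* B)) (fun i j hij x => hlam i j hij x)
  have hΛ : ∀ a x, Λ (DirectLimit.Ring.of Ra t a x) = lam a x := fun a x => rfl
  have hΛinj : Function.Injective Λ := by
    rw [injective_iff_map_eq_zero]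
    intro z hz
    obtain ⟨a, x, rfl⟩ := DirLim.exists_of Ra t z
    rw [hΛ] at hz
    obtain ⟨b, hab, hb⟩ := hinj a x hz
    rw [← DirectLimit.Ring.of_f hab, hb, map_zero]
  have hΛsurj : Function.Surjective Λ := by
    intro y
    obtain ⟨a, x, hx⟩ := hsurj y
    exact ⟨DirectLimit.Ring.of Ra t a x, by rw [hΛ, hx]⟩
  let e : DirectLimit Ra t ≃+* B := RingEquiv.ofBijective Λ ⟨hΛinj, hΛsurj⟩
  have he : ∀ z, e z = Λ z := fun z => rfl
  let χ : B →ₐ[A] DirectLimit Ra t :=
    { e.symm.toRingHom with
      commutes' := fun x => by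
        show e.symm (algebraMap A B x) = algebraMap A (DirectLimit Ra t) x
        rw [RingEquiv.symm_apply_eq, he, halg a₀, hΛ, AlgHom.commutes] }
  have hχ : ∀ y, Λ (χ y) = y := fun y => e.apply_symm_apply y
  obtain ⟨a, φ, hφ⟩ := h κ Ra t ht halg χ
  refine ⟨a, φ, fun x => ?_⟩
  rw [← hΛ, hφ, hχ]

section family

variable (I B)

/-- The polynomial ring on a finite set of elements of `B`. -/
abbrev Pol (s : Finset B) : Type u := MvPolynomial s A

/-- The henselization of the polynomial ring on `s` along `I`. -/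
abbrev PH (s : Finset B) : Type u :=
  H (Pol (A := A) B s) (I.map (algebraMap A (Pol (A := A) B s)))

noncomputable instance algPH (s : Finset B) : Algebra A (PH I B s) :=
  ((algebraMap (Pol (A := A) B s) (PH I B s)).comp (algebraMap A (Pol (A := A) B s))).toAlgebra

instance towerPH (s : Finset B) : IsScalarTower A (Pol (A := A) B s) (PH I B s) :=
  IsScalarTower.of_algebraMap_eq fun _ => rfl

theorem isPairHenselization_PH (s : Finset B) :
    Hens2.IsPairHenselization (Pol (A := A) B s) (I.map (algebraMap A (Pol (A := A) B s)))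
      (PH I B s) :=
  isPairHenselization_H

/-- evaluation of polynomials -/
noncomputable def evPol (s : Finset B) : Pol (A := A) B s →ₐ[A] B :=
  MvPolynomial.aeval (fun j : s => (j : B))

variable {I B}

theorem map_evPol_le (s : Finset B) :
    (I.map (algebraMap A (Pol (A := A) B s))).map (evPol (A := A) B s).toRingHom ≤
      I.map (algebraMap A B) := by
  rw [Ideal.map_map]
  apply le_of_eq
  congr 1
  exact (evPol (A := A) B s).comp_algebraMap

variable (hB : HenselianRing B (I.map (algebraMap A B)))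

/-- the extension of evaluation to the henselization -/
noncomputable def evR (s : Finset B) : PH I B s →+* B :=
  Classical.choose ((isPairHenselization_PH I B s).2 B _ (evPol (A := A) B s).toRingHom hB (map_evPol_le s))

theorem evR_algebraMap (s : Finset B) (p : Pol (A := A) B s) :
    evR hB s (algebraMap _ (PH I B s) p) = evPol (A := A) B s p :=
  RingHom.congr_fun
    (Classical.choose_spec
      ((isPairHenselization_PH I B s).2 B _ (evPol (A := A) B s).toRingHom hB (map_evPol_le s))).1 p

theorem evR_unique (s : Finset B) (g : PH I B s →+* B)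
    (hg : ∀ p, g (algebraMap _ (PH I B s) p) = evPol (A := A) B s p) : g = evR hB s :=
  (Classical.choose_spec
      ((isPairHenselization_PH I B s).2 B _ (evPol (A := A) B s).toRingHom hB (map_evPol_le s))).2 g
    (RingHom.ext fun p => hg p)

/-- evaluation as an algebra map -/
noncomputable def ev (s : Finset B) : PH I B s →ₐ[A] B :=
  { evR hB s with
    commutes' := fun a => by
      show evR hB s (algebraMap (Pol (A := A) B s) (PH I B s) (algebraMap A _ a)) = _
      rw [evR_algebraMap, AlgHom.commutes] }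

theorem ev_algebraMap (s : Finset B) (p : Pol (A := A) B s) :
    ev hB s (algebraMap _ (PH I B s) p) = evPol (A := A) B s p := evR_algebraMap hB s p

/-- The image of a Henselian pair under a surjective ring map is Henselian. -/
theorem henselianRing_of_surjective {R S : Type u} [CommRing R] [CommRing S] (f : R →+* S)
    (hf : Function.Surjective f) {J : Ideal R} (h : HenselianRing R J) :
    HenselianRing S (J.map f) := by
  letI : Algebra R S := f.toAlgebra
  have : Algebra.IsIntegral R S := Algebra.isIntegral_of_surjective hf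
  exact henselianRing_map_of_isIntegral h S

theorem map_map_map_eq (s : Finset B) {S : Type u} [CommRing S] [Algebra A S]
    (f : PH I B s →ₐ[A] S) :
    ((I.map (algebraMap A (Pol (A := A) B s))).map
      (algebraMap (Pol (A := A) B s) (PH I B s))).map f.toRingHom = I.map (algebraMap A S) := by
  rw [Ideal.map_map, Ideal.map_map]
  congr 1
  ext a
  show f (algebraMap A (PH I B s) a) = _
  rw [AlgHom.commutes]

/-- The "Henselian subalgebra generated by `s`". -/
noncomputable def Bs (s : Finset B) : Subalgebra A B := (ev hB s).range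

theorem henselianRing_Bs (s : Finset B) :
    HenselianRing (Bs hB s) (I.map (algebraMap A (Bs hB s))) := by
  have h1 := henselianRing_of_surjective (ev hB s).rangeRestrict.toRingHom
    (ev hB s).rangeRestrict_surjective (isPairHenselization_PH I B s).1
  rwa [map_map_map_eq s (ev hB s).rangeRestrict] at h1

/-- the transition maps between henselized polynomial rings -/
theorem exists_transition {s s' : Finset B} (hss' : s ≤ s') :
    ∃ g : PH I B s →+* PH I B s', ∀ z, evR hB s' (g z) = evR hB s z := by
  let ρ : Pol (A := A) B s →ₐ[A] Pol (A := A) B s' :=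
    MvPolynomial.rename (fun j : s => (⟨j.1, hss' j.2⟩ : s'))
  let f : Pol (A := A) B s →+* PH I B s' :=
    (algebraMap (Pol (A := A) B s') (PH I B s')).comp ρ.toRingHom
  have hle : (I.map (algebraMap A (Pol (A := A) B s))).map f ≤
      (I.map (algebraMap A (Pol (A := A) B s'))).map (algebraMap _ (PH I B s')) := by
    rw [Ideal.map_map, Ideal.map_map]
    apply le_of_eq
    congr 1
    ext a
    show algebraMap _ (PH I B s') (ρ (algebraMap A _ a)) = _
    rw [AlgHom.commutes]
    rfl
  obtain ⟨g, hg, -⟩ := (isPairHenselization_PH I B s).2 (PH I B s') _ f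
    (isPairHenselization_PH I B s').1 hle
  refine ⟨g, fun z => ?_⟩
  have h1 : (evR hB s').comp g = evR hB s := by
    apply evR_unique
    intro p
    have h2 := RingHom.congr_fun hg p
    simp only [RingHom.comp_apply] at h2 ⊢
    rw [h2]
    show evR hB s' (algebraMap _ (PH I B s') (ρ p)) = _
    rw [evR_algebraMap]
    show MvPolynomial.aeval _ (MvPolynomial.rename _ p) = MvPolynomial.aeval _ p
    rw [MvPolynomial.aeval_rename]
    rfl
  exact RingHom.congr_fun h1 z

theorem Bs_mono {s s' : Finset B} (hss' : s ≤ s') : Bs hB s ≤ Bs hB s' := by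
  rintro _ ⟨z, rfl⟩
  obtain ⟨g, hg⟩ := exists_transition hB hss'
  exact ⟨g z, hg z⟩

theorem mem_Bs_singleton [DecidableEq B] (y : B) : y ∈ Bs hB {y} := by
  let j : ({y} : Finset B) := ⟨y, Finset.mem_singleton_self y⟩
  refine ⟨algebraMap (Pol (A := A) B {y}) (PH I B {y}) (MvPolynomial.X j), ?_⟩
  show ev hB {y} _ = y
  rw [ev_algebraMap]
  show MvPolynomial.aeval _ (MvPolynomial.X _) = y
  rw [MvPolynomial.aeval_X]

/-- Step (a): `B` is a quotient of the henselization of a polynomial ring in finitely many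
variables. -/
theorem exists_surjective_ev (h : FactorsThroughStage I B) :
    ∃ s : Finset B, Function.Surjective (ev hB s) := by
  classical
  let Ra : Finset B → Type u := fun s => Bs hB s
  let t : ∀ a b : Finset B, a ≤ b → (Ra a →+* Ra b) := fun a b hab =>
    (Subalgebra.inclusion (Bs_mono hB hab)).toRingHom
  have : ∀ a, HenselianRing (Ra a) (I.map (algebraMap A (Ra a))) := fun a => henselianRing_Bs hB a
  have : DirectedSystem Ra (fun a b hab => t a b hab) :=
    { map_self := fun i x => Subtype.ext rfl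
      map_map := fun k j i hij hjk x => Subtype.ext rfl }
  obtain ⟨s, φ, hφ⟩ := exists_section_of_colimit h Ra t
    (fun a b hab => by ext x; rfl)
    (fun a => (Bs hB a).val) (fun a b hab x => rfl)
    (fun y => ⟨{y}, ⟨y, mem_Bs_singleton hB y⟩, rfl⟩)
    (fun a x hx => ⟨a, le_rfl, by
      have : x = 0 := Subtype.ext hx
      rw [this, map_zero]⟩)
  refine ⟨s, fun y => ?_⟩
  have h1 : y ∈ Bs hB s := by
    have := (φ y).2
    rwa [show ((φ y : Bs hB s) : B) = y from hφ y] at this
  exact h1

end family

section kernel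

variable {Pol : Type u} [CommRing Pol] [Algebra A Pol] {P : Type u} [CommRing P] [Algebra Pol P]
  [Algebra A P] [IsScalarTower A Pol P]

theorem map_map_eq_of_algHom (hP : HenselianRing P ((I.map (algebraMap A Pol)).map (algebraMap Pol P)))
    {S : Type u} [CommRing S] [Algebra A S] (f : P →ₐ[A] S)
    (hf : Function.Surjective f) : HenselianRing S (I.map (algebraMap A S)) := by
  have h1 := henselianRing_of_surjective f.toRingHom hf hP
  have h2 : ((I.map (algebraMap A Pol)).map (algebraMap Pol P)).map f.toRingHom =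
      I.map (algebraMap A S) := by
    rw [Ideal.map_map, Ideal.map_map]
    congr 1
    ext a
    show f (algebraMap Pol P (algebraMap A Pol a)) = _
    rw [← IsScalarTower.algebraMap_apply, AlgHom.commutes]
  rwa [h2] at h1

/-- Step (b)+(c): the kernel of a surjection from a henselization of a finite type algebra onto
`B` is finitely generated. -/
theorem ker_fg_of_factorsThroughStage (h : FactorsThroughStage I B)
    (hP : Hens2.IsPairHenselization Pol (I.map (algebraMap A Pol)) P)
    {ι : Type*} [Finite ι] (gen : ι → Pol) (hgen : Algebra.adjoin A (Set.range gen) = ⊤)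
    (π : P →ₐ[A] B) (hπ : Function.Surjective π) : (RingHom.ker π.toRingHom).FG := by
  classical
  set 𝔎 : Ideal P := RingHom.ker π.toRingHom with h𝔎
  let J : Finset 𝔎 → Ideal P := fun r => Ideal.span (Subtype.val '' (r : Set 𝔎))
  have hJ𝔎 : ∀ r, J r ≤ 𝔎 := by
    intro r
    rw [Ideal.span_le]
    rintro _ ⟨k, _, rfl⟩
    exact k.2
  have hJmono : ∀ {r r' : Finset 𝔎}, r ≤ r' → J r ≤ J r' := fun {r r'} hrr' =>
    Ideal.span_mono (Set.image_mono (by exact_mod_cast hrr'))
  have hJfg : ∀ r, (J r).FG := fun r =>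
    Submodule.fg_span ((Finset.finite_toSet r).image _)
  have hker : ∀ r, ∀ a ∈ J r, π a = 0 := fun r a ha => hJ𝔎 r ha
  let Ra : Finset 𝔎 → Type u := fun r => P ⧸ J r
  let t : ∀ a b : Finset 𝔎, a ≤ b → (Ra a →+* Ra b) := fun a b hab =>
    Ideal.Quotient.factor (hJmono hab)
  have ht_mk : ∀ a b (hab : a ≤ b) (p : P),
      t a b hab (Ideal.Quotient.mk (J a) p) = Ideal.Quotient.mk (J b) p := fun a b hab p => rfl
  have : ∀ a, HenselianRing (Ra a) (I.map (algebraMap A (Ra a))) := fun a =>
    map_map_eq_of_algHom hP.1 (Ideal.Quotient.mkₐ A (J a)) (Ideal.Quotient.mkₐ_surjective A (J a))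
  have : DirectedSystem Ra (fun a b hab => t a b hab) :=
    { map_self := fun i x => by
        obtain ⟨p, rfl⟩ := Ideal.Quotient.mk_surjective x
        rfl
      map_map := fun k j i hij hjk x => by
        obtain ⟨p, rfl⟩ := Ideal.Quotient.mk_surjective x
        rfl }
  let lam : ∀ a, Ra a →ₐ[A] B := fun a => Ideal.Quotient.liftₐ (J a) π (hker a)
  have hlam_mk : ∀ a p, lam a (Ideal.Quotient.mk (J a) p) = π p := fun a p => rfl
  obtain ⟨r, φ, hφ⟩ := exists_section_of_colimit h Ra t
    (fun a b hab => by ext x; rfl) lam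
    (fun a b hab x => by
      obtain ⟨p, rfl⟩ := Ideal.Quotient.mk_surjective x
      rfl)
    (fun y => by
      obtain ⟨p, hp⟩ := hπ y
      exact ⟨∅, Ideal.Quotient.mk _ p, hp⟩)
    (fun a x hx => by
      obtain ⟨p, rfl⟩ := Ideal.Quotient.mk_surjective x
      have hp : p ∈ 𝔎 := hx
      refine ⟨insert ⟨p, hp⟩ a, Finset.subset_insert _ _, ?_⟩
      show Ideal.Quotient.mk (J (insert ⟨p, hp⟩ a)) p = 0
      rw [Ideal.Quotient.eq_zero_iff_mem]
      apply Ideal.subset_span
      exact ⟨⟨p, hp⟩, by simp, rfl⟩)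
  -- step (c)
  let x : ι → Ra r := fun j => Ideal.Quotient.mk (J r) (algebraMap Pol P (gen j))
  let y : ι → Ra r := fun j => φ (lam r (x j)) - x j
  have hy : ∀ j, lam r (y j) = 0 := by
    intro j
    show lam r (φ (lam r (x j)) - x j) = 0
    rw [map_sub, hφ, sub_self]
  choose ytil hytil using fun j => Ideal.Quotient.mk_surjective (y j)
  set J' : Ideal P := J r ⊔ Ideal.span (Set.range ytil) with hJ'
  have hJ'fg : J'.FG := Submodule.FG.sup (hJfg r) (Submodule.fg_span (Set.finite_range ytil))
  have hytil𝔎 : ∀ j, π (ytil j) = 0 := by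
    intro j
    rw [← hlam_mk r, hytil, hy]
  have hJ'le : J' ≤ 𝔎 := by
    refine sup_le (hJ𝔎 r) ?_
    rw [Ideal.span_le]
    rintro _ ⟨j, rfl⟩
    exact hytil𝔎 j
  suffices hle : 𝔎 ≤ J' by
    rw [show 𝔎 = J' from le_antisymm hle hJ'le]
    exact hJ'fg
  -- the quotient by `J'`
  have hQ' : HenselianRing (P ⧸ J') (I.map (algebraMap A (P ⧸ J'))) :=
    map_map_eq_of_algHom hP.1 (Ideal.Quotient.mkₐ A J') (Ideal.Quotient.mkₐ_surjective A J')
  let π' : (P ⧸ J') →ₐ[A] B := Ideal.Quotient.liftₐ J' π (fun a ha => hJ'le ha)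
  have hπ'_mk : ∀ p, π' (Ideal.Quotient.mk J' p) = π p := fun p => rfl
  let fac : Ra r →ₐ[A] (P ⧸ J') := Ideal.Quotient.factorₐ A (le_sup_left : J r ≤ J')
  have hfac_mk : ∀ p, fac (Ideal.Quotient.mk (J r) p) = Ideal.Quotient.mk J' p := fun p => rfl
  let E : (P ⧸ J') →ₐ[A] (P ⧸ J') := (fac.comp φ).comp π'
  have hE : ∀ z, E z = fac (φ (π' z)) := fun z => rfl
  let mk' : P →ₐ[A] (P ⧸ J') := Ideal.Quotient.mkₐ A J'
  have hmk' : ∀ p, mk' p = Ideal.Quotient.mk J' p := fun p => rfl
  -- `E ∘ mk'` and `mk'` agree on `Pol`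
  have hagree : (E.comp mk').comp (IsScalarTower.toAlgHom A Pol P) =
      mk'.comp (IsScalarTower.toAlgHom A Pol P) := by
    apply AlgHom.ext_of_adjoin_eq_top hgen
    rintro _ ⟨j, rfl⟩
    show E (mk' (algebraMap Pol P (gen j))) = mk' (algebraMap Pol P (gen j))
    rw [hE, hmk', hπ'_mk]
    have h1 : π (algebraMap Pol P (gen j)) = lam r (x j) := rfl
    have h2 : φ (lam r (x j)) = y j + x j := by
      show _ = φ (lam r (x j)) - x j + x j
      ring
    rw [h1, h2, map_add, ← hytil j, hfac_mk]
    have h3 : Ideal.Quotient.mk J' (ytil j) = 0 := by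
      rw [Ideal.Quotient.eq_zero_iff_mem]
      exact Ideal.mem_sup_right (Ideal.subset_span ⟨j, rfl⟩)
    rw [h3, zero_add]
    rfl
  have hleI : (I.map (algebraMap A Pol)).map
      ((mk' : P →+* P ⧸ J').comp (algebraMap Pol P)) ≤ I.map (algebraMap A (P ⧸ J')) := by
    rw [Ideal.map_map]
    apply le_of_eq
    congr 1
    ext a
    show mk' (algebraMap Pol P (algebraMap A Pol a)) = _
    rw [← IsScalarTower.algebraMap_apply, AlgHom.commutes]
  obtain ⟨w, -, hwuniq⟩ := hP.2 (P ⧸ J') _ ((mk' : P →+* P ⧸ J').comp (algebraMap Pol P)) hQ' hleI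
  have hE1 : ((E.comp mk' : P →ₐ[A] P ⧸ J') : P →+* P ⧸ J') = w := by
    apply hwuniq
    ext p
    exact AlgHom.congr_fun hagree p
  have hE2 : (mk' : P →+* P ⧸ J') = w := by
    apply hwuniq
    rfl
  have hEmk : ∀ p, E (mk' p) = mk' p := fun p =>
    RingHom.congr_fun (hE1.trans hE2.symm) p
  intro z hz
  have hz0 : π z = 0 := hz
  have h1 := hEmk z
  rw [hE, hmk', hπ'_mk, hz0, map_zero, map_zero] at h1
  exact Ideal.Quotient.eq_zero_iff_mem.mp h1.symm

end kernel

/-- If `Hom_A(B, -)` turns filtered colimits of Henselian pairs into surjections of colimits, then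
`B` is a henselization of a finitely presented `A`-algebra. -/
theorem exists_fp_isPairHenselization (hB : HenselianRing B (I.map (algebraMap A B)))
    (h : FactorsThroughStage I B) :
    ∃ (R : Type u) (_ : CommRing R) (_ : Algebra A R) (_ : Algebra R B) (_ : IsScalarTower A R B),
      Algebra.FinitePresentation A R ∧ Hens2.IsPairHenselization R (I.map (algebraMap A R)) B := by
  obtain ⟨s, hsurj⟩ := exists_surjective_ev hB h
  have hfg := ker_fg_of_factorsThroughStage h (isPairHenselization_PH I B s)
    (fun j : s => (MvPolynomial.X j : Pol (A := A) B s)) MvPolynomial.adjoin_range_X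
    (ev hB s) hsurj
  exact exists_fp_of_surjective A I B (Pol (A := A) B s) (PH I B s) (isPairHenselization_PH I B s)
    (ev hB s) hsurj hfg

end Groth.Agent.Lib.helper26.HfpColim
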