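import Mathlib

/-!
# A dimension inequality from McCoy's theorem (helper26)

`finrank_le_of_mul`: `K` a field, `R` a commutative `K`-algebra, `V W ≤ R` finite dimensional subspaces,
`x_1, …, x_r ∈ R` with `x_i V ⊆ W` and no nonzero element of `R` killed by all the `x_i`.
Then `dim V ≤ dim W`.  (The generic element `Σ x_i t^i` is a nonzerodivisor of `R[t]` by McCoy.)
-/

set_option autoImplicit false
universe u

namespace Groth.Agent.Lib.helper26.HilbMono

open Polynomial

theorem finrank_le_of_mul {K : Type u} [Field K] {R : Type u} [CommRing R] [Algebra K R]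
    (V W : Submodule K R) [Module.Finite K V] [Module.Finite K W] (r : ℕ) (x : Fin r → R)
    (hxV : ∀ i, ∀ v ∈ V, x i * v ∈ W)
    (hx : ∀ c : R, (∀ i, c * x i = 0) → c = 0) :
    Module.finrank K V ≤ Module.finrank K W := by
  classical
  set ℓ : R[X] := Polynomial.ofFn r x with hℓ
  have hℓnzd : ℓ ∈ nonZeroDivisors R[X] := by
    rw [Polynomial.mem_nonZeroDivisors_iff]
    intro a ha
    apply hx
    intro i
    have h1 := congrArg (fun p => Polynomial.coeff p i) ha
    simp only [Polynomial.coeff_smul, Polynomial.coeff_zero, smul_eq_mul] at h1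
    rwa [hℓ, Polynomial.ofFn_coeff_eq_val_of_lt x i.2] at h1
  have hcoeffℓ : ∀ a, ∀ v ∈ V, ℓ.coeff a * v ∈ W := by
    intro a v hv
    by_cases ha : a < r
    · rw [hℓ, Polynomial.ofFn_coeff_eq_val_of_lt x ha]
      exact hxV _ v hv
    · rw [hℓ, Polynomial.ofFn_coeff_eq_zero_of_ge x (not_lt.1 ha), zero_mul]
      exact zero_mem _
  have key : ∀ N : ℕ, N * Module.finrank K V ≤ (N + r) * Module.finrank K W := by
    intro N
    let P : (Fin N → V) → R[X] := fun v => Polynomial.ofFn N (fun l => ((v l : V) : R))
    have hPadd : ∀ v w, P (v + w) = P v + P w := by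
      intro v w
      show Polynomial.ofFn N (fun l => (((v + w) l : V) : R)) = _
      rw [← map_add]
      rfl
    have hPsmul : ∀ (c : K) v, P (c • v) = algebraMap K R c • P v := by
      intro c v
      show Polynomial.ofFn N (fun l => (((c • v) l : V) : R)) = _
      rw [← map_smul]
      congr 1
      funext l
      show ((c • v l : V) : R) = algebraMap K R c • ((v l : V) : R)
      rw [Submodule.coe_smul, Algebra.smul_def, smul_eq_mul]
    have hPcoeff : ∀ v b, (P v).coeff b ∈ V := by
      intro v b
      by_cases hb : b < N
      · rw [Polynomial.ofFn_coeff_eq_val_of_lt _ hb]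
        exact (v ⟨b, hb⟩).2
      · rw [Polynomial.ofFn_coeff_eq_zero_of_ge _ (not_lt.1 hb)]
        exact zero_mem _
    have hmem : ∀ v j, (ℓ * P v).coeff j ∈ W := by
      intro v j
      rw [Polynomial.coeff_mul]
      exact Submodule.sum_mem _ (fun ab _ => hcoeffℓ ab.1 _ (hPcoeff v ab.2))
    let Φ : (Fin N → V) →ₗ[K] (Fin (N + r) → W) :=
      { toFun := fun v j => ⟨(ℓ * P v).coeff j, hmem v j⟩
        map_add' := by
          intro v w
          funext j
          apply Subtype.ext
          show (ℓ * P (v + w)).coeff j = (ℓ * P v).coeff j + (ℓ * P w).coeff j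
          rw [hPadd, mul_add, Polynomial.coeff_add]
        map_smul' := by
          intro c v
          funext j
          apply Subtype.ext
          show (ℓ * P (c • v)).coeff j = c • (ℓ * P v).coeff j
          rw [hPsmul, mul_smul_comm, Polynomial.coeff_smul, smul_eq_mul, Algebra.smul_def] }
    have hΦ : Function.Injective Φ := by
      rw [injective_iff_map_eq_zero]
      intro v hv
      have h1 : ∀ j, (ℓ * P v).coeff j = 0 := by
        intro j
        by_cases hj : j < N + r
        · have := congrFun hv ⟨j, hj⟩
          exact congrArg Subtype.val this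
        · rw [Polynomial.coeff_mul]
          apply Finset.sum_eq_zero
          intro ab hab
          have hab' : ab.1 + ab.2 = j := Finset.HasAntidiagonal.mem_antidiagonal.1 hab
          by_cases ha : ab.1 < r
          · have hb : N ≤ ab.2 := by omega
            rw [Polynomial.ofFn_coeff_eq_zero_of_ge _ hb, mul_zero]
          · rw [hℓ, Polynomial.ofFn_coeff_eq_zero_of_ge x (not_lt.1 ha), zero_mul]
      have h2 : ℓ * P v = 0 := Polynomial.ext (fun j => by rw [h1 j, Polynomial.coeff_zero])
      have h3 : P v = 0 := by
        rw [mul_comm] at h2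
        exact (mem_nonZeroDivisors_iff_right.1 hℓnzd) _ h2
      funext l
      apply Subtype.ext
      have h4 := congrArg (fun p => Polynomial.coeff p (l : ℕ)) h3
      simp only [Polynomial.coeff_zero] at h4
      rw [Polynomial.ofFn_coeff_eq_val_of_lt _ l.2] at h4
      exact h4
    have h5 := LinearMap.finrank_le_finrank_of_injective hΦ
    rw [Module.finrank_pi_fintype, Module.finrank_pi_fintype] at h5
    simpa using h5
  by_contra hcon
  push Not at hcon
  have h6 := key (r * Module.finrank K W + 1)
  have h7 : (r * Module.finrank K W + 1) * (Module.finrank K W + 1) ≤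
      (r * Module.finrank K W + 1 + r) * Module.finrank K W :=
    le_trans (Nat.mul_le_mul_left _ hcon) h6
  have h8 : (r * Module.finrank K W + 1) * (Module.finrank K W + 1) =
      (r * Module.finrank K W + 1 + r) * Module.finrank K W + 1 := by ring
  omega
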