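import Mathlib
import Groth.Prelude.Def_GrLC
import Groth.Prelude.Def_CAlg
import Groth.Agent.Lib.Helper26.HilbMono1
import Groth.Agent.Lib.Helper26.GorS5
import Groth.Agent.Lib.Helper26.GorS7
import Groth.Agent.Lib.Helper19.GrFin1

/-!
# The Hilbert function of a Cohen–Macaulay standard graded ring of positive dimension is
non-decreasing (helper26)
-/

set_option autoImplicit false
set_option linter.unusedSectionVars false
universe u

namespace Groth.Agent.Lib.helper26.HilbMono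

open GrLC Groth.Agent.Lib.helper26.Can Groth.Agent.Lib.helper26.Seg RingTheory.Sequence
  Groth.Agent.Lib.helper26.GorS

variable {R : Type u} [CommRing R] (𝒜 : ℤ → AddSubgroup R) [GradedRing 𝒜]
  (hpos : ∀ n : ℤ, n < 0 → 𝒜 n = ⊥) (h0 : IsField (deg0 𝒜))

include hpos h0 in
/-- the Krull dimension of a Noetherian graded ring defined over a field is finite -/
theorem exists_ringKrullDim_eq [IsNoetherianRing R] [Nontrivial R] :
    ∃ r : ℕ, ringKrullDim R = r := by
  let _ : Field (deg0 𝒜) := h0.toField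
  have hFT : Algebra.FiniteType (deg0 𝒜) R :=
    finiteType_of_isNoetherianRing (subGr 𝒜) (subGr_eq_bot 𝒜 hpos) (subGr_zero 𝒜)
  obtain ⟨N, f, hf⟩ := Algebra.FiniteType.iff_quotient_mvPolynomial''.1 hFT
  have h1 : ringKrullDim R ≤ (N : ℕ) := by
    refine (ringKrullDim_le_of_surjective (f : MvPolynomial (Fin N) (deg0 𝒜) →+* R) hf).trans ?_
    rw [MvPolynomial.ringKrullDim_of_isNoetherianRing, ringKrullDim_eq_zero_of_field, zero_add,
      Nat.card_eq_fintype_card, Fintype.card_fin]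
  have hne : ringKrullDim R ≠ ⊥ := by
    intro h
    have h3 := ringKrullDim_nonneg_of_nontrivial (R := R)
    rw [h] at h3
    exact absurd h3 (by simp)
  obtain ⟨d, hd⟩ := WithBot.ne_bot_iff_exists.1 hne
  have h2 : d ≤ (N : ℕ∞) := by
    rw [← hd] at h1
    exact_mod_cast h1
  obtain ⟨r, hr⟩ := ENat.ne_top_iff_exists.1 (ne_top_of_le_ne_top (ENat.natCast_ne_top N) h2)
  exact ⟨r, by rw [← hd, ← hr]; rfl⟩

include hpos h0 in
theorem hilb_mono [LocCoh.IsCohenMacaulayRing R]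
    (hstd : Ideal.span (⋃ n ∈ Set.Ioi (0 : ℤ), (𝒜 n : Set R)) =
      Ideal.span ((𝒜 1 : AddSubgroup R) : Set R))
    (h1 : 1 ≤ ringKrullDim R) (n : ℤ) :
    Module.finrank (deg0 𝒜) (comp 𝒜 𝒜 n) ≤ Module.finrank (deg0 𝒜) (comp 𝒜 𝒜 (n + 1)) := by
  classical
  let _ : Field (deg0 𝒜) := h0.toField
  have hnt : Nontrivial R := by
    by_contra hcon
    rw [not_nontrivial_iff_subsingleton] at hcon
    rw [ringKrullDim_eq_bot_of_subsingleton] at h1
    exact absurd h1 (by simp)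
  obtain ⟨r, hr⟩ := exists_ringKrullDim_eq 𝒜 hpos h0
  have hr1 : 0 < r := by
    rw [hr] at h1
    exact_mod_cast h1
  obtain ⟨d, hd, y, hy, hreg⟩ := exists_regular_sop 𝒜 hpos h0 (irrHom 𝒜) (irrHom_toIdeal 𝒜) r hr
  obtain ⟨hwr, -⟩ := hreg 1 one_pos
  rw [isWeaklyRegular_ofFn_iff] at hwr
  have hx0reg : ∀ z : R, z * y ⟨0, hr1⟩ = 0 → z = 0 := by
    intro z hz
    have hempty : (fun i => y i ^ 1) '' {i : Fin r | i < ⟨0, hr1⟩} = ∅ := by
      rw [Set.image_eq_empty]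
      ext i
      simp only [Set.mem_ofPred_eq, Set.mem_empty_iff_false, iff_false, not_lt]
      exact Nat.zero_le _
    have h2 := hwr ⟨0, hr1⟩ z
    rw [hempty, Ideal.span_empty] at h2
    have h3 : y ⟨0, hr1⟩ ^ 1 * z ∈ (⊥ : Ideal R) := by
      rw [pow_one, mul_comm, hz]
      exact zero_mem _
    exact (Ideal.mem_bot).1 (h2 h3)
  have hx0irr : y ⟨0, hr1⟩ ∈ Ideal.span ((𝒜 1 : AddSubgroup R) : Set R) := by
    rw [← hstd]
    exact Ideal.subset_span (Set.mem_iUnion₂.2 ⟨(d : ℤ), by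
      simp only [Set.mem_Ioi]; exact_mod_cast hd, hy _⟩)
  have hfin : ∀ j, Module.Finite (deg0 𝒜) (comp 𝒜 𝒜 j) :=
    fun j => Groth.Agent.Lib.helper19.GrFin.finite_comp 𝒜 hpos 𝒜 j
  obtain ⟨s, x, hxspan⟩ := Module.Finite.exists_fin (R := deg0 𝒜) (M := comp 𝒜 𝒜 1)
  refine finrank_le_of_mul (comp 𝒜 𝒜 n) (comp 𝒜 𝒜 (n + 1)) s (fun i => ((x i : comp 𝒜 𝒜 1) : R))
    ?_ ?_
  · intro i v hv
    have h4 : ((x i : comp 𝒜 𝒜 1) : R) * v ∈ 𝒜 (1 + n) :=
      SetLike.GradedMul.mul_mem (x i).2 hv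
    rw [add_comm] at h4
    exact h4
  · intro c hc
    apply hx0reg
    have hspan' : (comp 𝒜 𝒜 1 : Submodule (deg0 𝒜) R) =
        Submodule.span (deg0 𝒜) (Set.range fun i => ((x i : comp 𝒜 𝒜 1) : R)) := by
      have h5 := congrArg (Submodule.map (comp 𝒜 𝒜 1).subtype) hxspan
      rw [Submodule.map_span, Submodule.map_subtype_top, ← Set.range_comp] at h5
      exact h5.symm
    have hle : (comp 𝒜 𝒜 1 : Submodule (deg0 𝒜) R) ≤
        LinearMap.ker (LinearMap.mulLeft (deg0 𝒜) c) := by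
      rw [hspan']
      apply Submodule.span_le.2
      rintro _ ⟨i, rfl⟩
      exact hc i
    have hle2 : Ideal.span ((𝒜 1 : AddSubgroup R) : Set R) ≤
        LinearMap.ker (LinearMap.mulLeft R c) := by
      apply Ideal.span_le.2
      intro z hz
      exact hle (show z ∈ comp 𝒜 𝒜 1 from hz)
    exact hle2 hx0irr
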