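import Mathlib
import Groth.Agent.Lib.Helper26.FiniteOverHensU
import Groth.Agent.Lib.Helper26.LocalOfSpec
import Groth.Agent.Lib.Helper26.HenselPair

/-!
# The unit component of a finite flat group scheme over a henselian local ring (helper26)
-/

universe u v

namespace Groth.Agent.Lib.helper26.HopfUnitComp

open IsLocalRing TensorProduct Coalgebra Groth.Agent.Lib.helper26.LocalOfSpec

theorem eq_zero_or_one_of_isIdempotentElem {C : Type*} [CommRing C] [IsLocalRing C] {f : C}
    (hf : IsIdempotentElem f) : f = 0 ∨ f = 1 := by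
  rcases IsLocalRing.isUnit_or_isUnit_one_sub_self f with h | h
  · right
    exact (IsIdempotentElem.iff_eq_one_of_isUnit h).mp hf
  · left
    have h1 : IsIdempotentElem (1 - f) := hf.one_sub
    have := (IsIdempotentElem.iff_eq_one_of_isUnit h).mp h1
    rw [sub_eq_self] at this
    exact this

/-- `(ε ⊗ ε) ∘ Δ = ε` in the form of the algebra map `A ⊗ A → R`. -/
theorem lift_counit_comul {R : Type u} [CommRing R] {A : Type v} [CommRing A] [Bialgebra R A]
    (a : A) :
    Algebra.TensorProduct.lift (Bialgebra.counitAlgHom R A) (Bialgebra.counitAlgHom R A)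
      (fun _ _ => Commute.all _ _) (comul (R := R) a) = counit (R := R) a := by
  let 𝓡 := Coalgebra.Repr.arbitrary R a
  rw [← 𝓡.eq, map_sum]
  simp only [Algebra.TensorProduct.lift_tmul, Bialgebra.counitAlgHom_apply]
  have h := Coalgebra.sum_counit_smul 𝓡
  have h2 := congrArg (counit (R := R)) h
  rw [map_sum] at h2
  simp only [map_smul, smul_eq_mul] at h2
  exact h2

set_option maxHeartbeats 800000 in
theorem main (R : Type u) [CommRing R] [HenselianLocalRing R]
    (A : Type v) [CommRing A] [HopfAlgebra R A] [Module.Finite R A] [Module.Flat R A]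
    (e : A) (he : IsIdempotentElem e) (hε : Bialgebra.counitAlgHom R A e = 1)
    [IsLocalRing (A ⧸ Ideal.span ({1 - e} : Set A))] :
    (Ideal.span ({1 - e} : Set A)).IsHopfIdeal R ∧
      HenselianLocalRing (A ⧸ Ideal.span ({1 - e} : Set A)) ∧
      Function.Surjective (⇑(IsLocalRing.residue (A ⧸ Ideal.span ({1 - e} : Set A))) ∘
        ⇑(algebraMap R (A ⧸ Ideal.span ({1 - e} : Set A)))) ∧
      Module.Flat R (A ⧸ Ideal.span ({1 - e} : Set A)) := by
  -- the counit kills `I`
  have hεI : ∀ a ∈ Ideal.span ({1 - e} : Set A), Bialgebra.counitAlgHom R A a = 0 := by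
    intro a ha
    obtain ⟨c, rfl⟩ := Ideal.mem_span_singleton'.mp ha
    rw [map_mul, map_sub, map_one, hε, sub_self, mul_zero]
  let π : A →ₐ[R] A ⧸ Ideal.span ({1 - e} : Set A) := Ideal.Quotient.mkₐ R _
  have hπs : Function.Surjective π := Ideal.Quotient.mk_surjective
  let εb : A ⧸ Ideal.span ({1 - e} : Set A) →ₐ[R] R :=
    Ideal.Quotient.liftₐ _ (Bialgebra.counitAlgHom R A) hεI
  have hεb : ∀ a, εb (π a) = Bialgebra.counitAlgHom R A a := fun a => rfl
  have hkerεb : RingHom.ker εb ≤ maximalIdeal (A ⧸ Ideal.span ({1 - e} : Set A)) := by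
    intro y hy
    rw [mem_maximalIdeal, mem_nonunits_iff]
    intro hu
    have h1 := hu.map εb
    rw [RingHom.mem_ker] at hy
    rw [hy] at h1
    exact not_isUnit_zero h1
  have hfin : Module.Finite R (A ⧸ Ideal.span ({1 - e} : Set A)) :=
    Module.Finite.of_surjective π.toLinearMap hπs
  refine ⟨?_, ?_, ?_, ?_⟩
  · -- `A₀ ⊗ A₀` is local
    let φ : (A ⧸ Ideal.span ({1 - e} : Set A)) ⊗[R] (A ⧸ Ideal.span ({1 - e} : Set A)) →ₐ[R]
        R ⊗[R] (A ⧸ Ideal.span ({1 - e} : Set A)) :=
      Algebra.TensorProduct.map εb (AlgHom.id R _)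
    have hεbs : Function.Surjective εb := fun r => ⟨algebraMap R _ r, by
      rw [AlgHom.commutes]; rfl⟩
    have hφs : Function.Surjective φ :=
      Algebra.TensorProduct.map_surjective εb (AlgHom.id R _) hεbs Function.surjective_id
    have hker : RingHom.ker φ = (RingHom.ker εb).map
        (algebraMap (A ⧸ Ideal.span ({1 - e} : Set A))
          ((A ⧸ Ideal.span ({1 - e} : Set A)) ⊗[R] (A ⧸ Ideal.span ({1 - e} : Set A)))) :=
      Algebra.TensorProduct.rTensor_ker (R := R) (S := R)
        (C := A ⧸ Ideal.span ({1 - e} : Set A)) εb hεbs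
    have hint : Algebra.IsIntegral (A ⧸ Ideal.span ({1 - e} : Set A))
        ((A ⧸ Ideal.span ({1 - e} : Set A)) ⊗[R] (A ⧸ Ideal.span ({1 - e} : Set A))) :=
      Algebra.IsIntegral.of_finite _ _
    have hjac : RingHom.ker εb ≤ Ideal.jacobson ⊥ := by
      refine hkerεb.trans ?_
      rw [IsLocalRing.jacobson_eq_maximalIdeal ⊥ bot_ne_top]
    have hkerle : RingHom.ker (φ : (A ⧸ Ideal.span ({1 - e} : Set A)) ⊗[R]
        (A ⧸ Ideal.span ({1 - e} : Set A)) →+* R ⊗[R] (A ⧸ Ideal.span ({1 - e} : Set A))) ≤
        Ideal.jacobson ⊥ := by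
      have h0 : RingHom.ker (φ : (A ⧸ Ideal.span ({1 - e} : Set A)) ⊗[R]
        (A ⧸ Ideal.span ({1 - e} : Set A)) →+* R ⊗[R] (A ⧸ Ideal.span ({1 - e} : Set A))) =
          RingHom.ker φ := rfl
      rw [h0, hker]
      exact Groth.Agent.Lib.helper26.HenselPair.map_le_jacobson_of_isIntegral hjac _
    have hloc1 : IsLocalRing (R ⊗[R] (A ⧸ Ideal.span ({1 - e} : Set A))) :=
      (Algebra.TensorProduct.lid R (A ⧸ Ideal.span ({1 - e} : Set A))).symm.toRingEquiv.isLocalRing
    have hC : IsLocalRing ((A ⧸ Ideal.span ({1 - e} : Set A)) ⊗[R]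
        (A ⧸ Ideal.span ({1 - e} : Set A))) :=
      isLocalRing_of_surjective_of_ker_le_jacobson
        (φ : (A ⧸ Ideal.span ({1 - e} : Set A)) ⊗[R]
        (A ⧸ Ideal.span ({1 - e} : Set A)) →+* R ⊗[R] (A ⧸ Ideal.span ({1 - e} : Set A)))
        hφs hkerle
    let Φ : A ⊗[R] A →ₐ[R] (A ⧸ Ideal.span ({1 - e} : Set A)) ⊗[R]
        (A ⧸ Ideal.span ({1 - e} : Set A)) := Algebra.TensorProduct.map π π
    let ψ : (A ⧸ Ideal.span ({1 - e} : Set A)) ⊗[R] (A ⧸ Ideal.span ({1 - e} : Set A)) →ₐ[R] R :=
      Algebra.TensorProduct.lift εb εb (fun _ _ => Commute.all _ _)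
    have hψΦ : ψ.comp Φ = Algebra.TensorProduct.lift (Bialgebra.counitAlgHom R A)
        (Bialgebra.counitAlgHom R A) (fun _ _ => Commute.all _ _) := by
      apply Algebra.TensorProduct.ext'
      intro a b
      show ψ (Φ (a ⊗ₜ b)) = _
      show ψ (π a ⊗ₜ π b) = _
      rw [Algebra.TensorProduct.lift_tmul, Algebra.TensorProduct.lift_tmul, hεb, hεb]
    have hcounit : counit (R := R) e = 1 := hε
    have hf : IsIdempotentElem (Φ (comul (R := R) e)) := by
      show _ * _ = _
      rw [← map_mul, ← Bialgebra.comul_mul, he.eq]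
    have hf1 : Φ (comul (R := R) e) = 1 := by
      rcases eq_zero_or_one_of_isIdempotentElem hf with h | h
      · exfalso
        have h2 := AlgHom.congr_fun hψΦ (comul (R := R) e)
        rw [lift_counit_comul, hcounit] at h2
        have h3 : ψ (Φ (comul (R := R) e)) = 1 := h2
        rw [h, map_zero] at h3
        exact zero_ne_one h3
      · exact h
    have hS : π (HopfAlgebra.antipode R e) = 1 := by
      have hidem : IsIdempotentElem (π (HopfAlgebra.antipodeAlgHom R A e)) := by
        show _ * _ = _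
        rw [← map_mul, ← map_mul, he.eq]
      rcases eq_zero_or_one_of_isIdempotentElem hidem with h | h
      · exfalso
        have h2 := hεb (HopfAlgebra.antipodeAlgHom R A e)
        rw [h, map_zero] at h2
        have h3 : counit (R := R) (HopfAlgebra.antipode R e) = 1 := by
          rw [HopfAlgebra.counit_antipode, hcounit]
        have h4 : Bialgebra.counitAlgHom R A (HopfAlgebra.antipodeAlgHom R A e) = 1 := h3
        rw [h4] at h2
        exact zero_ne_one h2
      · exact h
    have hco : ((Ideal.span ({1 - e} : Set A)).restrictScalars R).IsCoideal := by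
      refine ⟨?_, ?_⟩
      · intro x hx
        exact hεI x hx
      · intro x hx
        obtain ⟨c, rfl⟩ := Ideal.mem_span_singleton'.mp hx
        let ρ := Submodule.Quotient.restrictScalarsEquiv R (Ideal.span ({1 - e} : Set A))
        have hρ : ρ.toLinearMap ∘ₗ ((Ideal.span ({1 - e} : Set A)).restrictScalars R).mkQ =
            π.toLinearMap := LinearMap.ext (fun a => rfl)
        have hinj : Function.Injective (TensorProduct.map ρ.toLinearMap ρ.toLinearMap) :=
          (TensorProduct.congr ρ ρ).injective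
        apply hinj
        rw [map_zero, ← LinearMap.comp_apply, ← TensorProduct.map_comp, hρ]
        show Φ (comul (R := R) (c * (1 - e))) = 0
        rw [Bialgebra.comul_mul, map_mul, map_sub, map_sub, Bialgebra.comul_one, map_one, hf1,
          sub_self, mul_zero]
    refine { toIsCoideal := hco, antipode_mem := ?_ }
    · intro x hx
      obtain ⟨c, rfl⟩ := Ideal.mem_span_singleton'.mp hx
      have h1 : HopfAlgebra.antipode R (c * (1 - e)) =
          HopfAlgebra.antipode R c * (1 - HopfAlgebra.antipode R e) := by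
        rw [HopfAlgebra.antipode_mul_distrib, map_sub, HopfAlgebra.antipode_one]
      rw [h1]
      apply Ideal.mul_mem_left
      rw [← Ideal.Quotient.eq_zero_iff_mem]
      show π (1 - HopfAlgebra.antipode R e) = 0
      rw [map_sub, map_one, hS, sub_self]
  · exact Groth.Agent.Lib.helper26.FiniteOverHens.henselianLocalRing_of_finite' R _
  · intro y
    obtain ⟨x, rfl⟩ := residue_surjective y
    refine ⟨εb x, ?_⟩
    show residue _ (algebraMap R _ (εb x)) = residue _ x
    rw [← sub_eq_zero, ← map_sub, residue_eq_zero_iff]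
    apply hkerεb
    rw [RingHom.mem_ker, map_sub, AlgHom.commutes, Algebra.algebraMap_self, RingHom.id_apply,
      sub_self]
  · -- a retract of `A`
    have hle : (Ideal.span ({1 - e} : Set A)).restrictScalars R ≤
        LinearMap.ker (LinearMap.mulLeft R e) := by
      intro a ha
      obtain ⟨c, rfl⟩ := Ideal.mem_span_singleton'.mp ha
      rw [LinearMap.mem_ker, LinearMap.mulLeft_apply]
      have : e * (c * (1 - e)) = c * (e * (1 - e)) := by ring
      rw [this, mul_sub, mul_one, he.eq, sub_self, mul_zero]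
    let i : (A ⧸ Ideal.span ({1 - e} : Set A)) →ₗ[R] A :=
      (Submodule.liftQ _ (LinearMap.mulLeft R e) hle).comp
        (Submodule.Quotient.restrictScalarsEquiv R (Ideal.span ({1 - e} : Set A))).symm.toLinearMap
    refine Module.Flat.of_retract i π.toLinearMap ?_
    apply LinearMap.ext
    intro x
    obtain ⟨a, rfl⟩ := hπs x
    show π (e * a) = π a
    rw [← sub_eq_zero, ← map_sub]
    show Ideal.Quotient.mk _ (e * a - a) = 0
    rw [Ideal.Quotient.eq_zero_iff_mem]
    apply Ideal.mem_span_singleton'.mpr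
    exact ⟨-a, by ring⟩

end Groth.Agent.Lib.helper26.HopfUnitComp
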