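import Mathlib
import Groth.Prelude.Def_SGA3
import Groth.Agent.Lib.Helper26.Conv3
import Groth.Agent.Lib.Helper26.PairHensCRT
import Groth.Agent.Lib.Helper26.HenselPair

/-!
# The unit component of a finite group scheme over a local ring is normal (helper26)
-/

universe u

namespace Groth.Agent.Lib.helper26.HopfUnitNormal

open IsLocalRing TensorProduct Coalgebra Groth.Agent.Lib.helper26.Conv3

set_option maxHeartbeats 800000 in
theorem main (R : Type u) [CommRing R] [IsLocalRing R]
    (A : Type u) [CommRing A] [HopfAlgebra R A] [Module.Finite R A]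
    (e : A) (he : IsIdempotentElem e) (hε : Bialgebra.counitAlgHom R A e = 1)
    [IsLocalRing (A ⧸ Ideal.span ({1 - e} : Set A))] :
    SGA3.IsNormalHopfIdeal R A (Ideal.span ({1 - e} : Set A)) := by
  intro T _ _ g h hh a ha
  have hεI : ∀ a ∈ Ideal.span ({1 - e} : Set A), Bialgebra.counitAlgHom R A a = 0 := by
    intro a ha
    obtain ⟨c, rfl⟩ := Ideal.mem_span_singleton'.mp ha
    rw [map_mul, map_sub, map_one, hε, sub_self, mul_zero]
  let π : A →ₐ[R] A ⧸ Ideal.span ({1 - e} : Set A) := Ideal.Quotient.mkₐ R _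
  have hπs : Function.Surjective π := Ideal.Quotient.mk_surjective
  let εb : A ⧸ Ideal.span ({1 - e} : Set A) →ₐ[R] R :=
    Ideal.Quotient.liftₐ _ (Bialgebra.counitAlgHom R A) hεI
  have hεb : ∀ a, εb (π a) = Bialgebra.counitAlgHom R A a := fun a => rfl
  have hεbs : Function.Surjective εb := fun r => ⟨algebraMap R _ r, by
    rw [AlgHom.commutes]; rfl⟩
  have hkerεb : RingHom.ker εb ≤ maximalIdeal (A ⧸ Ideal.span ({1 - e} : Set A)) := by
    intro y hy
    rw [mem_maximalIdeal, mem_nonunits_iff]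
    intro hu
    have h1 := hu.map εb
    rw [RingHom.mem_ker] at hy
    rw [hy] at h1
    exact not_isUnit_zero h1
  have hjac : RingHom.ker εb ≤ Ideal.jacobson ⊥ := by
    refine hkerεb.trans ?_
    rw [IsLocalRing.jacobson_eq_maximalIdeal ⊥ bot_ne_top]
  have hfin : Module.Finite R (A ⧸ Ideal.span ({1 - e} : Set A)) :=
    Module.Finite.of_surjective π.toLinearMap hπs
  -- the universal case
  let gu : A →ₐ[R] A ⊗[R] (A ⧸ Ideal.span ({1 - e} : Set A)) := Algebra.TensorProduct.includeLeft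
  let hu : A →ₐ[R] A ⊗[R] (A ⧸ Ideal.span ({1 - e} : Set A)) :=
    (Algebra.TensorProduct.includeRight).comp π
  let cu := Dyn.conv3 R A gu hu (gu.comp (HopfAlgebra.antipodeAlgHom R A))
  let χ : A ⊗[R] (A ⧸ Ideal.span ({1 - e} : Set A)) →ₐ[R] A :=
    Algebra.TensorProduct.lift (AlgHom.id R A) ((Algebra.ofId R A).comp εb)
      (fun _ _ => Commute.all _ _)
  have hχg : χ.comp gu = AlgHom.id R A := by
    apply AlgHom.ext
    intro a
    have h0 : χ (a ⊗ₜ 1) = (AlgHom.id R A) a * ((Algebra.ofId R A).comp εb) 1 :=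
      Algebra.TensorProduct.lift_tmul _ _ _ _ _
    show χ (a ⊗ₜ 1) = a
    rw [h0, map_one, mul_one]
    rfl
  have hχh : χ.comp hu = (Algebra.ofId R A).comp (Bialgebra.counitAlgHom R A) := by
    apply AlgHom.ext
    intro a
    have h0 : χ (1 ⊗ₜ π a) = (AlgHom.id R A) 1 * ((Algebra.ofId R A).comp εb) (π a) :=
      Algebra.TensorProduct.lift_tmul _ _ _ _ _
    show χ (1 ⊗ₜ π a) = _
    rw [h0, map_one, one_mul]
    rfl
  have hχcu : χ.comp cu = (Algebra.ofId R A).comp (Bialgebra.counitAlgHom R A) := by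
    show χ.comp (Dyn.conv3 R A gu hu (gu.comp (HopfAlgebra.antipodeAlgHom R A))) = _
    rw [comp_conv3, hχg, hχh, ← AlgHom.comp_assoc, hχg, AlgHom.id_comp]
    exact conv3_id_unit_antipode
  have hχe : χ (cu e) = 1 := by
    have h1 := AlgHom.congr_fun hχcu e
    have h2 : χ (cu e) = algebraMap R A (Bialgebra.counitAlgHom R A e) := h1
    rw [h2, hε, map_one]
  -- `ker χ` is contained in the Jacobson radical
  have hkerχ : RingHom.ker χ ≤ Ideal.jacobson ⊥ := by
    let _ : Algebra (A ⧸ Ideal.span ({1 - e} : Set A))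
        (A ⊗[R] (A ⧸ Ideal.span ({1 - e} : Set A))) := Algebra.TensorProduct.rightAlgebra
    have hfin2 : Module.Finite (A ⧸ Ideal.span ({1 - e} : Set A))
        (A ⊗[R] (A ⧸ Ideal.span ({1 - e} : Set A))) :=
      Module.Finite.equiv (Algebra.TensorProduct.commRight R
        (A ⧸ Ideal.span ({1 - e} : Set A)) A).toLinearEquiv
    have hint : Algebra.IsIntegral (A ⧸ Ideal.span ({1 - e} : Set A))
        (A ⊗[R] (A ⧸ Ideal.span ({1 - e} : Set A))) := Algebra.IsIntegral.of_finite _ _
    have h1 := Groth.Agent.Lib.helper26.HenselPair.map_le_jacobson_of_isIntegral hjac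
      (A ⊗[R] (A ⧸ Ideal.span ({1 - e} : Set A)))
    have h2 : RingHom.ker (Algebra.TensorProduct.map (AlgHom.id R A) εb) =
        (RingHom.ker εb).map (algebraMap (A ⧸ Ideal.span ({1 - e} : Set A))
          (A ⊗[R] (A ⧸ Ideal.span ({1 - e} : Set A)))) :=
      Algebra.TensorProduct.lTensor_ker εb hεbs
    have h3 : χ = (Algebra.TensorProduct.rid R R A).toAlgHom.comp
        (Algebra.TensorProduct.map (AlgHom.id R A) εb) := by
      apply Algebra.TensorProduct.ext'
      intro a x
      have h0 : χ (a ⊗ₜ x) = (AlgHom.id R A) a * ((Algebra.ofId R A).comp εb) x :=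
        Algebra.TensorProduct.lift_tmul _ _ _ _ _
      show χ (a ⊗ₜ x) = Algebra.TensorProduct.rid R R A (a ⊗ₜ εb x)
      rw [h0, Algebra.TensorProduct.rid_tmul]
      show a * algebraMap R A (εb x) = εb x • a
      rw [Algebra.smul_def, mul_comm]
    intro x hx
    apply h1
    rw [← h2, RingHom.mem_ker]
    rw [RingHom.mem_ker, h3] at hx
    exact (Algebra.TensorProduct.rid R R A).injective (by rw [map_zero]; exact hx)
  have hcue : cu e = 1 := by
    have hidem : IsIdempotentElem (cu e) := by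
      show _ * _ = _
      rw [← map_mul, he.eq]
    have hid : IsIdempotentElem (1 - cu e) := hidem.one_sub
    have hmem : 1 - cu e ∈ RingHom.ker χ := by
      rw [RingHom.mem_ker, map_sub, map_one, hχe, sub_self]
    have := Groth.Agent.Lib.helper26.PairHens.eq_zero_of_isIdempotentElem_of_mem_jacobson hid
      (hkerχ hmem)
    exact (sub_eq_zero.mp this).symm
  -- factor `(g, h)` through the universal case
  let hb : A ⧸ Ideal.span ({1 - e} : Set A) →ₐ[R] T := Ideal.Quotient.liftₐ _ h hh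
  let θ : A ⊗[R] (A ⧸ Ideal.span ({1 - e} : Set A)) →ₐ[R] T :=
    Algebra.TensorProduct.lift g hb (fun _ _ => Commute.all _ _)
  have hθg : θ.comp gu = g := by
    apply AlgHom.ext
    intro a
    have h0 : θ (a ⊗ₜ 1) = g a * hb 1 := Algebra.TensorProduct.lift_tmul _ _ _ _ _
    show θ (a ⊗ₜ 1) = g a
    rw [h0, map_one, mul_one]
  have hθh : θ.comp hu = h := by
    apply AlgHom.ext
    intro a
    have h0 : θ (1 ⊗ₜ π a) = g 1 * hb (π a) := Algebra.TensorProduct.lift_tmul _ _ _ _ _
    show θ (1 ⊗ₜ π a) = h a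
    rw [h0, map_one, one_mul]
    rfl
  have hfact : Dyn.conv3 R A g h (g.comp (HopfAlgebra.antipodeAlgHom R A)) = θ.comp cu := by
    show _ = θ.comp (Dyn.conv3 R A gu hu (gu.comp (HopfAlgebra.antipodeAlgHom R A)))
    rw [comp_conv3, hθg, hθh, ← AlgHom.comp_assoc, hθg]
  rw [hfact]
  obtain ⟨c, rfl⟩ := Ideal.mem_span_singleton'.mp ha
  show θ (cu (c * (1 - e))) = 0
  rw [map_mul, map_sub, map_one, hcue, sub_self, mul_zero, map_zero]

end Groth.Agent.Lib.helper26.HopfUnitNormal
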