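import Mathlib

/-!
# Finite torsion-free modules over a domain embed into free modules (helper26)

`exists_functionals`: a finite torsion-free module `M` over a domain `R` admits finitely many
`R`-linear functionals `M → R` which are jointly injective.
-/

set_option autoImplicit false
set_option linter.style.haveILetI false
universe u v

namespace Groth.Agent.Lib.helper26.IntDim

variable {R : Type u} {M : Type v} [CommRing R] [AddCommGroup M] [Module R M]

/-- a submodule has a finite jointly injective family of functionals. -/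
def HasFun (N : Submodule R M) : Prop :=
  ∃ (ι : Type) (_ : Fintype ι) (l : ι → ↥N →ₗ[R] R), ∀ x, (∀ i, l i x = 0) → x = 0

theorem hasFun_bot : HasFun (⊥ : Submodule R M) :=
  ⟨PEmpty, inferInstance, fun i => i.elim, fun _ _ => Subsingleton.elim _ _⟩

theorem hasFun_sup_span (htf : ∀ (r : R) (m : M), r • m = 0 → r = 0 ∨ m = 0)
    (N' : Submodule R M) (h : HasFun N') (y : M) : HasFun (N' ⊔ Submodule.span R {y}) := by
  classical
  obtain ⟨ι, _, l, hl⟩ := h
  by_cases hd : ∃ d : R, d ≠ 0 ∧ d • y ∈ N'
  · obtain ⟨d, hd0, hdy⟩ := hd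
    have hmem : ∀ x ∈ N' ⊔ Submodule.span R {y}, d • x ∈ N' := by
      intro x hx
      obtain ⟨n', hn', z, hz, rfl⟩ := Submodule.mem_sup.1 hx
      obtain ⟨r, rfl⟩ := Submodule.mem_span_singleton.1 hz
      rw [smul_add, smul_comm]
      exact N'.add_mem (N'.smul_mem _ hn') (N'.smul_mem _ hdy)
    let ν : ↥(N' ⊔ Submodule.span R {y}) →ₗ[R] ↥N' :=
      LinearMap.codRestrict N' (d • (N' ⊔ Submodule.span R {y}).subtype) (fun x => hmem x.1 x.2)
    refine ⟨ι, inferInstance, fun i => (l i).comp ν, fun x hx => ?_⟩
    have h1 : ν x = 0 := hl _ hx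
    have h2 : d • (x : M) = 0 := congrArg Subtype.val h1
    rcases htf d x h2 with h3 | h3
    · exact absurd h3 hd0
    · exact Subtype.ext h3
  · push Not at hd
    let Ψ : (↥N' × R) →ₗ[R] ↥(N' ⊔ Submodule.span R {y}) :=
      LinearMap.coprod (Submodule.inclusion le_sup_left)
        (LinearMap.toSpanSingleton R _ ⟨y, Submodule.mem_sup_right (Submodule.mem_span_singleton_self y)⟩)
    have hΨ : ∀ p : ↥N' × R, ((Ψ p : ↥(N' ⊔ Submodule.span R {y})) : M) = p.1 + p.2 • y := by
      intro p
      simp [Ψ, LinearMap.coprod_apply, LinearMap.toSpanSingleton_apply]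
    have hinj : Function.Injective Ψ := by
      rw [injective_iff_map_eq_zero]
      intro p hp
      have h1 : (p.1 : M) + p.2 • y = 0 := by rw [← hΨ, hp]; rfl
      have h2 : p.2 • y ∈ N' := by
        have : p.2 • y = -(p.1 : M) := eq_neg_of_add_eq_zero_right h1
        rw [this]
        exact N'.neg_mem p.1.2
      have h3 : p.2 = 0 := by
        by_contra hne
        exact hd p.2 hne h2
      rw [h3, zero_smul, add_zero] at h1
      exact Prod.ext (Subtype.ext h1) h3
    have hsurj : Function.Surjective Ψ := by
      rintro ⟨x, hx⟩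
      obtain ⟨n', hn', z, hz, rfl⟩ := Submodule.mem_sup.1 hx
      obtain ⟨r, rfl⟩ := Submodule.mem_span_singleton.1 hz
      exact ⟨(⟨n', hn'⟩, r), Subtype.ext (hΨ _)⟩
    let e := LinearEquiv.ofBijective Ψ ⟨hinj, hsurj⟩
    refine ⟨Option ι, inferInstance, fun o => match o with
      | none => (LinearMap.snd R ↥N' R).comp e.symm.toLinearMap
      | some i => ((l i).comp (LinearMap.fst R ↥N' R)).comp e.symm.toLinearMap, fun x hx => ?_⟩
    have h1 : (e.symm x).2 = 0 := hx none
    have h2 : (e.symm x).1 = 0 := hl _ (fun i => hx (some i))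
    have h3 : e.symm x = 0 := Prod.ext h2 h1
    exact e.symm.map_eq_zero_iff.1 h3

theorem hasFun_span (htf : ∀ (r : R) (m : M), r • m = 0 → r = 0 ∨ m = 0) (s : Finset M) :
    HasFun (Submodule.span R (s : Set M)) := by
  classical
  induction s using Finset.induction_on with
  | empty =>
    rw [Finset.coe_empty, Submodule.span_empty]
    exact hasFun_bot
  | insert y s _ ih =>
    rw [Finset.coe_insert, Submodule.span_insert, sup_comm]
    exact hasFun_sup_span htf _ ih y

/-- **Lemma E**: a finite torsion-free module over a domain has a finite jointly injective family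
of functionals (equivalently, it embeds in a finite free module). -/
theorem exists_functionals [Module.Finite R M]
    (htf : ∀ (r : R) (m : M), r • m = 0 → r = 0 ∨ m = 0) :
    ∃ (ι : Type) (_ : Fintype ι) (l : ι → M →ₗ[R] R), ∀ x, (∀ i, l i x = 0) → x = 0 := by
  obtain ⟨s, hs⟩ := (Module.finite_def.1 (inferInstance : Module.Finite R M))
  have h := hasFun_span htf s
  rw [hs] at h
  obtain ⟨ι, hι, l, hl⟩ := h
  refine ⟨ι, hι, fun i => (l i).comp (Submodule.topEquiv (R := R) (M := M)).symm.toLinearMap,
    fun x hx => ?_⟩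
  have := hl ((Submodule.topEquiv (R := R) (M := M)).symm x) hx
  exact (Submodule.topEquiv (R := R) (M := M)).symm.map_eq_zero_iff.1 this

end Groth.Agent.Lib.helper26.IntDim
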