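import Mathlib
import Groth.Agent.Lib.Helper26.IntDim1
import Groth.Agent.Lib.Helper26.AffEquidim

/-!
# Tensor products of finite type domains over a field are equidimensional (helper26)

* `eq_zero_of_mul_eq_zero`: if `B` has a jointly injective finite family of `R₁`-linear functionals
  and `A ⊗[k] R₁` is a domain, then nonzero elements of `A ⊗[k] R₁` are nonzerodivisors on
  `A ⊗[k] B`.
* `add_le_ringKrullDim_quotient_minimalPrimes`: every minimal prime `𝔓` of `A ⊗[k] B`
  (`A`, `B` finite type domains over the field `k`) has `dim A + dim B ≤ dim (A ⊗ B)/𝔓`.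
-/

set_option autoImplicit false
set_option linter.style.haveILetI false
universe u

namespace Groth.Agent.Lib.helper26.IntDim

open TensorProduct

section TorsionFree

variable {k A B R₁ : Type*} [CommRing k] [CommRing A] [CommRing B] [CommRing R₁]
  [Algebra k A] [Algebra k B] [Algebra k R₁] [Algebra R₁ B] [IsScalarTower k R₁ B]

/-- the inclusion `A ⊗ R₁ → A ⊗ B`. -/
noncomputable def inc : A ⊗[k] R₁ →ₐ[k] A ⊗[k] B :=
  Algebra.TensorProduct.map (AlgHom.id k A) (IsScalarTower.toAlgHom k R₁ B)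

/-- the functional `id ⊗ μ : A ⊗ B → A ⊗ R₁`. -/
noncomputable def Φ (μ : B →ₗ[R₁] R₁) : A ⊗[k] B →ₗ[k] A ⊗[k] R₁ :=
  TensorProduct.map LinearMap.id (μ.restrictScalars k)

theorem Φ_tmul (μ : B →ₗ[R₁] R₁) (a : A) (b : B) :
    Φ (k := k) (A := A) μ (a ⊗ₜ b) = a ⊗ₜ μ b := rfl

theorem Φ_inc_mul (μ : B →ₗ[R₁] R₁) (z : A ⊗[k] R₁) (τ : A ⊗[k] B) :
    Φ μ (inc z * τ) = z * Φ μ τ := by
  induction z using TensorProduct.induction_on with
  | zero => simp
  | add x y hx hy => rw [map_add, add_mul, map_add, hx, hy, add_mul]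
  | tmul a p =>
    induction τ using TensorProduct.induction_on with
    | zero => simp
    | add x y hx hy => rw [mul_add, map_add, hx, hy, map_add, mul_add]
    | tmul a' b =>
      have h1 : (inc (a ⊗ₜ[k] p) : A ⊗[k] B) = a ⊗ₜ (algebraMap R₁ B p) := by
        simp [inc]
      rw [h1, Algebra.TensorProduct.tmul_mul_tmul, Φ_tmul, Φ_tmul,
        Algebra.TensorProduct.tmul_mul_tmul, ← Algebra.smul_def, map_smul, smul_eq_mul]

theorem eq_zero_of_forall_Φ [Module.Flat k A] {κ : Type*} [Fintype κ] [DecidableEq κ]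
    (μ : κ → B →ₗ[R₁] R₁) (hμ : ∀ b, (∀ j, μ j b = 0) → b = 0) (τ : A ⊗[k] B)
    (h : ∀ j, Φ (k := k) (A := A) (μ j) τ = 0) : τ = 0 := by
  let Mμ : B →ₗ[k] (κ → R₁) := LinearMap.pi (fun j => (μ j).restrictScalars k)
  have hMμ : Function.Injective Mμ := by
    rw [injective_iff_map_eq_zero]
    intro b hb
    exact hμ b (fun j => congrFun hb j)
  have hinj : Function.Injective (LinearMap.lTensor A Mμ) :=
    Module.Flat.lTensor_preserves_injective_linearMap Mμ hMμ
  have hcomp : ∀ j, (LinearMap.proj j) ∘ₗ ((TensorProduct.piRight k k A (fun _ : κ => R₁)).toLinearMap ∘ₗ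
      LinearMap.lTensor A Mμ) = Φ (k := k) (A := A) (μ j) := by
    intro j
    apply TensorProduct.ext'
    intro a b
    rw [Φ_tmul]
    simp [Mμ]
  apply hinj
  rw [map_zero]
  apply (TensorProduct.piRight k k A (fun _ : κ => R₁)).injective
  rw [map_zero]
  funext j
  have := congrArg (fun f => f τ) (hcomp j)
  simp only [LinearMap.coe_comp, Function.comp_apply, LinearMap.proj_apply, LinearEquiv.coe_coe]
    at this
  rw [this, h j]
  rfl

/-- nonzero elements of the domain `A ⊗ R₁` are nonzerodivisors on `A ⊗ B`. -/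
theorem eq_zero_of_mul_eq_zero [Module.Flat k A] [IsDomain (A ⊗[k] R₁)] {κ : Type*} [Fintype κ]
    (μ : κ → B →ₗ[R₁] R₁) (hμ : ∀ b, (∀ j, μ j b = 0) → b = 0) (z : A ⊗[k] R₁) (hz : z ≠ 0)
    (τ : A ⊗[k] B) (h : (inc z : A ⊗[k] B) * τ = 0) : τ = 0 := by
  classical
  apply eq_zero_of_forall_Φ μ hμ
  intro j
  have h1 := Φ_inc_mul (μ j) z τ
  rw [h, map_zero] at h1
  rcases mul_eq_zero.1 h1.symm with h2 | h2
  · exact absurd h2 hz
  · exact h2

end TorsionFree

end Groth.Agent.Lib.helper26.IntDim
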