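import Mathlib
import Groth.Agent.Lib.Helper26.IntDim2

/-!
# Tensor products of finite type domains over a field are equidimensional, II (helper26)
-/

set_option autoImplicit false
set_option linter.style.haveILetI false
universe u

namespace Groth.Agent.Lib.helper26.IntDim

open TensorProduct Groth.Agent.Lib.helper26.DimFormula

/-- the Krull dimension of a domain finite and injective over `k[x_1..x_s]` is `s`. -/
theorem ringKrullDim_eq_of_finite_inj (k : Type u) [Field k] (A : Type u) [CommRing A] [IsDomain A]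
    [Algebra k A] [Algebra.FiniteType k A] (s : ℕ) (g : MvPolynomial (Fin s) k →ₐ[k] A)
    (hinj : Function.Injective g) (hfin : g.Finite) : ringKrullDim A = (s : WithBot ℕ∞) := by
  letI : Algebra (MvPolynomial (Fin s) k) A := g.toRingHom.toAlgebra
  haveI : IsScalarTower k (MvPolynomial (Fin s) k) A :=
    IsScalarTower.of_algebraMap_eq (fun x => (g.commutes x).symm)
  haveI : Module.Finite (MvPolynomial (Fin s) k) A := hfin
  haveI : FaithfulSMul (MvPolynomial (Fin s) k) A :=
    (faithfulSMul_iff_algebraMap_injective _ _).2 hinj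
  obtain ⟨n, hn, hdim⟩ := exists_nat_trdeg_eq_ringKrullDim k A
  have h1 := trdeg_add_eq k (MvPolynomial (Fin s) k) (A := A)
  have h0 : Algebra.trdeg (MvPolynomial (Fin s) k) A = 0 := trdeg_eq_zero
  rw [h0, add_zero, MvPolynomial.trdeg_of_isDomain, hn] at h1
  rw [hdim]
  have : (s : Cardinal.{u}) = n := by
    rw [← h1]
    simp
  have : s = n := by exact_mod_cast this
  rw [this]

/-- **Equidimensionality of tensor products**: every minimal prime `𝔓` of `A ⊗[k] B`, for
finite type domains `A`, `B` over a field `k`, satisfies `dim A + dim B ≤ dim (A ⊗ B)/𝔓`. -/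
theorem add_le_ringKrullDim_quotient_minimalPrimes (k : Type u) [Field k] (A B : Type u)
    [CommRing A] [CommRing B] [IsDomain A] [IsDomain B] [Algebra k A] [Algebra k B]
    [Algebra.FiniteType k A] [Algebra.FiniteType k B] (𝔓 : Ideal (A ⊗[k] B))
    (h𝔓 : 𝔓 ∈ minimalPrimes (A ⊗[k] B)) :
    ringKrullDim A + ringKrullDim B ≤ ringKrullDim ((A ⊗[k] B) ⧸ 𝔓) := by
  classical
  obtain ⟨s0, g0, hg0inj, hg0fin⟩ := exists_finite_inj_algHom_of_fg k A
  obtain ⟨s1, g1, hg1inj, hg1fin⟩ := exists_finite_inj_algHom_of_fg k B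
  rw [ringKrullDim_eq_of_finite_inj k A s0 g0 hg0inj hg0fin,
    ringKrullDim_eq_of_finite_inj k B s1 g1 hg1inj hg1fin]
  letI : Algebra (MvPolynomial (Fin s1) k) B := g1.toRingHom.toAlgebra
  haveI : IsScalarTower k (MvPolynomial (Fin s1) k) B :=
    IsScalarTower.of_algebraMap_eq (fun x => (g1.commutes x).symm)
  haveI : Module.Finite (MvPolynomial (Fin s1) k) B := hg1fin
  have htf : ∀ (r : MvPolynomial (Fin s1) k) (b : B), r • b = 0 → r = 0 ∨ b = 0 := by
    intro r b hrb
    rw [Algebra.smul_def] at hrb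
    rcases mul_eq_zero.1 hrb with h | h
    · left
      exact hg1inj (by rw [map_zero]; exact h)
    · right
      exact h
  obtain ⟨κ, hκ, μ, hμ⟩ := exists_functionals (R := MvPolynomial (Fin s1) k) (M := B) htf
  haveI : IsDomain (A ⊗[k] MvPolynomial (Fin s1) k) :=
    (MvPolynomial.algebraTensorAlgEquiv k A (σ := Fin s1)).toRingEquiv.toMulEquiv.isDomain _
  -- the map `R₀ ⊗ R₁ → A ⊗ R₁`
  let ρ0 : MvPolynomial (Fin s0) k ⊗[k] MvPolynomial (Fin s1) k →ₐ[k]
      A ⊗[k] MvPolynomial (Fin s1) k :=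
    Algebra.TensorProduct.map g0 (AlgHom.id k (MvPolynomial (Fin s1) k))
  have hρ0 : Function.Injective ρ0 := by
    have h1 : Function.Injective (LinearMap.rTensor (MvPolynomial (Fin s1) k) g0.toLinearMap) :=
      Module.Flat.rTensor_preserves_injective_linearMap _ hg0inj
    have h2 : ∀ x, ρ0 x = LinearMap.rTensor (MvPolynomial (Fin s1) k) g0.toLinearMap x := by
      intro x
      induction x using TensorProduct.induction_on with
      | zero => simp
      | add x y hx hy => rw [map_add, map_add, hx, hy]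
      | tmul a b => simp [ρ0]
    intro x y hxy
    apply h1
    rw [← h2, ← h2, hxy]
  have h𝔓p : 𝔓.IsPrime := h𝔓.1.1
  -- the map `R₀ ⊗ R₁ → (A ⊗ B)/𝔓`
  let ψ : MvPolynomial (Fin s0) k ⊗[k] MvPolynomial (Fin s1) k →ₐ[k] ((A ⊗[k] B) ⧸ 𝔓) :=
    (Ideal.Quotient.mkₐ k 𝔓).comp ((inc (k := k) (A := A) (B := B)
      (R₁ := MvPolynomial (Fin s1) k)).comp ρ0)
  have hψ : Function.Injective ψ := by
    rw [injective_iff_map_eq_zero]
    intro r hr
    by_contra hne
    have h1 : ρ0 r ≠ 0 := fun h => hne (hρ0 (by rw [h, map_zero]))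
    have h2 : (inc (ρ0 r) : A ⊗[k] B) ∈ nonZeroDivisors (A ⊗[k] B) := by
      rw [mem_nonZeroDivisors_iff_right]
      intro x hx
      rw [mul_comm] at hx
      exact eq_zero_of_mul_eq_zero μ hμ (ρ0 r) h1 x hx
    have h3 : (inc (ρ0 r) : A ⊗[k] B) ∈ 𝔓 := by
      have : ψ r = Ideal.Quotient.mk 𝔓 (inc (ρ0 r)) := rfl
      rw [this, Ideal.Quotient.eq_zero_iff_mem] at hr
      exact hr
    exact (Ideal.disjoint_nonZeroDivisors_of_mem_minimalPrimes h𝔓).le_bot ⟨h3, h2⟩
  haveI : Algebra.FiniteType k (A ⊗[k] B) :=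
    Algebra.FiniteType.trans (inferInstance : Algebra.FiniteType k A)
      (inferInstance : Algebra.FiniteType A (A ⊗[k] B))
  haveI : Algebra.FiniteType k ((A ⊗[k] B) ⧸ 𝔓) :=
    Algebra.FiniteType.of_surjective (Ideal.Quotient.mkₐ k 𝔓) (Ideal.Quotient.mkₐ_surjective k 𝔓)
  obtain ⟨n, hn, hdim⟩ := exists_nat_trdeg_eq_ringKrullDim k ((A ⊗[k] B) ⧸ 𝔓)
  rw [hdim]
  have h1 := trdeg_le_of_injective ψ hψ
  rw [(MvPolynomial.tensorEquivSum k (Fin s0) (Fin s1) k).trdeg_eq,
    MvPolynomial.trdeg_of_isDomain, hn] at h1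
  have h2 : ((s0 + s1 : ℕ) : Cardinal.{u}) ≤ n := by
    refine le_trans (le_of_eq ?_) h1
    simp
  have h3 : s0 + s1 ≤ n := by exact_mod_cast h2
  exact_mod_cast h3

end Groth.Agent.Lib.helper26.IntDim
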