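import Mathlib
import Groth.Agent.Lib.Helper26.IntDim3

/-!
# Reduction to the diagonal (helper26)

`S = k[x_i : i ∈ σ]`, `P`, `Q` ideals, `T = S/P ⊗[k] S/Q`, `μ : T → S/(P + Q)` the multiplication
map, `J = (x_i ⊗ 1 - 1 ⊗ x_i)`. Then `μ` is surjective with kernel `J`.

To keep instance paths unique we use a type synonym `QA P` for `S ⧸ P`.
-/

set_option autoImplicit false
set_option linter.style.haveILetI false
universe u

namespace Groth.Agent.Lib.helper26.IntDim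

open TensorProduct MvPolynomial

variable {k : Type u} [Field k] {σ : Type}

/-- a type synonym for the quotient `k[x] ⧸ P`. -/
def QA (P : Ideal (MvPolynomial σ k)) : Type u := MvPolynomial σ k ⧸ P

noncomputable instance (P : Ideal (MvPolynomial σ k)) : CommRing (QA P) :=
  inferInstanceAs (CommRing (MvPolynomial σ k ⧸ P))

noncomputable instance (P : Ideal (MvPolynomial σ k)) : Algebra k (QA P) :=
  inferInstanceAs (Algebra k (MvPolynomial σ k ⧸ P))

instance (P : Ideal (MvPolynomial σ k)) [P.IsPrime] : IsDomain (QA P) :=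
  inferInstanceAs (IsDomain (MvPolynomial σ k ⧸ P))

instance (P : Ideal (MvPolynomial σ k)) [Finite σ] : Algebra.FiniteType k (QA P) :=
  inferInstanceAs (Algebra.FiniteType k (MvPolynomial σ k ⧸ P))

/-- the quotient map. -/
noncomputable def QA.mk (P : Ideal (MvPolynomial σ k)) : MvPolynomial σ k →ₐ[k] QA P :=
  Ideal.Quotient.mkₐ k P

theorem QA.mk_surjective (P : Ideal (MvPolynomial σ k)) : Function.Surjective (QA.mk P) :=
  Ideal.Quotient.mkₐ_surjective k P

theorem QA.mk_eq_zero_iff (P : Ideal (MvPolynomial σ k)) (s : MvPolynomial σ k) :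
    QA.mk P s = 0 ↔ s ∈ P :=
  Ideal.Quotient.eq_zero_iff_mem

/-- the transition map for `P ≤ P'`. -/
noncomputable def QA.factor {P P' : Ideal (MvPolynomial σ k)} (h : P ≤ P') : QA P →ₐ[k] QA P' :=
  Ideal.Quotient.factorₐ k h

theorem QA.factor_mk {P P' : Ideal (MvPolynomial σ k)} (h : P ≤ P') (s : MvPolynomial σ k) :
    QA.factor h (QA.mk P s) = QA.mk P' s := rfl

/-- the ring isomorphism with the quotient. -/
noncomputable def QA.equiv (P : Ideal (MvPolynomial σ k)) : QA P ≃+* (MvPolynomial σ k ⧸ P) :=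
  RingEquiv.refl _

variable (P Q : Ideal (MvPolynomial σ k))

/-- the multiplication map `S/P ⊗ S/Q → S/(P+Q)`. -/
noncomputable def mulMap : QA P ⊗[k] QA Q →ₐ[k] QA (P ⊔ Q) :=
  Algebra.TensorProduct.productMap (QA.factor (le_sup_left : P ≤ P ⊔ Q))
    (QA.factor (le_sup_right : Q ≤ P ⊔ Q))

/-- the diagonal elements `x_i ⊗ 1 - 1 ⊗ x_i`. -/
noncomputable def δ (i : σ) : QA P ⊗[k] QA Q :=
  (QA.mk P (X i)) ⊗ₜ 1 - 1 ⊗ₜ (QA.mk Q (X i))

/-- the diagonal ideal. -/
noncomputable def diagIdeal : Ideal (QA P ⊗[k] QA Q) :=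
  Ideal.span (Set.range (δ P Q))

theorem mulMap_tmul (s t : MvPolynomial σ k) :
    mulMap P Q ((QA.mk P s) ⊗ₜ (QA.mk Q t)) = QA.mk (P ⊔ Q) (s * t) := by
  rw [mulMap, Algebra.TensorProduct.productMap_apply_tmul, QA.factor_mk, QA.factor_mk, map_mul]

theorem mulMap_surjective : Function.Surjective (mulMap P Q) := by
  intro c
  obtain ⟨s, rfl⟩ := QA.mk_surjective _ c
  refine ⟨(QA.mk P s) ⊗ₜ (QA.mk Q 1), ?_⟩
  rw [mulMap_tmul, mul_one]

theorem mulMap_δ (i : σ) : mulMap P Q (δ P Q i) = 0 := by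
  have h1 : (1 : QA Q) = QA.mk Q 1 := (map_one _).symm
  have h2 : (1 : QA P) = QA.mk P 1 := (map_one _).symm
  rw [δ, map_sub, h1, h2, mulMap_tmul, mulMap_tmul, mul_one, one_mul, sub_self]

theorem diagIdeal_le_ker : diagIdeal P Q ≤ RingHom.ker (mulMap P Q) := by
  rw [diagIdeal, Ideal.span_le]
  rintro _ ⟨i, rfl⟩
  exact mulMap_δ P Q i

/-- the auxiliary map `S → T/J`. -/
noncomputable def ν0 : MvPolynomial σ k →ₐ[k] (QA P ⊗[k] QA Q) ⧸ diagIdeal P Q :=
  aeval (fun i => Ideal.Quotient.mk (diagIdeal P Q) ((QA.mk P (X i)) ⊗ₜ 1))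

theorem ν0_eq_left (s : MvPolynomial σ k) :
    ν0 P Q s = Ideal.Quotient.mk (diagIdeal P Q) ((QA.mk P s) ⊗ₜ 1) := by
  have h : ν0 P Q = ((Ideal.Quotient.mkₐ k (diagIdeal P Q)).comp
      (Algebra.TensorProduct.includeLeft)).comp (QA.mk P) := by
    apply MvPolynomial.algHom_ext
    intro i
    simp [ν0]
  rw [h]
  rfl

theorem ν0_eq_right (s : MvPolynomial σ k) :
    ν0 P Q s = Ideal.Quotient.mk (diagIdeal P Q) (1 ⊗ₜ (QA.mk Q s)) := by
  have h : ν0 P Q = ((Ideal.Quotient.mkₐ k (diagIdeal P Q)).comp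
      (Algebra.TensorProduct.includeRight)).comp (QA.mk Q) := by
    apply MvPolynomial.algHom_ext
    intro i
    simp only [ν0, aeval_X, AlgHom.coe_comp, Function.comp_apply, Ideal.Quotient.mkₐ_eq_mk,
      Algebra.TensorProduct.includeRight_apply]
    rw [Ideal.Quotient.eq]
    exact Ideal.subset_span ⟨i, rfl⟩
  rw [h]
  rfl

theorem exists_repr (x : QA P ⊗[k] QA Q) : ∃ s : MvPolynomial σ k,
    Ideal.Quotient.mk (diagIdeal P Q) x = ν0 P Q s ∧ mulMap P Q x = QA.mk (P ⊔ Q) s := by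
  induction x using TensorProduct.induction_on with
  | zero => exact ⟨0, by simp, by simp⟩
  | tmul a b =>
    obtain ⟨s, rfl⟩ := QA.mk_surjective _ a
    obtain ⟨t, rfl⟩ := QA.mk_surjective _ b
    refine ⟨s * t, ?_, mulMap_tmul P Q s t⟩
    rw [map_mul, ν0_eq_left, ν0_eq_right, ← map_mul, Algebra.TensorProduct.tmul_mul_tmul, mul_one,
      one_mul]
  | add x y hx hy =>
    obtain ⟨s, hs1, hs2⟩ := hx
    obtain ⟨t, ht1, ht2⟩ := hy
    exact ⟨s + t, by rw [map_add, map_add, hs1, ht1], by rw [map_add, map_add, hs2, ht2]⟩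

theorem ker_mulMap_le : RingHom.ker (mulMap P Q) ≤ diagIdeal P Q := by
  have hν : ∀ s ∈ P ⊔ Q, ν0 P Q s = 0 := by
    intro s hs
    obtain ⟨p, hp, q, hq, rfl⟩ := Submodule.mem_sup.1 hs
    rw [map_add, ν0_eq_left P Q p, ν0_eq_right P Q q, (QA.mk_eq_zero_iff P p).2 hp,
      (QA.mk_eq_zero_iff Q q).2 hq, zero_tmul, tmul_zero, map_zero, add_zero]
  intro x hx
  rw [RingHom.mem_ker] at hx
  obtain ⟨s, hs1, hs2⟩ := exists_repr P Q x
  rw [hx] at hs2
  have hs : s ∈ P ⊔ Q := (QA.mk_eq_zero_iff _ s).1 hs2.symm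
  rw [hν s hs] at hs1
  exact Ideal.Quotient.eq_zero_iff_mem.1 hs1

theorem ker_mulMap_eq : RingHom.ker (mulMap P Q) = diagIdeal P Q :=
  le_antisymm (ker_mulMap_le P Q) (diagIdeal_le_ker P Q)

end Groth.Agent.Lib.helper26.IntDim
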