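import Mathlib
import Groth.Agent.Lib.Helper26.IntDim4

/-!
# The affine dimension theorem for polynomial rings over a field (helper26)

`height_le_height_add_height`: for primes `P`, `Q` of `k[x_1..x_N]` and a minimal prime `𝔯` of
`P + Q`: `ht 𝔯 ≤ ht P + ht Q`.
-/

set_option autoImplicit false
set_option linter.style.haveILetI false
universe u

namespace Groth.Agent.Lib.helper26.IntDim

open TensorProduct MvPolynomial Groth.Agent.Lib.helper26.DimFormula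

variable (k : Type u) [Field k] (N : ℕ)

theorem ringKrullDim_mvPolynomial_fin :
    ringKrullDim (MvPolynomial (Fin N) k) = ((N : ℕ) : WithBot ℕ∞) := by
  rw [MvPolynomial.ringKrullDim_of_isNoetherianRing, ringKrullDim_eq_zero_of_field, zero_add,
    Nat.card_eq_fintype_card, Fintype.card_fin]

/-- `ht P + dim S/P = N` as natural numbers. -/
theorem exists_nat_height_dim (P : Ideal (MvPolynomial (Fin N) k)) [P.IsPrime] :
    ∃ h d : ℕ, P.height = h ∧ ringKrullDim (QA P) = d ∧ h + d = N := by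
  have h1 := height_add_dim_quotient_of_domain k (MvPolynomial (Fin N) k) P
  rw [ringKrullDim_mvPolynomial_fin] at h1
  obtain ⟨d, -, hd⟩ := exists_nat_trdeg_eq_ringKrullDim k (MvPolynomial (Fin N) k ⧸ P)
  obtain ⟨h, hh⟩ := ENat.ne_top_iff_exists.mp (Ideal.height_ne_top_of_isPrime (I := P))
  rw [hd, ← hh] at h1
  refine ⟨h, d, hh.symm, hd, ?_⟩
  exact_mod_cast h1

theorem height_le_height_add_height (P Q 𝔯 : Ideal (MvPolynomial (Fin N) k)) [P.IsPrime]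
    [Q.IsPrime] (h𝔯 : 𝔯 ∈ (P ⊔ Q).minimalPrimes) : 𝔯.height ≤ P.height + Q.height := by
  classical
  haveI h𝔯p : 𝔯.IsPrime := h𝔯.1.1
  -- the map `T → S/𝔯`
  let χ : QA P ⊗[k] QA Q →ₐ[k] QA 𝔯 := (QA.factor h𝔯.1.2).comp (mulMap P Q)
  have hχsurj : Function.Surjective χ := by
    intro c
    obtain ⟨s, rfl⟩ := QA.mk_surjective _ c
    obtain ⟨t, ht⟩ := mulMap_surjective P Q (QA.mk (P ⊔ Q) s)
    exact ⟨t, by rw [AlgHom.comp_apply, ht, QA.factor_mk]⟩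
  set 𝔯' : Ideal (QA P ⊗[k] QA Q) := RingHom.ker χ.toRingHom with h𝔯'
  haveI h𝔯'p : 𝔯'.IsPrime := RingHom.ker_isPrime χ.toRingHom
  have hdiag : diagIdeal P Q ≤ 𝔯' := by
    intro x hx
    have := diagIdeal_le_ker P Q hx
    rw [RingHom.mem_ker] at this
    rw [h𝔯', RingHom.mem_ker]
    change (QA.factor h𝔯.1.2) (mulMap P Q x) = 0
    rw [this, map_zero]
  obtain ⟨𝔓, h𝔓, h𝔓le⟩ := Ideal.exists_minimalPrimes_le (bot_le : (⊥ : Ideal _) ≤ 𝔯')
  have h𝔓' : 𝔓 ∈ minimalPrimes (QA P ⊗[k] QA Q) := h𝔓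
  haveI h𝔓p : 𝔓.IsPrime := h𝔓.1.1
  have hTP := add_le_ringKrullDim_quotient_minimalPrimes k (QA P) (QA Q) 𝔓 h𝔓'
  -- `𝔯'` is minimal over `𝔓 + J`
  have hmin : 𝔯' ∈ (𝔓 ⊔ diagIdeal P Q).minimalPrimes := by
    refine ⟨⟨h𝔯'p, sup_le h𝔓le hdiag⟩, ?_⟩
    rintro 𝔮 ⟨h𝔮p, h𝔮⟩ h𝔮le
    have hker𝔮 : RingHom.ker (mulMap P Q) ≤ 𝔮 :=
      (ker_mulMap_le P Q).trans (le_sup_right.trans h𝔮)
    -- the prime of `S` corresponding to `𝔮`
    let 𝔮S : Ideal (MvPolynomial (Fin N) k) :=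
      (𝔮.map (mulMap P Q)).comap (QA.mk (P ⊔ Q)).toRingHom
    haveI : (𝔮.map (mulMap P Q)).IsPrime :=
      Ideal.map_isPrime_of_surjective (mulMap_surjective P Q) hker𝔮
    haveI : 𝔮S.IsPrime := Ideal.comap_isPrime _ _
    have h1 : P ⊔ Q ≤ 𝔮S := by
      intro s hs
      change QA.mk (P ⊔ Q) s ∈ 𝔮.map (mulMap P Q)
      rw [(QA.mk_eq_zero_iff _ s).2 hs]
      exact Ideal.zero_mem _
    have h2 : 𝔮S ≤ 𝔯 := by
      intro s hs
      have hs' : QA.mk (P ⊔ Q) s ∈ 𝔮.map (mulMap P Q) := hs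
      rw [Ideal.mem_map_iff_of_surjective _ (mulMap_surjective P Q)] at hs'
      obtain ⟨t, ht, hts⟩ := hs'
      have h3 : χ t = 0 := h𝔮le ht
      change (QA.factor h𝔯.1.2) (mulMap P Q t) = 0 at h3
      rw [hts, QA.factor_mk] at h3
      exact (QA.mk_eq_zero_iff _ s).1 h3
    have h3 : 𝔯 ≤ 𝔮S := h𝔯.2 ⟨inferInstance, h1⟩ h2
    intro t ht
    obtain ⟨s, hs⟩ := QA.mk_surjective _ (mulMap P Q t)
    have h4 : χ t = 0 := ht
    change (QA.factor h𝔯.1.2) (mulMap P Q t) = 0 at h4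
    rw [← hs, QA.factor_mk] at h4
    have h5 : s ∈ 𝔮S := h3 ((QA.mk_eq_zero_iff _ s).1 h4)
    have h6 : QA.mk (P ⊔ Q) s ∈ 𝔮.map (mulMap P Q) := h5
    rw [Ideal.mem_map_iff_of_surjective _ (mulMap_surjective P Q)] at h6
    obtain ⟨t', ht', ht's⟩ := h6
    have h7 : t - t' ∈ RingHom.ker (mulMap P Q) := by
      rw [RingHom.mem_ker, map_sub, ht's, hs, sub_self]
    have h8 := 𝔮.add_mem (hker𝔮 h7) ht'
    rwa [sub_add_cancel] at h8
  -- Krull in `D = T/𝔓`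
  haveI : Algebra.FiniteType k (QA P ⊗[k] QA Q) :=
    Algebra.FiniteType.trans (inferInstance : Algebra.FiniteType k (QA P))
      (inferInstance : Algebra.FiniteType (QA P) (QA P ⊗[k] QA Q))
  haveI : Algebra.FiniteType k ((QA P ⊗[k] QA Q) ⧸ 𝔓) :=
    Algebra.FiniteType.of_surjective (Ideal.Quotient.mkₐ k 𝔓) (Ideal.Quotient.mkₐ_surjective k 𝔓)
  haveI : IsNoetherianRing ((QA P ⊗[k] QA Q) ⧸ 𝔓) :=
    Algebra.FiniteType.isNoetherianRing k _
  set 𝔯'' : Ideal ((QA P ⊗[k] QA Q) ⧸ 𝔓) := 𝔯'.map (Ideal.Quotient.mk 𝔓) with h𝔯''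
  haveI h𝔯''p : 𝔯''.IsPrime :=
    Ideal.map_isPrime_of_surjective Ideal.Quotient.mk_surjective (by rw [Ideal.mk_ker]; exact h𝔓le)
  have hK : 𝔯''.height ≤ (N : ℕ∞) := by
    have h1 : 𝔯'' ∈ ((Ideal.span (Set.range (δ P Q))).map (Ideal.Quotient.mk 𝔓)).minimalPrimes := by
      rw [Ideal.minimalPrimes_map_of_surjective Ideal.Quotient.mk_surjective, Ideal.mk_ker]
      refine ⟨𝔯', ?_, rfl⟩
      rw [sup_comm]
      exact hmin
    rw [Ideal.map_span] at h1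
    refine le_trans (Ideal.height_le_card_of_mem_minimalPrimes_span
      ((Set.finite_range _).image _) h1) ?_
    have h2 : ((Ideal.Quotient.mk 𝔓) '' Set.range (δ P Q)).ncard ≤ N := by
      refine le_trans (Set.ncard_image_le (Set.finite_range _)) ?_
      rw [← Set.image_univ]
      refine le_trans (Set.ncard_image_le Set.finite_univ) ?_
      rw [Set.ncard_univ, Nat.card_eq_fintype_card, Fintype.card_fin]
    exact_mod_cast h2
  -- dimension formula in `D`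
  have hD := height_add_dim_quotient_of_domain k ((QA P ⊗[k] QA Q) ⧸ 𝔓) 𝔯''
  have hiso : ringKrullDim (((QA P ⊗[k] QA Q) ⧸ 𝔓) ⧸ 𝔯'') = ringKrullDim (QA 𝔯) := by
    rw [ringKrullDim_eq_of_ringEquiv (DoubleQuot.quotQuotEquivQuotOfLE h𝔓le)]
    exact ringKrullDim_eq_of_ringEquiv (RingHom.quotientKerEquivOfSurjective hχsurj)
  rw [hiso] at hD
  obtain ⟨hP, dP, hhP, hdP, hP'⟩ := exists_nat_height_dim k N P
  obtain ⟨hQ, dQ, hhQ, hdQ, hQ'⟩ := exists_nat_height_dim k N Q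
  obtain ⟨hr, dr, hhr, hdr, hr'⟩ := exists_nat_height_dim k N 𝔯
  obtain ⟨dD, -, hdD⟩ := exists_nat_trdeg_eq_ringKrullDim k ((QA P ⊗[k] QA Q) ⧸ 𝔓)
  obtain ⟨c, hc⟩ := ENat.ne_top_iff_exists.mp (Ideal.height_ne_top_of_isPrime (I := 𝔯''))
  rw [hdP, hdQ, hdD] at hTP
  rw [hdr, hdD, ← hc] at hD
  rw [← hc] at hK
  rw [hhP, hhQ, hhr]
  have e1 : dP + dQ ≤ dD := by exact_mod_cast hTP
  have e2 : c + dr = dD := by exact_mod_cast hD
  have e3 : c ≤ N := by exact_mod_cast hK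
  have e4 : hr ≤ hP + hQ := by omega
  exact_mod_cast e4

end Groth.Agent.Lib.helper26.IntDim
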