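import Mathlib
import Groth.Agent.Lib.Helper26.ProjDim5

/-!
# Height one primes of polynomial rings and hypersurfaces (helper26)
-/

set_option autoImplicit false
set_option linter.style.haveILetI false
universe u

namespace Groth.Agent.Lib.helper26.ProjDim

open MvPolynomial

/-- a nonzero prime of height at most one in a UFD is generated by a prime element. -/
theorem exists_prime_span_eq {R : Type*} [CommRing R] [IsDomain R] [UniqueFactorizationMonoid R]
    (P : Ideal R) [hP : P.IsPrime] (hne : P ≠ ⊥) (hht : P.height ≤ 1) :
    ∃ π : R, Prime π ∧ P = Ideal.span {π} := by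
  obtain ⟨π, hπP, hπ⟩ := Ideal.IsPrime.exists_mem_prime_of_ne_bot hP hne
  refine ⟨π, hπ, ?_⟩
  by_contra hcon
  have hle : Ideal.span {π} ≤ P := (Ideal.span_singleton_le_iff_mem _).2 hπP
  have hlt : Ideal.span {π} < P := lt_of_le_of_ne hle (Ne.symm hcon)
  haveI : (Ideal.span {π}).IsPrime := (Ideal.span_singleton_prime hπ.ne_zero).2 hπ
  have h0 : (⊥ : Ideal R) < Ideal.span {π} := by
    rw [bot_lt_iff_ne_bot]
    intro h
    rw [Ideal.span_singleton_eq_bot] at h
    exact hπ.ne_zero h
  have h1 := Ideal.height_add_one_le_of_lt_of_isPrime h0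
  have h2 := Ideal.height_add_one_le_of_lt_of_isPrime hlt
  have h3 : (1 : ℕ∞) + 1 ≤ 1 := by
    calc (1 : ℕ∞) + 1 ≤ (Ideal.span {π}).height + 1 := by
          gcongr
          exact le_trans (by simp) h1
      _ ≤ P.height := h2
      _ ≤ 1 := hht
  exact absurd h3 (by decide)

variable {k : Type u} [Field k] {σ : Type*}

attribute [local instance] MvPolynomial.gradedAlgebra

/-- a generator of a homogeneous principal ideal of a polynomial ring over a field is
homogeneous. -/
theorem isHomogeneous_of_span_singleton (π : MvPolynomial σ k)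
    (h : (Ideal.span {π}).IsHomogeneous (homogeneousSubmodule σ k)) :
    π.IsHomogeneous π.totalDegree := by
  classical
  by_cases hπ : π = 0
  · rw [hπ]
    exact isHomogeneous_zero _ _ _
  set b := π.totalDegree with hb
  have hvan : ∀ i < b, homogeneousComponent i π = 0 := by
    intro i hi
    by_contra hne
    have hmem : homogeneousComponent i π ∈ Ideal.span {π} :=
      homogeneousComponent_mem_of_mem h (Ideal.mem_span_singleton_self π) i
    obtain ⟨c, hc⟩ := Ideal.mem_span_singleton.1 hmem
    have hc0 : c ≠ 0 := by
      intro h0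
      rw [h0, mul_zero] at hc
      exact hne hc
    have h1 := (homogeneousComponent_isHomogeneous i π).totalDegree hne
    rw [hc, totalDegree_mul_of_isDomain hπ hc0] at h1
    omega
  have hsum := sum_homogeneousComponent π
  rw [← hb, Finset.sum_range_succ, Finset.sum_eq_zero (fun i hi => hvan i (Finset.mem_range.1 hi)),
    zero_add] at hsum
  rw [← hsum]
  exact homogeneousComponent_isHomogeneous b π

end Groth.Agent.Lib.helper26.ProjDim
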