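import Mathlib
import Groth.Agent.Lib.Helper26.ProjDim6

/-!
# Coheight of irreducible closed subsets of a sober space (helper26)
-/

set_option autoImplicit false
set_option linter.style.haveILetI false
universe u

namespace Groth.Agent.Lib.helper26.ProjDim

open TopologicalSpace Topology

/-- the coheight of an irreducible closed subset of a sober space is the height of its generic
point (for the order `x ≤ y ↔ x ⤳ y`). -/
theorem coheight_irreducibleCloseds {T : Type*} [TopologicalSpace T] [PartialOrder T]
    (h : ∀ x y : T, x ≤ y ↔ x ⤳ y) [QuasiSober T] [T0Space T] (Z : IrreducibleCloseds T) (p : T)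
    (hp : (Z : Set T) = Set.Ici p) : Order.coheight Z = Order.height p := by
  rw [← Order.coheight_orderIso (ptEquiv h) Z]
  have : ptEquiv h Z = OrderDual.toDual p := by
    change OrderDual.toDual Z.2.genericPoint = OrderDual.toDual p
    congr 1
    have h1 := Z.2.isGenericPoint_genericPoint Z.3
    have h2 : IsGenericPoint p Z.carrier := by
      rw [isGenericPoint_def, closure_singleton_eq_Ici h]
      exact hp.symm
    exact h1.eq h2
  rw [this, Order.coheight_toDual]

end Groth.Agent.Lib.helper26.ProjDim
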