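import Mathlib
import Groth.Agent.Lib.Helper26.ProjDim7

/-!
# Points of projective space on a coordinate line are closed (helper26)
-/

set_option autoImplicit false
set_option linter.style.haveILetI false
universe u

namespace Groth.Agent.Lib.helper26.ProjDim

open MvPolynomial

variable {k : Type u} [Field k] {n : ℕ}

/-- a point of `P^n` at which `x_1, …, x_n` vanish has height `≥ n` (it is the point
`[1:0:…:0]`). -/
theorem le_htN_of_X_mem (y : ProjectiveSpectrum (CohB1.polyGrading n k))
    (h : ∀ j : Fin (n + 1), 1 ≤ j.val → (X j : MvPolynomial (Fin (n + 1)) k) ∈ idl y) :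
    n ≤ htN y := by
  have hX0 : (X 0 : MvPolynomial (Fin (n + 1)) k) ∈ mm k n := by
    rw [RingHom.mem_ker, constantCoeff_X]
  have hmin : mm k n ∈ (idl y ⊔ Ideal.span {(X 0 : MvPolynomial (Fin (n + 1)) k)}).minimalPrimes := by
    refine ⟨⟨inferInstance, sup_le (idl_le_mm y) ((Ideal.span_singleton_le_iff_mem _).2 hX0)⟩, ?_⟩
    rintro Q ⟨_, hQ⟩ _
    apply ProjNormal.ker_constantCoeff_le k _ Q
    intro i
    by_cases hi : i = 0
    · rw [hi]
      exact hQ (Ideal.mem_sup_right (Ideal.mem_span_singleton_self _))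
    · apply hQ
      apply Ideal.mem_sup_left
      apply h i
      have : i.val ≠ 0 := fun h0 => hi (Fin.ext h0)
      omega
  have hht := height_le_height_add_ncard k _ (idl y) (mm k n) {X 0} (Set.finite_singleton _) hmin
  rw [height_mm, ← htN_cast, Set.ncard_singleton] at hht
  have : n + 1 ≤ htN y + 1 := by exact_mod_cast hht
  omega

theorem mem_zeroLocus_image (y : ProjectiveSpectrum (CohB1.polyGrading n k)) {ι : Type*}
    (f : ι → MvPolynomial (Fin (n + 1)) k) (A : Set ι) :
    y ∈ ProjectiveSpectrum.zeroLocus (CohB1.polyGrading n k) (f '' A) ↔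
      ∀ i ∈ A, f i ∈ idl y := by
  rw [ProjectiveSpectrum.mem_zeroLocus, Set.image_subset_iff]
  rfl

end Groth.Agent.Lib.helper26.ProjDim
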