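import Mathlib
import Groth.Agent.Lib.Helper26.IntDim5
import Groth.Agent.Lib.Helper26.ProjDim8

/-!
# The projective dimension theorem (helper26)

`inter_nonempty_and_dim_ge`: closed nonempty `X, Y ⊆ P^n_k` of dimensions `r`, `s` with
`r + s ≥ n` meet, and `dim (X ∩ Y) ≥ r + s - n`.
-/

set_option autoImplicit false
set_option linter.style.haveILetI false
universe u

namespace Groth.Agent.Lib.helper26.IntDim

open MvPolynomial Groth.Agent.Lib.helper12.HypCover Groth.Agent.Lib.helper26.ProjDim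

variable {k : Type u} [Field k] {n : ℕ}

/-- a closed subset of dimension `r` of `P^n_k` contains a point of height at most `n - r`. -/
theorem exists_mem_htN_add_le (X : Set (ProjectiveSpectrum (CohB1.polyGrading n k)))
    (hX : IsClosed X) (r : ℕ) (hXr : topologicalKrullDim X = r) :
    ∃ p ∈ X, htN p + r ≤ n := by
  rw [topologicalKrullDim_subtype le_iff_specializes' X hX] at hXr
  obtain ⟨l, hl⟩ := (Order.le_krullDim_iff (α := ↥X) (n := r)).1 (le_of_eq hXr.symm)
  refine ⟨l.head.1, l.head.2, ?_⟩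
  have hmono : StrictMono (Subtype.val : ↥X → ProjectiveSpectrum (CohB1.polyGrading n k)) :=
    fun a b hab => hab
  have h1 : ((l.map Subtype.val hmono).length : ℕ∞) ≤
      Order.coheight (l.map Subtype.val hmono).head := Order.length_le_coheight le_rfl
  rw [LTSeries.head_map, LTSeries.map_length, hl, coheight_eq] at h1
  have h2 : r ≤ n - htN l.head.1 := by exact_mod_cast h1
  have h3 := htN_le l.head.1
  omega

/-- two points `p`, `q` of `P^n_k` with `ht p + ht q ≤ n` have a common specialization `z` with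
`ht z ≤ ht p + ht q`. -/
theorem exists_common_specialization (p q : ProjectiveSpectrum (CohB1.polyGrading n k))
    (hpq : htN p + htN q ≤ n) : ∃ z, p ≤ z ∧ q ≤ z ∧ htN z ≤ htN p + htN q := by
  have hI : (idl p ⊔ idl q).IsHomogeneous (CohB1.polyGrading n k) :=
    (idl_isHomogeneous p).sup (idl_isHomogeneous q)
  have hIm : idl p ⊔ idl q ≤ mm k n := sup_le (idl_le_mm p) (idl_le_mm q)
  obtain ⟨𝔯, h𝔯, h𝔯m⟩ := Ideal.exists_minimalPrimes_le hIm
  have hh := isHomogeneous_of_mem_minimalPrimes _ hI h𝔯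
  have hht := height_le_height_add_height k (n + 1) (idl p) (idl q) 𝔯 h𝔯
  rw [← htN_cast, ← htN_cast] at hht
  have hne : 𝔯 ≠ mm k n := by
    intro h
    rw [h, height_mm] at hht
    have h1 : n + 1 ≤ htN p + htN q := by exact_mod_cast hht
    omega
  refine ⟨mkPt 𝔯 hh h𝔯.1.1 hne, idl_le_idl.1 (by rw [idl_mkPt]; exact le_sup_left.trans h𝔯.1.2),
    idl_le_idl.1 (by rw [idl_mkPt]; exact le_sup_right.trans h𝔯.1.2), ?_⟩
  have h2 : ((htN (mkPt 𝔯 hh h𝔯.1.1 hne) : ℕ) : ℕ∞) = 𝔯.height := by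
    rw [htN_cast, idl_mkPt]
  rw [← h2] at hht
  exact_mod_cast hht

/-- **The projective dimension theorem.** -/
theorem inter_nonempty_and_dim_ge (r s : ℕ)
    (X Y : Set (ProjectiveSpectrum (CohB1.polyGrading n k))) (hX : IsClosed X) (hY : IsClosed Y)
    (hXr : topologicalKrullDim X = r) (hYs : topologicalKrullDim Y = s) (hrs : n ≤ r + s) :
    (X ∩ Y).Nonempty ∧
      ((r + s : ℕ) : WithBot ℕ∞) ≤ topologicalKrullDim ↥(X ∩ Y) + (n : WithBot ℕ∞) := by
  obtain ⟨p, hpX, hp⟩ := exists_mem_htN_add_le X hX r hXr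
  obtain ⟨q, hqY, hq⟩ := exists_mem_htN_add_le Y hY s hYs
  obtain ⟨z, hpz, hqz, hz⟩ := exists_common_specialization p q (by omega)
  have hzX : z ∈ X := mem_of_le_of_isClosed le_iff_specializes' hX hpX hpz
  have hzY : z ∈ Y := mem_of_le_of_isClosed le_iff_specializes' hY hqY hqz
  refine ⟨⟨z, hzX, hzY⟩, ?_⟩
  have hXY : IsClosed (X ∩ Y) := hX.inter hY
  rw [topologicalKrullDim_subtype le_iff_specializes' (X ∩ Y) hXY]
  have hmem : ∀ y : ↥(Set.Ici z), y.1 ∈ X ∩ Y := fun y =>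
    mem_of_le_of_isClosed le_iff_specializes' hXY ⟨hzX, hzY⟩ y.2
  have hmono : StrictMono (fun y : ↥(Set.Ici z) => (⟨y.1, hmem y⟩ : ↥(X ∩ Y))) :=
    fun a b hab => hab
  have h1 := Order.krullDim_le_of_strictMono _ hmono
  rw [← Order.coheight_eq_krullDim_Ici, coheight_eq] at h1
  have h2 : r + s ≤ (n - htN z) + n := by omega
  have h3 : ((r + s : ℕ) : WithBot ℕ∞) ≤ (((n - htN z : ℕ) : ℕ∞) : WithBot ℕ∞) + (n : WithBot ℕ∞) := by
    have h5 : (((n - htN z : ℕ) : ℕ∞) : WithBot ℕ∞) = ((n - htN z : ℕ) : WithBot ℕ∞) := rfl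
    rw [h5]
    exact_mod_cast h2
  exact h3.trans (add_le_add_left h1 _)

end Groth.Agent.Lib.helper26.IntDim
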