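import Mathlib
import Groth.Agent.Lib.Helper26.IntDim5
import Groth.Agent.Lib.Helper26.ProjDim1

/-!
# The affine dimension theorem, topological form (helper26)

* `coheight_primeSpectrum`: in `Spec k[x_1..x_N]`, `coheight x + ht x = N`.
* `affine_dimension_theorem`: for a space `T` homeomorphic to `Spec k[x_1..x_N]`, closed
  equidimensional `X`, `Y` of dimensions `r`, `s`, every irreducible component of `X ∩ Y` has
  dimension at least `r + s - N`.
-/

set_option autoImplicit false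
set_option linter.style.haveILetI false
universe u

namespace Groth.Agent.Lib.helper26.IntDim

open MvPolynomial Groth.Agent.Lib.helper26.ProjDim

variable (k : Type u) [Field k] (N : ℕ)

/-- in `Spec k[x_1..x_N]`: `ht x + coheight x = N`. -/
theorem coheight_primeSpectrum (x : PrimeSpectrum (MvPolynomial (Fin N) k)) :
    ∃ h d : ℕ, x.asIdeal.height = h ∧ Order.coheight x = d ∧ h + d = N := by
  obtain ⟨h, d, hh, hd, hhd⟩ := exists_nat_height_dim k N x.asIdeal
  refine ⟨h, d, hh, ?_, hhd⟩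
  have h1 : ringKrullDim (QA x.asIdeal) = Order.krullDim (PrimeSpectrum.zeroLocus
      (x.asIdeal : Set (MvPolynomial (Fin N) k))) := ringKrullDim_quotient x.asIdeal
  have h2 : PrimeSpectrum.zeroLocus (x.asIdeal : Set (MvPolynomial (Fin N) k)) = Set.Ici x := by
    ext y
    rw [PrimeSpectrum.mem_zeroLocus, Set.mem_Ici]
    rfl
  rw [h2, ← Order.coheight_eq_krullDim_Ici, hd] at h1
  have h3 : ((d : ℕ∞) : WithBot ℕ∞) = ((Order.coheight x : ℕ∞) : WithBot ℕ∞) := h1
  exact_mod_cast h3.symm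

section Abstract

variable {k N}
variable {T : Type*} [TopologicalSpace T]

/-- **The affine dimension theorem**, for a space homeomorphic to `Spec k[x_1..x_N]`. -/
theorem affine_dimension_theorem (e : T ≃ₜ PrimeSpectrum (MvPolynomial (Fin N) k)) (r s : ℕ)
    (X Y : Set T) (hX : IsClosed X) (hY : IsClosed Y)
    (hXr : ∀ Z ∈ irreducibleComponents ↥X, topologicalKrullDim ↥Z = r)
    (hYs : ∀ Z ∈ irreducibleComponents ↥Y, topologicalKrullDim ↥Z = s)
    (Z : Set ↥(X ∩ Y)) (hZ : Z ∈ irreducibleComponents ↥(X ∩ Y)) :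
    ((r + s : ℕ) : WithBot ℕ∞) ≤ topologicalKrullDim ↥Z + (N : WithBot ℕ∞) := by
  classical
  letI : PartialOrder T := PartialOrder.lift e e.injective
  have hle : ∀ x y : T, x ≤ y ↔ x ⤳ y := fun x y => by
    rw [← e.isInducing.specializes_iff, ← PrimeSpectrum.le_iff_specializes]
    rfl
  haveI : QuasiSober T := e.isClosedEmbedding.quasiSober
  haveI : T0Space T := e.isEmbedding.t0Space
  let eo : T ≃o PrimeSpectrum (MvPolynomial (Fin N) k) :=
    { e.toEquiv with map_rel_iff' := Iff.rfl }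
  have hco : ∀ x : T, Order.coheight x = Order.coheight (e x) :=
    fun x => (Order.coheight_orderIso eo x).symm
  obtain ⟨g, hgW, hgmin, himg, hdim⟩ :=
    exists_of_mem_irreducibleComponents hle _ (hX.inter hY) Z hZ
  -- the component of `X` containing `g`
  obtain ⟨p, hpX, -, hpimg, hpdim⟩ := exists_of_mem_irreducibleComponents hle X hX
    (irreducibleComponent (⟨g, hgW.1⟩ : ↥X)) (irreducibleComponent_mem_irreducibleComponents _)
  have hpg : p ≤ g := by
    have : g ∈ Subtype.val '' (irreducibleComponent (⟨g, hgW.1⟩ : ↥X)) :=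
      ⟨⟨g, hgW.1⟩, mem_irreducibleComponent, rfl⟩
    rw [hpimg] at this
    exact this
  obtain ⟨q, hqY, -, hqimg, hqdim⟩ := exists_of_mem_irreducibleComponents hle Y hY
    (irreducibleComponent (⟨g, hgW.2⟩ : ↥Y)) (irreducibleComponent_mem_irreducibleComponents _)
  have hqg : q ≤ g := by
    have : g ∈ Subtype.val '' (irreducibleComponent (⟨g, hgW.2⟩ : ↥Y)) :=
      ⟨⟨g, hgW.2⟩, mem_irreducibleComponent, rfl⟩
    rw [hqimg] at this
    exact this
  rw [hXr _ (irreducibleComponent_mem_irreducibleComponents _), hco] at hpdim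
  rw [hYs _ (irreducibleComponent_mem_irreducibleComponents _), hco] at hqdim
  rw [hdim, hco]
  -- `e g` is a minimal prime of `e p + e q`
  have hmin : (e g).asIdeal ∈ ((e p).asIdeal ⊔ (e q).asIdeal).minimalPrimes := by
    refine ⟨⟨(e g).2, sup_le hpg hqg⟩, ?_⟩
    rintro 𝔯 ⟨h𝔯p, h𝔯le⟩ h𝔯g
    have h1 : p ≤ e.symm ⟨𝔯, h𝔯p⟩ := by
      change e p ≤ e (e.symm ⟨𝔯, h𝔯p⟩)
      rw [e.apply_symm_apply]
      exact le_sup_left.trans h𝔯le
    have h2 : q ≤ e.symm ⟨𝔯, h𝔯p⟩ := by
      change e q ≤ e (e.symm ⟨𝔯, h𝔯p⟩)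
      rw [e.apply_symm_apply]
      exact le_sup_right.trans h𝔯le
    have h3 : e.symm ⟨𝔯, h𝔯p⟩ ≤ g := by
      change e (e.symm ⟨𝔯, h𝔯p⟩) ≤ e g
      rw [e.apply_symm_apply]
      exact h𝔯g
    have h4 := hgmin _ ⟨mem_of_le_of_isClosed hle hX hpX h1, mem_of_le_of_isClosed hle hY hqY h2⟩ h3
    rw [← h4, e.apply_symm_apply]
  have hht := height_le_height_add_height k N _ _ _ hmin
  obtain ⟨a, a', ha, ha', haa⟩ := coheight_primeSpectrum k N (e p)
  obtain ⟨b, b', hb, hb', hbb⟩ := coheight_primeSpectrum k N (e q)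
  obtain ⟨c, c', hc, hc', hcc⟩ := coheight_primeSpectrum k N (e g)
  rw [ha, hb, hc] at hht
  rw [ha'] at hpdim
  rw [hb'] at hqdim
  rw [hc']
  have h5 : c ≤ a + b := by exact_mod_cast hht
  have h6 : r = a' := by
    have : ((r : ℕ∞) : WithBot ℕ∞) = ((a' : ℕ∞) : WithBot ℕ∞) := hpdim
    exact_mod_cast this
  have h7 : s = b' := by
    have : ((s : ℕ∞) : WithBot ℕ∞) = ((b' : ℕ∞) : WithBot ℕ∞) := hqdim
    exact_mod_cast this
  have h8 : r + s ≤ c' + N := by omega
  have h9 : (((c' : ℕ) : ℕ∞) : WithBot ℕ∞) = ((c' : ℕ) : WithBot ℕ∞) := rfl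
  rw [h9]
  exact_mod_cast h8

end Abstract

end Groth.Agent.Lib.helper26.IntDim
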