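import Mathlib

/-!
Kähler differentials of separably generated field extensions: if `x` is algebraically independent over `k`
and `F` is separable algebraic over `k(x)`, then the `d x_i` form a basis of `Ω[F⁄k]`.
-/

set_option autoImplicit false
set_option linter.style.haveILetI false
universe u v w

namespace Groth.Agent.Lib.helper26

open scoped IntermediateField.algebraAdjoinAdjoin
open TensorProduct

section
variable {k : Type u} {F : Type v} [Field k] [Field F] [Algebra k F] {ι : Type w} (x : ι → F)

/-- `F` as an algebra over the polynomial ring through `X_i ↦ x_i`. -/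
@[reducible] noncomputable def polyAlgebra : Algebra (MvPolynomial ι k) F :=
  (MvPolynomial.aeval x : MvPolynomial ι k →ₐ[k] F).toRingHom.toAlgebra

theorem polyAlgebra_isScalarTower :
    letI := polyAlgebra (k := k) x
    IsScalarTower k (MvPolynomial ι k) F := by
  letI := polyAlgebra (k := k) x
  exact IsScalarTower.of_algebraMap_eq fun r => ((MvPolynomial.aeval x).commutes r).symm

/-- If `x` is algebraically independent and `F` is separable over `k(x)`, then `F` is formally étale over
the polynomial ring. -/
theorem formallyEtale_poly (hx : AlgebraicIndependent k x)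
    [Algebra.IsSeparable (IntermediateField.adjoin k (Set.range x)) F] :
    letI := polyAlgebra (k := k) x
    Algebra.FormallyEtale (MvPolynomial ι k) F := by
  letI := polyAlgebra (k := k) x
  let P := MvPolynomial ι k
  let A := Algebra.adjoin k (Set.range x)
  let E := IntermediateField.adjoin k (Set.range x)
  let eA : P ≃ₐ[k] A := hx.aevalEquiv
  letI algPA : Algebra P A := (eA : P →+* A).toAlgebra
  letI algPE : Algebra P E := ((algebraMap A E).comp (algebraMap P A)).toAlgebra
  haveI : IsScalarTower P A E := IsScalarTower.of_algebraMap_eq fun _ => rfl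
  haveI : IsScalarTower P E F := IsScalarTower.of_algebraMap_eq fun _ => rfl
  haveI : Algebra.FormallyEtale P A :=
    Algebra.FormallyEtale.of_equiv (A := P) (AlgEquiv.ofRingEquiv (f := (eA : P ≃+* A)) fun _ => rfl)
  haveI : Algebra.FormallyEtale A E := Algebra.FormallyEtale.of_isLocalization (nonZeroDivisors A)
  haveI : Algebra.FormallyEtale P E := Algebra.FormallyEtale.comp P A E
  haveI : Algebra.FormallyEtale E F := Algebra.FormallyEtale.of_isSeparable E F
  exact Algebra.FormallyEtale.comp P E F

/-- The basis `d x_i` of `Ω[F⁄k]`. -/
theorem exists_basis_D (hx : AlgebraicIndependent k x)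
    [Algebra.IsSeparable (IntermediateField.adjoin k (Set.range x)) F] :
    ∃ b : Module.Basis ι F (Ω[F⁄k]), ∀ i, b i = KaehlerDifferential.D k F (x i) := by
  letI := polyAlgebra (k := k) x
  haveI := polyAlgebra_isScalarTower (k := k) x
  haveI := formallyEtale_poly x hx
  let e := KaehlerDifferential.tensorKaehlerEquivOfFormallyEtale k (MvPolynomial ι k) F
  let b₀ : Module.Basis ι F (F ⊗[MvPolynomial ι k] Ω[MvPolynomial ι k⁄k]) :=
    (KaehlerDifferential.mvPolynomialBasis k ι).baseChange F
  refine ⟨b₀.map e, fun i => ?_⟩
  rw [Module.Basis.map_apply, Module.Basis.baseChange_apply,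
    KaehlerDifferential.mvPolynomialBasis_apply,
    KaehlerDifferential.tensorKaehlerEquivOfFormallyEtale_apply,
    KaehlerDifferential.mapBaseChange_tmul, one_smul, KaehlerDifferential.map_D]
  congr 1
  exact MvPolynomial.aeval_X x i

end

/-- Over a perfect field, the Kähler differentials of a finitely generated field extension of transcendence
degree one are one-dimensional. -/
theorem finrank_kaehler_eq_one {k : Type u} {F : Type v} [Field k] [PerfectField k] [Field F] [Algebra k F]
    [Algebra.EssFiniteType k F] (x : F) (hx : IsTranscendenceBasis k (fun _ : Unit => x)) :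
    Module.finrank F (Ω[F⁄k]) = 1 := by
  obtain ⟨s, hs, hsep⟩ := exists_isTranscendenceBasis_and_isSeparable_of_perfectField k F
  have hrange : (s : Set F) = Set.range (Subtype.val : s → F) := Subtype.range_coe.symm
  rw [hrange] at hsep
  obtain ⟨b, -⟩ := exists_basis_D (k := k) (Subtype.val : s → F) hs.1
  rw [Module.finrank_eq_card_basis b]
  have hcard := hs.lift_cardinalMk_eq hx
  rw [Cardinal.mk_fintype, Cardinal.mk_fintype, Fintype.card_unit] at hcard
  have : (Fintype.card s : Cardinal.{0}) = 1 := by
    have h2 := congrArg Cardinal.toNat hcard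
    simp only [Cardinal.toNat_lift, Cardinal.toNat_natCast, Nat.cast_one, Cardinal.one_toNat] at h2
    exact_mod_cast h2
  exact_mod_cast this

end Groth.Agent.Lib.helper26
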