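import Mathlib
import Groth.Agent.Lib.Helper19.ArtFlat
import Groth.Agent.Lib.Helper19.DefCI
import Groth.Agent.LibKoszulLoc29c
import Groth.Agent.Lib.Helper17.H1Reg
import Groth.Agent.Lib.Helper7.KoszulLow

/-!
# Lifting Koszul-regular sequences along a flat thickening over an Artinian local base (helper26)

`A'` Artinian local, `I` a proper ideal, `R'` a Noetherian flat `A'`-algebra.  If the images of
`f'₁, …, f'_r ∈ R'` in `R'/IR'` form a Koszul-regular sequence then `f'` is Koszul-regular in `R'`
and `R'/(f')` is flat over `A'`.
-/

set_option autoImplicit false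
universe u
open scoped Pointwise
open IsLocalRing RingTheory.Sequence

namespace Groth.Agent.Lib.helper26.KosLift

variable {A' : Type u} [CommRing A'] [IsLocalRing A'] [IsArtinianRing A'] (I : Ideal A')
  (hI : I ≠ ⊤) {R' : Type u} [CommRing R'] [Algebra A' R'] [IsNoetherianRing R']
  [Module.Flat A' R']

include hI in
theorem map_le_of_isPrime (P : Ideal R') [P.IsPrime] : I.map (algebraMap A' R') ≤ P := by
  have hnil : IsNilpotent (maximalIdeal A') :=
    Groth.Agent.Lib.Helper19.ArtFlat.isNilpotent_maximalIdeal
  obtain ⟨n, hn⟩ := hnil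
  have hIm : I ≤ maximalIdeal A' := IsLocalRing.le_maximalIdeal hI
  rw [Ideal.map_le_iff_le_comap]
  intro x hx
  rw [Ideal.mem_comap]
  have h1 : x ^ n ∈ (maximalIdeal A') ^ n := Ideal.pow_mem_pow (hIm hx) n
  rw [hn] at h1
  have h2 : x ^ n = 0 := by simpa using h1
  have h3 : (algebraMap A' R' x) ^ n ∈ P := by
    rw [← map_pow, h2, map_zero]; exact P.zero_mem
  exact Ideal.IsPrime.mem_of_pow_mem inferInstance n h3

include hI in
theorem local_step (r : ℕ) (f' : Fin r → R')
    (hf : CAlgX.IsH1Regular (fun i => Ideal.Quotient.mk (I.map (algebraMap A' R')) (f' i)))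
    (P : Ideal R') [P.IsMaximal] (hle : ∀ i, f' i ∈ P) :
    IsWeaklyRegular (Localization.AtPrime P)
      ((List.ofFn f').map (algebraMap R' (Localization.AtPrime P))) ∧
    Module.Flat A' (Localization.AtPrime P ⧸
      (Ideal.ofList ((List.ofFn f').map (algebraMap R' (Localization.AtPrime P))) • ⊤ :
        Submodule (Localization.AtPrime P) (Localization.AtPrime P))) := by
  have hKP : I.map (algebraMap A' R') ≤ P := map_le_of_isPrime I hI P
  have hKL : (I.map (algebraMap A' R')).map (algebraMap R' (Localization.AtPrime P)) ≤
      maximalIdeal (Localization.AtPrime P) := by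
    rw [← Localization.AtPrime.map_eq_maximalIdeal]
    exact Ideal.map_mono hKP
  have hKLne : (I.map (algebraMap A' R')).map (algebraMap R' (Localization.AtPrime P)) ≠ ⊤ := by
    intro h
    rw [h] at hKL
    exact (IsLocalRing.maximalIdeal.isMaximal _).ne_top (top_le_iff.1 hKL)
  have hNT : Nontrivial (Localization.AtPrime P ⧸
      (I.map (algebraMap A' R')).map (algebraMap R' (Localization.AtPrime P))) :=
    Ideal.Quotient.nontrivial_iff.2 hKLne
  have hLoc : IsLocalRing (Localization.AtPrime P ⧸
      (I.map (algebraMap A' R')).map (algebraMap R' (Localization.AtPrime P))) :=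
    IsLocalRing.of_surjective' (Ideal.Quotient.mk _) Ideal.Quotient.mk_surjective
  have hLH : IsLocalHom (Ideal.Quotient.mk
      ((I.map (algebraMap A' R')).map (algebraMap R' (Localization.AtPrime P)))) :=
    IsLocalHom.of_surjective _ Ideal.Quotient.mk_surjective
  have hNoeth : IsNoetherianRing (Localization.AtPrime P) :=
    IsLocalization.isNoetherianRing P.primeCompl _ inferInstance
  have h1 := Groth.Agent.Lib.helper17.H1Reg.isH1Regular_localization
    (S := Localization.AtPrime P ⧸
      (I.map (algebraMap A' R')).map (algebraMap R' (Localization.AtPrime P)))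
    (Algebra.algebraMapSubmonoid (R' ⧸ I.map (algebraMap A' R')) P.primeCompl) _ hf
  have hg : ∀ i, algebraMap (R' ⧸ I.map (algebraMap A' R')) (Localization.AtPrime P ⧸
      (I.map (algebraMap A' R')).map (algebraMap R' (Localization.AtPrime P)))
        (Ideal.Quotient.mk (I.map (algebraMap A' R')) (f' i)) =
      Ideal.Quotient.mk _ (algebraMap R' (Localization.AtPrime P) (f' i)) := fun i => rfl
  have hmem : ∀ i, algebraMap (R' ⧸ I.map (algebraMap A' R')) (Localization.AtPrime P ⧸
      (I.map (algebraMap A' R')).map (algebraMap R' (Localization.AtPrime P)))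
        (Ideal.Quotient.mk (I.map (algebraMap A' R')) (f' i)) ∈ maximalIdeal _ := by
    intro i
    rw [hg]
    exact map_nonunit _ _
      ((IsLocalization.AtPrime.to_map_mem_maximal_iff (Localization.AtPrime P) P (f' i)).2 (hle i))
  have h2 := Groth.Agent.Lib.helper17.H1Reg.isRegular_of_isH1Regular _ hmem h1
  have h3 : IsWeaklyRegular (Localization.AtPrime P ⧸
      (I.map (algebraMap A' R')).map (algebraMap R' (Localization.AtPrime P)))
      ((List.ofFn f').map (algebraMap R' (Localization.AtPrime P))) := by
    rw [← RingTheory.Sequence.isWeaklyRegular_map_algebraMap_iff (Localization.AtPrime P ⧸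
      (I.map (algebraMap A' R')).map (algebraMap R' (Localization.AtPrime P)))]
    have hlist : ((List.ofFn f').map (algebraMap R' (Localization.AtPrime P))).map
        (algebraMap (Localization.AtPrime P) (Localization.AtPrime P ⧸
          (I.map (algebraMap A' R')).map (algebraMap R' (Localization.AtPrime P)))) =
        List.ofFn (fun i => algebraMap (R' ⧸ I.map (algebraMap A' R')) (Localization.AtPrime P ⧸
          (I.map (algebraMap A' R')).map (algebraMap R' (Localization.AtPrime P)))
            (Ideal.Quotient.mk (I.map (algebraMap A' R')) (f' i))) := by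
      rw [List.map_map, List.map_ofFn]
      rfl
    rw [hlist]
    exact h2.toIsWeaklyRegular
  have hker : LinearMap.ker (Submodule.mkQ
      ((I.map (algebraMap A' R')).map (algebraMap R' (Localization.AtPrime P)))) =
      (I.map (algebraMap A' (Localization.AtPrime P))) •
        (⊤ : Submodule (Localization.AtPrime P) (Localization.AtPrime P)) := by
    rw [Submodule.ker_mkQ, smul_eq_mul, Ideal.mul_top, Ideal.map_map,
      ← IsScalarTower.algebraMap_eq A' R' (Localization.AtPrime P)]
  obtain ⟨h5, h6⟩ := Groth.Agent.Lib.Helper19.ArtFlat.stepB' I hI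
    ((List.ofFn f').map (algebraMap R' (Localization.AtPrime P)))
    (Localization.AtPrime P) (Localization.AtPrime P ⧸
      (I.map (algebraMap A' R')).map (algebraMap R' (Localization.AtPrime P)))
    (Submodule.mkQ _) (Submodule.mkQ_surjective _) hker h3
  refine ⟨h5, ?_⟩
  have h7 := h6 ((List.ofFn f').map (algebraMap R' (Localization.AtPrime P))).length
  rwa [List.take_length] at h7

include hI in
theorem flat_localization_quotient (r : ℕ) (f' : Fin r → R')
    (hf : CAlgX.IsH1Regular (fun i => Ideal.Quotient.mk (I.map (algebraMap A' R')) (f' i)))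
    (P : Ideal R') [P.IsMaximal] :
    Module.Flat A' (Localization.AtPrime P ⧸
      (Ideal.span (Set.range f')).map (algebraMap R' (Localization.AtPrime P))) := by
  by_cases hle : ∀ i, f' i ∈ P
  · have h1 := (local_step I hI r f' hf P hle).2
    have h2 : (Ideal.ofList ((List.ofFn f').map (algebraMap R' (Localization.AtPrime P))) • ⊤ :
        Submodule (Localization.AtPrime P) (Localization.AtPrime P)) =
        (Ideal.span (Set.range f')).map (algebraMap R' (Localization.AtPrime P)) := by
      rw [smul_eq_mul, Ideal.mul_top, Ideal.map_span]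
      unfold Ideal.ofList
      congr 1
      ext z
      simp only [List.mem_map, List.mem_ofFn, Set.mem_ofPred_eq, Set.mem_image, Set.mem_range]
    exact Module.Flat.of_linearEquiv
      ((Submodule.quotEquivOfEq _ _ h2).symm.restrictScalars A')
  · push Not at hle
    obtain ⟨i, hi⟩ := hle
    have h1 : (Ideal.span (Set.range f')).map (algebraMap R' (Localization.AtPrime P)) = ⊤ := by
      apply Ideal.eq_top_of_isUnit_mem _
        (Ideal.mem_map_of_mem _ (Ideal.subset_span (Set.mem_range_self i)))
      exact (IsLocalization.AtPrime.isUnit_to_map_iff (Localization.AtPrime P) P (f' i)).2 hi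
    have h2 : Subsingleton (Localization.AtPrime P ⧸
        (Ideal.span (Set.range f')).map (algebraMap R' (Localization.AtPrime P))) :=
      Ideal.Quotient.subsingleton_iff.2 h1
    infer_instance

include hI in
/-- lifts of a Koszul-regular sequence modulo `I` are Koszul-regular, with flat quotient -/
theorem flat_and_isKoszulRegularSeq_of_lifts (r : ℕ) (f' : Fin r → R')
    (hf : LCI.IsKoszulRegularSeq (R' ⧸ I.map (algebraMap A' R'))
      (List.ofFn (fun i => Ideal.Quotient.mk (I.map (algebraMap A' R')) (f' i)))) :
    Module.Flat A' (R' ⧸ Ideal.span (Set.range f')) ∧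
      LCI.IsKoszulRegularSeq R' (List.ofFn f') := by
  have hH1 : CAlgX.IsH1Regular (fun i => Ideal.Quotient.mk (I.map (algebraMap A' R')) (f' i)) :=
    Groth.Agent.Lib.helper7.KoszulLow.isH1Regular_of_isKoszulRegularSeq_ofFn _ _ hf
  constructor
  · refine Module.flat_of_isLocalized_maximal (R := A') (S := R')
      (M := R' ⧸ Ideal.span (Set.range f'))
      (fun P _ => Localization.AtPrime P ⧸
        (Ideal.span (Set.range f')).map (algebraMap R' (Localization.AtPrime P)))
      (fun P _ => (IsScalarTower.toAlgHom R' (R' ⧸ Ideal.span (Set.range f'))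
        (Localization.AtPrime P ⧸
          (Ideal.span (Set.range f')).map (algebraMap R' (Localization.AtPrime P)))).toLinearMap) ?_
    intro P hP
    exact flat_localization_quotient I hI r f' hH1 P
  · apply Groth.Agent.LibKoszulLoc29.isKoszulRegularSeq_of_local
    intro m hm hle
    refine (local_step I hI r f' hH1 m (fun i => hle (Ideal.subset_span ?_))).1
    exact (List.mem_ofFn' f' (f' i)).2 ⟨i, rfl⟩

end Groth.Agent.Lib.helper26.KosLift
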