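import Mathlib
import Groth.Prelude.Def_GrLC
import Groth.Prelude.Def_GrSeg
import Groth.Agent.Lib.Helper26.GrCM6
import Groth.Agent.Lib.Helper26.KunAA
import Groth.Agent.Lib.Helper26.KunAB

/-!
# `H^q_{T₊}(M # N) ≅ H^q_{R₊}(M) # N` when a homogeneous element of positive degree acts
bijectively on `N` (helper26)
-/

set_option autoImplicit false
set_option linter.unusedSectionVars false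
set_option linter.dupNamespace false
universe u
open scoped TensorProduct

namespace Groth.Agent.Lib.helper26.Kun

open GrLC Groth.Agent.Lib.helper19.GrConv Groth.Agent.Lib.helper19.GrMod
  Groth.Agent.Lib.helper19.GrLes
  Groth.Agent.Lib.helper26.Seg Groth.Agent.Lib.helper26.GrCM Groth.Agent.Lib.helper26.Acyc

section Phi

variable {k : Type u} [Field k] {R : Type u} [CommRing R] [Algebra k R]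
  (𝒜 : ℤ → Submodule k R) [GradedAlgebra 𝒜]
  {S : Type u} [CommRing S] [Algebra k S] (ℬ : ℤ → Submodule k S) [GradedAlgebra ℬ]
  {T : Type u} [CommRing T] [Algebra k T] (𝒯 : ℤ → Submodule k T) [GradedAlgebra 𝒯]
  (ψ : T →ₐ[k] R ⊗[k] S) (hT : GrSeg.IsSegreRing 𝒜 ℬ 𝒯 ψ)
  {M : Type u} [AddCommGroup M] [Module R M] [Module k M] [IsScalarTower k R M]
  (ℳ : ℤ → AddSubgroup M) [DirectSum.Decomposition ℳ] [SetLike.GradedSMul 𝒜 ℳ]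
  (EM : StarInjRes 𝒜 ℳ)
  (mR : HomogeneousIdeal 𝒜) (hmR : mR.toIdeal = irr 𝒜)
  (q : ℕ) [Module k (EM.H mR q)] [IsScalarTower k R (EM.H mR q)]
  [∀ p, Module k (EM.X p).carrier] [∀ p, IsScalarTower k R (EM.X p).carrier]
  {N : Type u} [AddCommGroup N] [Module S N] [Module k N] [IsScalarTower k S N]
  (𝒩 : ℤ → AddSubgroup N) [DirectSum.Decomposition 𝒩] [SetLike.GradedSMul ℬ 𝒩]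
  {P : Type u} [AddCommGroup P] [Module T P] [Module k P] [IsScalarTower k T P]
  (𝒬 : ℤ → AddSubgroup P) [DirectSum.Decomposition 𝒬] [SetLike.GradedSMul 𝒯 𝒬]
  (φ : P →ₗ[k] M ⊗[k] N) (hP : GrSeg.IsSegreMod ψ ℳ 𝒩 𝒬 φ)
  (mT : HomogeneousIdeal 𝒯) (hmT : mT.toIdeal = irr 𝒯)

attribute [local instance] gsmulAdd

/-- the image of `⊕ Z^q_d ⊗ N_d` -/
def CZ (d : ℤ) : Submodule k ((EM.X q).carrier ⊗[k] N) :=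
  Submodule.span k {w | ∃ c ∈ EM.cocyc mR q, c ∈ (EM.X q).gr d ∧ ∃ y ∈ 𝒩 d, w = c ⊗ₜ[k] y}

theorem cmp_mem_cocyc {c : (EM.X q).carrier} (hc : c ∈ EM.cocyc mR q) (d : ℤ) :
    cmp (EM.X q).gr c d ∈ EM.cocyc mR q :=
  ⟨gam_isHomogeneous (addGr 𝒜) (idealAdd 𝒜 mR) (EM.X q).gr d hc.1,
    ker_isHomogeneous (EM.X q).gr (EM.X (q + 1)).gr (EM.d q) (EM.d_grHom q) d hc.2⟩

theorem biP_jZ_mem_CZ (d : ℤ) (z : ↥(EM.cocyc mR q) ⊗[k] N) :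
    biP 𝒜 ℬ (EM.X q).gr 𝒩 d d (jZ 𝒜 S ℳ EM mR q N z) ∈ CZ 𝒜 ℳ EM mR q 𝒩 d := by
  induction z using TensorProduct.induction_on with
  | zero => rw [map_zero, map_zero]; exact zero_mem _
  | tmul c y =>
    rw [jZ_tmul, biP_tmul]
    exact Submodule.subset_span ⟨_, cmp_mem_cocyc 𝒜 ℳ EM mR q c.2 d, cmp_mem _ _ _, _,
      cmp_mem _ _ _, rfl⟩
  | add z z' h h' => rw [map_add, map_add]; exact add_mem h h'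

theorem CZ_le_segrePiece (d : ℤ) :
    CZ 𝒜 ℳ EM mR q 𝒩 d ≤ GrSeg.segrePiece k (EM.X q).gr 𝒩 d := by
  apply Submodule.span_mono
  rintro w ⟨c, -, hcd, y, hy, rfl⟩
  exact ⟨c, hcd, y, hy, rfl⟩

theorem CZ_le_range_jZ (d : ℤ) :
    CZ 𝒜 ℳ EM mR q 𝒩 d ≤ LinearMap.range (jZ 𝒜 S ℳ EM mR q N) := by
  apply Submodule.span_le.2
  rintro w ⟨c, hc, -, y, -, rfl⟩
  exact ⟨(⟨c, hc⟩ : ↥(EM.cocyc mR q)) ⊗ₜ[k] y, rfl⟩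

theorem range_jZ_le_range_jG :
    LinearMap.range (jZ 𝒜 S ℳ EM mR q N) ≤ LinearMap.range (jG 𝒜 S ℳ EM mR N q) := by
  rintro _ ⟨z, rfl⟩
  induction z using TensorProduct.induction_on with
  | zero => rw [map_zero]; exact zero_mem _
  | tmul c y =>
    exact ⟨(⟨c.1, c.2.1⟩ : ↥(gam mR.toIdeal (EM.X q).carrier)) ⊗ₜ[k] y, rfl⟩
  | add z z' h h' => rw [map_add]; exact add_mem h h'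

theorem tmap_d_jZ (z : ↥(EM.cocyc mR q) ⊗[k] N) :
    tmap k (EM.d q) (LinearMap.id : N →ₗ[S] N) (jZ 𝒜 S ℳ EM mR q N z) = 0 := by
  induction z using TensorProduct.induction_on with
  | zero => rw [map_zero, map_zero]
  | tmul c y =>
    rw [jZ_tmul, tmap_tmul, LinearMap.mem_ker.1 c.2.2, TensorProduct.zero_tmul]
  | add z z' h h' => rw [map_add, map_add, h, h', add_zero]

/-- the image of `⊕ Z^q_d ⊗ N_d` under a map inducing `Z^q ⊗ N → H^q ⊗ N` -/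
theorem map_CZ (Φ₀ : (EM.X q).carrier ⊗[k] N →ₗ[k] EM.H mR q ⊗[k] N)
    (hΦ₀ : ∀ z, Φ₀ (jZ 𝒜 S ℳ EM mR q N z) = pH 𝒜 S ℳ EM mR q N z) (d : ℤ) :
    Submodule.map Φ₀ (CZ 𝒜 ℳ EM mR q 𝒩 d) = GrSeg.segrePiece k (EM.Hgr mR q) 𝒩 d := by
  unfold CZ GrSeg.segrePiece
  rw [Submodule.map_span]
  congr 1
  ext x
  constructor
  · rintro ⟨w, ⟨c, hc, hcd, y, hy, rfl⟩, rfl⟩
    refine ⟨EM.toH mR q ⟨c, hc⟩, ⟨⟨c, hc⟩, hcd, rfl⟩, y, hy, ?_⟩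
    have := hΦ₀ ((⟨c, hc⟩ : ↥(EM.cocyc mR q)) ⊗ₜ[k] y)
    rwa [jZ_tmul, pH_tmul] at this
  · rintro ⟨a, ⟨z, hz, rfl⟩, b, hb, rfl⟩
    refine ⟨(z : (EM.X q).carrier) ⊗ₜ[k] b, ⟨z.1, z.2, hz, b, hb, rfl⟩, ?_⟩
    have := hΦ₀ (z ⊗ₜ[k] b)
    rwa [jZ_tmul, pH_tmul] at this

section Noeth

variable [IsNoetherianRing R] [IsNoetherianRing S]

include hmR hmT in
/-- elements of `⊕ Z^q_d ⊗ N_d` are torsion cocycles of `E^• # N` of degree `d` -/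
theorem exists_cocyc_of_mem_CZ (d : ℤ) {w : (EM.X q).carrier ⊗[k] N}
    (hw : w ∈ CZ 𝒜 ℳ EM mR q 𝒩 d) :
    ∃ z : ↥((ER 𝒜 ℬ 𝒯 ψ hT ℳ EM 𝒩 𝒬 φ hP).cocyc (idealAdd 𝒯 mT) q),
      (z : ((ER 𝒜 ℬ 𝒯 ψ hT ℳ EM 𝒩 𝒬 φ hP).X q).carrier) ∈
        ((ER 𝒜 ℬ 𝒯 ψ hT ℳ EM 𝒩 𝒬 φ hP).X q).gr d ∧
      sv 𝒜 ℬ 𝒯 ψ hT ℳ EM 𝒩 q z.1 = w := by
  have h1 : w ∈ GrSeg.segrePiece k (EM.X q).gr 𝒩 d := CZ_le_segrePiece 𝒜 ℳ EM mR q 𝒩 d hw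
  have h2 := CZ_le_range_jZ (S := S) 𝒜 ℳ EM mR q 𝒩 d hw
  have h3 : IsTors 𝒯 ψ w := isTors_of_mem_range_jG 𝒜 ℬ 𝒯 ψ hT ℳ EM mR hmR q
    (range_jZ_le_range_jG 𝒜 ℳ EM mR q h2)
  have h4 : tmap k (EM.d q) (LinearMap.id : N →ₗ[S] N) w = 0 := by
    obtain ⟨z', rfl⟩ := h2
    exact tmap_d_jZ 𝒜 ℳ EM mR q z'
  let z0 : ↥(segSub 𝒜 ℬ 𝒯 ψ hT (EM.X q).gr 𝒩) :=
    segMk 𝒜 ℬ 𝒯 ψ hT (EM.X q).gr 𝒩 w (segrePiece_le_segK (EM.X q).gr 𝒩 d h1)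
  have hz0g : z0 ∈ gam (idealAdd 𝒯 mT).toIdeal ↥(segSub 𝒜 ℬ 𝒯 ψ hT (EM.X q).gr 𝒩) := by
    rw [idealAdd_toIdeal, hmT]
    exact (mem_gam_segSub_iff 𝒜 ℬ 𝒯 ψ hT (EM.X q).gr 𝒩 z0).2 h3
  have hz0d : (ER 𝒜 ℬ 𝒯 ψ hT ℳ EM 𝒩 𝒬 φ hP).d q z0 =
      (0 : ↥(segSub 𝒜 ℬ 𝒯 ψ hT (EM.X (q + 1)).gr 𝒩)) := by
    apply segVal_injective 𝒜 ℬ 𝒯 ψ hT (EM.X (q + 1)).gr 𝒩
    exact h4.trans (map_zero _).symm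
  exact ⟨⟨z0, hz0g, LinearMap.mem_ker.2 hz0d⟩, h1, rfl⟩

include hmR hmT in
/-- **the Segre presentation of the cohomology of `Γ_{T₊}(E^• # N)`** -/
theorem exists_segreH (hN : gam (irr ℬ) N = ⊥) :
    ∃ Φ : (ER 𝒜 ℬ 𝒯 ψ hT ℳ EM 𝒩 𝒬 φ hP).H (idealAdd 𝒯 mT) q →ₗ[T] SW ψ (EM.H mR q) N,
      Function.Injective Φ ∧
      ∀ d : ℤ, (fun x => SW.val ψ (Φ x)) ''
          ((ER 𝒜 ℬ 𝒯 ψ hT ℳ EM 𝒩 𝒬 φ hP).Hgr (idealAdd 𝒯 mT) q d : Set _) =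
        (GrSeg.segrePiece k (EM.Hgr mR q) 𝒩 d : Set (EM.H mR q ⊗[k] N)) := by
  obtain ⟨ρ, hρ⟩ := LinearMap.exists_leftInverse_of_injective (jZ 𝒜 S ℳ EM mR q N)
    (LinearMap.ker_eq_bot.2 (jZ_injective 𝒜 ℳ EM mR q))
  set Φ₀ : (EM.X q).carrier ⊗[k] N →ₗ[k] EM.H mR q ⊗[k] N := pH 𝒜 S ℳ EM mR q N ∘ₗ ρ with hΦ₀def
  have hΦ₀ : ∀ z', Φ₀ (jZ 𝒜 S ℳ EM mR q N z') = pH 𝒜 S ℳ EM mR q N z' := by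
    intro z'
    show pH 𝒜 S ℳ EM mR q N (ρ (jZ 𝒜 S ℳ EM mR q N z')) = _
    have h := LinearMap.congr_fun hρ z'
    rw [LinearMap.comp_apply, LinearMap.id_apply] at h
    rw [h]
  -- the map on cocycles
  let Φa : ↥((ER 𝒜 ℬ 𝒯 ψ hT ℳ EM 𝒩 𝒬 φ hP).cocyc (idealAdd 𝒯 mT) q) →+ EM.H mR q ⊗[k] N :=
    Φ₀.toAddMonoidHom.comp ((sv 𝒜 ℬ 𝒯 ψ hT ℳ EM 𝒩 q).comp
      ((ER 𝒜 ℬ 𝒯 ψ hT ℳ EM 𝒩 𝒬 φ hP).cocyc (idealAdd 𝒯 mT) q).subtype.toAddMonoidHom)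
  let Φ' : ↥((ER 𝒜 ℬ 𝒯 ψ hT ℳ EM 𝒩 𝒬 φ hP).cocyc (idealAdd 𝒯 mT) q) →ₗ[T]
      SW ψ (EM.H mR q) N :=
    { toFun := fun z => SW.of ψ (Φ₀ (sv 𝒜 ℬ 𝒯 ψ hT ℳ EM 𝒩 q z.1))
      map_add' := fun z z' => by
        show SW.of ψ (Φa (z + z')) = SW.of ψ (Φa z) + SW.of ψ (Φa z')
        rw [map_add]
        rfl
      map_smul' := fun t z => by
        apply SW.ext ψ
        rw [RingHom.id_apply, SW.val_smul, SW.val_of, SW.val_of]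
        obtain ⟨z', hz'⟩ := sv_mem_range_jZ 𝒜 ℬ 𝒯 ψ hT ℳ EM mR hmR q 𝒩 𝒬 φ hP mT hmT hN z
        have h1 : sv 𝒜 ℬ 𝒯 ψ hT ℳ EM 𝒩 q (t • z).1 =
            GrSeg.act k R S _ N (ψ t) (sv 𝒜 ℬ 𝒯 ψ hT ℳ EM 𝒩 q z.1) := rfl
        rw [h1, ← hz', ← jZ_act, hΦ₀, hΦ₀, pH_act] }
  have hΦ'0 : ∀ z ∈ ((ER 𝒜 ℬ 𝒯 ψ hT ℳ EM 𝒩 𝒬 φ hP).cobdy (idealAdd 𝒯 mT) q).comap
      ((ER 𝒜 ℬ 𝒯 ψ hT ℳ EM 𝒩 𝒬 φ hP).cocyc (idealAdd 𝒯 mT) q).subtype, Φ' z = 0 := by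
    intro z hz
    obtain ⟨z', hjz, hpz⟩ := exists_of_mem_BT (S := S) 𝒜 ℳ EM mR q
      (sv_mem_BT 𝒜 ℬ 𝒯 ψ hT ℳ EM mR hmR 𝒩 𝒬 φ hP mT hmT hN q z.1 hz)
    apply SW.ext ψ
    show Φ₀ (sv 𝒜 ℬ 𝒯 ψ hT ℳ EM 𝒩 q z.1) = 0
    rw [← hjz, hΦ₀, hpz]
  refine ⟨Submodule.liftQ _ Φ' (fun z hz => LinearMap.mem_ker.2 (hΦ'0 z hz)), ?_, ?_⟩
  · rw [← LinearMap.ker_eq_bot]
    apply Submodule.ker_liftQ_eq_bot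
    intro z hz
    have h0 : Φ₀ (sv 𝒜 ℬ 𝒯 ψ hT ℳ EM 𝒩 q z.1) = 0 := LinearMap.mem_ker.1 hz
    obtain ⟨z', hz'⟩ := sv_mem_range_jZ 𝒜 ℬ 𝒯 ψ hT ℳ EM mR hmR q 𝒩 𝒬 φ hP mT hmT hN z
    rw [← hz', hΦ₀] at h0
    have h1 := jZ_mem_BT_of_pH_eq_zero 𝒜 ℳ EM mR q z' h0
    rw [hz'] at h1
    exact mem_cobdy_of_sv_mem_BT 𝒜 ℬ 𝒯 ψ hT ℳ EM mR hmR 𝒩 𝒬 φ hP mT hmT q z.1 h1
  · intro d
    have hmap := map_CZ 𝒜 ℳ EM mR q 𝒩 Φ₀ hΦ₀ d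
    apply Set.Subset.antisymm
    · rintro _ ⟨x, hx, rfl⟩
      obtain ⟨z, hz, rfl⟩ := hx
      show Φ₀ (sv 𝒜 ℬ 𝒯 ψ hT ℳ EM 𝒩 q z.1) ∈
        (GrSeg.segrePiece k (EM.Hgr mR q) 𝒩 d : Set (EM.H mR q ⊗[k] N))
      rw [← hmap]
      refine ⟨sv 𝒜 ℬ 𝒯 ψ hT ℳ EM 𝒩 q z.1, ?_, rfl⟩
      obtain ⟨z', hz'⟩ := sv_mem_range_jZ 𝒜 ℬ 𝒯 ψ hT ℳ EM mR hmR q 𝒩 𝒬 φ hP mT hmT hN z
      have hzd : sv 𝒜 ℬ 𝒯 ψ hT ℳ EM 𝒩 q z.1 ∈ GrSeg.segrePiece k (EM.X q).gr 𝒩 d := hz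
      have hfix := biP_fix 𝒜 ℬ (EM.X q).gr 𝒩 hzd
      rw [SetLike.mem_coe, ← hfix, ← hz']
      exact biP_jZ_mem_CZ 𝒜 ℬ ℳ EM mR q 𝒩 d z'
    · intro w hw
      rw [← hmap] at hw
      obtain ⟨w0, hw0, rfl⟩ := hw
      obtain ⟨z, hzd, hzw⟩ := exists_cocyc_of_mem_CZ 𝒜 ℬ 𝒯 ψ hT ℳ EM mR hmR q 𝒩 𝒬 φ hP mT hmT d hw0
      refine ⟨(ER 𝒜 ℬ 𝒯 ψ hT ℳ EM 𝒩 𝒬 φ hP).toH (idealAdd 𝒯 mT) q z, ⟨z, hzd, rfl⟩, ?_⟩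
      show Φ₀ (sv 𝒜 ℬ 𝒯 ψ hT ℳ EM 𝒩 q z.1) = Φ₀ w0
      rw [hzw]

end Noeth

end Phi

end Groth.Agent.Lib.helper26.Kun
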