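import Mathlib
import Groth.Prelude.Def_GrLC
import Groth.Prelude.Def_GrSeg
import Groth.Agent.Lib.Helper26.KunAC

/-!
# `H^q_{T₊}(M # N) ≅ H^q_{R₊}(M) # N` for arbitrary *injective resolutions (helper26)
-/

set_option autoImplicit false
set_option linter.unusedSectionVars false
set_option linter.dupNamespace false
universe u
open scoped TensorProduct

namespace Groth.Agent.Lib.helper26.Kun

open GrLC Groth.Agent.Lib.helper19.GrConv Groth.Agent.Lib.helper19.GrMod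
  Groth.Agent.Lib.helper19.GrLes
  Groth.Agent.Lib.helper26.Seg Groth.Agent.Lib.helper26.GrCM Groth.Agent.Lib.helper26.Acyc

attribute [local instance] gsmulAdd

/-- **`H^q_{T₊}(M # N) ≅ H^q_{R₊}(M) # N`** when a homogeneous element of `S` of positive degree acts
bijectively on `N` -/
theorem exists_isSegreMod_H {k : Type u} [Field k] {R : Type u} [CommRing R] [Algebra k R]
    (𝒜 : ℤ → Submodule k R) [GradedAlgebra 𝒜]
    {S : Type u} [CommRing S] [Algebra k S] (ℬ : ℤ → Submodule k S) [GradedAlgebra ℬ]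
    {T : Type u} [CommRing T] [Algebra k T] (𝒯 : ℤ → Submodule k T) [GradedAlgebra 𝒯]
    (ψ : T →ₐ[k] R ⊗[k] S) (hT : GrSeg.IsSegreRing 𝒜 ℬ 𝒯 ψ)
    [IsNoetherianRing R] [IsNoetherianRing S] [IsNoetherianRing T] [IsNoetherianRing (R ⊗[k] S)]
    {M : Type u} [AddCommGroup M] [Module R M] [Module k M] [IsScalarTower k R M]
    (ℳ : ℤ → AddSubgroup M) [DirectSum.Decomposition ℳ] [SetLike.GradedSMul 𝒜 ℳ]
    (EM : StarInjRes 𝒜 ℳ) (mR : HomogeneousIdeal 𝒜) (hmR : mR.toIdeal = irr 𝒜)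
    (q : ℕ) [Module k (EM.H mR q)] [IsScalarTower k R (EM.H mR q)]
    {N : Type u} [AddCommGroup N] [Module S N] [Module k N] [IsScalarTower k S N]
    (𝒩 : ℤ → AddSubgroup N) [DirectSum.Decomposition 𝒩] [SetLike.GradedSMul ℬ 𝒩]
    {e : ℕ} (he : 0 < e) {g : S} (hg : g ∈ ℬ (e : ℤ))
    (hgN : Function.Bijective (fun y : N => g • y))
    {P : Type u} [AddCommGroup P] [Module T P] [Module k P] [IsScalarTower k T P]
    (𝒬 : ℤ → AddSubgroup P) [DirectSum.Decomposition 𝒬] [SetLike.GradedSMul 𝒯 𝒬]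
    (φ : P →ₗ[k] M ⊗[k] N) (hP : GrSeg.IsSegreMod ψ ℳ 𝒩 𝒬 φ)
    (mT : HomogeneousIdeal 𝒯) (hmT : mT.toIdeal = irr 𝒯)
    (EP : StarInjRes 𝒯 𝒬) [Module k (EP.H mT q)] [IsScalarTower k T (EP.H mT q)]
    [DirectSum.Decomposition (EP.Hgr mT q)] :
    ∃ φ' : EP.H mT q →ₗ[k] EM.H mR q ⊗[k] N,
      GrSeg.IsSegreMod ψ (EM.Hgr mR q) 𝒩 (EP.Hgr mT q) φ' := by
  classical
  let mkM : ∀ p, Module k (EM.X p).carrier := fun p => Module.compHom _ (algebraMap k R)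
  have stM : ∀ p, IsScalarTower k R (EM.X p).carrier := fun p =>
    IsScalarTower.of_algebraMap_smul fun _ _ => rfl
  have hN : gam (irr ℬ) N = ⊥ := gam_eq_bot_of_injective ℬ he hg hgN.1
  have hA : ∀ n, IsAcyc (idealAdd 𝒯 mT) ((ER 𝒜 ℬ 𝒯 ψ hT ℳ EM 𝒩 𝒬 φ hP).X n) := fun n =>
    segRes_isAcyc 𝒜 ℬ 𝒯 ψ hT (fun p => (EM.X p).gr) 𝒩 (fun p => EM.starInj p) he hg hgN mT hmT n
  obtain ⟨e', he'⟩ : GrIso T (EP.Hgr mT q)
      ((ER 𝒜 ℬ 𝒯 ψ hT ℳ EM 𝒩 𝒬 φ hP).Hgr (idealAdd 𝒯 mT) q) :=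
    acyc_grIso (idealAdd 𝒯 mT) (ER 𝒜 ℬ 𝒯 ψ hT ℳ EM 𝒩 𝒬 φ hP) hA (resAddG 𝒯 𝒬 EP) q
  obtain ⟨Φ, hΦi, hΦd⟩ := exists_segreH 𝒜 ℬ 𝒯 ψ hT ℳ EM mR hmR q 𝒩 𝒬 φ hP mT hmT hN
  let φ' : EP.H mT q →ₗ[k] EM.H mR q ⊗[k] N :=
    { toFun := fun x => SW.val ψ (Φ (e' x))
      map_add' := fun x y => by
        rw [map_add, map_add]
        rfl
      map_smul' := fun c x => by
        rw [RingHom.id_apply, ← algebraMap_smul T c x, map_smul, map_smul, algebraMap_smul,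
          SW.val_ksmul] }
  refine ⟨φ', ⟨?_, ?_, ?_⟩⟩
  · intro x y hxy
    have h1 : Φ (e' x) = Φ (e' y) := hxy
    exact e'.injective (hΦi h1)
  · intro n
    rw [← hΦd n]
    ext w
    constructor
    · rintro ⟨x, hx, rfl⟩
      exact ⟨e' x, (he' n x).1 hx, rfl⟩
    · rintro ⟨y, hy, rfl⟩
      refine ⟨e'.symm y, (he' n _).2 ?_, ?_⟩
      · rw [e'.apply_symm_apply]
        exact hy
      · show SW.val ψ (Φ (e' (e'.symm y))) = _
        rw [e'.apply_symm_apply]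
  · intro t p
    show SW.val ψ (Φ (e' (t • p))) = _
    rw [map_smul, map_smul, SW.val_smul]
    rfl

end Groth.Agent.Lib.helper26.Kun
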