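import Mathlib
import Groth.Prelude.Def_GrLC
import Groth.Prelude.Def_GrSyz
import Groth.Agent.S18656
import Groth.Agent.Lib.Helper19.GrPoly
import Groth.Agent.Lib.Helper19.GrSG6
import Groth.Agent.Lib.Helper26.KunQ

/-!
# The top local cohomology of the standard graded polynomial ring (helper26)

`poly_Hcomp_eq_bot_iff` : `H^n_𝔪(k[x_1, …, x_n])_g = 0` iff `g > -n` (for `n ≥ 1`).
-/

set_option autoImplicit false
set_option linter.unusedSectionVars false
set_option linter.dupNamespace false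
universe u
open scoped TensorProduct

namespace Groth.Agent.Lib.helper26.Kun

open GrLC MvPolynomial Groth.Agent.Lib.helper19.GrConv Groth.Agent.Lib.helper19.GrMod
  Groth.Agent.Lib.helper19.GrLes Groth.Agent.Lib.helper19.GrPoly
  Groth.Agent.Lib.helper26.Seg

section Poly

variable (k : Type u) [Field k] (n : ℕ)

/-- `H^0_𝔪(k)` is nonzero in degree zero -/
theorem H0_residue_ne_bot
    (K : Submodule (MvPolynomial (Fin n) k) (MvPolynomial (Fin n) k))
    (hK : K = ((mm k n).toIdeal : Submodule (MvPolynomial (Fin n) k) (MvPolynomial (Fin n) k)))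
    [DirectSum.Decomposition (quotPiece (gr k n) K)]
    [SetLike.GradedSMul (gr k n) (quotPiece (gr k n) K)]
    (F : StarInjRes (gr k n) (quotPiece (gr k n) K)) :
    F.Hgr (mm k n) 0 0 ≠ ⊥ := by
  intro hbot
  have h1 : K.mkQ 1 ∈ quotPiece (gr k n) K 0 :=
    mkQ_isGrHom (gr k n) K 0 1 (SetLike.GradedOne.one_mem (A := gr k n))
  have hz0 : F.ε (K.mkQ 1) ∈ (F.X 0).gr 0 := F.ε_grHom 0 _ h1
  have hzg : F.ε (K.mkQ 1) ∈ gam (mm k n).toIdeal (F.X 0).carrier := by
    refine ⟨1, fun r hr => ?_⟩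
    rw [pow_one] at hr
    rw [← map_smul, ← map_smul, smul_eq_mul, mul_one]
    have : K.mkQ r = 0 := by
      rw [Submodule.mkQ_apply, Submodule.Quotient.mk_eq_zero, hK]
      exact hr
    rw [this, map_zero]
  have hzd : F.d 0 (F.ε (K.mkQ 1)) = 0 :=
    LinearMap.mem_ker.1 (F.exact_zero.symm ▸ LinearMap.mem_range_self _ _)
  let z : ↥(F.cocyc (mm k n) 0) := ⟨F.ε (K.mkQ 1), hzg, LinearMap.mem_ker.2 hzd⟩
  have hmem : F.toH (mm k n) 0 z ∈ F.Hgr (mm k n) 0 0 := ⟨z, hz0, rfl⟩
  rw [hbot] at hmem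
  have h2 : F.toH (mm k n) 0 z = 0 := AddSubgroup.mem_bot.1 hmem
  rw [Submodule.mkQ_apply, Submodule.Quotient.mk_eq_zero] at h2
  have hz : (z : (F.X 0).carrier) = 0 :=
    (Submodule.mem_bot (MvPolynomial (Fin n) k)).1 h2
  have h3 : K.mkQ 1 = 0 := F.ε_injective (by rw [map_zero]; exact hz)
  rw [Submodule.mkQ_apply, Submodule.Quotient.mk_eq_zero, hK] at h3
  exact Groth.Agent.Lib.helper7.GrSyzBasic.irrel_ne_top k (Fin n)
    ((Ideal.eq_top_iff_one _).2 h3)

variable (E : StarInjRes (gr k n) (gr k n))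

/-- **the `a`-invariant of the polynomial ring in `n` variables is `-n`** -/
theorem endDeg_poly :
    endDeg (E.Hgr (mm k n) n) = (((-(n : ℤ) : ℤ) : WithTop ℤ) : WithBot (WithTop ℤ)) := by
  classical
  let K : Submodule (MvPolynomial (Fin n) k) (MvPolynomial (Fin n) k) := (mm k n).toIdeal
  have hK : K.IsHomogeneous (gr k n) := (mm k n).isHomogeneous
  let _ : DirectSum.Decomposition (quotPiece (gr k n) K) := quotDecomposition (gr k n) K hK
  let _ : SetLike.GradedSMul (gr k n) (quotPiece (gr k n) K) := quot_gradedSMul (gr k n) (gr k n) K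
  obtain ⟨F⟩ := Groth.Agent.S13215.result (MvPolynomial (Fin n) k) (gr k n)
    (MvPolynomial (Fin n) k ⧸ K) (quotPiece (gr k n) K)
  let ps : List (MvPolynomial (Fin n) k × ℤ) :=
    (List.ofFn (X : Fin n → MvPolynomial (Fin n) k)).map (fun x => (x, (1 : ℤ)))
  have hmap : ps.map Prod.fst = List.ofFn (X : Fin n → MvPolynomial (Fin n) k) := by
    simp only [ps]
    rw [List.map_map]
    exact List.map_id _
  have hsum : ∀ ys : List (MvPolynomial (Fin n) k),
      ((ys.map (fun x => (x, (1 : ℤ)))).map Prod.snd).sum = (ys.length : ℤ) := by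
    intro ys
    induction ys with
    | nil => rfl
    | cons y ys ih =>
      rw [List.map_cons, List.map_cons, List.sum_cons, ih, List.length_cons]
      push_cast
      ring
  have hlen : ps.length = n := by simp [ps]
  have hker : LinearMap.ker K.mkQ = Ideal.ofList (ps.map Prod.fst) •
      (⊤ : Submodule (MvPolynomial (Fin n) k) (MvPolynomial (Fin n) k)) := by
    rw [Submodule.ker_mkQ, hmap, smul_eq_mul, Ideal.mul_top]
    exact mm_eq k n
  have hmem : ∀ p ∈ ps, p.1 ∈ gr k n p.2 ∧ p.1 ∈ (mm k n).toIdeal := by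
    intro p hp
    obtain ⟨x, hx, rfl⟩ := List.mem_map.1 hp
    obtain ⟨i, rfl⟩ := (List.mem_ofFn' _ _).1 hx
    refine ⟨X_mem k n i, ?_⟩
    rw [mm_eq]
    exact Ideal.subset_span hx
  have hseq := endDeg_seq (gr k n) (gr_neg k n) (mm k n) ps (MvPolynomial (Fin n) k) (gr k n) E
    (MvPolynomial (Fin n) k ⧸ K) (quotPiece (gr k n) K) F K.mkQ (mkQ_isGrHom (gr k n) K)
    (Submodule.mkQ_surjective K) hker hmem n (le_of_eq hlen)
    (by rw [hmap]; exact X_weaklyRegular k n) (le_depth k n)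
  rw [hlen, Nat.sub_self, hsum, List.length_ofFn] at hseq
  have hF0 : endDeg (F.Hgr (mm k n) 0) ≤ (((0 : ℤ) : WithTop ℤ) : WithBot (WithTop ℤ)) := by
    apply endDeg_le
    intro g' hne
    rw [cast_le]
    by_contra hg'
    push Not at hg'
    apply hne
    rw [eq_bot_iff]
    intro y hy
    have h1 := Groth.Agent.Lib.helper19.GrFin.H0toM_mem_piece F (mm k n) hy
    obtain ⟨z, hz, hzy⟩ := h1
    have hzK : z ∈ K := Ideal.subset_span ⟨g', hg', hz⟩
    have h2 : K.mkQ z = 0 := by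
      rw [Submodule.mkQ_apply, Submodule.Quotient.mk_eq_zero]
      exact hzK
    have h3 : Groth.Agent.Lib.helper19.GrFin.H0toM F (mm k n) y = 0 := by
      rw [← hzy]
      exact h2
    rw [AddSubgroup.mem_bot]
    apply Groth.Agent.Lib.helper19.GrFin.H0toM_injective F (mm k n)
    rw [h3, map_zero]
  have hF0' : (((0 : ℤ) : WithTop ℤ) : WithBot (WithTop ℤ)) ≤ endDeg (F.Hgr (mm k n) 0) :=
    le_endDeg _ (H0_residue_ne_bot k n K rfl F)
  have hF : endDeg (F.Hgr (mm k n) 0) = (((0 : ℤ) : WithTop ℤ) : WithBot (WithTop ℤ)) :=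
    le_antisymm hF0 hF0'
  rw [hF] at hseq
  -- solve `0 = x + n`
  cases hx : endDeg (E.Hgr (mm k n) n) with
  | bot =>
    rw [hx] at hseq
    exact absurd hseq (by simp)
  | coe x' =>
    cases hx' : x' with
    | top =>
      rw [hx, hx'] at hseq
      exact absurd hseq (by
        intro h
        have h1 : (((0 : ℤ) : WithTop ℤ) : WithBot (WithTop ℤ)) =
          (((⊤ : WithTop ℤ) + ((n : ℤ) : WithTop ℤ) : WithTop ℤ) : WithBot (WithTop ℤ)) := h
        rw [WithBot.coe_inj, WithTop.top_add] at h1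
        exact WithTop.coe_ne_top h1)
    | coe x'' =>
      rw [hx, hx'] at hseq
      have h1 : (((0 : ℤ) : WithTop ℤ) : WithBot (WithTop ℤ)) =
          ((((x'' + (n : ℤ) : ℤ)) : WithTop ℤ) : WithBot (WithTop ℤ)) := by
        rw [hseq]
        push_cast
        rfl
      rw [WithBot.coe_inj, WithTop.coe_inj] at h1
      have : x'' = -(n : ℤ) := by omega
      rw [this]

theorem isField_deg0_poly : IsField (deg0 (gr k n)) := by
  have hinj : Function.Injective (Groth.Agent.Lib.helper19.GrSG.toDeg0 k n) := by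
    intro c c' h
    have h1 : (C c : MvPolynomial (Fin n) k) = C c' := congrArg Subtype.val h
    exact C_injective _ _ h1
  let e : k ≃+* deg0 (gr k n) := RingEquiv.ofBijective (Groth.Agent.Lib.helper19.GrSG.toDeg0 k n)
    ⟨hinj, Groth.Agent.Lib.helper19.GrSG.toDeg0_surjective k n⟩
  exact MulEquiv.isField (Field.toIsField k) e.symm.toMulEquiv

theorem mm_toIdeal_eq :
    (mm k n).toIdeal = Ideal.span (⋃ i ∈ Set.Ioi (0 : ℤ), (gr k n i : Set (MvPolynomial (Fin n) k))) := by
  show Ideal.span {r : MvPolynomial (Fin n) k | ∃ i : ℤ, 0 < i ∧ r ∈ GrSyz.stdGr k (Fin n) i} = _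
  congr 1
  ext x
  simp only [Set.mem_ofPred_eq, Set.mem_iUnion, Set.mem_Ioi, exists_prop]
  rfl

theorem span_iUnion_eq_span_one :
    Ideal.span (⋃ i ∈ Set.Ioi (0 : ℤ), (gr k n i : Set (MvPolynomial (Fin n) k))) =
      Ideal.span ((gr k n 1 : AddSubgroup (MvPolynomial (Fin n) k)) : Set (MvPolynomial (Fin n) k)) := by
  apply le_antisymm
  · rw [← mm_toIdeal_eq, mm_eq]
    apply Ideal.span_le.2
    intro x hx
    obtain ⟨i, rfl⟩ := (List.mem_ofFn' _ _).1 hx
    exact Ideal.subset_span (X_mem k n i)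
  · apply Ideal.span_mono
    intro x hx
    exact Set.mem_iUnion₂.2 ⟨1, by norm_num, hx⟩

/-- **the top local cohomology of the polynomial ring** vanishes exactly in degrees `> -n` -/
theorem poly_Hcomp_eq_bot_iff (hn : 1 ≤ n) (g : ℤ) :
    E.Hcomp (mm k n) n g = ⊥ ↔ -(n : ℤ) < g := by
  constructor
  · intro h
    by_contra hg
    push Not at hg
    exact Groth.Agent.S18656.result (MvPolynomial (Fin n) k) (gr k n) (gr_neg k n)
      (isField_deg0_poly k n) (mm k n) (Groth.Agent.Lib.helper19.GrSG.isStarLocal_poly k n)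
      (mm_toIdeal_eq k n) (span_iUnion_eq_span_one k n) n
      (Groth.Agent.Lib.helper19.GrSG.ringKrullDim_poly k n) hn E (-(n : ℤ)) (endDeg_poly k n E) g hg h
  · intro hg
    have h := Hgr_top k n E g hg
    rw [eq_bot_iff]
    intro x hx
    have hx' : x ∈ E.Hgr (mm k n) n g := hx
    rw [h] at hx'
    exact (Submodule.mem_bot _).2 ((AddSubgroup.mem_bot).1 hx')

end Poly

section PolySub

attribute [local instance] gsmulSelf gsmulAdd

variable (k : Type u) [Field k] (n : ℕ)

theorem irr_stdGr_eq :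
    irr (GrSyz.stdGr k (Fin n)) = (GrSyz.irrel (GrSyz.stdGr k (Fin n))).toIdeal := by
  show Ideal.span _ = Ideal.span {r : MvPolynomial (Fin n) k | ∃ i : ℤ, 0 < i ∧ r ∈ GrSyz.stdGr k (Fin n) i}
  congr 1
  ext x
  simp only [Set.mem_ofPred_eq, Set.mem_iUnion, Set.mem_Ioi, exists_prop]
  rfl

/-- the same for resolutions over the grading by subspaces -/
theorem poly_Hcomp_eq_bot_iff' (hn : 1 ≤ n)
    (E₀ : StarInjRes (GrSyz.stdGr k (Fin n)) (addGr (GrSyz.stdGr k (Fin n))))
    (mR : HomogeneousIdeal (GrSyz.stdGr k (Fin n)))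
    (hmR : mR.toIdeal = irr (GrSyz.stdGr k (Fin n))) (g : ℤ) :
    E₀.Hcomp mR n g = ⊥ ↔ -(n : ℤ) < g := by
  have hm : mR = GrSyz.irrel (GrSyz.stdGr k (Fin n)) := by
    apply HomogeneousIdeal.toIdeal_injective
    rw [hmR, irr_stdGr_eq]
  subst hm
  exact poly_Hcomp_eq_bot_iff k n
    (resAddG (GrSyz.stdGr k (Fin n)) (addGr (GrSyz.stdGr k (Fin n))) E₀) hn g

end PolySub

end Groth.Agent.Lib.helper26.Kun
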