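import Mathlib
import Groth.Prelude.Def_GrLC
import Groth.Prelude.Def_GrSeg
import Groth.Agent.Lib.Helper26.GrCM10
import Groth.Agent.Lib.Helper26.KunP
import Groth.Agent.Lib.Helper26.KunR

/-!
# Shifts of *injective resolutions; vanishing of the pieces of `H^q_{T₊}(M # N)` (helper26)
-/

set_option autoImplicit false
set_option linter.unusedSectionVars false
set_option linter.dupNamespace false
universe u
open scoped TensorProduct

namespace Groth.Agent.Lib.helper26.Kun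

open GrLC Groth.Agent.Lib.helper19.GrConv Groth.Agent.Lib.helper19.GrMod
  Groth.Agent.Lib.helper26.Seg Groth.Agent.Lib.helper26.GrCM Groth.Agent.Lib.helper26.Acyc

section Shift

variable {k : Type u} [Field k] {R : Type u} [CommRing R] [Algebra k R]
  (𝒜 : ℤ → Submodule k R) [GradedAlgebra 𝒜]
  {M : Type u} [AddCommGroup M] [Module R M]
  (ℳ : ℤ → AddSubgroup M) [DirectSum.Decomposition ℳ] [SetLike.GradedSMul 𝒜 ℳ]

/-- the decomposition of the shifted grading -/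
@[instance_reducible]
noncomputable def shiftDec (c : ℤ) : DirectSum.Decomposition (fun g => ℳ (g + c)) :=
  (isInternal_shiftM ℳ c).chooseDecomposition

theorem shiftGSMul (c : ℤ) : SetLike.GradedSMul 𝒜 (fun g => ℳ (g + c)) :=
  (shiftMod 𝒜 ℳ c).gsmul

attribute [local instance] shiftDec shiftGSMul

theorem isStarInj_shift (X : GMod.{u} 𝒜) (hX : IsStarInj 𝒜 X.gr) (c : ℤ) :
    IsStarInj 𝒜 (fun g => X.gr (g + c)) := by
  intro A B f hf hinj g hg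
  have hf' : IsGrHom (shiftMod 𝒜 A.gr (-c)).gr (shiftMod 𝒜 B.gr (-c)).gr f :=
    fun i m hm => hf (i + -c) m hm
  have hg' : IsGrHom (shiftMod 𝒜 A.gr (-c)).gr X.gr g := by
    intro i m hm
    have h1 : g m ∈ X.gr (i + -c + c) := hg (i + -c) m hm
    have e : i + -c + c = i := by ring
    rw [e] at h1
    exact h1
  obtain ⟨h, hh, hcomp⟩ := hX (shiftMod 𝒜 A.gr (-c)) (shiftMod 𝒜 B.gr (-c)) f hf' hinj g hg'
  refine ⟨h, ?_, hcomp⟩
  intro i m hm
  show h m ∈ X.gr (i + c)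
  apply hh (i + c) m
  show m ∈ B.gr (i + c + -c)
  have e : i + c + -c = i := by ring
  rw [e]
  exact hm

/-- the shift of a *injective resolution -/
noncomputable def shiftRes (E : StarInjRes 𝒜 ℳ) (c : ℤ) : StarInjRes 𝒜 (fun g => ℳ (g + c)) where
  X n := shiftMod 𝒜 (E.X n).gr c
  d := E.d
  ε := E.ε
  d_grHom n := fun i m hm => E.d_grHom n (i + c) m hm
  ε_grHom := fun i m hm => E.ε_grHom (i + c) m hm
  ε_injective := E.ε_injective
  exact_zero := E.exact_zero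
  exact_succ := E.exact_succ
  starInj n := isStarInj_shift 𝒜 (E.X n) (E.starInj n) c

theorem shiftRes_Hcomp (E : StarInjRes 𝒜 ℳ) (c : ℤ) (a : HomogeneousIdeal 𝒜) (i : ℕ) (g : ℤ) :
    (shiftRes 𝒜 ℳ E c).Hcomp a i g = E.Hcomp a i (g + c) := rfl

end Shift

section Refined

attribute [local instance] gsmulAdd

/-- **vanishing of the pieces of `H^q_{T₊}(M # N)`** below `r + s - 1`, when `H^i_{R₊}(M)` and
`H^j_{S₊}(N)` are concentrated in `i = r ≥ 2`, `j = s ≥ 2` -/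
theorem Hcomp_segre_eq_bot_iff {k : Type u} [Field k] {R : Type u} [CommRing R] [Nontrivial R]
    [Algebra k R]
    (𝒜 : ℤ → Submodule k R) [GradedAlgebra 𝒜] (hposR : ∀ n : ℤ, n < 0 → 𝒜 n = ⊥)
    (h0R : 𝒜 0 = Submodule.span k {(1 : R)}) [Algebra.FiniteType k R]
    {S : Type u} [CommRing S] [Nontrivial S] [Algebra k S] (ℬ : ℤ → Submodule k S)
    [GradedAlgebra ℬ] (hposS : ∀ n : ℤ, n < 0 → ℬ n = ⊥)
    (h0S : ℬ 0 = Submodule.span k {(1 : S)}) [Algebra.FiniteType k S]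
    {T : Type u} [CommRing T] [Algebra k T] (𝒯 : ℤ → Submodule k T) [GradedAlgebra 𝒯]
    (ψ : T →ₐ[k] R ⊗[k] S) (hT : GrSeg.IsSegreRing 𝒜 ℬ 𝒯 ψ)
    (mR : HomogeneousIdeal 𝒜) (hmR : mR.toIdeal = irr 𝒜)
    (mS : HomogeneousIdeal ℬ) (hmS : mS.toIdeal = irr ℬ)
    (mT : HomogeneousIdeal 𝒯) (hmT : mT.toIdeal = irr 𝒯)
    {M : Type u} [AddCommGroup M] [Module R M] [Module k M] [IsScalarTower k R M]
    (ℳ : ℤ → AddSubgroup M) [DirectSum.Decomposition ℳ] [SetLike.GradedSMul 𝒜 ℳ]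
    [Module.Finite R M] (EM : StarInjRes 𝒜 ℳ)
    {N : Type u} [AddCommGroup N] [Module S N] [Module k N] [IsScalarTower k S N]
    (𝒩 : ℤ → AddSubgroup N) [DirectSum.Decomposition 𝒩] [SetLike.GradedSMul ℬ 𝒩]
    [Module.Finite S N] (EN : StarInjRes ℬ 𝒩)
    {P : Type u} [AddCommGroup P] [Module T P] [Module k P] [IsScalarTower k T P]
    [Module.Finite T P]
    (𝒬 : ℤ → AddSubgroup P) [DirectSum.Decomposition 𝒬] [SetLike.GradedSMul 𝒯 𝒬]
    (φ : P →ₗ[k] M ⊗[k] N) (hP : GrSeg.IsSegreMod ψ ℳ 𝒩 𝒬 φ) (EP : StarInjRes 𝒯 𝒬)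
    (r s : ℕ) (h2r : 2 ≤ r) (h2s : 2 ≤ s)
    (hvM : ∀ i : ℕ, i ≠ r → ∀ d, EM.Hcomp mR i d = ⊥)
    (hvN : ∀ i : ℕ, i ≠ s → ∀ d, EN.Hcomp mS i d = ⊥)
    (q : ℕ) (hq : q + 1 < r + s) (d : ℤ) :
    EP.Hcomp mT q d = ⊥ ↔
      (q = s → ℳ d = ⊥ ∨ EN.Hcomp mS s d = ⊥) ∧ (q = r → EM.Hcomp mR r d = ⊥ ∨ 𝒩 d = ⊥) := by
  classical
  have hψ := hT.1
  have hdegT : ∀ n : ℤ, (𝒯 n).map ψ.toLinearMap =
      Submodule.span k {x : R ⊗[k] S | ∃ a ∈ 𝒜 n, ∃ b ∈ ℬ n, x = a ⊗ₜ[k] b} := hT.2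
  have hNoethR : IsNoetherianRing R := Algebra.FiniteType.isNoetherianRing k R
  have hNoethS : IsNoetherianRing S := Algebra.FiniteType.isNoetherianRing k S
  have hFT : Algebra.FiniteType k T := finiteType_segre 𝒜 ℬ 𝒯 ψ hdegT hψ hposR h0R hposS h0S
  have hNoethT : IsNoetherianRing T := Algebra.FiniteType.isNoetherianRing k T
  have hposT := pieceT_eq_bot 𝒜 ℬ 𝒯 ψ hdegT hψ hposR
  have h0T := pieceT_zero 𝒜 ℬ 𝒯 ψ hdegT hψ h0R h0S
  have hntT : Nontrivial T := ψ.toRingHom.domain_nontrivial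
  have hfM : ∀ i : ℕ, i ≠ r → ∀ d, Module.finrank (deg0 𝒜) (EM.Hcomp mR i d) = 0 := by
    intro i hi d
    rw [hvM i hi d]
    exact finrank_bot _ _
  have hfN : ∀ i : ℕ, i ≠ s → ∀ d, Module.finrank (deg0 ℬ) (EN.Hcomp mS i d) = 0 := by
    intro i hi d
    rw [hvN i hi d]
    exact finrank_bot _ _
  have hK := kunneth_segre 𝒜 hposR h0R ℬ hposS h0S 𝒯 ψ hT mR hmR mS hmS mT hmT
    ℳ EM 𝒩 EN 𝒬 φ hP EP
    (fun q d hq => hvM q (by omega) d) (fun q d hq => hvN q (by omega) d) q d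
  have hsum : (Finset.range (q + 2)).sum (fun i =>
        Module.finrank (deg0 𝒜) (EM.Hcomp mR i d) *
          Module.finrank (deg0 ℬ) (EN.Hcomp mS (q + 1 - i) d)) = 0 := by
    apply Finset.sum_eq_zero
    intro i hi
    by_cases hir : i = r
    · have : q + 1 - i ≠ s := by omega
      rw [hfN _ this d, mul_zero]
    · rw [hfM i hir d, zero_mul]
  rw [Hcomp_eq_bot_iff_finrank 𝒯 h0T hposT 𝒬 EP mT hmT q d, hK, hsum, add_zero,
    Nat.add_eq_zero_iff, Nat.mul_eq_zero, Nat.mul_eq_zero,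
    ← piece_eq_bot_iff_finrank 𝒜 h0R hposR ℳ d, ← piece_eq_bot_iff_finrank ℬ h0S hposS 𝒩 d,
    ← Hcomp_eq_bot_iff_finrank 𝒜 h0R hposR ℳ EM mR hmR q d,
    ← Hcomp_eq_bot_iff_finrank ℬ h0S hposS 𝒩 EN mS hmS q d]
  constructor
  · rintro ⟨h1, h2⟩
    refine ⟨fun hqs => ?_, fun hqr => ?_⟩
    · subst hqs; exact h1
    · subst hqr; exact h2
  · rintro ⟨h1, h2⟩
    refine ⟨?_, ?_⟩
    · by_cases hqs : q = s
      · subst hqs; exact h1 rfl
      · exact Or.inr (hvN q hqs d)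
    · by_cases hqr : q = r
      · subst hqr; exact h2 rfl
      · exact Or.inl (hvM q hqr d)

end Refined

end Groth.Agent.Lib.helper26.Kun
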