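import Mathlib
import Groth.Prelude.Def_GrLC
import Groth.Prelude.Def_GrSeg
import Groth.Prelude.Def_GrSyz
import Groth.Agent.Lib.Helper26.CMPoly2
import Groth.Agent.Lib.Helper26.GrCM14
import Groth.Agent.Lib.Helper26.Seg12
import Groth.Agent.Lib.Helper26.Seg27
import Groth.Agent.Lib.Helper26.KunT
import Groth.Agent.Lib.Helper26.KunV
import Groth.Agent.Lib.Helper26.KunW

/-!
# Segre products of shifted polynomial rings: Cohen–Macaulayness and depth (helper26)
-/

set_option autoImplicit false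
set_option linter.unusedSectionVars false
set_option linter.dupNamespace false
universe u
open scoped TensorProduct

namespace Groth.Agent.Lib.helper26.Kun

open GrLC MvPolynomial Groth.Agent.Lib.helper19.GrConv Groth.Agent.Lib.helper19.GrMod
  Groth.Agent.Lib.helper19.GrPoly
  Groth.Agent.Lib.helper26.Seg Groth.Agent.Lib.helper26.GrCM Groth.Agent.Lib.helper26.Acyc

section PolyMore

attribute [local instance] gsmulSelf gsmulAdd

variable (k : Type u) [Field k] (n : ℕ)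

theorem poly_Hcomp_eq_bot_of_ne'
    (E₀ : StarInjRes (GrSyz.stdGr k (Fin n)) (addGr (GrSyz.stdGr k (Fin n))))
    (mR : HomogeneousIdeal (GrSyz.stdGr k (Fin n)))
    (hmR : mR.toIdeal = irr (GrSyz.stdGr k (Fin n))) (i : ℕ) (hi : i ≠ n) (g : ℤ) :
    E₀.Hcomp mR i g = ⊥ := by
  have hm : mR = GrSyz.irrel (GrSyz.stdGr k (Fin n)) := by
    apply HomogeneousIdeal.toIdeal_injective
    rw [hmR, irr_stdGr_eq]
  subst hm
  have h : (resAddG (GrSyz.stdGr k (Fin n)) (addGr (GrSyz.stdGr k (Fin n))) E₀).Hgr (mm k n) i g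
      = ⊥ := by
    rcases Nat.lt_or_gt_of_ne hi with h | h
    · exact Hgr_below k n _ i h g
    · exact Hgr_above k n _ i h g
  rw [eq_bot_iff]
  intro x hx
  have hx' : x ∈ (resAddG (GrSyz.stdGr k (Fin n)) (addGr (GrSyz.stdGr k (Fin n))) E₀).Hgr
      (mm k n) i g := hx
  rw [h] at hx'
  exact (Submodule.mem_bot _).2 ((AddSubgroup.mem_bot).1 hx')

theorem stdGr_hpos : ∀ m : ℤ, m < 0 → GrSyz.stdGr k (Fin n) m = ⊥ :=
  fun m hm => stdGr_eq_bot (k := k) (σ := Fin n) m hm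

theorem stdGr_h0 : GrSyz.stdGr k (Fin n) 0 = Submodule.span k {(1 : MvPolynomial (Fin n) k)} :=
  stdGr_zero (k := k) (σ := Fin n)

theorem addGr_stdGr_eq_bot_iff (hn : 1 ≤ n) (m : ℤ) :
    addGr (GrSyz.stdGr k (Fin n)) m = ⊥ ↔ m < 0 := by
  constructor
  · intro h
    by_contra hm
    push Not at hm
    obtain ⟨j, rfl⟩ := Int.eq_ofNat_of_zero_le hm
    have hx : (X (⟨0, hn⟩ : Fin n) ^ j : MvPolynomial (Fin n) k) ∈
        addGr (GrSyz.stdGr k (Fin n)) (j : ℤ) := X_pow_mem_stdGr (k := k) (σ := Fin n) ⟨0, hn⟩ j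
    rw [h] at hx
    have h0 : (X (⟨0, hn⟩ : Fin n) ^ j : MvPolynomial (Fin n) k) = 0 := (AddSubgroup.mem_bot).1 hx
    exact pow_ne_zero j (X_ne_zero _) h0
  · intro hm
    rw [addGr_eq_bot_iff]
    exact stdGr_hpos k n m hm

theorem poly_supportDim :
    Module.supportDim (MvPolynomial (Fin n) k) (MvPolynomial (Fin n) k) = (n : WithBot ℕ∞) := by
  rw [Module.supportDim_self_eq_ringKrullDim, Groth.Agent.Lib.helper19.GrSG.ringKrullDim_poly k n]

theorem poly_cm (q : Ideal (MvPolynomial (Fin n) k)) [q.IsPrime] :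
    Subsingleton (LocalizedModule q.primeCompl (MvPolynomial (Fin n) k)) ∨
      LocCoh.IsCohenMacaulayModule (Localization.AtPrime q)
        (LocalizedModule q.primeCompl (MvPolynomial (Fin n) k)) := by
  have hk : LocCoh.IsCohenMacaulayRing k :=
    Groth.Agent.Lib.helper17.FieldCM.isCohenMacaulayRing_of_isArtinianRing k
  have hA : LocCoh.IsCohenMacaulayRing (MvPolynomial (Fin n) k) :=
    Groth.Agent.Lib.helper26.CMPoly.isCohenMacaulayRing_mvPolynomial k n
  exact (isCohenMacaulayRing_iff_forall_localizedModule (MvPolynomial (Fin n) k)).1 hA q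

end PolyMore

section MainPoly

attribute [local instance] gsmulSelf gsmulAdd shiftDec shiftGSMul

theorem enat_eq_of_le_of_not_succ_le {x : ℕ∞} {n : ℕ} (h1 : (n : ℕ∞) ≤ x)
    (h2 : ¬ ((n + 1 : ℕ) : ℕ∞) ≤ x) : x = n := by
  apply le_antisymm _ h1
  by_contra h
  rw [not_le] at h
  apply h2
  have := Order.add_one_le_of_lt h
  exact_mod_cast this

variable (k : Type u) [Field k] (r s : ℕ)

local notation "AR" => GrSyz.stdGr k (Fin r)
local notation "BS" => GrSyz.stdGr k (Fin s)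

/-- **Segre products of shifted polynomial rings** -/
theorem segre_poly_shifts (h2r : 2 ≤ r) (h2s : 2 ≤ s)
    {T : Type u} [CommRing T] [Algebra k T] (𝒯 : ℤ → Submodule k T) [GradedAlgebra 𝒯]
    (ψ : T →ₐ[k] MvPolynomial (Fin r) k ⊗[k] MvPolynomial (Fin s) k)
    (hT : GrSeg.IsSegreRing AR BS 𝒯 ψ)
    (mT : HomogeneousIdeal 𝒯) (hmT : mT.toIdeal = irr 𝒯) (a b : ℤ)
    {P : Type u} [AddCommGroup P] [Module T P] [Module k P] [IsScalarTower k T P]
    (𝒬 : ℤ → AddSubgroup P) [DirectSum.Decomposition 𝒬]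
    (φ : P →ₗ[k] MvPolynomial (Fin r) k ⊗[k] MvPolynomial (Fin s) k)
    (hP : GrSeg.IsSegreMod ψ (fun n : ℤ => AR (n + a)) (fun n : ℤ => BS (n + b)) 𝒬 φ) :
    ((∀ (q : Ideal T) [q.IsPrime], Subsingleton (LocalizedModule q.primeCompl P) ∨
        LocCoh.IsCohenMacaulayModule (Localization.AtPrime q) (LocalizedModule q.primeCompl P)) ↔
      (a - b < (s : ℤ) ∧ -(r : ℤ) < a - b)) ∧
    ((s : ℤ) ≤ a - b → LocCoh.idealDepth mT.toIdeal P = (s : ℕ∞)) ∧
    (a - b ≤ -(r : ℤ) → LocCoh.idealDepth mT.toIdeal P = (r : ℕ∞)) := by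
  classical
  have hposR := stdGr_hpos k r
  have h0R := stdGr_h0 k r
  have hposS := stdGr_hpos k s
  have h0S := stdGr_h0 k s
  have hψ := hT.1
  have hdegT : ∀ n : ℤ, (𝒯 n).map ψ.toLinearMap =
      Submodule.span k {x : MvPolynomial (Fin r) k ⊗[k] MvPolynomial (Fin s) k |
        ∃ a ∈ AR n, ∃ b ∈ BS n, x = a ⊗ₜ[k] b} := hT.2
  have hP' : GrSeg.IsSegreMod ψ (fun g : ℤ => addGr AR (g + a)) (fun g : ℤ => addGr BS (g + b))
      𝒬 φ := ⟨hP.injective, hP.image_piece, hP.map_smul⟩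
  have hNoethR : IsNoetherianRing (MvPolynomial (Fin r) k) :=
    Algebra.FiniteType.isNoetherianRing k _
  have hNoethS : IsNoetherianRing (MvPolynomial (Fin s) k) :=
    Algebra.FiniteType.isNoetherianRing k _
  have hFT : Algebra.FiniteType k T := finiteType_segre AR BS 𝒯 ψ hdegT hψ hposR h0R hposS h0S
  have hNoethT : IsNoetherianRing T := Algebra.FiniteType.isNoetherianRing k T
  have hfinP : Module.Finite T P := Groth.Agent.S19747.result k (MvPolynomial (Fin r) k) AR hposR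
    h0R (MvPolynomial (Fin s) k) BS hposS h0S T 𝒯 ψ hT (MvPolynomial (Fin r) k)
    (fun g : ℤ => addGr AR (g + a)) (MvPolynomial (Fin s) k) (fun g : ℤ => addGr BS (g + b))
    P 𝒬 φ hP'
  -- `P` is nonzero
  have hntP : Nontrivial P := by
    have ha0 : 0 ≤ max (-a) (-b) + a := by have := le_max_left (-a) (-b); omega
    have hb0 : 0 ≤ max (-a) (-b) + b := by have := le_max_right (-a) (-b); omega
    obtain ⟨ja, hja⟩ := Int.eq_ofNat_of_zero_le ha0
    obtain ⟨jb, hjb⟩ := Int.eq_ofNat_of_zero_le hb0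
    have hx : (X (⟨0, by omega⟩ : Fin r) ^ ja : MvPolynomial (Fin r) k) ∈
        (fun g : ℤ => addGr AR (g + a)) (max (-a) (-b)) := by
      show _ ∈ addGr AR (max (-a) (-b) + a)
      rw [hja]
      exact X_pow_mem_stdGr (k := k) (σ := Fin r) _ ja
    have hy : (X (⟨0, by omega⟩ : Fin s) ^ jb : MvPolynomial (Fin s) k) ∈
        (fun g : ℤ => addGr BS (g + b)) (max (-a) (-b)) := by
      show _ ∈ addGr BS (max (-a) (-b) + b)
      rw [hjb]
      exact X_pow_mem_stdGr (k := k) (σ := Fin s) _ jb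
    obtain ⟨p, -, hp⟩ := exists_preimage_tmul ψ _ _ 𝒬 φ hP' hx hy
    have hne : φ p ≠ 0 := by
      rw [hp]
      exact tmul_ne_zero (k := k) (pow_ne_zero _ (X_ne_zero _)) (pow_ne_zero _ (X_ne_zero _))
    exact ⟨⟨p, 0, fun h => hne (by rw [h, map_zero])⟩⟩
  have hgs : SetLike.GradedSMul 𝒯 𝒬 := gradedSMul AR BS 𝒯 ψ _ _ 𝒬 φ hP' hdegT
  -- resolutions
  obtain ⟨E₀⟩ := exists_starInjRes AR (addGr AR)
  obtain ⟨F₀⟩ := exists_starInjRes BS (addGr BS)
  obtain ⟨EP⟩ := exists_starInjRes 𝒯 𝒬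
  have hvM : ∀ i : ℕ, i ≠ r → ∀ d, (shiftRes AR (addGr AR) E₀ a).Hcomp (irrH AR) i d = ⊥ :=
    fun i hi d => poly_Hcomp_eq_bot_of_ne' k r E₀ (irrH AR) (irrH_toIdeal AR) i hi (d + a)
  have hvN : ∀ i : ℕ, i ≠ s → ∀ d, (shiftRes BS (addGr BS) F₀ b).Hcomp (irrH BS) i d = ⊥ :=
    fun i hi d => poly_Hcomp_eq_bot_of_ne' k s F₀ (irrH BS) (irrH_toIdeal BS) i hi (d + b)
  have htM : ∀ d, (shiftRes AR (addGr AR) E₀ a).Hcomp (irrH AR) r d = ⊥ ↔ -(r : ℤ) < d + a :=
    fun d => poly_Hcomp_eq_bot_iff' k r (by omega) E₀ (irrH AR) (irrH_toIdeal AR) (d + a)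
  have htN : ∀ d, (shiftRes BS (addGr BS) F₀ b).Hcomp (irrH BS) s d = ⊥ ↔ -(s : ℤ) < d + b :=
    fun d => poly_Hcomp_eq_bot_iff' k s (by omega) F₀ (irrH BS) (irrH_toIdeal BS) (d + b)
  have hpM : ∀ d : ℤ, (fun g : ℤ => addGr AR (g + a)) d = ⊥ ↔ d + a < 0 :=
    fun d => addGr_stdGr_eq_bot_iff k r (by omega) (d + a)
  have hpN : ∀ d : ℤ, (fun g : ℤ => addGr BS (g + b)) d = ⊥ ↔ d + b < 0 :=
    fun d => addGr_stdGr_eq_bot_iff k s (by omega) (d + b)
  have hvan := fun (q : ℕ) (hq : q + 1 < r + s) (d : ℤ) =>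
    Hcomp_segre_eq_bot_iff AR hposR h0R BS hposS h0S 𝒯 ψ hT (irrH AR) (irrH_toIdeal AR)
      (irrH BS) (irrH_toIdeal BS) mT hmT (fun g : ℤ => addGr AR (g + a))
      (shiftRes AR (addGr AR) E₀ a) (fun g : ℤ => addGr BS (g + b)) (shiftRes BS (addGr BS) F₀ b)
      𝒬 φ hP' EP r s h2r h2s hvM hvN q hq d
  have hdepth := fun (n : ℕ) => forall_Hcomp_eq_bot_iff 𝒯 𝒬 EP mT n
  refine ⟨?_, ?_, ?_⟩
  · rw [cm_segre_mod_iff AR hposR h0R BS hposS h0S 𝒯 ψ hT (irrH AR) (irrH_toIdeal AR)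
      (irrH BS) (irrH_toIdeal BS) (fun g : ℤ => addGr AR (g + a))
      (shiftRes AR (addGr AR) E₀ a) (fun g : ℤ => addGr BS (g + b)) (shiftRes BS (addGr BS) F₀ b)
      𝒬 φ hP' r s h2r h2s (poly_supportDim k r) (poly_supportDim k s)
      (fun q _ => poly_cm k r q) (fun q _ => poly_cm k s q)]
    constructor
    · rintro ⟨h1, h2⟩
      constructor
      · rcases h1 (-a) with h | h
        · rw [hpM] at h; omega
        · rw [htN] at h; omega
      · rcases h2 (-b) with h | h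
        · rw [htM] at h; omega
        · rw [hpN] at h; omega
    · rintro ⟨h1, h2⟩
      refine ⟨fun d => ?_, fun d => ?_⟩
      · by_cases hd : d + a < 0
        · exact Or.inl ((hpM d).2 hd)
        · exact Or.inr ((htN d).2 (by omega))
      · by_cases hd : d + b < 0
        · exact Or.inr ((hpN d).2 hd)
        · exact Or.inl ((htM d).2 (by omega))
  · intro hab
    apply enat_eq_of_le_of_not_succ_le
    · apply (hdepth s).1
      intro i hi d
      rw [hvan i (by omega) d]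
      refine ⟨fun his => absurd his (by omega), fun hir => ?_⟩
      by_cases hd : d + b < 0
      · exact Or.inr ((hpN d).2 hd)
      · exact Or.inl ((htM d).2 (by omega))
    · intro hle
      have h1 := (hdepth (s + 1)).2 hle s (by omega) (-a)
      rw [hvan s (by omega) (-a)] at h1
      rcases h1.1 rfl with h | h
      · rw [hpM] at h; omega
      · rw [htN] at h; omega
  · intro hab
    apply enat_eq_of_le_of_not_succ_le
    · apply (hdepth r).1
      intro i hi d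
      rw [hvan i (by omega) d]
      refine ⟨fun his => ?_, fun hir => absurd hir (by omega)⟩
      by_cases hd : d + a < 0
      · exact Or.inl ((hpM d).2 hd)
      · exact Or.inr ((htN d).2 (by omega))
    · intro hle
      have h1 := (hdepth (r + 1)).2 hle r (by omega) (-b)
      rw [hvan r (by omega) (-b)] at h1
      rcases h1.2 rfl with h | h
      · rw [htM] at h; omega
      · rw [hpN] at h; omega

end MainPoly

end Groth.Agent.Lib.helper26.Kun
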