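/-
Helper library (helper26): a finitely generated module over a localization `B = T⁻¹B₀` is the
localization of the `B₀`-span of any generating set.
-/
import Mathlib

set_option autoImplicit false
set_option linter.style.haveILetI false
set_option linter.unusedSectionVars false

namespace Groth.Agent.Lib.helper26.LocSpan

open TensorProduct

variable {B₀ B : Type*} [CommRing B₀] [CommRing B] [Algebra B₀ B] (T : Submonoid B₀)
  [IsLocalization T B] {N : Type*} [AddCommGroup N] [Module B N] [Module B₀ N]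
  [IsScalarTower B₀ B N]

/-- the `B₀`-span of a generating set of a module over `B = T⁻¹B₀` has localization the whole
module. -/
theorem isLocalizedModule_span_subtype (s : Set N) (hs : Submodule.span B s = ⊤) :
    IsLocalizedModule T (Submodule.span B₀ s).subtype := by
  have hsmul : ∀ (b : B₀) (n : N), b • n = algebraMap B₀ B b • n :=
    fun b n => (algebraMap_smul B b n).symm
  refine ⟨?_, ?_, ?_⟩
  · intro t
    have hu : IsUnit (algebraMap B₀ B t) := IsLocalization.map_units _ t
    rw [Module.End.isUnit_iff]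
    constructor
    · intro n n' hnn
      have h1 : (t : B₀) • n = (t : B₀) • n' := hnn
      rw [hsmul, hsmul] at h1
      exact (IsUnit.smul_left_cancel hu).mp h1
    · intro n
      obtain ⟨v, hv⟩ := hu
      refine ⟨(↑v⁻¹ : B) • n, ?_⟩
      show (t : B₀) • ((↑v⁻¹ : B) • n) = n
      rw [hsmul, ← hv, smul_smul, Units.mul_inv, one_smul]
  · intro y
    have hy : y ∈ Submodule.span B s := hs ▸ Submodule.mem_top
    induction hy using Submodule.span_induction with
    | mem x hx => exact ⟨(⟨x, Submodule.subset_span hx⟩, 1), one_smul _ _⟩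
    | zero => exact ⟨(0, 1), by simp⟩
    | add x y _ _ hx hy =>
      obtain ⟨⟨n₁, t₁⟩, h₁⟩ := hx
      obtain ⟨⟨n₂, t₂⟩, h₂⟩ := hy
      have h₁' : (t₁ : B₀) • x = (n₁ : N) := h₁
      have h₂' : (t₂ : B₀) • y = (n₂ : N) := h₂
      refine ⟨((t₂ : B₀) • n₁ + (t₁ : B₀) • n₂, t₁ * t₂), ?_⟩
      show ((t₁ * t₂ : T) : B₀) • (x + y) =
        (((t₂ : B₀) • n₁ + (t₁ : B₀) • n₂ : Submodule.span B₀ s) : N)
      rw [Submodule.coe_add, Submodule.coe_smul, Submodule.coe_smul, ← h₁', ← h₂',
        Submonoid.coe_mul, smul_add, mul_smul, mul_smul, smul_comm (t₁ : B₀) (t₂ : B₀) x]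
    | smul l x _ hx =>
      obtain ⟨⟨n₁, t₁⟩, h₁⟩ := hx
      have h₁' : (t₁ : B₀) • x = (n₁ : N) := h₁
      obtain ⟨b, t₀, rfl⟩ := IsLocalization.exists_mk'_eq T l
      refine ⟨(b • n₁, t₀ * t₁), ?_⟩
      show ((t₀ * t₁ : T) : B₀) • (IsLocalization.mk' B b t₀ • x) =
        ((b • n₁ : Submodule.span B₀ s) : N)
      rw [Submodule.coe_smul, ← h₁', Submonoid.coe_mul, mul_smul, hsmul (t₀ : B₀), hsmul (t₁ : B₀),
        hsmul b, smul_comm (algebraMap B₀ B (t₁ : B₀)), smul_smul,
        IsLocalization.mk'_spec', hsmul (t₁ : B₀) x, smul_comm]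
  · intro x₁ x₂ hx
    exact ⟨1, by rw [Subtype.ext hx]⟩

end Groth.Agent.Lib.helper26.LocSpan
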