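import Mathlib
import Groth.Prelude.Def_Hensel

/-!
# The henselization of `S_q` as a henselization of a localization of `R^h ⊗ S` (helper26)

Abstract form: `T` is a ring generated by `Rh` and `S` with a map `Φ : T → Sh`; then `Sh` is a
henselization of `T` localized at the preimage of the maximal ideal of `Sh`.
-/

universe u

namespace Groth.Agent.Lib.helper26.LocalHensTensor

open IsLocalRing

theorem exists_ringEquiv
    (R : Type u) [CommRing R] (p : Ideal R) [p.IsPrime]
    (P : Type u) [CommRing P] [IsLocalRing P] [Algebra R P] [IsLocalization.AtPrime P p]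
    (Rh : Type u) [CommRing Rh] [IsLocalRing Rh] [Algebra P Rh] [IsLocalHom (algebraMap P Rh)]
    [Hensel.IsHenselization P Rh]
    (S : Type u) [CommRing S] (q : Ideal S) [q.IsPrime]
    (L : Type u) [CommRing L] [IsLocalRing L] [Algebra S L] [IsLocalization.AtPrime L q]
    (Sh : Type u) [CommRing Sh] [IsLocalRing Sh] [Algebra L Sh] [IsLocalHom (algebraMap L Sh)]
    [Hensel.IsHenselization L Sh]
    (α : R →+* S) (hα : p ≤ q.comap α)
    (T : Type u) [CommRing T] {F : Type*} [FunLike F T Sh] [RingHomClass F T Sh] (Φ : F)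
    (i₁ : Rh →+* T) (i₂ : S →+* T)
    (h1 : ∀ s, Φ (i₂ s) = algebraMap L Sh (algebraMap S L s))
    (h3 : ∀ r, i₁ (algebraMap P Rh (algebraMap R P r)) = i₂ (α r))
    (h5 : ∀ (D : Type u) [CommRing D] (g₁ g₂ : T →+* D), g₁.comp i₁ = g₂.comp i₁ →
      g₁.comp i₂ = g₂.comp i₂ → g₁ = g₂)
    (TQ : Type u) [CommRing TQ] [IsLocalRing TQ] [Algebra T TQ]
    [IsLocalization.AtPrime TQ (Ideal.comap Φ (maximalIdeal Sh))]
    (E : Type u) [CommRing E] [IsLocalRing E] [Algebra TQ E] [IsLocalHom (algebraMap TQ E)]
    [hE : Hensel.IsHenselization TQ E] :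
    ∃ e : E ≃+* Sh, ∀ d : T, e (algebraMap TQ E (algebraMap T TQ d)) = Φ d := by
  set Q := Ideal.comap Φ (maximalIdeal Sh) with hQ
  let Φr : T →+* Sh := RingHomClass.toRingHom Φ
  have hΦr : ∀ d, Φr d = Φ d := fun d => rfl
  -- the map `Ψ : TQ → Sh`
  have hunit : ∀ y : Q.primeCompl, IsUnit (Φr y) := by
    intro y
    have hy : (y : T) ∉ Q := y.2
    have hy2 : ¬ (Φ (y : T) ∈ maximalIdeal Sh) := hy
    rw [mem_maximalIdeal, mem_nonunits_iff, not_not] at hy2
    exact hy2
  let Ψ : TQ →+* Sh := IsLocalization.lift hunit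
  have hΨ : ∀ d, Ψ (algebraMap T TQ d) = Φ d := fun d => IsLocalization.lift_eq hunit d
  have hSh : HenselianLocalRing Sh := Hensel.IsHenselization.henselian (R := L)
  have hRhH : Hensel.IsHenselization P Rh := inferInstance
  have hShH : Hensel.IsHenselization L Sh := inferInstance
  -- `Ψ` is local
  have hΨloc : IsLocalHom Ψ := by
    apply ((IsLocalRing.local_hom_TFAE Ψ).out 0 2).mpr
    rw [← IsLocalization.AtPrime.map_eq_maximalIdeal Q TQ, Ideal.map_map,
      Ideal.map_le_iff_le_comap]
    intro d hd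
    rw [Ideal.mem_comap, RingHom.comp_apply, hΨ]
    exact hd
  -- the key universal property
  have key : ∀ (D : Type u) [CommRing D] [HenselianLocalRing D] (f : TQ →+* D), IsLocalHom f →
      ∃! g : Sh →+* D, g.comp Ψ = f := by
    intro D _ _ f hf
    set fT : T →+* D := f.comp (algebraMap T TQ) with hfT
    set fS : S →+* D := fT.comp i₂ with hfS
    -- elements of `Q` go to the maximal ideal of `D`
    have hfQ : ∀ d ∈ Q, fT d ∈ maximalIdeal D := by
      intro d hd
      have h2 : algebraMap T TQ d ∈ maximalIdeal TQ :=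
        (IsLocalization.AtPrime.to_map_mem_maximal_iff TQ Q d).mpr hd
      have h3 := ((IsLocalRing.local_hom_TFAE f).out 0 2).mp hf
      exact h3 (Ideal.mem_map_of_mem f h2)
    have hfnQ : ∀ d ∉ Q, IsUnit (fT d) := by
      intro d hd
      have h2 : IsUnit (algebraMap T TQ d) :=
        IsLocalization.map_units TQ (⟨d, hd⟩ : Q.primeCompl)
      exact h2.map f
    -- `i₂ s ∈ Q ↔ s ∈ q`
    have hi₂Q : ∀ s, i₂ s ∈ Q ↔ s ∈ q := by
      intro s
      rw [hQ, Ideal.mem_comap, h1]
      have hloc : IsLocalHom (algebraMap L Sh) := inferInstance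
      constructor
      · intro h
        by_contra hs
        have h4 : IsUnit (algebraMap S L s) := IsLocalization.map_units L (⟨s, hs⟩ : q.primeCompl)
        exact (mem_maximalIdeal _).mp h (h4.map _)
      · intro hs
        have h4 : algebraMap S L s ∈ maximalIdeal L :=
          (IsLocalization.AtPrime.to_map_mem_maximal_iff L q s).mpr hs
        have h6 : (maximalIdeal L).map (algebraMap L Sh) ≤ maximalIdeal Sh :=
          ((IsLocalRing.local_hom_TFAE (algebraMap L Sh)).out 0 2).mp hloc
        exact h6 (Ideal.mem_map_of_mem _ h4)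
    have hfSunit : ∀ y : q.primeCompl, IsUnit (fS y) := by
      intro y
      apply hfnQ
      rw [hi₂Q]
      exact y.2
    let fL : L →+* D := IsLocalization.lift hfSunit
    have hfL : ∀ s, fL (algebraMap S L s) = fS s := fun s => IsLocalization.lift_eq hfSunit s
    have hfLloc : IsLocalHom fL := by
      apply ((IsLocalRing.local_hom_TFAE fL).out 0 2).mpr
      rw [← IsLocalization.AtPrime.map_eq_maximalIdeal q L, Ideal.map_map,
        Ideal.map_le_iff_le_comap]
      intro s hs
      rw [Ideal.mem_comap, RingHom.comp_apply, hfL]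
      exact hfQ _ ((hi₂Q s).mpr hs)
    obtain ⟨g, hg, hguniq⟩ := hShH.universal D fL hfLloc
    have hg' : ∀ x, g (algebraMap L Sh x) = fL x := fun x => RingHom.congr_fun hg x
    -- the two maps `Rh → D`
    have hRh : (g.comp Φr).comp i₁ = fT.comp i₁ := by
      set v : P →+* D := (fT.comp i₁).comp (algebraMap P Rh) with hv
      have hvloc : IsLocalHom v := by
        apply ((IsLocalRing.local_hom_TFAE v).out 0 2).mpr
        rw [← IsLocalization.AtPrime.map_eq_maximalIdeal p P, Ideal.map_map,
          Ideal.map_le_iff_le_comap]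
        intro r hr
        rw [Ideal.mem_comap]
        show fT (i₁ (algebraMap P Rh (algebraMap R P r))) ∈ _
        rw [h3]
        exact hfQ _ ((hi₂Q _).mpr (hα hr))
      obtain ⟨w, -, hwuniq⟩ := hRhH.universal D v hvloc
      have e1 : (g.comp Φr).comp i₁ = w := by
        apply hwuniq
        apply IsLocalization.ringHom_ext p.primeCompl
        ext r
        show g (Φ (i₁ (algebraMap P Rh (algebraMap R P r)))) =
          fT (i₁ (algebraMap P Rh (algebraMap R P r)))
        rw [h3, h1, hg', hfL]
        rfl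
      have e2 : fT.comp i₁ = w := by
        apply hwuniq
        rfl
      rw [e1, e2]
    have hcomp : g.comp Φr = fT := by
      apply h5 D _ _ hRh
      ext s
      show g (Φ (i₂ s)) = fT (i₂ s)
      rw [h1, hg', hfL]
      rfl
    refine ⟨g, ?_, ?_⟩
    · apply IsLocalization.ringHom_ext Q.primeCompl
      ext d
      show g (Ψ (algebraMap T TQ d)) = f (algebraMap T TQ d)
      rw [hΨ]
      exact RingHom.congr_fun hcomp d
    · intro g' hg''
      apply hguniq
      apply IsLocalization.ringHom_ext q.primeCompl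
      ext s
      show g' (algebraMap L Sh (algebraMap S L s)) = fL (algebraMap S L s)
      rw [hfL, ← h1, ← hΨ]
      exact RingHom.congr_fun hg'' _
  -- the two comparison maps
  have hEH : HenselianLocalRing E := Hensel.IsHenselization.henselian (R := TQ)
  obtain ⟨a, ha, -⟩ := hE.universal Sh Ψ hΨloc
  obtain ⟨b, hb, -⟩ := key E (algebraMap TQ E) inferInstance
  obtain ⟨u, -, hu⟩ := key Sh Ψ hΨloc
  obtain ⟨u', -, hu'⟩ := hE.universal E (algebraMap TQ E) inferInstance
  have hab : a.comp b = RingHom.id Sh := by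
    rw [hu (a.comp b) (by show (a.comp b).comp Ψ = Ψ; rw [RingHom.comp_assoc, hb, ha]),
      hu (RingHom.id Sh) (by show (RingHom.id Sh).comp Ψ = Ψ; simp)]
  have hba : b.comp a = RingHom.id E := by
    rw [hu' (b.comp a) (by show (b.comp a).comp _ = _; rw [RingHom.comp_assoc, ha, hb]),
      hu' (RingHom.id E) (by show (RingHom.id E).comp _ = _; simp)]
  refine ⟨RingEquiv.ofRingHom a b hab hba, fun d => ?_⟩
  show a (algebraMap TQ E (algebraMap T TQ d)) = Φ d
  rw [← hΨ]
  exact RingHom.congr_fun ha _

end Groth.Agent.Lib.helper26.LocalHensTensor
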