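import Mathlib
import Groth.Agent.Lib.Helper26.LogConn1

/-!
# Generators of the pieces `E_I` of a logarithmic `λ`-connection (helper26)
-/

set_option autoImplicit false
set_option linter.unusedSectionVars false
universe v u

namespace Groth.Agent.Lib.helper26.LogConnL

open TensorProduct LogConn

variable {A : Type v} {B L E : Type u} [CommRing A] [CommRing B]
    [Algebra A B] [AddCommGroup L] [Module B L] [Module A L] [IsScalarTower A B L]
    [AddCommGroup E] [Module B E] [Module A E] [IsScalarTower A B E]
    (lam : B) {n : ℕ} (t : Fin n → B) (bΩ : Module.Basis (Fin n) B (KaehlerDifferential A B))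
    (hbΩ : ∀ i, bΩ i = KaehlerDifferential.D A B (t i))
    (ω : Module.Basis (Fin n) B L) (ι : KaehlerDifferential A B →ₗ[B] L)
    (hι : ∀ i, ι (KaehlerDifferential.D A B (t i)) = t i • ω i)
    (nabla : E →ₗ[A] E ⊗[B] L)
    (hc : Conn.IsLamConn (ι.compDer (KaehlerDifferential.D A B)) lam nabla)
    {m : ℕ} (e : Fin m → E)

/-- the finite generating set of `E_I` -/
def genSet (I : Finset (Fin n)) : Set E :=
  ⋃ J ∈ I.powerset, Set.range (fun k : Fin m => (∏ i ∈ I \ J, t i) • compProd nabla ω J (e k))

theorem mem_genSet {I J : Finset (Fin n)} (hJ : J ⊆ I) (k : Fin m) :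
    (∏ i ∈ I \ J, t i) • compProd nabla ω J (e k) ∈ genSet t ω nabla e I := by
  unfold genSet
  simp only [Set.mem_iUnion, Set.mem_range, Finset.mem_powerset]
  exact ⟨J, hJ, k, rfl⟩

theorem genSet_subset_piece (I : Finset (Fin n)) :
    genSet t ω nabla e I ⊆ (piece nabla ω t I : Set E) := by
  intro x hx
  unfold genSet at hx
  simp only [Set.mem_iUnion, Set.mem_range, Finset.mem_powerset] at hx
  obtain ⟨J, hJ, k, rfl⟩ := hx
  exact gen_mem_piece t ω nabla hJ (e k)

include hc hι hbΩ in
theorem span_genSet_le (I : Finset (Fin n)) :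
    (Submodule.span B (genSet t ω nabla e I)).restrictScalars A ≤ piece nabla ω t I := by
  let P : Submodule B E :=
    { carrier := (piece nabla ω t I : Set E)
      add_mem' := fun ha hb => (piece nabla ω t I).add_mem ha hb
      zero_mem' := (piece nabla ω t I).zero_mem
      smul_mem' := fun b x hx => smul_mem_piece lam t bΩ hbΩ ω ι hι nabla hc I b x hx }
  have h : Submodule.span B (genSet t ω nabla e I) ≤ P :=
    Submodule.span_le.2 (genSet_subset_piece t ω nabla e I)
  intro x hx
  exact h hx

/-- multiplying the generators of `E_J` by `t_{I∖J}` gives elements of the span of the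
generators of `E_I` -/
theorem smul_span_genSet_le {I J : Finset (Fin n)} (hJ : J ⊆ I) (x : E)
    (hx : x ∈ Submodule.span B (genSet t ω nabla e J)) :
    (∏ i ∈ I \ J, t i) • x ∈ Submodule.span B (genSet t ω nabla e I) := by
  refine Submodule.span_induction ?_ ?_ ?_ ?_ hx
  · intro y hy
    unfold genSet at hy
    simp only [Set.mem_iUnion, Set.mem_range, Finset.mem_powerset] at hy
    obtain ⟨J', hJ', k, rfl⟩ := hy
    rw [smul_smul, prod_sdiff_mul t hJ hJ']
    exact Submodule.subset_span (mem_genSet t ω nabla e (hJ'.trans hJ) k)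
  · rw [smul_zero]
    exact Submodule.zero_mem _
  · intro y z _ _ hy hz
    rw [smul_add]
    exact Submodule.add_mem _ hy hz
  · intro b y _ hy
    rw [smul_comm]
    exact Submodule.smul_mem _ _ hy

include hc hι hbΩ in
theorem comp_span_genSet (j : Fin n) (K : Finset (Fin n)) (hj : ∀ k ∈ K, j < k) (y : E)
    (hy : y ∈ Submodule.span B (genSet t ω nabla e K)) :
    comp nabla ω j y ∈ Submodule.span B (genSet t ω nabla e (insert j K)) ∧
      t j • y ∈ Submodule.span B (genSet t ω nabla e (insert j K)) := by
  classical
  have hjK : j ∉ K := fun h => lt_irrefl j (hj j h)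
  refine Submodule.span_induction ?_ ?_ ?_ ?_ hy
  · intro z hz
    unfold genSet at hz
    simp only [Set.mem_iUnion, Set.mem_range, Finset.mem_powerset] at hz
    obtain ⟨J', hJ', k, rfl⟩ := hz
    constructor
    · rw [comp_prod_smul lam t ω ι hι nabla hc j (K \ J') (fun h => hjK (Finset.mem_sdiff.1 h).1)]
      have h1 : comp nabla ω j (compProd nabla ω J' (e k)) =
          compProd nabla ω (insert j J') (e k) := by
        rw [compProd_insert ω nabla j J' (fun k hk => hj k (hJ' hk))]
        rfl
      have h2 : K \ J' = insert j K \ insert j J' := by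
        ext x
        simp only [Finset.mem_sdiff, Finset.mem_insert]
        constructor
        · rintro ⟨hxK, hxJ⟩
          refine ⟨Or.inr hxK, ?_⟩
          rintro (hxj | h)
          · exact hjK (hxj ▸ hxK)
          · exact hxJ h
        · rintro ⟨hxj | hxK, hx2⟩
          · exact absurd (Or.inl hxj) hx2
          · exact ⟨hxK, fun h => hx2 (Or.inr h)⟩
      rw [h1, h2]
      exact Submodule.subset_span
        (mem_genSet t ω nabla e (Finset.insert_subset_insert j hJ') k)
    · have h3 : insert j K \ J' = insert j (K \ J') := by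
        have hjJ' : j ∉ J' := fun h => hjK (hJ' h)
        rw [Finset.insert_sdiff_of_notMem _ hjJ']
      have h4 : j ∉ K \ J' := fun h => hjK (Finset.mem_sdiff.1 h).1
      rw [smul_smul, ← Finset.prod_insert h4, ← h3]
      exact Submodule.subset_span
        (mem_genSet t ω nabla e (hJ'.trans (Finset.subset_insert j K)) k)
  · rw [map_zero, smul_zero]
    exact ⟨Submodule.zero_mem _, Submodule.zero_mem _⟩
  · intro y z _ _ hy hz
    rw [map_add, smul_add]
    exact ⟨Submodule.add_mem _ hy.1 hz.1, Submodule.add_mem _ hy.2 hz.2⟩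
  · intro b y _ hy
    constructor
    · rw [comp_smul lam ω ι nabla hc, del_eq t bΩ hbΩ ω ι hι j b]
      refine Submodule.add_mem _ (Submodule.smul_mem _ _ hy.1) ?_
      have : (lam * (t j * bΩ.repr (KaehlerDifferential.D A B b) j)) • y =
          (lam * bΩ.repr (KaehlerDifferential.D A B b) j) • (t j • y) := by
        rw [smul_smul]
        congr 1
        ring
      rw [this]
      exact Submodule.smul_mem _ _ hy.2
    · rw [smul_comm]
      exact Submodule.smul_mem _ _ hy.2

include hc hι hbΩ in
theorem compProd_mem_span (he : Submodule.span B (Set.range e) = ⊤) (J : Finset (Fin n)) :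
    ∀ x : E, compProd nabla ω J x ∈ Submodule.span B (genSet t ω nabla e J) := by
  induction J using Finset.induction_on_min with
  | empty =>
    intro x
    rw [compProd_empty, LinearMap.id_apply]
    have h1 : genSet t ω nabla e (∅ : Finset (Fin n)) = Set.range e := by
      unfold genSet
      ext y
      simp [compProd_empty]
    rw [h1, he]
    exact Submodule.mem_top
  | insert j K hj ih =>
    intro x
    rw [compProd_insert ω nabla j K hj]
    exact (comp_span_genSet lam t bΩ hbΩ ω ι hι nabla hc e j K hj _ (ih x)).1

include hc hι hbΩ in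
theorem span_genSet_eq (he : Submodule.span B (Set.range e) = ⊤) (I : Finset (Fin n)) :
    (Submodule.span B (genSet t ω nabla e I)).restrictScalars A = piece nabla ω t I := by
  apply le_antisymm (span_genSet_le lam t bΩ hbΩ ω ι hι nabla hc e I)
  rw [piece_le_iff]
  intro J hJ x
  unfold gen
  exact smul_span_genSet_le t ω nabla e hJ _
    (compProd_mem_span lam t bΩ hbΩ ω ι hι nabla hc e he J x)

end Groth.Agent.Lib.helper26.LogConnL
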