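/-
Helper library (helper26): the Raynaud–Gruson injectivity criterion for flatness
(a finite module mapping to a flat module, injectively modulo the maximal ideal, is flat).
Part 1: general lemmas on universally injective maps and reductions modulo an ideal.
-/
import Mathlib
import Groth.Prelude.Def_FlatCA

set_option autoImplicit false
set_option linter.style.haveILetI false
set_option linter.unusedSectionVars false

namespace Groth.Agent.Lib.helper26.RGInj

open TensorProduct
open scoped Pointwise

universe u

section UnivInj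

variable {R : Type u} [CommRing R]

/-- the source of a universally injective map into a flat module is flat. -/
theorem flat_of_univInj {N E : Type u} [AddCommGroup N] [Module R N] [AddCommGroup E] [Module R E]
    [Module.Flat R E] (u : N →ₗ[R] E)
    (hu : ∀ (Q : Type u) [AddCommGroup Q] [Module R Q], Function.Injective (u.lTensor Q)) :
    Module.Flat R N := by
  rw [Module.Flat.iff_lTensor_preserves_injective_linearMap]
  intro X Y _ _ _ _ f hf
  have h1 : Function.Injective (u.rTensor X) := (LinearMap.lTensor_inj_iff_rTensor_inj X u).mp (hu X)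
  have h2 : Function.Injective (f.lTensor E) :=
    Module.Flat.lTensor_preserves_injective_linearMap f hf
  have h3 : (u.rTensor Y).comp (f.lTensor N) = (f.lTensor E).comp (u.rTensor X) := by
    rw [LinearMap.rTensor_comp_lTensor, LinearMap.lTensor_comp_rTensor]
  have h4 : Function.Injective ((u.rTensor Y).comp (f.lTensor N)) := by
    rw [h3, LinearMap.coe_comp]
    exact h2.comp h1
  rw [LinearMap.coe_comp] at h4
  exact Function.Injective.of_comp h4

/-- universal injectivity along an exact sequence (a five lemma). -/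
theorem univInj_of_exact {P M M' E E' : Type u} [AddCommGroup P] [Module R P] [AddCommGroup M]
    [Module R M] [AddCommGroup M'] [Module R M'] [AddCommGroup E] [Module R E] [AddCommGroup E']
    [Module R E'] (α : P →ₗ[R] M) (π : M →ₗ[R] M') (hex : Function.Exact α π)
    (hπ : Function.Surjective π) (u : M →ₗ[R] E) (u' : M' →ₗ[R] E') (πE : E →ₗ[R] E')
    (hcomm : u' ∘ₗ π = πE ∘ₗ u)
    (hv : ∀ (Q : Type u) [AddCommGroup Q] [Module R Q],
      Function.Injective ((u ∘ₗ α).lTensor Q))
    (hu' : ∀ (Q : Type u) [AddCommGroup Q] [Module R Q], Function.Injective (u'.lTensor Q))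
    (Q : Type u) [AddCommGroup Q] [Module R Q] : Function.Injective (u.lTensor Q) := by
  rw [injective_iff_map_eq_zero]
  intro z hz
  have h1 : (u'.lTensor Q) ((π.lTensor Q) z) = 0 := by
    rw [← LinearMap.comp_apply, ← LinearMap.lTensor_comp, hcomm, LinearMap.lTensor_comp,
      LinearMap.comp_apply, hz, map_zero]
  have h2 : (π.lTensor Q) z = 0 := (hu' Q) (h1.trans (map_zero _).symm)
  obtain ⟨w, rfl⟩ := (lTensor_exact Q hex hπ z).mp h2
  have h3 : ((u ∘ₗ α).lTensor Q) w = 0 := by
    rw [LinearMap.lTensor_comp, LinearMap.comp_apply]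
    exact hz
  have h4 : w = 0 := (hv Q) (h3.trans (map_zero _).symm)
  rw [h4, map_zero]

end UnivInj

section Quot

variable {R : Type u} [CommRing R] (I : Ideal R)

/-- an element whose class in a quotient lies in `I • ⊤` differs from an element of `I • ⊤` by an
element of the submodule. -/
theorem exists_sub_mem_of_mkQ_mem {E : Type u} [AddCommGroup E] [Module R E] (V : Submodule R E)
    (e : E) (h : V.mkQ e ∈ I • (⊤ : Submodule R (E ⧸ V))) :
    ∃ w ∈ V, e - w ∈ I • (⊤ : Submodule R E) := by
  have hmap : I • (⊤ : Submodule R (E ⧸ V)) = (I • (⊤ : Submodule R E)).map V.mkQ := by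
    rw [Submodule.map_smul'', Submodule.map_top, Submodule.range_mkQ]
  rw [hmap] at h
  obtain ⟨e', he', hee'⟩ := h
  refine ⟨e - e', ?_, ?_⟩
  · rw [← Submodule.ker_mkQ V, LinearMap.mem_ker, map_sub, hee', sub_self]
  · rwa [sub_sub_cancel]

/-- linear maps preserve `I • ⊤`. -/
theorem map_mem_smul_top {M M' : Type u} [AddCommGroup M] [Module R M] [AddCommGroup M']
    [Module R M'] (f : M →ₗ[R] M') {x : M} (hx : x ∈ I • (⊤ : Submodule R M)) :
    f x ∈ I • (⊤ : Submodule R M') :=
  Submodule.smul_top_le_comap_smul_top I f hx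

end Quot

section Stable

variable {R C : Type u} [CommRing R] [CommRing C] [Algebra R C] (I : Ideal R)
  {X : Type u} [AddCommGroup X] [Module C X] [Module R X] [IsScalarTower R C X]

/-- `I • ⊤` is stable under the action of an algebra. -/
theorem smul_mem_smul_top (c : C) {x : X} (hx : x ∈ I • (⊤ : Submodule R X)) :
    c • x ∈ I • (⊤ : Submodule R X) := by
  refine Submodule.smul_induction_on hx ?_ ?_
  · intro a ha y _
    rw [smul_comm]
    exact Submodule.smul_mem_smul ha Submodule.mem_top
  · intro a b ha hb
    rw [smul_add]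
    exact Submodule.add_mem _ ha hb

end Stable

section Transfer

variable {R B C : Type u} [CommRing R] [CommRing B] [CommRing C] [Algebra R B] [Algebra B C]
  [Algebra R C] [IsScalarTower R B C] [Algebra.IsIntegral B C] (I : Ideal R)
  (qB : Ideal B) [qB.IsPrime] (qC : Ideal C) [qC.IsPrime]
  {X : Type u} [AddCommGroup X] [Module C X] [Module B X] [IsScalarTower B C X] [Module R X]
  [IsScalarTower R C X]

/-- **transfer of torsion**: if `qC` is the only prime of the integral `B`-algebra `C` over `qB`,
an element of `C` outside `qC` sending `x` into `I • ⊤` can be replaced by an element of `B`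
outside `qB`. -/
theorem exists_notMem_smul_mem
    (huniq : ∀ (Q : Ideal C) [Q.IsPrime], Q.LiesOver qB → Q = qC)
    (x : X) (c : C) (hc : c ∉ qC) (hcx : c • x ∈ I • (⊤ : Submodule R X)) :
    ∃ s : B, s ∉ qB ∧ s • x ∈ I • (⊤ : Submodule R X) := by
  by_contra hcon
  push Not at hcon
  let 𝔞 : Ideal C :=
    { carrier := {c | c • x ∈ I • (⊤ : Submodule R X)}
      add_mem' := fun {a b} ha hb => by
        show (a + b) • x ∈ I • (⊤ : Submodule R X)
        rw [add_smul]
        exact Submodule.add_mem _ ha hb
      zero_mem' := by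
        show (0 : C) • x ∈ I • (⊤ : Submodule R X)
        rw [zero_smul]
        exact Submodule.zero_mem _
      smul_mem' := fun a b hb => by
        show (a • b) • x ∈ I • (⊤ : Submodule R X)
        rw [smul_eq_mul, mul_smul]
        exact smul_mem_smul_top I a hb }
  have hle : 𝔞.comap (algebraMap B C) ≤ qB := by
    intro s hs
    by_contra hsq
    apply hcon s hsq
    have : algebraMap B C s • x ∈ I • (⊤ : Submodule R X) := hs
    rwa [algebraMap_smul] at this
  obtain ⟨Q', hQ'a, hQ'p, hQ'q⟩ := Ideal.exists_ideal_over_prime_of_isIntegral qB 𝔞 hle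
  haveI := hQ'p
  have hover : Q'.LiesOver qB := ⟨hQ'q.symm⟩
  have := huniq Q' hover
  subst this
  exact hc (hQ'a hcx)

end Transfer

section Loc

variable {R S : Type u} [CommRing R] [CommRing S] [Algebra R S] (I : Ideal R) (T : Submonoid S)
  {N : Type u} [AddCommGroup N] [Module S N] [Module R N] [IsScalarTower R S N]

/-- elements of `I • ⊤` in a localized module have numerators in `I • ⊤`. -/
theorem exists_mk_eq_of_mem_smul_top (y : LocalizedModule T N)
    (hy : y ∈ I • (⊤ : Submodule R (LocalizedModule T N))) :
    ∃ n' ∈ I • (⊤ : Submodule R N), ∃ t : T, y = LocalizedModule.mk n' t := by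
  refine Submodule.smul_induction_on hy ?_ ?_
  · intro a ha z _
    induction z using LocalizedModule.induction_on with
    | h n t =>
      refine ⟨a • n, Submodule.smul_mem_smul ha Submodule.mem_top, t, ?_⟩
      rw [← algebraMap_smul S a (LocalizedModule.mk n t), LocalizedModule.smul'_mk, algebraMap_smul]
  · rintro a b ⟨n₁, hn₁, t₁, rfl⟩ ⟨n₂, hn₂, t₂, rfl⟩
    refine ⟨(t₂ : S) • n₁ + (t₁ : S) • n₂, ?_, t₁ * t₂, ?_⟩
    · exact Submodule.add_mem _ (smul_mem_smul_top I _ hn₁) (smul_mem_smul_top I _ hn₂)
    · rw [LocalizedModule.mk_add_mk]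
      rfl

/-- if the image of `n` in a localization lies in `I • ⊤`, then a multiple of `n` lies in
`I • ⊤`. -/
theorem exists_smul_mem_of_mk_mem (n : N)
    (h : LocalizedModule.mk n (1 : T) ∈ I • (⊤ : Submodule R (LocalizedModule T N))) :
    ∃ t : T, (t : S) • n ∈ I • (⊤ : Submodule R N) := by
  obtain ⟨n', hn', t, heq⟩ := exists_mk_eq_of_mem_smul_top I T _ h
  rw [LocalizedModule.mk_eq] at heq
  obtain ⟨v, hv⟩ := heq
  refine ⟨v * t, ?_⟩
  have h1 : ((v * t : T) : S) • n = (v : S) • (1 : T) • n' := by
    have := hv
    simp only [Submonoid.smul_def, one_smul] at this ⊢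
    rw [Submonoid.coe_mul, mul_smul]
    exact this
  rw [h1]
  simp only [one_smul]
  exact smul_mem_smul_top I _ hn'

end Loc

end Groth.Agent.Lib.helper26.RGInj
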