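/-
Helper library (helper26): content ideals and the Raynaud–Gruson injectivity criterion.
Part 1: an element of the kernel of a map to a flat module, injective modulo the maximal ideal,
which has a content ideal, vanishes.
-/
import Mathlib
import Groth.Agent.Lib.Helper26.RGInj1

set_option autoImplicit false
set_option linter.style.haveILetI false
set_option linter.unusedSectionVars false

namespace Groth.Agent.Lib.helper26.RGContent

open TensorProduct IsLocalRing
open scoped Pointwise

universe u

/-- `x` has a content ideal: a smallest ideal `I` of `A` with `x ∈ I N`. -/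
def HasContent (A : Type u) [CommRing A] {N : Type u} [AddCommGroup N] [Module A N] (x : N) :
    Prop :=
  ∃ I : Ideal A, x ∈ I • (⊤ : Submodule A N) ∧
    ∀ J : Ideal A, x ∈ J • (⊤ : Submodule A N) → I ≤ J

section Kill

variable {A : Type u} [CommRing A] [IsLocalRing A]
  {N M : Type u} [AddCommGroup N] [Module A N] [AddCommGroup M] [Module A M] [Module.Flat A M]
  (u : N →ₗ[A] M)
  (hu : ∀ n : N, u n ∈ maximalIdeal A • (⊤ : Submodule A M) →
    n ∈ maximalIdeal A • (⊤ : Submodule A N))

include hu in
/-- elimination of generators: an element `∑ aᵢ nᵢ` of the kernel of `u` lies in `𝔪 (aᵢ) N`. -/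
theorem elim_aux {ι : Type u} [DecidableEq ι] : ∀ (k : ℕ) (s : Finset ι), s.card = k →
    ∀ (a : ι → A) (n : ι → N), u (∑ i ∈ s, a i • n i) = 0 →
    ∑ i ∈ s, a i • n i ∈
      (maximalIdeal A * Ideal.span (a '' (s : Set ι))) • (⊤ : Submodule A N) := by
  intro k
  induction k with
  | zero =>
    intro s hs a n _
    rw [Finset.card_eq_zero] at hs
    subst hs
    simp
  | succ k ih =>
    intro s hs a n h0
    have h1 : ∑ i : s, a i • u (n i) = 0 := by
      rw [Finset.sum_coe_sort s (fun i => a i • u (n i))]
      rw [map_sum] at h0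
      simpa using h0
    obtain ⟨k', a', y, hy, hrel⟩ := Module.Flat.isTrivialRelation_of_sum_smul_eq_zero
      (f := fun i : s => a i) (x := fun i : s => u (n i)) h1
    by_cases hall : ∀ (i : s) (j : Fin k'), a' i j ∈ maximalIdeal A
    · have hn : ∀ i ∈ s, n i ∈ maximalIdeal A • (⊤ : Submodule A N) := by
        intro i hi
        apply hu
        have hyi : u (n i) = ∑ j, a' ⟨i, hi⟩ j • y j := hy ⟨i, hi⟩
        rw [hyi]
        exact Submodule.sum_mem _ fun j _ =>
          Submodule.smul_mem_smul (hall ⟨i, hi⟩ j) Submodule.mem_top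
      refine Submodule.sum_mem _ fun i hi => ?_
      rw [mul_comm, Submodule.mul_smul]
      exact Submodule.smul_mem_smul (Ideal.subset_span ⟨i, hi, rfl⟩) (hn i hi)
    · push Not at hall
      obtain ⟨i₀, j₀, hunit⟩ := hall
      have hunit' : IsUnit (a' i₀ j₀) := by
        by_contra h
        exact hunit h
      obtain ⟨v, hv⟩ := hunit'.exists_left_inv
      let c : ι → A := fun i => if h : i ∈ s then a' ⟨i, h⟩ j₀ else 0
      have hc0 : c i₀ = a' i₀ j₀ := by
        show (if h : (i₀ : ι) ∈ s then a' ⟨i₀, h⟩ j₀ else 0) = _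
        rw [dif_pos i₀.2]
      have hrel' : ∑ i ∈ s, a i * c i = 0 := by
        rw [← Finset.sum_coe_sort s (fun i => a i * c i), ← hrel j₀]
        refine Finset.sum_congr rfl fun i _ => ?_
        show a i * (if h : (i : ι) ∈ s then a' ⟨i, h⟩ j₀ else 0) = _
        rw [dif_pos i.2]
      have hrel'' : ∑ i ∈ s.erase (i₀ : ι), a i * c i = -(a i₀ * c i₀) := by
        rw [← Finset.add_sum_erase s (fun i => a i * c i) i₀.2] at hrel'
        exact eq_neg_of_add_eq_zero_right hrel'
      let n' : ι → N := fun i => n i - (v * c i) • n i₀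
      have hsum : ∑ i ∈ s.erase (i₀ : ι), a i • n' i = ∑ i ∈ s, a i • n i := by
        rw [← Finset.add_sum_erase s (fun i => a i • n i) i₀.2]
        have h2 : ∑ i ∈ s.erase (i₀ : ι), a i • n' i =
            ∑ i ∈ s.erase (i₀ : ι), a i • n i -
              (v * ∑ i ∈ s.erase (i₀ : ι), a i * c i) • n i₀ := by
          rw [Finset.mul_sum, Finset.sum_smul, ← Finset.sum_sub_distrib]
          refine Finset.sum_congr rfl fun i _ => ?_
          show a i • (n i - (v * c i) • n i₀) = _
          rw [smul_sub, smul_smul]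
          congr 2
          ring
        rw [h2, hrel'', hc0]
        have h3 : v * -(a i₀ * a' i₀ j₀) = -(a i₀) := by
          have : v * -(a i₀ * a' i₀ j₀) = -(a i₀ * (v * a' i₀ j₀)) := by ring
          rw [this, hv, mul_one]
        rw [h3, neg_smul, sub_neg_eq_add, add_comm]
      have hcard : (s.erase (i₀ : ι)).card = k := by
        rw [Finset.card_erase_of_mem i₀.2, hs]
        rfl
      have h4 := ih (s.erase (i₀ : ι)) hcard a n' (by rw [hsum]; exact h0)
      rw [hsum] at h4
      refine Submodule.smul_mono_left (Ideal.mul_mono_right (Ideal.span_mono ?_)) h4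
      exact Set.image_mono (by simp)

include hu in
/-- **The key vanishing.** An element of the kernel of `u` with a content ideal is zero. -/
theorem eq_zero_of_content (x : N) (hx : u x = 0) (I : Ideal A)
    (hI : x ∈ I • (⊤ : Submodule A N))
    (hmin : ∀ J : Ideal A, x ∈ J • (⊤ : Submodule A N) → I ≤ J) : x = 0 := by
  classical
  have hI' : x ∈ I • Submodule.span A (Set.range (id : N → N)) := by
    rwa [Set.range_id, Submodule.span_univ]
  obtain ⟨c, hc, hsum⟩ := (Submodule.mem_ideal_smul_span_iff_exists_sum I (id : N → N) x).mp hI'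
  have hsum' : ∑ i ∈ c.support, c i • (id i : N) = x := hsum
  set I₀ : Ideal A := Ideal.span ((c : N → A) '' (c.support : Set N)) with hI₀
  have hI₀I : I₀ ≤ I := by
    rw [hI₀, Ideal.span_le]
    rintro _ ⟨i, -, rfl⟩
    exact hc i
  have hxI₀ : x ∈ I₀ • (⊤ : Submodule A N) := by
    rw [← hsum']
    exact Submodule.sum_mem _ fun i hi =>
      Submodule.smul_mem_smul (Ideal.subset_span ⟨i, hi, rfl⟩) Submodule.mem_top
  have hII₀ : I = I₀ := le_antisymm (hmin I₀ hxI₀) hI₀I
  have hfg : I.FG := by
    rw [hII₀, hI₀]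
    exact ⟨(c.support.image c), by rw [Finset.coe_image]⟩
  have h1 := elim_aux u hu c.support.card c.support rfl (c : N → A) id (by rw [hsum']; exact hx)
  rw [hsum', ← hI₀, ← hII₀] at h1
  have h2 : I ≤ maximalIdeal A • I := hmin _ h1
  have h3 : I = ⊥ := Submodule.eq_bot_of_le_smul_of_le_jacobson_bot (maximalIdeal A) I hfg h2
    (IsLocalRing.maximalIdeal_le_jacobson ⊥)
  rw [h3, Submodule.bot_smul] at hI
  exact (Submodule.mem_bot A).mp hI

end Kill

end Groth.Agent.Lib.helper26.RGContent
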