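/-
Helper library (helper26): content ideals and the Raynaud–Gruson injectivity criterion.
Part 2: from local content ideals (at the primes of the closed fibre) to a content ideal, for
elements supported at the closed point of the base.
-/
import Mathlib
import Groth.Agent.Lib.Helper26.RGContent1

set_option autoImplicit false
set_option linter.style.haveILetI false
set_option linter.unusedSectionVars false

namespace Groth.Agent.Lib.helper26.RGContent

open TensorProduct IsLocalRing Groth.Agent.Lib.helper26.RGInj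
open scoped Pointwise

universe u

section Glue

variable {A : Type u} [CommRing A] {B : Type u} [CommRing B] [Algebra A B]
  {N : Type u} [AddCommGroup N] [Module B N] [Module A N] [IsScalarTower A B N]

/-- the colon ideal `(J N : x)` in `B`. -/
def colon (J : Ideal A) (x : N) : Ideal B where
  carrier := {b | b • x ∈ J • (⊤ : Submodule A N)}
  add_mem' := fun {a b} ha hb => by
    show (a + b) • x ∈ J • (⊤ : Submodule A N)
    rw [add_smul]
    exact Submodule.add_mem _ ha hb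
  zero_mem' := by
    show (0 : B) • x ∈ J • (⊤ : Submodule A N)
    rw [zero_smul]
    exact Submodule.zero_mem _
  smul_mem' := fun a b hb => by
    show (a • b) • x ∈ J • (⊤ : Submodule A N)
    rw [smul_eq_mul, mul_smul]
    exact smul_mem_smul_top J a hb

theorem mem_colon {J : Ideal A} {x : N} {b : B} :
    b ∈ colon (B := B) J x ↔ b • x ∈ J • (⊤ : Submodule A N) := Iff.rfl

theorem colon_mono {J J' : Ideal A} (h : J ≤ J') (x : N) :
    colon (B := B) J x ≤ colon (B := B) J' x := fun _ hb =>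
  Submodule.smul_mono_left h hb

/-- an element of the extension of `𝔪` acts nilpotently on an element supported at `𝔪`. -/
theorem exists_pow_smul_eq_zero (𝔪 : Ideal A) (x : N)
    (hx : ∀ a ∈ 𝔪, ∃ k : ℕ, a ^ k • x = 0) (μ : B) (hμ : μ ∈ 𝔪.map (algebraMap A B)) :
    ∃ K : ℕ, μ ^ K • x = 0 := by
  let 𝔞 : Ideal B := LinearMap.ker (LinearMap.toSpanSingleton B N x)
  have hmem : ∀ b : B, b ∈ 𝔞 ↔ b • x = 0 := fun b => by
    rw [LinearMap.mem_ker, LinearMap.toSpanSingleton_apply]
  have hle : 𝔪.map (algebraMap A B) ≤ 𝔞.radical := by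
    rw [Ideal.map_le_iff_le_comap]
    intro a ha
    obtain ⟨k, hk⟩ := hx a ha
    refine ⟨k, ?_⟩
    rw [hmem, ← map_pow, algebraMap_smul]
    exact hk
  obtain ⟨K, hK⟩ := hle hμ
  exact ⟨K, (hmem _).mp hK⟩

/-- the unipotent trick: if `(t - μ) x ∈ J N` with `μ ∈ 𝔪 B` and `x` supported at `𝔪`, then
`t ^ K x ∈ J N` for some `K`. -/
theorem exists_pow_smul_mem (𝔪 : Ideal A) (x : N)
    (hx : ∀ a ∈ 𝔪, ∃ k : ℕ, a ^ k • x = 0) (J : Ideal A) (t μ : B)
    (hμ : μ ∈ 𝔪.map (algebraMap A B)) (h : (t - μ) • x ∈ J • (⊤ : Submodule A N)) :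
    ∃ K : ℕ, t ^ K • x ∈ J • (⊤ : Submodule A N) := by
  obtain ⟨K, hK⟩ := exists_pow_smul_eq_zero 𝔪 x hx μ hμ
  refine ⟨K, ?_⟩
  have h1 : (t ^ K - μ ^ K) • x = t ^ K • x := by
    rw [sub_smul, hK, sub_zero]
  rw [← h1]
  obtain ⟨c, hc⟩ : (t - μ) ∣ t ^ K - μ ^ K := sub_dvd_pow_sub_pow t μ K
  rw [hc, mul_comm, mul_smul]
  exact smul_mem_smul_top J c h

variable [IsLocalRing A] (T : Submonoid B)

/-- **From local to global content ideals.** Let `T` act invertibly on the `B`-module `N` and let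
`x ∈ N` be supported at the closed point of the local ring `A`. If `x` has a content ideal locally
at every prime of `B` over `𝔪` disjoint from `T`, then `x` has a content ideal. -/
theorem hasContent_of_local
    (hT : ∀ t ∈ T, Function.Bijective (fun y : N => t • y))
    (x : N) (hx : ∀ a ∈ maximalIdeal A, ∃ k : ℕ, a ^ k • x = 0)
    (hloc : ∀ (q : Ideal B) [q.IsPrime], (maximalIdeal A).map (algebraMap A B) ≤ q →
      Disjoint (q : Set B) T →
      ∃ I : Ideal A, (∃ b : B, b ∉ q ∧ b • x ∈ I • (⊤ : Submodule A N)) ∧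
        ∀ J : Ideal A, (∃ b : B, b ∉ q ∧ b • x ∈ J • (⊤ : Submodule A N)) → I ≤ J) :
    HasContent A x := by
  classical
  -- saturation
  have hsat : ∀ (J : Ideal A) (t : B), t ∈ T → ∀ y : N, t • y ∈ J • (⊤ : Submodule A N) →
      y ∈ J • (⊤ : Submodule A N) := by
    intro J t ht y hy
    let e : N ≃ₗ[A] N := LinearEquiv.ofBijective
      ((LinearMap.lsmul B N t).restrictScalars A) (hT t ht)
    have h1 : e.symm (t • y) = y := by
      rw [LinearEquiv.symm_apply_eq]
      rfl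
    rw [← h1]
    exact map_mem_smul_top J e.symm.toLinearMap hy
  let P := {q : Ideal B // q.IsPrime ∧ (maximalIdeal A).map (algebraMap A B) ≤ q ∧
    Disjoint (q : Set B) T}
  have hP : ∀ q : P, ∃ I : Ideal A, (∃ b : B, b ∉ q.1 ∧ b • x ∈ I • (⊤ : Submodule A N)) ∧
        ∀ J : Ideal A, (∃ b : B, b ∉ q.1 ∧ b • x ∈ J • (⊤ : Submodule A N)) → I ≤ J := by
    intro q
    haveI := q.2.1
    exact hloc q.1 q.2.2.1 q.2.2.2
  choose I hI1 hI2 using hP
  let 𝔟 : Ideal B := (⨆ q : P, colon (B := B) (I q) x) ⊔ (maximalIdeal A).map (algebraMap A B)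
  have hmeet : ¬ Disjoint (𝔟 : Set B) T := by
    intro hdis
    obtain ⟨p, hp, h𝔟p, hpT⟩ := Ideal.exists_le_prime_disjoint 𝔟 T hdis
    let q : P := ⟨p, hp, le_trans le_sup_right h𝔟p, hpT⟩
    obtain ⟨b, hbq, hb⟩ := hI1 q
    apply hbq
    apply h𝔟p
    apply Ideal.mem_sup_left
    exact (le_iSup (fun q : P => colon (B := B) (I q) x) q) hb
  rw [Set.not_disjoint_iff] at hmeet
  obtain ⟨t, ht𝔟, htT⟩ := hmeet
  obtain ⟨c, hc, μ, hμ, hcμ⟩ := Submodule.mem_sup.mp ht𝔟
  obtain ⟨s, hs⟩ := Submodule.mem_iSup_iff_exists_finset.mp hc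
  let I₀ : Ideal A := ⨆ q ∈ s, I q
  have hle : (⨆ q ∈ s, colon (B := B) (I q) x) ≤ colon (B := B) I₀ x :=
    iSup₂_le fun q hq => colon_mono (le_biSup I hq) x
  have hc' : c • x ∈ I₀ • (⊤ : Submodule A N) := hle hs
  have hct : c = t - μ := by rw [← hcμ]; ring
  rw [hct] at hc'
  obtain ⟨K, hK⟩ := exists_pow_smul_mem (maximalIdeal A) x hx I₀ t μ hμ hc'
  refine ⟨I₀, hsat I₀ (t ^ K) (pow_mem htT K) x hK, ?_⟩
  intro J hJ
  refine iSup₂_le fun q _ => ?_
  exact hI2 q J ⟨1, fun h1 => q.2.1.ne_top ((Ideal.eq_top_iff_one _).mpr h1), by rwa [one_smul]⟩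

end Glue

end Groth.Agent.Lib.helper26.RGContent
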