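/-
Helper library (helper26): the Raynaud–Gruson injectivity criterion for flatness.
Part 3: reductions modulo an ideal under restriction of scalars, under an étale neighbourhood, and
under flat base change.
-/
import Mathlib
import Groth.Prelude.Def_FlatCA
import Groth.Agent.Lib.Helper26.RGInj1

set_option autoImplicit false
set_option linter.style.haveILetI false
set_option linter.unusedSectionVars false

namespace Groth.Agent.Lib.helper26.RGInj

open TensorProduct IsLocalRing
open scoped Pointwise

universe u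

section Conv

variable {R S : Type u} [CommRing R] [CommRing S] [Algebra R S] (I : Ideal R)
  {X : Type u} [AddCommGroup X] [Module S X] [Module R X] [IsScalarTower R S X]

/-- `I • ⊤` over `R` is `(I S) • ⊤` over `S`. -/
theorem mem_smul_top_iff_map (x : X) :
    x ∈ I • (⊤ : Submodule R X) ↔ x ∈ I.map (algebraMap R S) • (⊤ : Submodule S X) := by
  rw [← Submodule.restrictScalars_mem R (I.map (algebraMap R S) • (⊤ : Submodule S X)),
    Ideal.smul_restrictScalars, Submodule.restrictScalars_top]

end Conv

section Etale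

variable {R R' : Type u} [CommRing R] [CommRing R'] [Algebra R R'] (p : Ideal R) [p.IsPrime]
  (p' : Ideal R') [p'.IsPrime]

/-- for an elementary étale neighbourhood `(R', p')` of `(R, p)`, the maximal ideal of `R'_{p'}` is
generated by `p`. -/
theorem map_eq_maximalIdeal_of_isEtaleNhd (h : FlatCA.IsEtaleNhd R R' p p') :
    p.map (algebraMap R (Localization.AtPrime p')) = maximalIdeal (Localization.AtPrime p') := by
  obtain ⟨het, hlo, -⟩ := h
  haveI := het
  haveI := hlo
  have hunr : Algebra.IsUnramifiedAt R p' := inferInstance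
  letI := Localization.AtPrime.algebraOfLiesOver p p'
  exact ((Algebra.isUnramifiedAt_iff_map_eq R p p').mp hunr).2

/-- reduction modulo the maximal ideal of `R'_{p'}` is reduction modulo `p`. -/
theorem mem_maximalIdeal_smul_top_iff (h : FlatCA.IsEtaleNhd R R' p p')
    {X : Type u} [AddCommGroup X] [Module (Localization.AtPrime p') X] [Module R X]
    [IsScalarTower R (Localization.AtPrime p') X] (x : X) :
    x ∈ maximalIdeal (Localization.AtPrime p') • (⊤ : Submodule (Localization.AtPrime p') X) ↔
      x ∈ p • (⊤ : Submodule R X) := by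
  rw [mem_smul_top_iff_map (S := Localization.AtPrime p') p x,
    map_eq_maximalIdeal_of_isEtaleNhd p p' h]

end Etale

section BaseChange

variable {S C : Type u} [CommRing S] [CommRing C] [Algebra S C]
  {N M : Type u} [AddCommGroup N] [Module S N] [AddCommGroup M] [Module S M]
  (J : Ideal S)

/-- the kernel of `C ⊗ N → C ⊗ N/JN` lies in `J (C ⊗ N)`. -/
theorem ker_lTensor_mkQ_le :
    LinearMap.ker ((J • (⊤ : Submodule S N)).mkQ.lTensor C) ≤
      J • (⊤ : Submodule S (C ⊗[S] N)) := by
  have hrange : ∀ w : C ⊗[S] (J • (⊤ : Submodule S N) : Submodule S N),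
      (J • (⊤ : Submodule S N)).subtype.lTensor C w ∈ J • (⊤ : Submodule S (C ⊗[S] N)) := by
    intro w
    induction w using TensorProduct.induction_on with
    | zero => rw [map_zero]; exact Submodule.zero_mem _
    | tmul c y =>
      rw [LinearMap.lTensor_tmul]
      obtain ⟨y, hy⟩ := y
      show c ⊗ₜ[S] y ∈ J • (⊤ : Submodule S (C ⊗[S] N))
      refine Submodule.smul_induction_on hy ?_ ?_
      · intro a ha n _
        rw [TensorProduct.tmul_smul]
        exact Submodule.smul_mem_smul ha Submodule.mem_top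
      · intro a b ha hb
        rw [TensorProduct.tmul_add]
        exact Submodule.add_mem _ ha hb
    | add a b ha hb =>
      rw [map_add]
      exact Submodule.add_mem _ ha hb
  intro z hz
  rw [LinearMap.mem_ker] at hz
  obtain ⟨w, rfl⟩ := (lTensor_exact C (LinearMap.exact_subtype_mkQ (J • (⊤ : Submodule S N)))
    (Submodule.mkQ_surjective _) z).mp hz
  exact hrange w

/-- `J (C ⊗ M)` dies in `C ⊗ M/JM`. -/
theorem lTensor_mkQ_eq_zero (y : C ⊗[S] M) (hy : y ∈ J • (⊤ : Submodule S (C ⊗[S] M))) :
    (J • (⊤ : Submodule S M)).mkQ.lTensor C y = 0 := by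
  have hkill : ∀ a ∈ J, ∀ z : C ⊗[S] (M ⧸ J • (⊤ : Submodule S M)), a • z = 0 := by
    intro a ha z
    induction z using TensorProduct.induction_on with
    | zero => rw [smul_zero]
    | tmul c m =>
      obtain ⟨m, rfl⟩ := Submodule.mkQ_surjective _ m
      rw [← TensorProduct.tmul_smul, ← map_smul]
      have : (J • (⊤ : Submodule S M)).mkQ (a • m) = 0 := by
        rw [Submodule.mkQ_apply, Submodule.Quotient.mk_eq_zero]
        exact Submodule.smul_mem_smul ha Submodule.mem_top
      rw [this, TensorProduct.tmul_zero]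
    | add x y hx hy => rw [smul_add, hx, hy, add_zero]
  refine Submodule.smul_induction_on hy ?_ ?_
  · intro a ha z _
    rw [map_smul]
    exact hkill a ha _
  · intro a b ha hb
    rw [map_add, ha, hb, add_zero]

variable [Module.Flat S C] (T : Submonoid S)

set_option maxHeartbeats 800000 in
/-- **flat base change of the torsion condition**: if every element of the kernel of the reduction
of `u₀` modulo `J` is `T`-torsion, the same holds after a flat base change. -/
theorem baseChange_torsion (u₀ : N →ₗ[S] M)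
    (H₀ : ∀ n : N, u₀ n ∈ J • (⊤ : Submodule S M) → ∃ s ∈ T, s • n ∈ J • (⊤ : Submodule S N))
    (x : C ⊗[S] N) (hx : u₀.lTensor C x ∈ J • (⊤ : Submodule S (C ⊗[S] M))) :
    ∃ s ∈ T, s • x ∈ J • (⊤ : Submodule S (C ⊗[S] N)) := by
  set πN := (J • (⊤ : Submodule S N)).mkQ with hπN
  set πM := (J • (⊤ : Submodule S M)).mkQ with hπM
  let ubar : (N ⧸ J • (⊤ : Submodule S N)) →ₗ[S] (M ⧸ J • (⊤ : Submodule S M)) :=
    (J • (⊤ : Submodule S N)).mapQ (J • (⊤ : Submodule S M)) u₀
      (Submodule.smul_top_le_comap_smul_top J u₀)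
  have hcomm : ubar ∘ₗ πN = πM ∘ₗ u₀ := by
    ext n
    rfl
  have h1 : (ubar.lTensor C) ((πN.lTensor C) x) = 0 := by
    rw [← LinearMap.comp_apply, ← LinearMap.lTensor_comp, hcomm, LinearMap.lTensor_comp,
      LinearMap.comp_apply]
    exact lTensor_mkQ_eq_zero J _ hx
  have hex : Function.Exact ((LinearMap.ker ubar).subtype.lTensor C) (ubar.lTensor C) :=
    Module.Flat.lTensor_exact C (LinearMap.exact_subtype_ker_map ubar)
  obtain ⟨w, hw⟩ := (hex _).mp h1
  have hwT : ∀ w : C ⊗[S] (LinearMap.ker ubar), ∃ s ∈ T, s • w = 0 := by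
    intro w
    induction w using TensorProduct.induction_on with
    | zero => exact ⟨1, T.one_mem, smul_zero _⟩
    | tmul c k =>
      obtain ⟨k, hk⟩ := k
      obtain ⟨n, rfl⟩ := Submodule.mkQ_surjective _ k
      rw [LinearMap.mem_ker] at hk
      have h2 : πM (u₀ n) = 0 := hk
      rw [hπM, Submodule.mkQ_apply, Submodule.Quotient.mk_eq_zero] at h2
      obtain ⟨s, hs, hsn⟩ := H₀ n h2
      refine ⟨s, hs, ?_⟩
      rw [← TensorProduct.tmul_smul]
      have : s • (⟨(J • (⊤ : Submodule S N)).mkQ n, hk⟩ : LinearMap.ker ubar) = 0 := by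
        apply Subtype.ext
        show s • (J • (⊤ : Submodule S N)).mkQ n = 0
        rw [← map_smul, Submodule.mkQ_apply, Submodule.Quotient.mk_eq_zero]
        exact hsn
      rw [this, TensorProduct.tmul_zero]
    | add a b ha hb =>
      obtain ⟨s₁, hs₁, h₁⟩ := ha
      obtain ⟨s₂, hs₂, h₂⟩ := hb
      refine ⟨s₁ * s₂, T.mul_mem hs₁ hs₂, ?_⟩
      have ea : (s₁ * s₂) • a = 0 := by rw [mul_comm, mul_smul, h₁, smul_zero]
      have eb : (s₁ * s₂) • b = 0 := by rw [mul_smul, h₂, smul_zero]
      rw [smul_add, ea, eb, add_zero]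
  obtain ⟨s, hs, hsw⟩ := hwT w
  refine ⟨s, hs, ?_⟩
  apply ker_lTensor_mkQ_le (C := C) J
  rw [LinearMap.mem_ker, map_smul, ← hπN, ← hw, ← map_smul, hsw, map_zero]

end BaseChange

end Groth.Agent.Lib.helper26.RGInj
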