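/-
Helper library (helper26): content ideals and the Raynaud–Gruson injectivity criterion.
Part 4: descent of membership in `J N` along a flat ring map (locally at a prime), flatness at the
primes of a localization, and membership in `J N` for localized modules.
-/
import Mathlib
import Groth.Agent.Lib.Helper26.RGContent2
import Groth.Agent.Lib.Helper26.RGInj3
import Groth.Agent.Lib.Helper13.PureSp2
import Groth.Agent.Lib.Helper3.FlatAtLib1

set_option autoImplicit false
set_option linter.style.haveILetI false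
set_option linter.unusedSectionVars false

namespace Groth.Agent.Lib.helper26.RGContent

open TensorProduct IsLocalRing Groth.Agent.Lib.helper26.RGInj
open scoped Pointwise

universe u

section Descent

variable {B C : Type u} [CommRing B] [CommRing C] [Algebra B C] [Module.Flat B C]
  (q : Ideal B) [q.IsPrime] (x' : Ideal C) [x'.IsPrime] [x'.LiesOver q]
  {N₁ : Type u} [AddCommGroup N₁] [Module B N₁]

/-- **Local descent along a flat map.** If an element of `C` outside `x'` sends `1 ⊗ n` into
`𝔍 (C ⊗ N₁)`, then an element of `B` outside `q = x' ∩ B` sends `n` into `𝔍 N₁`. -/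
theorem exists_notMem_smul_mem_of_tmul (𝔍 : Ideal B) (n : N₁) (g : C) (hg : g ∉ x')
    (h : g • ((1 : C) ⊗ₜ[B] n) ∈ 𝔍 • (⊤ : Submodule B (C ⊗[B] N₁))) :
    ∃ b : B, b ∉ q ∧ b • n ∈ 𝔍 • (⊤ : Submodule B N₁) := by
  set π := (𝔍 • (⊤ : Submodule B N₁)).mkQ with hπ
  have h1 : (π.lTensor C) (g • ((1 : C) ⊗ₜ[B] n)) = 0 := lTensor_mkQ_eq_zero 𝔍 _ h
  have h2 : g ⊗ₜ[B] (π n) = (0 : C ⊗[B] (N₁ ⧸ 𝔍 • (⊤ : Submodule B N₁))) := by
    rw [TensorProduct.smul_tmul', LinearMap.lTensor_tmul, smul_eq_mul, mul_one] at h1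
    exact h1
  -- the annihilator of the class of `n`
  let φ : B →ₗ[B] (N₁ ⧸ 𝔍 • (⊤ : Submodule B N₁)) := LinearMap.toSpanSingleton B _ (π n)
  let 𝔞 : Ideal B := LinearMap.ker φ
  let ψ : (B ⧸ 𝔞) →ₗ[B] (N₁ ⧸ 𝔍 • (⊤ : Submodule B N₁)) := Submodule.liftQ 𝔞 φ le_rfl
  have hψ : Function.Injective ψ := by
    rw [← LinearMap.ker_eq_bot]
    exact Submodule.ker_liftQ_eq_bot _ _ _ le_rfl
  have hψC : Function.Injective (ψ.lTensor C) :=
    Module.Flat.lTensor_preserves_injective_linearMap ψ hψ
  have h3 : (ψ.lTensor C) (g ⊗ₜ[B] (Submodule.Quotient.mk (1 : B) : B ⧸ 𝔞)) = 0 := by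
    rw [LinearMap.lTensor_tmul]
    have : ψ (Submodule.Quotient.mk (1 : B)) = π n := by
      show φ 1 = π n
      rw [LinearMap.toSpanSingleton_apply, one_smul]
    rw [this]
    exact h2
  have h4 : g ⊗ₜ[B] (Submodule.Quotient.mk (1 : B) : B ⧸ 𝔞) = 0 :=
    hψC (h3.trans (map_zero _).symm)
  have h5 : (1 : B ⧸ 𝔞) ⊗ₜ[B] g = 0 := by
    have := congrArg (TensorProduct.comm B C (B ⧸ 𝔞)) h4
    rw [TensorProduct.comm_tmul, map_zero] at this
    exact this
  have h6 : g ∈ 𝔞 • (⊤ : Submodule B C) :=
    (Groth.Agent.Lib.helper13.PureSp.one_tmul_eq_zero_iff 𝔞 g).mp h5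
  have h7 : g ∈ 𝔞.map (algebraMap B C) := by
    rw [Ideal.smul_top_eq_map] at h6
    exact h6
  by_contra hcon
  push Not at hcon
  have hle : 𝔞 ≤ q := by
    intro b hb
    by_contra hbq
    have hb' : b • π n = 0 := by
      have : φ b = 0 := hb
      rwa [LinearMap.toSpanSingleton_apply] at this
    apply hcon b hbq
    rw [← map_smul, hπ, Submodule.mkQ_apply, Submodule.Quotient.mk_eq_zero] at hb'
    exact hb'
  apply hg
  have hle' : 𝔞.map (algebraMap B C) ≤ x' := by
    rw [Ideal.map_le_iff_le_comap]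
    have hover : q = x'.comap (algebraMap B C) := Ideal.LiesOver.over (p := q) (P := x')
    rw [← hover]
    exact hle
  exact hle' h7

end Descent

section Localization

variable {A B : Type u} [CommRing A] [CommRing B] [Algebra A B] (T : Submonoid B)
  {N₁ N : Type u} [AddCommGroup N₁] [Module B N₁] [Module A N₁] [IsScalarTower A B N₁]
  [AddCommGroup N] [Module B N] [Module A N] [IsScalarTower A B N]
  (f : N₁ →ₗ[B] N) [IsLocalizedModule T f]

/-- membership in `J N` for a localized module. -/
theorem exists_smul_mem_of_map_mem (J : Ideal A) (n : N₁)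
    (h : f n ∈ J • (⊤ : Submodule A N)) : ∃ t : T, (t : B) • n ∈ J • (⊤ : Submodule A N₁) := by
  let e : LocalizedModule T N₁ ≃ₗ[B] N := IsLocalizedModule.iso T f
  have h1 : e.symm (f n) = LocalizedModule.mk n (1 : T) := IsLocalizedModule.iso_symm_apply T f n
  have h2 : LocalizedModule.mk n (1 : T) ∈ J • (⊤ : Submodule A (LocalizedModule T N₁)) := by
    rw [← h1]
    exact map_mem_smul_top J (e.symm.toLinearMap.restrictScalars A) h
  exact exists_smul_mem_of_mk_mem J T n h2

include f in
/-- a localization of a module which becomes flat over the base after localization is flat at the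
primes of the localization. -/
theorem flatAt_of_flat_localized [Module.Flat A N] (q : Ideal B) [q.IsPrime]
    (hq : Disjoint (q : Set B) T) : FlatCA.FlatAt A q N₁ := by
  rw [Groth.Agent.Lib.helper3.FlatAtLib.flatAt_iff_forall_eq_zero]
  intro P Q _ _ _ _ u hu x hx
  have hflat : Function.Injective (u.lTensor N) :=
    Module.Flat.lTensor_preserves_injective_linearMap u hu
  have hcomm : (u.lTensor N) ((f.restrictScalars A).rTensor P x) =
      (f.restrictScalars A).rTensor Q (u.lTensor N₁ x) := by
    rw [← LinearMap.comp_apply, ← LinearMap.comp_apply, LinearMap.lTensor_comp_rTensor,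
      LinearMap.rTensor_comp_lTensor]
  rw [hx, map_zero] at hcomm
  have h0 : (f.restrictScalars A).rTensor P x = 0 := hflat (hcomm.trans (map_zero _).symm)
  have h1 : AlgebraTensorModule.rTensor A P f x = AlgebraTensorModule.rTensor A P f 0 := by
    rw [map_zero]
    exact h0
  obtain ⟨c, hc⟩ := IsLocalizedModule.exists_of_eq (S := T)
    (f := AlgebraTensorModule.rTensor A P f) h1
  refine ⟨(c : B), fun hcq => ?_, ?_⟩
  · exact Set.disjoint_left.mp hq hcq c.2
  · rw [smul_zero] at hc
    exact hc

end Localization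

end Groth.Agent.Lib.helper26.RGContent
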