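/-
Helper library (helper26): Mittag-Leffler modules in the Raynaud–Gruson setting.
Part 1: restriction of scalars for universally injective maps; the Mittag-Leffler property of a
localization `N = (N₁)_q` from a flat local model `C ⊗ N₁` which is Mittag-Leffler and on which
the elements outside `q` act universally injectively.
-/
import Mathlib
import Groth.Prelude.Def_FlatCA
import Groth.Prelude.Def_Found
import Groth.Agent.Lib.Helper28.MittagLeffler
import Groth.Agent.Lib.Helper26.RGContent4

set_option autoImplicit false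
set_option linter.style.haveILetI false
set_option linter.unusedSectionVars false

namespace Groth.Agent.Lib.helper26.MLRG

open TensorProduct IsLocalRing
open scoped Pointwise

universe u

section Restrict

variable {A A₁ : Type u} [CommRing A] [CommRing A₁] [Algebra A A₁]
  {X Y : Type u} [AddCommGroup X] [Module A₁ X] [Module A X] [IsScalarTower A A₁ X]
  [AddCommGroup Y] [Module A₁ Y] [Module A Y] [IsScalarTower A A₁ Y]

/-- the comparison `Q ⊗[A] X → (A₁ ⊗[A] Q) ⊗[A₁] X`. -/
noncomputable def cmp (X : Type u) [AddCommGroup X] [Module A₁ X] [Module A X]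
    [IsScalarTower A A₁ X] (Q : Type u) [AddCommGroup Q] [Module A Q] :
    Q ⊗[A] X ≃ₗ[A] (A₁ ⊗[A] Q) ⊗[A₁] X :=
  (TensorProduct.comm A Q X) ≪≫ₗ
    ((AlgebraTensorModule.cancelBaseChange A A₁ A₁ X Q).symm.restrictScalars A) ≪≫ₗ
    ((TensorProduct.comm A₁ X (A₁ ⊗[A] Q)).restrictScalars A)

theorem cmp_tmul (Q : Type u) [AddCommGroup Q] [Module A Q] (z : Q) (x : X) :
    cmp (A₁ := A₁) X Q (z ⊗ₜ[A] x) = ((1 : A₁) ⊗ₜ[A] z) ⊗ₜ[A₁] x := by
  simp [cmp]

/-- restriction of scalars preserves universal injectivity. -/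
theorem univInj_restrictScalars (φ : X →ₗ[A₁] Y) (h : FlatCA.UnivInj A₁ φ) :
    FlatCA.UnivInj A (φ.restrictScalars A) := by
  intro Q _ _
  have hnat : ∀ w : Q ⊗[A] X, cmp (A₁ := A₁) Y Q (((φ.restrictScalars A).lTensor Q) w) =
      (φ.lTensor (A₁ ⊗[A] Q)) (cmp (A₁ := A₁) X Q w) := by
    intro w
    induction w using TensorProduct.induction_on with
    | zero => simp
    | tmul z x => simp [cmp_tmul]
    | add a b ha hb => rw [map_add, map_add, ha, hb, map_add, map_add]
  rw [injective_iff_map_eq_zero]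
  intro w hw
  have h1 := hnat w
  rw [hw, map_zero] at h1
  have h2 := h (A₁ ⊗[A] Q) (h1.symm.trans (map_zero _).symm)
  exact (LinearEquiv.map_eq_zero_iff _).mp h2

end Restrict

section Core

variable {A B C : Type u} [CommRing A] [CommRing B] [CommRing C] [Algebra A B] [Algebra B C]
  [Algebra A C] [IsScalarTower A B C] [Module.Flat B C]
  (q : Ideal B) [q.IsPrime] (x' : Ideal C) [x'.IsPrime] [x'.LiesOver q]
  {N₁ N : Type u} [AddCommGroup N₁] [Module B N₁] [Module A N₁] [IsScalarTower A B N₁]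
  [AddCommGroup N] [Module B N] [Module A N] [IsScalarTower A B N]
  (f : N₁ →ₗ[B] N) [IsLocalizedModule q.primeCompl f]

include x' f in
set_option maxHeartbeats 1600000 in
/-- **Mittag-Leffler from a flat local model.** -/
theorem ml_of_local_model (hML : CAlg.IsMittagLeffler A (C ⊗[B] N₁))
    (hinj : ∀ b : B, b ∉ q → ∀ (Q : Type u) [AddCommGroup Q] [Module A Q],
      Function.Injective (fun w : (C ⊗[B] N₁) ⊗[A] Q => b • w)) :
    CAlg.IsMittagLeffler A N := by
  intro ι Q _ _
  rw [injective_iff_map_eq_zero]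
  intro ξ hξ
  obtain ⟨⟨η, s⟩, hηs⟩ := IsLocalizedModule.surj q.primeCompl
    (AlgebraTensorModule.rTensor A (∀ i, Q i) f) ξ
  have hηs' : (s : B) • ξ = (f.restrictScalars A).rTensor (∀ i, Q i) η := hηs
  -- the components of `η` are killed by elements outside `q`
  have h1 : ∀ i, ∃ b : B, b ∉ q ∧ b • (piRightHom A A N₁ Q η i) = 0 := by
    intro i
    have h2 := congrFun (Groth.Agent.Lib.helper28.piRightHom_rTensor (f.restrictScalars A) Q η) i
    rw [← hηs', AlgebraTensorModule.smul_eq_lsmul_rTensor,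
      Groth.Agent.Lib.helper28.piRightHom_rTensor, hξ] at h2
    simp only [Pi.zero_apply, map_zero] at h2
    have h3 : AlgebraTensorModule.rTensor A (Q i) f (piRightHom A A N₁ Q η i) = 0 := h2.symm
    rw [IsLocalizedModule.eq_zero_iff q.primeCompl] at h3
    obtain ⟨c, hc⟩ := h3
    exact ⟨c, c.2, hc⟩
  -- the image in the local model
  set η' : (C ⊗[B] N₁) ⊗[A] (∀ i, Q i) :=
    ((TensorProduct.mk B C N₁ 1).restrictScalars A).rTensor (∀ i, Q i) η with hη'
  have h4 : ∀ i, piRightHom A A (C ⊗[B] N₁) Q η' i = 0 := by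
    intro i
    obtain ⟨b, hbq, hb⟩ := h1 i
    have h5 := congrFun (Groth.Agent.Lib.helper28.piRightHom_rTensor
      ((TensorProduct.mk B C N₁ 1).restrictScalars A) Q η) i
    rw [← hη'] at h5
    have h6 : b • (piRightHom A A (C ⊗[B] N₁) Q η' i) = 0 := by
      rw [h5]
      show b • (AlgebraTensorModule.rTensor A (Q i) (TensorProduct.mk B C N₁ 1)
        (piRightHom A A N₁ Q η i)) = 0
      rw [← map_smul, hb, map_zero]
    exact hinj b hbq (Q i) (h6.trans (smul_zero b).symm)
  have h7 : η' = 0 := by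
    apply hML ι Q
    rw [map_zero]
    funext i
    exact h4 i
  -- descent
  have h8' : ∀ η₀ : N₁ ⊗[A] (∀ i, Q i), AlgebraTensorModule.assoc A B B C N₁ (∀ i, Q i)
      (((TensorProduct.mk B C N₁ 1).restrictScalars A).rTensor (∀ i, Q i) η₀) =
        (1 : C) ⊗ₜ[B] η₀ := by
    intro η₀
    induction η₀ using TensorProduct.induction_on with
    | zero => simp
    | tmul n p => simp
    | add a b ha hb => rw [map_add, map_add, ha, hb, tmul_add]
  have h8 : AlgebraTensorModule.assoc A B B C N₁ (∀ i, Q i) η' = (1 : C) ⊗ₜ[B] η := by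
    rw [hη']
    exact h8' η
  rw [h7, map_zero] at h8
  obtain ⟨b, hbq, hb⟩ := Groth.Agent.Lib.helper26.RGContent.exists_notMem_smul_mem_of_tmul q x'
    (⊥ : Ideal B) η (1 : C) (fun h1 => (‹x'.IsPrime›).ne_top ((Ideal.eq_top_iff_one _).mpr h1))
    (by rw [one_smul, ← h8]; exact Submodule.zero_mem _)
  rw [Submodule.bot_smul, Submodule.mem_bot] at hb
  have h9 : b • ((s : B) • ξ) = 0 := by
    rw [hηs']
    show b • (AlgebraTensorModule.rTensor A (∀ i, Q i) f η) = 0
    rw [← map_smul, hb, map_zero]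
  have h10 : (s : B) • ξ = 0 :=
    IsLocalizedModule.smul_injective (AlgebraTensorModule.rTensor A (∀ i, Q i) f)
      (⟨b, hbq⟩ : q.primeCompl) (h9.trans (smul_zero _).symm)
  exact IsLocalizedModule.smul_injective (AlgebraTensorModule.rTensor A (∀ i, Q i) f) s
    (h10.trans (smul_zero _).symm)

end Core

end Groth.Agent.Lib.helper26.MLRG
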