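/-
Helper library (helper26): the Raynaud–Gruson injectivity criterion for flatness.
Part 2: the criterion for a module with a complete dévissage over a local ring — a linear map to a
flat module whose reduction has `q`-torsion kernel is universally injective, and the module is flat.
-/
import Mathlib
import Groth.Agent.Lib.Helper26.RGInj1
import Groth.Agent.Lib.Helper3.CDev2
import Groth.Agent.Lib.Helper3.FibBasis1
import Groth.Agent.Lib.Helper3.FreeFlatInj1

set_option autoImplicit false
set_option linter.style.haveILetI false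
set_option linter.unusedSectionVars false

namespace Groth.Agent.Lib.helper26.RGInj

open TensorProduct FlatCA IsLocalRing Groth.Agent.Lib.helper3.CDev
open scoped Pointwise

universe u

attribute [local instance] FlatCA.CompleteDevissageAt.hqB FlatCA.CompleteDevissageAt.hqA
  FlatCA.CompleteDevissageAt.overB FlatCA.CompleteDevissageAt.overA

section Factor

variable {R : Type u} [CommRing R]

/-- factoring a linear map through a surjection. -/
theorem exists_factor {M M' E' : Type u} [AddCommGroup M] [Module R M] [AddCommGroup M']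
    [Module R M'] [AddCommGroup E'] [Module R E'] (π : M →ₗ[R] M') (hπ : Function.Surjective π)
    (g : M →ₗ[R] E') (h : LinearMap.ker π ≤ LinearMap.ker g) :
    ∃ u' : M' →ₗ[R] E', u' ∘ₗ π = g := by
  refine ⟨(LinearMap.ker π).liftQ g h ∘ₗ (π.quotKerEquivOfSurjective hπ).symm.toLinearMap, ?_⟩
  ext m
  have h1 : (π.quotKerEquivOfSurjective hπ).symm (π m) = Submodule.Quotient.mk m := by
    rw [LinearEquiv.symm_apply_eq]
    rfl
  simp only [LinearMap.comp_apply, LinearEquiv.coe_coe, h1]
  rfl

end Factor

section Local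

variable {R S : Type u} [CommRing R] [IsLocalRing R] [CommRing S] [Algebra R S]
  {N : Type u} [AddCommGroup N] [Module S N] [Module R N] [IsScalarTower R S N]
  {q : Ideal S} [q.IsPrime]
  (D : CompleteDevissage R S N (maximalIdeal R))
  (DA : CompleteDevissageAt R S N (maximalIdeal R) q D)

/-- the torsion hypothesis at stage `i`: elements of the kernel of the reduction of `u` are killed,
modulo `𝔪`, by elements outside the point `qA i`. -/
def Tors (i : ℕ) {E : Type u} [AddCommGroup E] [Module R E] (u : D.M i →ₗ[R] E) : Prop :=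
  ∀ x : D.M i, u x ∈ maximalIdeal R • (⊤ : Submodule R E) →
    ∃ c : D.A i, c ∉ DA.qA i ∧ c • x ∈ maximalIdeal R • (⊤ : Submodule R (D.M i))

/-- from `A i` to `B i`. -/
theorem exists_B_of_A (i : ℕ) (hi : i < D.n) (x : D.M i) (c : D.A i) (hc : c ∉ DA.qA i)
    (hcx : c • x ∈ maximalIdeal R • (⊤ : Submodule R (D.M i))) :
    ∃ s : D.B i, s ∉ DA.qB i ∧ s • x ∈ maximalIdeal R • (⊤ : Submodule R (D.M i)) := by
  haveI := D.finiteBA i hi
  haveI : Algebra.IsIntegral (D.B i) (D.A i) := Algebra.IsIntegral.of_finite _ _
  exact exists_notMem_smul_mem (R := R) (B := D.B i) (C := D.A i) (maximalIdeal R) (DA.qB i)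
    (DA.qA i) (fun Q _ hQ => DA.uniq i hi Q hQ) x c hc hcx

/-- the key reduction: the composite `u ∘ α i` is injective modulo `𝔪`. -/
theorem key (i : ℕ) (hi : i < D.n) {E : Type u} [AddCommGroup E] [Module R E]
    (u : D.M i →ₗ[R] E) (hu : Tors D DA i u) (x : Fin (D.r i) → D.B i)
    (hx : u (D.α i x) ∈ maximalIdeal R • (⊤ : Submodule R E)) :
    x ∈ maximalIdeal R • (⊤ : Submodule R (Fin (D.r i) → D.B i)) := by
  obtain ⟨c, hc, hcx⟩ := hu (D.α i x) hx
  obtain ⟨s, hs, hsx⟩ := exists_B_of_A D DA i hi (D.α i x) c hc hcx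
  rw [← map_smul] at hsx
  have hinj : Function.Injective ((D.α i).baseChange
      ((maximalIdeal R).map (algebraMap R (D.B i))).ResidueField) := (D.fibreIso i hi).1
  have h1 : LocalizedModule.mkLinearMap (DA.qB i).primeCompl (D.M i) (D.α i (s • x)) ∈
      maximalIdeal R • (⊤ : Submodule R (LocalizedModule (DA.qB i).primeCompl (D.M i))) :=
    map_mem_smul_top (maximalIdeal R)
      ((LocalizedModule.mkLinearMap (DA.qB i).primeCompl (D.M i)).restrictScalars R) hsx
  have h2 := Groth.Agent.Lib.helper3.FibBasis.mem_smul_top_of_mk_mem (DA.qB i) (D.α i) hinj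
    (s • x) h1
  apply Groth.Agent.Lib.helper3.FibBasis.mem_smul_top_pi
  intro j
  have h3 : (s • x) j ∈ maximalIdeal R • (⊤ : Submodule R (D.B i)) :=
    map_mem_smul_top (maximalIdeal R)
      (LinearMap.proj (R := R) (φ := fun _ : Fin (D.r i) => D.B i) j) h2
  rw [Ideal.smul_top_eq_map] at h3
  have h4 : s * x j ∈ (maximalIdeal R).map (algebraMap R (D.B i)) := h3
  have hsP : s ∉ (maximalIdeal R).map (algebraMap R (D.B i)) := fun h =>
    hs (Groth.Agent.Lib.helper3.FibBasis.map_le (DA.qB i) h)
  exact ((D.hp i).mem_or_mem h4).resolve_left hsP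

set_option maxHeartbeats 1600000 in
/-- the induction along the dévissage. -/
theorem univInj_aux : ∀ k i, i + k + 1 = D.n →
    ∀ (E : Type u) [AddCommGroup E] [Module R E] [Module.Flat R E] (u : D.M i →ₗ[R] E),
      Tors D DA i u →
      ∀ (Q : Type u) [AddCommGroup Q] [Module R Q], Function.Injective (u.lTensor Q) := by
  intro k
  induction k with
  | zero =>
    intro i hi E _ _ _ u hu Q _ _
    have hin : i < D.n := by omega
    have hi' : i = D.n - 1 := by omega
    haveI := free_B D i hin
    let αR : (Fin (D.r i) → D.B i) →ₗ[R] D.M i := (D.α i).restrictScalars R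
    let v : (Fin (D.r i) → D.B i) →ₗ[R] E := u ∘ₗ αR
    have hv : Function.Injective (v.lTensor Q) :=
      Groth.Agent.Lib.helper3.FreeFlatInj.lTensor_injective_of_free_of_flat v
        (fun x hx => key D DA i hin u hu x hx) Q
    have hsurj : Function.Surjective αR := by
      subst hi'
      exact D.cokerLast
    rw [injective_iff_map_eq_zero]
    intro z hz
    obtain ⟨w, rfl⟩ := LinearMap.lTensor_surjective Q hsurj z
    have h3 : (v.lTensor Q) w = 0 := by
      rw [LinearMap.lTensor_comp, LinearMap.comp_apply]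
      exact hz
    have h4 : w = 0 := hv (h3.trans (map_zero _).symm)
    rw [h4, map_zero]
  | succ k ih =>
    intro i hi E _ _ _ u hu
    have hin : i < D.n := by omega
    have hi1 : i + 1 < D.n := by omega
    haveI := free_B D i hin
    let αR : (Fin (D.r i) → D.B i) →ₗ[R] D.M i := (D.α i).restrictScalars R
    let pR : D.M i →ₗ[R] D.M (i + 1) := (proj D i hi1).restrictScalars R
    let v : (Fin (D.r i) → D.B i) →ₗ[R] E := u ∘ₗ αR
    have hv : ∀ (Q : Type u) [AddCommGroup Q] [Module R Q], Function.Injective (v.lTensor Q) :=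
      fun Q _ _ => Groth.Agent.Lib.helper3.FreeFlatInj.lTensor_injective_of_free_of_flat v
        (fun x hx => key D DA i hin u hu x hx) Q
    have hex : Function.Exact αR pR := proj_exact D i hi1
    have hsurj : Function.Surjective pR := proj_surjective D i hi1
    -- the quotient of `E`
    let πE : E →ₗ[R] E ⧸ LinearMap.range v := (LinearMap.range v).mkQ
    haveI hflatE' : Module.Flat R (E ⧸ LinearMap.range v) :=
      Groth.Agent.Lib.helper3.FibBasis.flat_of_exact_of_univInj v πE
        (LinearMap.exact_map_mkQ_range v) (Submodule.mkQ_surjective _)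
        (fun I => (LinearMap.lTensor_inj_iff_rTensor_inj _ v).mp (hv (R ⧸ I)))
    have hker : LinearMap.ker pR ≤ LinearMap.ker (πE ∘ₗ u) := by
      intro m hm
      rw [LinearMap.mem_ker] at hm
      obtain ⟨x, rfl⟩ := (hex m).mp hm
      rw [LinearMap.mem_ker, LinearMap.comp_apply]
      show (LinearMap.range v).mkQ (v x) = 0
      rw [Submodule.mkQ_apply, Submodule.Quotient.mk_eq_zero]
      exact LinearMap.mem_range_self v x
    obtain ⟨u', hu'⟩ := exists_factor pR hsurj (πE ∘ₗ u) hker
    have hTors' : Tors D DA (i + 1) u' := by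
      intro y hy
      obtain ⟨m, rfl⟩ := hsurj y
      have h1 : u' (pR m) = (LinearMap.range v).mkQ (u m) := LinearMap.congr_fun hu' m
      rw [h1] at hy
      obtain ⟨w, ⟨x0, rfl⟩, hw⟩ := exists_sub_mem_of_mkQ_mem (maximalIdeal R) _ (u m) hy
      have h2 : u (m - αR x0) ∈ maximalIdeal R • (⊤ : Submodule R E) := by
        rw [map_sub]
        exact hw
      obtain ⟨c, hc, hcx⟩ := hu (m - αR x0) h2
      obtain ⟨s, hs, hsx⟩ := exists_B_of_A D DA i hin (m - αR x0) c hc hcx
      have h3 : pR (s • (m - αR x0)) ∈ maximalIdeal R • (⊤ : Submodule R (D.M (i + 1))) :=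
        map_mem_smul_top (maximalIdeal R) pR hsx
      have h4 : pR (s • (m - αR x0)) = s • pR m := by
        show proj D i hi1 (s • (m - D.α i x0)) = s • proj D i hi1 m
        rw [map_smul, map_sub, (proj_exact D i hi1 (D.α i x0)).mpr ⟨x0, rfl⟩, sub_zero]
      rw [h4] at h3
      refine ⟨algebraMap (D.B i) (D.A (i + 1)) s, ?_, ?_⟩
      · intro hmem
        apply hs
        rw [← DA.qStep i hi1]
        exact hmem
      · rw [algebraMap_smul]
        exact h3
    have hu'inj := ih (i + 1) (by omega) (E ⧸ LinearMap.range v) u' hTors'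
    intro Q _ _
    exact univInj_of_exact αR pR hex hsurj u u' πE hu' hv hu'inj Q

include DA in
/-- **The injectivity criterion for a module with a complete dévissage.** Let `R` be local and let
`N/S/R` have a complete dévissage at `q`. If `u` is an `R`-linear map from `N` to a flat `R`-module
such that every element of the kernel of the reduction of `u` modulo `𝔪` is killed, modulo `𝔪`, by
an element of `S` outside `q`, then `u` is universally injective and `N` is flat over `R`. -/
theorem univInj_of_devissage (E : Type u) [AddCommGroup E] [Module R E] [Module.Flat R E]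
    (u : N →ₗ[R] E)
    (hu : ∀ x : N, u x ∈ maximalIdeal R • (⊤ : Submodule R E) →
      ∃ s : S, s ∉ q ∧ s • x ∈ maximalIdeal R • (⊤ : Submodule R N)) :
    (∀ (Q : Type u) [AddCommGroup Q] [Module R Q], Function.Injective (u.lTensor Q)) ∧
      Module.Flat R N := by
  let eN : N ≃ₗ[R] D.M 0 := D.isoN.restrictScalars R
  let u0 : D.M 0 →ₗ[R] E := u ∘ₗ eN.symm.toLinearMap
  have hT : Tors D DA 0 u0 := by
    intro x hx
    obtain ⟨s, hs, hsx⟩ := hu (eN.symm x) hx
    have h1 : eN (s • eN.symm x) ∈ maximalIdeal R • (⊤ : Submodule R (D.M 0)) :=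
      map_mem_smul_top (maximalIdeal R) eN.toLinearMap hsx
    have h2 : eN (s • eN.symm x) = s • x := by
      show D.isoN (s • D.isoN.symm x) = s • x
      rw [map_smul, LinearEquiv.apply_symm_apply]
    rw [h2] at h1
    refine ⟨algebraMap S (D.A 0) s, ?_, ?_⟩
    · intro hmem
      apply hs
      rw [← DA.q0]
      exact hmem
    · rw [algebraMap_smul]
      exact h1
  have hpos := D.pos
  have h0 := univInj_aux D DA (D.n - 1) 0 (by omega) E u0 hT
  have hall : ∀ (Q : Type u) [AddCommGroup Q] [Module R Q], Function.Injective (u.lTensor Q) := by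
    intro Q _ _
    have hcomp : u = u0 ∘ₗ eN.toLinearMap := by
      ext x
      simp [u0]
    rw [hcomp, LinearMap.lTensor_comp, LinearMap.coe_comp]
    exact (h0 Q).comp (LinearEquiv.lTensor Q eN).injective
  exact ⟨hall, flat_of_univInj u hall⟩

end Local

end Groth.Agent.Lib.helper26.RGInj
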