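/-
Helper library (helper26): content ideals and the Raynaud–Gruson injectivity criterion.
Part 5: content ideals and torsion-freeness modulo ideals of the base for a module with a complete
dévissage, after base change to the local ring of the étale neighbourhood.
-/
import Mathlib
import Groth.Agent.Lib.Helper26.RGFlat1
import Groth.Agent.Lib.Helper26.RGInj2
import Groth.Agent.Lib.Helper26.RGInj3
import Groth.Agent.Lib.Helper13.PureSp2

set_option autoImplicit false
set_option linter.style.haveILetI false
set_option linter.unusedSectionVars false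

namespace Groth.Agent.Lib.helper26.RGContent

open TensorProduct IsLocalRing Groth.Agent.Lib.helper26.RGInj
open scoped Pointwise

universe u

set_option maxHeartbeats 1600000 in
/-- Given a complete dévissage after étale localisation of a module flat at `q'`: over the local
ring `R'_{p'}`, the base change `NC` has content ideals, and every element outside the point `x'`
over `q'` is a nonzerodivisor on `NC` modulo every ideal of `R'_{p'}`. -/
theorem devissage_data {R' S' : Type u} [CommRing R'] [CommRing S'] [Algebra R' S']
    [Algebra.FiniteType R' S']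
    (N' : Type u) [AddCommGroup N'] [Module S' N'] [Module R' N'] [IsScalarTower R' S' N']
    [Module.Finite S' N']
    (p' : Ideal R') [p'.IsPrime] (q' : Ideal S') [q'.IsPrime] [q'.LiesOver p']
    (hfl' : FlatCA.FlatAt R' q' N') (hK' : FlatCA.HasCompleteDevissageAt R' S' N' p' q')
    (C : Type u) [CommRing C] [Algebra (Localization.AtPrime p') C] [Algebra S' C] [Algebra R' C]
    [IsScalarTower R' (Localization.AtPrime p') C] [IsScalarTower R' S' C]
    [Algebra.IsPushout R' (Localization.AtPrime p') S' C]
    (NC : Type u) [AddCommGroup NC] [Module C NC] [Module S' NC] [IsScalarTower S' C NC]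
    [Module (Localization.AtPrime p') NC] [IsScalarTower (Localization.AtPrime p') C NC]
    (f : N' →ₗ[S'] NC) (hf : IsBaseChange C f) :
    ∃ (x' : Ideal C) (_ : x'.IsPrime), x'.LiesOver q' ∧
      (∀ z : NC, ∃ I₁ : Ideal (Localization.AtPrime p'),
        z ∈ I₁.map (algebraMap (Localization.AtPrime p') C) • (⊤ : Submodule C NC) ∧
        ∀ J₁ : Ideal (Localization.AtPrime p'),
          z ∈ J₁.map (algebraMap (Localization.AtPrime p') C) • (⊤ : Submodule C NC) → I₁ ≤ J₁) ∧
      (∀ g : C, g ∉ x' → ∀ (J₁ : Ideal (Localization.AtPrime p')) (z : NC),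
        g • z ∈ J₁.map (algebraMap (Localization.AtPrime p') C) • (⊤ : Submodule C NC) →
        z ∈ J₁.map (algebraMap (Localization.AtPrime p') C) • (⊤ : Submodule C NC)) := by
  have hκ := Groth.Agent.Lib.helper26.RGFlat.bijective_mapₐ_atPrime p'
  obtain ⟨x', hx'prime, hx'𝔪, hx'q'⟩ :=
    Groth.Agent.Lib.helper3.BijRes.exists_prime_over p' (maximalIdeal (Localization.AtPrime p')) hκ
      S' C q'
  haveI := hx'prime
  haveI := hx'𝔪
  haveI := hx'q'
  have hKC : FlatCA.HasCompleteDevissageAt (Localization.AtPrime p') C NC
      (maximalIdeal (Localization.AtPrime p')) x' :=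
    Groth.Agent.Lib.helper26.DevTr.hasCompleteDevissageAt_baseChange R' S' N' p' q' hK'
      (Localization.AtPrime p') (maximalIdeal (Localization.AtPrime p')) hκ C NC f hf x'
  -- flatness
  letI modR'NC : Module R' NC := Module.compHom NC (algebraMap R' C)
  haveI twR'CNC : IsScalarTower R' C NC := IsScalarTower.of_algebraMap_smul fun _ _ => rfl
  haveI twR'ANC : IsScalarTower R' (Localization.AtPrime p') NC :=
    IsScalarTower.of_algebraMap_smul fun r x => by
      show algebraMap R' (Localization.AtPrime p') r • x = algebraMap R' C r • x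
      rw [IsScalarTower.algebraMap_apply R' (Localization.AtPrime p') C,
        algebraMap_smul C (algebraMap R' (Localization.AtPrime p') r) x]
  haveI : Module.Flat R' (Localization.AtPrime p') := IsLocalization.flat _ p'.primeCompl
  haveI : Algebra.IsPushout R' S' (Localization.AtPrime p') C := Algebra.IsPushout.symm inferInstance
  haveI : Module.Flat S' C :=
    Module.Flat.of_linearEquiv
      (Algebra.IsPushout.equiv R' S' (Localization.AtPrime p') C).symm.toLinearEquiv
  have hflC : FlatCA.FlatAt R' x' NC :=
    (Groth.Agent.Lib.helper3.FlatAtLib.flatAt_iff_of_isBaseChange (A := R') q' x' f hf).mp hfl'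
  have hflA : FlatCA.FlatAt (Localization.AtPrime p') x' NC := by
    unfold FlatCA.FlatAt at hflC ⊢
    haveI : IsScalarTower R' (Localization.AtPrime p') (LocalizedModule x'.primeCompl NC) :=
      IsScalarTower.of_algebraMap_smul (fun r x => by
        induction x using LocalizedModule.induction_on with
        | h m s =>
          rw [LocalizedModule.smul'_mk, LocalizedModule.smul'_mk, algebraMap_smul])
    exact (Module.flat_iff_of_isLocalization (Localization.AtPrime p') p'.primeCompl _).mpr hflC
  obtain ⟨D, ⟨DA⟩⟩ := hKC
  have h := Groth.Agent.Lib.helper3.CDev.main D DA hflA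
  haveI hfree : Module.Free (Localization.AtPrime p') NC := h.2.1
  refine ⟨x', hx'prime, hx'q', ?_, ?_⟩
  · intro z
    obtain ⟨I₁, hI1, hI2⟩ :=
      Groth.Agent.Lib.helper13.PureSp.exists_content_of_projective
        (A := Localization.AtPrime p') z
    refine ⟨I₁, (mem_smul_top_iff_map (S := C) I₁ z).mp hI1, fun J₁ hJ₁ => hI2 J₁ ?_⟩
    exact (mem_smul_top_iff_map (S := C) J₁ z).mpr hJ₁
  · intro g hg J₁ z hz
    have hz' : g • z ∈ J₁ • (⊤ : Submodule (Localization.AtPrime p') NC) :=
      (mem_smul_top_iff_map (S := C) J₁ (g • z)).mpr hz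
    rw [← mem_smul_top_iff_map (S := C) J₁ z]
    let ug : NC →ₗ[Localization.AtPrime p'] NC :=
      (LinearMap.lsmul C NC g).restrictScalars (Localization.AtPrime p')
    have hX := univInj_of_devissage D DA NC ug (fun x hx => ⟨g, hg, hx⟩)
    have hinj := hX.1 (Localization.AtPrime p' ⧸ J₁)
    rw [← Groth.Agent.Lib.helper13.PureSp.one_tmul_eq_zero_iff] at hz' ⊢
    apply hinj
    rw [map_zero, LinearMap.lTensor_tmul]
    exact hz'

end Groth.Agent.Lib.helper26.RGContent
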