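/-
Helper library (helper26): Mittag-Leffler modules in the Raynaud–Gruson setting.
Part 2: freeness and universal injectivity of the elements outside the point for a module with a
complete dévissage after étale localisation.
-/
import Mathlib
import Groth.Agent.Lib.Helper26.RGContent5

set_option autoImplicit false
set_option linter.style.haveILetI false
set_option linter.unusedSectionVars false

namespace Groth.Agent.Lib.helper26.MLRG

open TensorProduct IsLocalRing Groth.Agent.Lib.helper26.RGInj
open scoped Pointwise

universe u

set_option maxHeartbeats 1600000 in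
/-- Given a complete dévissage after étale localisation of a module flat at `q'`: over the local
ring `R'_{p'}`, the base change `NC` is free, and every element outside the point `x'` over `q'`
acts universally injectively on `NC`. -/
theorem devissage_data2 {R' S' : Type u} [CommRing R'] [CommRing S'] [Algebra R' S']
    [Algebra.FiniteType R' S']
    (N' : Type u) [AddCommGroup N'] [Module S' N'] [Module R' N'] [IsScalarTower R' S' N']
    [Module.Finite S' N']
    (p' : Ideal R') [p'.IsPrime] (q' : Ideal S') [q'.IsPrime] [q'.LiesOver p']
    (hfl' : FlatCA.FlatAt R' q' N') (hK' : FlatCA.HasCompleteDevissageAt R' S' N' p' q')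
    (C : Type u) [CommRing C] [Algebra (Localization.AtPrime p') C] [Algebra S' C] [Algebra R' C]
    [IsScalarTower R' (Localization.AtPrime p') C] [IsScalarTower R' S' C]
    [Algebra.IsPushout R' (Localization.AtPrime p') S' C]
    (NC : Type u) [AddCommGroup NC] [Module C NC] [Module S' NC] [IsScalarTower S' C NC]
    [Module (Localization.AtPrime p') NC] [IsScalarTower (Localization.AtPrime p') C NC]
    (f : N' →ₗ[S'] NC) (hf : IsBaseChange C f) :
    ∃ (x' : Ideal C) (_ : x'.IsPrime), x'.LiesOver q' ∧
      Module.Free (Localization.AtPrime p') NC ∧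
      (∀ g : C, g ∉ x' → FlatCA.UnivInj (Localization.AtPrime p')
        ((LinearMap.lsmul C NC g).restrictScalars (Localization.AtPrime p'))) := by
  have hκ := Groth.Agent.Lib.helper26.RGFlat.bijective_mapₐ_atPrime p'
  obtain ⟨x', hx'prime, hx'𝔪, hx'q'⟩ :=
    Groth.Agent.Lib.helper3.BijRes.exists_prime_over p' (maximalIdeal (Localization.AtPrime p')) hκ
      S' C q'
  haveI := hx'prime
  haveI := hx'𝔪
  haveI := hx'q'
  have hKC : FlatCA.HasCompleteDevissageAt (Localization.AtPrime p') C NC
      (maximalIdeal (Localization.AtPrime p')) x' :=
    Groth.Agent.Lib.helper26.DevTr.hasCompleteDevissageAt_baseChange R' S' N' p' q' hK'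
      (Localization.AtPrime p') (maximalIdeal (Localization.AtPrime p')) hκ C NC f hf x'
  -- flatness
  letI modR'NC : Module R' NC := Module.compHom NC (algebraMap R' C)
  haveI twR'CNC : IsScalarTower R' C NC := IsScalarTower.of_algebraMap_smul fun _ _ => rfl
  haveI twR'ANC : IsScalarTower R' (Localization.AtPrime p') NC :=
    IsScalarTower.of_algebraMap_smul fun r x => by
      show algebraMap R' (Localization.AtPrime p') r • x = algebraMap R' C r • x
      rw [IsScalarTower.algebraMap_apply R' (Localization.AtPrime p') C,
        algebraMap_smul C (algebraMap R' (Localization.AtPrime p') r) x]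
  haveI : Module.Flat R' (Localization.AtPrime p') := IsLocalization.flat _ p'.primeCompl
  haveI : Algebra.IsPushout R' S' (Localization.AtPrime p') C := Algebra.IsPushout.symm inferInstance
  haveI : Module.Flat S' C :=
    Module.Flat.of_linearEquiv
      (Algebra.IsPushout.equiv R' S' (Localization.AtPrime p') C).symm.toLinearEquiv
  have hflC : FlatCA.FlatAt R' x' NC :=
    (Groth.Agent.Lib.helper3.FlatAtLib.flatAt_iff_of_isBaseChange (A := R') q' x' f hf).mp hfl'
  have hflA : FlatCA.FlatAt (Localization.AtPrime p') x' NC := by
    unfold FlatCA.FlatAt at hflC ⊢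
    haveI : IsScalarTower R' (Localization.AtPrime p') (LocalizedModule x'.primeCompl NC) :=
      IsScalarTower.of_algebraMap_smul (fun r x => by
        induction x using LocalizedModule.induction_on with
        | h m s =>
          rw [LocalizedModule.smul'_mk, LocalizedModule.smul'_mk, algebraMap_smul])
    exact (Module.flat_iff_of_isLocalization (Localization.AtPrime p') p'.primeCompl _).mpr hflC
  obtain ⟨D, ⟨DA⟩⟩ := hKC
  have h := Groth.Agent.Lib.helper3.CDev.main D DA hflA
  haveI hfree : Module.Free (Localization.AtPrime p') NC := h.2.1
  refine ⟨x', hx'prime, hx'q', hfree, ?_⟩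
  intro g hg
  let ug : NC →ₗ[Localization.AtPrime p'] NC :=
    (LinearMap.lsmul C NC g).restrictScalars (Localization.AtPrime p')
  exact (univInj_of_devissage D DA NC ug (fun x hx => ⟨g, hg, hx⟩)).1

end Groth.Agent.Lib.helper26.MLRG
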