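/-
Helper library (helper26): content ideals and the Raynaud–Gruson injectivity criterion.
Part 3: over a henselian local ring, the local ring of an elementary étale neighbourhood of the
closed point is the ring itself.
-/
import Mathlib
import Groth.Prelude.Def_FlatCA
import Groth.Agent.Lib.Helper24.HenselLocal

set_option autoImplicit false
set_option linter.style.haveILetI false
set_option linter.unusedSectionVars false

namespace Groth.Agent.Lib.helper26.RGContent

open IsLocalRing

universe u

/-- **Elementary étale neighbourhoods of a henselian local ring are trivial.** -/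
theorem bijective_algebraMap_atPrime {A : Type u} [CommRing A] [HenselianLocalRing A]
    {R' : Type u} [CommRing R'] [Algebra A R'] (p' : Ideal R') [p'.IsPrime]
    (h : FlatCA.IsEtaleNhd A R' (maximalIdeal A) p') :
    Function.Bijective (algebraMap A (Localization.AtPrime p')) := by
  obtain ⟨het, hlo, hbij⟩ := h
  haveI := het
  haveI := hlo
  have hsurj : Function.Surjective (algebraMap A p'.ResidueField) := by
    intro z
    obtain ⟨w, rfl⟩ := hbij.2 z
    obtain ⟨a, rfl⟩ := (maximalIdeal A).algebraMap_residueField_surjective w
    refine ⟨a, ?_⟩
    rw [Ideal.ResidueField.mapₐ_apply, Ideal.ResidueField.map_algebraMap]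
    exact IsScalarTower.algebraMap_apply A R' p'.ResidueField a
  obtain ⟨s, hs⟩ := Groth.Agent.Lib.helper24.HenselLocal.exists_section_of_etale p' hsurj
  have hmem : ∀ r : R', r ∈ p' ↔ s r ∈ maximalIdeal A := fun r => by
    rw [← hs]
    rfl
  -- the two maps to the local ring
  let ι : R' →ₐ[A] Localization.AtPrime p' := IsScalarTower.toAlgHom A R' (Localization.AtPrime p')
  let ι' : R' →ₐ[A] Localization.AtPrime p' := (Algebra.ofId A (Localization.AtPrime p')).comp s
  have hιι' : ι = ι' := by
    apply Groth.Agent.Lib.helper24.HenselLocal.algHom_ext_of_residue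
    intro r
    have h1 : ι r - ι' r = algebraMap R' (Localization.AtPrime p') (r - algebraMap A R' (s r)) := by
      rw [map_sub, ← IsScalarTower.algebraMap_apply A R' (Localization.AtPrime p')]
      rfl
    rw [h1, IsLocalization.AtPrime.to_map_mem_maximal_iff (Localization.AtPrime p') p', hmem,
      map_sub, AlgHom.commutes]
    simp
  constructor
  · -- injectivity: faithful flatness, or the retraction
    have hunit : ∀ y : p'.primeCompl, IsUnit (s.toRingHom y) := by
      intro y
      have : s (y : R') ∉ maximalIdeal A := fun hy => y.2 ((hmem _).mpr hy)
      by_contra hnu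
      exact this hnu
    let σ : Localization.AtPrime p' →+* A := IsLocalization.lift (M := p'.primeCompl) hunit
    have hσ : ∀ a : A, σ (algebraMap A (Localization.AtPrime p') a) = a := by
      intro a
      rw [IsScalarTower.algebraMap_apply A R' (Localization.AtPrime p'), IsLocalization.lift_eq]
      exact s.commutes a
    exact Function.LeftInverse.injective hσ
  · intro z
    obtain ⟨r, y, rfl⟩ := IsLocalization.exists_mk'_eq p'.primeCompl z
    have hy : s (y : R') ∉ maximalIdeal A := fun hy => y.2 ((hmem _).mpr hy)
    have hyu : IsUnit (s (y : R')) := by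
      by_contra hnu
      exact hy hnu
    obtain ⟨v, hv⟩ := hyu.exists_right_inv
    refine ⟨s r * v, ?_⟩
    rw [IsLocalization.eq_mk'_iff_mul_eq]
    have h1 : algebraMap R' (Localization.AtPrime p') (y : R') =
        algebraMap A (Localization.AtPrime p') (s (y : R')) := by
      have := congrArg (fun f : R' →ₐ[A] Localization.AtPrime p' => f (y : R')) hιι'
      exact this
    have h2 : algebraMap R' (Localization.AtPrime p') r =
        algebraMap A (Localization.AtPrime p') (s r) := by
      have := congrArg (fun f : R' →ₐ[A] Localization.AtPrime p' => f r) hιι'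
      exact this
    rw [h1, h2, ← map_mul]
    congr 1
    rw [mul_assoc, mul_comm v, hv, mul_one]

end Groth.Agent.Lib.helper26.RGContent
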