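/-
Helper library (helper26): Mittag-Leffler modules in the Raynaud–Gruson setting.
Part 3: over a henselian local ring, the localization at a point of the closed fibre of a finite
module over a finite type algebra which is flat at that point is Mittag-Leffler.
-/
import Mathlib
import Groth.Agent.Lib.Helper26.MLRG1
import Groth.Agent.Lib.Helper26.MLRG2
import Groth.Agent.Lib.Helper26.RGContent3
import Groth.Agent.Lib.Helper26.RGFlat5
import Groth.Agent.Lib.Helper6.MLProj

set_option autoImplicit false
set_option linter.style.haveILetI false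
set_option linter.unusedSectionVars false

namespace Groth.Agent.Lib.helper26.MLRG

open TensorProduct IsLocalRing Groth.Agent.Lib.helper26.RGInj Groth.Agent.Lib.helper26.RGContent
open scoped Pointwise

universe u

set_option maxHeartbeats 3200000 in
/-- **Mittag-Leffler at a point of the closed fibre.** Let `A` be a henselian local ring, `B` a
finite type `A`-algebra, `N₁` a finite `B`-module and `q` a prime of `B` over the maximal ideal
such that `N₁` is flat over `A` at `q`. Then the localization of `N₁` at `q` is a Mittag-Leffler
`A`-module. -/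
theorem isMittagLeffler_of_flatAt {A : Type u} [CommRing A] [HenselianLocalRing A]
    {B : Type u} [CommRing B] [Algebra A B] [Algebra.FiniteType A B]
    (N₁ : Type u) [AddCommGroup N₁] [Module B N₁] [Module A N₁] [IsScalarTower A B N₁]
    [Module.Finite B N₁]
    (q : Ideal B) [q.IsPrime] [q.LiesOver (maximalIdeal A)] (hflat : FlatCA.FlatAt A q N₁)
    {N : Type u} [AddCommGroup N] [Module B N] [Module A N] [IsScalarTower A B N]
    (f : N₁ →ₗ[B] N) [IsLocalizedModule q.primeCompl f] :
    CAlg.IsMittagLeffler A N := by
  by_cases hsupp : ∃ x ∈ Module.support ((maximalIdeal A).Fiber B)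
      (FlatCA.fiberMod (maximalIdeal A) B N₁), x.asIdeal = FlatCA.fiberIdeal (maximalIdeal A) q
  · obtain ⟨R', S', _, _, algAR', algBS', algR'S', algAS', twAR'S', twABS', p', q', hp', hq', hEtR,
      hEtS, hq'p', hall⟩ := Groth.Agent.S1252.result N₁ (maximalIdeal A) q hsupp
    haveI : Algebra.Etale A R' := hEtR.1
    haveI : Algebra.Etale B S' := hEtS.1
    haveI hq'q : q'.LiesOver q := hEtS.2.1
    have hbij := bijective_algebraMap_atPrime p' hEtR
    obtain ⟨C, _, algR'C, algA₁C, algS'C, twR'A₁C, twR'S'C, hpush⟩ :=
      Groth.Agent.Lib.helper26.RGFlat.exists_pushout_model R' (Localization.AtPrime p') S'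
    -- the algebra structures on `C`
    letI algBC : Algebra B C := ((algebraMap S' C).comp (algebraMap B S')).toAlgebra
    haveI twBS'C : IsScalarTower B S' C := IsScalarTower.of_algebraMap_eq fun _ => rfl
    letI algAC : Algebra A C := ((algebraMap R' C).comp (algebraMap A R')).toAlgebra
    haveI twAR'C : IsScalarTower A R' C := IsScalarTower.of_algebraMap_eq fun _ => rfl
    haveI twABC : IsScalarTower A B C := IsScalarTower.of_algebraMap_eq fun a => by
      show algebraMap R' C (algebraMap A R' a) = algebraMap S' C (algebraMap B S' (algebraMap A B a))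
      rw [← IsScalarTower.algebraMap_apply A B S', IsScalarTower.algebraMap_apply A R' S',
        ← IsScalarTower.algebraMap_apply R' S' C]
    haveI twAA₁C : IsScalarTower A (Localization.AtPrime p') C :=
      IsScalarTower.of_algebraMap_eq fun a => by
        show algebraMap R' C (algebraMap A R' a) = _
        rw [IsScalarTower.algebraMap_apply A R' (Localization.AtPrime p'),
          ← IsScalarTower.algebraMap_apply R' (Localization.AtPrime p') C]
    -- the base changes
    have hK' := hall (S' ⊗[B] N₁) (TensorProduct.mk B S' N₁ 1) (TensorProduct.isBaseChange B N₁ S')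
    haveI : Algebra.FiniteType R' S' := by
      haveI : Algebra.FiniteType B S' := inferInstance
      haveI : Algebra.FiniteType A S' := Algebra.FiniteType.trans (S := B) inferInstance inferInstance
      exact Algebra.FiniteType.of_restrictScalars_finiteType A R' S'
    have hfl' : FlatCA.FlatAt R' q' (S' ⊗[B] N₁) :=
      (Groth.Agent.Lib.helper3.ElemDev.chain₁ (R := A) (R' := R') (TensorProduct.mk B S' N₁ 1)
        (TensorProduct.isBaseChange B N₁ S') (LinearEquiv.refl S' (S' ⊗[B] N₁)) q q').mp hflat
    -- the module `NC`
    let ι : N₁ →ₗ[B] C ⊗[B] N₁ := TensorProduct.mk B C N₁ 1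
    have hι : IsBaseChange C ι := TensorProduct.isBaseChange B N₁ C
    haveI twS'CNC : IsScalarTower S' C (C ⊗[B] N₁) := inferInstance
    haveI twBS'NC : IsScalarTower B S' (C ⊗[B] N₁) := inferInstance
    haveI twA₁CNC : IsScalarTower (Localization.AtPrime p') C (C ⊗[B] N₁) := inferInstance
    let h : S' ⊗[B] N₁ →ₗ[S'] C ⊗[B] N₁ := (TensorProduct.isBaseChange B N₁ S').lift ι
    have hcomp : (h.restrictScalars B).comp (TensorProduct.mk B S' N₁ 1) = ι := by
      ext m
      exact (TensorProduct.isBaseChange B N₁ S').lift_eq ι m
    have hh : IsBaseChange C h := by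
      apply IsBaseChange.of_comp (TensorProduct.isBaseChange B N₁ S')
      rw [hcomp]
      exact hι
    obtain ⟨x', hx'prime, hx'q', hfree, huniv⟩ :=
      devissage_data2 (S' ⊗[B] N₁) p' q' hfl' hK' C (C ⊗[B] N₁) h hh
    haveI := hx'prime
    haveI := hx'q'
    haveI hx'q : x'.LiesOver q := Ideal.LiesOver.trans x' q' q
    have hcomap : ∀ b : B, b ∉ q → algebraMap B C b ∉ x' := by
      intro b hb hmem
      apply hb
      rw [Ideal.LiesOver.over (p := q) (P := x')]
      exact hmem
    -- flatness of `B → C`
    haveI : Module.Flat R' (Localization.AtPrime p') := IsLocalization.flat _ p'.primeCompl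
    haveI : Algebra.IsPushout R' S' (Localization.AtPrime p') C := Algebra.IsPushout.symm hpush
    haveI : Module.Flat S' C :=
      Module.Flat.of_linearEquiv
        (Algebra.IsPushout.equiv R' S' (Localization.AtPrime p') C).symm.toLinearEquiv
    haveI : Module.Flat B S' := inferInstance
    haveI : Module.Flat B C := Module.Flat.trans B S' C
    -- freeness over `A`
    let e : Localization.AtPrime p' ≃+* A := (RingEquiv.ofBijective _ hbij).symm
    have he : ∀ (c : Localization.AtPrime p') (x : C ⊗[B] N₁), e c • x = c • x := by
      intro c x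
      rw [← algebraMap_smul (Localization.AtPrime p') (e c) x]
      congr 1
      exact (RingEquiv.ofBijective _ hbij).apply_symm_apply c
    haveI hfreeA : Module.Free A (C ⊗[B] N₁) :=
      Module.Free.of_basis ((Module.Free.chooseBasis (Localization.AtPrime p') (C ⊗[B] N₁)).mapCoeffs
        e he)
    have hML : CAlg.IsMittagLeffler A (C ⊗[B] N₁) :=
      Groth.Agent.Lib.helper6.MLDom.ml_of_projective A (C ⊗[B] N₁)
    refine ml_of_local_model q x' f hML ?_
    intro b hbq Q _ _
    have h1 := univInj_restrictScalars (A := A) _ (huniv (algebraMap B C b) (hcomap b hbq))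
    have h2 := (LinearMap.lTensor_inj_iff_rTensor_inj _ _).mp (h1 Q)
    have h3 : ∀ w : (C ⊗[B] N₁) ⊗[A] Q,
        ((((LinearMap.lsmul C (C ⊗[B] N₁) (algebraMap B C b)).restrictScalars
          (Localization.AtPrime p')).restrictScalars A).rTensor Q) w = b • w := by
      intro w
      induction w using TensorProduct.induction_on with
      | zero => simp
      | tmul m z =>
        rw [LinearMap.rTensor_tmul, TensorProduct.smul_tmul']
        congr 1
      | add a b' ha hb => rw [map_add, ha, hb, smul_add]
    intro w₁ w₂ hw
    apply h2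
    rw [h3, h3]
    exact hw
  · obtain ⟨g, hgann, hgq⟩ :=
      Groth.Agent.Lib.helper26.DevMain.exists_annihilator_notMem (maximalIdeal A) N₁ q hsupp
    have hN : ∀ y : N, y = 0 := by
      intro y
      obtain ⟨⟨n, s⟩, hs⟩ := IsLocalizedModule.surj q.primeCompl f y
      have h1 : (s : B) • y = f n := hs
      have h2 : g • ((s : B) • y) = 0 := by
        rw [h1, ← map_smul, Module.mem_annihilator.mp hgann n, map_zero]
      have h3 : (s : B) • y = 0 :=
        IsLocalizedModule.smul_injective f (⟨g, hgq⟩ : q.primeCompl) (h2.trans (smul_zero _).symm)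
      exact IsLocalizedModule.smul_injective f s (h3.trans (smul_zero _).symm)
    intro κ Q _ _
    haveI : Subsingleton N := ⟨fun a b => (hN a).trans (hN b).symm⟩
    intro a b _
    exact Subsingleton.elim a b

end Groth.Agent.Lib.helper26.MLRG
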