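import Groth.Prelude.Def_MeroDiv
import Mathlib

/-!
Helper lemmas on maximal points of schemes and minimal primes (used by S5093).
-/

set_option autoImplicit false
universe u
open CategoryTheory AlgebraicGeometry TopologicalSpace

namespace Groth.Agent.Lib.helper26

/-- In a nontrivial ring with a single prime ideal, nonzerodivisors are units. -/
theorem isUnit_of_mem_nonZeroDivisors_of_subsingleton {S : Type*} [CommRing S] [Nontrivial S]
    [Subsingleton (PrimeSpectrum S)] {g : S} (hg : g ∈ nonZeroDivisors S) : IsUnit g := by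
  by_contra hu
  obtain ⟨M, hM, hgM⟩ := exists_max_ideal_of_mem_nonunits hu
  have hnil : IsNilpotent g := by
    rw [nilpotent_iff_mem_prime]
    intro J hJ
    have : (⟨J, hJ⟩ : PrimeSpectrum S) = ⟨M, hM.isPrime⟩ := Subsingleton.elim _ _
    have : J = M := congrArg PrimeSpectrum.asIdeal this
    rw [this]; exact hgM
  obtain ⟨n, hn⟩ := hnil
  have : g ^ n ∈ nonZeroDivisors S := pow_mem hg n
  rw [hn] at this
  exact zero_notMem_nonZeroDivisors this

/-- In a reduced ring, an element avoiding all minimal primes is a nonzerodivisor. -/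
theorem mem_nonZeroDivisors_of_forall_notMem_minimalPrimes {R : Type*} [CommRing R] [IsReduced R]
    {t : R} (ht : ∀ q ∈ minimalPrimes R, t ∉ q) : t ∈ nonZeroDivisors R := by
  rw [mem_nonZeroDivisors_iff_right]
  intro a hta
  have : a ∈ sInf (minimalPrimes R) := by
    rw [Submodule.mem_sInf]
    intro q hq
    have hqp : Ideal.IsPrime q := hq.1.1
    have : a * t ∈ q := by rw [hta]; exact q.zero_mem
    exact (hqp.mem_or_mem this).resolve_right (ht q hq)
  have h2 : sInf (minimalPrimes R) = (⊥ : Ideal R).radical := Ideal.sInf_minimalPrimes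
  rw [h2] at this
  have hnil : IsNilpotent a := by
    obtain ⟨n, hn⟩ := this
    exact ⟨n, by simpa using hn⟩
  exact hnil.eq_zero

variable {X : Scheme.{u}} {W : X.Opens} (hW : IsAffineOpen W)

theorem fromSpec_mem (y : PrimeSpectrum Γ(X, W)) : hW.fromSpec y ∈ W := by
  have : hW.fromSpec y ∈ Set.range hW.fromSpec := ⟨y, rfl⟩
  rw [hW.range_fromSpec] at this
  exact this

/-- A point of an affine open given by a minimal prime has no proper generization. -/
theorem isMaximalPoint_fromSpec_of_mem_minimalPrimes (y : PrimeSpectrum Γ(X, W))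
    (hy : y.asIdeal ∈ minimalPrimes Γ(X, W)) (z : X) (hz : z ⤳ hW.fromSpec y) :
    z = hW.fromSpec y := by
  have hzW : z ∈ W := hz.mem_open W.isOpen (fromSpec_mem hW y)
  have : z ∈ Set.range hW.fromSpec := by rw [hW.range_fromSpec]; exact hzW
  obtain ⟨z', rfl⟩ := this
  have hz' : z' ⤳ y :=
    (hW.fromSpec.isOpenEmbedding.isInducing.specializes_iff).mp hz
  have hz'' : (show PrimeSpectrum Γ(X, W) from z') ≤ y :=
    (PrimeSpectrum.le_iff_specializes (show PrimeSpectrum Γ(X, W) from z') y).mpr hz'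
  have hle : y.asIdeal ≤ PrimeSpectrum.asIdeal (show PrimeSpectrum Γ(X, W) from z') :=
    hy.2 ⟨PrimeSpectrum.isPrime (show PrimeSpectrum Γ(X, W) from z'), bot_le⟩ hz''
  have : (show PrimeSpectrum Γ(X, W) from z') = y := PrimeSpectrum.ext (le_antisymm hz'' hle)
  exact congrArg hW.fromSpec this

/-- The prime of an affine open corresponding to a point with no proper generization is minimal. -/
theorem mem_minimalPrimes_of_isMaximalPoint (y : PrimeSpectrum Γ(X, W))
    (hy : ∀ z : X, z ⤳ hW.fromSpec y → z = hW.fromSpec y) :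
    y.asIdeal ∈ minimalPrimes Γ(X, W) := by
  refine ⟨⟨y.2, bot_le⟩, ?_⟩
  rintro p ⟨hp, -⟩ hpy
  let y' : PrimeSpectrum Γ(X, W) := ⟨p, hp⟩
  have h1 : y' ⤳ y := (PrimeSpectrum.le_iff_specializes y' y).mp hpy
  have h2 : hW.fromSpec y' ⤳ hW.fromSpec y := h1.map hW.fromSpec.continuous
  have h3 := hy _ h2
  have h4 : y' = y := hW.fromSpec.isOpenEmbedding.injective h3
  have : p = y.asIdeal := congrArg PrimeSpectrum.asIdeal h4
  rw [this]

/-- At a point with no proper generization, nonzerodivisors of the local ring are units. -/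
theorem isUnit_of_mem_nonZeroDivisors_stalk_of_isMaximalPoint (Y : Scheme.{u}) (y : Y)
    (hy : ∀ z : Y, z ⤳ y → z = y) {g : Y.presheaf.stalk y}
    (hg : g ∈ nonZeroDivisors (Y.presheaf.stalk y)) : IsUnit g := by
  obtain ⟨_, ⟨V, hV, rfl⟩, hyV, -⟩ :=
    (Y.isBasis_affineOpens).exists_subset_of_mem_open (Set.mem_univ y) isOpen_univ
  set y' := hV.primeIdealOf ⟨y, hyV⟩ with hy'
  have hfy : hV.fromSpec y' = y := hV.fromSpec_primeIdealOf ⟨y, hyV⟩
  have hmin : y'.asIdeal ∈ minimalPrimes Γ(Y, V) :=
    mem_minimalPrimes_of_isMaximalPoint hV y' (by rw [hfy]; exact hy)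
  let _ := Y.presheaf.algebra_section_stalk ⟨y, hyV⟩
  have := hV.isLocalization_stalk ⟨y, hyV⟩
  have : Subsingleton (PrimeSpectrum (Y.presheaf.stalk y)) :=
    @IsLocalization.subsingleton_primeSpectrum_of_mem_minimalPrimes _ _ y'.asIdeal hmin
      (Y.presheaf.stalk y) _ _ this
  exact isUnit_of_mem_nonZeroDivisors_of_subsingleton hg

end Groth.Agent.Lib.helper26
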