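import Groth.Prelude.Def_MeroDiv
import Mathlib

/-!
Morphisms between the sheaves of modules `Mero.modOf P` built from pointwise linear maps.
-/

set_option autoImplicit false
universe u
open CategoryTheory AlgebraicGeometry TopologicalSpace Opposite

namespace Groth.Agent.Lib.helper26

open Mero

variable {X : Scheme.{u}} {T T' T'' : X → Type u}
  [∀ x, AddCommGroup (T x)] [∀ x, Module (X.presheaf.stalk x) (T x)]
  [∀ x, AddCommGroup (T' x)] [∀ x, Module (X.presheaf.stalk x) (T' x)]
  [∀ x, AddCommGroup (T'' x)] [∀ x, Module (X.presheaf.stalk x) (T'' x)]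
  (P : TopCat.LocalPredicate T) [IsModPred P] (Q : TopCat.LocalPredicate T') [IsModPred Q]
  (R : TopCat.LocalPredicate T'') [IsModPred R]

/-- A family of pointwise linear maps carrying the predicate `P` into `Q` induces a morphism of
sheaves of modules `modOf P ⟶ modOf Q`. -/
noncomputable def modOfHom (φ : ∀ x, T x →ₗ[X.presheaf.stalk x] T' x)
    (hφ : ∀ (U : X.Opens) (f : ∀ x : U, T x.1), P.pred f → Q.pred (fun x => φ x.1 (f x))) :
    modOf P ⟶ modOf Q :=
  ⟨PresheafOfModules.homMk (M₁ := (modOf P).val) (M₂ := (modOf Q).val)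
    { app := fun U => AddCommGrpCat.ofHom
        { toFun := fun (f : Γ(modOf P, U.unop)) =>
            (⟨fun x => φ x.1 (f.1 x), hφ _ f.1 f.2⟩ : Γ(modOf Q, U.unop))
          map_zero' := Subtype.ext (funext fun x => (φ x.1).map_zero)
          map_add' := fun a b => Subtype.ext (funext fun x => (φ x.1).map_add _ _) }
      naturality := by intros; rfl }
    (fun U r m => Subtype.ext (funext fun x => (φ x.1).map_smul _ _))⟩

@[simp] theorem modOfHom_app_apply (φ : ∀ x, T x →ₗ[X.presheaf.stalk x] T' x)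
    (hφ : ∀ (U : X.Opens) (f : ∀ x : U, T x.1), P.pred f → Q.pred (fun x => φ x.1 (f x)))
    (U : X.Opens) (s : Γ(modOf P, U)) (x : U) :
    ((modOfHom P Q φ hφ).app U s).1 x = φ x.1 (s.1 x) := rfl

/-- Pointwise inverse families of linear maps give an isomorphism `modOf P ≅ modOf Q`. -/
noncomputable def modOfIso (φ : ∀ x, T x →ₗ[X.presheaf.stalk x] T' x)
    (ψ : ∀ x, T' x →ₗ[X.presheaf.stalk x] T x)
    (hφ : ∀ (U : X.Opens) (f : ∀ x : U, T x.1), P.pred f → Q.pred (fun x => φ x.1 (f x)))
    (hψ : ∀ (U : X.Opens) (f : ∀ x : U, T' x.1), Q.pred f → P.pred (fun x => ψ x.1 (f x)))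
    (h₁ : ∀ x t, ψ x (φ x t) = t) (h₂ : ∀ x t, φ x (ψ x t) = t) : modOf P ≅ modOf Q where
  hom := modOfHom P Q φ hφ
  inv := modOfHom Q P ψ hψ
  hom_inv_id := by
    apply Scheme.Modules.hom_ext
    intro U
    ext s
    exact Subtype.ext (funext fun x => h₁ x.1 _)
  inv_hom_id := by
    apply Scheme.Modules.hom_ext
    intro U
    ext s
    exact Subtype.ext (funext fun x => h₂ x.1 _)

end Groth.Agent.Lib.helper26
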