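import Mathlib
import Groth.Agent.Lib.Helper26.NF5

/-!
# Weakly regular sequences from the associated graded module (helper26)

If `J` lies in the Jacobson radical of the Noetherian ring `A`, `M` is a finite `A`-module and `fs`
is weakly regular on every `J^i M / J^(i+1) M`, then `fs` is weakly regular on `M`.
-/

set_option autoImplicit false
set_option linter.style.haveILetI false
universe u

namespace Groth.Agent.Lib.helper26.NF

open Pointwise RingTheory.Sequence

variable {A : Type u} [CommRing A]

section Inj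

variable {M₁ M₂ : Type u} [AddCommGroup M₁] [Module A M₁] [AddCommGroup M₂] [Module A M₂]

/-- subquotients are preserved by injective maps. -/
noncomputable def subQMapEquiv (φ : M₁ →ₗ[A] M₂) (hφ : Function.Injective φ)
    (X Y : Submodule A M₁) : SubQ X Y ≃ₗ[A] SubQ (X.map φ) (Y.map φ) := by
  let ψ : ↥X →ₗ[A] SubQ (X.map φ) (Y.map φ) := (Submodule.mkQ _) ∘ₗ (φ.submoduleMap X)
  have hsurj : Function.Surjective ψ :=
    (Submodule.mkQ_surjective _).comp (LinearMap.submoduleMap_surjective _ _)
  have hker : LinearMap.ker ψ = Y.submoduleOf X := by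
    ext x
    rw [LinearMap.mem_ker, mem_submoduleOf_iff]
    change (Submodule.Quotient.mk (φ.submoduleMap X x) : SubQ (X.map φ) (Y.map φ)) = 0 ↔ _
    rw [subQ_mk_eq_zero]
    change φ (x : M₁) ∈ Y.map φ ↔ _
    constructor
    · rintro ⟨y, hy, hyx⟩
      rw [← hφ hyx]
      exact hy
    · intro hx
      exact Submodule.mem_map_of_mem hx
  exact (Submodule.quotEquivOfEq _ _ hker).symm.trans (ψ.quotKerEquivOfSurjective hsurj)

end Inj

section W

variable {M : Type u} [AddCommGroup M] [Module A M]

/-- regularity of `f` modulo `J^i M` from regularity on the graded pieces. -/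
theorem mem_pow_smul_of_smul_mem (J : Ideal A) (f : A)
    (h : ∀ i, IsSMulRegular (SubQ (J ^ i • (⊤ : Submodule A M)) (J ^ (i + 1) • (⊤ : Submodule A M))) f)
    (i : ℕ) (m : M) (hm : f • m ∈ J ^ i • (⊤ : Submodule A M)) : m ∈ J ^ i • (⊤ : Submodule A M) := by
  induction i with
  | zero =>
    rw [pow_zero_smul']
    exact Submodule.mem_top
  | succ i ih =>
    have hle : J ^ (i + 1) • (⊤ : Submodule A M) ≤ J ^ i • (⊤ : Submodule A M) :=
      Submodule.smul_mono_left (Ideal.pow_le_pow_right (Nat.le_succ i))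
    have hmi : m ∈ J ^ i • (⊤ : Submodule A M) := ih (hle hm)
    have h0 : f • (Submodule.Quotient.mk ⟨m, hmi⟩ :
        SubQ (J ^ i • (⊤ : Submodule A M)) (J ^ (i + 1) • (⊤ : Submodule A M))) = f • 0 := by
      rw [smul_zero, ← Submodule.Quotient.mk_smul, subQ_mk_eq_zero]
      exact hm
    have h1 := h i h0
    rw [subQ_mk_eq_zero] at h1
    exact h1

/-- `(X_i/X_(i+1))/f ≃ X_i/(X_(i+1) + fM)` when `f` is regular on `M/X_i`. -/
noncomputable def quotSMulTopSubQEquiv (f : A) (X Y : Submodule A M) (hYX : Y ≤ X)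
    (hreg : ∀ m : M, f • m ∈ X → m ∈ X) :
    SubQ X (Y ⊔ f • (⊤ : Submodule A M)) ≃ₗ[A] QuotSMulTop f (SubQ X Y) := by
  let ψ : ↥X →ₗ[A] QuotSMulTop f (SubQ X Y) := (Submodule.mkQ _) ∘ₗ (Submodule.mkQ _)
  have hsurj : Function.Surjective ψ :=
    (Submodule.mkQ_surjective _).comp (Submodule.mkQ_surjective _)
  have hker : LinearMap.ker ψ = (Y ⊔ f • (⊤ : Submodule A M)).submoduleOf X := by
    ext x
    rw [LinearMap.mem_ker, mem_submoduleOf_iff]
    change Submodule.Quotient.mk (Submodule.Quotient.mk x : SubQ X Y) = 0 ↔ _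
    rw [Submodule.Quotient.mk_eq_zero, Submodule.mem_smul_pointwise_iff_exists]
    constructor
    · rintro ⟨z, -, hz⟩
      obtain ⟨x', rfl⟩ := Submodule.Quotient.mk_surjective _ z
      rw [← Submodule.Quotient.mk_smul, Submodule.Quotient.eq, mem_submoduleOf_iff] at hz
      have h1 : (x : M) = f • (x' : M) - ((f • x' - x : ↥X) : M) := by
        rw [Submodule.coe_sub, Submodule.coe_smul]
        abel
      rw [h1]
      refine Submodule.sub_mem _ (Submodule.mem_sup_right ?_) (Submodule.mem_sup_left hz)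
      exact Submodule.smul_mem_pointwise_smul _ f _ Submodule.mem_top
    · intro hx
      obtain ⟨y, hy, w, hw, hyw⟩ := Submodule.mem_sup.mp hx
      obtain ⟨m, -, rfl⟩ := (Submodule.mem_smul_pointwise_iff_exists _ _ _).mp hw
      have hfm : f • m ∈ X := by
        have : f • m = (x : M) - y := by rw [← hyw]; abel
        rw [this]
        exact X.sub_mem x.2 (hYX hy)
      have hm : m ∈ X := hreg m hfm
      refine ⟨Submodule.Quotient.mk ⟨m, hm⟩, Submodule.mem_top, ?_⟩
      rw [← Submodule.Quotient.mk_smul, Submodule.Quotient.eq, mem_submoduleOf_iff]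
      have h1 : ((f • (⟨m, hm⟩ : ↥X) - x : ↥X) : M) = -y := by
        rw [Submodule.coe_sub, Submodule.coe_smul]
        change f • m - (x : M) = -y
        rw [← hyw]
        abel
      rw [h1]
      exact Y.neg_mem hy
  exact (Submodule.quotEquivOfEq _ _ hker).symm.trans (ψ.quotKerEquivOfSurjective hsurj)

/-- **Weak regularity from the associated graded module.** -/
theorem isWeaklyRegular_of_gr [IsNoetherianRing A] (J : Ideal A)
    (hJ : J ≤ (⊥ : Ideal A).jacobson) (fs : List A) :
    ∀ (M : Type u) [AddCommGroup M] [Module A M] [Module.Finite A M],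
      (∀ i, IsWeaklyRegular
        (SubQ (J ^ i • (⊤ : Submodule A M)) (J ^ (i + 1) • (⊤ : Submodule A M))) fs) →
        IsWeaklyRegular M fs := by
  induction fs with
  | nil =>
    intro M _ _ _ _
    exact IsWeaklyRegular.nil A M
  | cons f fs ih =>
    intro M _ _ _ h
    have h1 : ∀ i, IsSMulRegular
        (SubQ (J ^ i • (⊤ : Submodule A M)) (J ^ (i + 1) • (⊤ : Submodule A M))) f :=
      fun i => ((isWeaklyRegular_cons_iff _ f fs).mp (h i)).1
    have h2 : ∀ i, IsWeaklyRegular (QuotSMulTop f
        (SubQ (J ^ i • (⊤ : Submodule A M)) (J ^ (i + 1) • (⊤ : Submodule A M)))) fs :=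
      fun i => ((isWeaklyRegular_cons_iff _ f fs).mp (h i)).2
    have hmem := mem_pow_smul_of_smul_mem J f h1
    rw [isWeaklyRegular_cons_iff]
    constructor
    · -- `f` is regular on `M` by Krull's intersection theorem
      have hkrull : (⨅ i : ℕ, J ^ i • ⊤ : Submodule A M) = ⊥ :=
        Ideal.iInf_pow_smul_eq_bot_of_le_jacobson J hJ
      intro m₁ m₂ hm
      change f • m₁ = f • m₂ at hm
      have h0 : f • (m₁ - m₂) = 0 := by rw [smul_sub, hm, sub_self]
      have h3 : m₁ - m₂ ∈ (⨅ i : ℕ, J ^ i • ⊤ : Submodule A M) := by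
        rw [Submodule.mem_iInf]
        intro i
        exact hmem i _ (by rw [h0]; exact Submodule.zero_mem _)
      rw [hkrull, Submodule.mem_bot] at h3
      exact sub_eq_zero.mp h3
    · refine ih (QuotSMulTop f M) ?_
      intro i
      have hmap : ∀ j : ℕ, (J ^ j • (⊤ : Submodule A (QuotSMulTop f M))) =
          (J ^ j • (⊤ : Submodule A M)).map (f • (⊤ : Submodule A M)).mkQ := by
        intro j
        rw [Submodule.map_smul'', Submodule.map_top, Submodule.range_mkQ]
      rw [hmap, hmap]
      have hle : J ^ (i + 1) • (⊤ : Submodule A M) ≤ J ^ i • (⊤ : Submodule A M) :=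
        Submodule.smul_mono_left (Ideal.pow_le_pow_right (Nat.le_succ i))
      exact (((subQMapMkQEquiv (f • (⊤ : Submodule A M)) _ _).trans
        (quotSMulTopSubQEquiv f _ _ hle (hmem i))).isWeaklyRegular_congr fs).mpr (h2 i)

end W

end Groth.Agent.Lib.helper26.NF
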