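import Mathlib
import Groth.Agent.Lib.Helper11.QuasiReg

/-!
# The order valuation ring of a regular local ring (helper26), part 1: the order function

Abstract setting: `A` a Noetherian local domain whose maximal ideal is generated by a
quasi-regular family `x`.
-/

set_option autoImplicit false
set_option linter.unusedSectionVars false
universe u

open IsLocalRing MvPolynomial

namespace Groth.Agent.Lib.helper26.OrdVal

open Groth.Agent.Lib.helper11.QuasiReg

variable {A : Type u} [CommRing A] [IsDomain A] [IsNoetherianRing A] [IsLocalRing A]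

/-- `a` has order exactly `j`. -/
def HasOrd (a : A) (j : ℕ) : Prop := a ∈ maximalIdeal A ^ j ∧ a ∉ maximalIdeal A ^ (j + 1)

omit [IsDomain A] in
lemma hasOrd_unique {a : A} {j l : ℕ} (h1 : HasOrd a j) (h2 : HasOrd a l) : j = l := by
  by_contra hne
  rcases Nat.lt_or_gt_of_ne hne with h | h
  · exact h1.2 (Ideal.pow_le_pow_right (Nat.succ_le_of_lt h) h2.1)
  · exact h2.2 (Ideal.pow_le_pow_right (Nat.succ_le_of_lt h) h1.1)

omit [IsDomain A] in
lemma exists_hasOrd {a : A} (ha : a ≠ 0) : ∃ j, HasOrd a j := by
  classical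
  have hbot := Ideal.iInf_pow_eq_bot_of_isLocalRing (maximalIdeal A)
    (Ideal.IsPrime.ne_top inferInstance)
  have hex : ∃ i, a ∉ maximalIdeal A ^ i := by
    by_contra hall
    push Not at hall
    apply ha
    have : a ∈ ⨅ i, maximalIdeal A ^ i := by
      rw [Ideal.mem_iInf]; exact hall
    rwa [hbot, Ideal.mem_bot] at this
  have hpos : Nat.find hex ≠ 0 := by
    intro h0
    have := Nat.find_spec hex
    rw [h0, pow_zero, Ideal.one_eq_top] at this
    exact this trivial
  obtain ⟨j, hj⟩ := Nat.exists_eq_succ_of_ne_zero hpos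
  refine ⟨j, ?_, ?_⟩
  · by_contra hn
    have := Nat.find_min' hex hn
    omega
  · have := Nat.find_spec hex
    rwa [hj] at this

variable {n : ℕ} (x : Fin (n + 1) → A) (hx : Ideal.span (Set.range x) = maximalIdeal A)
  (hQR : QR x)

include hx in
omit [IsDomain A] [IsNoetherianRing A] in
/-- an element of exact order `j` is the value of a form of degree `j` whose reduction is nonzero. -/
lemma exists_form_of_hasOrd {a : A} {j : ℕ} (h : HasOrd a j) :
    ∃ F : MvPolynomial (Fin (n + 1)) A, F.IsHomogeneous j ∧ eval x F = a ∧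
      MvPolynomial.map (residue A) F ≠ 0 := by
  have h1 := h.1
  rw [← hx, Ideal.mem_span_pow_iff_exists_isHomogeneous] at h1
  obtain ⟨F, hF, hFa⟩ := h1
  refine ⟨F, hF, hFa, ?_⟩
  intro h0
  apply h.2
  have hcoef : ∀ d, F.coeff d ∈ maximalIdeal A := by
    intro d
    have : (MvPolynomial.map (residue A) F).coeff d = 0 := by rw [h0]; rfl
    rw [MvPolynomial.coeff_map] at this
    exact (IsLocalRing.residue_eq_zero_iff _).mp this
  have := eval_mem_mul x (maximalIdeal A) j F hF hcoef
  rw [hx, ← pow_succ', hFa] at this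
  exact this

include hx hQR in
omit [IsDomain A] [IsNoetherianRing A] in
/-- **the associated graded ring is a domain**: orders add. -/
theorem hasOrd_mul {a b : A} {j l : ℕ} (ha : HasOrd a j) (hb : HasOrd b l) :
    HasOrd (a * b) (j + l) := by
  refine ⟨?_, ?_⟩
  · rw [pow_add]; exact Ideal.mul_mem_mul ha.1 hb.1
  · obtain ⟨F, hF, hFa, hF0⟩ := exists_form_of_hasOrd x hx ha
    obtain ⟨G, hG, hGb, hG0⟩ := exists_form_of_hasOrd x hx hb
    intro hmem
    have hFG : (F * G).IsHomogeneous (j + l) := hF.mul hG
    have hval : eval x (F * G) ∈ Ideal.span (Set.range x) ^ (j + l + 1) := by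
      rw [map_mul, hFa, hGb, hx]; exact hmem
    have hcoef := hQR (j + l) (F * G) hFG hval
    have h0 : MvPolynomial.map (residue A) (F * G) = 0 := by
      ext d
      rw [MvPolynomial.coeff_map, coeff_zero, IsLocalRing.residue_eq_zero_iff, ← hx]
      exact hcoef d
    rw [map_mul] at h0
    rcases mul_eq_zero.mp h0 with h | h
    · exact hF0 h
    · exact hG0 h

end Groth.Agent.Lib.helper26.OrdVal
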