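import Mathlib
import Groth.Agent.Lib.Helper26.OrdVal1

/-!
# The order valuation ring of a regular local ring (helper26), part 2: the subalgebra
-/

set_option autoImplicit false
set_option linter.unusedSectionVars false
universe u

open IsLocalRing MvPolynomial

namespace Groth.Agent.Lib.helper26.OrdVal

open Groth.Agent.Lib.helper11.QuasiReg

variable {A : Type u} [CommRing A] [IsDomain A] [IsNoetherianRing A] [IsLocalRing A]
  {n : ℕ} (x : Fin (n + 1) → A) (hx : Ideal.span (Set.range x) = maximalIdeal A)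
  (hQR : QR x)
  (K : Type u) [Field K] [Algebra A K] [IsFractionRing A K]

omit [IsDomain A] [IsNoetherianRing A] in
lemma hasOrd_one : HasOrd (1 : A) 0 := by
  refine ⟨by rw [pow_zero, Ideal.one_eq_top]; trivial, ?_⟩
  rw [zero_add, pow_one]
  exact fun h => (Ideal.IsPrime.ne_top inferInstance) ((Ideal.eq_top_iff_one _).mpr h)

omit [IsDomain A] in
lemma ne_zero_of_hasOrd {b : A} {j : ℕ} (h : HasOrd b j) : b ≠ 0 := by
  rintro rfl
  exact h.2 (Ideal.zero_mem _)

/-- the order valuation ring. -/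
def ordSubalgebra : Subalgebra A K where
  carrier := {f | ∃ (j : ℕ) (a b : A), a ∈ maximalIdeal A ^ j ∧ HasOrd b j ∧
    f * algebraMap A K b = algebraMap A K a}
  mul_mem' := by
    rintro f f' ⟨j, a, b, ha, hb, hf⟩ ⟨j', a', b', ha', hb', hf'⟩
    refine ⟨j + j', a * a', b * b', ?_, hasOrd_mul x hx hQR hb hb', ?_⟩
    · rw [pow_add]; exact Ideal.mul_mem_mul ha ha'
    · rw [map_mul, map_mul, ← hf, ← hf']; ring
  add_mem' := by
    rintro f f' ⟨j, a, b, ha, hb, hf⟩ ⟨j', a', b', ha', hb', hf'⟩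
    refine ⟨j + j', a * b' + a' * b, b * b', ?_, hasOrd_mul x hx hQR hb hb', ?_⟩
    · rw [pow_add]
      refine Ideal.add_mem _ (Ideal.mul_mem_mul ha hb'.1) ?_
      rw [mul_comm (maximalIdeal A ^ j)]
      exact Ideal.mul_mem_mul ha' hb.1
    · rw [map_add, map_mul, map_mul, map_mul, ← hf, ← hf']; ring
  algebraMap_mem' := by
    intro r
    exact ⟨0, r, 1, by rw [pow_zero, Ideal.one_eq_top]; trivial, hasOrd_one,
      by rw [map_one, mul_one]⟩

lemma mem_ordSubalgebra (f : K) : f ∈ ordSubalgebra x hx hQR K ↔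
    ∃ (j : ℕ) (a b : A), a ∈ maximalIdeal A ^ j ∧ HasOrd b j ∧
      f * algebraMap A K b = algebraMap A K a := Iff.rfl

include hQR in
omit [IsDomain A] [IsNoetherianRing A] in
/-- the generators have order one. -/
lemma hasOrd_gen (hx : Ideal.span (Set.range x) = maximalIdeal A) (i : Fin (n + 1)) :
    HasOrd (x i) 1 := by
  refine ⟨?_, ?_⟩
  · rw [pow_one, ← hx]; exact Ideal.subset_span ⟨i, rfl⟩
  · intro hmem
    have hhom : (X i : MvPolynomial (Fin (n + 1)) A).IsHomogeneous 1 := isHomogeneous_X A i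
    have hval : eval x (X i : MvPolynomial (Fin (n + 1)) A) ∈
        Ideal.span (Set.range x) ^ (1 + 1) := by
      rw [eval_X, hx]; exact hmem
    have := hQR 1 (X i) hhom hval (Finsupp.single i 1)
    rw [coeff_X, hx, if_pos rfl] at this
    exact (Ideal.IsPrime.ne_top inferInstance) ((Ideal.eq_top_iff_one _).mpr this)

include hx hQR in
omit [IsDomain A] [IsNoetherianRing A] in
lemma hasOrd_pow {a : A} (ha : HasOrd a 1) (i : ℕ) : HasOrd (a ^ i) i := by
  induction i with
  | zero => rw [pow_zero]; exact hasOrd_one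
  | succ i ih =>
    rw [pow_succ]
    exact hasOrd_mul x hx hQR ih ha

end Groth.Agent.Lib.helper26.OrdVal
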