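import Mathlib
import Groth.Agent.Lib.Helper26.OrdVal2

/-!
# The order valuation ring of a regular local ring (helper26), part 3: it is a DVR dominating `A`
-/

set_option autoImplicit false
set_option linter.unusedSectionVars false
universe u

open IsLocalRing MvPolynomial

namespace Groth.Agent.Lib.helper26.OrdVal

open Groth.Agent.Lib.helper11.QuasiReg

variable {A : Type u} [CommRing A] [IsDomain A] [IsNoetherianRing A] [IsLocalRing A]
  {n : ℕ} (x : Fin (n + 1) → A) (hx : Ideal.span (Set.range x) = maximalIdeal A)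
  (hQR : QR x)
  (K : Type u) [Field K] [Algebra A K] [IsFractionRing A K]

local notation "V" => ordSubalgebra x hx hQR K

lemma algebraMap_ne_zero {b : A} (hb : b ≠ 0) : algebraMap A K b ≠ 0 := by
  rw [Ne, map_eq_zero_iff _ (IsFractionRing.injective A K)]; exact hb

lemma div_mem {a b : A} {j : ℕ} (ha : a ∈ maximalIdeal A ^ j) (hb : HasOrd b j) :
    algebraMap A K a / algebraMap A K b ∈ V :=
  ⟨j, a, b, ha, hb, div_mul_cancel₀ _ (algebraMap_ne_zero K (ne_zero_of_hasOrd hb))⟩

lemma isUnit_div {a b : A} {j : ℕ} (ha : HasOrd a j) (hb : HasOrd b j) :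
    IsUnit (⟨algebraMap A K a / algebraMap A K b, div_mem x hx hQR K ha.1 hb⟩ : V) := by
  have ha0 := algebraMap_ne_zero K (ne_zero_of_hasOrd ha)
  have hb0 := algebraMap_ne_zero K (ne_zero_of_hasOrd hb)
  refine IsUnit.of_mul_eq_one
    (⟨algebraMap A K b / algebraMap A K a, div_mem x hx hQR K hb.1 ha⟩ : V) ?_
  apply Subtype.ext
  change algebraMap A K a / algebraMap A K b * (algebraMap A K b / algebraMap A K a) = 1
  field_simp

/-- elements of the maximal ideal of `A` are not units of `V`. -/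
lemma not_isUnit_algebraMap {a : A} (ha : a ∈ maximalIdeal A) :
    ¬ IsUnit (algebraMap A V a) := by
  intro hu
  obtain ⟨g, hg⟩ := hu.exists_right_inv
  obtain ⟨j, c, b, hc, hb, hgb⟩ := g.2
  have h1 : algebraMap A K a * (g : K) = 1 := congrArg Subtype.val hg
  have h2 : algebraMap A K b = algebraMap A K (a * c) := by
    rw [map_mul, ← hgb, ← mul_assoc, h1, one_mul]
  have h3 : b = a * c := IsFractionRing.injective A K h2
  apply hb.2
  rw [h3, pow_succ']
  exact Ideal.mul_mem_mul ha hc

/-- every nonzero element of `V` is a power of `x₀` times a unit. -/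
lemma exists_pow_mul_unit (f : V) (hf : f ≠ 0) :
    ∃ (i : ℕ) (u : (V)ˣ), algebraMap A V (x 0) ^ i * u = f := by
  obtain ⟨j, a, b, ha, hb, hfab⟩ := f.2
  have hb0 := algebraMap_ne_zero K (ne_zero_of_hasOrd hb)
  have ha0 : a ≠ 0 := by
    rintro rfl
    rw [map_zero] at hfab
    apply hf
    apply Subtype.ext
    exact (mul_eq_zero.mp hfab).resolve_right hb0
  obtain ⟨j', hj'⟩ := exists_hasOrd ha0
  have hjj' : j ≤ j' := by
    by_contra hlt
    rw [not_le] at hlt
    exact hj'.2 (Ideal.pow_le_pow_right (Nat.succ_le_of_lt hlt) ha)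
  obtain ⟨i, rfl⟩ := Nat.exists_eq_add_of_le hjj'
  have hx0 := hasOrd_gen x hQR hx 0
  have hb' : HasOrd (b * x 0 ^ i) (j + i) := hasOrd_mul x hx hQR hb (hasOrd_pow x hx hQR hx0 i)
  refine ⟨i, (isUnit_div x hx hQR K hj' hb').unit, ?_⟩
  apply Subtype.ext
  have hx00 := algebraMap_ne_zero K (ne_zero_of_hasOrd hx0)
  change algebraMap A K (x 0) ^ i * (algebraMap A K a / algebraMap A K (b * x 0 ^ i)) = (f : K)
  rw [eq_div_of_mul_eq hb0 hfab, map_mul, map_pow]
  field_simp

lemma irreducible_gen : Irreducible (algebraMap A V (x 0)) := by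
  have hx0 := hasOrd_gen x hQR hx 0
  have hx0m : x 0 ∈ maximalIdeal A := by simpa using hx0.1
  have hnu := not_isUnit_algebraMap x hx hQR K hx0m
  have hne : algebraMap A V (x 0) ≠ 0 := by
    intro h0
    have := congrArg Subtype.val h0
    exact algebraMap_ne_zero K (ne_zero_of_hasOrd hx0) this
  refine ⟨hnu, ?_⟩
  intro f g hfg
  have hf0 : f ≠ 0 := by rintro rfl; rw [zero_mul] at hfg; exact hne hfg
  have hg0 : g ≠ 0 := by rintro rfl; rw [mul_zero] at hfg; exact hne hfg
  obtain ⟨i, u, rfl⟩ := exists_pow_mul_unit x hx hQR K f hf0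
  obtain ⟨l, u', rfl⟩ := exists_pow_mul_unit x hx hQR K g hg0
  rcases Nat.eq_zero_or_pos i with rfl | hi
  · left; rw [pow_zero, one_mul]; exact u.isUnit
  rcases Nat.eq_zero_or_pos l with rfl | hl
  · right; rw [pow_zero, one_mul]; exact u'.isUnit
  exfalso
  apply hnu
  set p := algebraMap A V (x 0) with hp
  have h1 : p * 1 = p * (p ^ (i + l - 1) * (u * u')) := by
    rw [mul_one]
    conv_lhs => rw [hfg]
    have : i + l = (i + l - 1) + 1 := by omega
    have hpow : p ^ i * p ^ l = p * p ^ (i + l - 1) := by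
      rw [← pow_add, ← pow_succ', ← this]
    calc p ^ i * ↑u * (p ^ l * ↑u') = (p ^ i * p ^ l) * (↑u * ↑u') := by ring
      _ = p * (p ^ (i + l - 1) * (↑u * ↑u')) := by rw [hpow]; ring
  have h2 := mul_left_cancel₀ hne h1
  have h3 : i + l - 1 = (i + l - 2) + 1 := by omega
  rw [h3, pow_succ', mul_assoc] at h2
  exact IsUnit.of_mul_eq_one _ h2.symm

/-- `V` is a discrete valuation ring. -/
theorem isDiscreteValuationRing_ordSubalgebra : IsDiscreteValuationRing V := by
  apply IsDiscreteValuationRing.ofHasUnitMulPowIrreducibleFactorization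
  refine ⟨algebraMap A V (x 0), irreducible_gen x hx hQR K, ?_⟩
  intro f hf
  obtain ⟨i, u, hu⟩ := exists_pow_mul_unit x hx hQR K f hf
  exact ⟨i, u, hu⟩

theorem isFractionRing_ordSubalgebra : IsFractionRing V K := by
  have hinj : Function.Injective (algebraMap V K) := Subtype.val_injective
  have : FaithfulSMul V K := (faithfulSMul_iff_algebraMap_injective V K).mpr hinj
  refine IsFractionRing.of_field V K fun z => ?_
  obtain ⟨a, b, -, rfl⟩ := IsFractionRing.div_surjective (A := A) z
  exact ⟨algebraMap A V a, algebraMap A V b, rfl⟩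

end Groth.Agent.Lib.helper26.OrdVal
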