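import Mathlib

/-!
# The order valuation ring of a regular local ring (helper26), part 4: homogenization lemmas
-/

set_option autoImplicit false
set_option linter.unusedSectionVars false
universe u

open MvPolynomial

namespace Groth.Agent.Lib.helper26.OrdVal

section Scaling

variable {R S : Type*} [CommSemiring R] [CommSemiring S] {σ : Type*} [Fintype σ]

lemma degree_eq_of_isHomogeneous {F : MvPolynomial σ R} {N : ℕ} (hF : F.IsHomogeneous N)
    {d : σ →₀ ℕ} (hd : d ∈ F.support) : ∑ i, d i = N := by
  have h1 : Finsupp.weight (1 : σ → ℕ) d = N := hF (mem_support_iff.mp hd)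
  have h2 : Finsupp.degree d = Finsupp.weight (fun _ => (1 : ℕ)) d := by
    rw [Finsupp.degree_eq_weight_one]
  rw [← Finsupp.degree_eq_sum, h2]
  exact h1

/-- homogeneity: `F(s g) = s^N F(g)`. -/
theorem eval₂_mul_of_isHomogeneous {F : MvPolynomial σ R} {N : ℕ} (hF : F.IsHomogeneous N)
    (f : R →+* S) (g : σ → S) (s : S) :
    eval₂ f (fun i => s * g i) F = s ^ N * eval₂ f g F := by
  rw [eval₂_eq', eval₂_eq', Finset.mul_sum]
  refine Finset.sum_congr rfl fun d hd => ?_
  have hdeg := degree_eq_of_isHomogeneous hF hd
  simp only [mul_pow, Finset.prod_mul_distrib, Finset.prod_pow_eq_pow_sum, hdeg]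
  ring

end Scaling

section Homogenize

variable {R : Type*} [CommSemiring R] {n : ℕ}

/-- homogenization of a polynomial in `n` variables to a form of degree `N` in `n + 1`
variables. -/
noncomputable def homog (N : ℕ) (P : MvPolynomial (Fin n) R) : MvPolynomial (Fin (n + 1)) R :=
  ∑ e ∈ P.support, monomial (Finsupp.cons (N - e.degree) e) (P.coeff e)

lemma homog_isHomogeneous (N : ℕ) (P : MvPolynomial (Fin n) R) (hN : P.totalDegree ≤ N) :
    (homog N P).IsHomogeneous N := by
  unfold homog
  refine IsHomogeneous.sum _ _ _ fun e he => ?_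
  apply isHomogeneous_monomial
  have hle : e.degree ≤ N := by
    refine le_trans ?_ hN
    rw [Finsupp.degree_eq_sum]
    have := le_totalDegree he
    rwa [Finsupp.sum_fintype _ _ (fun _ => rfl)] at this
  rw [Finsupp.degree_eq_sum, Fin.sum_univ_succ]
  simp only [Finsupp.cons_zero, Finsupp.cons_succ]
  rw [← Finsupp.degree_eq_sum]
  omega

lemma coeff_homog (N : ℕ) (P : MvPolynomial (Fin n) R) (e : Fin n →₀ ℕ) :
    (homog N P).coeff (Finsupp.cons (N - e.degree) e) = P.coeff e := by
  classical
  unfold homog
  rw [coeff_sum]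
  by_cases he : e ∈ P.support
  · rw [Finset.sum_eq_single e]
    · rw [coeff_monomial, if_pos rfl]
    · intro e' _ hne
      rw [coeff_monomial, if_neg]
      intro h
      apply hne
      have := congrArg Finsupp.tail h
      rwa [Finsupp.tail_cons, Finsupp.tail_cons] at this
    · intro h; exact absurd he h
  · rw [notMem_support_iff.mp he]
    apply Finset.sum_eq_zero
    intro e' he'
    rw [coeff_monomial, if_neg]
    intro h
    have := congrArg Finsupp.tail h
    rw [Finsupp.tail_cons, Finsupp.tail_cons] at this
    rw [this] at he'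
    exact he he'

variable {S : Type*} [CommSemiring S]

/-- dehomogenizing the homogenization. -/
lemma eval₂_homog (N : ℕ) (P : MvPolynomial (Fin n) R) (f : R →+* S) (g : Fin n → S) :
    eval₂ f (Fin.cons 1 g : Fin (n + 1) → S) (homog N P) = eval₂ f g P := by
  unfold homog
  rw [eval₂_sum, eval₂_eq' f g P]
  refine Finset.sum_congr rfl fun e _ => ?_
  rw [eval₂_monomial, Finsupp.prod_fintype _ _ (fun _ => pow_zero _), Fin.prod_univ_succ]
  simp only [Finsupp.cons_zero, Finsupp.cons_succ, Fin.cons_zero, Fin.cons_succ, one_pow, one_mul]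

end Homogenize

end Groth.Agent.Lib.helper26.OrdVal
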