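import Mathlib
import Groth.Agent.Lib.Helper26.OrdVal3
import Groth.Agent.Lib.Helper26.OrdVal4

/-!
# The order valuation ring of a regular local ring (helper26), part 5: the residue field
-/

set_option autoImplicit false
set_option linter.unusedSectionVars false
universe u

open IsLocalRing MvPolynomial

namespace Groth.Agent.Lib.helper26.OrdVal

open Groth.Agent.Lib.helper11.QuasiReg

variable {A : Type u} [CommRing A] [IsDomain A] [IsNoetherianRing A] [IsLocalRing A]
  {n : ℕ} (x : Fin (n + 1) → A) (hx : Ideal.span (Set.range x) = maximalIdeal A)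
  (hQR : QR x)
  (K : Type u) [Field K] [Algebra A K] [IsFractionRing A K]

local notation "V" => ordSubalgebra x hx hQR K

instance instDVR : IsDiscreteValuationRing (ordSubalgebra x hx hQR K) :=
  isDiscreteValuationRing_ordSubalgebra x hx hQR K

/-- `V` dominates `A`. -/
theorem comap_maximalIdeal :
    (maximalIdeal V).comap (algebraMap A V) = maximalIdeal A := by
  ext a
  rw [Ideal.mem_comap, mem_maximalIdeal, mem_maximalIdeal, mem_nonunits_iff, mem_nonunits_iff]
  constructor
  · intro h hu
    exact h (hu.map (algebraMap A V))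
  · intro h
    exact not_isUnit_algebraMap x hx hQR K ((mem_maximalIdeal a).mpr h)

instance instLocalHom : IsLocalHom (algebraMap A (ordSubalgebra x hx hQR K)) :=
  ((IsLocalRing.local_hom_TFAE (algebraMap A V)).out 0 4).mpr (comap_maximalIdeal x hx hQR K)

/-- the ratios `x_{i+1} / x_0` in `K`. -/
noncomputable def yK (i : Fin n) : K := algebraMap A K (x i.succ) / algebraMap A K (x 0)

lemma yK_mem (i : Fin n) : yK x K i ∈ V := by
  refine div_mem x hx hQR K ?_ (hasOrd_gen x hQR hx 0)
  exact (hasOrd_gen x hQR hx i.succ).1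

/-- the ratios `x_{i+1} / x_0` in `V`. -/
noncomputable def y (i : Fin n) : V := ⟨yK x K i, yK_mem x hx hQR K i⟩

include hx hQR in
/-- dehomogenization in `K`. -/
lemma algebraMap_eval_eq {F : MvPolynomial (Fin (n + 1)) A} {N : ℕ} (hF : F.IsHomogeneous N) :
    algebraMap A K (eval x F) = algebraMap A K (x 0) ^ N *
      eval₂ (algebraMap A K) (Fin.cons 1 (yK x K) : Fin (n + 1) → K) F := by
  have hx0 : algebraMap A K (x 0) ≠ 0 :=
    algebraMap_ne_zero K (ne_zero_of_hasOrd (hasOrd_gen x hQR hx 0))
  rw [← eval₂_mul_of_isHomogeneous hF]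
  have h1 : algebraMap A K (eval x F) = eval₂ (algebraMap A K) (algebraMap A K ∘ x) F := by
    have := eval₂_comp_left (algebraMap A K) (RingHom.id A) x F
    rw [RingHom.comp_id] at this
    exact this
  rw [h1]
  congr 1
  funext i
  refine Fin.cases ?_ (fun j => ?_) i
  · simp
  · simp only [Function.comp_apply, Fin.cons_succ, yK]
    field_simp

/-- coercion of polynomial expressions from `V` to `K`. -/
lemma coe_eval₂ {σ : Type*} (g : σ → V) (F : MvPolynomial σ A) :
    ((eval₂ (algebraMap A V) g F : V) : K) = eval₂ (algebraMap A K) (fun i => (g i : K)) F := by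
  have := eval₂_comp_left (V).val.toRingHom (algebraMap A V) g F
  exact this

end Groth.Agent.Lib.helper26.OrdVal
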