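import Mathlib
import Groth.Agent.Lib.Helper26.OrdVal5

/-!
# The order valuation ring of a regular local ring (helper26), part 6: the residue field is purely
transcendental
-/

set_option autoImplicit false
set_option linter.unusedSectionVars false
universe u

open IsLocalRing MvPolynomial

namespace Groth.Agent.Lib.helper26.OrdVal

open Groth.Agent.Lib.helper11.QuasiReg

variable {A : Type u} [CommRing A] [IsDomain A] [IsNoetherianRing A] [IsLocalRing A]
  {n : ℕ} (x : Fin (n + 1) → A) (hx : Ideal.span (Set.range x) = maximalIdeal A)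
  (hQR : QR x)
  (K : Type u) [Field K] [Algebra A K] [IsFractionRing A K]

local notation "V" => ordSubalgebra x hx hQR K

/-- the map of residue fields. -/
noncomputable def resMap : ResidueField A →+* ResidueField V :=
  IsLocalRing.ResidueField.map (algebraMap A V)

lemma resMap_comp :
    (resMap x hx hQR K).comp (residue A) = (residue V).comp (algebraMap A V) := rfl

/-- the classes of the ratios. -/
noncomputable def tRes (i : Fin n) : ResidueField V := residue V (y x hx hQR K i)

lemma residue_eval₂ {σ : Type*} (g : σ → V) (F : MvPolynomial σ A) :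
    residue V (eval₂ (algebraMap A V) g F) =
      eval₂ (resMap x hx hQR K) (fun i => residue V (g i)) (MvPolynomial.map (residue A) F) := by
  rw [eval₂_map, resMap_comp]
  exact eval₂_comp_left (residue V) (algebraMap A V) g F

lemma cons_coe (i : Fin (n + 1)) :
    (((Fin.cons 1 (y x hx hQR K) : Fin (n + 1) → V) i : V) : K) =
      (Fin.cons 1 (yK x K) : Fin (n + 1) → K) i := by
  refine Fin.cases ?_ (fun j => ?_) i
  · rfl
  · rfl

lemma cons_res (i : Fin (n + 1)) :
    residue V ((Fin.cons 1 (y x hx hQR K) : Fin (n + 1) → V) i) =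
      (Fin.cons 1 (tRes x hx hQR K) : Fin (n + 1) → ResidueField V) i := by
  refine Fin.cases ?_ (fun j => ?_) i
  · simp
  · rfl

/-- the value at `(1, y)` of a form of exact order: a unit of `V`. -/
lemma isUnit_eval₂_cons {G : MvPolynomial (Fin (n + 1)) A} {N : ℕ} (hG : G.IsHomogeneous N)
    (hord : HasOrd (eval x G) N) :
    IsUnit (eval₂ (algebraMap A V) (Fin.cons 1 (y x hx hQR K) : Fin (n + 1) → V) G) := by
  have hx0 := hasOrd_gen x hQR hx 0
  have hu := isUnit_div x hx hQR K hord (hasOrd_pow x hx hQR hx0 N)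
  convert hu using 1
  apply Subtype.ext
  rw [coe_eval₂]
  have h1 := algebraMap_eval_eq x hx hQR K hG
  have hx00 := algebraMap_ne_zero K (ne_zero_of_hasOrd hx0)
  change _ = algebraMap A K (eval x G) / algebraMap A K (x 0 ^ N)
  rw [h1, map_pow, mul_div_assoc, mul_comm, div_mul_cancel₀ _ (pow_ne_zero _ hx00)]
  congr 1
  funext i
  exact cons_coe x hx hQR K i

/-- algebraic independence of the classes of the ratios. -/
theorem eq_zero_of_eval₂_tRes (P : MvPolynomial (Fin n) (ResidueField A))
    (h : eval₂ (resMap x hx hQR K) (tRes x hx hQR K) P = 0) : P = 0 := by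
  obtain ⟨Pt, rfl⟩ := MvPolynomial.map_surjective (residue A) IsLocalRing.residue_surjective P
  by_contra hP
  obtain ⟨e, he⟩ := MvPolynomial.ne_zero_iff.mp hP
  rw [coeff_map, Ne, IsLocalRing.residue_eq_zero_iff] at he
  set N := Pt.totalDegree with hN
  have hH := homog_isHomogeneous N Pt le_rfl
  have hord : HasOrd (eval x (homog N Pt)) N := by
    refine ⟨?_, fun hmem => ?_⟩
    · rw [← hx, Ideal.mem_span_pow_iff_exists_isHomogeneous]
      exact ⟨_, hH, rfl⟩
    · apply he
      have := hQR N (homog N Pt) hH (by rw [hx]; exact hmem) (Finsupp.cons (N - e.degree) e)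
      rwa [coeff_homog, hx] at this
  have hu := isUnit_eval₂_cons x hx hQR K hH hord
  have hres : residue V (eval₂ (algebraMap A V)
      (Fin.cons 1 (y x hx hQR K) : Fin (n + 1) → V) (homog N Pt)) = 0 := by
    rw [eval₂_homog, residue_eval₂]
    exact h
  rw [IsLocalRing.residue_eq_zero_iff] at hres
  exact (IsLocalRing.mem_maximalIdeal _).mp hres hu

/-- every element of the residue field of `V` is a ratio of polynomial expressions in the classes
of the ratios. -/
theorem exists_forms (z : ResidueField V) :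
    ∃ F G : MvPolynomial (Fin (n + 1)) (ResidueField A),
      eval₂ (resMap x hx hQR K) (Fin.cons 1 (tRes x hx hQR K) : Fin (n + 1) → ResidueField V) G ≠ 0 ∧
      z * eval₂ (resMap x hx hQR K)
          (Fin.cons 1 (tRes x hx hQR K) : Fin (n + 1) → ResidueField V) G =
        eval₂ (resMap x hx hQR K)
          (Fin.cons 1 (tRes x hx hQR K) : Fin (n + 1) → ResidueField V) F := by
  obtain ⟨f, rfl⟩ := IsLocalRing.residue_surjective z
  obtain ⟨j, a, b, ha, hb, hfab⟩ := f.2
  have ha' := ha
  rw [← hx, Ideal.mem_span_pow_iff_exists_isHomogeneous] at ha'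
  obtain ⟨Ft, hFt, hFa⟩ := ha'
  have hb' := hb.1
  rw [← hx, Ideal.mem_span_pow_iff_exists_isHomogeneous] at hb'
  obtain ⟨Gt, hGt, hGb⟩ := hb'
  have hordG : HasOrd (eval x Gt) j := by rw [hGb]; exact hb
  have hu := isUnit_eval₂_cons x hx hQR K hGt hordG
  have hx0 := hasOrd_gen x hQR hx 0
  have hx00 := algebraMap_ne_zero K (ne_zero_of_hasOrd hx0)
  have hconsK : (fun i => (((Fin.cons 1 (y x hx hQR K) : Fin (n + 1) → V) i : V) : K)) =
      (Fin.cons 1 (yK x K) : Fin (n + 1) → K) := funext (cons_coe x hx hQR K)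
  have hconsR : (fun i => residue V ((Fin.cons 1 (y x hx hQR K) : Fin (n + 1) → V) i)) =
      (Fin.cons 1 (tRes x hx hQR K) : Fin (n + 1) → ResidueField V) :=
    funext (cons_res x hx hQR K)
  have hmul : f * eval₂ (algebraMap A V) (Fin.cons 1 (y x hx hQR K) : Fin (n + 1) → V) Gt =
      eval₂ (algebraMap A V) (Fin.cons 1 (y x hx hQR K) : Fin (n + 1) → V) Ft := by
    apply Subtype.ext
    change (f : K) * ((eval₂ (algebraMap A V) _ Gt : V) : K) = ((eval₂ (algebraMap A V) _ Ft : V) : K)
    rw [coe_eval₂, coe_eval₂, hconsK]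
    have h1 := algebraMap_eval_eq x hx hQR K hFt
    have h2 := algebraMap_eval_eq x hx hQR K hGt
    rw [hFa] at h1
    rw [hGb] at h2
    have hpow := pow_ne_zero j hx00
    apply mul_left_cancel₀ hpow
    rw [← h1, mul_comm (f : K), ← mul_assoc, ← h2, mul_comm, hfab]
  refine ⟨MvPolynomial.map (residue A) Ft, MvPolynomial.map (residue A) Gt, ?_, ?_⟩
  · rw [← hconsR, ← residue_eval₂, Ne, IsLocalRing.residue_eq_zero_iff]
    exact fun hmem => (IsLocalRing.mem_maximalIdeal _).mp hmem hu
  · rw [← hconsR, ← residue_eval₂, ← residue_eval₂, ← map_mul, hmul]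

end Groth.Agent.Lib.helper26.OrdVal
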