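import Mathlib
import Groth.Agent.Lib.Helper26.OrdVal6
import Groth.Agent.Lib.Helper15.Regular

/-!
# The order valuation ring of a regular local ring (helper26), part 7: assembly
-/

set_option autoImplicit false
set_option linter.unusedSectionVars false
universe u

open IsLocalRing MvPolynomial

namespace Groth.Agent.Lib.helper26.OrdVal

open Groth.Agent.Lib.helper11.QuasiReg

/-- a regular local ring which is not a field has a quasi-regular system of generators of its
maximal ideal. -/
theorem exists_qr (A : Type u) [CommRing A] [IsRegularLocalRing A] (hA : ¬ IsField A) :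
    ∃ (n : ℕ) (x : Fin (n + 1) → A), Ideal.span (Set.range x) = maximalIdeal A ∧ QR x := by
  classical
  obtain ⟨s, hscard, hsspan⟩ :=
    (IsNoetherian.noetherian (maximalIdeal A)).exists_span_finset_card_eq_spanFinrank
  have hne : s.card ≠ 0 := by
    intro h0
    rw [Finset.card_eq_zero] at h0
    rw [h0, Finset.coe_empty, Submodule.span_empty] at hsspan
    exact hA (IsLocalRing.isField_iff_maximalIdeal_eq.mpr hsspan.symm)
  obtain ⟨n, hn⟩ := Nat.exists_eq_succ_of_ne_zero hne
  let x : Fin (n + 1) → A := fun i => ((s.equivFin.symm (Fin.cast hn.symm i) : s) : A)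
  have hrange : Set.range x = (s : Set A) := by
    ext a
    constructor
    · rintro ⟨i, rfl⟩
      exact (s.equivFin.symm (Fin.cast hn.symm i)).2
    · intro ha
      refine ⟨Fin.cast hn (s.equivFin ⟨a, ha⟩), ?_⟩
      simp [x]
  have hx : Ideal.span (Set.range x) = maximalIdeal A := by
    rw [hrange]; exact hsspan
  have hd : (maximalIdeal A).spanFinrank = n + 1 := by rw [← hscard, hn]
  have hWR := Groth.Agent.Lib.helper15.isWeaklyRegular_ofFn A (n + 1) hd x hx
  exact ⟨n, x, hx, QR_of_isWeaklyRegular (n + 1) x hWR⟩

/-- S4947. -/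
theorem exists_dvr_dominating (A : Type u) [CommRing A] [IsRegularLocalRing A]
    (hA : ¬ IsField A) :
    ∃ (V : Subalgebra A (FractionRing A)) (_ : IsDomain V) (_ : IsDiscreteValuationRing V),
      IsFractionRing V (FractionRing A) ∧
      (IsLocalRing.maximalIdeal V).comap (algebraMap A V) = IsLocalRing.maximalIdeal A ∧
      ∃ (φ : IsLocalRing.ResidueField A →+* IsLocalRing.ResidueField V),
        φ.comp (IsLocalRing.residue A) = (IsLocalRing.residue V).comp (algebraMap A V) ∧
        letI := φ.toAlgebra
        ∃ (ι : Type u) (t : ι → IsLocalRing.ResidueField V),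
          AlgebraicIndependent (IsLocalRing.ResidueField A) t ∧
          IntermediateField.adjoin (IsLocalRing.ResidueField A) (Set.range t) = ⊤ := by
  have hdom : IsDomain A := Groth.Agent.Lib.helper15.isDomain_of_isRegularLocalRing A
  obtain ⟨n, x, hx, hQR⟩ := exists_qr A hA
  let K := FractionRing A
  refine ⟨ordSubalgebra x hx hQR K, inferInstance, instDVR x hx hQR K,
    isFractionRing_ordSubalgebra x hx hQR K, comap_maximalIdeal x hx hQR K,
    resMap x hx hQR K, resMap_comp x hx hQR K, ?_⟩
  let _ := (resMap x hx hQR K).toAlgebra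
  refine ⟨ULift.{u} (Fin n), tRes x hx hQR K ∘ Equiv.ulift, ?_, ?_⟩
  · rw [algebraicIndependent_equiv Equiv.ulift, algebraicIndependent_iff]
    intro p hp
    apply eq_zero_of_eval₂_tRes x hx hQR K p
    rw [aeval_def, RingHom.algebraMap_toAlgebra] at hp
    exact hp
  · rw [eq_top_iff]
    intro z _
    obtain ⟨F, G, hG, hz⟩ := exists_forms x hx hQR K z
    set L := IntermediateField.adjoin (IsLocalRing.ResidueField A)
      (Set.range (tRes x hx hQR K ∘ Equiv.ulift)) with hL
    have hmem : ∀ (P : MvPolynomial (Fin (n + 1)) (IsLocalRing.ResidueField A)),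
        eval₂ (resMap x hx hQR K)
          (Fin.cons 1 (tRes x hx hQR K) : Fin (n + 1) → IsLocalRing.ResidueField _) P ∈ L := by
      intro P
      have h1 : eval₂ (resMap x hx hQR K)
          (Fin.cons 1 (tRes x hx hQR K) : Fin (n + 1) → IsLocalRing.ResidueField _) P =
          aeval (Fin.cons 1 (tRes x hx hQR K) : Fin (n + 1) → IsLocalRing.ResidueField _) P := by
        rw [aeval_def, RingHom.algebraMap_toAlgebra]
      rw [h1]
      have h2 : aeval (Fin.cons 1 (tRes x hx hQR K) : Fin (n + 1) → IsLocalRing.ResidueField _) P ∈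
          Algebra.adjoin (IsLocalRing.ResidueField A)
            (Set.range (Fin.cons 1 (tRes x hx hQR K) : Fin (n + 1) → IsLocalRing.ResidueField _)) := by
        rw [Algebra.adjoin_range_eq_range_aeval]
        exact ⟨P, rfl⟩
      refine (Algebra.adjoin_le (S := L.toSubalgebra) ?_) h2
      rintro _ ⟨i, rfl⟩
      refine Fin.cases ?_ (fun j => ?_) i
      · simp only [Fin.cons_zero]
        exact L.one_mem
      · simp only [Fin.cons_succ]
        apply IntermediateField.subset_adjoin
        exact ⟨ULift.up j, rfl⟩
    have hzeq : z = eval₂ (resMap x hx hQR K)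
          (Fin.cons 1 (tRes x hx hQR K) : Fin (n + 1) → IsLocalRing.ResidueField _) F /
        eval₂ (resMap x hx hQR K)
          (Fin.cons 1 (tRes x hx hQR K) : Fin (n + 1) → IsLocalRing.ResidueField _) G :=
      eq_div_of_mul_eq hG hz
    rw [hzeq]
    exact L.div_mem (hmem F) (hmem G)

end Groth.Agent.Lib.helper26.OrdVal
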