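import Mathlib

/-!
# Infinitesimal lifting for truncations `A/J → B/JB` (helper26)

Translation between the lifting property of `B →ₐ[A] D` for `A`-algebras `D` killed by `J` and
formal smoothness / unramifiedness of `A/J → B/JB`.
-/

universe u

namespace Groth.Agent.Lib.helper26.TruncLift

open Algebra

variable {A : Type u} [CommRing A] (J : Ideal A) (B : Type u) [CommRing B] [Algebra A B]

/-- An `A`-algebra map from `B` to an `A/J`-algebra descends to `B/JB`. -/
theorem exists_descend (D : Type u) [CommRing D] [Algebra A D] [Algebra (A ⧸ J) D]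
    [IsScalarTower A (A ⧸ J) D] (v : B →ₐ[A] D) :
    ∃ w : (B ⧸ J.map (algebraMap A B)) →ₐ[A ⧸ J] D, ∀ b, w (Ideal.Quotient.mk _ b) = v b := by
  have hkill : ∀ x ∈ J.map (algebraMap A B), v.toRingHom x = 0 := by
    intro x hx
    have hle : J.map (algebraMap A B) ≤ RingHom.ker v.toRingHom := by
      rw [Ideal.map_le_iff_le_comap]
      intro a ha
      rw [Ideal.mem_comap, RingHom.mem_ker]
      show v (algebraMap A B a) = 0
      rw [v.commutes, IsScalarTower.algebraMap_apply A (A ⧸ J) D, Ideal.Quotient.algebraMap_eq,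
        Ideal.Quotient.eq_zero_iff_mem.mpr ha, map_zero]
    exact hle hx
  refine ⟨{ Ideal.Quotient.lift _ v.toRingHom hkill with
            commutes' := ?_ }, fun b => rfl⟩
  intro q
  obtain ⟨a, rfl⟩ := Ideal.Quotient.mk_surjective q
  show Ideal.Quotient.lift _ v.toRingHom hkill
    (Ideal.Quotient.mk _ (algebraMap A B a)) = _
  rw [Ideal.Quotient.lift_mk]
  show v (algebraMap A B a) = _
  rw [v.commutes, IsScalarTower.algebraMap_apply A (A ⧸ J) D, Ideal.Quotient.algebraMap_eq]

/-- Lifting property for `B` against `A`-algebras killed by `J` gives formal smoothness of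
`A/J → B/JB`. -/
theorem formallySmooth_of_lifting
    (h : ∀ (D : Type u) [CommRing D] [Algebra A D] (K : Ideal D), J.map (algebraMap A D) = ⊥ →
      K ^ 2 = ⊥ → ∀ u : B →ₐ[A] D ⧸ K, ∃ v : B →ₐ[A] D, (Ideal.Quotient.mkₐ A K).comp v = u) :
    FormallySmooth (A ⧸ J) (B ⧸ J.map (algebraMap A B)) := by
  apply FormallySmooth.of_comp_surjective
  intro D _ _ K hK g
  let _ : Algebra A D := Algebra.compHom D (Ideal.Quotient.mk J)
  have ht : IsScalarTower A (A ⧸ J) D := IsScalarTower.of_algebraMap_eq fun a => rfl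
  have hJD : J.map (algebraMap A D) = ⊥ := by
    rw [Ideal.map_eq_bot_iff_le_ker]
    intro a ha
    rw [RingHom.mem_ker, IsScalarTower.algebraMap_apply A (A ⧸ J) D, Ideal.Quotient.algebraMap_eq,
      Ideal.Quotient.eq_zero_iff_mem.mpr ha, map_zero]
  let u : B →ₐ[A] D ⧸ K := (g.restrictScalars A).comp (Ideal.Quotient.mkₐ A _)
  obtain ⟨v, hv⟩ := h D K hJD hK u
  obtain ⟨w, hw⟩ := exists_descend J B D v
  refine ⟨w, ?_⟩
  apply AlgHom.ext
  intro x
  obtain ⟨b, rfl⟩ := Ideal.Quotient.mk_surjective x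
  show Ideal.Quotient.mk K (w (Ideal.Quotient.mk _ b)) = g (Ideal.Quotient.mk _ b)
  rw [hw]
  exact AlgHom.congr_fun hv b

/-- Uniqueness of lifts for `B` against `A`-algebras killed by `J` gives formal unramifiedness of
`A/J → B/JB`. -/
theorem formallyUnramified_of_lifting_unique
    (h : ∀ (D : Type u) [CommRing D] [Algebra A D] (K : Ideal D), J.map (algebraMap A D) = ⊥ →
      K ^ 2 = ⊥ → ∀ v₁ v₂ : B →ₐ[A] D,
        (Ideal.Quotient.mkₐ A K).comp v₁ = (Ideal.Quotient.mkₐ A K).comp v₂ → v₁ = v₂) :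
    FormallyUnramified (A ⧸ J) (B ⧸ J.map (algebraMap A B)) := by
  rw [FormallyUnramified.iff_comp_injective]
  intro D _ _ K hK w₁ w₂ hw
  let _ : Algebra A D := Algebra.compHom D (Ideal.Quotient.mk J)
  have ht : IsScalarTower A (A ⧸ J) D := IsScalarTower.of_algebraMap_eq fun a => rfl
  have hJD : J.map (algebraMap A D) = ⊥ := by
    rw [Ideal.map_eq_bot_iff_le_ker]
    intro a ha
    rw [RingHom.mem_ker, IsScalarTower.algebraMap_apply A (A ⧸ J) D, Ideal.Quotient.algebraMap_eq,
      Ideal.Quotient.eq_zero_iff_mem.mpr ha, map_zero]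
  let v₁ : B →ₐ[A] D := (w₁.restrictScalars A).comp (Ideal.Quotient.mkₐ A _)
  let v₂ : B →ₐ[A] D := (w₂.restrictScalars A).comp (Ideal.Quotient.mkₐ A _)
  have hv : (Ideal.Quotient.mkₐ A K).comp v₁ = (Ideal.Quotient.mkₐ A K).comp v₂ := by
    apply AlgHom.ext
    intro b
    exact AlgHom.congr_fun hw (Ideal.Quotient.mk _ b)
  have := h D K hJD hK v₁ v₂ hv
  apply AlgHom.ext
  intro x
  obtain ⟨b, rfl⟩ := Ideal.Quotient.mk_surjective x
  exact AlgHom.congr_fun this b

variable {J B}

/-- Formal smoothness of `A/J → B/JB` gives lifts of `B →ₐ[A] C` along nilpotent surjections of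
`A`-algebras killed by `J`. -/
theorem exists_lift_of_formallySmooth [FormallySmooth (A ⧸ J) (B ⧸ J.map (algebraMap A B))]
    (E C : Type u) [CommRing E] [CommRing C] [Algebra A E] [Algebra A C]
    (hE : J.map (algebraMap A E) = ⊥) (hC : J.map (algebraMap A C) = ⊥)
    (p : E →ₐ[A] C) (hp : Function.Surjective p) (hnil : IsNilpotent (RingHom.ker p))
    (u : B →ₐ[A] C) : ∃ v : B →ₐ[A] E, p.comp v = u := by
  have hE' : ∀ a ∈ J, algebraMap A E a = 0 := fun a ha =>
    (Ideal.map_eq_bot_iff_le_ker _).mp hE ha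
  have hC' : ∀ a ∈ J, algebraMap A C a = 0 := fun a ha =>
    (Ideal.map_eq_bot_iff_le_ker _).mp hC ha
  let _ : Algebra (A ⧸ J) E := (Ideal.Quotient.lift J (algebraMap A E) hE').toAlgebra
  have htE : IsScalarTower A (A ⧸ J) E := IsScalarTower.of_algebraMap_eq fun a => rfl
  let _ : Algebra (A ⧸ J) C := (Ideal.Quotient.lift J (algebraMap A C) hC').toAlgebra
  have htC : IsScalarTower A (A ⧸ J) C := IsScalarTower.of_algebraMap_eq fun a => rfl
  let p' : E →ₐ[A ⧸ J] C :=
    { p.toRingHom with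
      commutes' := by
        intro q
        obtain ⟨a, rfl⟩ := Ideal.Quotient.mk_surjective q
        exact p.commutes a }
  obtain ⟨ū, hū⟩ := exists_descend J B C u
  have hnil' : IsNilpotent (RingHom.ker (p' : E →+* C)) := hnil
  let w := FormallySmooth.liftOfSurjective ū p' hp hnil'
  refine ⟨(w.restrictScalars A).comp (Ideal.Quotient.mkₐ A _), ?_⟩
  apply AlgHom.ext
  intro b
  show p' (w (Ideal.Quotient.mk _ b)) = u b
  rw [FormallySmooth.liftOfSurjective_apply, hū]

/-- Formal unramifiedness of `A/J → B/JB` gives uniqueness of lifts. -/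
theorem lift_unique_of_formallyUnramified
    [FormallyUnramified (A ⧸ J) (B ⧸ J.map (algebraMap A B))]
    (E C : Type u) [CommRing E] [CommRing C] [Algebra A E] [Algebra A C]
    (hE : J.map (algebraMap A E) = ⊥)
    (p : E →ₐ[A] C) (hnil : IsNilpotent (RingHom.ker p))
    (v₁ v₂ : B →ₐ[A] E) (h : p.comp v₁ = p.comp v₂) : v₁ = v₂ := by
  have hE' : ∀ a ∈ J, algebraMap A E a = 0 := fun a ha =>
    (Ideal.map_eq_bot_iff_le_ker _).mp hE ha
  let _ : Algebra (A ⧸ J) E := (Ideal.Quotient.lift J (algebraMap A E) hE').toAlgebra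
  have htE : IsScalarTower A (A ⧸ J) E := IsScalarTower.of_algebraMap_eq fun a => rfl
  obtain ⟨w₁, hw₁⟩ := exists_descend J B E v₁
  obtain ⟨w₂, hw₂⟩ := exists_descend J B E v₂
  have hw : w₁ = w₂ := by
    apply FormallyUnramified.ext' (p : E →+* C) hnil
    intro x
    obtain ⟨b, rfl⟩ := Ideal.Quotient.mk_surjective x
    rw [hw₁, hw₂]
    exact AlgHom.congr_fun h b
  apply AlgHom.ext
  intro b
  rw [← hw₁, ← hw₂, hw]

end Groth.Agent.Lib.helper26.TruncLift
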