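import Mathlib
import Groth.Agent.Lib.Helper26.PairHensFP
import Groth.Agent.Lib.Helper26.TruncLift

/-!
# h-étale maps (helper26)

* `exists_algHom_lift_of_etale`: maps from an étale `A`-algebra to `T/J` lift to `T` for a henselian
  pair `(T, J)`.
* `surjective_of_forall_exists_sub_mem`: over a henselian pair `(A, I)`, a henselization `B` of a
  finite type algebra with `A → B/IB` surjective is a quotient of `A`.
* `trunc_bijective`: a map `φ : H → B` that is bijective modulo `I` and with étale truncations is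
  bijective modulo `Iⁿ`.
-/

universe u

namespace Groth.Agent.Lib.helper26.PairHens

open Groth.Agent.Lib.helper26.PairNbhd Groth.Agent.Lib.helper26.HenselPair TensorProduct
open Groth.Agent.Lib.helper26.TruncLift

variable {A : Type u} [CommRing A]

/-- Maps from an étale algebra to `T/J` lift to `T` for a henselian pair `(T, J)`. -/
theorem exists_algHom_lift_of_etale (T : Type u) [CommRing T] [Algebra A T] (J : Ideal T)
    (hT : HenselianRing T J) (R : Type u) [CommRing R] [Algebra A R] [Algebra.Etale A R]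
    (ψ : R →ₐ[A] T ⧸ J) : ∃ ρ : R →ₐ[A] T, ∀ r, Ideal.Quotient.mk J (ρ r) = ψ r := by
  let σ : T ⊗[A] R →ₐ[T] T ⧸ J :=
    Algebra.TensorProduct.lift (Algebra.ofId T (T ⧸ J)) ψ (fun _ _ => Commute.all _ _)
  obtain ⟨τ, hτ⟩ := exists_lift_of_henselianRing hT (T ⊗[A] R) σ
  refine ⟨(τ.restrictScalars A).comp Algebra.TensorProduct.includeRight, fun r => ?_⟩
  have h1 := AlgHom.congr_fun hτ (1 ⊗ₜ r)
  simp only [AlgHom.comp_apply, Ideal.Quotient.mkₐ_eq_mk] at h1
  show Ideal.Quotient.mk J (τ (1 ⊗ₜ r)) = ψ r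
  rw [h1]
  show Algebra.TensorProduct.lift (Algebra.ofId T (T ⧸ J)) ψ _ (1 ⊗ₜ r) = ψ r
  rw [Algebra.TensorProduct.lift_tmul, map_one, one_mul]

/-- Over a henselian pair `(A, I)`: if `B` is a henselization of `(R, IR)` with `R` of finite
type and `A → B/IB` surjective, then `A → B` is surjective (and `B` is étale over `R`). -/
theorem surjective_of_forall_exists_sub_mem (I : Ideal A) (h : HenselianRing A I) (R : Type u)
    [CommRing R] [Algebra A R] [Algebra.FiniteType A R] (B : Type u) [CommRing B] [Algebra R B]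
    [Algebra A B] [IsScalarTower A R B]
    (hB : Hens2.IsPairHenselization R (I.map (algebraMap A R)) B)
    (hcong : ∀ b : B, ∃ a : A, algebraMap A B a - b ∈ I.map (algebraMap A B)) :
    Function.Surjective (algebraMap A B) ∧ Module.Finite A B ∧ Algebra.Etale R B := by
  have hfinA : Module.Finite A (B ⧸ I.map (algebraMap A B)) := by
    apply Module.Finite.of_surjective (Algebra.linearMap A (B ⧸ I.map (algebraMap A B)))
    intro y
    obtain ⟨b, rfl⟩ := Ideal.Quotient.mk_surjective y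
    obtain ⟨a, ha⟩ := hcong b
    refine ⟨a, ?_⟩
    rw [Algebra.linearMap_apply, IsScalarTower.algebraMap_apply A B (B ⧸ _),
      Ideal.Quotient.algebraMap_eq, Ideal.Quotient.eq]
    exact ha
  obtain ⟨h1, h2⟩ := finite_of_finite_quotient' I h R B hB hfinA
  refine ⟨?_, h1, h2⟩
  have hle : (⊤ : Submodule A B) ≤ LinearMap.range (Algebra.linearMap A B) := by
    apply Submodule.le_of_le_smul_of_le_jacobson_bot (I := I) h1.fg_top h.jac
    intro b _
    obtain ⟨a, ha⟩ := hcong b
    rw [Ideal.smul_top_eq_map]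
    have hb : b = algebraMap A B a + (b - algebraMap A B a) := by ring
    rw [hb]
    refine Submodule.add_mem_sup ⟨a, rfl⟩ ?_
    show b - algebraMap A B a ∈ I.map (algebraMap A B)
    have := neg_mem ha
    rwa [neg_sub] at this
  intro b
  obtain ⟨a, ha⟩ := hle (Submodule.mem_top (x := b))
  exact ⟨a, ha⟩

/-- Bijectivity modulo `I` plus formally étale truncations gives bijectivity modulo `Iⁿ`. -/
theorem trunc_bijective (I : Ideal A) (n : ℕ) (H B : Type u) [CommRing H] [CommRing B]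
    [Algebra A H] [Algebra A B] (φ : H →ₐ[A] B)
    (hsurj : ∀ b, ∃ h, φ h - b ∈ I.map (algebraMap A B))
    (hinj : ∀ h, φ h ∈ I.map (algebraMap A B) → h ∈ I.map (algebraMap A H))
    [Algebra.FormallySmooth (A ⧸ I ^ n) (B ⧸ (I ^ n).map (algebraMap A B))]
    [Algebra.FormallyUnramified (A ⧸ I ^ n) (B ⧸ (I ^ n).map (algebraMap A B))]
    [Algebra.FormallyUnramified (A ⧸ I ^ n) (H ⧸ (I ^ n).map (algebraMap A H))] (hn : 1 ≤ n) :
    (∀ b, ∃ h, φ h - b ∈ (I ^ n).map (algebraMap A B)) ∧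
      ∀ h, φ h ∈ (I ^ n).map (algebraMap A B) → h ∈ (I ^ n).map (algebraMap A H) := by
  set J := I ^ n with hJ
  have hJI : J ≤ I := by
    rw [hJ]; exact Ideal.pow_le_self (by omega)
  set JH := J.map (algebraMap A H) with hJH
  set JB := J.map (algebraMap A B) with hJB
  set IH := I.map (algebraMap A H) with hIH
  set IB := I.map (algebraMap A B) with hIB
  have hJBIB : JB ≤ IB := Ideal.map_mono hJI
  have hφJ : ∀ x ∈ JH, φ x ∈ JB := by
    intro x hx
    have h1 : JH.map φ.toRingHom ≤ JB := by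
      rw [hJH, Ideal.map_map, hJB]
      apply le_of_eq
      congr 1
      exact φ.comp_algebraMap
    exact h1 (Ideal.mem_map_of_mem _ hx)
  -- `E = H/JH`, `C = B/IB`
  have hE : J.map (algebraMap A (H ⧸ JH)) = ⊥ := by
    rw [IsScalarTower.algebraMap_eq A H (H ⧸ JH), ← Ideal.map_map, Ideal.Quotient.algebraMap_eq,
      Ideal.map_quotient_self]
  have hC : J.map (algebraMap A (B ⧸ IB)) = ⊥ := by
    rw [IsScalarTower.algebraMap_eq A B (B ⧸ IB), ← Ideal.map_map, Ideal.Quotient.algebraMap_eq,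
      eq_bot_iff]
    refine (Ideal.map_mono hJBIB).trans ?_
    rw [Ideal.map_quotient_self]
  have hE' : J.map (algebraMap A (B ⧸ JB)) = ⊥ := by
    rw [IsScalarTower.algebraMap_eq A B (B ⧸ JB), ← Ideal.map_map, Ideal.Quotient.algebraMap_eq,
      Ideal.map_quotient_self]
  let p : (H ⧸ JH) →ₐ[A] (B ⧸ IB) :=
    Ideal.Quotient.liftₐ JH ((Ideal.Quotient.mkₐ A IB).comp φ) (by
      intro x hx
      show Ideal.Quotient.mk IB (φ x) = 0
      rw [Ideal.Quotient.eq_zero_iff_mem]
      exact hJBIB (hφJ x hx))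
  have hp_mk : ∀ h, p (Ideal.Quotient.mk JH h) = Ideal.Quotient.mk IB (φ h) := fun h => rfl
  have hp : Function.Surjective p := by
    intro y
    obtain ⟨b, rfl⟩ := Ideal.Quotient.mk_surjective y
    obtain ⟨h, hh⟩ := hsurj b
    exact ⟨Ideal.Quotient.mk JH h, by rw [hp_mk, Ideal.Quotient.eq]; exact hh⟩
  have hnil : IsNilpotent (RingHom.ker p) := by
    refine ⟨n, ?_⟩
    rw [Ideal.zero_eq_bot, eq_bot_iff]
    have h1 : RingHom.ker p ≤ IH.map (Ideal.Quotient.mk JH) := by
      intro x hx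
      obtain ⟨h, rfl⟩ := Ideal.Quotient.mk_surjective x
      rw [RingHom.mem_ker, hp_mk, Ideal.Quotient.eq_zero_iff_mem] at hx
      exact Ideal.mem_map_of_mem _ (hinj h hx)
    refine (Ideal.pow_right_mono h1 n).trans ?_
    rw [← Ideal.map_pow, hIH, ← Ideal.map_pow, ← hJ, ← hJH, Ideal.map_quotient_self]
  let u : B →ₐ[A] (B ⧸ IB) := Ideal.Quotient.mkₐ A IB
  obtain ⟨v, hv⟩ := exists_lift_of_formallySmooth (J := J) (B := B) (H ⧸ JH) (B ⧸ IB) hE hC p hp
    hnil u
  have hv' : ∀ b, p (v b) = Ideal.Quotient.mk IB b := fun b => AlgHom.congr_fun hv b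
  -- `v` kills `JB`
  have hvJ : ∀ x ∈ JB, v x = 0 := by
    intro x hx
    have h1 : JB.map v.toRingHom ≤ ⊥ := by
      rw [hJB, Ideal.map_map, ← hE]
      apply le_of_eq
      congr 1
      exact v.comp_algebraMap
    have := h1 (Ideal.mem_map_of_mem _ hx)
    exact (Ideal.mem_bot.mp this)
  -- the map `φ̄ : H/JH → B/JB`
  let φbar : (H ⧸ JH) →ₐ[A] (B ⧸ JB) :=
    Ideal.Quotient.liftₐ JH ((Ideal.Quotient.mkₐ A JB).comp φ) (by
      intro x hx
      show Ideal.Quotient.mk JB (φ x) = 0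
      rw [Ideal.Quotient.eq_zero_iff_mem]
      exact hφJ x hx)
  have hφbar_mk : ∀ h, φbar (Ideal.Quotient.mk JH h) = Ideal.Quotient.mk JB (φ h) := fun h => rfl
  let p' : (B ⧸ JB) →ₐ[A] (B ⧸ IB) := Ideal.Quotient.factorₐ A hJBIB
  have hp'_mk : ∀ b, p' (Ideal.Quotient.mk JB b) = Ideal.Quotient.mk IB b := fun b => rfl
  have hnil' : IsNilpotent (RingHom.ker p') := by
    refine ⟨n, ?_⟩
    rw [Ideal.zero_eq_bot, eq_bot_iff]
    have h1 : RingHom.ker p' ≤ IB.map (Ideal.Quotient.mk JB) := by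
      intro x hx
      obtain ⟨b, rfl⟩ := Ideal.Quotient.mk_surjective x
      rw [RingHom.mem_ker, hp'_mk, Ideal.Quotient.eq_zero_iff_mem] at hx
      exact Ideal.mem_map_of_mem _ hx
    refine (Ideal.pow_right_mono h1 n).trans ?_
    rw [← Ideal.map_pow, hIB, ← Ideal.map_pow, ← hJ, ← hJB, Ideal.map_quotient_self]
  have claim1 : φbar.comp v = Ideal.Quotient.mkₐ A JB := by
    apply lift_unique_of_formallyUnramified (J := J) (B := B) (B ⧸ JB) (B ⧸ IB) hE' p' hnil'
    apply AlgHom.ext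
    intro b
    show p' (φbar (v b)) = p' (Ideal.Quotient.mk JB b)
    rw [hp'_mk, ← hv']
    obtain ⟨h, hh⟩ := Ideal.Quotient.mk_surjective (v b)
    rw [← hh, hφbar_mk, hp'_mk, hp_mk]
  have claim2 : v.comp φ = Ideal.Quotient.mkₐ A JH := by
    apply lift_unique_of_formallyUnramified (J := J) (B := H) (H ⧸ JH) (B ⧸ IB) hE p hnil
    apply AlgHom.ext
    intro h
    show p (v (φ h)) = p (Ideal.Quotient.mk JH h)
    rw [hv', hp_mk]
  constructor
  · intro b
    obtain ⟨h, hh⟩ := Ideal.Quotient.mk_surjective (v b)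
    refine ⟨h, ?_⟩
    have h1 := AlgHom.congr_fun claim1 b
    simp only [AlgHom.comp_apply, Ideal.Quotient.mkₐ_eq_mk] at h1
    rw [← hh, hφbar_mk, Ideal.Quotient.eq] at h1
    exact h1
  · intro h hh
    have h1 := AlgHom.congr_fun claim2 h
    simp only [AlgHom.comp_apply, Ideal.Quotient.mkₐ_eq_mk] at h1
    rw [hvJ _ hh] at h1
    exact Ideal.Quotient.eq_zero_iff_mem.mp h1.symm

end Groth.Agent.Lib.helper26.PairHens
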