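import Mathlib
import Groth.Agent.Lib.Helper26.PairHensEtale
import Groth.Agent.S17609

/-!
# h-formally étale henselian finitely presented maps are quotients of h-étale maps (helper26)
-/

universe u

namespace Groth.Agent.Lib.helper26.PairHens

open Groth.Agent.Lib.helper26.PairNbhd Groth.Agent.Lib.helper26.HenselPair TensorProduct
open Groth.Agent.Lib.helper26.TruncLift

variable {A : Type u} [CommRing A]

theorem etale_congr {B : Type u} [CommRing B] [Algebra A B] {J J' : Ideal A} (h : J = J')
    (het : Algebra.Etale (A ⧸ J) (B ⧸ J.map (algebraMap A B))) :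
    Algebra.Etale (A ⧸ J') (B ⧸ J'.map (algebraMap A B)) := by
  subst h; exact het

theorem exists_etale_hens_surjective (I : Ideal A) (hA : HenselianRing A I) (R₀ : Type u)
    [CommRing R₀] [Algebra A R₀] [Algebra.FinitePresentation A R₀]
    (B : Type u) [CommRing B] [Algebra R₀ B] [Algebra A B] [IsScalarTower A R₀ B]
    (hB : Hens2.IsPairHenselization R₀ (I.map (algebraMap A R₀)) B)
    (het : ∀ r : ℕ, 1 ≤ r → Algebra.Etale (A ⧸ I ^ r) (B ⧸ (I ^ r).map (algebraMap A B))) :
    ∃ (R : Type u) (_ : CommRing R) (_ : Algebra A R) (H : Type u) (_ : CommRing H) (_ : Algebra R H)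
      (_ : Algebra A H) (_ : IsScalarTower A R H),
      Algebra.Etale A R ∧ Hens2.IsPairHenselization R (I.map (algebraMap A R)) H ∧
      ∃ φ : H →ₐ[A] B, Function.Surjective φ ∧ (RingHom.ker φ).FG ∧
        ∀ n : ℕ, RingHom.ker φ ≤ (I ^ n).map (algebraMap A H) := by
  set IB := I.map (algebraMap A B) with hIB
  have hIBeq : (I.map (algebraMap A R₀)).map (algebraMap R₀ B) = IB := by
    rw [Ideal.map_map, ← IsScalarTower.algebraMap_eq]
  have hBhens : HenselianRing B IB := by rw [← hIBeq]; exact hB.1
  have het1 : Algebra.Etale (A ⧸ I) (B ⧸ IB) := etale_congr (pow_one I) (het 1 le_rfl)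
  obtain ⟨R, _, _, hRet, ψ, hψA, hψsurj, hψker⟩ :=
    Groth.Agent.Lib.helper26.FiniteEtaleLift.exists_etale_lift I (B ⧸ IB)
  let ψA : R →ₐ[A] B ⧸ IB :=
    { ψ with
      commutes' := fun a => by
        show ψ (algebraMap A R a) = _
        rw [hψA]
        rfl }
  obtain ⟨ρ, hρ⟩ := exists_algHom_lift_of_etale B IB hBhens R ψA
  have hρ' : ∀ r, Ideal.Quotient.mk IB (ρ r) = ψ r := hρ
  set IR := I.map (algebraMap A R) with hIR
  obtain ⟨H, _, _, hH⟩ := exists_isPairHenselization R IR
  let _ : Algebra A H := ((algebraMap R H).comp (algebraMap A R)).toAlgebra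
  have htowerH : IsScalarTower A R H := IsScalarTower.of_algebraMap_eq fun _ => rfl
  set IH := I.map (algebraMap A H) with hIH
  have hIHeq : IR.map (algebraMap R H) = IH := by
    rw [hIR, Ideal.map_map, ← IsScalarTower.algebraMap_eq]
  have hle : IR.map ρ.toRingHom ≤ IB := by
    rw [hIR, Ideal.map_map]
    apply le_of_eq
    congr 1
    exact ρ.comp_algebraMap
  obtain ⟨φ₀, hφ₀, -⟩ := hH.2 B IB ρ.toRingHom hBhens hle
  have hφ₀' : ∀ r, φ₀ (algebraMap R H r) = ρ r := fun r => RingHom.congr_fun hφ₀ r
  let φ : H →ₐ[A] B :=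
    { φ₀ with
      commutes' := fun a => by
        show φ₀ (algebraMap R H (algebraMap A R a)) = _
        rw [hφ₀', ρ.commutes] }
  have hφR : ∀ r, φ (algebraMap R H r) = ρ r := hφ₀'
  have hφIH : ∀ x ∈ IH, φ x ∈ IB := by
    intro x hx
    have h1 : IH.map φ.toRingHom ≤ IB := by
      rw [hIH, Ideal.map_map]
      apply le_of_eq
      congr 1
      exact φ.comp_algebraMap
    exact h1 (Ideal.mem_map_of_mem _ hx)
  -- base facts
  have hsurj1 : ∀ b, ∃ h, φ h - b ∈ IB := by
    intro b
    obtain ⟨r, hr⟩ := hψsurj (Ideal.Quotient.mk IB b)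
    refine ⟨algebraMap R H r, ?_⟩
    rw [hφR, ← Ideal.Quotient.eq, hρ', hr]
  have hinj1 : ∀ h, φ h ∈ IB → h ∈ IH := by
    intro h hh
    obtain ⟨r, hr⟩ := exists_sub_mem_of_isPairHenselization hH h
    rw [hIHeq] at hr
    have h1 : ρ r ∈ IB := by
      have h2 : ρ r = φ h + φ (algebraMap R H r - h) := by
        rw [map_sub, hφR]; ring
      rw [h2]
      exact add_mem hh (hφIH _ hr)
    have h3 : ψ r = 0 := by
      rw [← hρ', Ideal.Quotient.eq_zero_iff_mem]; exact h1
    have h4 : r ∈ IR := by
      rw [← hψker]; exact h3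
    have h5 : algebraMap R H r ∈ IH := by
      rw [← hIHeq]; exact Ideal.mem_map_of_mem _ h4
    have h6 : h = algebraMap R H r - (algebraMap R H r - h) := by ring
    rw [h6]
    exact sub_mem h5 hr
  -- truncations
  have htrunc : ∀ n : ℕ, 1 ≤ n → ∀ h, φ h ∈ (I ^ n).map (algebraMap A B) →
      h ∈ (I ^ n).map (algebraMap A H) := by
    intro n hn
    have hBet := het n hn
    have hBfe := hBet.formallyEtale
    have hBs : Algebra.FormallySmooth (A ⧸ I ^ n) (B ⧸ (I ^ n).map (algebraMap A B)) :=
      inferInstance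
    have hBu : Algebra.FormallyUnramified (A ⧸ I ^ n) (B ⧸ (I ^ n).map (algebraMap A B)) :=
      inferInstance
    obtain ⟨e⟩ := nonempty_tensor_algEquiv_quotient_pow I R H hH n
    have hHet : Algebra.Etale (A ⧸ I ^ n) (H ⧸ (I ^ n).map (algebraMap A H)) :=
      Algebra.Etale.of_equiv e
    have hHfe := hHet.formallyEtale
    have hHu : Algebra.FormallyUnramified (A ⧸ I ^ n) (H ⧸ (I ^ n).map (algebraMap A H)) :=
      inferInstance
    exact (trunc_bijective I n H B φ hsurj1 hinj1 hn).2
  have hker_le : ∀ n : ℕ, RingHom.ker φ ≤ (I ^ n).map (algebraMap A H) := by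
    intro n x hx
    rcases Nat.eq_zero_or_pos n with h0 | hpos
    · subst h0
      rw [pow_zero, Ideal.one_eq_top, Ideal.map_top]
      trivial
    · apply htrunc n hpos
      rw [(RingHom.mem_ker).mp hx]
      exact zero_mem _
  -- surjectivity and finite generation of the kernel
  let _ : Algebra H B := φ.toRingHom.toAlgebra
  have htowerHB : IsScalarTower A H B := IsScalarTower.of_algHom φ
  have hHhens : HenselianRing H IH := by rw [← hIHeq]; exact hH.1
  have hRfp : Algebra.FinitePresentation A R := inferInstance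
  obtain ⟨T, _, _, _, htowerT, hTfp, hBT⟩ :=
    Groth.Agent.S17609.result A I R H hH R₀ B hB
  have hcong : ∀ b : B, ∃ h : H, algebraMap H B h - b ∈ IH.map (algebraMap H B) := by
    have hIHB : IH.map (algebraMap H B) = IB := by
      rw [hIH, Ideal.map_map, ← IsScalarTower.algebraMap_eq]
    rw [hIHB]
    exact hsurj1
  have hTft : Algebra.FiniteType H T := inferInstance
  obtain ⟨hsurj, hfin, hTBet⟩ := surjective_of_forall_exists_sub_mem IH hHhens T B hBT hcong
  have hTBfp : Algebra.FinitePresentation T B := inferInstance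
  have hHBfp : Algebra.FinitePresentation H B := Algebra.FinitePresentation.trans H T B
  have hfg := Algebra.FinitePresentation.ker_fG_of_surjective (R := H) (A := H) (B := B)
    (Algebra.ofId H B) hsurj
  refine ⟨R, inferInstance, inferInstance, H, inferInstance, inferInstance, inferInstance,
    htowerH, hRet, hH, φ, hsurj, ?_, hker_le⟩
  exact hfg

end Groth.Agent.Lib.helper26.PairHens
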