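import Mathlib
import Groth.Agent.Lib.Helper26.PairHensFlat
import Groth.Agent.Lib.Helper24.NoethLimit
import Groth.Agent.S0542

/-!
# The henselization of a Noetherian pair is Noetherian (helper26)

* `bijective_adicCompletion_map`: `A^ → B^` is bijective for a henselization `B` of `(A, I)`.
* `isNoetherianRing_of_isPairHenselization`: if `A` is Noetherian so is `B`.
-/

universe u

set_option linter.style.haveILetI false

namespace Groth.Agent.Lib.helper26.PairHens

open Groth.Agent.Lib.helper26.PairNbhd Groth.Agent.Lib.helper26.HenselPair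

section Completion

variable {A : Type u} [CommRing A] {I : Ideal A} {B : Type u} [CommRing B] [Algebra A B]

theorem mem_smul_top_iff (n : ℕ) (b : B) :
    b ∈ (I ^ n • ⊤ : Submodule A B) ↔ b ∈ (I ^ n).map (algebraMap A B) := by
  rw [Ideal.smul_top_eq_map, Submodule.restrictScalars_mem]

theorem bijective_reduceModIdeal (hB : Hens2.IsPairHenselization A I B) (n : ℕ) :
    Function.Bijective ((Algebra.linearMap A B).reduceModIdeal (I ^ n)) := by
  constructor
  · rw [injective_iff_map_eq_zero]
    intro x hx
    obtain ⟨a, rfl⟩ := Submodule.Quotient.mk_surjective _ x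
    rw [LinearMap.reduceModIdeal_apply, Submodule.Quotient.mk_eq_zero, mem_smul_top_iff] at hx
    rw [Submodule.Quotient.mk_eq_zero]
    have := mem_pow_of_algebraMap_mem hB n a hx
    simpa using this
  · intro y
    obtain ⟨b, rfl⟩ := Submodule.Quotient.mk_surjective _ y
    obtain ⟨a, ha⟩ := exists_sub_mem_pow hB n b
    refine ⟨Submodule.Quotient.mk a, ?_⟩
    rw [LinearMap.reduceModIdeal_apply, Submodule.Quotient.eq, mem_smul_top_iff]
    exact ha

theorem bijective_adicCompletion_map (hB : Hens2.IsPairHenselization A I B) :
    Function.Bijective (AdicCompletion.map I (Algebra.linearMap A B) :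
      AdicCompletion I A → AdicCompletion I B) := by
  constructor
  · intro x y hxy
    apply AdicCompletion.ext
    intro n
    apply (bijective_reduceModIdeal hB n).1
    rw [← AdicCompletion.map_val_apply, ← AdicCompletion.map_val_apply, hxy]
  · intro y
    choose x hx using fun n => (bijective_reduceModIdeal hB n).2 (y.val n)
    refine ⟨⟨x, ?_⟩, ?_⟩
    · intro m n hmn
      apply (bijective_reduceModIdeal hB m).1
      rw [hx m]
      have h1 := LinearMap.congr_fun
        (AdicCompletion.transitionMap_comp_reduceModIdeal I (Algebra.linearMap A B) hmn) (x n)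
      simp only [LinearMap.comp_apply] at h1
      erw [← h1, hx n]
      exact y.2 hmn
    · apply AdicCompletion.ext
      intro n
      rw [AdicCompletion.map_val_apply]
      exact hx n

end Completion

section Flat

variable {A : Type u} [CommRing A] {I : Ideal A}

/-- Any `H A I`-algebra that is flat over `A` is flat over `H A I` (the henselization is a filtered
colimit of étale algebras). -/
theorem flat_of_flat_base (T : Type u) [CommRing T] [Algebra A T] [Module.Flat A T]
    [Algebra (H A I) T] [IsScalarTower A (H A I) T] : Module.Flat (H A I) T := by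
  apply Module.Flat.of_forall_isTrivialRelation
  intro l f x hfx
  obtain ⟨k, y, hy⟩ := exists_common_stage_fin f
  letI : Algebra k.C T := ((algebraMap (H A I) T).comp (ι k).toRingHom).toAlgebra
  have halg : ∀ c : k.C, algebraMap k.C T c = algebraMap (H A I) T (ι k c) := fun _ => rfl
  haveI : IsScalarTower A k.C T := IsScalarTower.of_algebraMap_eq (R := A) (S := k.C) (A := T)
    (fun a => by
      rw [halg, (ι k).commutes, ← IsScalarTower.algebraMap_apply])
  haveI : Module.Flat k.C T :=
    Algebra.FormallyUnramified.flat_of_restrictScalars (R := A) (S := k.C) T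
  have h2 : ∑ i, y i • x i = 0 := by
    rw [← hfx]
    refine Finset.sum_congr rfl fun i _ => ?_
    rw [Algebra.smul_def, Algebra.smul_def, halg, hy]
  obtain ⟨m, a, z, hz1, hz2⟩ :=
    Module.Flat.isTrivialRelation_of_sum_smul_eq_zero (R := k.C) (M := T) (f := y) (x := x) h2
  refine ⟨m, fun i j => ι k (a i j), z, fun i => ?_, fun j => ?_⟩
  · rw [hz1 i]
    refine Finset.sum_congr rfl fun j _ => ?_
    rw [Algebra.smul_def, Algebra.smul_def, halg]
  · have := congrArg (ι k) (hz2 j)
    rw [map_sum, map_zero] at this
    rw [← this]
    refine Finset.sum_congr rfl fun i _ => ?_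
    rw [map_mul, hy]

end Flat

section Noeth

variable (A : Type u) [CommRing A] [IsNoetherianRing A] (I : Ideal A)

theorem isAdicComplete_completion :
    IsAdicComplete (I.map (algebraMap A (AdicCompletion I A))) (AdicCompletion I A) :=
  (IsAdicComplete.map_algebraMap_iff (R := A) (S := AdicCompletion I A) (I := I)
    (M := AdicCompletion I A)).mpr (AdicCompletion.isAdicComplete (IsNoetherian.noetherian I))

theorem henselianRing_completion :
    HenselianRing (AdicCompletion I A) (I.map (algebraMap A (AdicCompletion I A))) := by
  haveI := isAdicComplete_completion A I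
  infer_instance

theorem isNoetherianRing_completion : IsNoetherianRing (AdicCompletion I A) :=
  Groth.Agent.S0542.result A I (IsNoetherian.noetherian I)

/-- The henselization of a Noetherian pair is Noetherian (model). -/
theorem isNoetherianRing_H : IsNoetherianRing (H A I) := by
  obtain ⟨φ, hφ, -⟩ := (isPairHenselization_H (A := A) (I := I)).2 (AdicCompletion I A)
    (I.map (algebraMap A (AdicCompletion I A))) (algebraMap A (AdicCompletion I A))
    (henselianRing_completion A I) le_rfl
  letI : Algebra (H A I) (AdicCompletion I A) := φ.toAlgebra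
  haveI : IsScalarTower A (H A I) (AdicCompletion I A) :=
    IsScalarTower.of_algebraMap_eq (fun a => (RingHom.congr_fun hφ a).symm)
  haveI : Module.Flat A (AdicCompletion I A) := inferInstance
  haveI : Module.Flat (H A I) (AdicCompletion I A) := flat_of_flat_base _
  haveI := isNoetherianRing_completion A I
  haveI : Module.FaithfullyFlat (H A I) (AdicCompletion I A) := by
    refine ⟨fun m hm htop => ?_⟩
    rw [Ideal.smul_top_eq_map, Submodule.restrictScalars_eq_top_iff] at htop
    have halgφ : algebraMap (H A I) (AdicCompletion I A) = φ := rfl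
    rw [halgφ] at htop
    set Θ : H A I →+* A ⧸ I := (AdicCompletion.evalOneₐ I).toRingHom.comp φ with hΘ
    have hΘalg : ∀ a : A, Θ (algebraMap A (H A I) a) = Ideal.Quotient.mk I a := by
      intro a
      have h1 : φ (algebraMap A (H A I) a) = algebraMap A (AdicCompletion I A) a :=
        RingHom.congr_fun hφ a
      rw [hΘ, RingHom.comp_apply, h1]
      exact (AdicCompletion.evalOneₐ I).commutes a
    have hΘsurj : Function.Surjective Θ := by
      intro y
      obtain ⟨a, rfl⟩ := Ideal.Quotient.mk_surjective y
      exact ⟨algebraMap A (H A I) a, hΘalg a⟩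
    have hΘtop : Ideal.map Θ m = ⊤ := by
      rw [hΘ, ← Ideal.map_map, htop, Ideal.map_top]
    have hΘI : ∀ z ∈ I.map (algebraMap A (H A I)), Θ z = 0 := by
      intro z hz
      have h1 : (I.map (algebraMap A (H A I))).map Θ ≤ ⊥ := by
        rw [Ideal.map_map, Ideal.map_le_iff_le_comap]
        intro a ha
        rw [Ideal.mem_comap, RingHom.comp_apply, hΘalg, Ideal.mem_bot,
          Ideal.Quotient.eq_zero_iff_mem]
        exact ha
      exact (Ideal.mem_bot).mp (h1 (Ideal.mem_map_of_mem Θ hz))
    have hker : ∀ z : H A I, Θ z = 0 → z ∈ I.map (algebraMap A (H A I)) := by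
      intro z hz
      obtain ⟨a, ha⟩ := exists_sub_mem_H z
      have h1 := hΘI _ ha
      rw [map_sub, hz, sub_zero, hΘalg, Ideal.Quotient.eq_zero_iff_mem] at h1
      have h2 : z = algebraMap A (H A I) a - (algebraMap A (H A I) a - z) := by ring
      rw [h2]
      exact sub_mem (Ideal.mem_map_of_mem _ h1) ha
    have h1 : (1 : A ⧸ I) ∈ Ideal.map Θ m := by rw [hΘtop]; trivial
    obtain ⟨h, hhm, hh1⟩ := (Ideal.mem_map_iff_of_surjective Θ hΘsurj).mp h1
    have h2 : 1 - h ∈ I.map (algebraMap A (H A I)) := hker _ (by rw [map_sub, hh1, map_one, sub_self])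
    have h3 : I.map (algebraMap A (H A I)) ≤ m :=
      map_le_jacobson.trans (sInf_le ⟨bot_le, hm⟩)
    have h4 : (1 : H A I) ∈ m := by
      have : (1 : H A I) = h + (1 - h) := by ring
      rw [this]
      exact add_mem hhm (h3 h2)
    exact hm.ne_top ((Ideal.eq_top_iff_one m).mpr h4)
  exact Groth.Agent.Lib.Helper24.NoethLimit.isNoetherianRing_of_faithfullyFlat (H A I)
    (AdicCompletion I A)

variable {A I}

/-- The henselization of a Noetherian pair is Noetherian. -/
theorem isNoetherianRing_of_isPairHenselization {B : Type u} [CommRing B] [Algebra A B]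
    (hB : Hens2.IsPairHenselization A I B) : IsNoetherianRing B := by
  obtain ⟨θ⟩ := nonempty_algEquiv_of_isPairHenselization (isPairHenselization_H (A := A) (I := I)) hB
  haveI := isNoetherianRing_H A I
  exact isNoetherianRing_of_ringEquiv (H A I) θ.toRingEquiv

end Noeth

end Groth.Agent.Lib.helper26.PairHens
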