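import Mathlib
import Groth.Agent.Lib.Helper26.FlatKer

/-!
# Truncations of maps that are bijective modulo `I`, flat case (helper26)

`trunc_bijective_of_flat`: a map `φ : H → B` of `A`-algebras that is bijective modulo `I` and such
that `B/IⁿB` is flat over `A/Iⁿ` is bijective modulo `Iⁿ`.
-/

universe u

namespace Groth.Agent.Lib.helper26.PairHens

open Groth.Agent.Lib.helper26.FlatKer

variable {A : Type u} [CommRing A]

/-- Surjectivity modulo `I` gives surjectivity modulo `Iᵏ`. -/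
theorem trunc_surjective (I : Ideal A) (H B : Type u) [CommRing H] [CommRing B]
    [Algebra A H] [Algebra A B] (φ : H →ₐ[A] B)
    (hsurj : ∀ b, ∃ h, φ h - b ∈ I.map (algebraMap A B)) (k : ℕ) :
    ∀ b, ∃ h, φ h - b ∈ (I ^ k).map (algebraMap A B) := by
  induction k with
  | zero =>
    intro b
    refine ⟨0, ?_⟩
    rw [pow_zero, Ideal.one_eq_top, Ideal.map_top]
    trivial
  | succ k ih =>
    have key : ∀ y ∈ (I ^ k).map (algebraMap A B),
        ∃ h', φ h' - y ∈ (I ^ (k + 1)).map (algebraMap A B) := by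
      intro y hy
      rw [Ideal.map] at hy
      induction hy using Submodule.span_induction with
      | mem x hx =>
        obtain ⟨a, _, rfl⟩ := hx
        exact ⟨algebraMap A H a, by rw [AlgHom.commutes, sub_self]; exact zero_mem _⟩
      | zero => exact ⟨0, by simp⟩
      | add x y _ _ hx hy =>
        obtain ⟨h₁, hh₁⟩ := hx
        obtain ⟨h₂, hh₂⟩ := hy
        refine ⟨h₁ + h₂, ?_⟩
        have e : φ (h₁ + h₂) - (x + y) = (φ h₁ - x) + (φ h₂ - y) := by rw [map_add]; ring
        rw [e]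
        exact add_mem hh₁ hh₂
      | smul r x hxmem hx =>
        obtain ⟨h₁, hh₁⟩ := hx
        obtain ⟨hr, hhr⟩ := hsurj r
        refine ⟨hr * h₁, ?_⟩
        have hxmem' : x ∈ (I ^ k).map (algebraMap A B) := hxmem
        have hle : (I ^ (k + 1)).map (algebraMap A B) ≤ (I ^ k).map (algebraMap A B) :=
          Ideal.map_mono (Ideal.pow_le_pow_right (Nat.le_succ k))
        have h1 : φ h₁ ∈ (I ^ k).map (algebraMap A B) := by
          have : φ h₁ = (φ h₁ - x) + x := by ring
          rw [this]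
          exact add_mem (hle hh₁) hxmem'
        have e : φ (hr * h₁) - r • x = r * (φ h₁ - x) + (φ hr - r) * φ h₁ := by
          rw [map_mul, smul_eq_mul]; ring
        rw [e]
        refine add_mem (Ideal.mul_mem_left _ _ hh₁) ?_
        have h2 : (φ hr - r) * φ h₁ ∈ I.map (algebraMap A B) * (I ^ k).map (algebraMap A B) :=
          Ideal.mul_mem_mul hhr h1
        rwa [← Ideal.map_mul, ← pow_succ'] at h2
    intro b
    obtain ⟨h₀, hh₀⟩ := ih b
    obtain ⟨h', hh'⟩ := key _ hh₀
    refine ⟨h₀ - h', ?_⟩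
    have e : φ (h₀ - h') - b = -(φ h' - (φ h₀ - b)) := by rw [map_sub]; ring
    rw [e]
    exact neg_mem hh'

/-- Bijectivity modulo `I` plus flatness of `B/IⁿB` over `A/Iⁿ` gives bijectivity modulo `Iⁿ`. -/
theorem trunc_bijective_of_flat (I : Ideal A) (n : ℕ) (H B : Type u) [CommRing H] [CommRing B]
    [Algebra A H] [Algebra A B] (φ : H →ₐ[A] B)
    (hsurj : ∀ b, ∃ h, φ h - b ∈ I.map (algebraMap A B))
    (hinj : ∀ h, φ h ∈ I.map (algebraMap A B) → h ∈ I.map (algebraMap A H))
    [Module.Flat (A ⧸ I ^ n) (B ⧸ (I ^ n).map (algebraMap A B))] (hn : 1 ≤ n) :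
    (∀ b, ∃ h, φ h - b ∈ (I ^ n).map (algebraMap A B)) ∧
      ∀ h, φ h ∈ (I ^ n).map (algebraMap A B) → h ∈ (I ^ n).map (algebraMap A H) := by
  have hsurjn := trunc_surjective I H B φ hsurj n
  refine ⟨hsurjn, ?_⟩
  set J := I ^ n with hJ
  have hJI : J ≤ I := by
    rw [hJ]; exact Ideal.pow_le_self (by omega)
  set JH := J.map (algebraMap A H) with hJH
  set JB := J.map (algebraMap A B) with hJB
  set IH := I.map (algebraMap A H) with hIH
  set IB := I.map (algebraMap A B) with hIB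
  have hJBIB : JB ≤ IB := Ideal.map_mono hJI
  have hφJ : ∀ x ∈ JH, φ x ∈ JB := by
    intro x hx
    have h1 : JH.map φ.toRingHom ≤ JB := by
      rw [hJH, Ideal.map_map, hJB]
      apply le_of_eq
      congr 1
      exact φ.comp_algebraMap
    exact h1 (Ideal.mem_map_of_mem _ hx)
  let φ₀ : (H ⧸ JH) →+* (B ⧸ JB) :=
    Ideal.Quotient.lift JH ((Ideal.Quotient.mk JB).comp φ.toRingHom) (by
      intro x hx
      show Ideal.Quotient.mk JB (φ x) = 0
      rw [Ideal.Quotient.eq_zero_iff_mem]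
      exact hφJ x hx)
  have hφ₀_mk : ∀ h, φ₀ (Ideal.Quotient.mk JH h) = Ideal.Quotient.mk JB (φ h) := fun h => rfl
  let φbar : (H ⧸ JH) →ₐ[A ⧸ J] (B ⧸ JB) :=
    { φ₀ with
      commutes' := fun a => by
        obtain ⟨a, rfl⟩ := Ideal.Quotient.mk_surjective a
        show φ₀ (Ideal.Quotient.mk JH (algebraMap A H a)) = Ideal.Quotient.mk JB (algebraMap A B a)
        rw [hφ₀_mk, AlgHom.commutes] }
  have hφbar_mk : ∀ h, φbar (Ideal.Quotient.mk JH h) = Ideal.Quotient.mk JB (φ h) := fun h => rfl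
  have hφbar_surj : Function.Surjective φbar := by
    intro y
    obtain ⟨b, rfl⟩ := Ideal.Quotient.mk_surjective y
    obtain ⟨h, hh⟩ := hsurjn b
    exact ⟨Ideal.Quotient.mk JH h, by rw [hφbar_mk, Ideal.Quotient.eq]; exact hh⟩
  set I' : Ideal (A ⧸ J) := I.map (Ideal.Quotient.mk J) with hI'
  set I'H : Ideal (H ⧸ JH) := I'.map (algebraMap (A ⧸ J) (H ⧸ JH)) with hI'H
  have hI'H_eq : I'H = IH.map (Ideal.Quotient.mk JH) := by
    rw [hI'H, hI', Ideal.map_map, hIH, Ideal.map_map]
    congr 1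
  have hker_le : RingHom.ker φbar ≤ I'H := by
    intro x hx
    obtain ⟨h, rfl⟩ := Ideal.Quotient.mk_surjective x
    rw [RingHom.mem_ker, hφbar_mk, Ideal.Quotient.eq_zero_iff_mem] at hx
    rw [hI'H_eq]
    exact Ideal.mem_map_of_mem _ (hinj h (hJBIB hx))
  have hstep : RingHom.ker φbar ≤ I'H * RingHom.ker φbar := fun x hx =>
    mem_mul_ker_of_flat I' φbar hφbar_surj x hx (hker_le hx)
  have hpow : ∀ k : ℕ, RingHom.ker φbar ≤ I'H ^ k := by
    intro k
    induction k with
    | zero => rw [pow_zero, Ideal.one_eq_top]; exact le_top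
    | succ k ih =>
      refine hstep.trans ?_
      rw [pow_succ']
      exact Ideal.mul_mono_right ih
  have hnil : I'H ^ n = ⊥ := by
    rw [hI'H_eq, ← Ideal.map_pow, hIH, ← Ideal.map_pow, ← hJ, ← hJH, Ideal.map_quotient_self]
  intro h hh
  have h1 : Ideal.Quotient.mk JH h ∈ RingHom.ker φbar := by
    rw [RingHom.mem_ker, hφbar_mk, Ideal.Quotient.eq_zero_iff_mem]
    exact hh
  have h2 := hpow n h1
  rw [hnil, Ideal.mem_bot, Ideal.Quotient.eq_zero_iff_mem] at h2
  exact h2

end Groth.Agent.Lib.helper26.PairHens
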