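import Mathlib
import Groth.Prelude.Def_GrLC

/-!
# Pulling back a grading along an injective ring map onto a Veronese-type subring (helper26)

`φ : R' →+* R` injective, `𝒜` a `ℤ`-grading of `R`, `q ≥ 1`.  If the range of `φ` is closed under taking
homogeneous components and all components of elements of the range in degrees not divisible by `q`
vanish, then `pbGr 𝒜 φ q j = φ⁻¹(𝒜 (j q))` is a grading of `R'` (`pbGradedRing`).
-/

set_option autoImplicit false
universe u

namespace Groth.Agent.Lib.helper26.VerPB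

open DirectSum

variable {R R' : Type u} [CommRing R] [CommRing R'] (𝒜 : ℤ → AddSubgroup R) [GradedRing 𝒜]
  (φ : R' →+* R) (q : ℕ)

/-- the pulled back (Veronese) grading -/
def pbGr (j : ℤ) : AddSubgroup R' := (𝒜 (j * q)).comap (φ : R' →+ R)

omit [GradedRing 𝒜] in
theorem mem_pbGr {j : ℤ} {x : R'} : x ∈ pbGr 𝒜 φ q j ↔ φ x ∈ 𝒜 (j * q) := Iff.rfl

theorem pb_isInternal (hφ : Function.Injective φ) (hq : 0 < q)
    (hcomp : ∀ (r' : R') (i : ℤ), ∃ y : R', φ y = ((decompose 𝒜 (φ r') i : 𝒜 i) : R))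
    (hzero : ∀ (r' : R') (i : ℤ), ¬ (q : ℤ) ∣ i → ((decompose 𝒜 (φ r') i : 𝒜 i) : R) = 0) :
    DirectSum.IsInternal (pbGr 𝒜 φ q) := by
  classical
  have hq' : (q : ℤ) ≠ 0 := by exact_mod_cast hq.ne'
  constructor
  · rw [injective_iff_map_eq_zero]
    intro w hw
    rw [DirectSum.coeAddMonoidHom_eq_dfinsuppSum] at hw
    have hw' : ∑ j ∈ w.support, φ ((w j : pbGr 𝒜 φ q j) : R') = 0 := by
      have := congrArg φ hw
      rw [map_zero] at this
      rw [← this, DFinsupp.sum, map_sum]
    apply DFinsupp.ext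
    intro g
    by_cases hg : g ∈ w.support
    · have h1 : ((decompose 𝒜 (∑ j ∈ w.support, φ ((w j : pbGr 𝒜 φ q j) : R')) (g * q) :
          𝒜 (g * q)) : R) = φ ((w g : pbGr 𝒜 φ q g) : R') := by
        rw [decompose_sum, DFinsupp.finsetSum_apply, AddSubmonoidClass.coe_finsetSum]
        rw [Finset.sum_eq_single g]
        · exact decompose_of_mem_same 𝒜 (w g).2
        · intro j _ hjg
          refine decompose_of_mem_ne 𝒜 (w j).2 ?_
          intro h
          exact hjg (mul_right_cancel₀ hq' h)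
        · intro h
          exact absurd hg h
      rw [hw', decompose_zero] at h1
      have h2 : φ ((w g : pbGr 𝒜 φ q g) : R') = 0 := h1.symm
      have h3 : ((w g : pbGr 𝒜 φ q g) : R') = 0 := hφ (by rw [h2, map_zero])
      exact Subtype.ext h3
    · exact DFinsupp.notMem_support_iff.1 hg
  · intro r'
    choose y hy using hcomp r'
    have hsum : r' = ∑ i ∈ (decompose 𝒜 (φ r')).support, y i := by
      apply hφ
      rw [map_sum, Finset.sum_congr rfl (fun i _ => hy i)]
      exact (DirectSum.sum_support_decompose 𝒜 (φ r')).symm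
    have hmem : ∀ i, y i ∈ (DirectSum.coeAddMonoidHom (pbGr 𝒜 φ q)).range := by
      intro i
      by_cases hi : (q : ℤ) ∣ i
      · obtain ⟨j, rfl⟩ := hi
        have hyj : y ((q : ℤ) * j) ∈ pbGr 𝒜 φ q j := by
          rw [mem_pbGr, hy]
          have h1 : ∀ i' : ℤ, i' = j * q → ((decompose 𝒜 (φ r') i' : 𝒜 i') : R) ∈ 𝒜 (j * q) := by
            intro i' hi'
            subst hi'
            exact (decompose 𝒜 (φ r') _).2
          exact h1 _ (mul_comm _ _)
        exact ⟨DirectSum.of (fun j => pbGr 𝒜 φ q j) j ⟨_, hyj⟩, DirectSum.coeAddMonoidHom_of _ _ _⟩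
      · have : y i = 0 := hφ (by rw [hy, hzero r' i hi, map_zero])
        rw [this]
        exact zero_mem _
    have : r' ∈ (DirectSum.coeAddMonoidHom (pbGr 𝒜 φ q)).range := by
      rw [hsum]
      exact sum_mem (fun i _ => hmem i)
    exact this

/-- the pulled back grading is a grading -/
@[instance_reducible]
noncomputable def pbGradedRing (hφ : Function.Injective φ) (hq : 0 < q)
    (hcomp : ∀ (r' : R') (i : ℤ), ∃ y : R', φ y = ((decompose 𝒜 (φ r') i : 𝒜 i) : R))
    (hzero : ∀ (r' : R') (i : ℤ), ¬ (q : ℤ) ∣ i → ((decompose 𝒜 (φ r') i : 𝒜 i) : R) = 0) :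
    GradedRing (pbGr 𝒜 φ q) :=
  { toDecomposition := (pb_isInternal 𝒜 φ q hφ hq hcomp hzero).chooseDecomposition
    one_mem := by
      show φ 1 ∈ 𝒜 (0 * q)
      rw [zero_mul, map_one]
      exact SetLike.GradedOne.one_mem
    mul_mem := by
      intro i j a b ha hb
      show φ (a * b) ∈ 𝒜 ((i + j) * q)
      rw [map_mul, add_mul]
      exact SetLike.GradedMul.mul_mem ha hb }

/-- the components for the pulled back grading (for any graded ring structure on it) -/
theorem map_decompose_pbGr (hq : 0 < q) [GradedRing (pbGr 𝒜 φ q)] (x : R') (j : ℤ) :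
    φ ((decompose (pbGr 𝒜 φ q) x j : pbGr 𝒜 φ q j) : R') =
      ((decompose 𝒜 (φ x) (j * q) : 𝒜 (j * q)) : R) := by
  classical
  have hq' : (q : ℤ) ≠ 0 := by exact_mod_cast hq.ne'
  conv_rhs => rw [← DirectSum.sum_support_decompose (pbGr 𝒜 φ q) x, map_sum]
  rw [decompose_sum, DFinsupp.finsetSum_apply, AddSubmonoidClass.coe_finsetSum]
  by_cases hj : j ∈ (decompose (pbGr 𝒜 φ q) x).support
  · rw [Finset.sum_eq_single j]
    · exact (decompose_of_mem_same 𝒜 (decompose (pbGr 𝒜 φ q) x j).2).symm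
    · intro i _ hij
      refine decompose_of_mem_ne 𝒜 (decompose (pbGr 𝒜 φ q) x i).2 ?_
      intro h
      exact hij (mul_right_cancel₀ hq' h)
    · intro h
      exact absurd hj h
  · have h0 : (decompose (pbGr 𝒜 φ q) x j : pbGr 𝒜 φ q j) = 0 := DFinsupp.notMem_support_iff.1 hj
    rw [h0, ZeroMemClass.coe_zero, map_zero]
    symm
    apply Finset.sum_eq_zero
    intro i hi
    refine decompose_of_mem_ne 𝒜 (decompose (pbGr 𝒜 φ q) x i).2 ?_
    intro h
    have : i = j := mul_right_cancel₀ hq' h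
    subst this
    exact hj hi

end Groth.Agent.Lib.helper26.VerPB
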