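import Mathlib
import Groth.Prelude.Def_GrLC
import Groth.Prelude.Def_GrSyz
import Groth.Agent.Lib.Helper26.VerPB
import Groth.Agent.Lib.Helper26.KunV
import Groth.Agent.Lib.Helper26.GorS7
import Groth.Agent.Lib.Helper20.StdGr
import Groth.Agent.Lib.Helper20.HomogRank
import Groth.Agent.Lib.Helper17.GorRing
import Groth.Agent.S18655

/-!
# The type of the Veronese subrings of a polynomial ring (helper26)
-/

set_option autoImplicit false
set_option linter.unusedSectionVars false
universe u

namespace Groth.Agent.Lib.helper26.PolyVer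

open GrLC MvPolynomial DirectSum Groth.Agent.Lib.helper19.GrConv Groth.Agent.Lib.helper19.GrPoly
  Groth.Agent.Lib.helper26.VerPB

variable (k : Type u) [Field k] (s : ℕ)

theorem homogeneousComponent_mem_gr (p : MvPolynomial (Fin s) k) (j : ℕ) :
    homogeneousComponent j p ∈ gr k s (j : ℤ) :=
  Groth.Agent.Lib.helper20.StdGr.mem_stdGr_natCast_iff.2 (homogeneousComponent_mem j p)

theorem mem_gr_natCast_iff {p : MvPolynomial (Fin s) k} {j : ℕ} :
    p ∈ gr k s (j : ℤ) ↔ p.IsHomogeneous j := by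
  rw [← mem_homogeneousSubmodule]
  exact Groth.Agent.Lib.helper20.StdGr.mem_stdGr_natCast_iff

theorem coe_decompose_gr_natCast (p : MvPolynomial (Fin s) k) (j : ℕ) :
    ((decompose (gr k s) p (j : ℤ) : gr k s (j : ℤ)) : MvPolynomial (Fin s) k) =
      homogeneousComponent j p := by
  classical
  conv_lhs => rw [← MvPolynomial.sum_homogeneousComponent p]
  rw [decompose_sum, DFinsupp.finsetSum_apply, AddSubmonoidClass.coe_finsetSum]
  rw [Finset.sum_eq_single j]
  · exact decompose_of_mem_same (gr k s) (homogeneousComponent_mem_gr k s p j)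
  · intro i _ hij
    exact decompose_of_mem_ne (gr k s) (homogeneousComponent_mem_gr k s p i)
      (by exact_mod_cast hij)
  · intro hj
    rw [Finset.mem_range, not_lt] at hj
    rw [MvPolynomial.homogeneousComponent_eq_zero _ _ (by omega), decompose_zero]
    rfl

theorem coe_decompose_gr_neg (p : MvPolynomial (Fin s) k) (i : ℤ) (hi : i < 0) :
    ((decompose (gr k s) p i : gr k s i) : MvPolynomial (Fin s) k) = 0 := by
  have h1 : ∀ x : MvPolynomial (Fin s) k, x ∈ gr k s i → x = 0 := by
    intro x hx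
    rw [gr_neg k s i hi] at hx
    exact (AddSubgroup.mem_bot).1 hx
  exact h1 _ (decompose (gr k s) p i).2

theorem toDeg0_bijective : Function.Bijective (Groth.Agent.Lib.helper19.GrSG.toDeg0 k s) := by
  refine ⟨?_, Groth.Agent.Lib.helper19.GrSG.toDeg0_surjective k s⟩
  intro c c' h
  have h1 : (C c : MvPolynomial (Fin s) k) = C c' := congrArg Subtype.val h
  exact C_injective _ _ h1

theorem finrank_comp_gr (j : ℕ) :
    Module.finrank (deg0 (gr k s)) (comp (gr k s) (gr k s) (j : ℤ)) =
      Module.finrank k (homogeneousSubmodule (Fin s) k j) := by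
  let e : (homogeneousSubmodule (Fin s) k j) ≃+ comp (gr k s) (gr k s) (j : ℤ) :=
    { toFun := fun p => ⟨p.1, (mem_gr_natCast_iff k s).2 ((mem_homogeneousSubmodule _ _).1 p.2)⟩
      invFun := fun p => ⟨p.1, (mem_homogeneousSubmodule _ _).2 ((mem_gr_natCast_iff k s).1 p.2)⟩
      left_inv := fun _ => rfl
      right_inv := fun _ => rfl
      map_add' := fun _ _ => rfl }
  have hrank := rank_eq_of_equiv_equiv (Groth.Agent.Lib.helper19.GrSG.toDeg0 k s) e
    (toDeg0_bijective k s) (fun c v => by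
      apply Subtype.ext
      show (c • (v : MvPolynomial (Fin s) k)) = (C c : MvPolynomial (Fin s) k) • (v : MvPolynomial (Fin s) k)
      rw [MvPolynomial.smul_eq_C_mul, smul_eq_mul])
  unfold Module.finrank
  rw [hrank]

section Main

variable {k s}
variable (d : ℕ) (hd : 1 ≤ d) {R' : Type u} [CommRing R']
    (φ : R' →+* MvPolynomial (Fin s) k) (hφ : Function.Injective φ)
    (hrange : ∀ p : MvPolynomial (Fin s) k, p ∈ φ.range ↔
      ∀ j : ℕ, ¬ d ∣ j → MvPolynomial.homogeneousComponent j p = 0)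

include hrange in
theorem exists_comp (r' : R') (i : ℤ) :
    ∃ y : R', φ y = ((decompose (gr k s) (φ r') i : gr k s i) : MvPolynomial (Fin s) k) := by
  by_cases hi : i < 0
  · exact ⟨0, by rw [map_zero, coe_decompose_gr_neg k s _ i hi]⟩
  · obtain ⟨i', rfl⟩ : ∃ i' : ℕ, i = i' := ⟨i.toNat, by omega⟩
    rw [coe_decompose_gr_natCast]
    have : homogeneousComponent i' (φ r') ∈ φ.range := by
      rw [hrange]
      intro j hj
      rw [homogeneousComponent_of_mem (homogeneousComponent_mem i' (φ r'))]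
      split_ifs with hji
      · subst hji
        exact (hrange (φ r')).1 ⟨r', rfl⟩ j hj
      · rfl
    exact this

include hrange in
theorem comp_eq_zero (r' : R') (i : ℤ) (hi : ¬ (d : ℤ) ∣ i) :
    ((decompose (gr k s) (φ r') i : gr k s i) : MvPolynomial (Fin s) k) = 0 := by
  by_cases hi0 : i < 0
  · exact coe_decompose_gr_neg k s _ i hi0
  · obtain ⟨i', rfl⟩ : ∃ i' : ℕ, i = i' := ⟨i.toNat, by omega⟩
    rw [coe_decompose_gr_natCast]
    exact (hrange (φ r')).1 ⟨r', rfl⟩ i' (fun h => hi (by exact_mod_cast h))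

include hrange in
theorem mem_range_of_mem_gr (j : ℤ) (p : MvPolynomial (Fin s) k) (hp : p ∈ gr k s (j * d)) :
    p ∈ φ.range := by
  rw [hrange]
  intro j' hj'
  by_cases hj0 : j * d < 0
  · have : p = 0 := by
      rw [gr_neg k s _ hj0] at hp
      exact (AddSubgroup.mem_bot).1 hp
    rw [this, map_zero]
  · obtain ⟨t, ht⟩ : ∃ t : ℕ, j * d = t := ⟨(j * d).toNat, by omega⟩
    rw [ht] at hp
    rw [homogeneousComponent_of_mem ((mem_homogeneousSubmodule _ _).2 ((mem_gr_natCast_iff k s).1 hp))]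
    split_ifs with h
    · exfalso
      apply hj'
      subst h
      have : (d : ℤ) ∣ (j' : ℤ) := ⟨j, by rw [← ht]; ring⟩
      exact_mod_cast this
    · rfl

include hφ hrange hd in
theorem bassNum_veronese (hs : 1 ≤ s)
    (m' : Ideal R') [hmax : m'.IsMaximal]
    (hm' : m' = Ideal.comap φ (RingHom.ker (MvPolynomial.constantCoeff : MvPolynomial (Fin s) k →+* k)))
    (n : ℕ) (hsn : s ≤ n) (hdn : d ∣ n) (hmin : ∀ n' : ℕ, s ≤ n' → d ∣ n' → n ≤ n') :
    GrLC.bassNum m' R' s = (Nat.choose (n - 1) (s - 1) : ℕ∞) := by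
  classical
  have hd0 : 0 < d := hd
  let 𝒜' : ℤ → AddSubgroup R' := pbGr (gr k s) φ d
  let _ : GradedRing 𝒜' := pbGradedRing (gr k s) φ d hφ hd0 (exists_comp d φ hrange)
    (comp_eq_zero d φ hrange)
  have hdeg : ∀ j : ℤ, (𝒜' j).map (φ : R' →+ MvPolynomial (Fin s) k) = gr k s (j * d) := by
    intro j
    apply le_antisymm
    · rintro _ ⟨x, hx, rfl⟩
      exact hx
    · intro p hp
      obtain ⟨x, rfl⟩ := mem_range_of_mem_gr d φ hrange j p hp
      exact ⟨x, hp, rfl⟩
  -- the irrelevant ideal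
  have hirr : (Groth.Agent.Lib.helper26.GorS.irrHom 𝒜').toIdeal = m' := by
    rw [hm', Groth.Agent.Lib.helper26.GorS.irrHom_toIdeal]
    apply le_antisymm
    · apply Ideal.span_le.2
      intro x hx
      obtain ⟨j, hj, hxj⟩ := Set.mem_iUnion₂.1 hx
      show φ x ∈ RingHom.ker constantCoeff
      have hj' : (0 : ℤ) < j * d := mul_pos hj (by exact_mod_cast hd0)
      have h1 : φ x ∈ (mm k s).toIdeal := by
        rw [Groth.Agent.Lib.helper26.Kun.mm_toIdeal_eq]
        exact Ideal.subset_span (Set.mem_iUnion₂.2 ⟨j * d, hj', hxj⟩)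
      rw [idealAdd_toIdeal, Groth.Agent.Lib.helper7.GrSyzBasic.mem_irrel_iff] at h1
      exact (RingHom.mem_ker).2 h1
    · intro x hx
      have hx0 : constantCoeff (φ x) = 0 := hx
      rw [← DirectSum.sum_support_decompose 𝒜' x]
      apply Ideal.sum_mem
      intro j _
      by_cases hj : 0 < j
      · exact Ideal.subset_span (Set.mem_iUnion₂.2 ⟨j, hj, (decompose 𝒜' x j).2⟩)
      · have h0 : ((decompose 𝒜' x j : 𝒜' j) : R') = 0 := by
          apply hφ
          rw [map_zero, map_decompose_pbGr (gr k s) φ d hd0 x j]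
          rcases lt_or_eq_of_le (not_lt.1 hj) with h | h
          · exact coe_decompose_gr_neg k s _ _ (mul_neg_of_neg_of_pos h (by exact_mod_cast hd0))
          · subst h
            have h2 : ∀ i : ℤ, i = ((0 : ℕ) : ℤ) →
                ((decompose (gr k s) (φ x) i : gr k s i) : MvPolynomial (Fin s) k) = 0 := by
              intro i hi
              subst hi
              rw [coe_decompose_gr_natCast, homogeneousComponent_zero]
              have : coeff 0 (φ x) = 0 := hx0
              rw [this, C_0]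
            exact h2 _ (by simp)
        rw [h0]
        exact zero_mem _
  subst hirr
  have hG0 : LocCoh.IsGorensteinRing k := Groth.Agent.Lib.helper17.GorRing.isGorensteinRing_of_field k
  have hG : LocCoh.IsGorensteinRing (MvPolynomial (Fin s) k) :=
    Groth.Agent.Lib.helper17.GorRing.isGorensteinRing_mvPolynomial_fin k s
  obtain ⟨I⟩ := Groth.Agent.S13215.result (MvPolynomial (Fin s) k) (gr k s)
    (MvPolynomial (Fin s) k) (gr k s)
  have hρ0 : (0 : ℤ) ≤ (n : ℤ) - s := by omega
  have hρq : (n : ℤ) - s < d := by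
    by_contra hcon
    push Not at hcon
    have h1 : s ≤ n - d := by omega
    have h2 : d ∣ n - d := Nat.dvd_sub hdn (dvd_refl d)
    have := hmin (n - d) h1 h2
    omega
  have hρa : (d : ℤ) ∣ -(s : ℤ) - ((n : ℤ) - s) := by
    have : -(s : ℤ) - ((n : ℤ) - s) = -(n : ℤ) := by ring
    rw [this, dvd_neg]
    exact_mod_cast hdn
  have key := Groth.Agent.S18655.result (MvPolynomial (Fin s) k) (gr k s) (gr_neg k s)
    (Groth.Agent.Lib.helper26.Kun.isField_deg0_poly k s) (mm k s)
    (Groth.Agent.Lib.helper19.GrSG.isStarLocal_poly k s)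
    (Groth.Agent.Lib.helper26.Kun.mm_toIdeal_eq k s)
    (Groth.Agent.Lib.helper26.Kun.span_iUnion_eq_span_one k s) s
    (Groth.Agent.Lib.helper19.GrSG.ringKrullDim_poly k s) I (-(s : ℤ))
    (Groth.Agent.Lib.helper26.Kun.endDeg_poly k s I) d hd0 R' 𝒜' φ hφ hdeg
    (Groth.Agent.Lib.helper26.GorS.irrHom 𝒜') (Groth.Agent.Lib.helper26.GorS.irrHom_toIdeal 𝒜')
    ((n : ℤ) - s) hρ0 hρq hρa
  rw [key]
  have h3 : (n : ℤ) - s = ((n - s : ℕ) : ℤ) := by omega
  rw [h3, finrank_comp_gr k s (n - s)]
  obtain ⟨r, rfl⟩ : ∃ r, s = r + 1 := ⟨s - 1, by omega⟩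
  rw [Groth.Agent.Lib.Helper20.HomogRank.finrank_homogeneousSubmodule k r (n - (r + 1))]
  have h4 : n - (r + 1) + r = n - 1 := by omega
  rw [h4]
  rfl

end Main

end Groth.Agent.Lib.helper26.PolyVer
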