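/-
Helper library (helper26): associated primes lift along flat maps of Noetherian rings to the
minimal primes of the extended ideal (towards S1255).
-/
import Mathlib
import Groth.Agent.Lib.Helper24.TensFlat1

set_option autoImplicit false
set_option linter.style.haveILetI false
set_option linter.unusedSectionVars false

namespace Groth.Agent.Lib.helper26.PureCov

open TensorProduct

universe u

/-- Let `F → F'` be a flat map of Noetherian rings, `X' = F' ⊗ X` a base change, `𝔭` an
associated prime of `X` and `𝔮` a minimal prime over `𝔭 F'`. Then `𝔮` is an associated prime of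
`X'`. -/
theorem mem_associatedPrimes_of_mem_minimalPrimes {F F' : Type u} [CommRing F] [CommRing F']
    [Algebra F F'] [Module.Flat F F'] [IsNoetherianRing F] [IsNoetherianRing F']
    {X X' : Type u} [AddCommGroup X] [Module F X] [AddCommGroup X'] [Module F' X'] [Module F X']
    [IsScalarTower F F' X'] (θ : X →ₗ[F] X') (hθ : IsBaseChange F' θ)
    (𝔭 : Ideal F) (h𝔭 : 𝔭 ∈ associatedPrimes F X) (𝔮 : Ideal F')
    (h𝔮 : 𝔮 ∈ (𝔭.map (algebraMap F F')).minimalPrimes) :
    𝔮 ∈ associatedPrimes F' X' := by
  rw [← LinearEquiv.AssociatedPrimes.eq hθ.equiv]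
  apply Groth.Agent.Lib.Helper24.TensFlat.mem_ass_tensor_of_mem (R := F) (S := F') (N := F') X 𝔭 h𝔭
  apply Module.associatedPrimes.minimalPrimes_annihilator_subset_associatedPrimes
  have : Module.annihilator F' (F' ⧸ 𝔭.map (algebraMap F F') • (⊤ : Submodule F' F')) =
      𝔭.map (algebraMap F F') := by
    have h1 : 𝔭.map (algebraMap F F') • (⊤ : Submodule F' F') = 𝔭.map (algebraMap F F') := by
      rw [smul_eq_mul, Ideal.mul_top]
    rw [h1]
    exact Ideal.annihilator_quotient
  rw [this]
  exact h𝔮

end Groth.Agent.Lib.helper26.PureCov
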