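/-
Helper library (helper26): relative associated points lift along flat quasi-finite maps
(fibre form; towards S1255).
-/
import Mathlib
import Groth.Prelude.Def_FlatCA
import Groth.Agent.Lib.Helper26.PureCov1
import Groth.Agent.Lib.Helper26.Purity1
import Groth.Agent.Lib.Helper3.UnivInjGlobal1
import Groth.Agent.Lib.Helper3.UnivInjAss1

set_option autoImplicit false
set_option linter.style.haveILetI false
set_option linter.unusedSectionVars false

namespace Groth.Agent.Lib.helper26.PureCov

open TensorProduct FlatCA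

universe u

attribute [local instance] Algebra.TensorProduct.rightAlgebra

variable {R S S' : Type u} [CommRing R] [CommRing S] [CommRing S'] [Algebra R S] [Algebra R S']
  [Algebra S S'] [IsScalarTower R S S'] [Module.Flat S S'] [Algebra.QuasiFinite S S']
  [Algebra.FiniteType R S] [Algebra.FiniteType R S']
  {M M' : Type u} [AddCommGroup M] [Module S M] [AddCommGroup M'] [Module S' M'] [Module S M']
  [IsScalarTower S S' M'] (g : M →ₗ[S] M') (hg : IsBaseChange S' g)
  (t : Ideal R) [t.IsPrime] (P : Ideal S) [P.IsPrime] [P.LiesOver t]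
  (ξ : Ideal S') [ξ.IsPrime] [hξP : ξ.LiesOver P] [ξ.LiesOver t]

include hg in
set_option maxHeartbeats 1600000 in
/-- **Relative associated points lift along flat quasi-finite maps.** -/
theorem fiberIdeal_mem_associatedPrimes_of_flat_quasiFinite
    (hass : fiberIdeal t P ∈ associatedPrimes (t.Fiber S) (fiberMod t S M)) :
    fiberIdeal t ξ ∈ associatedPrimes (t.Fiber S') (fiberMod t S' M') := by
  let κ := t.ResidueField
  let φ : t.Fiber S →ₐ[κ] t.Fiber S' :=
    Algebra.TensorProduct.map (AlgHom.id κ κ) (IsScalarTower.toAlgHom R S S')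
  letI algFF' : Algebra (t.Fiber S) (t.Fiber S') := φ.toRingHom.toAlgebra
  letI algSF' : Algebra S (t.Fiber S') :=
    ((algebraMap S' (t.Fiber S')).comp (algebraMap S S')).toAlgebra
  haveI tw1 : IsScalarTower S S' (t.Fiber S') :=
    IsScalarTower.of_algebraMap_eq (R := S) (S := S') (A := t.Fiber S') fun _ => rfl
  have hφ : ∀ s : S, φ ((1 : κ) ⊗ₜ[R] s) = (1 : κ) ⊗ₜ[R] algebraMap S S' s := fun s => by
    simp [φ]
  haveI tw2 : IsScalarTower S (t.Fiber S) (t.Fiber S') :=
    IsScalarTower.of_algebraMap_eq (R := S) (S := t.Fiber S) (A := t.Fiber S') fun s => by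
    show (1 : κ) ⊗ₜ[R] algebraMap S S' s = φ ((1 : κ) ⊗ₜ[R] s)
    rw [hφ]
  haveI tw3 : IsScalarTower κ (t.Fiber S) (t.Fiber S') :=
    IsScalarTower.of_algebraMap_eq (R := κ) (S := t.Fiber S) (A := t.Fiber S') fun k =>
      (φ.commutes k).symm
  haveI tw4 : IsScalarTower R (t.Fiber S) (t.Fiber S') :=
    IsScalarTower.of_algebraMap_eq (R := R) (S := t.Fiber S) (A := t.Fiber S') fun r => by
      rw [IsScalarTower.algebraMap_apply R κ (t.Fiber S'),
        IsScalarTower.algebraMap_apply R κ (t.Fiber S),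
        ← IsScalarTower.algebraMap_apply κ (t.Fiber S) (t.Fiber S')]
  have hpo : Algebra.IsPushout S S' (t.Fiber S) (t.Fiber S') :=
    (Algebra.IsPushout.comp_iff R S κ (t.Fiber S) (T := S') (T' := t.Fiber S')).1 inferInstance
  haveI : Module.Flat (t.Fiber S) (t.Fiber S') :=
    Module.Flat.isBaseChange (R := S) (M := S') (S := t.Fiber S) (t.Fiber S')
      (f := (IsScalarTower.toAlgHom S S' (t.Fiber S')).toLinearMap) hpo.symm.out
  haveI : IsNoetherianRing (t.Fiber S) := Algebra.FiniteType.isNoetherianRing κ (t.Fiber S)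
  haveI : IsNoetherianRing (t.Fiber S') := Algebra.FiniteType.isNoetherianRing κ (t.Fiber S')
  -- module structures on the fibre module of `M'`
  letI mFX' : Module (t.Fiber S) (fiberMod t S' M') :=
    Module.compHom (fiberMod t S' M') (algebraMap (t.Fiber S) (t.Fiber S'))
  haveI tw5 : IsScalarTower (t.Fiber S) (t.Fiber S') (fiberMod t S' M') :=
    IsScalarTower.of_algebraMap_smul fun _ _ => rfl
  letI mSX' : Module S (fiberMod t S' M') :=
    Module.compHom (fiberMod t S' M') (algebraMap S S')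
  haveI tw6 : IsScalarTower S S' (fiberMod t S' M') :=
    IsScalarTower.of_algebraMap_smul fun _ _ => rfl
  haveI tw7 : IsScalarTower S' (t.Fiber S') (fiberMod t S' M') :=
    inferInstanceAs (IsScalarTower S' (t.Fiber S') ((t.Fiber S') ⊗[S'] M'))
  haveI tw8 : IsScalarTower S (t.Fiber S') (fiberMod t S' M') :=
    IsScalarTower.of_algebraMap_smul fun s x => by
      show algebraMap S' (t.Fiber S') (algebraMap S S' s) • x = algebraMap S S' s • x
      rw [algebraMap_smul]
  haveI tw9 : IsScalarTower S (t.Fiber S) (fiberMod t S' M') :=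
    IsScalarTower.of_algebraMap_smul fun s x => by
      show algebraMap (t.Fiber S) (t.Fiber S') (algebraMap S (t.Fiber S) s) • x = s • x
      rw [← IsScalarTower.algebraMap_apply S (t.Fiber S) (t.Fiber S'), algebraMap_smul]
  haveI tw10 : IsScalarTower S (t.Fiber S) (fiberMod t S M) :=
    inferInstanceAs (IsScalarTower S (t.Fiber S) ((t.Fiber S) ⊗[S] M))
  have hg₂ : IsBaseChange (t.Fiber S') (toFiberMod t S' M') :=
    TensorProduct.isBaseChange S' M' (t.Fiber S')
  have hc : IsBaseChange (t.Fiber S') (((toFiberMod t S' M').restrictScalars S).comp g) :=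
    IsBaseChange.comp hg hg₂
  have hg₁ : IsBaseChange (t.Fiber S) (toFiberMod t S M) :=
    TensorProduct.isBaseChange S M (t.Fiber S)
  let θ : fiberMod t S M →ₗ[t.Fiber S] fiberMod t S' M' :=
    hg₁.lift (((toFiberMod t S' M').restrictScalars S).comp g)
  have hθ : IsBaseChange (t.Fiber S') θ := by
    apply IsBaseChange.of_comp hg₁
    rw [hg₁.lift_comp]
    exact hc
  haveI : (fiberIdeal t ξ).IsPrime :=
    Groth.Agent.Lib.helper3.UnivInjAss.fiberIdeal_isPrime t ξ
  refine mem_associatedPrimes_of_mem_minimalPrimes θ hθ (fiberIdeal t P) hass (fiberIdeal t ξ) ?_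
  refine ⟨⟨inferInstance, ?_⟩, ?_⟩
  · -- `𝔭 F' ≤ 𝔮`
    rw [Ideal.map_le_iff_le_comap]
    unfold fiberIdeal
    rw [Ideal.map_le_iff_le_comap]
    intro b hb
    rw [Ideal.mem_comap, Ideal.mem_comap]
    show φ ((1 : κ) ⊗ₜ[R] b) ∈ _
    rw [hφ]
    apply Ideal.mem_map_of_mem
    have : b ∈ ξ.under S := by rw [← hξP.over]; exact hb
    exact this
  · -- minimality
    rintro 𝔮₀ ⟨h𝔮₀, hle₀⟩ hle
    haveI := h𝔮₀
    let ι' := (Algebra.TensorProduct.includeRight (R := R) (A := κ) (B := S')).toRingHom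
    let ξ₀ : Ideal S' := 𝔮₀.comap ι'
    haveI : ξ₀.IsPrime := Ideal.comap_isPrime _ _
    have hξ₀ξ : ξ₀ ≤ ξ := by
      have h1 : ξ₀ ≤ (fiberIdeal t ξ).comap ι' := Ideal.comap_mono hle
      rwa [Groth.Agent.Lib.helper26.Purity.comap_fiberIdeal t ξ] at h1
    have hPξ₀ : P ≤ ξ₀.under S := by
      intro b hb
      rw [Ideal.under_def, Ideal.mem_comap, Ideal.mem_comap]
      apply hle₀
      have h2 : ι' (algebraMap S S' b) = algebraMap (t.Fiber S) (t.Fiber S') ((1 : κ) ⊗ₜ[R] b) := by
        show (1 : κ) ⊗ₜ[R] algebraMap S S' b = φ ((1 : κ) ⊗ₜ[R] b)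
        rw [hφ]
      rw [h2]
      apply Ideal.mem_map_of_mem
      exact Ideal.mem_map_of_mem _ hb
    have hunder : ξ₀.under S = ξ.under S := by
      apply le_antisymm
      · exact Ideal.comap_mono hξ₀ξ
      · rw [← hξP.over]; exact hPξ₀
    have heq : ξ₀ = ξ := Algebra.QuasiFinite.eq_of_le_of_under_eq (R := S) ξ₀ ξ hξ₀ξ hunder
    have h3 := Groth.Agent.Lib.helper3.UnivInjGlobal.fiberIdeal_comap (S := S') t 𝔮₀
    change fiberIdeal t ξ₀ = 𝔮₀ at h3
    rw [heq] at h3
    exact h3.le

end Groth.Agent.Lib.helper26.PureCov
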