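import Mathlib

/-!
# Primes of a tensor product of rings (helper26)

* `exists_prime_comap_eq`: for primes `q₁ ⊂ S`, `q₂ ⊂ T` over the same prime `p` of `A` there is a
  prime of `S ⊗[A] T` contracting to `q₁` and `q₂`.
* `residueField_bijective_of_tensor`: if `κ(p) → κ(q₂)` is surjective and `v` is a prime of
  `S ⊗[A] T` over `q₁` and `q₂`, then `κ(q₁) → κ(v)` is bijective.
* `exists_primes_tensor_of_flat`: if `A'_{p'}` is flat over `A` and `t' ≤ t₁` are primes of `A₁`
  with `t₁` over `p`, there are primes `t'' ≤ v` of `A' ⊗[A] A₁` with `v` over `p'` and `t₁`, and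
  `t''` over `t'` (going down).
-/

set_option autoImplicit false
set_option linter.style.haveILetI false
set_option linter.unusedSectionVars false
universe u

namespace Groth.Agent.Lib.helper26.Purity

open TensorProduct

theorem exists_prime_comap_eq {A : Type u} [CommRing A] (S T : Type u) [CommRing S] [CommRing T]
    [Algebra A S] [Algebra A T] (p : Ideal A) [p.IsPrime] (q₁ : Ideal S) [q₁.IsPrime]
    [q₁.LiesOver p] (q₂ : Ideal T) [q₂.IsPrime] [q₂.LiesOver p] :
    ∃ v : Ideal (S ⊗[A] T), v.IsPrime ∧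
      v.comap (Algebra.TensorProduct.includeLeft (R := A) (S := A) (A := S) (B := T)).toRingHom = q₁ ∧
      v.comap (Algebra.TensorProduct.includeRight (R := A) (A := S) (B := T)).toRingHom = q₂ := by
  have ho₁ : p = q₁.comap (Algebra.ofId A S).toRingHom := Ideal.LiesOver.over
  have ho₂ : p = q₂.comap (Algebra.ofId A T).toRingHom := Ideal.LiesOver.over
  let κ₁ : p.ResidueField →ₐ[A] q₁.ResidueField := Ideal.ResidueField.mapₐ p q₁ (Algebra.ofId A S) ho₁
  let κ₂ : p.ResidueField →ₐ[A] q₂.ResidueField := Ideal.ResidueField.mapₐ p q₂ (Algebra.ofId A T) ho₂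
  letI : Algebra p.ResidueField q₁.ResidueField := κ₁.toRingHom.toAlgebra
  letI : Algebra p.ResidueField q₂.ResidueField := κ₂.toRingHom.toAlgebra
  haveI : IsScalarTower A p.ResidueField q₁.ResidueField :=
    IsScalarTower.of_algebraMap_eq fun a => (κ₁.commutes a).symm
  haveI : IsScalarTower A p.ResidueField q₂.ResidueField :=
    IsScalarTower.of_algebraMap_eq fun a => (κ₂.commutes a).symm
  haveI : Nontrivial (q₁.ResidueField ⊗[p.ResidueField] q₂.ResidueField) :=
    (Module.FaithfullyFlat.nontrivial_tensorProduct_iff_right p.ResidueField q₁.ResidueField).2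
      inferInstance
  let f₁ : S →ₐ[A] q₁.ResidueField ⊗[p.ResidueField] q₂.ResidueField :=
    ((Algebra.TensorProduct.includeLeft : q₁.ResidueField →ₐ[p.ResidueField]
      q₁.ResidueField ⊗[p.ResidueField] q₂.ResidueField).restrictScalars A).comp
      (IsScalarTower.toAlgHom A S q₁.ResidueField)
  let f₂ : T →ₐ[A] q₁.ResidueField ⊗[p.ResidueField] q₂.ResidueField :=
    ((Algebra.TensorProduct.includeRight : q₂.ResidueField →ₐ[p.ResidueField]
      q₁.ResidueField ⊗[p.ResidueField] q₂.ResidueField).restrictScalars A).comp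
      (IsScalarTower.toAlgHom A T q₂.ResidueField)
  let ρ : S ⊗[A] T →ₐ[A] q₁.ResidueField ⊗[p.ResidueField] q₂.ResidueField :=
    Algebra.TensorProduct.lift f₁ f₂ (fun _ _ => Commute.all _ _)
  obtain ⟨m, hm⟩ := Ideal.exists_maximal (q₁.ResidueField ⊗[p.ResidueField] q₂.ResidueField)
  haveI := hm.isPrime
  refine ⟨m.comap ρ.toRingHom, Ideal.comap_isPrime _ _, ?_, ?_⟩
  · ext x
    rw [Ideal.mem_comap, Ideal.mem_comap]
    show ρ (x ⊗ₜ 1) ∈ m ↔ _
    rw [Algebra.TensorProduct.lift_tmul, map_one, mul_one]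
    show (algebraMap S q₁.ResidueField x) ⊗ₜ[p.ResidueField] (1 : q₂.ResidueField) ∈ m ↔ _
    rw [← Ideal.algebraMap_residueField_eq_zero (I := q₁)]
    constructor
    · intro h
      by_contra h0
      apply hm.ne_top
      rw [Ideal.eq_top_iff_one]
      have h1 : ((algebraMap S q₁.ResidueField x)⁻¹ ⊗ₜ[p.ResidueField] (1 : q₂.ResidueField)) *
          ((algebraMap S q₁.ResidueField x) ⊗ₜ[p.ResidueField] (1 : q₂.ResidueField)) = 1 := by
        rw [Algebra.TensorProduct.tmul_mul_tmul, inv_mul_cancel₀ h0, one_mul]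
        rfl
      rw [← h1]
      exact Ideal.mul_mem_left _ _ h
    · intro h
      rw [h, TensorProduct.zero_tmul]
      exact Submodule.zero_mem _
  · ext x
    rw [Ideal.mem_comap, Ideal.mem_comap]
    show ρ (1 ⊗ₜ x) ∈ m ↔ _
    rw [Algebra.TensorProduct.lift_tmul, map_one, one_mul]
    show (1 : q₁.ResidueField) ⊗ₜ[p.ResidueField] (algebraMap T q₂.ResidueField x) ∈ m ↔ _
    rw [← Ideal.algebraMap_residueField_eq_zero (I := q₂)]
    constructor
    · intro h
      by_contra h0
      apply hm.ne_top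
      rw [Ideal.eq_top_iff_one]
      have h1 : ((1 : q₁.ResidueField) ⊗ₜ[p.ResidueField] (algebraMap T q₂.ResidueField x)⁻¹) *
          ((1 : q₁.ResidueField) ⊗ₜ[p.ResidueField] (algebraMap T q₂.ResidueField x)) = 1 := by
        rw [Algebra.TensorProduct.tmul_mul_tmul, inv_mul_cancel₀ h0, one_mul]
        rfl
      rw [← h1]
      exact Ideal.mul_mem_left _ _ h
    · intro h
      rw [h, TensorProduct.tmul_zero]
      exact Submodule.zero_mem _

section

variable {A : Type u} [CommRing A] (S T : Type u) [CommRing S] [CommRing T]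
  [Algebra A S] [Algebra A T] (p : Ideal A) [p.IsPrime] (q₁ : Ideal S) [q₁.IsPrime]
  [q₁.LiesOver p] (q₂ : Ideal T) [q₂.IsPrime] [hq₂ : q₂.LiesOver p]

theorem exists_smul_sub_mem_of_surjective
    (hsurj : Function.Surjective (Ideal.ResidueField.mapₐ p q₂ (Algebra.ofId A T) hq₂.over))
    (y : T) : ∃ s : A, s ∉ p ∧ ∃ a : A, s • y - algebraMap A T a ∈ q₂ := by
  obtain ⟨z, hz⟩ := hsurj (algebraMap T q₂.ResidueField y)
  obtain ⟨⟨a, s⟩, hk⟩ := IsLocalization.surj (nonZeroDivisors (A ⧸ p)) z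
  obtain ⟨a₀, rfl⟩ := Ideal.Quotient.mk_surjective a
  obtain ⟨s₀, hs₀⟩ := Ideal.Quotient.mk_surjective (s : A ⧸ p)
  have hs₀' : s₀ ∉ p := by
    intro h
    have h1 : (s : A ⧸ p) = 0 := by rw [← hs₀]; exact Ideal.Quotient.eq_zero_iff_mem.2 h
    exact nonZeroDivisors.coe_ne_zero s h1
  refine ⟨s₀, hs₀', a₀, ?_⟩
  rw [← Ideal.algebraMap_residueField_eq_zero (I := q₂), map_sub, sub_eq_zero, Algebra.smul_def,
    map_mul, ← hz, ← IsScalarTower.algebraMap_apply A T q₂.ResidueField,
    ← IsScalarTower.algebraMap_apply A T q₂.ResidueField]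
  have h1 : algebraMap A p.ResidueField s₀ * z = algebraMap A p.ResidueField a₀ := by
    have h2 : algebraMap A p.ResidueField s₀ = algebraMap (A ⧸ p) p.ResidueField s := by
      rw [← hs₀]; rfl
    rw [h2, mul_comm]
    exact hk
  have h3 := congrArg (Ideal.ResidueField.mapₐ p q₂ (Algebra.ofId A T) hq₂.over) h1
  rw [map_mul, AlgHom.commutes, AlgHom.commutes] at h3
  exact h3

theorem exists_smul_sub_tmul_mem
    (hsurj : Function.Surjective (Ideal.ResidueField.mapₐ p q₂ (Algebra.ofId A T) hq₂.over))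
    (v : Ideal (S ⊗[A] T))
    (hv₂ : v.comap (Algebra.TensorProduct.includeRight (R := A) (A := S) (B := T)).toRingHom = q₂)
    (c : S ⊗[A] T) : ∃ s : A, s ∉ p ∧ ∃ x : S, s • c - x ⊗ₜ[A] (1 : T) ∈ v := by
  induction c using TensorProduct.induction_on with
  | zero =>
    refine ⟨1, fun h => (Ideal.IsPrime.ne_top inferInstance) ((Ideal.eq_top_iff_one p).2 h), 0, ?_⟩
    rw [smul_zero, TensorProduct.zero_tmul, sub_zero]
    exact Submodule.zero_mem _
  | tmul x₀ y =>
    obtain ⟨s, hs, a, ha⟩ := exists_smul_sub_mem_of_surjective T p q₂ hsurj y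
    refine ⟨s, hs, a • x₀, ?_⟩
    have h1 : s • (x₀ ⊗ₜ[A] y) - (a • x₀) ⊗ₜ[A] (1 : T) =
        (x₀ ⊗ₜ[A] (1 : T)) * ((1 : S) ⊗ₜ[A] (s • y - algebraMap A T a)) := by
      rw [Algebra.TensorProduct.tmul_mul_tmul, mul_one, one_mul, TensorProduct.tmul_sub,
        TensorProduct.tmul_smul, TensorProduct.smul_tmul, Algebra.algebraMap_eq_smul_one]
    rw [h1]
    apply Ideal.mul_mem_left
    have h2 : s • y - algebraMap A T a ∈ v.comap
        (Algebra.TensorProduct.includeRight (R := A) (A := S) (B := T)).toRingHom := by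
      rw [hv₂]; exact ha
    exact h2
  | add c₁ c₂ h₁ h₂ =>
    obtain ⟨s₁, hs₁, x₁, hx₁⟩ := h₁
    obtain ⟨s₂, hs₂, x₂, hx₂⟩ := h₂
    refine ⟨s₁ * s₂, fun h => (Ideal.IsPrime.mem_or_mem inferInstance h).elim hs₁ hs₂,
      s₂ • x₁ + s₁ • x₂, ?_⟩
    have h1 : (s₁ * s₂) • (c₁ + c₂) - (s₂ • x₁ + s₁ • x₂) ⊗ₜ[A] (1 : T) =
        s₂ • (s₁ • c₁ - x₁ ⊗ₜ[A] (1 : T)) + s₁ • (s₂ • c₂ - x₂ ⊗ₜ[A] (1 : T)) := by
      rw [smul_add, smul_sub, smul_sub, TensorProduct.add_tmul, ← TensorProduct.smul_tmul',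
        ← TensorProduct.smul_tmul', mul_smul, mul_smul, smul_comm s₁ s₂ c₁]
      abel
    rw [h1]
    exact v.add_mem (Submodule.smul_of_tower_mem v s₂ hx₁) (Submodule.smul_of_tower_mem v s₁ hx₂)

theorem residueField_bijective_of_tensor
    (hsurj : Function.Surjective (Ideal.ResidueField.mapₐ p q₂ (Algebra.ofId A T) hq₂.over))
    (v : Ideal (S ⊗[A] T)) [v.IsPrime] [hv₁ : v.LiesOver q₁]
    (hv₂ : v.comap (Algebra.TensorProduct.includeRight (R := A) (A := S) (B := T)).toRingHom = q₂) :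
    Function.Bijective
      (Ideal.ResidueField.mapₐ q₁ v (Algebra.ofId S (S ⊗[A] T)) hv₁.over) := by
  set φ := Ideal.ResidueField.mapₐ q₁ v (Algebra.ofId S (S ⊗[A] T)) hv₁.over with hφ
  refine ⟨φ.toRingHom.injective, ?_⟩
  -- images of elements of `C` lie in the range
  have hC : ∀ c : S ⊗[A] T, algebraMap (S ⊗[A] T) v.ResidueField c ∈ φ.toRingHom.fieldRange := by
    intro c
    obtain ⟨s, hs, x, hx⟩ := exists_smul_sub_tmul_mem S T p q₂ hsurj v hv₂ c
    have h0 : algebraMap (S ⊗[A] T) v.ResidueField (s • c - x ⊗ₜ[A] (1 : T)) = 0 :=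
      Ideal.algebraMap_residueField_eq_zero.2 hx
    rw [map_sub, sub_eq_zero, Algebra.smul_def, map_mul] at h0
    have hx' : algebraMap (S ⊗[A] T) v.ResidueField (x ⊗ₜ[A] (1 : T)) ∈ φ.toRingHom.fieldRange := by
      refine ⟨algebraMap S q₁.ResidueField x, ?_⟩
      show φ (algebraMap S q₁.ResidueField x) = _
      rw [AlgHom.commutes, IsScalarTower.algebraMap_apply S (S ⊗[A] T) v.ResidueField]
      rfl
    have hs' : algebraMap (S ⊗[A] T) v.ResidueField (algebraMap A (S ⊗[A] T) s) ∈ φ.toRingHom.fieldRange := by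
      refine ⟨algebraMap S q₁.ResidueField (algebraMap A S s), ?_⟩
      show φ (algebraMap S q₁.ResidueField (algebraMap A S s)) = _
      rw [AlgHom.commutes, IsScalarTower.algebraMap_apply S (S ⊗[A] T) v.ResidueField,
        ← IsScalarTower.algebraMap_apply A S (S ⊗[A] T)]
    have hsne : algebraMap (S ⊗[A] T) v.ResidueField (algebraMap A (S ⊗[A] T) s) ≠ 0 := by
      rw [ne_eq, Ideal.algebraMap_residueField_eq_zero]
      intro hmem
      apply hs
      have h1 : (algebraMap A S s) ∈ q₁ := by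
        rw [hv₁.over, Ideal.under_def, Ideal.mem_comap,
          ← IsScalarTower.algebraMap_apply A S (S ⊗[A] T)]
        exact hmem
      rw [(inferInstance : q₁.LiesOver p).over, Ideal.under_def, Ideal.mem_comap]
      exact h1
    have h2 : algebraMap (S ⊗[A] T) v.ResidueField c =
        algebraMap (S ⊗[A] T) v.ResidueField (x ⊗ₜ[A] (1 : T)) /
          algebraMap (S ⊗[A] T) v.ResidueField (algebraMap A (S ⊗[A] T) s) := by
      rw [eq_div_iff hsne, mul_comm]
      exact h0
    rw [h2]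
    exact div_mem hx' hs'
  intro w
  obtain ⟨c₁, c₂, hc₂, rfl⟩ := IsFractionRing.div_surjective (A := (S ⊗[A] T) ⧸ v) w
  obtain ⟨c₁, rfl⟩ := Ideal.Quotient.mk_surjective c₁
  obtain ⟨c₂, rfl⟩ := Ideal.Quotient.mk_surjective c₂
  have h1 := hC c₁
  have h2 := hC c₂
  have h3 : algebraMap ((S ⊗[A] T) ⧸ v) v.ResidueField (Ideal.Quotient.mk v c₁) /
      algebraMap ((S ⊗[A] T) ⧸ v) v.ResidueField (Ideal.Quotient.mk v c₂) ∈ φ.toRingHom.fieldRange :=
    div_mem h1 h2
  obtain ⟨y, hy⟩ := h3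
  exact ⟨y, hy⟩

end

attribute [local instance] Algebra.TensorProduct.rightAlgebra

theorem exists_primes_tensor_of_flat {A : Type u} [CommRing A] (A' A₁ : Type u) [CommRing A']
    [CommRing A₁] [Algebra A A'] [Algebra A A₁] (p : Ideal A) [p.IsPrime] (p' : Ideal A')
    [p'.IsPrime] [p'.LiesOver p] [Module.Flat A (Localization.AtPrime p')] (t' t₁ : Ideal A₁)
    [t'.IsPrime] [t₁.IsPrime] [t₁.LiesOver p] (hle : t' ≤ t₁) :
    ∃ t'' v : Ideal (A' ⊗[A] A₁), t''.IsPrime ∧ v.IsPrime ∧ t'' ≤ v ∧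
      v.comap (Algebra.TensorProduct.includeLeft (R := A) (S := A) (A := A') (B := A₁)).toRingHom
        = p' ∧
      v.comap (Algebra.TensorProduct.includeRight (R := A) (A := A') (B := A₁)).toRingHom = t₁ ∧
      t''.comap (Algebra.TensorProduct.includeRight (R := A) (A := A') (B := A₁)).toRingHom
        = t' := by
  let L := Localization.AtPrime p'
  let m : Ideal L := IsLocalRing.maximalIdeal L
  have hm : m.comap (algebraMap A' L) = p' := (IsLocalization.AtPrime.under_maximalIdeal L p')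
  haveI : m.LiesOver p := by
    constructor
    rw [Ideal.under_def, IsScalarTower.algebraMap_eq A A' L, ← Ideal.comap_comap, hm]
    exact (inferInstance : p'.LiesOver p).over
  obtain ⟨v', hv', hv'₁, hv'₂⟩ := exists_prime_comap_eq L A₁ p m t₁
  haveI : Module.Flat A₁ (L ⊗[A] A₁) :=
    Module.Flat.isBaseChange (R := A) (M := L) (S := A₁) (L ⊗[A] A₁)
      (f := (Algebra.TensorProduct.includeLeft (R := A) (S := A) (A := L) (B := A₁)).toLinearMap)
      (TensorProduct.isPushout' (R := A) (S := L) (T := A₁)).out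
  haveI : v'.LiesOver t₁ := ⟨hv'₂.symm⟩
  obtain ⟨t''', hle', ht''', ht'''o⟩ := Ideal.exists_ideal_le_liesOver_of_le (p := t') (q := t₁) v' hle
  let φ : A' ⊗[A] A₁ →ₐ[A] L ⊗[A] A₁ :=
    Algebra.TensorProduct.map (IsScalarTower.toAlgHom A A' L) (AlgHom.id A A₁)
  refine ⟨t'''.comap φ.toRingHom, v'.comap φ.toRingHom, Ideal.comap_isPrime _ _,
    Ideal.comap_isPrime _ _, Ideal.comap_mono hle', ?_, ?_, ?_⟩
  · rw [Ideal.comap_comap]
    have : φ.toRingHom.comp
        (Algebra.TensorProduct.includeLeft (R := A) (S := A) (A := A') (B := A₁)).toRingHom =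
        (Algebra.TensorProduct.includeLeft (R := A) (S := A) (A := L) (B := A₁)).toRingHom.comp
          (algebraMap A' L) := by
      ext x
      simp [φ]
    rw [this, ← Ideal.comap_comap, hv'₁, hm]
  · rw [Ideal.comap_comap]
    have : φ.toRingHom.comp
        (Algebra.TensorProduct.includeRight (R := A) (A := A') (B := A₁)).toRingHom =
        (Algebra.TensorProduct.includeRight (R := A) (A := L) (B := A₁)).toRingHom := by
      ext x
      simp [φ]
    rw [this, hv'₂]
  · rw [Ideal.comap_comap]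
    have : φ.toRingHom.comp
        (Algebra.TensorProduct.includeRight (R := A) (A := A') (B := A₁)).toRingHom =
        (Algebra.TensorProduct.includeRight (R := A) (A := L) (B := A₁)).toRingHom := by
      ext x
      simp [φ]
    rw [this]
    exact ht'''o.over.symm

end Groth.Agent.Lib.helper26.Purity
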