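/-
Helper library (helper26): an impurity of `N` whose point lies in the image of an étale cover `B'`
of `B` gives an impurity of the base change of `N` to `B'`; universally pure variant of
`PureCov3` (towards S1218).
-/
import Mathlib
import Groth.Prelude.Def_FlatCA
import Groth.Agent.Lib.Helper26.PureCov2
import Groth.Agent.Lib.Helper26.Purity11

set_option autoImplicit false
set_option linter.style.haveILetI false
set_option linter.unusedSectionVars false

namespace Groth.Agent.Lib.helper26.PureCov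

open TensorProduct FlatCA

universe u

attribute [local instance] Algebra.TensorProduct.rightAlgebra

variable {A B : Type u} [CommRing A] [CommRing B] [Algebra A B] [Algebra.FiniteType A B]
  (N : Type u) [AddCommGroup N] [Module B N] (p : Ideal A) [p.IsPrime]
  -- the étale cover
  (B' N' : Type u) [CommRing B'] [Algebra B B'] [Algebra A B'] [IsScalarTower A B B']
  [Algebra.Etale B B']
  [AddCommGroup N'] [Module B' N'] [Module B N'] [IsScalarTower B B' N'] (f : N →ₗ[B] N')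
  -- the impurity
  (A₃ B₃ N₃ : Type u) [CommRing A₃] [CommRing B₃] [Algebra A A₃] [Algebra B B₃] [Algebra A₃ B₃]
  [Algebra A B₃] [IsScalarTower A B B₃] [IsScalarTower A A₃ B₃]
  [AddCommGroup N₃] [Module B₃ N₃] [Module B N₃] [IsScalarTower B B₃ N₃] [Module A₃ N₃]
  [IsScalarTower A₃ B₃ N₃] (f₃ : N →ₗ[B] N₃) (t' t : Ideal A₃) [t'.IsPrime] [t.IsPrime]
  (P : Ideal B₃) [P.IsPrime]

set_option maxHeartbeats 1600000 in
theorem not_univPure_cover_of_isImpurity (hf : IsBaseChange B' f)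
    (himp : IsImpurity A B N p A₃ B₃ N₃ f₃ t' t P)
    (Q' : Ideal B') [Q'.IsPrime]
    (hQ' : Q'.comap (algebraMap B B') = P.comap (algebraMap B B₃)) :
    IsUnivPureAlong A B' N' p → False := by
  intro hpure
  obtain ⟨hpush, hbc, hle, htp, hPt', hass, hno⟩ := himp
  haveI := hpush
  haveI := htp
  haveI := hPt'
  haveI : Algebra.FiniteType A₃ B₃ := by
    haveI : Algebra.IsPushout A A₃ B B₃ := Algebra.IsPushout.symm inferInstance
    exact Algebra.FiniteType.equiv inferInstance (Algebra.IsPushout.equiv A A₃ B B₃)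
  -- the ring `B'₃ = B₃ ⊗[B] B'`
  haveI twAB' : IsScalarTower A B' (B₃ ⊗[B] B') :=
    IsScalarTower.of_algebraMap_eq (R := A) (S := B') (A := B₃ ⊗[B] B') fun a => by
      rw [IsScalarTower.algebraMap_apply A B (B₃ ⊗[B] B'),
        IsScalarTower.algebraMap_apply A B B', ← IsScalarTower.algebraMap_apply B B' (B₃ ⊗[B] B')]
  have hpush' : Algebra.IsPushout A B' A₃ (B₃ ⊗[B] B') :=
    (Algebra.IsPushout.comp_iff A B A₃ B₃ (T := B') (T' := B₃ ⊗[B] B')).2 inferInstance
  -- the module `N'₃ = B'₃ ⊗[B'] N'`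
  have hf'₃ : IsBaseChange (B₃ ⊗[B] B') (TensorProduct.mk B' (B₃ ⊗[B] B') N' 1) :=
    TensorProduct.isBaseChange B' N' (B₃ ⊗[B] B')
  have hc : IsBaseChange (B₃ ⊗[B] B')
      (((TensorProduct.mk B' (B₃ ⊗[B] B') N' 1).restrictScalars B).comp f) :=
    IsBaseChange.comp hf hf'₃
  let g₃ : N₃ →ₗ[B₃] (B₃ ⊗[B] B') ⊗[B'] N' :=
    hbc.lift (((TensorProduct.mk B' (B₃ ⊗[B] B') N' 1).restrictScalars B).comp f)
  have hg₃ : IsBaseChange (B₃ ⊗[B] B') g₃ := by
    apply IsBaseChange.of_comp hbc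
    rw [hbc.lift_comp]
    exact hc
  -- the point
  haveI : (P.comap (algebraMap B B₃)).IsPrime := Ideal.comap_isPrime _ _
  haveI : P.LiesOver (P.comap (algebraMap B B₃)) := ⟨rfl⟩
  haveI : Q'.LiesOver (P.comap (algebraMap B B₃)) := ⟨hQ'.symm⟩
  obtain ⟨ξ, hξ, hξ₁, hξ₂⟩ := Groth.Agent.Lib.helper26.Purity.exists_prime_comap_eq (A := B) B₃ B'
    (P.comap (algebraMap B B₃)) P Q'
  haveI := hξ
  haveI hξP : ξ.LiesOver P := ⟨hξ₁.symm⟩
  haveI hξt' : ξ.LiesOver t' := Ideal.LiesOver.trans ξ P t'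
  haveI : Algebra.FiniteType A₃ (B₃ ⊗[B] B') :=
    Algebra.FiniteType.trans (S := B₃) inferInstance inferInstance
  have hass' := fiberIdeal_mem_associatedPrimes_of_flat_quasiFinite (R := A₃) (S := B₃)
    (S' := B₃ ⊗[B] B') g₃ hg₃ t' P ξ hass
  refine hpure A₃ (B₃ ⊗[B] B') ((B₃ ⊗[B] B') ⊗[B'] N') (TensorProduct.mk B' (B₃ ⊗[B] B') N' 1)
    t' t ξ ⟨hpush', hf'₃, hle, htp, hξt', hass', ?_⟩
  intro P' hP' hξP' hP't
  refine hno (P'.comap (algebraMap B₃ (B₃ ⊗[B] B'))) ?_ ?_
  · rw [← hξ₁]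
    exact Ideal.comap_mono hξP'
  · constructor
    rw [hP't.over, Ideal.under_def, Ideal.under_def, Ideal.comap_comap,
      ← IsScalarTower.algebraMap_eq]

end Groth.Agent.Lib.helper26.PureCov
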