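import Mathlib
import Groth.Prelude.Def_FlatCA

/-!
# Purity: composition of base changes (helper26)

* `isImpurity_comp`: an impurity of a base change `N'` of `N` is an impurity of `N`.
* `isImpurity_self`: an impurity of `N` is an impurity of its base change `N'` with respect to the
  identity base change.
-/

set_option autoImplicit false
set_option linter.style.haveILetI false
set_option linter.unusedSectionVars false
universe u

namespace Groth.Agent.Lib.helper26.Purity

open TensorProduct FlatCA

section Comp

variable {A B : Type u} [CommRing A] [CommRing B] [Algebra A B] (N : Type u) [AddCommGroup N]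
  [Module B N] (p : Ideal A)
  (A' B' N' : Type u) [CommRing A'] [CommRing B'] [Algebra A A'] [Algebra B B'] [Algebra A' B']
  [Algebra A B'] [IsScalarTower A B B'] [IsScalarTower A A' B'] [Algebra.IsPushout A B A' B']
  [AddCommGroup N'] [Module B' N'] [Module B N'] [IsScalarTower B B' N'] (g : N →ₗ[B] N')
  (hg : IsBaseChange B' g) (p' : Ideal A') [p'.LiesOver p]
  (A'' B'' N'' : Type u) [CommRing A''] [CommRing B''] [Algebra A' A''] [Algebra B' B'']
  [Algebra A'' B''] [Algebra A' B''] [IsScalarTower A' B' B''] [IsScalarTower A' A'' B'']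
  [AddCommGroup N''] [Module B'' N''] [Module B' N''] [IsScalarTower B' B'' N''] [Module A'' N'']
  [IsScalarTower A'' B'' N''] (f' : N' →ₗ[B'] N'') (t' t : Ideal A'') [t'.IsPrime] [t.IsPrime]
  (P : Ideal B'') [P.IsPrime]
  [Algebra A A''] [IsScalarTower A A' A''] [Algebra B B''] [IsScalarTower B B' B'']
  [Algebra A B''] [IsScalarTower A B B''] [IsScalarTower A A'' B''] [Module B N'']
  [IsScalarTower B B'' N''] [IsScalarTower B B' N'']

include hg in
/-- an impurity of the base change `N'` (relative to `A' → A''`) is an impurity of `N` (relative to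
`A → A''`). -/
theorem isImpurity_comp (h : IsImpurity A' B' N' p' A'' B'' N'' f' t' t P) :
    IsImpurity A B N p A'' B'' N'' ((f'.restrictScalars B).comp g) t' t P := by
  obtain ⟨hpush, hbc, hle, htp, hPt', hass, hno⟩ := h
  haveI : IsScalarTower A B' B'' := IsScalarTower.of_algebraMap_eq fun x => by
    rw [IsScalarTower.algebraMap_apply A B B'', IsScalarTower.algebraMap_apply B B' B'',
      ← IsScalarTower.algebraMap_apply A B B']
  haveI : IsScalarTower A A' B'' := IsScalarTower.of_algebraMap_eq fun x => by
    rw [IsScalarTower.algebraMap_apply A A'' B'', IsScalarTower.algebraMap_apply A A' A'',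
      ← IsScalarTower.algebraMap_apply A' A'' B'']
  refine ⟨?_, IsBaseChange.comp hg hbc, hle, ?_, hPt', hass, hno⟩
  · haveI h1 : Algebra.IsPushout A A' B B' := Algebra.IsPushout.symm inferInstance
    have h2 : Algebra.IsPushout A' A'' B' B'' := Algebra.IsPushout.symm hpush
    have h3 : Algebra.IsPushout A A'' B B'' :=
      (Algebra.IsPushout.comp_iff A A' B B' (T := A'') (T' := B'')).2 h2
    exact Algebra.IsPushout.symm h3
  · haveI := htp
    exact Ideal.LiesOver.trans t p' p

end Comp

section Self

variable {A B : Type u} [CommRing A] [CommRing B] [Algebra A B] (N : Type u) [AddCommGroup N]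
  [Module B N] (p : Ideal A)
  (A' B' N' : Type u) [CommRing A'] [CommRing B'] [Algebra A A'] [Algebra B B'] [Algebra A' B']
  [Algebra A B'] [IsScalarTower A B B'] [IsScalarTower A A' B']
  [AddCommGroup N'] [Module B' N'] [Module B N'] [IsScalarTower B B' N'] [Module A' N']
  [IsScalarTower A' B' N'] (f : N →ₗ[B] N') (t' t : Ideal A') [t'.IsPrime] [t.IsPrime]
  (P : Ideal B') [P.IsPrime]

/-- an impurity of `N` is an impurity of its base change, relative to the identity. -/
theorem isImpurity_self (h : IsImpurity A B N p A' B' N' f t' t P) :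
    IsImpurity A' B' N' t A' B' N' (LinearMap.id : N' →ₗ[B'] N') t' t P := by
  obtain ⟨hpush, hbc, hle, htp, hPt', hass, hno⟩ := h
  refine ⟨inferInstance, ?_, hle, ⟨(Ideal.comap_id t).symm⟩, hPt', hass, hno⟩
  exact IsBaseChange.of_equiv (TensorProduct.lid B' N') fun x => by simp

theorem isEtaleNhd_self : IsEtaleNhd A' A' t t := by
  refine ⟨inferInstance, ⟨(Ideal.comap_id t).symm⟩, ?_⟩
  exact (RingHom.surjectiveOnStalks_of_surjective (f := algebraMap A' A')
    Function.surjective_id).residueFieldMap_bijective t t _

end Self

end Groth.Agent.Lib.helper26.Purity
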