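import Mathlib

/-!
# Associated primes under faithfully flat / field base change (helper26)

Generic commutative algebra used for the base-change behaviour of the relative assassin:

* `exists_associatedPrime_comap_eq_of_faithfullyFlat`: for a faithfully flat map of Noetherian
  rings `Φ → Φ'` and a base change `M → M'`, every associated prime of `M` is the contraction of
  an associated prime of `M'`.
* `comap_mem_associatedPrimes_of_isPushout_field`: if `Φ' = L ⊗[k] Φ` for a field extension
  `L/k`, the contraction of an associated prime of `M'` is an associated prime of `M`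
  (no finiteness assumption).
-/

set_option autoImplicit false
set_option linter.style.haveILetI false
set_option linter.unusedSectionVars false
universe u

namespace Groth.Agent.Lib.helper26.Purity

open TensorProduct

section Lift

variable {Φ Φ' : Type u} [CommRing Φ] [CommRing Φ'] [Algebra Φ Φ'] [Module.FaithfullyFlat Φ Φ']
  [IsNoetherianRing Φ] [IsNoetherianRing Φ']
  {M M' : Type u} [AddCommGroup M] [Module Φ M] [AddCommGroup M'] [Module Φ' M'] [Module Φ M']
  [IsScalarTower Φ Φ' M']

/-- **Associated primes lift along faithfully flat base change** (Noetherian rings). -/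
theorem exists_associatedPrime_comap_eq_of_faithfullyFlat (g : M →ₗ[Φ] M')
    (hg : IsBaseChange Φ' g) (𝔭 : Ideal Φ) (h𝔭 : 𝔭 ∈ associatedPrimes Φ M) :
    ∃ 𝔮 ∈ associatedPrimes Φ' M', 𝔮.comap (algebraMap Φ Φ') = 𝔭 := by
  obtain ⟨hprime, x, hx⟩ := (isAssociatedPrime_iff (I := 𝔭) (M := M)).1 h𝔭
  have hmem : ∀ c : Φ, c ∈ 𝔭 ↔ c • x = 0 := by
    intro c
    rw [hx, Submodule.mem_colon_singleton, Submodule.mem_bot]
  let Mx : Submodule Φ M := Submodule.span Φ {x}
  have hxne : x ≠ 0 := by
    intro h0
    apply hprime.ne_top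
    rw [Ideal.eq_top_iff_one, hmem, h0, smul_zero]
  haveI : Nontrivial Mx := ⟨⟨⟨x, Submodule.mem_span_singleton_self x⟩, 0, fun h => hxne
    (congrArg Subtype.val h)⟩⟩
  -- the base change of the cyclic submodule
  haveI : Nontrivial (Φ' ⊗[Φ] Mx) :=
    (Module.FaithfullyFlat.nontrivial_tensorProduct_iff_right Φ Φ').2 inferInstance
  have hj : Function.Injective (hg.equiv.toLinearMap ∘ₗ
      (AlgebraTensorModule.map (LinearMap.id : Φ' →ₗ[Φ'] Φ') Mx.subtype)) := by
    rw [LinearMap.coe_comp]
    refine hg.equiv.injective.comp ?_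
    exact Module.Flat.lTensor_preserves_injective_linearMap Mx.subtype Mx.injective_subtype
  obtain ⟨𝔮, h𝔮⟩ := associatedPrimes.nonempty Φ' (Φ' ⊗[Φ] Mx)
  refine ⟨𝔮, IsAssociatedPrime.map_of_injective _ h𝔮 hj, ?_⟩
  apply le_antisymm
  · intro a ha
    by_contra hna
    -- `a` is regular on `Mx`
    have hreg : IsSMulRegular Mx a := by
      rw [isSMulRegular_iff_right_eq_zero_of_smul]
      rintro ⟨z, hz⟩ haz
      obtain ⟨c, rfl⟩ := Submodule.mem_span_singleton.1 hz
      have h1 : (a * c) • x = 0 := by
        have := congrArg Subtype.val haz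
        rw [mul_smul]
        exact this
      have h2 : a * c ∈ 𝔭 := (hmem _).2 h1
      have h3 : c ∈ 𝔭 := (hprime.mem_or_mem h2).resolve_left hna
      exact Subtype.ext ((hmem c).1 h3)
    have hreg' : IsSMulRegular (Φ' ⊗[Φ] Mx) (algebraMap Φ Φ' a) :=
      IsSMulRegular.of_flat_of_isBaseChange (TensorProduct.isBaseChange Φ Mx Φ') hreg
    obtain ⟨w, hw⟩ := h𝔮.2
    have hwne : w ≠ 0 := by
      intro h0
      apply h𝔮.1.ne_top
      rw [hw, h0, Ideal.eq_top_iff_one]
      apply Ideal.le_radical
      rw [Submodule.mem_colon_singleton, smul_zero]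
      exact Submodule.zero_mem _
    have h1 : algebraMap Φ Φ' a ∈ (Submodule.colon (⊥ : Submodule Φ' (Φ' ⊗[Φ] Mx)) {w}).radical := by
      rw [← hw]
      exact ha
    obtain ⟨n, hn⟩ := h1
    rw [Submodule.mem_colon_singleton, Submodule.mem_bot] at hn
    exact hwne ((hreg'.pow n).right_eq_zero_of_smul hn)
  · intro a ha
    rw [Ideal.mem_comap]
    apply h𝔮.annihilator_le
    rw [Submodule.mem_annihilator]
    intro z hz0
    clear hz0
    induction z using TensorProduct.induction_on with
    | zero => rw [smul_zero]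
    | add y z hy hz => rw [smul_add, hy, hz, add_zero]
    | tmul c z =>
      obtain ⟨z, hz⟩ := z
      obtain ⟨d, rfl⟩ := Submodule.mem_span_singleton.1 hz
      have h1 : a • (⟨d • x, hz⟩ : Mx) = 0 := by
        apply Subtype.ext
        show a • d • x = 0
        rw [smul_comm, (hmem a).1 ha, smul_zero]
      rw [TensorProduct.smul_tmul', smul_eq_mul, ← Algebra.smul_def,
        TensorProduct.smul_tmul, h1, TensorProduct.tmul_zero]

end Lift

section Finsupp

variable {Φ : Type u} [CommRing Φ] {M : Type u} [AddCommGroup M] [Module Φ M] {ι : Type u}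

/-- an associated prime of a direct sum of copies of `M` is an associated prime of `M`. -/
theorem isAssociatedPrime_of_finsupp (𝔭 : Ideal Φ) (h : IsAssociatedPrime 𝔭 (ι →₀ M)) :
    IsAssociatedPrime 𝔭 M := by
  classical
  obtain ⟨hprime, z, hz⟩ := h
  have hcolon : ∀ a : Φ, a ∈ Submodule.colon (⊥ : Submodule Φ (ι →₀ M)) {z} ↔
      ∀ i ∈ z.support, a ∈ Submodule.colon (⊥ : Submodule Φ M) {z i} := by
    intro a
    rw [Submodule.mem_colon_singleton, Submodule.mem_bot]
    constructor
    · intro h0 i _
      rw [Submodule.mem_colon_singleton, Submodule.mem_bot]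
      have := DFunLike.congr_fun h0 i
      rwa [Finsupp.smul_apply] at this
    · intro h0
      ext i
      rw [Finsupp.smul_apply, Finsupp.zero_apply]
      by_cases hi : i ∈ z.support
      · have := h0 i hi
        rwa [Submodule.mem_colon_singleton, Submodule.mem_bot] at this
      · rw [Finsupp.notMem_support_iff.1 hi, smul_zero]
  have hle : z.support.inf (fun i => Submodule.colon (⊥ : Submodule Φ M) {z i}) ≤ 𝔭 := by
    intro a ha
    rw [hz]
    apply Ideal.le_radical
    rw [hcolon]
    intro i hi
    have h1 : z.support.inf (fun i => Submodule.colon (⊥ : Submodule Φ M) {z i}) ≤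
        Submodule.colon (⊥ : Submodule Φ M) {z i} := Finset.inf_le hi
    exact h1 ha
  obtain ⟨i, hi, hile⟩ := (Ideal.IsPrime.inf_le' hprime).1 hle
  refine ⟨hprime, z i, le_antisymm ?_ ?_⟩
  · rw [hz]
    apply Ideal.radical_mono
    intro a ha
    exact (hcolon a).1 ha i hi
  · exact (hprime.radical_le_iff).2 hile

end Finsupp

section Descend

variable (k L : Type u) {Φ Φ' : Type u} [Field k] [Field L] [CommRing Φ] [CommRing Φ'] [Algebra k L]
  [Algebra k Φ] [Algebra L Φ'] [Algebra Φ Φ'] [Algebra k Φ'] [IsScalarTower k L Φ']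
  [IsScalarTower k Φ Φ'] [Algebra.IsPushout k L Φ Φ']
  {M M' : Type u} [AddCommGroup M] [Module Φ M] [Module k M] [IsScalarTower k Φ M]
  [AddCommGroup M'] [Module Φ' M'] [Module Φ M'] [IsScalarTower Φ Φ' M']

include k L in
/-- **Associated primes descend along a field base change** `Φ → Φ' = L ⊗[k] Φ`: the contraction
of an associated prime of the base change `M'` of `M` is an associated prime of `M`. -/
theorem comap_mem_associatedPrimes_of_isPushout_field (g : M →ₗ[Φ] M')
    (hg : IsBaseChange Φ' g) (𝔮 : Ideal Φ') (h𝔮 : 𝔮 ∈ associatedPrimes Φ' M') :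
    𝔮.comap (algebraMap Φ Φ') ∈ associatedPrimes Φ M := by
  classical
  let ℬ := Module.Basis.ofVectorSpace k L
  let e₁ := TensorProduct.equivFinsuppOfBasisLeft (N := M) ℬ
  let e₂ := Algebra.IsPushout.cancelBaseChange k L Φ Φ' M
  let e₃ := hg.equiv
  let χ : (Module.Basis.ofVectorSpaceIndex k L →₀ M) → M' := fun z => e₃ (e₂.symm (e₁.symm z))
  have hχ : ∀ z, χ z = z.sum fun i m => algebraMap L Φ' (ℬ i) • g m := by
    intro z
    show e₃ (e₂.symm (e₁.symm z)) = _
    rw [TensorProduct.equivFinsuppOfBasisLeft_symm_apply, map_finsuppSum, map_finsuppSum]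
    refine Finsupp.sum_congr fun i _ => ?_
    rw [Algebra.IsPushout.cancelBaseChange_symm_tmul, IsBaseChange.equiv_tmul]
  have hχ0 : χ 0 = 0 := by
    rw [hχ]
    exact Finsupp.sum_zero_index
  have hχinj : Function.Injective χ :=
    e₃.injective.comp (e₂.symm.injective.comp e₁.symm.injective)
  have hχsurj : Function.Surjective χ :=
    e₃.surjective.comp (e₂.symm.surjective.comp e₁.symm.surjective)
  have hχsmul : ∀ (a : Φ) z, χ (a • z) = a • χ z := by
    intro a z
    rw [hχ, hχ, Finsupp.sum_smul_index' (fun i => by rw [map_zero, smul_zero]), Finsupp.smul_sum]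
    refine Finsupp.sum_congr fun i _ => ?_
    rw [map_smul, smul_comm]
  obtain ⟨hprime, m', hm'⟩ := h𝔮
  obtain ⟨z, rfl⟩ := hχsurj m'
  refine isAssociatedPrime_of_finsupp _ ⟨Ideal.comap_isPrime _ _, z, ?_⟩
  ext a
  rw [Ideal.mem_comap, hm', Ideal.mem_radical_iff, Ideal.mem_radical_iff]
  refine exists_congr fun n => ?_
  rw [Submodule.mem_colon_singleton, Submodule.mem_bot, Submodule.mem_colon_singleton,
    Submodule.mem_bot, ← map_pow, algebraMap_smul, ← hχsmul]
  constructor
  · intro h
    apply hχinj
    rw [h, hχ0]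
  · intro h
    rw [h, hχ0]

end Descend

end Groth.Agent.Lib.helper26.Purity
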