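import Mathlib
import Groth.Prelude.Def_FlatCA
import Groth.Agent.Lib.Helper26.Purity1
import Groth.Agent.Lib.Helper26.Purity6
import Groth.Agent.Lib.Helper3.UnivInjGlobal1

/-!
# The relative assassin under base change (helper26)

For a base change `(A, B, N) → (A', B', N')` (pushout of rings, base change of modules) and a prime
`t'` of `A'` over the prime `t` of `A`:

* `fiberIdeal_comap_mem_associatedPrimes`: the contraction to `B` of an associated point of the
  fibre of `N'` over `t'` is an associated point of the fibre of `N` over `t`;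
* `exists_prime_fiberIdeal_mem_associatedPrimes`: (for `B` of finite type) every associated point
  of the fibre of `N` over `t` is the contraction of an associated point of the fibre of `N'`
  over `t'`.
-/

set_option autoImplicit false
set_option linter.style.haveILetI false
set_option linter.unusedSectionVars false
universe u

namespace Groth.Agent.Lib.helper26.Purity

open TensorProduct FlatCA

attribute [local instance] Algebra.TensorProduct.rightAlgebra

variable {A B : Type u} [CommRing A] [CommRing B] [Algebra A B] (N : Type u) [AddCommGroup N]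
  [Module B N] [Module A N] [IsScalarTower A B N]
  (A' B' N' : Type u) [CommRing A'] [CommRing B'] [Algebra A A'] [Algebra B B'] [Algebra A' B']
  [Algebra A B'] [IsScalarTower A B B'] [IsScalarTower A A' B'] [Algebra.IsPushout A B A' B']
  [AddCommGroup N'] [Module B' N'] [Module B N'] [IsScalarTower B B' N'] [Module A' N']
  [IsScalarTower A' B' N']
  (f : N →ₗ[B] N') (hf : IsBaseChange B' f)
  (t : Ideal A) [t.IsPrime] (t' : Ideal A') [t'.IsPrime] [t'.LiesOver t]

include hf in
/-- the comparison map of fibre rings and the behaviour of associated primes of fibre modules. -/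
theorem bridge_ring : ∃ φ : t.Fiber B →+* t'.Fiber B',
    (∀ b : B, φ ((1 : t.ResidueField) ⊗ₜ[A] b) = (1 : t'.ResidueField) ⊗ₜ[A'] (algebraMap B B' b)) ∧
    (∀ 𝔮 ∈ associatedPrimes (t'.Fiber B') (fiberMod t' B' N'),
      𝔮.comap φ ∈ associatedPrimes (t.Fiber B) (fiberMod t B N)) ∧
    (Algebra.FiniteType A B → ∀ 𝔭 ∈ associatedPrimes (t.Fiber B) (fiberMod t B N),
      ∃ 𝔮 ∈ associatedPrimes (t'.Fiber B') (fiberMod t' B' N'), 𝔮.comap φ = 𝔭) := by
  -- instances
  have hover : t = t'.comap (Algebra.ofId A A').toRingHom := Ideal.LiesOver.over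
  let κ : t.ResidueField →ₐ[A] t'.ResidueField :=
    Ideal.ResidueField.mapₐ t t' (Algebra.ofId A A') hover
  letI algkL : Algebra t.ResidueField t'.ResidueField := κ.toRingHom.toAlgebra
  haveI : IsScalarTower A t.ResidueField t'.ResidueField :=
    IsScalarTower.of_algebraMap_eq fun a => (κ.commutes a).symm
  haveI : IsScalarTower t.ResidueField t'.ResidueField (t'.Fiber B') := inferInstance
  letI algBΦ' : Algebra B (t'.Fiber B') :=
    ((algebraMap B' (t'.Fiber B')).comp (algebraMap B B')).toAlgebra
  haveI : IsScalarTower B B' (t'.Fiber B') := IsScalarTower.of_algebraMap_eq fun _ => rfl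
  haveI hAB'Φ' : IsScalarTower A B' (t'.Fiber B') := IsScalarTower.of_algebraMap_eq fun a => by
    rw [IsScalarTower.algebraMap_apply A A' (t'.Fiber B'),
      IsScalarTower.algebraMap_apply A' B' (t'.Fiber B'), ← IsScalarTower.algebraMap_apply A A' B']
  haveI hABΦ' : IsScalarTower A B (t'.Fiber B') := IsScalarTower.of_algebraMap_eq fun a => by
    rw [IsScalarTower.algebraMap_apply A B' (t'.Fiber B'), IsScalarTower.algebraMap_apply A B B',
      ← IsScalarTower.algebraMap_apply B B' (t'.Fiber B')]
  haveI hAkΦ' : IsScalarTower A t.ResidueField (t'.Fiber B') :=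
    IsScalarTower.of_algebraMap_eq fun a => by
      rw [IsScalarTower.algebraMap_apply A t'.ResidueField (t'.Fiber B'),
        IsScalarTower.algebraMap_apply A t.ResidueField t'.ResidueField,
        ← IsScalarTower.algebraMap_apply t.ResidueField t'.ResidueField (t'.Fiber B')]
  let φ : t.Fiber B →ₐ[t.ResidueField] t'.Fiber B' :=
    Algebra.TensorProduct.lift (Algebra.ofId t.ResidueField (t'.Fiber B'))
      (IsScalarTower.toAlgHom A B (t'.Fiber B')) (fun _ _ => Commute.all _ _)
  have hφ1 : ∀ b : B, φ ((1 : t.ResidueField) ⊗ₜ[A] b) =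
      (1 : t'.ResidueField) ⊗ₜ[A'] (algebraMap B B' b) := by
    intro b
    rw [Algebra.TensorProduct.lift_tmul, map_one, one_mul]
    rfl
  letI algΦΦ' : Algebra (t.Fiber B) (t'.Fiber B') := φ.toRingHom.toAlgebra
  haveI : IsScalarTower t.ResidueField (t.Fiber B) (t'.Fiber B') :=
    IsScalarTower.of_algebraMap_eq fun c => (φ.commutes c).symm
  haveI : IsScalarTower B (t.Fiber B) (t'.Fiber B') :=
    IsScalarTower.of_algebraMap_eq fun b => (hφ1 b).symm
  haveI : IsScalarTower A (t.Fiber B) (t'.Fiber B') := by
    refine IsScalarTower.of_algebraMap_eq (R := A) (S := t.Fiber B) (A := t'.Fiber B') fun a => ?_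
    · rw [IsScalarTower.algebraMap_apply A t.ResidueField (t'.Fiber B'),
        IsScalarTower.algebraMap_apply A t.ResidueField (t.Fiber B),
        ← IsScalarTower.algebraMap_apply t.ResidueField (t.Fiber B) (t'.Fiber B')]
  have hpush : Algebra.IsPushout t.ResidueField t'.ResidueField (t.Fiber B) (t'.Fiber B') := by
    have h1 : Algebra.IsPushout A t'.ResidueField B (t'.Fiber B') := by
      haveI : Algebra.IsPushout A A' B B' := Algebra.IsPushout.symm inferInstance
      exact (Algebra.IsPushout.comp_iff A A' B B' (T := t'.ResidueField)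
        (T' := t'.Fiber B')).2 inferInstance
    exact (Algebra.IsPushout.comp_iff A t.ResidueField B (t.Fiber B) (T := t'.ResidueField)
        (T' := t'.Fiber B')).1 h1
  have hN := TensorProduct.isBaseChange B N (t.Fiber B)
  have hN' := TensorProduct.isBaseChange B' N' (t'.Fiber B')
  have hcomp := IsBaseChange.comp hf hN'
  let g : (t.Fiber B) ⊗[B] N →ₗ[t.Fiber B] (t'.Fiber B') ⊗[B'] N' :=
    hN.lift (((TensorProduct.mk B' (t'.Fiber B') N' 1).restrictScalars B).comp f)
  have hg : IsBaseChange (t'.Fiber B') g := by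
    apply IsBaseChange.of_comp hN
    have : (g : (t.Fiber B) ⊗[B] N →ₗ[B] (t'.Fiber B') ⊗[B'] N') ∘ₗ
        (TensorProduct.mk B (t.Fiber B) N 1) =
        ((TensorProduct.mk B' (t'.Fiber B') N' 1).restrictScalars B).comp f := hN.lift_comp _
    rw [this]
    exact hcomp
  refine ⟨φ.toRingHom, hφ1, ?_, ?_⟩
  · intro 𝔮 h𝔮
    exact Groth.Agent.Lib.helper26.Purity.comap_mem_associatedPrimes_of_isPushout_field
      t.ResidueField t'.ResidueField g hg 𝔮 h𝔮
  · intro hft 𝔭 h𝔭
    haveI : IsNoetherianRing (t.Fiber B) := Algebra.FiniteType.isNoetherianRing t.ResidueField _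
    haveI : Algebra.FiniteType A' B' := by
      haveI : Algebra.IsPushout A A' B B' := Algebra.IsPushout.symm inferInstance
      exact Algebra.FiniteType.equiv inferInstance (Algebra.IsPushout.equiv A A' B B')
    haveI : IsNoetherianRing (t'.Fiber B') := Algebra.FiniteType.isNoetherianRing t'.ResidueField _
    haveI : Module.FaithfullyFlat (t.Fiber B) (t'.Fiber B') := by
      haveI : Algebra.IsPushout t.ResidueField (t.Fiber B) t'.ResidueField (t'.Fiber B') :=
        Algebra.IsPushout.symm hpush
      exact Module.FaithfullyFlat.of_linearEquiv _ _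
        (Algebra.IsPushout.equiv t.ResidueField (t.Fiber B) t'.ResidueField
          (t'.Fiber B')).symm.toLinearEquiv
    exact Groth.Agent.Lib.helper26.Purity.exists_associatedPrime_comap_eq_of_faithfullyFlat
      g hg 𝔭 h𝔭

include hf in
/-- **Associated points of fibres descend under base change.** -/
theorem fiberIdeal_comap_mem_associatedPrimes (P' : Ideal B') [P'.IsPrime] [P'.LiesOver t']
    (hass : fiberIdeal t' P' ∈ associatedPrimes (t'.Fiber B') (fiberMod t' B' N')) :
    fiberIdeal t (P'.comap (algebraMap B B')) ∈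
      associatedPrimes (t.Fiber B) (fiberMod t B N) := by
  obtain ⟨φ, hφ1, hdesc, -⟩ := bridge_ring N A' B' N' f hf t t'
  have h1 := hdesc _ hass
  have h2 := Groth.Agent.Lib.helper3.UnivInjGlobal.fiberIdeal_comap (S := B) t
    ((fiberIdeal t' P').comap φ)
  have h3 : ((fiberIdeal t' P').comap φ).comap
      (Algebra.TensorProduct.includeRight (R := A) (A := t.ResidueField) (B := B)).toRingHom =
      P'.comap (algebraMap B B') := by
    conv_rhs => rw [← comap_fiberIdeal t' P']
    rw [Ideal.comap_comap, Ideal.comap_comap]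
    congr 1
    ext b
    exact hφ1 b
  rw [h3] at h2
  rw [h2]
  exact h1

include hf in
/-- **Associated points of fibres lift under base change** (finite type case). -/
theorem exists_prime_fiberIdeal_mem_associatedPrimes [Algebra.FiniteType A B] (P : Ideal B)
    [P.IsPrime] [P.LiesOver t]
    (hass : fiberIdeal t P ∈ associatedPrimes (t.Fiber B) (fiberMod t B N)) :
    ∃ P' : Ideal B', P'.IsPrime ∧ P'.comap (algebraMap B B') = P ∧ P'.LiesOver t' ∧
      fiberIdeal t' P' ∈ associatedPrimes (t'.Fiber B') (fiberMod t' B' N') := by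
  obtain ⟨φ, hφ1, -, hlift⟩ := bridge_ring N A' B' N' f hf t t'
  obtain ⟨𝔮, h𝔮, hcomap⟩ := hlift inferInstance _ hass
  haveI : 𝔮.IsPrime := h𝔮.isPrime
  refine ⟨𝔮.comap (Algebra.TensorProduct.includeRight (R := A') (A := t'.ResidueField)
    (B := B')).toRingHom, Ideal.comap_isPrime _ _, ?_,
    Groth.Agent.Lib.helper3.UnivInjGlobal.comap_liesOver t' 𝔮, ?_⟩
  · conv_rhs => rw [← comap_fiberIdeal t P, ← hcomap]
    rw [Ideal.comap_comap, Ideal.comap_comap]
    congr 1
    ext b
    exact (hφ1 b).symm
  · rw [Groth.Agent.Lib.helper3.UnivInjGlobal.fiberIdeal_comap (S := B') t' 𝔮]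
    exact h𝔮

end Groth.Agent.Lib.helper26.Purity
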