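/-
Helper library (helper26): purity along `p` forces the relative associated points of the base
change to the local ring at `p` to specialize into the closed fibre (towards S1218).
-/
import Mathlib
import Groth.Prelude.Def_FlatCA
import Groth.Agent.Lib.Helper26.Purity4
import Groth.Agent.Lib.Helper26.Purity7

set_option autoImplicit false
set_option linter.style.haveILetI false
set_option linter.unusedSectionVars false

namespace Groth.Agent.Lib.helper26.PureCov

open TensorProduct FlatCA IsLocalRing

universe u

attribute [local instance] Algebra.TensorProduct.rightAlgebra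

variable {R S : Type u} [CommRing R] [CommRing S] [Algebra R S]
  (N : Type u) [AddCommGroup N] [Module S N] [Module R N] [IsScalarTower R S N]
  (p : Ideal R) [p.IsPrime]
  (SA NA : Type u) [CommRing SA] [Algebra R SA] [Algebra S SA]
  [Algebra (Localization.AtPrime p) SA] [IsScalarTower R S SA]
  [IsScalarTower R (Localization.AtPrime p) SA]
  [Algebra.IsPushout R S (Localization.AtPrime p) SA]
  [AddCommGroup NA] [Module SA NA] [Module S NA] [IsScalarTower S SA NA]
  [Module (Localization.AtPrime p) NA] [IsScalarTower (Localization.AtPrime p) SA NA]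
  (f : N →ₗ[S] NA)

theorem exists_prime_ge_liesOver_maximalIdeal (hf : IsBaseChange SA f)
    (hpure : IsPureAlong R S N p)
    (s' : Ideal (Localization.AtPrime p)) [s'.IsPrime] (Q : Ideal SA) [Q.IsPrime] [Q.LiesOver s']
    (hass : fiberIdeal s' Q ∈ associatedPrimes (s'.Fiber SA) (fiberMod s' SA NA)) :
    ∃ Q' : Ideal SA, Q'.IsPrime ∧ Q ≤ Q' ∧
      Q'.LiesOver (maximalIdeal (Localization.AtPrime p)) := by
  haveI : (s'.under R).IsPrime := Ideal.comap_isPrime _ _
  haveI : s'.LiesOver (s'.under R) := ⟨rfl⟩
  have hass₀ := Groth.Agent.Lib.helper26.Purity.fiberIdeal_comap_mem_associatedPrimes N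
    (Localization.AtPrime p) SA NA f hf (s'.under R) s' Q hass
  haveI : (Q.comap (algebraMap S SA)).IsPrime := Ideal.comap_isPrime _ _
  have hlo : (Q.comap (algebraMap S SA)).LiesOver (s'.under R) := by
    constructor
    rw [(inferInstance : Q.LiesOver s').over, Ideal.under_def, Ideal.under_def, Ideal.under_def,
      Ideal.comap_comap, Ideal.comap_comap, ← IsScalarTower.algebraMap_eq,
      ← IsScalarTower.algebraMap_eq]
  have hle : s'.under R ≤ p := by
    have h1 : s' ≤ maximalIdeal (Localization.AtPrime p) := IsLocalRing.le_maximalIdeal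
      (Ideal.IsPrime.ne_top inferInstance)
    have h2 := Ideal.comap_mono (f := algebraMap R (Localization.AtPrime p)) h1
    rwa [show Ideal.comap (algebraMap R (Localization.AtPrime p))
      (maximalIdeal (Localization.AtPrime p)) = p from
      Localization.AtPrime.under_maximalIdeal] at h2
  have h1 : ¬ IsImpurity R S N p R S N LinearMap.id (s'.under R) p (Q.comap (algebraMap S SA)) :=
    hpure R S N LinearMap.id (s'.under R) p (Q.comap (algebraMap S SA))
      (Groth.Agent.Lib.helper26.Purity.isEtaleNhd_self R p)
  have h2 : ∃ Q₁ : Ideal S, Q₁.IsPrime ∧ Q.comap (algebraMap S SA) ≤ Q₁ ∧ Q₁.LiesOver p := by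
    by_contra hno
    push Not at hno
    exact h1 ⟨inferInstance, IsBaseChange.of_equiv (TensorProduct.lid S N) (fun x => by simp),
      hle, ⟨(Ideal.comap_id p).symm⟩, hlo, hass₀, fun P' hP' hQP' hP'p => hno P' hP' hQP' hP'p⟩
  obtain ⟨Q₁, hQ₁, hQQ₁, hQ₁p⟩ := h2
  -- `SA` is a localization of `S`
  haveI hloc : IsLocalization (Algebra.algebraMapSubmonoid S p.primeCompl) SA :=
    (Algebra.isLocalization_iff_isPushout p.primeCompl (Localization.AtPrime p)).mpr inferInstance
  have hdisj : Disjoint ((Algebra.algebraMapSubmonoid S p.primeCompl : Submonoid S) : Set S)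
      (Q₁ : Set S) := by
    rw [Set.disjoint_left]
    rintro _ ⟨r, hr, rfl⟩ hmem
    apply hr
    rw [hQ₁p.over]
    exact hmem
  have hprime : (Q₁.map (algebraMap S SA)).IsPrime :=
    IsLocalization.isPrime_of_isPrime_disjoint _ SA Q₁ hQ₁ hdisj
  have hcomap : (Q₁.map (algebraMap S SA)).under S = Q₁ :=
    IsLocalization.under_map_of_isPrime_disjoint _ SA hQ₁ hdisj
  refine ⟨Q₁.map (algebraMap S SA), hprime, ?_, ?_⟩
  · rw [← IsLocalization.map_under (Algebra.algebraMapSubmonoid S p.primeCompl) SA Q]
    exact Ideal.map_mono hQQ₁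
  · haveI := hprime
    constructor
    -- the contraction to `Λ` is a prime contracting to `p`
    set m' := (Q₁.map (algebraMap S SA)).under (Localization.AtPrime p) with hm'
    haveI : m'.IsPrime := Ideal.comap_isPrime _ _
    have hm'R : m'.under R = p := by
      rw [hm', Ideal.under_def, Ideal.under_def, Ideal.comap_comap,
        ← IsScalarTower.algebraMap_eq, IsScalarTower.algebraMap_eq R S SA,
        ← Ideal.comap_comap]
      have : Ideal.comap (algebraMap S SA) (Q₁.map (algebraMap S SA)) = Q₁ := hcomap
      rw [this]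
      exact hQ₁p.over.symm
    rw [← IsLocalization.map_under p.primeCompl (Localization.AtPrime p) m', hm'R,
      Localization.AtPrime.map_eq_maximalIdeal]

end Groth.Agent.Lib.helper26.PureCov
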