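/-
Helper library (helper26): spreading out fibrewise regularity (towards Raynaud–Gruson
"pure + flat ⇒ projective").
Part 1: prime-disjointness, kernels of multiplication maps, killing torsion.
-/
import Mathlib
import Groth.Agent.S0387
import Groth.Agent.Lib.Helper3.RegFib6
import Groth.Agent.Lib.Helper3.FlatDescP
import Groth.Agent.Lib.Helper11.KerFP
import Groth.Agent.Lib.Helper25.TensorChase

set_option autoImplicit false
set_option linter.style.haveILetI false
set_option linter.unusedSectionVars false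

namespace Groth.Agent.Lib.helper26.PureProj

open TensorProduct
open scoped Pointwise

universe u

section PD

variable {R S : Type u} [CommRing R] [CommRing S] [Algebra R S]

/-- an ideal of `S` not contained in any prime whose contraction lies in `𝔭` contains the image
of an element outside `𝔭`. -/
theorem exists_notMem_algebraMap_mem (𝔭 : Ideal R) [𝔭.IsPrime] (I : Ideal S)
    (h : ∀ (q : Ideal S) [q.IsPrime], q.comap (algebraMap R S) ≤ 𝔭 → ¬ I ≤ q) :
    ∃ f, f ∉ 𝔭 ∧ algebraMap R S f ∈ I := by
  by_contra hcon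
  push Not at hcon
  have hdisj : Disjoint (I : Set S)
      ((𝔭.primeCompl.map (algebraMap R S) : Submonoid S) : Set S) := by
    rw [Set.disjoint_left]
    rintro _ hx ⟨f, hf, rfl⟩
    exact hcon f hf hx
  obtain ⟨q, hq, hIq, hqd⟩ := Ideal.exists_le_prime_disjoint I _ hdisj
  refine h q (fun r hr => ?_) hIq
  by_contra hr'
  exact Set.disjoint_left.mp hqd hr ⟨r, hr', rfl⟩

/-- an open subset of `Spec S` containing all primes whose contraction lies in `𝔭` contains a
basic open `D(f)`, `f ∈ R ∖ 𝔭`. -/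
theorem exists_notMem_basicOpen_subset (𝔭 : Ideal R) [𝔭.IsPrime] (U : Set (PrimeSpectrum S))
    (hU : IsOpen U)
    (h : ∀ q : PrimeSpectrum S, q.asIdeal.comap (algebraMap R S) ≤ 𝔭 → q ∈ U) :
    ∃ f, f ∉ 𝔭 ∧ ∀ q : PrimeSpectrum S, algebraMap R S f ∉ q.asIdeal → q ∈ U := by
  set I := PrimeSpectrum.vanishingIdeal Uᶜ with hI
  have hz : PrimeSpectrum.zeroLocus (I : Set S) = Uᶜ := by
    rw [hI, PrimeSpectrum.zeroLocus_vanishingIdeal_eq_closure, hU.isClosed_compl.closure_eq]
  obtain ⟨f, hf, hfI⟩ := exists_notMem_algebraMap_mem 𝔭 I (fun q hq hqp hIq => by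
    have hmem : (⟨q, hq⟩ : PrimeSpectrum S) ∈ PrimeSpectrum.zeroLocus (I : Set S) := hIq
    rw [hz] at hmem
    exact hmem (h ⟨q, hq⟩ hqp))
  refine ⟨f, hf, fun q hfq => ?_⟩
  by_contra hqU
  have hmem : q ∈ PrimeSpectrum.zeroLocus (I : Set S) := by
    rw [hz]
    exact hqU
  exact hfq (hmem hfI)

end PD

section Ker

/-- If `M → K` is a surjection of finitely presented `B`-modules with `K` flat over `A`
(`B` finitely presented over `A`) whose kernel is `hM`, then the kernel of multiplication by `h`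
on `M` is finitely generated. -/
theorem fg_ker_lsmul {A B : Type u} [CommRing A] [CommRing B] [Algebra A B]
    [Algebra.FinitePresentation A B] {M K : Type u} [AddCommGroup M] [Module B M]
    [AddCommGroup K] [Module A K] [Module B K] [IsScalarTower A B K]
    [Module.FinitePresentation B M] [Module.FinitePresentation B K] [Module.Flat A K]
    (π : M →ₗ[B] K) (hπ : Function.Surjective π) (h : B)
    (hex : Function.Exact (LinearMap.lsmul B M h) π) :
    (LinearMap.ker (LinearMap.lsmul B M h)).FG := by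
  haveI : Module.FinitePresentation B (LinearMap.ker π) :=
    Groth.Agent.Lib.helper11.KerFP.fp_ker_of_flat (A := A) π hπ
  let l : M →ₗ[B] LinearMap.ker π :=
    (LinearMap.lsmul B M h).codRestrict (LinearMap.ker π) (fun x => by
      rw [LinearMap.mem_ker]
      exact (hex _).mpr ⟨x, rfl⟩)
  have hl : Function.Surjective l := by
    rintro ⟨y, hy⟩
    obtain ⟨x, hx⟩ := (hex y).mp (LinearMap.mem_ker.mp hy)
    exact ⟨x, Subtype.ext hx⟩
  have hfg := Module.FinitePresentation.fg_ker l hl
  have hker : LinearMap.ker l = LinearMap.ker (LinearMap.lsmul B M h) := by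
    ext x
    simp only [LinearMap.mem_ker, l]
    constructor
    · intro hx
      exact congrArg Subtype.val hx
    · intro hx
      exact Subtype.ext hx
  rwa [hker] at hfg

/-- a finitely generated submodule all of whose elements are killed by elements of a submonoid
of the base ring is killed by a single such element. -/
theorem exists_smul_eq_zero_of_fg {A B : Type u} [CommRing A] [CommRing B] [Algebra A B]
    {M : Type u} [AddCommGroup M] [Module B M] [Module A M] [IsScalarTower A B M]
    (Sg : Submonoid A) (T : Submodule B M) (hT : T.FG)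
    (h : ∀ y ∈ T, ∃ s ∈ Sg, s • y = 0) : ∃ s ∈ Sg, ∀ y ∈ T, s • y = 0 := by
  revert h
  refine Submodule.fg_induction (R := B) (M := M)
    (motive := fun T _ => (∀ y ∈ T, ∃ s ∈ Sg, s • y = 0) → ∃ s ∈ Sg, ∀ y ∈ T, s • y = 0)
    ?_ ?_ T hT
  · intro x hx
    obtain ⟨s, hs, hsx⟩ := hx x (Submodule.mem_span_singleton_self x)
    refine ⟨s, hs, fun y hy => ?_⟩
    obtain ⟨b, rfl⟩ := Submodule.mem_span_singleton.mp hy
    rw [smul_comm, hsx, smul_zero]
  · intro N₁ N₂ _ _ h₁ h₂ h
    obtain ⟨s₁, hs₁, hk₁⟩ := h₁ (fun y hy => h y (Submodule.mem_sup_left hy))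
    obtain ⟨s₂, hs₂, hk₂⟩ := h₂ (fun y hy => h y (Submodule.mem_sup_right hy))
    refine ⟨s₁ * s₂, Sg.mul_mem hs₁ hs₂, fun y hy => ?_⟩
    obtain ⟨y₁, hy₁, y₂, hy₂, rfl⟩ := Submodule.mem_sup.mp hy
    rw [smul_add, mul_smul s₁ s₂ y₂, hk₂ y₂ hy₂, smul_zero, add_zero, mul_comm, mul_smul,
      hk₁ y₁ hy₁, smul_zero]

end Ker

end Groth.Agent.Lib.helper26.PureProj
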