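/-
Helper library (helper26): spreading out fibrewise regularity (towards Raynaud–Gruson
"pure + flat ⇒ projective").
Part 2: if `h ∈ S` is a nonzerodivisor on all fibres of the flat finitely presented module `M`
over the generizations of `𝔭`, then after inverting some `f ∉ 𝔭`, multiplication by `h` on `M` is
universally injective.
-/
import Mathlib
import Groth.Agent.Lib.Helper26.PureProj1
import Groth.Agent.Lib.Helper3.UnivInjGlobal1

set_option autoImplicit false
set_option linter.style.haveILetI false
set_option linter.unusedSectionVars false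

namespace Groth.Agent.Lib.helper26.PureProj

open TensorProduct
open scoped Pointwise

universe u

section Main

variable {R S : Type u} [CommRing R] [CommRing S] [Algebra R S] [Algebra.FinitePresentation R S]
  (M : Type u) [AddCommGroup M] [Module S M] [Module R M] [IsScalarTower R S M]
  [Module.FinitePresentation S M] [Module.Flat R M] (h : S)

/-- local consequences of fibrewise regularity. -/
theorem local_of_fibre_regular (q : Ideal S) [q.IsPrime]
    (hreg : IsSMulRegular (M ⊗[R] (q.comap (algebraMap R S)).ResidueField) h) :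
    IsSMulRegular (LocalizedModule q.primeCompl M) h ∧
      Module.Flat R (LocalizedModule q.primeCompl (M ⧸ (h • (⊤ : Submodule S M)))) := by
  have hflat : Module.Flat R (LocalizedModule q.primeCompl M) :=
    Groth.Agent.Lib.helper3.FpLocal.flat_localizedModule _ _
  have h1' := IsSMulRegular.of_isLocalizedModule (Localization.AtPrime q) q.primeCompl
    (LocalizedModule.mkLinearMap q.primeCompl (M ⊗[R] (q.comap (algebraMap R S)).ResidueField))
    hreg
  have h1 : IsSMulRegular
      (LocalizedModule q.primeCompl (M ⊗[R] (q.comap (algebraMap R S)).ResidueField)) h := by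
    intro u v huv
    apply h1'
    simpa only [algebraMap_smul] using huv
  obtain ⟨h2, h3⟩ := Groth.Agent.Lib.helper3.RegFib.main_weak q M [h] hflat
    ((RingTheory.Sequence.isWeaklyRegular_singleton_iff _ h).2 h1)
  refine ⟨(RingTheory.Sequence.isWeaklyRegular_singleton_iff _ h).1 h2, ?_⟩
  have h4 := h3 1
  have hset : {b | b ∈ [h].take 1} = ({h} : Set S) := by
    ext b
    simp
  rw [hset, Submodule.ideal_span_singleton_smul] at h4
  exact h4

theorem exact_lsmul_mkQ :
    Function.Exact (LinearMap.lsmul S M h) (Submodule.mkQ (h • (⊤ : Submodule S M))) := by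
  intro n
  rw [Submodule.mkQ_apply, Submodule.Quotient.mk_eq_zero]
  constructor
  · intro hn
    obtain ⟨x, -, rfl⟩ := (Submodule.mem_smul_pointwise_iff_exists _ _ _).mp hn
    exact ⟨x, rfl⟩
  · rintro ⟨x, rfl⟩
    exact Submodule.smul_mem_pointwise_smul _ _ _ Submodule.mem_top

theorem map_lsmul_apply' (T : Submonoid S) (x : LocalizedModule T M) :
    IsLocalizedModule.map T (LocalizedModule.mkLinearMap T M)
      (LocalizedModule.mkLinearMap T M) (LinearMap.lsmul S M h) x = h • x := by
  induction x using LocalizedModule.induction_on with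
  | h n t =>
    rw [IsLocalizedModule.map_LocalizedModules, LocalizedModule.smul'_mk]
    rfl

end Main

/-- `f` acts injectively on `M ⊗ Q` when it acts invertibly on `Q`. -/
theorem smul_injective_tensor_of_isUnit {R : Type u} [CommRing R] (M Q : Type u) [AddCommGroup M]
    [Module R M] [AddCommGroup Q] [Module R Q] (f : R)
    (hf : IsUnit (algebraMap R (Module.End R Q) f)) :
    Function.Injective (fun x : M ⊗[R] Q => f • x) := by
  obtain ⟨u, hu⟩ := hf
  have h1 : ∀ x : M ⊗[R] Q, f • x = LinearMap.lTensor M (u : Module.End R Q) x := by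
    intro x
    induction x using TensorProduct.induction_on with
    | zero => simp
    | tmul m q =>
      rw [LinearMap.lTensor_tmul, hu, TensorProduct.smul_tmul', TensorProduct.smul_tmul]
      rfl
    | add a b ha hb => rw [smul_add, map_add, ha, hb]
  have h2 : LinearMap.lTensor M ((u⁻¹ : (Module.End R Q)ˣ) : Module.End R Q) ∘ₗ
      LinearMap.lTensor M (u : Module.End R Q) = LinearMap.id := by
    rw [← LinearMap.lTensor_comp]
    have : ((u⁻¹ : (Module.End R Q)ˣ) : Module.End R Q) ∘ₗ (u : Module.End R Q) = LinearMap.id :=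
      u.inv_mul
    rw [this, LinearMap.lTensor_id]
  intro a b hab
  simp only [h1] at hab
  have := congrArg (LinearMap.lTensor M ((u⁻¹ : (Module.End R Q)ˣ) : Module.End R Q)) hab
  rwa [← LinearMap.comp_apply, ← LinearMap.comp_apply, h2] at this

section Main2

variable {R S : Type u} [CommRing R] [CommRing S] [Algebra R S] [Algebra.FinitePresentation R S]
  (M : Type u) [AddCommGroup M] [Module S M] [Module R M] [IsScalarTower R S M]
  [Module.FinitePresentation S M] [Module.Flat R M] (𝔭 : Ideal R) [𝔭.IsPrime] (h : S)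

open Groth.Agent.Lib.helper3.UnivInjGlobal in
/-- **Spreading out fibrewise regularity.** -/
theorem exists_away_isSMulRegular_tensor
    (hreg : ∀ (t : Ideal R) [t.IsPrime], t ≤ 𝔭 → IsSMulRegular (M ⊗[R] t.ResidueField) h) :
    ∃ f, f ∉ 𝔭 ∧ ∀ (Q : Type u) [AddCommGroup Q] [Module R Q],
      IsUnit (algebraMap R (Module.End R Q) f) → IsSMulRegular (M ⊗[R] Q) h := by
  classical
  set K := M ⧸ (h • (⊤ : Submodule S M)) with hK
  haveI : Module.FinitePresentation S K := by
    refine Module.finitePresentation_of_surjective (Submodule.mkQ (h • ⊤ : Submodule S M))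
      (Submodule.mkQ_surjective _) ?_
    rw [Submodule.ker_mkQ]
    have h' : (h • ⊤ : Submodule S M) = Submodule.map (LinearMap.lsmul S M h) ⊤ := by
      ext x
      simp [Submodule.mem_smul_pointwise_iff_exists]
    rw [h']
    exact Submodule.FG.map _ Module.Finite.fg_top
  have hloc : ∀ (q : Ideal S) [q.IsPrime], q.comap (algebraMap R S) ≤ 𝔭 →
      IsSMulRegular (LocalizedModule q.primeCompl M) h ∧
        Module.Flat R (LocalizedModule q.primeCompl K) :=
    fun q _ hq => local_of_fibre_regular M h q (hreg _ hq)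
  -- Step 2: the flat locus of `K`
  obtain ⟨f₁, hf₁, hflat₁⟩ := exists_notMem_basicOpen_subset 𝔭
    {q : PrimeSpectrum S | Module.Flat R (LocalizedModule q.asIdeal.primeCompl K)}
    (Groth.Agent.S0387.result) (fun q hq => (hloc q.asIdeal hq).2)
  set g₁ := algebraMap R S f₁ with hg₁
  -- killing `h`-torsion elements of `M`
  have hkillM : ∀ x : M, h • x = 0 → ∃ s ∈ 𝔭.primeCompl, s • x = 0 := by
    intro x hx
    obtain ⟨s, hs, hsI⟩ := exists_notMem_algebraMap_mem 𝔭 (Ideal.torsionOf S M x)
      (fun q _ hq hIq => by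
        have hr := (hloc q hq).1
        have h0 : (LocalizedModule.mk x 1 : LocalizedModule q.primeCompl M) = 0 := by
          apply hr
          show h • LocalizedModule.mk x 1 = h • (0 : LocalizedModule q.primeCompl M)
          rw [smul_zero, LocalizedModule.smul'_mk, hx, LocalizedModule.zero_mk]
        obtain ⟨⟨u, hu⟩, hux⟩ := (mk_eq_zero_iff _ _ _).mp h0
        exact hu (hIq ((Ideal.mem_torsionOf_iff x u).mpr hux)))
    refine ⟨s, hs, ?_⟩
    rw [← algebraMap_smul S s x]
    exact (Ideal.mem_torsionOf_iff x _).mp hsI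
  -- Step 3: localize at `g₁`
  have hflatK₁ : Module.Flat R (LocalizedModule (Submonoid.powers g₁) K) :=
    Groth.Agent.Lib.helper3.FlatDesc.flat_localizedModule_powers_of_forall_prime K g₁
      (fun q hq hg => hflat₁ ⟨q, hq⟩ hg)
  haveI := hflatK₁
  let π₁ : LocalizedModule (Submonoid.powers g₁) M →ₗ[Localization (Submonoid.powers g₁)]
      LocalizedModule (Submonoid.powers g₁) K :=
    LocalizedModule.map (Submonoid.powers g₁) (Submodule.mkQ (h • (⊤ : Submodule S M)))
  have hπ₁ : Function.Surjective π₁ :=
    LocalizedModule.map_surjective _ _ (Submodule.mkQ_surjective _)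
  have hex₁ : Function.Exact (LinearMap.lsmul (Localization (Submonoid.powers g₁))
      (LocalizedModule (Submonoid.powers g₁) M)
      (algebraMap S (Localization (Submonoid.powers g₁)) h)) π₁ := by
    have hex' := LocalizedModule.map_exact (Submonoid.powers g₁) _ _ (exact_lsmul_mkQ M h)
    intro x
    have := hex' x
    constructor
    · intro hx
      obtain ⟨w, hw⟩ := this.mp hx
      refine ⟨w, ?_⟩
      rw [← hw, map_lsmul_apply']
      show algebraMap S (Localization (Submonoid.powers g₁)) h • w = h • w
      rw [algebraMap_smul]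
    · rintro ⟨w, hw⟩
      apply this.mpr
      refine ⟨w, ?_⟩
      rw [map_lsmul_apply', ← hw]
      show h • w = algebraMap S (Localization (Submonoid.powers g₁)) h • w
      rw [algebraMap_smul]
  have hT₁fg := fg_ker_lsmul (A := R) π₁ hπ₁
    (algebraMap S (Localization (Submonoid.powers g₁)) h) hex₁
  have hkill₁ : ∀ y ∈ LinearMap.ker (LinearMap.lsmul (Localization (Submonoid.powers g₁))
      (LocalizedModule (Submonoid.powers g₁) M)
      (algebraMap S (Localization (Submonoid.powers g₁)) h)),
      ∃ s ∈ 𝔭.primeCompl, s • y = 0 := by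
    intro y hy
    rw [LinearMap.mem_ker, LinearMap.lsmul_apply, algebraMap_smul] at hy
    induction y using LocalizedModule.induction_on with
    | h x t =>
      rw [LocalizedModule.smul'_mk, mk_eq_zero_iff] at hy
      obtain ⟨⟨u, hu⟩, hux⟩ := hy
      obtain ⟨s, hs, hsx⟩ := hkillM (u • x) (by rw [smul_comm]; exact hux)
      refine ⟨s, hs, ?_⟩
      rw [LocalizedModule.smul'_mk, mk_eq_zero_iff]
      exact ⟨⟨u, hu⟩, by rw [Submonoid.mk_smul, smul_comm]; exact hsx⟩
  obtain ⟨f₂, hf₂, hkill₂⟩ := exists_smul_eq_zero_of_fg (A := R)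
    (B := Localization (Submonoid.powers g₁)) 𝔭.primeCompl _ hT₁fg hkill₁
  -- Step 5
  refine ⟨f₁ * f₂, fun hmem => (Ideal.IsPrime.mem_or_mem ‹_› hmem).elim hf₁ hf₂, ?_⟩
  intro Q _ _ hQ
  set g := algebraMap R S (f₁ * f₂) with hg
  have hgg : g = g₁ * algebraMap R S f₂ := map_mul _ _ _
  have hregMg : IsSMulRegular (LocalizedModule (Submonoid.powers g) M) h := by
    intro a b hab
    rw [← sub_eq_zero]
    have hz : h • (a - b) = 0 := by
      rw [smul_sub]
      exact sub_eq_zero.mpr hab
    generalize a - b = z at hz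
    induction z using LocalizedModule.induction_on with
    | h x t =>
      rw [LocalizedModule.smul'_mk, mk_eq_zero_iff] at hz
      obtain ⟨⟨u, hu⟩, hux⟩ := hz
      have hx' : h • (u • x) = 0 := by
        rw [smul_comm]
        exact hux
      have hy : (LocalizedModule.mk (u • x) 1 : LocalizedModule (Submonoid.powers g₁) M) ∈
          LinearMap.ker (LinearMap.lsmul (Localization (Submonoid.powers g₁))
            (LocalizedModule (Submonoid.powers g₁) M)
            (algebraMap S (Localization (Submonoid.powers g₁)) h)) := by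
        rw [LinearMap.mem_ker, LinearMap.lsmul_apply, algebraMap_smul, LocalizedModule.smul'_mk,
          hx', LocalizedModule.zero_mk]
      have h0 := hkill₂ _ hy
      rw [LocalizedModule.smul'_mk, mk_eq_zero_iff] at h0
      obtain ⟨⟨v, ⟨i, rfl⟩⟩, hvx⟩ := h0
      rw [mk_eq_zero_iff]
      refine ⟨⟨g ^ (i + 1) * u, mul_mem (pow_mem (Submonoid.mem_powers g) _) hu⟩, ?_⟩
      have hvx' : g₁ ^ i • f₂ • u • x = 0 := hvx
      have : (g ^ (i + 1) * u) • x =
          (g₁ * (algebraMap R S f₂) ^ i) • (g₁ ^ i • f₂ • u • x) := by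
        rw [hgg, ← algebraMap_smul S f₂ (u • x)]
        simp only [smul_smul]
        congr 1
        ring
      rw [Submonoid.mk_smul, this, hvx', smul_zero]
  have hflatKg : Module.Flat R (LocalizedModule (Submonoid.powers g) K) :=
    Groth.Agent.Lib.helper3.FlatDesc.flat_localizedModule_powers_of_forall_prime K g
      (fun q hq hgq => hflat₁ ⟨q, hq⟩ (fun hg₁q => hgq (hgg ▸ Ideal.mul_mem_right _ _ hg₁q)))
  haveI := hflatKg
  let f₀ : LocalizedModule (Submonoid.powers g) M →ₗ[R] LocalizedModule (Submonoid.powers g) M :=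
    (LinearMap.lsmul S (LocalizedModule (Submonoid.powers g) M) h).restrictScalars R
  let g₀ : LocalizedModule (Submonoid.powers g) M →ₗ[R] LocalizedModule (Submonoid.powers g) K :=
    (IsLocalizedModule.map (Submonoid.powers g) (LocalizedModule.mkLinearMap (Submonoid.powers g) M)
      (LocalizedModule.mkLinearMap (Submonoid.powers g) K)
      (Submodule.mkQ (h • (⊤ : Submodule S M)))).restrictScalars R
  have hfg : Function.Exact f₀ g₀ := by
    have hex' := LocalizedModule.map_exact (Submonoid.powers g) _ _ (exact_lsmul_mkQ M h)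
    intro x
    have := hex' x
    constructor
    · intro hx
      obtain ⟨w, hw⟩ := this.mp hx
      exact ⟨w, by rw [← hw, map_lsmul_apply']; rfl⟩
    · rintro ⟨w, hw⟩
      apply this.mpr
      exact ⟨w, by rw [map_lsmul_apply']; exact hw⟩
  have hg₀ : Function.Surjective g₀ :=
    IsLocalizedModule.map_surjective (Submonoid.powers g) _ _ _ (Submodule.mkQ_surjective _)
  have hinj := Groth.Agent.Lib.helper25.rTensor_injective_of_flat_coker f₀ g₀ hfg hg₀ hregMg Q
  have key : ∀ w : LocalizedModule (Submonoid.powers g) M ⊗[R] Q, f₀.rTensor Q w = h • w := by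
    intro w
    induction w using TensorProduct.induction_on with
    | zero => simp
    | tmul n q => rfl
    | add a b ha hb => rw [map_add, smul_add, ha, hb]
  intro a b hab
  rw [← sub_eq_zero]
  have hz : h • (a - b) = 0 := by
    rw [smul_sub]
    exact sub_eq_zero.mpr hab
  generalize a - b = x at hz
  set ι := AlgebraTensorModule.rTensor R Q
    (LocalizedModule.mkLinearMap (Submonoid.powers g) M) with hι
  have h1 : ι x = 0 := by
    apply hinj
    rw [map_zero, key (ι x), ← map_smul, hz, map_zero]
  obtain ⟨⟨v, ⟨n, rfl⟩⟩, hvx⟩ := (IsLocalizedModule.eq_zero_iff (Submonoid.powers g) ι).mp h1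
  have hvx' : g ^ n • x = 0 := hvx
  have h2 : (f₁ * f₂) ^ n • x = 0 := by
    rw [← algebraMap_smul S ((f₁ * f₂) ^ n) x, map_pow]
    exact hvx'
  have hunit : IsUnit (algebraMap R (Module.End R Q) ((f₁ * f₂) ^ n)) := by
    rw [map_pow]
    exact hQ.pow n
  apply smul_injective_tensor_of_isUnit M Q _ hunit
  show (f₁ * f₂) ^ n • x = (f₁ * f₂) ^ n • 0
  rw [h2, smul_zero]

end Main2

end Groth.Agent.Lib.helper26.PureProj
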