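/-
Helper library (helper26): towards Raynaud–Gruson "pure + flat ⇒ projective".
Part 3: injectivity of `X → W ⊗ X` for flat `W` whose image contains `D(h)`, `h` regular on `X`;
Mittag-Leffler for base changes; projectivity after inverting `f`.
-/
import Mathlib
import Groth.Prelude.Def_Found
import Groth.Agent.Lib.Helper26.PureProj2
import Groth.Agent.Lib.Helper6.MLProj
import Groth.Agent.Lib.Helper6.MLDescent
import Groth.Agent.Lib.Helper3.CgProj1

set_option autoImplicit false
set_option linter.style.haveILetI false
set_option linter.unusedSectionVars false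

namespace Groth.Agent.Lib.helper26.PureProj

open TensorProduct
open scoped Pointwise

universe u

section LemmaF

variable {S W : Type u} [CommRing S] [CommRing W] [Algebra S W] [Module.Flat S W]

/-- If `W` is flat over `S`, the image of `Spec W` contains `D(h)` and `h` is a nonzerodivisor on
the `S`-module `X`, then `X → W ⊗ X` is injective. -/
theorem mk_one_injective_of_regular (h : S)
    (hcov : ∀ (q : Ideal S) [q.IsPrime], h ∉ q →
      ∃ q' : Ideal W, q'.IsPrime ∧ q'.comap (algebraMap S W) = q)
    (X : Type u) [AddCommGroup X] [Module S X] (hreg : IsSMulRegular X h) :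
    Function.Injective (TensorProduct.mk S W X 1) := by
  rw [injective_iff_map_eq_zero]
  intro x hx
  set I := Ideal.torsionOf S X x with hI
  let j : (S ⧸ I) →ₗ[S] X :=
    Submodule.liftQ I (LinearMap.toSpanSingleton S X x) (le_of_eq rfl)
  have hj : Function.Injective j := by
    rw [← LinearMap.ker_eq_bot]
    exact Submodule.ker_liftQ_eq_bot _ _ _ (le_of_eq rfl)
  have hjW := Module.Flat.lTensor_preserves_injective_linearMap (M := W) j hj
  have h1 : (1 : W) ⊗ₜ[S] (Ideal.Quotient.mk I (1 : S)) = 0 := by
    apply hjW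
    rw [map_zero, LinearMap.lTensor_tmul]
    have : j (Ideal.Quotient.mk I (1 : S)) = x := by
      show (LinearMap.toSpanSingleton S X x) 1 = x
      rw [LinearMap.toSpanSingleton_apply, one_smul]
    rw [this]
    exact hx
  have h2 := congrArg (tensorQuotEquivQuotSMul W I) h1
  rw [tensorQuotEquivQuotSMul_tmul_mk, map_zero, one_smul, Submodule.Quotient.mk_eq_zero,
    Ideal.smul_top_eq_map] at h2
  have htop : I.map (algebraMap S W) = ⊤ := (Ideal.eq_top_iff_one _).mpr h2
  have hrad : h ∈ I.radical := by
    by_contra hnot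
    rw [Ideal.radical_eq_sInf, Ideal.mem_sInf] at hnot
    push Not at hnot
    obtain ⟨J, ⟨hIJ, hJ⟩, hhJ⟩ := hnot
    obtain ⟨q', hq', hq'J⟩ := hcov J hhJ
    have hle : I.map (algebraMap S W) ≤ q' := by
      rw [Ideal.map_le_iff_le_comap, hq'J]
      exact hIJ
    exact hq'.ne_top (top_le_iff.mp (htop ▸ hle))
  obtain ⟨k, hk⟩ := hrad
  have hk' : h ^ k • x = 0 := (Ideal.mem_torsionOf_iff x _).mp hk
  apply hreg.pow k
  show h ^ k • x = h ^ k • 0
  rw [hk', smul_zero]

end LemmaF

section C5

variable {R S W : Type u} [CommRing R] [CommRing S] [CommRing W] [Algebra R S] [Algebra S W]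
  [Algebra R W] [IsScalarTower R S W] [Module.Flat S W]
  (M : Type u) [AddCommGroup M] [Module S M] [Module R M] [IsScalarTower R S M]

theorem rTensor_mk_injective_of_regular (h : S)
    (hcov : ∀ (q : Ideal S) [q.IsPrime], h ∉ q →
      ∃ q' : Ideal W, q'.IsPrime ∧ q'.comap (algebraMap S W) = q)
    (Q : Type u) [AddCommGroup Q] [Module R Q] (hreg : IsSMulRegular (M ⊗[R] Q) h) :
    Function.Injective (((TensorProduct.mk S W M 1).restrictScalars R).rTensor Q) := by
  have hF := mk_one_injective_of_regular (W := W) h hcov (M ⊗[R] Q) hreg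
  let e : (W ⊗[S] M) ⊗[R] Q ≃ₗ[W] W ⊗[S] (M ⊗[R] Q) := AlgebraTensorModule.assoc R S W W M Q
  have key : ∀ y : M ⊗[R] Q, e (((TensorProduct.mk S W M 1).restrictScalars R).rTensor Q y) =
      TensorProduct.mk S W (M ⊗[R] Q) 1 y := by
    intro y
    induction y using TensorProduct.induction_on with
    | zero => simp
    | tmul m q => rfl
    | add a b ha hb => rw [map_add, map_add, map_add, ha, hb]
  intro a b hab
  apply hF
  rw [← key, ← key, hab]

end C5

section MLup

variable (R S : Type u) [CommRing R] [CommRing S] [Algebra R S]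
  (M : Type u) [AddCommGroup M] [Module R M]

open Groth.Agent.Lib.helper6.MLDom in
/-- If `M ⊗ ∏ Qᵢ → ∏ M ⊗ Qᵢ` is injective for all families of `S`-modules, then `S ⊗ M` is
Mittag-Leffler over `S`. -/
theorem isMittagLeffler_baseChange_of_piRightHom_injective
    (H : ∀ (κ : Type u) (Q : κ → Type u) [∀ i, AddCommGroup (Q i)] [∀ i, Module R (Q i)]
      [∀ i, Module S (Q i)] [∀ i, IsScalarTower R S (Q i)],
      Function.Injective (TensorProduct.piRightHom R R M Q)) :
    CAlg.IsMittagLeffler S (S ⊗[R] M) := by
  intro κ Q _ _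
  letI : ∀ i, Module R (Q i) := fun i => Module.compHom (Q i) (algebraMap R S)
  haveI : ∀ i, IsScalarTower R S (Q i) := fun i =>
    IsScalarTower.of_algebraMap_smul fun r x => rfl
  have sq : ∀ (x : M ⊗[R] (∀ i, Q i)) (α : κ),
      TensorProduct.piRightHom S S (S ⊗[R] M) Q (θ R S M (∀ i, Q i) x) α =
        θ R S M (Q α) (TensorProduct.piRightHom R R M Q x α) := by
    intro x α
    induction x using TensorProduct.induction_on with
    | zero => simp only [map_zero, Pi.zero_apply]
    | tmul m q =>
      rw [θ_tmul, TensorProduct.piRightHom_tmul, TensorProduct.piRightHom_tmul, θ_tmul]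
    | add a b ha hb => simp only [map_add, Pi.add_apply, ha, hb]
  rw [injective_iff_map_eq_zero]
  intro x' hx'
  obtain ⟨x, rfl⟩ := (θ R S M (∀ i, Q i)).surjective x'
  have h1 : TensorProduct.piRightHom R R M Q x = 0 := by
    funext α
    apply (θ R S M (Q α)).injective
    rw [← sq x α, hx', Pi.zero_apply, Pi.zero_apply, map_zero]
  have hx0 : x = 0 := H κ Q (by rw [h1, map_zero])
  rw [hx0, map_zero]

end MLup

section Cg

theorem isCountablyGenerated_baseChange (R S : Type u) [CommRing R] [CommRing S] [Algebra R S]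
    (M : Type u) [AddCommGroup M] [Module R M] (h : CAlg.IsCountablyGenerated R M) :
    CAlg.IsCountablyGenerated S (S ⊗[R] M) := by
  obtain ⟨s, hs, hs'⟩ := h
  refine ⟨(fun m => (1 : S) ⊗ₜ[R] m) '' s, hs.image _, ?_⟩
  rw [eq_top_iff]
  rintro z -
  induction z using TensorProduct.induction_on with
  | zero => exact Submodule.zero_mem _
  | add x y hx hy => exact Submodule.add_mem _ hx hy
  | tmul a m =>
    have hm : m ∈ Submodule.span R s := by
      rw [hs']
      exact Submodule.mem_top
    rw [show a ⊗ₜ[R] m = a • ((1 : S) ⊗ₜ[R] m) by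
      rw [TensorProduct.smul_tmul', smul_eq_mul, mul_one]]
    apply Submodule.smul_mem
    induction hm using Submodule.span_induction with
    | mem x hx => exact Submodule.subset_span ⟨x, hx, rfl⟩
    | zero => rw [TensorProduct.tmul_zero]; exact Submodule.zero_mem _
    | add x y _ _ hx hy => rw [TensorProduct.tmul_add]; exact Submodule.add_mem _ hx hy
    | smul r x _ hx =>
      rw [TensorProduct.tmul_smul]
      exact Submodule.smul_of_tower_mem _ r hx

end Cg

section Unit

theorem isUnit_algebraMap_end_of_away {R : Type u} [CommRing R] (f : R) (R₁ : Type u)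
    [CommRing R₁] [Algebra R R₁] [IsLocalization.Away f R₁] (Q : Type u) [AddCommGroup Q]
    [Module R Q] [Module R₁ Q] [IsScalarTower R R₁ Q] :
    IsUnit (algebraMap R (Module.End R Q) f) := by
  rw [Module.End.isUnit_iff]
  have h1 : ∀ x : Q, (IsLocalization.Away.invSelf (S := R₁) f) • f • x = x := by
    intro x
    rw [← algebraMap_smul R₁ f x, smul_smul, mul_comm, IsLocalization.Away.mul_invSelf, one_smul]
  constructor
  · intro a b hab
    have hab' : f • a = f • b := hab
    rw [← h1 a, hab', h1 b]
  · intro x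
    refine ⟨(IsLocalization.Away.invSelf (S := R₁) f) • x, ?_⟩
    show f • (IsLocalization.Away.invSelf (S := R₁) f) • x = x
    rw [smul_comm, h1]

end Unit

end Groth.Agent.Lib.helper26.PureProj
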