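/-
Helper library (helper26): specialization of relative associated points at points of flatness
(Raynaud–Gruson).
-/
import Mathlib
import Groth.Prelude.Def_FlatCA
import Groth.Agent.Lib.Helper26.FtReg4
import Groth.Agent.Lib.Helper26.Purity20

set_option autoImplicit false
set_option linter.style.haveILetI false
set_option linter.unusedSectionVars false

namespace Groth.Agent.Lib.helper26.RelAss

open TensorProduct IsLocalRing FlatCA Groth.Agent.Lib.helper3.UnivInjGlobal
  Groth.Agent.Lib.helper26.FtReg Groth.Agent.Lib.helper26.Purity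
open scoped Pointwise

universe u

attribute [local instance] Algebra.TensorProduct.rightAlgebra

variable {A B : Type u} [CommRing A] [CommRing B] [Algebra A B] [Algebra.FiniteType A B]
  (N : Type u) [AddCommGroup N] [Module B N] [Module A N] [IsScalarTower A B N] [Module.Finite B N]

/-- an ideal not contained in any associated point of the fibre (below `t`) contains an element
regular on the localized fibre module. -/
theorem exists_mem_isSMulRegular (t : Ideal B) [t.IsPrime] (q' : Ideal B) [q'.IsPrime]
    (hno : ¬ ∃ (q : Ideal B) (_ : q.IsPrime), q' ≤ q ∧ q ≤ t ∧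
      q.LiesOver (t.comap (algebraMap A B)) ∧
      fiberIdeal (t.comap (algebraMap A B)) q ∈
        associatedPrimes ((t.comap (algebraMap A B)).Fiber B)
          (fiberMod (t.comap (algebraMap A B)) B N)) :
    ∃ h ∈ q', h ∈ Sg (R := A) N t := by
  classical
  set p := t.comap (algebraMap A B) with hp
  haveI : p.IsPrime := Ideal.comap_isPrime _ _
  haveI : IsNoetherianRing (p.Fiber B) :=
    Algebra.FiniteType.isNoetherianRing p.ResidueField (p.Fiber B)
  haveI : Module.Finite (p.Fiber B) (fiberMod p B N) :=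
    inferInstanceAs (Module.Finite (p.Fiber B) ((p.Fiber B) ⊗[B] N))
  haveI : IsScalarTower B (p.Fiber B) (fiberMod p B N) :=
    inferInstanceAs (IsScalarTower B (p.Fiber B) ((p.Fiber B) ⊗[B] N))
  have hfin : (associatedPrimes (p.Fiber B) (fiberMod p B N)).Finite :=
    associatedPrimes.finite _ _
  let f : Ideal (p.Fiber B) → Ideal B := fun P => P.comap (algebraMap B (p.Fiber B))
  let PP : Finset (Ideal (p.Fiber B)) := hfin.toFinset.filter (fun P => f P ≤ t)
  have hnsub : ¬ (q' : Set B) ⊆ ⋃ P ∈ (PP : Set (Ideal (p.Fiber B))), (f P : Set B) := by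
    intro hsub
    have hprime : ∀ P ∈ PP, P ≠ (⊥ : Ideal (p.Fiber B)) → P ≠ ⊥ → (f P).IsPrime := by
      intro P hP _ _
      simp only [PP, Finset.mem_filter, Set.Finite.mem_toFinset] at hP
      haveI : P.IsPrime := hP.1.isPrime
      exact Ideal.comap_isPrime _ _
    obtain ⟨P, hPmem, hle⟩ := (Ideal.subset_union_prime ⊥ ⊥ hprime).mp hsub
    simp only [PP, Finset.mem_filter, Set.Finite.mem_toFinset] at hPmem
    obtain ⟨hPass, hc⟩ := hPmem
    haveI hPp : P.IsPrime := hPass.isPrime
    set q₀ := P.comap (algebraMap B (p.Fiber B)) with hq₀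
    haveI : q₀.IsPrime := Ideal.comap_isPrime _ _
    have hlo : q₀.LiesOver p := comap_liesOver p P
    have hfib : fiberIdeal p q₀ = P := fiberIdeal_comap p P
    exact hno ⟨q₀, inferInstance, hle, hc, hlo, by rw [hfib]; exact hPass⟩
  obtain ⟨h, hhq, hhn⟩ := Set.not_subset.mp hnsub
  refine ⟨h, hhq, ?_⟩
  apply isSMulRegular_of_fiberMod_ft N t h
  by_contra hnr
  obtain ⟨P, hP, hsP, hPq⟩ := exists_associatedPrime_of_not_isSMulRegular (Fb := p.Fiber B) t
    (fiberMod p B N) h hnr
  apply hhn
  simp only [Set.mem_iUnion]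
  refine ⟨P, ?_, hsP⟩
  simp only [PP, Finset.coe_filter, Set.mem_ofPred_eq, Set.Finite.mem_toFinset]
  exact ⟨hP, hPq⟩

/-- **Specialization of relative associated points at a point of flatness.** If `N` is flat over
`A` at the prime `t` of `B`, then every relative associated point `q' ⊆ t` (over any prime of `A`)
is contained in a relative associated point `q ⊆ t` lying over the same prime of `A` as `t`. -/
theorem exists_ass_specialization (p : Ideal A) [p.IsPrime] (t : Ideal B) [t.IsPrime]
    [ht : t.LiesOver p] (hflat : FlatAt A t N)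
    (p' : Ideal A) [p'.IsPrime] (q' : Ideal B) [q'.IsPrime] [q'.LiesOver p'] (hq't : q' ≤ t)
    (hass : fiberIdeal p' q' ∈ associatedPrimes (p'.Fiber B) (fiberMod p' B N)) :
    ∃ (q : Ideal B) (_ : q.IsPrime), q' ≤ q ∧ q ≤ t ∧ q.LiesOver p ∧
      fiberIdeal p q ∈ associatedPrimes (p.Fiber B) (fiberMod p B N) := by
  obtain rfl : p = t.comap (algebraMap A B) := ht.over
  by_contra hno
  obtain ⟨h, hhq, hhS⟩ := exists_mem_isSMulRegular N t q' hno
  haveI : IsNoetherianRing (p'.Fiber B) :=
    Algebra.FiniteType.isNoetherianRing p'.ResidueField (p'.Fiber B)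
  obtain ⟨n, hn⟩ := exists_elt_ann_of_fiberIdeal_mem_associatedPrimes N p' q' hass
  -- the element of `N_t ⊗ κ(p')`
  set g := AlgebraTensorModule.rTensor A p'.ResidueField
    (LocalizedModule.mkLinearMap t.primeCompl N) with hg
  set z : LocalizedModule t.primeCompl N ⊗[A] p'.ResidueField :=
    g (n ⊗ₜ[A] (1 : p'.ResidueField)) with hz
  have hhz : h • z = 0 := by
    rw [hz, ← map_smul, TensorProduct.smul_tmul', (hn h).mp hhq, map_zero]
  have hz0 : z = 0 :=
    smul_eq_zero_localized_tensor_ft N t hflat h ((mem_Sg N t h).mp hhS) p'.ResidueField z hhz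
  obtain ⟨⟨s, hs⟩, hsn⟩ := (IsLocalizedModule.eq_zero_iff t.primeCompl g).mp hz0
  have hsn' : (s • n) ⊗ₜ[A] (1 : p'.ResidueField) = 0 := by
    rw [← TensorProduct.smul_tmul']
    exact hsn
  exact hs (hq't ((hn s).mpr hsn'))

end Groth.Agent.Lib.helper26.RelAss
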