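/-
Helper library (helper26): towards Raynaud–Gruson "pure + flat ⇒ projective".
Part 4: projectivity after inverting `f`, and the choice of `h` from purity.
-/
import Mathlib
import Groth.Prelude.Def_FlatCA
import Groth.Agent.Lib.Helper26.PureProj3
import Groth.Agent.Lib.Helper26.RelAss1
import Groth.Agent.Lib.Helper26.Purity4
import Groth.Agent.Lib.Helper28.MittagLeffler

set_option autoImplicit false
set_option linter.style.haveILetI false
set_option linter.unusedSectionVars false

namespace Groth.Agent.Lib.helper26.PureProj

open TensorProduct FlatCA
open scoped Pointwise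

universe u

section C7

variable {R S W : Type u} [CommRing R] [CommRing S] [CommRing W] [Algebra R S] [Algebra S W]
  [Algebra R W] [IsScalarTower R S W] [Algebra.FiniteType R S] [Module.Flat S W]
  (M : Type u) [AddCommGroup M] [Module S M] [Module R M] [IsScalarTower R S M]
  [Module.Finite S M] [Module.Flat R M]

open Groth.Agent.Lib.helper6.MLDom in
/-- If `W ⊗ M` is projective over `R`, the image of `Spec W` contains `D(h)` and `h` is regular on
`M ⊗ Q` for all `R_f`-modules `Q`, then `R_f ⊗ M` is projective over `R_f`. -/
theorem projective_away_of_regular [Module.Projective R (W ⊗[S] M)] (h : S)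
    (hcov : ∀ (q : Ideal S) [q.IsPrime], h ∉ q →
      ∃ q' : Ideal W, q'.IsPrime ∧ q'.comap (algebraMap S W) = q)
    (f : R)
    (hf : ∀ (Q : Type u) [AddCommGroup Q] [Module R Q],
      IsUnit (algebraMap R (Module.End R Q) f) → IsSMulRegular (M ⊗[R] Q) h) :
    Module.Projective (Localization.Away f) (Localization.Away f ⊗[R] M) := by
  have hc : CAlg.IsCountablyGenerated (Localization.Away f) (Localization.Away f ⊗[R] M) :=
    isCountablyGenerated_baseChange R _ M
      (Groth.Agent.Lib.helper3.CgProj.isCountablyGenerated_of_finite_of_finiteType
        (R := R) (S := S) M)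
  have hML : CAlg.IsMittagLeffler (Localization.Away f) (Localization.Away f ⊗[R] M) := by
    apply isMittagLeffler_baseChange_of_piRightHom_injective
    intro κ Q _ _ _ _
    have hP := ml_of_projective R (W ⊗[S] M)
    rw [injective_iff_map_eq_zero]
    intro x hx
    set i := (TensorProduct.mk S W M 1).restrictScalars R with hi
    have h1 := Groth.Agent.Lib.helper28.piRightHom_rTensor i Q x
    rw [hx] at h1
    have h2 : i.rTensor (∀ a, Q a) x = 0 := by
      apply hP κ Q
      rw [h1, map_zero]
      funext a
      rw [Pi.zero_apply, map_zero, Pi.zero_apply]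
    have hunit : IsUnit (algebraMap R (Module.End R (∀ a, Q a)) f) :=
      isUnit_algebraMap_end_of_away f (Localization.Away f) (∀ a, Q a)
    exact rTensor_mk_injective_of_regular M h hcov (∀ a, Q a) (hf _ hunit)
      (by rw [h2, map_zero])
  exact projective_of_flat_ml_countable _ _ hML hc

end C7

end Groth.Agent.Lib.helper26.PureProj
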