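/-
Helper library (helper26): towards Raynaud–Gruson "pure + flat ⇒ projective".
Part 5: purity along `𝔭` and a flat finitely presented cover of the fibre over `𝔭` give an element
`h` with `D(h)` inside the image of the cover which is regular on all fibres over generizations
of `𝔭`.
-/
import Mathlib
import Groth.Prelude.Def_FlatCA
import Groth.Agent.Lib.Helper26.PureProj4

set_option autoImplicit false
set_option linter.style.haveILetI false
set_option linter.unusedSectionVars false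

namespace Groth.Agent.Lib.helper26.PureProj

open TensorProduct FlatCA Groth.Agent.Lib.helper3.UnivInjGlobal
open scoped Pointwise

universe u

section C12

attribute [local instance] Algebra.TensorProduct.rightAlgebra

variable {R S W : Type u} [CommRing R] [CommRing S] [CommRing W] [Algebra R S] [Algebra S W]
  [Algebra.FiniteType R S] [Module.Flat S W] [Algebra.FinitePresentation S W]
  (M : Type u) [AddCommGroup M] [Module S M] [Module R M] [IsScalarTower R S M]
  [Module.Finite S M] [Module.Flat R M] (𝔭 : Ideal R) [𝔭.IsPrime]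

theorem exists_regular_of_pure
    (hfib : ∀ (q : Ideal S) [q.IsPrime], q.LiesOver 𝔭 →
      ∃ q' : Ideal W, q'.IsPrime ∧ q'.comap (algebraMap S W) = q)
    (hpure : IsPureAlong R S M 𝔭) :
    ∃ h : S, (∀ (q : Ideal S) [q.IsPrime], h ∉ q →
        ∃ q' : Ideal W, q'.IsPrime ∧ q'.comap (algebraMap S W) = q) ∧
      ∀ (t : Ideal R) [t.IsPrime], t ≤ 𝔭 → IsSMulRegular (M ⊗[R] t.ResidueField) h := by
  classical
  have hopen : IsOpenMap (PrimeSpectrum.comap (algebraMap S W)) :=
    PrimeSpectrum.isOpenMap_comap_of_hasGoingDown_of_finitePresentation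
  set U := Set.range (PrimeSpectrum.comap (algebraMap S W)) with hU
  have hUo : IsOpen U := hopen.isOpen_range
  set J := PrimeSpectrum.vanishingIdeal Uᶜ with hJ
  have hz : PrimeSpectrum.zeroLocus (J : Set S) = Uᶜ := by
    rw [hJ, PrimeSpectrum.zeroLocus_vanishingIdeal_eq_closure, hUo.isClosed_compl.closure_eq]
  have hUmem : ∀ (q : Ideal S) [hq : q.IsPrime], ¬ J ≤ q →
      ∃ q' : Ideal W, q'.IsPrime ∧ q'.comap (algebraMap S W) = q := by
    intro q hq hJq
    have hqU : (⟨q, hq⟩ : PrimeSpectrum S) ∈ U := by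
      by_contra hn
      have hmem : (⟨q, hq⟩ : PrimeSpectrum S) ∈ PrimeSpectrum.zeroLocus (J : Set S) := by
        rw [hz]
        exact hn
      exact hJq hmem
    obtain ⟨q', hq'⟩ := hqU
    exact ⟨q'.asIdeal, q'.isPrime, congrArg PrimeSpectrum.asIdeal hq'⟩
  have hnotle : ∀ (q : Ideal S) [q.IsPrime], q.LiesOver 𝔭 → ¬ J ≤ q := by
    intro q hq hqp hJq
    obtain ⟨q', hq', hq'q⟩ := hfib q hqp
    have hmem : (⟨q, hq⟩ : PrimeSpectrum S) ∈ PrimeSpectrum.zeroLocus (J : Set S) := hJq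
    rw [hz] at hmem
    exact hmem ⟨⟨q', hq'⟩, PrimeSpectrum.ext hq'q⟩
  -- the fibre over `𝔭`
  haveI : IsNoetherianRing (𝔭.Fiber S) :=
    Algebra.FiniteType.isNoetherianRing 𝔭.ResidueField (𝔭.Fiber S)
  haveI : Module.Finite (𝔭.Fiber S) (fiberMod 𝔭 S M) :=
    inferInstanceAs (Module.Finite (𝔭.Fiber S) ((𝔭.Fiber S) ⊗[S] M))
  have hfin : (associatedPrimes (𝔭.Fiber S) (fiberMod 𝔭 S M)).Finite :=
    associatedPrimes.finite _ _
  let fc : Ideal (𝔭.Fiber S) → Ideal S := fun P => P.comap (algebraMap S (𝔭.Fiber S))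
  have hnsub : ¬ (J : Set S) ⊆
      ⋃ P ∈ (hfin.toFinset : Set (Ideal (𝔭.Fiber S))), (fc P : Set S) := by
    intro hsub
    have hprime : ∀ P ∈ hfin.toFinset, P ≠ (⊥ : Ideal (𝔭.Fiber S)) → P ≠ ⊥ →
        (fc P).IsPrime := by
      intro P hP _ _
      haveI : P.IsPrime := (hfin.mem_toFinset.mp hP).isPrime
      exact Ideal.comap_isPrime _ _
    obtain ⟨P, hPmem, hle⟩ := (Ideal.subset_union_prime ⊥ ⊥ hprime).mp hsub
    haveI : P.IsPrime := (hfin.mem_toFinset.mp hPmem).isPrime
    haveI : (fc P).IsPrime := Ideal.comap_isPrime _ _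
    exact hnotle (fc P) (comap_liesOver 𝔭 P) hle
  obtain ⟨h, hhJ, hhn⟩ := Set.not_subset.mp hnsub
  refine ⟨h, fun q hq hhq => hUmem q (fun hJq => hhq (hJq hhJ)), ?_⟩
  intro t ht htp
  by_contra hnr
  haveI : IsNoetherianRing (t.Fiber S) :=
    Algebra.FiniteType.isNoetherianRing t.ResidueField (t.Fiber S)
  haveI : IsScalarTower S (t.Fiber S) (fiberMod t S M) :=
    inferInstanceAs (IsScalarTower S (t.Fiber S) ((t.Fiber S) ⊗[S] M))
  have hnr' : ¬ IsSMulRegular (fiberMod t S M) (algebraMap S (t.Fiber S) h) := by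
    intro hr
    apply hnr
    intro a b hab
    apply (e0 (R := R) (S := S) t.ResidueField M).symm.injective
    apply hr
    show algebraMap S (t.Fiber S) h • (e0 (R := R) (S := S) t.ResidueField M).symm a =
      algebraMap S (t.Fiber S) h • (e0 (R := R) (S := S) t.ResidueField M).symm b
    rw [algebraMap_smul, algebraMap_smul, ← map_smul, ← map_smul]
    exact congrArg _ hab
  have hmem : algebraMap S (t.Fiber S) h ∈
      ({r | IsSMulRegular (fiberMod t S M) r}ᶜ : Set (t.Fiber S)) := hnr'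
  rw [← biUnion_associatedPrimes_eq_compl_regular (t.Fiber S) (fiberMod t S M)] at hmem
  simp only [Set.mem_iUnion] at hmem
  obtain ⟨P, hP, hhP⟩ := hmem
  haveI : P.IsPrime := hP.isPrime
  set Q := P.comap (algebraMap S (t.Fiber S)) with hQ
  haveI : Q.IsPrime := Ideal.comap_isPrime _ _
  haveI hQt : Q.LiesOver t := comap_liesOver t P
  have hfibQ : fiberIdeal t Q = P := fiberIdeal_comap t P
  have hass : fiberIdeal t Q ∈ associatedPrimes (t.Fiber S) (fiberMod t S M) := by
    rw [hfibQ]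
    exact hP
  have h1 : ¬ IsImpurity R S M 𝔭 R S M LinearMap.id t 𝔭 Q :=
    hpure R S M LinearMap.id t 𝔭 Q (Groth.Agent.Lib.helper26.Purity.isEtaleNhd_self R 𝔭)
  have h2 : ∃ Q₁ : Ideal S, Q₁.IsPrime ∧ Q ≤ Q₁ ∧ Q₁.LiesOver 𝔭 := by
    by_contra hno
    push Not at hno
    exact h1 ⟨inferInstance, IsBaseChange.of_equiv (TensorProduct.lid S M) (fun x => by simp),
      htp, ⟨(Ideal.comap_id 𝔭).symm⟩, hQt, hass, fun P' hP' hQP' hP'p => hno P' hP' hQP' hP'p⟩
  obtain ⟨Q₁, hQ₁, hQQ₁, hQ₁p⟩ := h2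
  have hfl : FlatAt R Q₁ M := Groth.Agent.Lib.helper3.FpLocal.flat_localizedModule _ _
  obtain ⟨Q₂, hQ₂, hQQ₂, hQ₂Q₁, hQ₂p, hass₂⟩ :=
    Groth.Agent.Lib.helper26.RelAss.exists_ass_specialization M 𝔭 Q₁ hfl t Q hQQ₁ hass
  apply hhn
  simp only [Set.mem_iUnion]
  refine ⟨fiberIdeal 𝔭 Q₂, hfin.mem_toFinset.mpr hass₂, ?_⟩
  have hhQ : h ∈ Q := hhP
  exact Ideal.mem_map_of_mem _ (hQQ₂ hhQ)

end C12

section C

variable {R S W : Type u} [CommRing R] [CommRing S] [CommRing W] [Algebra R S] [Algebra S W]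
  [Algebra R W] [IsScalarTower R S W]
  [Algebra.FinitePresentation R S] [Module.Flat S W] [Algebra.FinitePresentation S W]
  (M : Type u) [AddCommGroup M] [Module S M] [Module R M] [IsScalarTower R S M]
  [Module.FinitePresentation S M] [Module.Flat R M] (𝔭 : Ideal R) [𝔭.IsPrime]

/-- **Local projectivity from purity and a projective cover of the fibre.** -/
theorem exists_away_projective_of_pure [Module.Projective R (W ⊗[S] M)]
    (hfib : ∀ (q : Ideal S) [q.IsPrime], q.LiesOver 𝔭 →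
      ∃ q' : Ideal W, q'.IsPrime ∧ q'.comap (algebraMap S W) = q)
    (hpure : IsPureAlong R S M 𝔭) :
    ∃ f, f ∉ 𝔭 ∧ Module.Projective (Localization.Away f) (Localization.Away f ⊗[R] M) := by
  obtain ⟨h, hcov, hreg⟩ := exists_regular_of_pure (W := W) M 𝔭 hfib hpure
  obtain ⟨f, hf, hfQ⟩ := exists_away_isSMulRegular_tensor M 𝔭 h hreg
  exact ⟨f, hf, projective_away_of_regular (W := W) M h hcov f hfQ⟩

end C

end Groth.Agent.Lib.helper26.PureProj
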