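/-
Helper library (helper26): towards Raynaud–Gruson "flat at a point ⇒ projective over an open
neighbourhood after an elementary étale base change" (S1268).
Part 9: regularity on fibres from purity; localizing a projective cover.
-/
import Mathlib
import Groth.Prelude.Def_FlatCA
import Groth.Agent.Lib.Helper26.PureProj5
import Groth.Agent.Lib.Helper26.RGInj1
import Groth.Agent.S9005

set_option autoImplicit false
set_option linter.style.haveILetI false
set_option linter.unusedSectionVars false

namespace Groth.Agent.Lib.helper26.PureProj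

open TensorProduct FlatCA Groth.Agent.Lib.helper3.UnivInjGlobal
open scoped Pointwise

universe u

section Fib

attribute [local instance] Algebra.TensorProduct.rightAlgebra

variable {R S : Type u} [CommRing R] [CommRing S] [Algebra R S] [Algebra.FiniteType R S]
  (M : Type u) [AddCommGroup M] [Module S M] [Module R M] [IsScalarTower R S M]
  [Module.Finite S M] [Module.Flat R M] (𝔭 : Ideal R) [𝔭.IsPrime]

/-- for a flat finite module pure along `𝔭`, an element avoiding the associated points of the
fibre over `𝔭` is a nonzerodivisor on all fibres over generizations of `𝔭`. -/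
theorem isSMulRegular_fibres_of_pure (hpure : IsPureAlong R S M 𝔭) (h : S)
    (hh : ∀ (Q : Ideal S) [Q.IsPrime], Q.LiesOver 𝔭 →
      fiberIdeal 𝔭 Q ∈ associatedPrimes (𝔭.Fiber S) (fiberMod 𝔭 S M) → h ∉ Q) :
    ∀ (t : Ideal R) [t.IsPrime], t ≤ 𝔭 → IsSMulRegular (M ⊗[R] t.ResidueField) h := by
  intro t ht htp
  by_contra hnr
  haveI : IsNoetherianRing (t.Fiber S) :=
    Algebra.FiniteType.isNoetherianRing t.ResidueField (t.Fiber S)
  haveI : IsScalarTower S (t.Fiber S) (fiberMod t S M) :=
    inferInstanceAs (IsScalarTower S (t.Fiber S) ((t.Fiber S) ⊗[S] M))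
  have hnr' : ¬ IsSMulRegular (fiberMod t S M) (algebraMap S (t.Fiber S) h) := by
    intro hr
    apply hnr
    intro a b hab
    apply (e0 (R := R) (S := S) t.ResidueField M).symm.injective
    apply hr
    show algebraMap S (t.Fiber S) h • (e0 (R := R) (S := S) t.ResidueField M).symm a =
      algebraMap S (t.Fiber S) h • (e0 (R := R) (S := S) t.ResidueField M).symm b
    rw [algebraMap_smul, algebraMap_smul, ← map_smul, ← map_smul]
    exact congrArg _ hab
  have hmem : algebraMap S (t.Fiber S) h ∈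
      ({r | IsSMulRegular (fiberMod t S M) r}ᶜ : Set (t.Fiber S)) := hnr'
  rw [← biUnion_associatedPrimes_eq_compl_regular (t.Fiber S) (fiberMod t S M)] at hmem
  simp only [Set.mem_iUnion] at hmem
  obtain ⟨P, hP, hhP⟩ := hmem
  haveI : P.IsPrime := hP.isPrime
  set Q := P.comap (algebraMap S (t.Fiber S)) with hQ
  haveI : Q.IsPrime := Ideal.comap_isPrime _ _
  haveI hQt : Q.LiesOver t := comap_liesOver t P
  have hfibQ : fiberIdeal t Q = P := fiberIdeal_comap t P
  have hass : fiberIdeal t Q ∈ associatedPrimes (t.Fiber S) (fiberMod t S M) := by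
    rw [hfibQ]
    exact hP
  have h1 : ¬ IsImpurity R S M 𝔭 R S M LinearMap.id t 𝔭 Q :=
    hpure R S M LinearMap.id t 𝔭 Q (Groth.Agent.Lib.helper26.Purity.isEtaleNhd_self R 𝔭)
  have h2 : ∃ Q₁ : Ideal S, Q₁.IsPrime ∧ Q ≤ Q₁ ∧ Q₁.LiesOver 𝔭 := by
    by_contra hno
    push Not at hno
    exact h1 ⟨inferInstance, IsBaseChange.of_equiv (TensorProduct.lid S M) (fun x => by simp),
      htp, ⟨(Ideal.comap_id 𝔭).symm⟩, hQt, hass, fun P' hP' hQP' hP'p => hno P' hP' hQP' hP'p⟩
  obtain ⟨Q₁, hQ₁, hQQ₁, hQ₁p⟩ := h2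
  have hfl : FlatAt R Q₁ M := Groth.Agent.Lib.helper3.FpLocal.flat_localizedModule _ _
  obtain ⟨Q₂, hQ₂, hQQ₂, hQ₂Q₁, hQ₂p, hass₂⟩ :=
    Groth.Agent.Lib.helper26.RelAss.exists_ass_specialization M 𝔭 Q₁ hfl t Q hQQ₁ hass
  have hhQ : h ∈ Q := hhP
  exact hh Q₂ hQ₂p hass₂ (hQQ₂ hhQ)

end Fib

section PiSmul

theorem piRightHom_smul {R S : Type u} [CommRing R] [CommRing S] [Algebra R S] (P : Type u)
    [AddCommGroup P] [Module S P] [Module R P] [IsScalarTower R S P] {κ : Type u}
    (Q : κ → Type u) [∀ i, AddCommGroup (Q i)] [∀ i, Module R (Q i)] (s : S)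
    (z : P ⊗[R] (∀ i, Q i)) (i : κ) :
    TensorProduct.piRightHom R R P Q (s • z) i = s • TensorProduct.piRightHom R R P Q z i := by
  induction z using TensorProduct.induction_on with
  | zero => simp
  | tmul p q =>
    rw [TensorProduct.smul_tmul', TensorProduct.piRightHom_tmul, TensorProduct.piRightHom_tmul,
      TensorProduct.smul_tmul']
  | add a b ha hb => rw [smul_add, map_add, map_add, Pi.add_apply, Pi.add_apply, ha, hb, smul_add]

end PiSmul

end Groth.Agent.Lib.helper26.PureProj
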