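/-
Helper library (helper26): towards Raynaud–Gruson "flat at a point ⇒ projective over an open
neighbourhood after an elementary étale base change" (S1268).
Part 10: if `W ⊗ N` is projective over `R` for a flat finitely presented `S`-algebra `W` whose
image contains the point `Q`, then `N_h` becomes projective over `R_f` for suitable `h ∉ Q`,
`f ∉ 𝔭`.
-/
import Mathlib
import Groth.Prelude.Def_FlatCA
import Groth.Agent.Lib.Helper26.PureProj9

set_option autoImplicit false
set_option linter.style.haveILetI false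
set_option linter.unusedSectionVars false

namespace Groth.Agent.Lib.helper26.PureProj

open TensorProduct FlatCA Groth.Agent.Lib.helper3.UnivInjGlobal
open scoped Pointwise

universe u

section Cpp

attribute [local instance] Algebra.TensorProduct.rightAlgebra

variable {R S W : Type u} [CommRing R] [CommRing S] [CommRing W] [Algebra R S] [Algebra S W]
  [Algebra R W] [IsScalarTower R S W]
  [Algebra.FinitePresentation R S] [Module.Flat S W] [Algebra.FinitePresentation S W]
  (N : Type u) [AddCommGroup N] [Module S N] [Module R N] [IsScalarTower R S N]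
  [Module.FinitePresentation S N] (𝔭 : Ideal R) [𝔭.IsPrime]

/-- the choice of `h`. -/
theorem exists_avoiding [Module.Projective R (W ⊗[S] N)] (Q : Ideal S) [Q.IsPrime]
    (hQ : ∃ Q' : Ideal W, Q'.IsPrime ∧ Q'.comap (algebraMap S W) = Q) :
    ∃ h : S, h ∉ Q ∧
      (∀ (q : Ideal S) [q.IsPrime], h ∉ q →
        ∃ q' : Ideal W, q'.IsPrime ∧ q'.comap (algebraMap S W) = q) ∧
      ∀ (t : Ideal R) [t.IsPrime], t ≤ 𝔭 →
        IsSMulRegular ((W ⊗[S] N) ⊗[R] t.ResidueField) (algebraMap S W h) := by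
  classical
  haveI : Algebra.FinitePresentation R W := Algebra.FinitePresentation.trans R S W
  have hUP : IsUnivPure R W (W ⊗[S] N) := Groth.Agent.S9005.result _
  have hpureP : IsPureAlong R W (W ⊗[S] N) 𝔭 := by
    intro A' B' N' _ _ _ _ _ _ _ _ _ _ _ _ _ _ f t' t _ _ P _ _
    exact hUP 𝔭 A' B' N' f t' t P
  have hopen : IsOpenMap (PrimeSpectrum.comap (algebraMap S W)) :=
    PrimeSpectrum.isOpenMap_comap_of_hasGoingDown_of_finitePresentation
  set U := Set.range (PrimeSpectrum.comap (algebraMap S W)) with hU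
  have hUo : IsOpen U := hopen.isOpen_range
  set J := PrimeSpectrum.vanishingIdeal Uᶜ with hJ
  have hz : PrimeSpectrum.zeroLocus (J : Set S) = Uᶜ := by
    rw [hJ, PrimeSpectrum.zeroLocus_vanishingIdeal_eq_closure, hUo.isClosed_compl.closure_eq]
  have hUmem : ∀ (q : Ideal S) [hq : q.IsPrime], ¬ J ≤ q →
      ∃ q' : Ideal W, q'.IsPrime ∧ q'.comap (algebraMap S W) = q := by
    intro q hq hJq
    have hqU : (⟨q, hq⟩ : PrimeSpectrum S) ∈ U := by
      by_contra hn
      have hmem : (⟨q, hq⟩ : PrimeSpectrum S) ∈ PrimeSpectrum.zeroLocus (J : Set S) := by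
        rw [hz]
        exact hn
      exact hJq hmem
    obtain ⟨q', hq'⟩ := hqU
    exact ⟨q'.asIdeal, q'.isPrime, congrArg PrimeSpectrum.asIdeal hq'⟩
  have hnotle : ∀ (q' : Ideal W) [q'.IsPrime], ¬ J ≤ q'.comap (algebraMap S W) := by
    intro q' hq' hJq
    have hmem : (⟨q'.comap (algebraMap S W), Ideal.comap_isPrime _ _⟩ : PrimeSpectrum S) ∈
        PrimeSpectrum.zeroLocus (J : Set S) := hJq
    rw [hz] at hmem
    exact hmem ⟨⟨q', hq'⟩, rfl⟩
  -- the fibre of `W ⊗ N` over `𝔭`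
  haveI : IsNoetherianRing (𝔭.Fiber W) :=
    Algebra.FiniteType.isNoetherianRing 𝔭.ResidueField (𝔭.Fiber W)
  haveI : Module.Finite (𝔭.Fiber W) (fiberMod 𝔭 W (W ⊗[S] N)) :=
    inferInstanceAs (Module.Finite (𝔭.Fiber W) ((𝔭.Fiber W) ⊗[W] (W ⊗[S] N)))
  have hfin : (associatedPrimes (𝔭.Fiber W) (fiberMod 𝔭 W (W ⊗[S] N))).Finite :=
    associatedPrimes.finite _ _
  let fc : Ideal (𝔭.Fiber W) → Ideal S := fun P' =>
    (P'.comap (algebraMap W (𝔭.Fiber W))).comap (algebraMap S W)
  let s : Finset (Ideal S) := insert Q (hfin.toFinset.image fc)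
  have hnsub : ¬ (J : Set S) ⊆ ⋃ I ∈ (s : Set (Ideal S)), ((id I : Ideal S) : Set S) := by
    intro hsub
    have hprime : ∀ I ∈ s, I ≠ (⊥ : Ideal S) → I ≠ ⊥ → (id I : Ideal S).IsPrime := by
      intro I hI _ _
      rcases Finset.mem_insert.mp hI with rfl | hI'
      · exact inferInstanceAs (I.IsPrime)
      · obtain ⟨P', hP', rfl⟩ := Finset.mem_image.mp hI'
        haveI : P'.IsPrime := (hfin.mem_toFinset.mp hP').isPrime
        haveI : (P'.comap (algebraMap W (𝔭.Fiber W))).IsPrime := Ideal.comap_isPrime _ _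
        exact Ideal.comap_isPrime _ _
    obtain ⟨I, hIs, hle⟩ := (Ideal.subset_union_prime (f := id) ⊥ ⊥ hprime).mp hsub
    rcases Finset.mem_insert.mp hIs with rfl | hI'
    · obtain ⟨Q', hQ', hQ'Q⟩ := hQ
      haveI := hQ'
      exact hnotle Q' (hQ'Q ▸ hle)
    · obtain ⟨P', hP', rfl⟩ := Finset.mem_image.mp hI'
      haveI : P'.IsPrime := (hfin.mem_toFinset.mp hP').isPrime
      haveI : (P'.comap (algebraMap W (𝔭.Fiber W))).IsPrime := Ideal.comap_isPrime _ _
      exact hnotle (P'.comap (algebraMap W (𝔭.Fiber W))) hle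
  obtain ⟨h, hhJ, hhn⟩ := Set.not_subset.mp hnsub
  simp only [Set.mem_iUnion, not_exists] at hhn
  have hhQ : h ∉ Q := fun hmem => hhn Q (Finset.mem_coe.mpr (Finset.mem_insert_self _ _)) hmem
  refine ⟨h, hhQ, fun q hq hhq => hUmem q (fun hJq => hhq (hJq hhJ)), ?_⟩
  apply isSMulRegular_fibres_of_pure (R := R) (S := W) (W ⊗[S] N) 𝔭 hpureP (algebraMap S W h)
  intro Q₂ hQ₂ hQ₂p hass₂ hmem
  refine hhn (fc (fiberIdeal 𝔭 Q₂)) (Finset.mem_coe.mpr (Finset.mem_insert_of_mem
    (Finset.mem_image.mpr ⟨fiberIdeal 𝔭 Q₂, hfin.mem_toFinset.mpr hass₂, rfl⟩))) ?_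
  show algebraMap W (𝔭.Fiber W) (algebraMap S W h) ∈ fiberIdeal 𝔭 Q₂
  exact Ideal.mem_map_of_mem _ hmem

end Cpp

end Groth.Agent.Lib.helper26.PureProj
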