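/-
Helper library (helper26): towards S1268.
Part 11: projectivity of `R₁ ⊗ N_h` over `R₁ = R_f`.
-/
import Mathlib
import Groth.Prelude.Def_FlatCA
import Groth.Agent.Lib.Helper26.PureProj10

set_option autoImplicit false
set_option linter.style.haveILetI false
set_option linter.unusedSectionVars false

namespace Groth.Agent.Lib.helper26.PureProj

open TensorProduct FlatCA
open scoped Pointwise

universe u

section Cpp2

variable {R S W : Type u} [CommRing R] [CommRing S] [CommRing W] [Algebra R S] [Algebra S W]
  [Algebra R W] [IsScalarTower R S W]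
  [Algebra.FinitePresentation R S] [Module.Flat S W] [Algebra.FinitePresentation S W]
  (N : Type u) [AddCommGroup N] [Module S N] [Module R N] [IsScalarTower R S N]
  [Module.FinitePresentation S N]

/-- the localization map `W ⊗ N → W ⊗ N_h`. -/
theorem isLocalizedModule_lTensor_mk (h : S) :
    IsLocalizedModule (Submonoid.powers h)
      ((TensorProduct.mk S (Localization.Away h) N 1).lTensor W) := by
  have h1 : IsLocalizedModule (Submonoid.powers h)
      (AlgebraTensorModule.rTensor S W (TensorProduct.mk S (Localization.Away h) N 1)) :=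
    inferInstance
  have h2 := IsLocalizedModule.of_linearEquiv (Submonoid.powers h)
    (AlgebraTensorModule.rTensor S W (TensorProduct.mk S (Localization.Away h) N 1))
    (TensorProduct.comm S (Localization.Away h ⊗[S] N) W)
  have h3 := IsLocalizedModule.of_linearEquiv_right (Submonoid.powers h)
    ((TensorProduct.comm S (Localization.Away h ⊗[S] N) W).toLinearMap ∘ₗ
      (AlgebraTensorModule.rTensor S W (TensorProduct.mk S (Localization.Away h) N 1)))
    (TensorProduct.comm S W N)
  convert h3 using 1
  apply TensorProduct.ext'
  intro w n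
  rfl

open Groth.Agent.Lib.helper6.MLDom in
set_option maxHeartbeats 1600000 in
theorem projective_away_localization [Module.Projective R (W ⊗[S] N)] (h : S)
    (hcov : ∀ (q : Ideal S) [q.IsPrime], h ∉ q →
      ∃ q' : Ideal W, q'.IsPrime ∧ q'.comap (algebraMap S W) = q)
    (f : R)
    (hfQ : ∀ (Q : Type u) [AddCommGroup Q] [Module R Q],
      IsUnit (algebraMap R (Module.End R Q) f) →
      IsSMulRegular ((W ⊗[S] N) ⊗[R] Q) (algebraMap S W h))
    (R₁ : Type u) [CommRing R₁] [Algebra R R₁] [IsLocalization.Away f R₁] :
    Module.Projective R₁ (R₁ ⊗[R] (Localization.Away h ⊗[S] N)) := by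
  classical
  -- `h` acts invertibly on `M ⊗ Q'`
  have hregM : ∀ (Q' : Type u) [AddCommGroup Q'] [Module R Q'],
      IsSMulRegular ((Localization.Away h ⊗[S] N) ⊗[R] Q') h := by
    intro Q' _ _
    have hu : IsUnit (algebraMap S (Localization.Away h) h) :=
      IsLocalization.Away.algebraMap_isUnit h
    intro a b hab
    have hab' : algebraMap S (Localization.Away h) h • a =
        algebraMap S (Localization.Away h) h • b := by
      rw [algebraMap_smul, algebraMap_smul]
      exact hab
    exact hu.smul_left_cancel.mp hab'
  have hι : ∀ (Q' : Type u) [AddCommGroup Q'] [Module R Q'], Function.Injective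
      (((TensorProduct.mk S W (Localization.Away h ⊗[S] N) 1).restrictScalars R).rTensor Q') :=
    fun Q' _ _ => rTensor_mk_injective_of_regular (Localization.Away h ⊗[S] N) h hcov Q'
      (hregM Q')
  -- the localization map
  haveI hlam := isLocalizedModule_lTensor_mk (W := W) N h
  -- flatness
  haveI : Module.Flat R (LocalizedModule (Submonoid.powers h) (W ⊗[S] N)) :=
    Groth.Agent.Lib.helper3.FpLocal.flat_localizedModule _ _
  haveI : Module.Flat R (W ⊗[S] (Localization.Away h ⊗[S] N)) :=
    Module.Flat.of_linearEquiv ((IsLocalizedModule.iso (Submonoid.powers h)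
      ((TensorProduct.mk S (Localization.Away h) N 1).lTensor W)).symm.restrictScalars R)
  haveI : Module.Flat R (Localization.Away h ⊗[S] N) :=
    Groth.Agent.Lib.helper26.RGInj.flat_of_univInj
      ((TensorProduct.mk S W (Localization.Away h ⊗[S] N) 1).restrictScalars R)
      (fun Q' _ _ => (LinearMap.lTensor_inj_iff_rTensor_inj Q' _).mpr (hι Q'))
  -- countable generation
  have hcM : CAlg.IsCountablyGenerated R (Localization.Away h ⊗[S] N) :=
    Groth.Agent.Lib.helper3.CgProj.isCountablyGenerated_of_finite_of_finiteType
      (R := R) (S := Localization.Away h) (Localization.Away h ⊗[S] N)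
  -- Mittag-Leffler
  have hML : CAlg.IsMittagLeffler R₁ (R₁ ⊗[R] (Localization.Away h ⊗[S] N)) := by
    apply isMittagLeffler_baseChange_of_piRightHom_injective
    intro κ Qf _ _ _ _
    have hP := ml_of_projective R (W ⊗[S] N)
    have hunit : ∀ i, IsUnit (algebraMap R (Module.End R (Qf i)) f) := fun i =>
      isUnit_algebraMap_end_of_away f R₁ (Qf i)
    have hP' : Function.Injective
        (TensorProduct.piRightHom R R (W ⊗[S] (Localization.Away h ⊗[S] N)) Qf) := by
      rw [injective_iff_map_eq_zero]
      intro z hz
      set lam := (TensorProduct.mk S (Localization.Away h) N 1).lTensor W with hlamdef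
      obtain ⟨⟨y, ⟨_, n, rfl⟩⟩, hy⟩ := IsLocalizedModule.surj (Submonoid.powers h)
        (AlgebraTensorModule.rTensor R (∀ i, Qf i) lam) z
      have hy' : h ^ n • z = (lam.restrictScalars R).rTensor (∀ i, Qf i) y := hy
      have hyi : ∀ i, TensorProduct.piRightHom R R (W ⊗[S] N) Qf y i = 0 := by
        intro i
        have h1 := Groth.Agent.Lib.helper28.piRightHom_rTensor (lam.restrictScalars R) Qf y
        rw [← hy'] at h1
        have h2 := congrFun h1 i
        rw [piRightHom_smul, hz, Pi.zero_apply, smul_zero] at h2
        have h3 : AlgebraTensorModule.rTensor R (Qf i) lam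
            (TensorProduct.piRightHom R R (W ⊗[S] N) Qf y i) = 0 := h2.symm
        obtain ⟨⟨_, k, rfl⟩, hk⟩ := (IsLocalizedModule.eq_zero_iff (Submonoid.powers h)
          (AlgebraTensorModule.rTensor R (Qf i) lam)).mp h3
        have hk' : (algebraMap S W h) ^ k •
            TensorProduct.piRightHom R R (W ⊗[S] N) Qf y i = 0 := by
          rw [← map_pow, algebraMap_smul]
          exact hk
        apply (hfQ (Qf i) (hunit i)).pow k
        show (algebraMap S W h) ^ k • _ = (algebraMap S W h) ^ k • 0
        rw [hk', smul_zero]
      have hy0 : y = 0 := hP κ Qf (by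
        rw [map_zero]
        funext i
        exact hyi i)
      rw [hy0, map_zero] at hy'
      have hinj := IsLocalizedModule.smul_injective
        (AlgebraTensorModule.rTensor R (∀ i, Qf i) lam)
        (⟨h ^ n, n, rfl⟩ : Submonoid.powers h)
      apply hinj
      show h ^ n • z = h ^ n • 0
      rw [hy', smul_zero]
    rw [injective_iff_map_eq_zero]
    intro x hx
    set i := (TensorProduct.mk S W (Localization.Away h ⊗[S] N) 1).restrictScalars R with hi
    have h1 := Groth.Agent.Lib.helper28.piRightHom_rTensor i Qf x
    rw [hx] at h1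
    have h2 : i.rTensor (∀ a, Qf a) x = 0 := by
      apply hP'
      rw [h1, map_zero]
      funext a
      rw [Pi.zero_apply, map_zero, Pi.zero_apply]
    exact hι (∀ a, Qf a) (by rw [h2, map_zero])
  exact projective_of_flat_ml_countable _ _ hML (isCountablyGenerated_baseChange R R₁ _ hcM)

end Cpp2

end Groth.Agent.Lib.helper26.PureProj
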