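/-
Helper library (helper26): towards S1268.
Part 12: `C₁ ⊗[S₁] N₁ ≃ R₁ ⊗[R] N_h` for models `S₁`, `N₁` of the base change to `R₁` and a
localization `C₁` of `S₁` at `h`.
-/
import Mathlib

set_option autoImplicit false
set_option linter.style.haveILetI false
set_option linter.unusedSectionVars false

namespace Groth.Agent.Lib.helper26.PureProj

open TensorProduct

universe u

set_option maxHeartbeats 1600000 in
theorem nonempty_transfer_equiv {R S : Type u} [CommRing R] [CommRing S] [Algebra R S]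
    (N : Type u) [AddCommGroup N] [Module S N] [Module R N] [IsScalarTower R S N] (h : S)
    (R₁ S₁ N₁ : Type u) [CommRing R₁] [Algebra R R₁] [CommRing S₁] [Algebra R S₁] [Algebra S S₁]
    [Algebra R₁ S₁] [IsScalarTower R S S₁] [IsScalarTower R R₁ S₁] [Algebra.IsPushout R S R₁ S₁]
    [AddCommGroup N₁] [Module S₁ N₁] [Module S N₁] [IsScalarTower S S₁ N₁]
    (f₁ : N →ₗ[S] N₁) (hf₁ : IsBaseChange S₁ f₁)
    (C₁ : Type u) [CommRing C₁] [Algebra S₁ C₁] [IsLocalization.Away (algebraMap S S₁ h) C₁]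
    [Algebra R₁ C₁] [IsScalarTower R₁ S₁ C₁] :
    Nonempty ((C₁ ⊗[S₁] N₁) ≃ₗ[R₁] R₁ ⊗[R] (Localization.Away h ⊗[S] N)) := by
  -- algebra structures on `C₁`
  letI algSC : Algebra S C₁ := ((algebraMap S₁ C₁).comp (algebraMap S S₁)).toAlgebra
  haveI twSS₁C : IsScalarTower S S₁ C₁ := IsScalarTower.of_algebraMap_eq fun _ => rfl
  letI algRC : Algebra R C₁ := ((algebraMap S₁ C₁).comp (algebraMap R S₁)).toAlgebra
  haveI twRS₁C : IsScalarTower R S₁ C₁ := IsScalarTower.of_algebraMap_eq fun _ => rfl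
  haveI twRSC : IsScalarTower R S C₁ := IsScalarTower.of_algebraMap_eq fun r => by
    show algebraMap S₁ C₁ (algebraMap R S₁ r) = algebraMap S₁ C₁ (algebraMap S S₁ (algebraMap R S r))
    rw [← IsScalarTower.algebraMap_apply R S S₁]
  haveI twRR₁C : IsScalarTower R R₁ C₁ := IsScalarTower.of_algebraMap_eq fun r => by
    show algebraMap S₁ C₁ (algebraMap R S₁ r) = algebraMap R₁ C₁ (algebraMap R R₁ r)
    rw [IsScalarTower.algebraMap_apply R R₁ S₁, ← IsScalarTower.algebraMap_apply R₁ S₁ C₁]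
  have hunit : IsUnit (algebraMap S C₁ h) :=
    IsLocalization.Away.algebraMap_isUnit (algebraMap S S₁ h)
  letI algShC : Algebra (Localization.Away h) C₁ :=
    (IsLocalization.Away.lift (S := Localization.Away h) h (g := algebraMap S C₁) hunit).toAlgebra
  haveI twSShC : IsScalarTower S (Localization.Away h) C₁ :=
    IsScalarTower.of_algebraMap_eq fun s => by
      show algebraMap S C₁ s = IsLocalization.Away.lift (S := Localization.Away h) h
        (g := algebraMap S C₁) hunit (algebraMap S (Localization.Away h) s)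
      rw [IsLocalization.Away.lift_eq]
  haveI twRShC : IsScalarTower R (Localization.Away h) C₁ :=
    IsScalarTower.of_algebraMap_eq fun r => by
      rw [IsScalarTower.algebraMap_apply R S C₁, IsScalarTower.algebraMap_apply R S
        (Localization.Away h), ← IsScalarTower.algebraMap_apply S (Localization.Away h) C₁]
  -- pushouts
  haveI hloc : IsLocalization (Algebra.algebraMapSubmonoid S₁ (Submonoid.powers h)) C₁ := by
    have : Algebra.algebraMapSubmonoid S₁ (Submonoid.powers h) =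
        Submonoid.powers (algebraMap S S₁ h) := Submonoid.map_powers _ _
    rw [this]
    infer_instance
  have hpo1 : Algebra.IsPushout S S₁ (Localization.Away h) C₁ :=
    Algebra.isPushout_of_isLocalization (Submonoid.powers h) (Localization.Away h) S₁ C₁
  have hpo2 : Algebra.IsPushout R (Localization.Away h) R₁ C₁ :=
    (Algebra.IsPushout.comp_iff R S R₁ S₁ (T := Localization.Away h) (T' := C₁)).2
      (Algebra.IsPushout.symm hpo1)
  haveI hpo3 : Algebra.IsPushout R R₁ (Localization.Away h) C₁ := Algebra.IsPushout.symm hpo2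
  -- the isomorphisms
  let e₁ : C₁ ⊗[Localization.Away h] (Localization.Away h ⊗[S] N) ≃ₗ[R₁]
      R₁ ⊗[R] (Localization.Away h ⊗[S] N) :=
    Algebra.IsPushout.cancelBaseChange R R₁ (Localization.Away h) C₁ (Localization.Away h ⊗[S] N)
  let e₂ : C₁ ⊗[Localization.Away h] (Localization.Away h ⊗[S] N) ≃ₗ[C₁] C₁ ⊗[S] N :=
    AlgebraTensorModule.cancelBaseChange S (Localization.Away h) C₁ C₁ N
  let e₃ : C₁ ⊗[S₁] (S₁ ⊗[S] N) ≃ₗ[C₁] C₁ ⊗[S] N :=
    AlgebraTensorModule.cancelBaseChange S S₁ C₁ C₁ N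
  let e₄ : C₁ ⊗[S₁] N₁ ≃ₗ[C₁] C₁ ⊗[S₁] (S₁ ⊗[S] N) :=
    AlgebraTensorModule.congr (LinearEquiv.refl C₁ C₁) hf₁.equiv.symm
  exact ⟨((e₄.trans (e₃.trans e₂.symm)).restrictScalars R₁).trans e₁⟩

end Groth.Agent.Lib.helper26.PureProj
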