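/-
Helper library (helper26): towards S1269 (finite type version of S1268 over a local base).
Part 13: finite type versions: universal regularity from fibrewise regularity, the choice of `h`,
and projectivity of `N_h`.
-/
import Mathlib
import Groth.Prelude.Def_FlatCA
import Groth.Agent.Lib.Helper26.PureProj11
import Groth.Agent.Lib.Helper26.FtReg3

set_option autoImplicit false
set_option linter.style.haveILetI false
set_option linter.unusedSectionVars false

namespace Groth.Agent.Lib.helper26.PureProj

open TensorProduct FlatCA Groth.Agent.Lib.helper3.UnivInjGlobal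
open scoped Pointwise

universe u

section URft

variable {R S : Type u} [CommRing R] [CommRing S] [Algebra R S] [Algebra.FiniteType R S]
  (N : Type u) [AddCommGroup N] [Module S N] [Module R N] [IsScalarTower R S N]
  [Module.Finite S N] [Module.Flat R N]

/-- finite type version: an element regular on all fibres of a flat finite module is universally
regular. -/
theorem isSMulRegular_tensor_of_fibres_ft (h : S)
    (hreg : ∀ (t : Ideal R) [t.IsPrime], IsSMulRegular (N ⊗[R] t.ResidueField) h)
    (Q : Type u) [AddCommGroup Q] [Module R Q] : IsSMulRegular (N ⊗[R] Q) h := by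
  intro a b hab
  rw [← sub_eq_zero]
  have hz : h • (a - b) = 0 := by
    rw [smul_sub]
    exact sub_eq_zero.mpr hab
  generalize a - b = y at hz
  by_contra hy0
  set J : Ideal S := (Submodule.span S {y}).annihilator with hJ
  have hJtop : J ≠ ⊤ := by
    intro htop
    apply hy0
    have : (1 : S) ∈ J := by rw [htop]; exact Submodule.mem_top
    have h1 := (Submodule.mem_annihilator_span_singleton _ _).mp this
    rwa [one_smul] at h1
  obtain ⟨q, hqmax, hJq⟩ := Ideal.exists_le_maximal J hJtop
  haveI : q.IsPrime := hqmax.isPrime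
  set yq : LocalizedModule q.primeCompl N ⊗[R] Q :=
    AlgebraTensorModule.rTensor R Q (LocalizedModule.mkLinearMap q.primeCompl N) y with hyq
  have hyq0 : yq ≠ 0 := by
    intro h0
    obtain ⟨⟨t, ht⟩, hty⟩ := (IsLocalizedModule.eq_zero_iff q.primeCompl
      (AlgebraTensorModule.rTensor R Q (LocalizedModule.mkLinearMap q.primeCompl N))).mp h0
    apply ht
    apply hJq
    exact (Submodule.mem_annihilator_span_singleton _ _).mpr hty
  have hflat : Module.Flat R (LocalizedModule q.primeCompl N) :=
    Groth.Agent.Lib.helper3.FpLocal.flat_localizedModule _ _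
  have h0 := hreg (q.comap (algebraMap R S))
  have h1' := IsSMulRegular.of_isLocalizedModule (Localization.AtPrime q) q.primeCompl
    (LocalizedModule.mkLinearMap q.primeCompl (N ⊗[R] (q.comap (algebraMap R S)).ResidueField)) h0
  have h1 : IsSMulRegular
      (LocalizedModule q.primeCompl (N ⊗[R] (q.comap (algebraMap R S)).ResidueField)) h := by
    intro u v huv
    apply h1'
    simpa only [algebraMap_smul] using huv
  have hsyq : h • yq = 0 := by
    rw [hyq, ← map_smul, hz, map_zero]
  exact hyq0 (Groth.Agent.Lib.helper26.FtReg.smul_eq_zero_localized_tensor_ft N q hflat h h1 Q yq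
    hsyq)

end URft

section Cft

attribute [local instance] Algebra.TensorProduct.rightAlgebra

variable {R S W : Type u} [CommRing R] [CommRing S] [CommRing W] [Algebra R S] [Algebra S W]
  [Algebra R W] [IsScalarTower R S W]
  [Algebra.FiniteType R S] [Module.Flat S W] [Algebra.FinitePresentation S W]
  (N : Type u) [AddCommGroup N] [Module S N] [Module R N] [IsScalarTower R S N]
  [Module.Finite S N] (𝔭 : Ideal R) [𝔭.IsPrime]

/-- the choice of `h`. -/
theorem exists_avoiding_ft [Module.Projective R (W ⊗[S] N)] (Q : Ideal S) [Q.IsPrime]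
    (hQ : ∃ Q' : Ideal W, Q'.IsPrime ∧ Q'.comap (algebraMap S W) = Q) :
    ∃ h : S, h ∉ Q ∧
      (∀ (q : Ideal S) [q.IsPrime], h ∉ q →
        ∃ q' : Ideal W, q'.IsPrime ∧ q'.comap (algebraMap S W) = q) ∧
      ∀ (t : Ideal R) [t.IsPrime], t ≤ 𝔭 →
        IsSMulRegular ((W ⊗[S] N) ⊗[R] t.ResidueField) (algebraMap S W h) := by
  classical
  haveI : Algebra.FiniteType R W := Algebra.FiniteType.trans (S := S) inferInstance inferInstance
  have hUP : IsUnivPure R W (W ⊗[S] N) := Groth.Agent.S9005.result _
  have hpureP : IsPureAlong R W (W ⊗[S] N) 𝔭 := by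
    intro A' B' N' _ _ _ _ _ _ _ _ _ _ _ _ _ _ f t' t _ _ P _ _
    exact hUP 𝔭 A' B' N' f t' t P
  have hopen : IsOpenMap (PrimeSpectrum.comap (algebraMap S W)) :=
    PrimeSpectrum.isOpenMap_comap_of_hasGoingDown_of_finitePresentation
  set U := Set.range (PrimeSpectrum.comap (algebraMap S W)) with hU
  have hUo : IsOpen U := hopen.isOpen_range
  set J := PrimeSpectrum.vanishingIdeal Uᶜ with hJ
  have hz : PrimeSpectrum.zeroLocus (J : Set S) = Uᶜ := by
    rw [hJ, PrimeSpectrum.zeroLocus_vanishingIdeal_eq_closure, hUo.isClosed_compl.closure_eq]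
  have hUmem : ∀ (q : Ideal S) [hq : q.IsPrime], ¬ J ≤ q →
      ∃ q' : Ideal W, q'.IsPrime ∧ q'.comap (algebraMap S W) = q := by
    intro q hq hJq
    have hqU : (⟨q, hq⟩ : PrimeSpectrum S) ∈ U := by
      by_contra hn
      have hmem : (⟨q, hq⟩ : PrimeSpectrum S) ∈ PrimeSpectrum.zeroLocus (J : Set S) := by
        rw [hz]
        exact hn
      exact hJq hmem
    obtain ⟨q', hq'⟩ := hqU
    exact ⟨q'.asIdeal, q'.isPrime, congrArg PrimeSpectrum.asIdeal hq'⟩
  have hnotle : ∀ (q' : Ideal W) [q'.IsPrime], ¬ J ≤ q'.comap (algebraMap S W) := by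
    intro q' hq' hJq
    have hmem : (⟨q'.comap (algebraMap S W), Ideal.comap_isPrime _ _⟩ : PrimeSpectrum S) ∈
        PrimeSpectrum.zeroLocus (J : Set S) := hJq
    rw [hz] at hmem
    exact hmem ⟨⟨q', hq'⟩, rfl⟩
  -- the fibre of `W ⊗ N` over `𝔭`
  haveI : IsNoetherianRing (𝔭.Fiber W) :=
    Algebra.FiniteType.isNoetherianRing 𝔭.ResidueField (𝔭.Fiber W)
  haveI : Module.Finite (𝔭.Fiber W) (fiberMod 𝔭 W (W ⊗[S] N)) :=
    inferInstanceAs (Module.Finite (𝔭.Fiber W) ((𝔭.Fiber W) ⊗[W] (W ⊗[S] N)))
  have hfin : (associatedPrimes (𝔭.Fiber W) (fiberMod 𝔭 W (W ⊗[S] N))).Finite :=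
    associatedPrimes.finite _ _
  let fc : Ideal (𝔭.Fiber W) → Ideal S := fun P' =>
    (P'.comap (algebraMap W (𝔭.Fiber W))).comap (algebraMap S W)
  let s : Finset (Ideal S) := insert Q (hfin.toFinset.image fc)
  have hnsub : ¬ (J : Set S) ⊆ ⋃ I ∈ (s : Set (Ideal S)), ((id I : Ideal S) : Set S) := by
    intro hsub
    have hprime : ∀ I ∈ s, I ≠ (⊥ : Ideal S) → I ≠ ⊥ → (id I : Ideal S).IsPrime := by
      intro I hI _ _
      rcases Finset.mem_insert.mp hI with rfl | hI'
      · exact inferInstanceAs (I.IsPrime)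
      · obtain ⟨P', hP', rfl⟩ := Finset.mem_image.mp hI'
        haveI : P'.IsPrime := (hfin.mem_toFinset.mp hP').isPrime
        haveI : (P'.comap (algebraMap W (𝔭.Fiber W))).IsPrime := Ideal.comap_isPrime _ _
        exact Ideal.comap_isPrime _ _
    obtain ⟨I, hIs, hle⟩ := (Ideal.subset_union_prime (f := id) ⊥ ⊥ hprime).mp hsub
    rcases Finset.mem_insert.mp hIs with rfl | hI'
    · obtain ⟨Q', hQ', hQ'Q⟩ := hQ
      haveI := hQ'
      exact hnotle Q' (hQ'Q ▸ hle)
    · obtain ⟨P', hP', rfl⟩ := Finset.mem_image.mp hI'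
      haveI : P'.IsPrime := (hfin.mem_toFinset.mp hP').isPrime
      haveI : (P'.comap (algebraMap W (𝔭.Fiber W))).IsPrime := Ideal.comap_isPrime _ _
      exact hnotle (P'.comap (algebraMap W (𝔭.Fiber W))) hle
  obtain ⟨h, hhJ, hhn⟩ := Set.not_subset.mp hnsub
  simp only [Set.mem_iUnion, not_exists] at hhn
  have hhQ : h ∉ Q := fun hmem => hhn Q (Finset.mem_coe.mpr (Finset.mem_insert_self _ _)) hmem
  refine ⟨h, hhQ, fun q hq hhq => hUmem q (fun hJq => hhq (hJq hhJ)), ?_⟩
  apply isSMulRegular_fibres_of_pure (R := R) (S := W) (W ⊗[S] N) 𝔭 hpureP (algebraMap S W h)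
  intro Q₂ hQ₂ hQ₂p hass₂ hmem
  refine hhn (fc (fiberIdeal 𝔭 Q₂)) (Finset.mem_coe.mpr (Finset.mem_insert_of_mem
    (Finset.mem_image.mpr ⟨fiberIdeal 𝔭 Q₂, hfin.mem_toFinset.mpr hass₂, rfl⟩))) ?_
  show algebraMap W (𝔭.Fiber W) (algebraMap S W h) ∈ fiberIdeal 𝔭 Q₂
  exact Ideal.mem_map_of_mem _ hmem

end Cft

section Cft2

variable {R S W : Type u} [CommRing R] [CommRing S] [CommRing W] [Algebra R S] [Algebra S W]
  [Algebra R W] [IsScalarTower R S W]
  [Algebra.FiniteType R S] [Module.Flat S W]
  (N : Type u) [AddCommGroup N] [Module S N] [Module R N] [IsScalarTower R S N]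
  [Module.Finite S N]

/-- the localization map `W ⊗ N → W ⊗ N_h`. -/
theorem isLocalizedModule_lTensor_mk_ft (h : S) :
    IsLocalizedModule (Submonoid.powers h)
      ((TensorProduct.mk S (Localization.Away h) N 1).lTensor W) := by
  have h1 : IsLocalizedModule (Submonoid.powers h)
      (AlgebraTensorModule.rTensor S W (TensorProduct.mk S (Localization.Away h) N 1)) :=
    inferInstance
  have h2 := IsLocalizedModule.of_linearEquiv (Submonoid.powers h)
    (AlgebraTensorModule.rTensor S W (TensorProduct.mk S (Localization.Away h) N 1))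
    (TensorProduct.comm S (Localization.Away h ⊗[S] N) W)
  have h3 := IsLocalizedModule.of_linearEquiv_right (Submonoid.powers h)
    ((TensorProduct.comm S (Localization.Away h ⊗[S] N) W).toLinearMap ∘ₗ
      (AlgebraTensorModule.rTensor S W (TensorProduct.mk S (Localization.Away h) N 1)))
    (TensorProduct.comm S W N)
  convert h3 using 1
  apply TensorProduct.ext'
  intro w n
  rfl

open Groth.Agent.Lib.helper6.MLDom in
set_option maxHeartbeats 1600000 in
theorem projective_away_localization_ft [Module.Projective R (W ⊗[S] N)] (h : S)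
    (hcov : ∀ (q : Ideal S) [q.IsPrime], h ∉ q →
      ∃ q' : Ideal W, q'.IsPrime ∧ q'.comap (algebraMap S W) = q)
    (f : R)
    (hfQ : ∀ (Q : Type u) [AddCommGroup Q] [Module R Q],
      IsUnit (algebraMap R (Module.End R Q) f) →
      IsSMulRegular ((W ⊗[S] N) ⊗[R] Q) (algebraMap S W h))
    (R₁ : Type u) [CommRing R₁] [Algebra R R₁] [IsLocalization.Away f R₁] :
    Module.Projective R₁ (R₁ ⊗[R] (Localization.Away h ⊗[S] N)) := by
  classical
  -- `h` acts invertibly on `M ⊗ Q'`
  have hregM : ∀ (Q' : Type u) [AddCommGroup Q'] [Module R Q'],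
      IsSMulRegular ((Localization.Away h ⊗[S] N) ⊗[R] Q') h := by
    intro Q' _ _
    have hu : IsUnit (algebraMap S (Localization.Away h) h) :=
      IsLocalization.Away.algebraMap_isUnit h
    intro a b hab
    have hab' : algebraMap S (Localization.Away h) h • a =
        algebraMap S (Localization.Away h) h • b := by
      rw [algebraMap_smul, algebraMap_smul]
      exact hab
    exact hu.smul_left_cancel.mp hab'
  have hι : ∀ (Q' : Type u) [AddCommGroup Q'] [Module R Q'], Function.Injective
      (((TensorProduct.mk S W (Localization.Away h ⊗[S] N) 1).restrictScalars R).rTensor Q') :=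
    fun Q' _ _ => rTensor_mk_injective_of_regular (Localization.Away h ⊗[S] N) h hcov Q'
      (hregM Q')
  -- the localization map
  haveI hlam := isLocalizedModule_lTensor_mk_ft (W := W) N h
  -- flatness
  haveI : Module.Flat R (LocalizedModule (Submonoid.powers h) (W ⊗[S] N)) :=
    Groth.Agent.Lib.helper3.FpLocal.flat_localizedModule _ _
  haveI : Module.Flat R (W ⊗[S] (Localization.Away h ⊗[S] N)) :=
    Module.Flat.of_linearEquiv ((IsLocalizedModule.iso (Submonoid.powers h)
      ((TensorProduct.mk S (Localization.Away h) N 1).lTensor W)).symm.restrictScalars R)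
  haveI : Module.Flat R (Localization.Away h ⊗[S] N) :=
    Groth.Agent.Lib.helper26.RGInj.flat_of_univInj
      ((TensorProduct.mk S W (Localization.Away h ⊗[S] N) 1).restrictScalars R)
      (fun Q' _ _ => (LinearMap.lTensor_inj_iff_rTensor_inj Q' _).mpr (hι Q'))
  -- countable generation
  have hcM : CAlg.IsCountablyGenerated R (Localization.Away h ⊗[S] N) :=
    Groth.Agent.Lib.helper3.CgProj.isCountablyGenerated_of_finite_of_finiteType
      (R := R) (S := Localization.Away h) (Localization.Away h ⊗[S] N)
  -- Mittag-Leffler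
  have hML : CAlg.IsMittagLeffler R₁ (R₁ ⊗[R] (Localization.Away h ⊗[S] N)) := by
    apply isMittagLeffler_baseChange_of_piRightHom_injective
    intro κ Qf _ _ _ _
    have hP := ml_of_projective R (W ⊗[S] N)
    have hunit : ∀ i, IsUnit (algebraMap R (Module.End R (Qf i)) f) := fun i =>
      isUnit_algebraMap_end_of_away f R₁ (Qf i)
    have hP' : Function.Injective
        (TensorProduct.piRightHom R R (W ⊗[S] (Localization.Away h ⊗[S] N)) Qf) := by
      rw [injective_iff_map_eq_zero]
      intro z hz
      set lam := (TensorProduct.mk S (Localization.Away h) N 1).lTensor W with hlamdef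
      obtain ⟨⟨y, ⟨_, n, rfl⟩⟩, hy⟩ := IsLocalizedModule.surj (Submonoid.powers h)
        (AlgebraTensorModule.rTensor R (∀ i, Qf i) lam) z
      have hy' : h ^ n • z = (lam.restrictScalars R).rTensor (∀ i, Qf i) y := hy
      have hyi : ∀ i, TensorProduct.piRightHom R R (W ⊗[S] N) Qf y i = 0 := by
        intro i
        have h1 := Groth.Agent.Lib.helper28.piRightHom_rTensor (lam.restrictScalars R) Qf y
        rw [← hy'] at h1
        have h2 := congrFun h1 i
        rw [piRightHom_smul, hz, Pi.zero_apply, smul_zero] at h2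
        have h3 : AlgebraTensorModule.rTensor R (Qf i) lam
            (TensorProduct.piRightHom R R (W ⊗[S] N) Qf y i) = 0 := h2.symm
        obtain ⟨⟨_, k, rfl⟩, hk⟩ := (IsLocalizedModule.eq_zero_iff (Submonoid.powers h)
          (AlgebraTensorModule.rTensor R (Qf i) lam)).mp h3
        have hk' : (algebraMap S W h) ^ k •
            TensorProduct.piRightHom R R (W ⊗[S] N) Qf y i = 0 := by
          rw [← map_pow, algebraMap_smul]
          exact hk
        apply (hfQ (Qf i) (hunit i)).pow k
        show (algebraMap S W h) ^ k • _ = (algebraMap S W h) ^ k • 0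
        rw [hk', smul_zero]
      have hy0 : y = 0 := hP κ Qf (by
        rw [map_zero]
        funext i
        exact hyi i)
      rw [hy0, map_zero] at hy'
      have hinj := IsLocalizedModule.smul_injective
        (AlgebraTensorModule.rTensor R (∀ i, Qf i) lam)
        (⟨h ^ n, n, rfl⟩ : Submonoid.powers h)
      apply hinj
      show h ^ n • z = h ^ n • 0
      rw [hy', smul_zero]
    rw [injective_iff_map_eq_zero]
    intro x hx
    set i := (TensorProduct.mk S W (Localization.Away h ⊗[S] N) 1).restrictScalars R with hi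
    have h1 := Groth.Agent.Lib.helper28.piRightHom_rTensor i Qf x
    rw [hx] at h1
    have h2 : i.rTensor (∀ a, Qf a) x = 0 := by
      apply hP'
      rw [h1, map_zero]
      funext a
      rw [Pi.zero_apply, map_zero, Pi.zero_apply]
    exact hι (∀ a, Qf a) (by rw [h2, map_zero])
  exact projective_of_flat_ml_countable _ _ hML (isCountablyGenerated_baseChange R R₁ _ hcM)

end Cft2

end Groth.Agent.Lib.helper26.PureProj
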