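/-
Helper library (helper26): projectivity after étale localisation (Raynaud–Gruson), part 2.
* `projConcl_of_projective_away` : if `N_f` is projective over `R_f` for some `f ∉ p`, the
  conclusion `ProjConcl` holds with `R' = R_f`, `S' = S_f`.
* `projConcl_of_devissage` : a flat finitely presented module with a complete dévissage over `p`
  satisfies `ProjConcl` (via S1254).
-/
import Mathlib
import Groth.Agent.S1254
import Groth.Agent.Lib.Helper26.RGProj1

set_option autoImplicit false
set_option linter.style.haveILetI false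
set_option linter.unusedSectionVars false

namespace Groth.Agent.Lib.helper26.RGProj

open TensorProduct

universe u

attribute [local instance] RestrictScalars.moduleOrig in
set_option maxHeartbeats 1600000 in
theorem projConcl_of_projective_away {R₁ S₁ : Type u} [CommRing R₁] [CommRing S₁]
    [Algebra R₁ S₁]
    (N₁ : Type u) [AddCommGroup N₁] [Module S₁ N₁] [Module R₁ N₁] [IsScalarTower R₁ S₁ N₁]
    (p₁ : Ideal R₁) [p₁.IsPrime] (q₁ : Ideal S₁) [q₁.IsPrime] [hq₁p₁ : q₁.LiesOver p₁]
    (f : R₁) (hfp : f ∉ p₁)
    (hproj : Module.Projective (Localization.Away f)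
      (LocalizedModule (Submonoid.powers f) N₁)) :
    ProjConcl R₁ S₁ N₁ p₁ q₁ := by
  have hf'q : algebraMap R₁ S₁ f ∉ q₁ := fun h => hfp (by
    rw [hq₁p₁.over]
    exact h)
  letI algR'S' : Algebra (Localization.Away f) (Localization.Away (algebraMap R₁ S₁ f)) :=
    (IsLocalization.Away.map (Localization.Away f) (Localization.Away (algebraMap R₁ S₁ f))
      (algebraMap R₁ S₁) f).toAlgebra
  haveI twR₁R'S' : IsScalarTower R₁ (Localization.Away f)
      (Localization.Away (algebraMap R₁ S₁ f)) := IsScalarTower.of_algebraMap_eq fun r => by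
    show algebraMap R₁ (Localization.Away (algebraMap R₁ S₁ f)) r =
      IsLocalization.Away.map (Localization.Away f) (Localization.Away (algebraMap R₁ S₁ f))
        (algebraMap R₁ S₁) f (algebraMap R₁ (Localization.Away f) r)
    rw [IsLocalization.Away.map, IsLocalization.map_eq, ← IsScalarTower.algebraMap_apply]
  -- the primes
  haveI hp'prime : (p₁.map (algebraMap R₁ (Localization.Away f))).IsPrime :=
    Groth.Agent.Lib.helper3.Shrink.isPrime_map_away f (Localization.Away f) p₁ hfp
  haveI hp'p : (p₁.map (algebraMap R₁ (Localization.Away f))).LiesOver p₁ :=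
    ⟨(Groth.Agent.Lib.helper3.Shrink.under_map_away f (Localization.Away f) p₁ hfp).symm⟩
  haveI hq'prime : (q₁.map (algebraMap S₁ (Localization.Away (algebraMap R₁ S₁ f)))).IsPrime :=
    Groth.Agent.Lib.helper3.Shrink.isPrime_map_away (algebraMap R₁ S₁ f)
      (Localization.Away (algebraMap R₁ S₁ f)) q₁ hf'q
  haveI hq'q : (q₁.map (algebraMap S₁ (Localization.Away (algebraMap R₁ S₁ f)))).LiesOver q₁ :=
    ⟨(Groth.Agent.Lib.helper3.Shrink.under_map_away (algebraMap R₁ S₁ f)
      (Localization.Away (algebraMap R₁ S₁ f)) q₁ hf'q).symm⟩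
  have hq'p' : (q₁.map (algebraMap S₁ (Localization.Away (algebraMap R₁ S₁ f)))).LiesOver
      (p₁.map (algebraMap R₁ (Localization.Away f))) := by
    constructor
    have h1 : ((q₁.map (algebraMap S₁ (Localization.Away (algebraMap R₁ S₁ f)))).under
        (Localization.Away f)).under R₁ = p₁ := by
      rw [Ideal.under_under, ← Ideal.under_under (B := S₁), ← hq'q.over, ← hq₁p₁.over]
    have h2 := IsLocalization.map_under (Submonoid.powers f) (Localization.Away f)
      ((q₁.map (algebraMap S₁ (Localization.Away (algebraMap R₁ S₁ f)))).under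
        (Localization.Away f))
    rw [← h2]
    congr 1
    exact h1.symm
  refine ⟨Localization.Away f, Localization.Away (algebraMap R₁ S₁ f), inferInstance,
    inferInstance, inferInstance, inferInstance, algR'S', inferInstance, twR₁R'S', inferInstance,
    p₁.map (algebraMap R₁ (Localization.Away f)),
    q₁.map (algebraMap S₁ (Localization.Away (algebraMap R₁ S₁ f))), hp'prime, hq'prime,
    Groth.Agent.Lib.helper26.DevMain.isEtaleNhd_away f (Localization.Away f) p₁ _,
    Groth.Agent.Lib.helper26.DevMain.isEtaleNhd_away (algebraMap R₁ S₁ f)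
      (Localization.Away (algebraMap R₁ S₁ f)) q₁ _, hq'p', ?_⟩
  -- projectivity
  have hbc : IsBaseChange (Localization.Away (algebraMap R₁ S₁ f))
      (LocalizedModule.mkLinearMap (Submonoid.powers (algebraMap R₁ S₁ f)) N₁) :=
    (isLocalizedModule_iff_isBaseChange (Submonoid.powers (algebraMap R₁ S₁ f))
      (Localization.Away (algebraMap R₁ S₁ f)) _).mp inferInstance
  haveI : IsLocalizedModule (Submonoid.powers f)
      ((LocalizedModule.mkLinearMap (Submonoid.powers (algebraMap R₁ S₁ f)) N₁).restrictScalars
        R₁) :=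
    IsLocalizedModule.restrictScalars_powers f
      (LocalizedModule.mkLinearMap (Submonoid.powers (algebraMap R₁ S₁ f)) N₁)
  let e₂ : LocalizedModule (Submonoid.powers f) N₁ ≃ₗ[R₁]
      LocalizedModule (Submonoid.powers (algebraMap R₁ S₁ f)) N₁ :=
    IsLocalizedModule.iso (Submonoid.powers f)
      ((LocalizedModule.mkLinearMap (Submonoid.powers (algebraMap R₁ S₁ f)) N₁).restrictScalars
        R₁)
  letI modR'N'' : Module (Localization.Away f)
      (LocalizedModule (Submonoid.powers (algebraMap R₁ S₁ f)) N₁) :=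
    Module.compHom _ (algebraMap (Localization.Away f) (Localization.Away (algebraMap R₁ S₁ f)))
  haveI twR'S'N'' : IsScalarTower (Localization.Away f) (Localization.Away (algebraMap R₁ S₁ f))
      (LocalizedModule (Submonoid.powers (algebraMap R₁ S₁ f)) N₁) :=
    IsScalarTower.of_algebraMap_smul fun _ _ => rfl
  haveI twR₁R'N'' : IsScalarTower R₁ (Localization.Away f)
      (LocalizedModule (Submonoid.powers (algebraMap R₁ S₁ f)) N₁) :=
    IsScalarTower.of_algebraMap_smul fun r x => by
      show algebraMap (Localization.Away f) (Localization.Away (algebraMap R₁ S₁ f))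
        (algebraMap R₁ (Localization.Away f) r) • x = r • x
      rw [← IsScalarTower.algebraMap_apply R₁ (Localization.Away f)
        (Localization.Away (algebraMap R₁ S₁ f)), algebraMap_smul]
  let e₂' : LocalizedModule (Submonoid.powers f) N₁ ≃ₗ[Localization.Away f]
      LocalizedModule (Submonoid.powers (algebraMap R₁ S₁ f)) N₁ :=
    LinearEquiv.extendScalarsOfIsLocalization (Submonoid.powers f) (Localization.Away f) e₂
  let e₁' : RestrictScalars (Localization.Away f) (Localization.Away (algebraMap R₁ S₁ f))
      (Localization.Away (algebraMap R₁ S₁ f) ⊗[S₁] N₁) ≃ₗ[Localization.Away f]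
      LocalizedModule (Submonoid.powers (algebraMap R₁ S₁ f)) N₁ :=
    LinearEquiv.restrictScalars (Localization.Away f)
      (hbc.equiv : RestrictScalars (Localization.Away f) (Localization.Away (algebraMap R₁ S₁ f))
        (Localization.Away (algebraMap R₁ S₁ f) ⊗[S₁] N₁) ≃ₗ[Localization.Away
          (algebraMap R₁ S₁ f)] LocalizedModule (Submonoid.powers (algebraMap R₁ S₁ f)) N₁)
  haveI := hproj
  exact Module.Projective.of_equiv (e₂'.trans e₁'.symm)

theorem projConcl_of_devissage {R₁ S₁ : Type u} [CommRing R₁] [CommRing S₁] [Algebra R₁ S₁]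
    [Algebra.FinitePresentation R₁ S₁]
    (N₁ : Type u) [AddCommGroup N₁] [Module S₁ N₁] [Module R₁ N₁] [IsScalarTower R₁ S₁ N₁]
    [Module.FinitePresentation S₁ N₁] [Module.Flat R₁ N₁]
    (p₁ : Ideal R₁) [p₁.IsPrime] (q₁ : Ideal S₁) [q₁.IsPrime] [q₁.LiesOver p₁]
    (D : FlatCA.CompleteDevissage R₁ S₁ N₁ p₁) : ProjConcl R₁ S₁ N₁ p₁ q₁ := by
  obtain ⟨f, hfp, hproj, -⟩ := Groth.Agent.S1254.result N₁ p₁ D
  exact projConcl_of_projective_away N₁ p₁ q₁ f hfp hproj

end Groth.Agent.Lib.helper26.RGProj
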