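/-
Helper library (helper26): towards Raynaud–Gruson "pure + flat ⇒ projective".
Part 6: the projective étale cover of a fibre (S1241), keeping track of the prime of the base
neighbourhood.
-/
import Mathlib
import Groth.Prelude.Def_FlatCA
import Groth.Agent.Lib.Helper26.FibCov10
import Groth.Agent.Lib.Helper26.RGProj1
import Groth.Agent.S1202

set_option autoImplicit false
set_option linter.style.haveILetI false
set_option linter.unusedSectionVars false

namespace Groth.Agent.Lib.helper26.PureProj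

open TensorProduct FlatCA Groth.Agent.Lib.helper26.FibCov

universe u

/-- `FibCov.exists_refined_projective`, with the primes of the refined cover lying over `p''`. -/
theorem exists_refined_projective' {R S : Type u} [CommRing R] [CommRing S] [Algebra R S]
    (N : Type u) [AddCommGroup N] [Module S N]
    (p : Ideal R) [p.IsPrime]
    {R₁ S₁ : Type u} [CommRing R₁] [CommRing S₁] [Algebra R R₁] [Algebra S S₁] [Algebra R₁ S₁]
    [Algebra R S₁] [IsScalarTower R R₁ S₁] [IsScalarTower R S S₁]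
    (p₁ : Ideal R₁) [p₁.IsPrime] (hEtR : FlatCA.IsEtaleNhd R R₁ p p₁) [hEtS : Algebra.Etale S S₁]
    (hproj : Module.Projective R₁ (RestrictScalars R₁ S₁ (S₁ ⊗[S] N)))
    (R'' : Type u) [CommRing R''] [Algebra R R''] (p'' : Ideal R'') [p''.IsPrime]
    (hEt'' : FlatCA.IsEtaleNhd R R'' p p'')
    (φ : R₁ →ₐ[R] R'') (hφ : p''.comap φ.toRingHom = p₁) :
    ∃ (W : Type u) (_ : CommRing W) (_ : Algebra R'' W) (_ : Algebra S W) (_ : Algebra R W)
      (_ : IsScalarTower R R'' W) (_ : IsScalarTower R S W),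
      Algebra.Etale S W ∧
      (∀ (y : Ideal S₁) [y.IsPrime], y.LiesOver p₁ → ∃ x : Ideal W, x.IsPrime ∧
        x.comap (algebraMap S W) = y.comap (algebraMap S S₁) ∧
        x.comap (algebraMap R'' W) = p'') ∧
      Module.Projective R'' (RestrictScalars R'' W (W ⊗[S] N)) := by
  letI algR₁R'' : Algebra R₁ R'' := φ.toRingHom.toAlgebra
  haveI twRR₁R'' : IsScalarTower R R₁ R'' :=
    IsScalarTower.of_algebraMap_eq fun r => (φ.commutes r).symm
  haveI hp''p₁ : p''.LiesOver p₁ := ⟨hφ.symm⟩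
  have hEt₁ : FlatCA.IsEtaleNhd R₁ R'' p₁ p'' := isEtaleNhd_cancel p p₁ p'' hEtR hEt''
  haveI : Algebra.Etale R₁ R'' := hEt₁.1
  obtain ⟨W, _, algR₁W, algR''W, algS₁W, twR₁R''W, twR₁S₁W, hpo⟩ :=
    Groth.Agent.Lib.helper26.RGFlat.exists_pushout_model R₁ R'' S₁
  letI algSW : Algebra S W := ((algebraMap S₁ W).comp (algebraMap S S₁)).toAlgebra
  haveI twSS₁W : IsScalarTower S S₁ W := IsScalarTower.of_algebraMap_eq fun _ => rfl
  letI algRW : Algebra R W := ((algebraMap R'' W).comp (algebraMap R R'')).toAlgebra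
  haveI twRR''W : IsScalarTower R R'' W := IsScalarTower.of_algebraMap_eq fun _ => rfl
  haveI twRSW : IsScalarTower R S W := IsScalarTower.of_algebraMap_eq fun r => by
    show algebraMap R'' W (algebraMap R R'' r) = algebraMap S₁ W (algebraMap S S₁ (algebraMap R S r))
    rw [IsScalarTower.algebraMap_apply R R₁ R'', ← IsScalarTower.algebraMap_apply R₁ R'' W,
      IsScalarTower.algebraMap_apply R₁ S₁ W, ← IsScalarTower.algebraMap_apply R R₁ S₁,
      IsScalarTower.algebraMap_apply R S S₁]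
  haveI hpo' : Algebra.IsPushout R₁ S₁ R'' W := Algebra.IsPushout.symm hpo
  haveI : Algebra.Etale S₁ W := Algebra.Etale.of_equiv (Algebra.IsPushout.equiv R₁ S₁ R'' W)
  haveI : Algebra.Etale S W := Algebra.Etale.comp S S₁ W
  refine ⟨W, inferInstance, algR''W, algSW, algRW, twRR''W, twRSW, inferInstance, ?_, ?_⟩
  · intro y hy hyp₁
    obtain ⟨x, hxprime, hxp'', hxy⟩ :=
      Groth.Agent.Lib.helper3.BijRes.exists_prime_over p₁ p'' hEt₁.2.2 S₁ W y
    refine ⟨x, hxprime, ?_, hxp''.over.symm⟩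
    have h1 : x.comap (algebraMap S W) = (x.comap (algebraMap S₁ W)).comap (algebraMap S S₁) := by
      rw [Ideal.comap_comap]
      rfl
    rw [h1]
    congr 1
    exact hxy.over.symm
  · -- projectivity
    haveI : Module.Projective R₁ (S₁ ⊗[S] N) :=
      Module.Projective.of_equiv (restrictScalarsEquiv R₁ S₁ (S₁ ⊗[S] N)).symm
    have h1 : Module.Projective R'' (W ⊗[S₁] (S₁ ⊗[S] N)) :=
      Groth.Agent.Lib.helper26.Purity.projective_of_isPushout_of_isBaseChange
        (A := R₁) (B := S₁) (S₁ ⊗[S] N) R'' W (W ⊗[S₁] (S₁ ⊗[S] N)) hpo'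
        (TensorProduct.mk S₁ W (S₁ ⊗[S] N) 1) (TensorProduct.isBaseChange S₁ (S₁ ⊗[S] N) W)
    let e : W ⊗[S₁] (S₁ ⊗[S] N) ≃ₗ[W] W ⊗[S] N :=
      AlgebraTensorModule.cancelBaseChange S S₁ W W N
    haveI := h1
    haveI : Module.Projective R'' (W ⊗[S] N) :=
      Module.Projective.of_equiv (e.restrictScalars R'')
    exact Module.Projective.of_equiv (restrictScalarsEquiv R'' W (W ⊗[S] N))

/-- **S1241 with the covering primes lying over `p'`.** -/
theorem projective_cover_of_fiber {R S : Type u} [CommRing R] [CommRing S] [Algebra R S]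
    [Algebra.FinitePresentation R S]
    (N : Type u) [AddCommGroup N] [Module S N] [Module R N] [IsScalarTower R S N]
    [Module.FinitePresentation S N]
    (p : Ideal R) [p.IsPrime]
    (hflat : ∀ (q : Ideal S) [q.IsPrime], q.LiesOver p → FlatCA.FlatAt R q N) :
    ∃ (R' S' : Type u) (_ : CommRing R') (_ : CommRing S') (_ : Algebra R R') (_ : Algebra S S')
      (_ : Algebra R' S') (_ : Algebra R S') (_ : IsScalarTower R R' S') (_ : IsScalarTower R S S')
      (p' : Ideal R') (_ : p'.IsPrime),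
      FlatCA.IsEtaleNhd R R' p p' ∧ Algebra.Etale S S' ∧
      (∀ (q : Ideal S) [q.IsPrime], q.LiesOver p → ∃ q' : Ideal S', q'.IsPrime ∧
        q'.comap (algebraMap S S') = q ∧ q'.comap (algebraMap R' S') = p') ∧
      Module.Projective R' (RestrictScalars R' S' (S' ⊗[S] N)) := by
  classical
  have hlocal : ∀ q : {q : PrimeSpectrum S // q.asIdeal.LiesOver p},
      Groth.Agent.Lib.helper26.RGProj.ProjConcl R S N p q.1.asIdeal := fun q => by
    haveI := q.2
    exact Groth.Agent.S1202.result N p q.1.asIdeal (hflat q.1.asIdeal q.2)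
  unfold Groth.Agent.Lib.helper26.RGProj.ProjConcl at hlocal
  choose R' S' cR' cS' aRR' aSS' aR'S' aRS' tw1 tw2 p' q' hp' hq' hEtR hEtS hq'p' hproj
    using hlocal
  have hUex : ∀ q : {q : PrimeSpectrum S // q.asIdeal.LiesOver p},
      ∃ U : Set (PrimeSpectrum S), IsOpen U ∧ q.1 ∈ U ∧
        ∀ (q₂ : Ideal S) [hq₂ : q₂.IsPrime], q₂.LiesOver p →
          (⟨q₂, hq₂⟩ : PrimeSpectrum S) ∈ U →
          ∃ (y : Ideal (S' q)) (_ : y.IsPrime), y.LiesOver q₂ ∧ y.LiesOver (p' q) := fun q => by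
    haveI := hq'p' q
    exact Groth.Agent.Lib.helper26.FibCov.exists_open_hit p q.1.asIdeal (p' q) (q' q) (hEtR q)
      (hEtS q)
  choose U hUopen hUmem hUhit using hUex
  let U' : PrimeSpectrum S → Set (PrimeSpectrum S) := fun q =>
    if h : q.asIdeal.LiesOver p then U ⟨q, h⟩ else Set.univ
  obtain ⟨T, hTover, hTcover⟩ := Groth.Agent.Lib.helper26.FibCov.exists_finite_subcover p U'
    (fun q hq => by
      simp only [U', dif_pos hq]
      exact ⟨hUopen _, hUmem _⟩)
  let j : ↥T → {q : PrimeSpectrum S // q.asIdeal.LiesOver p} :=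
    fun t => ⟨t.1, hTover t.1 t.2⟩
  obtain ⟨R'', cR'', aRR'', p'', hp'', hEt'', hφ⟩ :=
    Groth.Agent.Lib.helper26.FibCov.exists_common_refinement p (fun t : ↥T => R' (j t))
      (fun t => p' (j t)) (fun t => hEtR (j t)) Finset.univ
  choose φ hφc using (fun t : ↥T => hφ t (Finset.mem_univ t))
  have hW := fun t : ↥T =>
    haveI : Algebra.Etale S (S' (j t)) := (hEtS (j t)).1
    exists_refined_projective' N p (p' (j t)) (hEtR (j t))
      (hproj (j t)) R'' p'' hEt'' (φ t) (hφc t)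
  choose W cW aR''W aSW aRW twRR''W twRSW hW using hW
  haveI : ∀ t, Algebra.Etale S (W t) := fun t => (hW t).1
  refine ⟨R'', ∀ t, W t, cR'', inferInstance, aRR'', inferInstance, inferInstance, inferInstance,
    inferInstance, inferInstance, p'', hp'', hEt'', inferInstance, ?_, ?_⟩
  · intro q hq hqp
    obtain ⟨q₀, hq₀T, hq₀⟩ := hTcover ⟨q, hq⟩ hqp
    have hq₀p := hTover q₀ hq₀T
    simp only [U', dif_pos hq₀p] at hq₀
    obtain ⟨y, hy, hyq, hyp'⟩ := hUhit ⟨q₀, hq₀p⟩ q hqp hq₀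
    obtain ⟨x, hxprime, hx, hxp''⟩ := (hW ⟨q₀, hq₀T⟩).2.1 y hyp'
    refine ⟨x.comap (Pi.evalRingHom W ⟨q₀, hq₀T⟩), Ideal.comap_isPrime _ _, ?_, ?_⟩
    · have h1 : (x.comap (Pi.evalRingHom W ⟨q₀, hq₀T⟩)).comap (algebraMap S (∀ t, W t)) =
          x.comap (algebraMap S (W ⟨q₀, hq₀T⟩)) := Ideal.ext fun s => Iff.rfl
      rw [h1, hx]
      exact hyq.over.symm
    · have h1 : (x.comap (Pi.evalRingHom W ⟨q₀, hq₀T⟩)).comap (algebraMap R'' (∀ t, W t)) =
          x.comap (algebraMap R'' (W ⟨q₀, hq₀T⟩)) := Ideal.ext fun s => Iff.rfl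
      rw [h1, hxp'']
  · exact Groth.Agent.Lib.helper26.FibCov.projective_pi_tensor N W fun t => (hW t).2.2

end Groth.Agent.Lib.helper26.PureProj
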