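import Mathlib
import Groth.Prelude.Def_FlatCA
import Groth.Agent.Lib.Helper26.Purity1
import Groth.Agent.Lib.Helper26.Purity7

/-!
# Impurities over quasi-finite base changes come from elementary étale neighbourhoods (helper26)

* `exists_isImpurity_of_split`: the abstract transfer of an impurity over `(A', t)` to an impurity
  over `(R, r)` when `C = R ⊗ A'` has an idempotent `e` with `C_e` integral over `R` and a unique
  prime `v` in `D(e)` over `r`, lying over `t`.
* `hasImpurity_etaleNhd_of_isImpurity_quasiFiniteAt`: the consequence for base changes `A → A'`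
  of finite type which are quasi-finite at `t`.
-/

set_option autoImplicit false
set_option linter.style.haveILetI false
set_option linter.unusedSectionVars false
universe u

namespace Groth.Agent.Lib.helper26.Purity

open TensorProduct FlatCA Polynomial

attribute [local instance] Algebra.TensorProduct.rightAlgebra

variable {A B : Type u} [CommRing A] [CommRing B] [Algebra A B] [Algebra.FiniteType A B]
  (N : Type u) [AddCommGroup N] [Module B N] (p : Ideal A) [p.IsPrime]
  (A' B' N' : Type u) [CommRing A'] [CommRing B'] [Algebra A A'] [Algebra B B'] [Algebra A' B']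
  [Algebra A B'] [IsScalarTower A B B'] [IsScalarTower A A' B']
  [AddCommGroup N'] [Module B' N'] [Module B N'] [IsScalarTower B B' N'] [Module A' N']
  [IsScalarTower A' B' N'] (f : N →ₗ[B] N') (t' t : Ideal A') [t'.IsPrime] [t.IsPrime]
  (P : Ideal B') [P.IsPrime]
  -- the neighbourhood `R` and the ring `C = R ⊗ A'`
  (R C : Type u) [CommRing R] [CommRing C] [Algebra A R] [Algebra R C] [Algebra A' C] [Algebra A C]
  [IsScalarTower A R C] [IsScalarTower A A' C] [Algebra.IsPushout A R A' C] [Module.Flat A R]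
  (r : Ideal R) [r.IsPrime] [r.LiesOver p] (e : C) (v : Ideal C) [v.IsPrime] [v.LiesOver r]
  [v.LiesOver t]
  -- the base change of `B`, `N` to `R`
  (BR NR : Type u) [CommRing BR] [Algebra R BR] [Algebra B BR] [Algebra A BR] [IsScalarTower A B BR]
  [IsScalarTower A R BR] [Algebra.IsPushout A B R BR] [AddCommGroup NR] [Module BR NR] [Module B NR]
  [IsScalarTower B BR NR] [Module R NR] [IsScalarTower R BR NR] (fR : N →ₗ[B] NR)

theorem exists_isImpurity_of_split
    (himp : IsImpurity A B N p A' B' N' f t' t P) (hfR : IsBaseChange BR fR)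
    (he : IsIdempotentElem e) (hev : e ∉ v)
    (hint : ∀ c : C, ∃ g : R[X], g.Monic ∧ e * Polynomial.aeval c g = 0)
    (huniq : ∀ w : Ideal C, w.IsPrime → w.LiesOver r → e ∉ w → w = v) :
    ∃ (r' : Ideal R) (PR : Ideal BR) (_ : r'.IsPrime) (_ : PR.IsPrime),
      IsImpurity A B N p R BR NR fR r' r PR := by
  obtain ⟨hpush, hbc, hle, htp, hPt', hass, hno⟩ := himp
  haveI := hpush
  haveI := htp
  haveI := hPt'
  haveI : Module.Flat A' C := by
    haveI : Algebra.IsPushout A A' R C := Algebra.IsPushout.symm inferInstance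
    exact Module.Flat.isBaseChange A A' R C (Algebra.IsPushout.out)
  obtain ⟨t₁, ht₁v, _, _⟩ := Ideal.exists_ideal_le_liesOver_of_le (p := t') (q := t) v hle
  haveI : Algebra.FiniteType A' B' := by
    haveI : Algebra.IsPushout A A' B B' := Algebra.IsPushout.symm inferInstance
    exact Algebra.FiniteType.equiv inferInstance (Algebra.IsPushout.equiv A A' B B')
  have hfC := TensorProduct.isBaseChange B' N' (C ⊗[A'] B')
  obtain ⟨P₁, _, hP₁P, _, hass₁⟩ := exists_prime_fiberIdeal_mem_associatedPrimes N' C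
    (C ⊗[A'] B') ((C ⊗[A'] B') ⊗[B'] N') _ hfC t' t₁ P hass
  -- algebra structures on `BC = C ⊗[A'] B'`
  letI algBBC : Algebra B (C ⊗[A'] B') :=
    ((algebraMap B' (C ⊗[A'] B')).comp (algebraMap B B')).toAlgebra
  haveI : IsScalarTower B B' (C ⊗[A'] B') := IsScalarTower.of_algebraMap_eq fun _ => rfl
  haveI : IsScalarTower A B' (C ⊗[A'] B') := by
    refine IsScalarTower.of_algebraMap_eq (R := A) (S := B') (A := C ⊗[A'] B') fun a => ?_
    rw [IsScalarTower.algebraMap_apply A A' (C ⊗[A'] B'),
      IsScalarTower.algebraMap_apply A' B' (C ⊗[A'] B'), ← IsScalarTower.algebraMap_apply A A' B']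
  haveI : IsScalarTower A B (C ⊗[A'] B') := by
    refine IsScalarTower.of_algebraMap_eq (R := A) (S := B) (A := C ⊗[A'] B') fun a => ?_
    rw [IsScalarTower.algebraMap_apply A B' (C ⊗[A'] B'), IsScalarTower.algebraMap_apply A B B',
      ← IsScalarTower.algebraMap_apply B B' (C ⊗[A'] B')]
  haveI : IsScalarTower A R (C ⊗[A'] B') := by
    refine IsScalarTower.of_algebraMap_eq (R := A) (S := R) (A := C ⊗[A'] B') fun a => ?_
    rw [IsScalarTower.algebraMap_apply A C (C ⊗[A'] B'), IsScalarTower.algebraMap_apply A R C,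
      ← IsScalarTower.algebraMap_apply R C (C ⊗[A'] B')]
  let f₀ : B →ₐ[A] (C ⊗[A'] B') := IsScalarTower.toAlgHom A B (C ⊗[A'] B')
  let g₀ : R →ₐ[A] (C ⊗[A'] B') := IsScalarTower.toAlgHom A R (C ⊗[A'] B')
  have hcomm : ∀ x y, f₀ x * g₀ y = g₀ y * f₀ x := fun _ _ => mul_comm _ _
  let ψ : BR →ₐ[A] (C ⊗[A'] B') := Algebra.pushoutDesc BR f₀ g₀ hcomm
  letI algBRBC : Algebra BR (C ⊗[A'] B') := ψ.toRingHom.toAlgebra
  haveI : IsScalarTower B BR (C ⊗[A'] B') := by
    refine IsScalarTower.of_algebraMap_eq (R := B) (S := BR) (A := C ⊗[A'] B') fun b => ?_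
    exact (Algebra.pushoutDesc_left BR f₀ g₀ hcomm b).symm
  haveI : IsScalarTower R BR (C ⊗[A'] B') := by
    refine IsScalarTower.of_algebraMap_eq (R := R) (S := BR) (A := C ⊗[A'] B') fun b => ?_
    exact (Algebra.pushoutDesc_right BR f₀ g₀ hcomm b).symm
  haveI : IsScalarTower A BR (C ⊗[A'] B') := by
    refine IsScalarTower.of_algebraMap_eq (R := A) (S := BR) (A := C ⊗[A'] B') fun a => ?_
    exact (ψ.commutes a).symm
  have hpushC : Algebra.IsPushout R BR C (C ⊗[A'] B') := by
    have h1 : Algebra.IsPushout A C B (C ⊗[A'] B') := by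
      haveI : Algebra.IsPushout A A' B B' := Algebra.IsPushout.symm inferInstance
      exact (Algebra.IsPushout.comp_iff A A' B B' (T := C) (T' := C ⊗[A'] B')).2 inferInstance
    haveI : Algebra.IsPushout A R B BR := Algebra.IsPushout.symm inferInstance
    exact Algebra.IsPushout.symm
      ((Algebra.IsPushout.comp_iff A R B BR (T := C) (T' := C ⊗[A'] B')).1 h1)
  haveI := hpushC
  -- the module map `NR → NC`
  have hcompN := IsBaseChange.comp hbc hfC
  let gC : NR →ₗ[BR] (C ⊗[A'] B') ⊗[B'] N' :=
    hfR.lift (((TensorProduct.mk B' (C ⊗[A'] B') N' 1).restrictScalars B).comp f)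
  have hgC : IsBaseChange (C ⊗[A'] B') gC := by
    apply IsBaseChange.of_comp hfR
    have : (gC : NR →ₗ[B] (C ⊗[A'] B') ⊗[B'] N') ∘ₗ fR =
        ((TensorProduct.mk B' (C ⊗[A'] B') N' 1).restrictScalars B).comp f := hfR.lift_comp _
    rw [this]
    exact hcompN
  have hassR := fiberIdeal_comap_mem_associatedPrimes NR C (C ⊗[A'] B')
    ((C ⊗[A'] B') ⊗[B'] N') gC hgC (t₁.under R) t₁ P₁ hass₁
  -- `1 - e` lies in `t₁`, hence in `P₁`
  have het₁ : e ∉ t₁ := fun h => hev (ht₁v h)
  have h1e : 1 - e ∈ t₁ := by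
    have h0 : e * (1 - e) ∈ t₁ := by
      rw [mul_sub, mul_one, he.eq, sub_self]
      exact Submodule.zero_mem _
    exact (Ideal.IsPrime.mem_or_mem inferInstance h0).resolve_left het₁
  have hP₁t₁ : P₁.comap (algebraMap C (C ⊗[A'] B')) = t₁ := (Ideal.LiesOver.over).symm
  have h1eP : algebraMap C (C ⊗[A'] B') (1 - e) ∈ P₁ := by
    rw [← Ideal.mem_comap, hP₁t₁]
    exact h1e
  set PR : Ideal BR := P₁.comap (algebraMap BR (C ⊗[A'] B')) with hPR
  haveI : PR.IsPrime := Ideal.comap_isPrime _ _
  haveI hP₁PR : P₁.LiesOver PR := ⟨rfl⟩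
  refine ⟨t₁.under R, PR, inferInstance, inferInstance, inferInstance, hfR, ?_, inferInstance, ?_,
    hassR, ?_⟩
  · -- `r' ≤ r`
    rw [Ideal.LiesOver.over (p := r) (P := v)]
    exact Ideal.comap_mono ht₁v
  · -- `PR` lies over `r'`
    constructor
    rw [Ideal.under_def, Ideal.under_def, hPR, Ideal.comap_comap, ← hP₁t₁, Ideal.comap_comap]
    congr 1
    ext x
    simp only [RingHom.comp_apply]
    rw [← IsScalarTower.algebraMap_apply R C (C ⊗[A'] B'),
      ← IsScalarTower.algebraMap_apply R BR (C ⊗[A'] B')]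
  · -- no specialization over `r`
    intro Q hQ hPRQ hQr
    -- integrality of `BC ⧸ P₁` over `BR`
    have hintC : ∀ c : C, IsIntegral BR
        (Ideal.Quotient.mk P₁ (algebraMap C (C ⊗[A'] B') c)) := by
      intro c
      obtain ⟨g, hg, hge⟩ := hint c
      have h2 : IsIntegral R (Ideal.Quotient.mk P₁ (algebraMap C (C ⊗[A'] B') c)) := by
        refine ⟨g, hg, ?_⟩
        have h3 : Polynomial.eval₂ (algebraMap R ((C ⊗[A'] B') ⧸ P₁))
            (Ideal.Quotient.mk P₁ (algebraMap C (C ⊗[A'] B') c)) g =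
            Ideal.Quotient.mk P₁ (algebraMap C (C ⊗[A'] B') (Polynomial.aeval c g)) := by
          rw [Polynomial.aeval_def, Polynomial.hom_eval₂, Polynomial.hom_eval₂]
          congr 1
        rw [h3, Ideal.Quotient.eq_zero_iff_mem]
        have h4 : Polynomial.aeval c g = e * Polynomial.aeval c g +
            (1 - e) * Polynomial.aeval c g := by ring
        rw [h4, hge, zero_add, map_mul]
        exact Ideal.mul_mem_right _ _ h1eP
      exact h2.tower_top
    have hintBC : ∀ x : C ⊗[A'] B', IsIntegral BR (Ideal.Quotient.mk P₁ x) := by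
      intro x
      refine hpushC.out.inductionOn x (fun x => IsIntegral BR (Ideal.Quotient.mk P₁ x)) ?_ ?_ ?_ ?_
      · rw [map_zero]
        exact isIntegral_zero
      · intro c
        exact hintC c
      · intro b x hx
        have h5 : Ideal.Quotient.mk P₁ (b • x) = b • Ideal.Quotient.mk P₁ x := by
          rw [Algebra.smul_def, map_mul, Algebra.smul_def]
          rfl
        rw [h5]
        exact IsIntegral.smul b hx
      · intro x y hx hy
        rw [map_add]
        exact hx.add hy
    obtain ⟨Q₁, hQ₁, hP₁Q₁, hQ₁Q⟩ :=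
      exists_prime_ge_liesOver_of_isIntegral PR Q hPRQ P₁ hintBC
    -- the prime `w` of `C` below `Q₁`
    have hw : Q₁.under C = v := by
      apply huniq
      · exact Ideal.comap_isPrime _ _
      · constructor
        have h6 : (Q₁.under C).under R = (Q₁.under BR).under R := by
          rw [Ideal.under_def, Ideal.under_def, Ideal.under_def, Ideal.under_def,
            Ideal.comap_comap, Ideal.comap_comap]
          congr 1
          ext x
          simp only [RingHom.comp_apply]
          rw [← IsScalarTower.algebraMap_apply R C (C ⊗[A'] B'),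
            ← IsScalarTower.algebraMap_apply R BR (C ⊗[A'] B')]
        rw [h6, ← hQ₁Q.over, ← hQr.over]
      · intro hew
        have h7 : algebraMap C (C ⊗[A'] B') e ∈ Q₁ := hew
        have h8 : algebraMap C (C ⊗[A'] B') (1 - e) ∈ Q₁ := hP₁Q₁ h1eP
        have h9 : (1 : C ⊗[A'] B') ∈ Q₁ := by
          have := Q₁.add_mem h7 h8
          rwa [← map_add, add_sub_cancel, map_one] at this
        exact hQ₁.ne_top ((Ideal.eq_top_iff_one _).2 h9)
    -- the prime of `B'` below `Q₁`
    refine hno (Q₁.comap (algebraMap B' (C ⊗[A'] B'))) ?_ ?_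
    · rw [← hP₁P]
      exact Ideal.comap_mono hP₁Q₁
    · constructor
      have h10 : (Q₁.comap (algebraMap B' (C ⊗[A'] B'))).under A' = (Q₁.under C).under A' := by
        rw [Ideal.under_def, Ideal.under_def, Ideal.under_def, Ideal.comap_comap,
          Ideal.comap_comap]
        congr 1
        ext x
        simp only [RingHom.comp_apply]
        rw [← IsScalarTower.algebraMap_apply A' C (C ⊗[A'] B'),
          ← IsScalarTower.algebraMap_apply A' B' (C ⊗[A'] B')]
      rw [h10, hw]
      exact Ideal.LiesOver.over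

section Final

variable {A B : Type u} [CommRing A] [CommRing B] [Algebra A B] [Algebra.FiniteType A B]
  (N : Type u) [AddCommGroup N] [Module B N] (p : Ideal A) [p.IsPrime]
  (A' B' N' : Type u) [CommRing A'] [CommRing B'] [Algebra A A'] [Algebra B B'] [Algebra A' B']
  [Algebra A B'] [IsScalarTower A B B'] [IsScalarTower A A' B']
  [AddCommGroup N'] [Module B' N'] [Module B N'] [IsScalarTower B B' N'] [Module A' N']
  [IsScalarTower A' B' N'] (f : N →ₗ[B] N') (t' t : Ideal A') [t'.IsPrime] [t.IsPrime]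
  (P : Ideal B') [P.IsPrime]

/-- integrality of `C_e` over `R` in elementary form. -/
theorem exists_monic_mul_aeval_eq_zero {R C : Type u} [CommRing R] [CommRing C] [Algebra R C]
    (e : C) (he : IsIdempotentElem e) [Module.Finite R (Localization.Away e)] (c : C) :
    ∃ g : R[X], g.Monic ∧ e * Polynomial.aeval c g = 0 := by
  have h1 : IsIntegral R (algebraMap C (Localization.Away e) c) :=
    Algebra.IsIntegral.isIntegral _
  obtain ⟨g, hg, hg0⟩ := h1
  refine ⟨g, hg, ?_⟩
  have h2 : algebraMap C (Localization.Away e) (Polynomial.aeval c g) = 0 := by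
    rw [Polynomial.aeval_def, Polynomial.hom_eval₂, ← IsScalarTower.algebraMap_eq]
    exact hg0
  rw [← map_zero (algebraMap C (Localization.Away e)),
    IsLocalization.eq_iff_exists (Submonoid.powers e)] at h2
  obtain ⟨⟨m, n, rfl⟩, hm⟩ := h2
  rw [mul_zero] at hm
  have hm' : e ^ n * Polynomial.aeval c g = 0 := hm
  rcases n with _ | n
  · rw [pow_zero, one_mul] at hm'
    rw [hm', mul_zero]
  · rwa [he.pow_succ_eq] at hm'

theorem hasImpurity_etaleNhd_of_isImpurity_quasiFiniteAt
    (himp : IsImpurity A B N p A' B' N' f t' t P) [Algebra.FiniteType A A']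
    [Algebra.QuasiFiniteAt A t] :
    HasImpurity A B N p (fun A' _ _ t => ∃ _ : t.IsPrime, IsEtaleNhd A A' p t) := by
  haveI : t.LiesOver p := himp.2.2.2.1
  obtain ⟨R, _, _, hRet, r, _, _, e, he, v, _, _, hvt, hev, hbij, hfin, huniq⟩ :=
    Algebra.exists_etale_isIdempotentElem_forall_liesOver_eq (R := A) (S := A') p t
  haveI hvt' : v.LiesOver t := ⟨hvt.symm⟩
  obtain ⟨r', PR, _, _, himpR⟩ := exists_isImpurity_of_split N p A' B' N' f t' t P R (R ⊗[A] A') r e v
    (R ⊗[A] B) ((R ⊗[A] B) ⊗[B] N) (TensorProduct.mk B (R ⊗[A] B) N 1) himp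
    (TensorProduct.isBaseChange B N (R ⊗[A] B)) he hev
    (exists_monic_mul_aeval_eq_zero e he) huniq
  exact ⟨R, R ⊗[A] B, (R ⊗[A] B) ⊗[B] N, inferInstance, inferInstance, inferInstance, inferInstance,
    inferInstance, inferInstance, inferInstance, inferInstance, inferInstance, inferInstance,
    inferInstance, inferInstance, inferInstance, inferInstance, _, r', r, inferInstance,
    inferInstance, PR, inferInstance, himpR, inferInstance, hRet, inferInstance, hbij⟩

end Final

end Groth.Agent.Lib.helper26.Purity
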