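import Mathlib
import Groth.Prelude.Def_FlatCA
import Groth.Agent.Lib.Helper26.Purity4
import Groth.Agent.Lib.Helper26.Purity8

/-!
# Purity is preserved by quasi-finite base change (helper26)

* `quasiFiniteAt_trans`: transitivity of quasi-finiteness at a prime.
* `isPureAlong_baseChange_of_quasiFiniteAt`: purity along a fibre is preserved by base changes
  of finite type which are quasi-finite at the point.
-/

set_option autoImplicit false
set_option linter.style.haveILetI false
set_option linter.unusedSectionVars false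
universe u

namespace Groth.Agent.Lib.helper26.Purity

open TensorProduct FlatCA

theorem quasiFiniteAt_trans {A A' A'' : Type u} [CommRing A] [CommRing A'] [CommRing A'']
    [Algebra A A'] [Algebra A' A''] [Algebra A A''] [IsScalarTower A A' A'']
    (p' : Ideal A') [p'.IsPrime] [Algebra.QuasiFiniteAt A p'] [Algebra.QuasiFinite A' A'']
    (t : Ideal A'') [t.IsPrime] [t.LiesOver p'] : Algebra.QuasiFiniteAt A t := by
  have hover : p' = t.comap (algebraMap A' A'') := Ideal.LiesOver.over
  let g₁ : Localization.AtPrime p' →ₐ[A'] Localization.AtPrime t :=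
    ⟨Localization.localRingHom p' t (algebraMap A' A'') hover, fun a => by
      simp [IsScalarTower.algebraMap_apply A' A'' (Localization.AtPrime t),
        Localization.localRingHom_to_map]⟩
  let g₂ : A'' →ₐ[A'] Localization.AtPrime t := IsScalarTower.toAlgHom A' A'' _
  let f : Localization.AtPrime p' ⊗[A'] A'' →ₐ[A'] Localization.AtPrime t :=
    Algebra.TensorProduct.lift g₁ g₂ (fun _ _ => Commute.all _ _)
  haveI : Algebra.QuasiFinite A (Localization.AtPrime p' ⊗[A'] A'') :=
    Algebra.QuasiFinite.trans A (Localization.AtPrime p') _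
  refine Algebra.QuasiFinite.of_forall_exists_mul_mem_range (f.restrictScalars A) fun x => ?_
  obtain ⟨x, ⟨s, hs⟩, rfl⟩ := IsLocalization.exists_mk'_eq t.primeCompl x
  refine ⟨1 ⊗ₜ s, ?_, 1 ⊗ₜ x, ?_⟩
  · have : f (1 ⊗ₜ s) = algebraMap A'' (Localization.AtPrime t) s := by
      simp [f, g₂]
    show IsUnit (f (1 ⊗ₜ s))
    rw [this]
    exact IsLocalization.map_units _ ⟨s, hs⟩
  · show f (1 ⊗ₜ x) = _ * f (1 ⊗ₜ s)
    simp [f, g₂]

section BaseChange

variable {A B : Type u} [CommRing A] [CommRing B] [Algebra A B] [Algebra.FiniteType A B]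
  (N : Type u) [AddCommGroup N] [Module B N] (p : Ideal A) [p.IsPrime]
  (A' B' N' : Type u) [CommRing A'] [CommRing B'] [Algebra A A'] [Algebra B B'] [Algebra A' B']
  [Algebra A B'] [IsScalarTower A B B'] [IsScalarTower A A' B'] [Algebra.IsPushout A B A' B']
  [AddCommGroup N'] [Module B' N'] [Module B N'] [IsScalarTower B B' N'] (f : N →ₗ[B] N')
  (hf : IsBaseChange B' f) (p' : Ideal A') [p'.IsPrime] [p'.LiesOver p]
  [Algebra.FiniteType A A'] [Algebra.QuasiFiniteAt A p']

include hf in
/-- **Purity is preserved by quasi-finite base change.** -/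
theorem isPureAlong_baseChange_of_quasiFiniteAt (h : IsPureAlong A B N p) :
    IsPureAlong A' B' N' p' := by
  intro A'' B'' N'' _ _ _ _ _ _ _ _ _ _ _ _ _ _ f' t' t _ _ P _ hEt himp
  obtain ⟨hEtale, hover, -⟩ := hEt
  haveI := hEtale
  haveI := hover
  letI : Algebra A A'' := ((algebraMap A' A'').comp (algebraMap A A')).toAlgebra
  haveI : IsScalarTower A A' A'' := IsScalarTower.of_algebraMap_eq fun _ => rfl
  letI : Algebra B B'' := ((algebraMap B' B'').comp (algebraMap B B')).toAlgebra
  haveI : IsScalarTower B B' B'' := IsScalarTower.of_algebraMap_eq fun _ => rfl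
  letI : Algebra A B'' := ((algebraMap A'' B'').comp (algebraMap A A'')).toAlgebra
  haveI : IsScalarTower A A'' B'' := IsScalarTower.of_algebraMap_eq fun _ => rfl
  haveI : IsScalarTower A B B'' := by
    refine IsScalarTower.of_algebraMap_eq (R := A) (S := B) (A := B'') fun a => ?_
    rw [IsScalarTower.algebraMap_apply A A'' B'', IsScalarTower.algebraMap_apply A A' A'',
      ← IsScalarTower.algebraMap_apply A' A'' B'', IsScalarTower.algebraMap_apply A' B' B'',
      ← IsScalarTower.algebraMap_apply A A' B', IsScalarTower.algebraMap_apply A B B',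
      ← IsScalarTower.algebraMap_apply B B' B'']
  letI : Module B N'' := Module.compHom N'' (algebraMap B B')
  haveI : IsScalarTower B B' N'' := IsScalarTower.of_algebraMap_smul fun _ _ => rfl
  haveI : IsScalarTower B B'' N'' := by
    refine ⟨fun b b'' n => ?_⟩
    show (algebraMap B B'' b * b'') • n = algebraMap B B' b • (b'' • n)
    rw [IsScalarTower.algebraMap_apply B B' B'', mul_smul, algebraMap_smul]
  have himp' := isImpurity_comp N p A' B' N' f hf p' A'' B'' N'' f' t' t P himp
  haveI : Algebra.FiniteType A A'' := Algebra.FiniteType.trans (S := A') inferInstance inferInstance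
  haveI : Algebra.QuasiFiniteAt A t := quasiFiniteAt_trans p' t
  obtain ⟨R, BR, NR, _, _, _, _, _, _, _, _, _, _, _, _, _, _, fR, r', r, _, _, PR, _, himpR, _,
    hEtR⟩ := hasImpurity_etaleNhd_of_isImpurity_quasiFiniteAt N p A'' B'' N'' _ t' t P himp'
  exact h R BR NR fR r' r PR hEtR himpR

end BaseChange

end Groth.Agent.Lib.helper26.Purity
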