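/-
Helper library (helper26): towards Raynaud–Gruson "pure + flat ⇒ projective".
Part 7: a flat finitely presented module pure along the fibre over `p` becomes projective over an
elementary étale neighbourhood of `p`.
-/
import Mathlib
import Groth.Prelude.Def_FlatCA
import Groth.Agent.Lib.Helper26.PureProj5
import Groth.Agent.Lib.Helper26.PureProj6
import Groth.Agent.Lib.Helper26.Purity9
import Groth.Agent.Lib.Helper26.RGFlat5
import Groth.Agent.Lib.Helper26.DevMain2
import Groth.Agent.Lib.Helper26.GeomIrrNbhd9
import Groth.Agent.Lib.Helper3.BijRes3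

set_option autoImplicit false
set_option linter.style.haveILetI false
set_option linter.unusedSectionVars false

namespace Groth.Agent.Lib.helper26.PureProj

open TensorProduct FlatCA

universe u

set_option maxHeartbeats 1600000 in
theorem exists_etaleNhd_projective_of_pureAlong {A B : Type u} [CommRing A] [CommRing B]
    [Algebra A B] [Algebra.FinitePresentation A B]
    (N : Type u) [AddCommGroup N] [Module B N] [Module A N] [IsScalarTower A B N]
    [Module.FinitePresentation B N] [Module.Flat A N]
    (p : Ideal A) [p.IsPrime] (hpure : IsPureAlong A B N p) :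
    ∃ (A'' : Type u) (_ : CommRing A'') (_ : Algebra A A'') (p'' : Ideal A'') (_ : p''.IsPrime),
      IsEtaleNhd A A'' p p'' ∧ Module.Projective A'' (A'' ⊗[A] N) := by
  obtain ⟨A', W, _, _, _, _, _, _, _, _, p', _, hEt, hEtW, hcov, hproj⟩ :=
    projective_cover_of_fiber N p
      (fun q _ _ => Groth.Agent.Lib.helper3.FpLocal.flat_localizedModule (R := A) (A := B)
        q.primeCompl N)
  obtain ⟨etA', hp'p, hκ⟩ := id hEt
  haveI := etA'
  haveI := hp'p
  haveI := hEtW
  obtain ⟨BA, _, algABA, algBBA, algA'BA, tw1, tw2, hpo⟩ :=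
    Groth.Agent.Lib.helper26.RGFlat.exists_pushout_model A B A'
  haveI := hpo
  haveI hpos : Algebra.IsPushout A A' B BA := Algebra.IsPushout.symm hpo
  haveI : Algebra.Etale B BA := Algebra.Etale.of_equiv (Algebra.IsPushout.equiv A B A' BA)
  haveI : Algebra.FinitePresentation A' BA :=
    Algebra.FinitePresentation.equiv (Algebra.IsPushout.equiv A A' B BA)
  -- `W` as a `BA`-algebra
  let f₀ : B →ₐ[A] W := IsScalarTower.toAlgHom A B W
  let g₀ : A' →ₐ[A] W := IsScalarTower.toAlgHom A A' W
  have hcomm : ∀ x y, f₀ x * g₀ y = g₀ y * f₀ x := fun _ _ => mul_comm _ _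
  let ψ : BA →ₐ[A] W := Algebra.pushoutDesc BA f₀ g₀ hcomm
  letI algBAW : Algebra BA W := ψ.toRingHom.toAlgebra
  haveI twBBAW : IsScalarTower B BA W := by
    refine IsScalarTower.of_algebraMap_eq (R := B) (S := BA) (A := W) fun b => ?_
    exact (Algebra.pushoutDesc_left BA f₀ g₀ hcomm b).symm
  haveI twA'BAW : IsScalarTower A' BA W := by
    refine IsScalarTower.of_algebraMap_eq (R := A') (S := BA) (A := W) fun b => ?_
    exact (Algebra.pushoutDesc_right BA f₀ g₀ hcomm b).symm
  haveI : Algebra.Etale BA W := Algebra.Etale.of_restrictScalars (R := B) (A := BA) (B := W)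
  -- the module
  let fA : N →ₗ[B] BA ⊗[B] N := TensorProduct.mk B BA N 1
  have hfA : IsBaseChange BA fA := TensorProduct.isBaseChange B N BA
  haveI : Module.Flat A' (BA ⊗[B] N) :=
    Module.Flat.of_linearEquiv (Algebra.IsPushout.cancelBaseChange A A' B BA N)
  have hpureA : IsPureAlong A' BA (BA ⊗[B] N) p' :=
    Groth.Agent.Lib.helper26.Purity.isPureAlong_baseChange_of_quasiFiniteAt N p A' BA (BA ⊗[B] N)
      fA hfA p' hpure
  -- the covering
  have hfib : ∀ (Q : Ideal BA) [Q.IsPrime], Q.LiesOver p' →
      ∃ q' : Ideal W, q'.IsPrime ∧ q'.comap (algebraMap BA W) = Q := by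
    intro Q hQ hQp'
    haveI : (Q.comap (algebraMap B BA)).IsPrime := Ideal.comap_isPrime _ _
    have hqp : (Q.comap (algebraMap B BA)).LiesOver p := by
      constructor
      rw [hp'p.over, hQp'.over, Ideal.under_def, Ideal.under_def, Ideal.under_def,
        Ideal.comap_comap, Ideal.comap_comap, ← IsScalarTower.algebraMap_eq,
        ← IsScalarTower.algebraMap_eq]
    obtain ⟨q', hq', hq'q, hq'p'⟩ := hcov (Q.comap (algebraMap B BA)) hqp
    haveI := hq'
    haveI : (q'.comap (algebraMap BA W)).IsPrime := Ideal.comap_isPrime _ _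
    refine ⟨q', hq', ?_⟩
    apply Groth.Agent.Lib.helper3.BijRes.eq_of_under_eq p p' hκ.2 B BA
    · rw [Ideal.under_def, Ideal.comap_comap, ← IsScalarTower.algebraMap_eq]
      exact hq'p'
    · exact hQp'.over.symm
    · rw [Ideal.under_def, Ideal.under_def, Ideal.comap_comap, ← IsScalarTower.algebraMap_eq]
      exact hq'q
  -- projectivity of the cover
  haveI : Module.Projective A' (W ⊗[B] N) :=
    Module.Projective.of_equiv
      (Groth.Agent.Lib.helper26.FibCov.restrictScalarsEquiv A' W (W ⊗[B] N)).symm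
  haveI : Module.Projective A' (W ⊗[BA] (BA ⊗[B] N)) :=
    Module.Projective.of_equiv
      ((AlgebraTensorModule.cancelBaseChange B BA W W N).symm.restrictScalars A')
  obtain ⟨f, hf, hprojf⟩ := exists_away_projective_of_pure (R := A') (S := BA) (W := W)
    (BA ⊗[B] N) p' hfib hpureA
  -- the neighbourhood
  haveI := hprojf
  have hdisj : Disjoint (Submonoid.powers f : Set A') (p' : Set A') := by
    rw [Set.disjoint_left]
    rintro _ ⟨n, rfl⟩ hmem
    exact hf (Ideal.IsPrime.mem_of_pow_mem ‹_› n hmem)
  have hprime : (p'.map (algebraMap A' (Localization.Away f))).IsPrime :=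
    IsLocalization.isPrime_of_isPrime_disjoint (Submonoid.powers f) _ p' ‹_› hdisj
  haveI := hprime
  haveI hlo : (p'.map (algebraMap A' (Localization.Away f))).LiesOver p' :=
    ⟨(IsLocalization.under_map_of_isPrime_disjoint (Submonoid.powers f) _ ‹_› hdisj).symm⟩
  have hEt₂ : IsEtaleNhd A' (Localization.Away f) p' (p'.map (algebraMap A' (Localization.Away f))) :=
    ⟨Algebra.Etale.of_isLocalizationAway f, hlo,
      Groth.Agent.Lib.helper26.GeomIrr.bijective_mapₐ_away f (Localization.Away f) p' _⟩
  refine ⟨Localization.Away f, inferInstance, inferInstance,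
    p'.map (algebraMap A' (Localization.Away f)), hprime,
    Groth.Agent.Lib.helper26.DevMain.isEtaleNhd_trans p p' _ hEt hEt₂, ?_⟩
  let e₁ : Localization.Away f ⊗[A'] (BA ⊗[B] N) ≃ₗ[Localization.Away f]
      Localization.Away f ⊗[A'] (A' ⊗[A] N) :=
    LinearEquiv.baseChange A' (Localization.Away f) _ _
      (Algebra.IsPushout.cancelBaseChange A A' B BA N)
  let e₂ : Localization.Away f ⊗[A'] (A' ⊗[A] N) ≃ₗ[Localization.Away f]
      Localization.Away f ⊗[A] N :=
    AlgebraTensorModule.cancelBaseChange A A' (Localization.Away f) (Localization.Away f) N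
  exact Module.Projective.of_equiv (e₁.trans e₂)

end Groth.Agent.Lib.helper26.PureProj
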