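/-
Helper library (helper26): Raynaud–Gruson "pure + flat ⇒ projective".
Part 8: gluing along a finite étale cover and the global statement.
-/
import Mathlib
import Groth.Prelude.Def_FlatCA
import Groth.Agent.Lib.Helper26.PureProj7
import Groth.Agent.Lib.Helper3.GIProj3
import Groth.Agent.S0585

set_option autoImplicit false
set_option linter.style.haveILetI false
set_option linter.unusedSectionVars false

namespace Groth.Agent.Lib.helper26.PureProj

open TensorProduct FlatCA

universe u

/-- a finite family of flat algebras over which `N` becomes projective can be replaced by a single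
flat algebra (their product) with the same image on spectra. -/
theorem exists_prod_projective {A : Type u} [CommRing A] (N : Type u) [AddCommGroup N]
    [Module A N] {ι : Type u} (C : ι → Type u) [∀ i, CommRing (C i)] [∀ i, Algebra A (C i)]
    [∀ i, Module.Flat A (C i)]
    (hproj : ∀ i, Module.Projective (C i) (C i ⊗[A] N)) (T : Finset ι) :
    ∃ (At : Type u) (_ : CommRing At) (_ : Algebra A At), Module.Flat A At ∧
      Module.Projective At (At ⊗[A] N) ∧
      ∀ i ∈ T, Set.range (PrimeSpectrum.comap (algebraMap A (C i))) ⊆
        Set.range (PrimeSpectrum.comap (algebraMap A At)) := by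
  classical
  induction T using Finset.induction_on with
  | empty =>
    exact ⟨PUnit, inferInstance, inferInstance, inferInstance, inferInstance, by simp⟩
  | insert i T hi ih =>
    obtain ⟨At, _, _, hfl, hpr, hcov⟩ := ih
    haveI := hfl
    haveI := hpr
    haveI := hproj i
    refine ⟨C i × At, inferInstance, inferInstance, Groth.Agent.Lib.helper3.CplProj.flat_prod,
      Groth.Agent.Lib.helper3.GIProj.projective_prod_baseChange (C i) At N, ?_⟩
    intro j hj
    rcases Finset.mem_insert.mp hj with rfl | hjT
    · rintro _ ⟨q, rfl⟩
      refine ⟨⟨q.asIdeal.comap (RingHom.fst (C j) At), Ideal.comap_isPrime _ _⟩, ?_⟩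
      apply PrimeSpectrum.ext
      exact Ideal.ext fun x => Iff.rfl
    · intro q hq
      obtain ⟨q', rfl⟩ := hcov j hjT hq
      refine ⟨⟨q'.asIdeal.comap (RingHom.snd (C i) At), Ideal.comap_isPrime _ _⟩, ?_⟩
      apply PrimeSpectrum.ext
      exact Ideal.ext fun x => Iff.rfl

/-- **Raynaud–Gruson: a flat finitely presented module which is pure is projective.** -/
theorem projective_of_isPure {A B : Type u} [CommRing A] [CommRing B] [Algebra A B]
    [Algebra.FinitePresentation A B]
    (N : Type u) [AddCommGroup N] [Module B N] [Module A N] [IsScalarTower A B N]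
    [Module.FinitePresentation B N] [Module.Flat A N] (hpure : IsPure A B N) :
    Module.Projective A N := by
  classical
  have hloc := fun p : PrimeSpectrum A =>
    exists_etaleNhd_projective_of_pureAlong N p.asIdeal (hpure p.asIdeal)
  choose C cC aC p'' hp'' hEt hproj using hloc
  haveI : ∀ p, Algebra.Etale A (C p) := fun p => (hEt p).1
  let U : PrimeSpectrum A → Set (PrimeSpectrum A) := fun p =>
    Set.range (PrimeSpectrum.comap (algebraMap A (C p)))
  have hUo : ∀ p, IsOpen (U p) := fun p =>
    (PrimeSpectrum.isOpenMap_comap_of_hasGoingDown_of_finitePresentation).isOpen_range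
  have hpU : ∀ p, p ∈ U p := fun p => by
    obtain ⟨-, hlo, -⟩ := hEt p
    exact ⟨⟨p'' p, hp'' p⟩, PrimeSpectrum.ext hlo.over.symm⟩
  obtain ⟨T, hT⟩ := isCompact_univ.elim_finite_subcover U hUo
    (fun p _ => Set.mem_iUnion.mpr ⟨p, hpU p⟩)
  obtain ⟨At, _, _, hfl, hpr, hcov⟩ := exists_prod_projective N C hproj T
  haveI := hfl
  haveI := hpr
  haveI : Module.FaithfullyFlat A At := Module.FaithfullyFlat.of_comap_surjective (fun q => by
    have hq := hT (Set.mem_univ q)
    simp only [Set.mem_iUnion] at hq
    obtain ⟨i, hiT, hqi⟩ := hq
    exact hcov i hiT hqi)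
  exact Groth.Agent.S0585.result A At N

end Groth.Agent.Lib.helper26.PureProj
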