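import Mathlib
import Groth.Prelude.Def_FlatCA
import Groth.Agent.Lib.Helper26.Purity1
import Groth.Agent.Lib.Helper26.Purity7

/-!
# Transfer of impurities along a base change (helper26)

`not_pure_of_isImpurity_of_le`: let `(A₁, t' ≤ t₁, P)` be an impurity of `N` above `p`, let
`(A', B', N')` be a base change of `(A, B, N)` with a prime `p'` over `p`, and let `C` be a ring
receiving compatible maps from `A₁` and `A'` with primes `t'' ≤ v` over `t' ≤ t₁` and `v` over `p'`.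
Then the base change of `N'` to `C` has an impurity above `p'` at `t'' ≤ v`.
-/

set_option autoImplicit false
set_option linter.style.haveILetI false
set_option linter.unusedSectionVars false
universe u

namespace Groth.Agent.Lib.helper26.Purity

open TensorProduct FlatCA

attribute [local instance] Algebra.TensorProduct.rightAlgebra

variable {A B : Type u} [CommRing A] [CommRing B] [Algebra A B] [Algebra.FiniteType A B]
  (N : Type u) [AddCommGroup N] [Module B N] (p : Ideal A) [p.IsPrime]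
  -- the target base change
  (A' B' N' : Type u) [CommRing A'] [CommRing B'] [Algebra A A'] [Algebra B B'] [Algebra A' B']
  [Algebra A B'] [IsScalarTower A B B'] [IsScalarTower A A' B'] [Algebra.IsPushout A B A' B']
  [AddCommGroup N'] [Module B' N'] [Module B N'] [IsScalarTower B B' N'] (f : N →ₗ[B] N')
  (p' : Ideal A') [p'.IsPrime] [p'.LiesOver p]
  -- the impurity
  (A₁ B₁ N₁ : Type u) [CommRing A₁] [CommRing B₁] [Algebra A A₁] [Algebra B B₁] [Algebra A₁ B₁]
  [Algebra A B₁] [IsScalarTower A B B₁] [IsScalarTower A A₁ B₁]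
  [AddCommGroup N₁] [Module B₁ N₁] [Module B N₁] [IsScalarTower B B₁ N₁] [Module A₁ N₁]
  [IsScalarTower A₁ B₁ N₁] (f₁ : N →ₗ[B] N₁) (t' t₁ : Ideal A₁) [t'.IsPrime] [t₁.IsPrime]
  (P : Ideal B₁) [P.IsPrime]
  -- the common refinement
  (C : Type u) [CommRing C] [Algebra A₁ C] [Algebra A' C] [Algebra A C] [IsScalarTower A A₁ C]
  [IsScalarTower A A' C] (t'' v : Ideal C) [t''.IsPrime] [v.IsPrime] [v.LiesOver t₁]
  [t''.LiesOver t'] [v.LiesOver p']

theorem not_pure_of_isImpurity_of_le (hf : IsBaseChange B' f)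
    (himp : IsImpurity A B N p A₁ B₁ N₁ f₁ t' t₁ P) (hle : t'' ≤ v) :
    (IsUnivPureAlong A' B' N' p' → False) ∧
      (IsEtaleNhd A' C p' v → IsPureAlong A' B' N' p' → False) := by
  obtain ⟨hpush, hbc, hle₁, htp, hPt', hass, hno⟩ := himp
  haveI := hpush
  haveI := htp
  haveI := hPt'
  haveI : Algebra.FiniteType A₁ B₁ := by
    haveI : Algebra.IsPushout A A₁ B B₁ := Algebra.IsPushout.symm inferInstance
    exact Algebra.FiniteType.equiv inferInstance (Algebra.IsPushout.equiv A A₁ B B₁)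
  have hfC := TensorProduct.isBaseChange B₁ N₁ (C ⊗[A₁] B₁)
  obtain ⟨P₁, _, hP₁P, _, hass₁⟩ := exists_prime_fiberIdeal_mem_associatedPrimes N₁ C
    (C ⊗[A₁] B₁) ((C ⊗[A₁] B₁) ⊗[B₁] N₁) _ hfC t' t'' P hass
  -- algebra structures on `BC = C ⊗[A₁] B₁`
  letI algBBC : Algebra B (C ⊗[A₁] B₁) :=
    ((algebraMap B₁ (C ⊗[A₁] B₁)).comp (algebraMap B B₁)).toAlgebra
  haveI : IsScalarTower B B₁ (C ⊗[A₁] B₁) := IsScalarTower.of_algebraMap_eq fun _ => rfl
  haveI : IsScalarTower A B₁ (C ⊗[A₁] B₁) := by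
    refine IsScalarTower.of_algebraMap_eq (R := A) (S := B₁) (A := C ⊗[A₁] B₁) fun a => ?_
    rw [IsScalarTower.algebraMap_apply A A₁ (C ⊗[A₁] B₁),
      IsScalarTower.algebraMap_apply A₁ B₁ (C ⊗[A₁] B₁), ← IsScalarTower.algebraMap_apply A A₁ B₁]
  haveI : IsScalarTower A B (C ⊗[A₁] B₁) := by
    refine IsScalarTower.of_algebraMap_eq (R := A) (S := B) (A := C ⊗[A₁] B₁) fun a => ?_
    rw [IsScalarTower.algebraMap_apply A B₁ (C ⊗[A₁] B₁), IsScalarTower.algebraMap_apply A B B₁,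
      ← IsScalarTower.algebraMap_apply B B₁ (C ⊗[A₁] B₁)]
  haveI : IsScalarTower A A' (C ⊗[A₁] B₁) := by
    refine IsScalarTower.of_algebraMap_eq (R := A) (S := A') (A := C ⊗[A₁] B₁) fun a => ?_
    rw [IsScalarTower.algebraMap_apply A C (C ⊗[A₁] B₁), IsScalarTower.algebraMap_apply A A' C,
      ← IsScalarTower.algebraMap_apply A' C (C ⊗[A₁] B₁)]
  let f₀ : B →ₐ[A] (C ⊗[A₁] B₁) := IsScalarTower.toAlgHom A B (C ⊗[A₁] B₁)
  let g₀ : A' →ₐ[A] (C ⊗[A₁] B₁) := IsScalarTower.toAlgHom A A' (C ⊗[A₁] B₁)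
  have hcomm : ∀ x y, f₀ x * g₀ y = g₀ y * f₀ x := fun _ _ => mul_comm _ _
  let ψ : B' →ₐ[A] (C ⊗[A₁] B₁) := Algebra.pushoutDesc B' f₀ g₀ hcomm
  letI algB'BC : Algebra B' (C ⊗[A₁] B₁) := ψ.toRingHom.toAlgebra
  haveI : IsScalarTower B B' (C ⊗[A₁] B₁) := by
    refine IsScalarTower.of_algebraMap_eq (R := B) (S := B') (A := C ⊗[A₁] B₁) fun b => ?_
    exact (Algebra.pushoutDesc_left B' f₀ g₀ hcomm b).symm
  haveI : IsScalarTower A' B' (C ⊗[A₁] B₁) := by
    refine IsScalarTower.of_algebraMap_eq (R := A') (S := B') (A := C ⊗[A₁] B₁) fun b => ?_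
    exact (Algebra.pushoutDesc_right B' f₀ g₀ hcomm b).symm
  haveI : IsScalarTower A B' (C ⊗[A₁] B₁) := by
    refine IsScalarTower.of_algebraMap_eq (R := A) (S := B') (A := C ⊗[A₁] B₁) fun a => ?_
    exact (ψ.commutes a).symm
  have hpushC : Algebra.IsPushout A' B' C (C ⊗[A₁] B₁) := by
    have h1 : Algebra.IsPushout A C B (C ⊗[A₁] B₁) := by
      haveI : Algebra.IsPushout A A₁ B B₁ := Algebra.IsPushout.symm inferInstance
      exact (Algebra.IsPushout.comp_iff A A₁ B B₁ (T := C) (T' := C ⊗[A₁] B₁)).2 inferInstance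
    haveI : Algebra.IsPushout A A' B B' := Algebra.IsPushout.symm inferInstance
    exact Algebra.IsPushout.symm
      ((Algebra.IsPushout.comp_iff A A' B B' (T := C) (T' := C ⊗[A₁] B₁)).1 h1)
  -- the module map `N' → NC`
  have hcompN := IsBaseChange.comp hbc hfC
  let gC : N' →ₗ[B'] (C ⊗[A₁] B₁) ⊗[B₁] N₁ :=
    hf.lift (((TensorProduct.mk B₁ (C ⊗[A₁] B₁) N₁ 1).restrictScalars B).comp f₁)
  have hgC : IsBaseChange (C ⊗[A₁] B₁) gC := by
    apply IsBaseChange.of_comp hf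
    have : (gC : N' →ₗ[B] (C ⊗[A₁] B₁) ⊗[B₁] N₁) ∘ₗ f =
        ((TensorProduct.mk B₁ (C ⊗[A₁] B₁) N₁ 1).restrictScalars B).comp f₁ := hf.lift_comp _
    rw [this]
    exact hcompN
  have himpC : IsImpurity A' B' N' p' C (C ⊗[A₁] B₁) ((C ⊗[A₁] B₁) ⊗[B₁] N₁) gC t'' v P₁ := by
    refine ⟨hpushC, hgC, hle, inferInstance, inferInstance, hass₁, ?_⟩
    intro Q hQ hP₁Q hQv
    refine hno (Q.comap (algebraMap B₁ (C ⊗[A₁] B₁))) ?_ ?_
    · rw [← hP₁P]
      exact Ideal.comap_mono hP₁Q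
    · constructor
      have h10 : (Q.comap (algebraMap B₁ (C ⊗[A₁] B₁))).under A₁ = (Q.under C).under A₁ := by
        rw [Ideal.under_def, Ideal.under_def, Ideal.under_def, Ideal.comap_comap,
          Ideal.comap_comap]
        congr 1
        ext x
        simp only [RingHom.comp_apply]
        rw [← IsScalarTower.algebraMap_apply A₁ C (C ⊗[A₁] B₁),
          ← IsScalarTower.algebraMap_apply A₁ B₁ (C ⊗[A₁] B₁)]
      rw [h10, ← hQv.over]
      exact Ideal.LiesOver.over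
  exact ⟨fun h => h C _ _ gC t'' v P₁ himpC, fun hEt h => h C _ _ gC t'' v P₁ hEt himpC⟩

end Groth.Agent.Lib.helper26.Purity
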