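import Mathlib

/-!
# Tensor products and filtered families of algebras (helper26)

Let `A'` be an `A`-algebra which is the "filtered colimit" of a family of `A`-algebras
`φ i : C i →ₐ[A] A'` in the elementary sense (`hobj`: two stages are dominated by a third,
`hker`: elements dying in `A'` die at a later stage, `hsurj`: joint surjectivity).  Then for every
`A`-module `M`, `A' ⊗[A] M` is the filtered colimit of the `C i ⊗[A] M`:

* `exists_rTensor_eq`: every element of `A' ⊗[A] M` comes from some `C i ⊗[A] M`;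
* `exists_map_rTensor_eq_zero`: an element of `C i ⊗[A] M` dying in `A' ⊗[A] M` dies in some
  later `C j ⊗[A] M`.
-/

set_option autoImplicit false
set_option linter.style.haveILetI false
set_option linter.unusedSectionVars false
universe u v

namespace Groth.Agent.Lib.helper26.Purity

open TensorProduct

section Family

variable {A A' : Type u} [CommRing A] [CommRing A'] [Algebra A A'] {ι : Type v} (C : ι → Type u)
  [∀ i, CommRing (C i)] [∀ i, Algebra A (C i)] (φ : ∀ i, C i →ₐ[A] A')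
  (hobj : ∀ i j, ∃ (k : ι) (ψ₁ : C i →ₐ[A] C k) (ψ₂ : C j →ₐ[A] C k),
    (φ k).comp ψ₁ = φ i ∧ (φ k).comp ψ₂ = φ j)
  (hker : ∀ (i : ι) (x : C i), φ i x = 0 →
    ∃ (j : ι) (ψ : C i →ₐ[A] C j), (φ j).comp ψ = φ i ∧ ψ x = 0)
  (hsurj : ∀ b : A', ∃ (i : ι) (c : C i), φ i c = b)

include hker in
/-- finitely many elements dying in the colimit die simultaneously at a later stage. -/
theorem exists_map_eq_zero_of_finset {κ : Type*} (i : ι) (s : Finset κ) (x : κ → C i)
    (hx : ∀ k ∈ s, φ i (x k) = 0) :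
    ∃ (j : ι) (ψ : C i →ₐ[A] C j), (φ j).comp ψ = φ i ∧ ∀ k ∈ s, ψ (x k) = 0 := by
  classical
  induction s using Finset.induction_on with
  | empty => exact ⟨i, AlgHom.id A _, AlgHom.comp_id _, fun k hk => absurd hk (Finset.notMem_empty k)⟩
  | insert a s ha ih =>
    obtain ⟨j, ψ, hψ, hψ0⟩ := ih (fun k hk => hx k (Finset.mem_insert_of_mem hk))
    have h1 : φ j (ψ (x a)) = 0 := by
      have := hx a (Finset.mem_insert_self a s)
      rw [← hψ] at this
      exact this
    obtain ⟨j', ψ', hψ', hψ'0⟩ := hker j (ψ (x a)) h1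
    refine ⟨j', ψ'.comp ψ, ?_, ?_⟩
    · rw [← AlgHom.comp_assoc, hψ', hψ]
    · intro k hk
      rcases Finset.mem_insert.1 hk with rfl | hk
      · exact hψ'0
      · show ψ' (ψ (x k)) = 0
        rw [hψ0 k hk, map_zero]

include hobj hsurj in
/-- every element of `A' ⊗[A] M` comes from a stage. -/
theorem exists_rTensor_eq (M : Type u) [AddCommGroup M] [Module A M] (w : A' ⊗[A] M) :
    ∃ (j : ι) (w' : C j ⊗[A] M), (φ j).toLinearMap.rTensor M w' = w := by
  induction w using TensorProduct.induction_on with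
  | zero =>
    obtain ⟨i, _, _⟩ := hsurj 0
    exact ⟨i, 0, map_zero _⟩
  | tmul a m =>
    obtain ⟨i, c, hc⟩ := hsurj a
    refine ⟨i, c ⊗ₜ m, ?_⟩
    rw [LinearMap.rTensor_tmul]
    show (φ i c) ⊗ₜ[A] m = _
    rw [hc]
  | add w₁ w₂ h₁ h₂ =>
    obtain ⟨j₁, w₁', rfl⟩ := h₁
    obtain ⟨j₂, w₂', rfl⟩ := h₂
    obtain ⟨k, ψ₁, ψ₂, hψ₁, hψ₂⟩ := hobj j₁ j₂
    refine ⟨k, ψ₁.toLinearMap.rTensor M w₁' + ψ₂.toLinearMap.rTensor M w₂', ?_⟩
    rw [map_add, ← LinearMap.rTensor_comp_apply, ← LinearMap.rTensor_comp_apply]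
    have e1 : (φ k).toLinearMap ∘ₗ ψ₁.toLinearMap = (φ j₁).toLinearMap := by
      rw [← hψ₁]; rfl
    have e2 : (φ k).toLinearMap ∘ₗ ψ₂.toLinearMap = (φ j₂).toLinearMap := by
      rw [← hψ₂]; rfl
    rw [e1, e2]

include hobj hsurj in
/-- every element of `A' ⊗[A] M` comes from a stage above a given one. -/
theorem exists_rTensor_eq_above (M : Type u) [AddCommGroup M] [Module A M] (i : ι)
    (w : A' ⊗[A] M) :
    ∃ (k : ι) (ψ : C i →ₐ[A] C k) (w' : C k ⊗[A] M), (φ k).comp ψ = φ i ∧
      (φ k).toLinearMap.rTensor M w' = w := by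
  obtain ⟨j, w', rfl⟩ := exists_rTensor_eq C φ hobj hsurj M w
  obtain ⟨k, ψ₁, ψ₂, hψ₁, hψ₂⟩ := hobj i j
  refine ⟨k, ψ₁, ψ₂.toLinearMap.rTensor M w', hψ₁, ?_⟩
  rw [← LinearMap.rTensor_comp_apply]
  have e2 : (φ k).toLinearMap ∘ₗ ψ₂.toLinearMap = (φ j).toLinearMap := by
    rw [← hψ₂]; rfl
  rw [e2]

/-- naturality of `finsuppScalarRight`. -/
theorem finsuppScalarRight_rTensor {M M' : Type u} [AddCommGroup M] [AddCommGroup M'] [Module A M]
    [Module A M'] (κ : Type*) [DecidableEq κ] (ψ : M →ₗ[A] M') (e : M ⊗[A] (κ →₀ A)) (k : κ) :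
    TensorProduct.finsuppScalarRight A A M' κ (ψ.rTensor (κ →₀ A) e) k =
      ψ (TensorProduct.finsuppScalarRight A A M κ e k) := by
  induction e using TensorProduct.induction_on with
  | zero => simp
  | tmul m p =>
    rw [LinearMap.rTensor_tmul, TensorProduct.finsuppScalarRight_apply_tmul_apply,
      TensorProduct.finsuppScalarRight_apply_tmul_apply, map_smul]
  | add e₁ e₂ h₁ h₂ =>
    rw [map_add, map_add, Finsupp.add_apply, h₁, h₂, map_add, Finsupp.add_apply, map_add]

include hker in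
/-- the free case of the kernel statement. -/
theorem exists_map_rTensor_eq_zero_free (κ : Type*) [DecidableEq κ] (i : ι) (e : C i ⊗[A] (κ →₀ A))
    (he : (φ i).toLinearMap.rTensor (κ →₀ A) e = 0) :
    ∃ (j : ι) (ψ : C i →ₐ[A] C j), (φ j).comp ψ = φ i ∧
      ψ.toLinearMap.rTensor (κ →₀ A) e = 0 := by
  set E := TensorProduct.finsuppScalarRight A A (C i) κ e with hE
  have h1 : ∀ k ∈ E.support, φ i (E k) = 0 := by
    intro k _
    have := finsuppScalarRight_rTensor κ (φ i).toLinearMap e k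
    rw [he, map_zero, Finsupp.zero_apply] at this
    exact this.symm
  obtain ⟨j, ψ, hψ, hψ0⟩ := exists_map_eq_zero_of_finset C φ hker i E.support (fun k => E k) h1
  refine ⟨j, ψ, hψ, ?_⟩
  apply (TensorProduct.finsuppScalarRight A A (C j) κ).injective
  rw [map_zero]
  ext k
  rw [finsuppScalarRight_rTensor κ ψ.toLinearMap e k, Finsupp.zero_apply]
  by_cases hk : k ∈ E.support
  · exact hψ0 k hk
  · rw [Finsupp.notMem_support_iff] at hk
    show ψ (E k) = 0
    rw [hk, map_zero]

include hobj hker hsurj in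
/-- **Tensor products commute with filtered colimits (injectivity part)**: an element of
`C i ⊗[A] M` dying in `A' ⊗[A] M` dies at a later stage. -/
theorem exists_map_rTensor_eq_zero (M : Type u) [AddCommGroup M] [Module A M] (i : ι)
    (d : C i ⊗[A] M) (hd : (φ i).toLinearMap.rTensor M d = 0) :
    ∃ (j : ι) (ψ : C i →ₐ[A] C j), (φ j).comp ψ = φ i ∧ ψ.toLinearMap.rTensor M d = 0 := by
  classical
  -- a free presentation of `M`
  let F := M →₀ A
  let π : F →ₗ[A] M := Finsupp.linearCombination A id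
  have hπ : Function.Surjective π := Finsupp.linearCombination_id_surjective A M
  let R := LinearMap.ker π
  have hex : Function.Exact R.subtype π := LinearMap.exact_subtype_ker_map π
  obtain ⟨d', rfl⟩ := LinearMap.lTensor_surjective (C i) hπ d
  -- step (ii)
  have h2 : LinearMap.lTensor A' π ((φ i).toLinearMap.rTensor F d') = 0 := by
    rw [← LinearMap.comp_apply, LinearMap.lTensor_comp_rTensor, ← LinearMap.rTensor_comp_lTensor,
      LinearMap.comp_apply]
    exact hd
  obtain ⟨w, hw⟩ := (lTensor_exact (R := A) (M := R) (N := F) (P := M) (f := R.subtype) (g := π) A' hex hπ _).1 h2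
  -- step (iii)
  obtain ⟨k, ψ₁, w', hψ₁, hw'⟩ := exists_rTensor_eq_above C φ hobj hsurj R i w
  -- step (iv)
  set e := ψ₁.toLinearMap.rTensor F d' - LinearMap.lTensor (C k) R.subtype w' with he
  have h4 : (φ k).toLinearMap.rTensor F e = 0 := by
    rw [he, map_sub, ← LinearMap.rTensor_comp_apply]
    have e1 : (φ k).toLinearMap ∘ₗ ψ₁.toLinearMap = (φ i).toLinearMap := by
      rw [← hψ₁]; rfl
    rw [e1, ← LinearMap.comp_apply (LinearMap.rTensor F _) (LinearMap.lTensor (C k) _),
      LinearMap.rTensor_comp_lTensor, ← LinearMap.lTensor_comp_rTensor, LinearMap.comp_apply,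
      hw', hw, sub_self]
  -- step (v)
  obtain ⟨l, ψ', hψ', h5⟩ := exists_map_rTensor_eq_zero_free C φ hker M k e h4
  refine ⟨l, ψ'.comp ψ₁, by rw [← AlgHom.comp_assoc, hψ', hψ₁], ?_⟩
  -- step (vi)
  have h6 : (ψ'.comp ψ₁).toLinearMap.rTensor F d' =
      LinearMap.lTensor (C l) R.subtype (ψ'.toLinearMap.rTensor R w') := by
    have e3 : (ψ'.comp ψ₁).toLinearMap = ψ'.toLinearMap ∘ₗ ψ₁.toLinearMap := rfl
    rw [e3, LinearMap.rTensor_comp_apply]
    have : ψ₁.toLinearMap.rTensor F d' = e + LinearMap.lTensor (C k) R.subtype w' := by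
      rw [he]; abel
    rw [this, map_add, h5, zero_add, ← LinearMap.comp_apply, LinearMap.rTensor_comp_lTensor,
      ← LinearMap.lTensor_comp_rTensor, LinearMap.comp_apply]
  rw [← LinearMap.comp_apply, LinearMap.rTensor_comp_lTensor, ← LinearMap.lTensor_comp_rTensor,
    LinearMap.comp_apply, h6, ← LinearMap.lTensor_comp_apply]
  have : π ∘ₗ R.subtype = 0 := by
    ext x
    exact x.2
  rw [this, LinearMap.lTensor_zero, LinearMap.zero_apply]

end Family

end Groth.Agent.Lib.helper26.Purity
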