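import Mathlib
import Groth.Agent.Lib.Helper26.Purity12

/-!
# Base change of a filtered family of algebras (helper26)

Let `A'` be the filtered colimit of the `A`-algebras `φ i : C i →ₐ[A] A'` (elementary form, see
`Purity12`), `B` an `A`-algebra and `B'` a pushout of `B` and `A'` over `A`.  Then `B'` is the
filtered colimit of the `C i ⊗[A] B` via the maps `stageMap (φ i)`.

* `stageMap φ : G ⊗[A] B →ₐ[A] B'` for `φ : G →ₐ[A] A'`;
* `exists_stageMap_eq`, `exists_map_eq_zero_of_stageMap_eq_zero`;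
* `exists_notMem_mem_sup`: if no prime of `B'` containing `P` lies over the prime `t` of `A'`,
  then some `s ∉ t` lies in `P + tB'`;
* `exists_stage_notMem_mem_sup`: the same relation at a finite stage.
-/

set_option autoImplicit false
set_option linter.style.haveILetI false
set_option linter.unusedSectionVars false
universe u v

namespace Groth.Agent.Lib.helper26.Purity

open TensorProduct

section Stage

variable {A B : Type u} [CommRing A] [CommRing B] [Algebra A B]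
  {A' : Type u} (B' : Type u) [CommRing A'] [CommRing B'] [Algebra A A'] [Algebra B B']
  [Algebra A' B'] [Algebra A B'] [IsScalarTower A B B'] [IsScalarTower A A' B']

/-- the comparison map `G ⊗[A] B → B'` induced by `φ : G → A'`. -/
noncomputable def stageMap {G : Type u} [CommRing G] [Algebra A G] (φ : G →ₐ[A] A') :
    G ⊗[A] B →ₐ[A] B' :=
  Algebra.TensorProduct.lift ((IsScalarTower.toAlgHom A A' B').comp φ)
    (IsScalarTower.toAlgHom A B B') (fun _ _ => Commute.all _ _)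

theorem stageMap_tmul {G : Type u} [CommRing G] [Algebra A G] (φ : G →ₐ[A] A') (g : G) (b : B) :
    stageMap B' φ (g ⊗ₜ[A] b) = algebraMap A' B' (φ g) * algebraMap B B' b := by
  rw [stageMap, Algebra.TensorProduct.lift_tmul]
  rfl

theorem stageMap_comp_map {G G₂ : Type u} [CommRing G] [Algebra A G] [CommRing G₂] [Algebra A G₂]
    (φ₂ : G₂ →ₐ[A] A') (χ : G →ₐ[A] G₂) :
    (stageMap B' φ₂).comp (Algebra.TensorProduct.map χ (AlgHom.id A B)) =
      stageMap B' (φ₂.comp χ) := by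
  apply Algebra.TensorProduct.ext'
  intro g b
  rw [AlgHom.comp_apply, Algebra.TensorProduct.map_tmul, stageMap_tmul, stageMap_tmul]
  rfl

theorem stageMap_map_apply {G G₂ : Type u} [CommRing G] [Algebra A G] [CommRing G₂] [Algebra A G₂]
    (φ : G →ₐ[A] A') (φ₂ : G₂ →ₐ[A] A') (χ : G →ₐ[A] G₂) (h : φ₂.comp χ = φ) (x : G ⊗[A] B) :
    stageMap B' φ₂ (Algebra.TensorProduct.map χ (AlgHom.id A B) x) = stageMap B' φ x := by
  rw [← AlgHom.comp_apply, stageMap_comp_map, h]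

theorem map_eq_rTensor {G G₂ : Type u} [CommRing G] [Algebra A G] [CommRing G₂] [Algebra A G₂]
    (χ : G →ₐ[A] G₂) (x : G ⊗[A] B) :
    Algebra.TensorProduct.map χ (AlgHom.id A B) x = χ.toLinearMap.rTensor B x := by
  induction x using TensorProduct.induction_on with
  | zero => rw [map_zero, map_zero]
  | tmul g b => rw [Algebra.TensorProduct.map_tmul, LinearMap.rTensor_tmul]; rfl
  | add x y hx hy => rw [map_add, map_add, hx, hy]

variable [Algebra.IsPushout A B A' B']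

theorem stageMap_eq_equiv {G : Type u} [CommRing G] [Algebra A G] (φ : G →ₐ[A] A')
    (x : G ⊗[A] B) :
    haveI : Algebra.IsPushout A A' B B' := Algebra.IsPushout.symm inferInstance
    stageMap B' φ x = Algebra.IsPushout.equiv A A' B B' (φ.toLinearMap.rTensor B x) := by
  haveI : Algebra.IsPushout A A' B B' := Algebra.IsPushout.symm inferInstance
  induction x using TensorProduct.induction_on with
  | zero => rw [map_zero, map_zero, map_zero]
  | tmul g b =>
    rw [stageMap_tmul, LinearMap.rTensor_tmul, Algebra.IsPushout.equiv_tmul]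
    rfl
  | add x y hx hy => rw [map_add, map_add, map_add, hx, hy]

end Stage

section Family

variable {A B : Type u} [CommRing A] [CommRing B] [Algebra A B]
  {A' : Type u} (B' : Type u) [CommRing A'] [CommRing B'] [Algebra A A'] [Algebra B B']
  [Algebra A' B'] [Algebra A B'] [IsScalarTower A B B'] [IsScalarTower A A' B']
  [Algebra.IsPushout A B A' B']
  {ι : Type v} (C : ι → Type u)
  [∀ i, CommRing (C i)] [∀ i, Algebra A (C i)] (φ : ∀ i, C i →ₐ[A] A')
  (hobj : ∀ i j, ∃ (k : ι) (ψ₁ : C i →ₐ[A] C k) (ψ₂ : C j →ₐ[A] C k),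
    (φ k).comp ψ₁ = φ i ∧ (φ k).comp ψ₂ = φ j)
  (hker : ∀ (i : ι) (x : C i), φ i x = 0 →
    ∃ (j : ι) (ψ : C i →ₐ[A] C j), (φ j).comp ψ = φ i ∧ ψ x = 0)
  (hsurj : ∀ b : A', ∃ (i : ι) (c : C i), φ i c = b)

include hobj hsurj in
theorem exists_stageMap_eq (b' : B') : ∃ (j : ι) (y : C j ⊗[A] B), stageMap B' (φ j) y = b' := by
  haveI : Algebra.IsPushout A A' B B' := Algebra.IsPushout.symm inferInstance
  obtain ⟨j, w', hw'⟩ := exists_rTensor_eq C φ hobj hsurj B
    ((Algebra.IsPushout.equiv A A' B B').symm b')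
  refine ⟨j, w', ?_⟩
  rw [stageMap_eq_equiv, hw', AlgEquiv.apply_symm_apply]

include hobj hker hsurj in
theorem exists_map_eq_zero_of_stageMap_eq_zero (i : ι) (d : C i ⊗[A] B)
    (hd : stageMap B' (φ i) d = 0) :
    ∃ (j : ι) (χ : C i →ₐ[A] C j), (φ j).comp χ = φ i ∧
      Algebra.TensorProduct.map χ (AlgHom.id A B) d = 0 := by
  haveI : Algebra.IsPushout A A' B B' := Algebra.IsPushout.symm inferInstance
  rw [stageMap_eq_equiv] at hd
  have hd' : (φ i).toLinearMap.rTensor B d = 0 :=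
    (Algebra.IsPushout.equiv A A' B B').injective (by rw [hd, map_zero])
  obtain ⟨j, χ, hχ, h0⟩ := exists_map_rTensor_eq_zero C φ hobj hker hsurj B i d hd'
  exact ⟨j, χ, hχ, by rw [map_eq_rTensor, h0]⟩

omit [Algebra.IsPushout A B A' B'] in
/-- transition maps preserve the extension of the contraction of `t`. -/
theorem map_mem_map_comap (t : Ideal A') {i j : ι} (χ : C i →ₐ[A] C j) (hχ : (φ j).comp χ = φ i)
    (y : C i ⊗[A] B)
    (hy : y ∈ (t.comap (φ i).toRingHom).map (algebraMap (C i) (C i ⊗[A] B))) :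
    Algebra.TensorProduct.map χ (AlgHom.id A B) y ∈
      (t.comap (φ j).toRingHom).map (algebraMap (C j) (C j ⊗[A] B)) := by
  have h1 : ((t.comap (φ i).toRingHom).map (algebraMap (C i) (C i ⊗[A] B))).map
      (Algebra.TensorProduct.map χ (AlgHom.id A B)).toRingHom ≤
      (t.comap (φ j).toRingHom).map (algebraMap (C j) (C j ⊗[A] B)) := by
    rw [Ideal.map_map]
    have e1 : (Algebra.TensorProduct.map χ (AlgHom.id A B)).toRingHom.comp
        (algebraMap (C i) (C i ⊗[A] B)) = (algebraMap (C j) (C j ⊗[A] B)).comp χ.toRingHom := by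
      ext c
      show Algebra.TensorProduct.map χ (AlgHom.id A B) (c ⊗ₜ 1) = (χ c) ⊗ₜ 1
      rw [Algebra.TensorProduct.map_tmul, map_one]
    rw [e1, ← Ideal.map_map]
    apply Ideal.map_mono
    rw [Ideal.map_le_iff_le_comap, Ideal.comap_comap]
    have e2 : (φ j).toRingHom.comp χ.toRingHom = (φ i).toRingHom := by
      rw [← hχ]; rfl
    rw [e2]
  exact h1 (Ideal.mem_map_of_mem _ hy)

include hobj hsurj in
theorem exists_stage_mem_map (t : Ideal A') (τ : B') (hτ : τ ∈ t.map (algebraMap A' B')) :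
    ∃ (j : ι) (y : C j ⊗[A] B), y ∈ (t.comap (φ j).toRingHom).map
      (algebraMap (C j) (C j ⊗[A] B)) ∧ stageMap B' (φ j) y = τ := by
  refine Submodule.span_induction (p := fun τ _ => ∃ (j : ι) (y : C j ⊗[A] B),
    y ∈ (t.comap (φ j).toRingHom).map (algebraMap (C j) (C j ⊗[A] B)) ∧
      stageMap B' (φ j) y = τ) ?_ ?_ ?_ ?_ hτ
  · rintro x ⟨a', ha', rfl⟩
    obtain ⟨j, c, hc⟩ := hsurj a'
    refine ⟨j, algebraMap (C j) (C j ⊗[A] B) c, Ideal.mem_map_of_mem _ ?_, ?_⟩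
    · show φ j c ∈ t
      rw [hc]; exact ha'
    · show stageMap B' (φ j) (c ⊗ₜ 1) = _
      rw [stageMap_tmul, map_one, mul_one, hc]
  · obtain ⟨i, _, _⟩ := hsurj 0
    exact ⟨i, 0, Submodule.zero_mem _, map_zero _⟩
  · rintro x₁ x₂ _ _ ⟨j₁, y₁, hy₁, rfl⟩ ⟨j₂, y₂, hy₂, rfl⟩
    obtain ⟨k, ψ₁, ψ₂, hψ₁, hψ₂⟩ := hobj j₁ j₂
    refine ⟨k, Algebra.TensorProduct.map ψ₁ (AlgHom.id A B) y₁ +
      Algebra.TensorProduct.map ψ₂ (AlgHom.id A B) y₂, ?_, ?_⟩
    · exact Ideal.add_mem _ (map_mem_map_comap C φ t ψ₁ hψ₁ y₁ hy₁)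
        (map_mem_map_comap C φ t ψ₂ hψ₂ y₂ hy₂)
    · rw [map_add, stageMap_map_apply B' _ _ ψ₁ hψ₁, stageMap_map_apply B' _ _ ψ₂ hψ₂]
  · rintro b' x _ ⟨j₁, y₁, hy₁, rfl⟩
    obtain ⟨j₂, y₂, rfl⟩ := exists_stageMap_eq (B := B) B' C φ hobj hsurj b'
    obtain ⟨k, ψ₁, ψ₂, hψ₁, hψ₂⟩ := hobj j₁ j₂
    refine ⟨k, Algebra.TensorProduct.map ψ₂ (AlgHom.id A B) y₂ *
      Algebra.TensorProduct.map ψ₁ (AlgHom.id A B) y₁, ?_, ?_⟩
    · exact Ideal.mul_mem_left _ _ (map_mem_map_comap C φ t ψ₁ hψ₁ y₁ hy₁)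
    · rw [map_mul, stageMap_map_apply B' _ _ ψ₁ hψ₁, stageMap_map_apply B' _ _ ψ₂ hψ₂,
        smul_eq_mul]

end Family

section Avoid

variable {A' B' : Type u} [CommRing A'] [CommRing B'] [Algebra A' B']

/-- if no prime of `B'` containing `P` lies over the prime `t`, then some `s ∉ t` lies in
`P + tB'`. -/
theorem exists_notMem_mem_sup (t : Ideal A') [t.IsPrime] (P : Ideal B')
    (hno : ∀ (P' : Ideal B') [P'.IsPrime], P ≤ P' → ¬ P'.LiesOver t) :
    ∃ s : A', s ∉ t ∧ algebraMap A' B' s ∈ P ⊔ t.map (algebraMap A' B') := by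
  by_contra hcon
  push Not at hcon
  have hdisj : Disjoint ((P ⊔ t.map (algebraMap A' B') : Ideal B') : Set B')
      ((t.primeCompl.map (algebraMap A' B') : Submonoid B') : Set B') := by
    rw [Set.disjoint_left]
    rintro x hx ⟨s, hs, rfl⟩
    exact hcon s hs hx
  obtain ⟨Q, hQ, hle, hQd⟩ := Ideal.exists_le_prime_disjoint _ _ hdisj
  refine hno Q (le_sup_left.trans hle) ⟨?_⟩
  apply le_antisymm
  · rw [Ideal.under_def, ← Ideal.map_le_iff_le_comap]
    exact le_sup_right.trans hle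
  · intro a ha
    by_contra hat
    rw [Set.disjoint_left] at hQd
    exact hQd ha ⟨a, hat, rfl⟩

/-- conversely a relation `s ∈ P + tB'` with `s ∉ t` excludes primes over `t` containing `P`. -/
theorem not_liesOver_of_mem_sup (t : Ideal A') (P : Ideal B') (s : A') (hs : s ∉ t)
    (hmem : algebraMap A' B' s ∈ P ⊔ t.map (algebraMap A' B')) (P' : Ideal B') (hP : P ≤ P') :
    ¬ P'.LiesOver t := by
  intro hlo
  apply hs
  rw [hlo.over, Ideal.under_def, Ideal.mem_comap]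
  have : P ⊔ t.map (algebraMap A' B') ≤ P' := by
    refine sup_le hP ?_
    rw [Ideal.map_le_iff_le_comap]
    exact hlo.over.le
  exact this hmem

end Avoid

section Final

variable {A B : Type u} [CommRing A] [CommRing B] [Algebra A B]
  {A' : Type u} (B' : Type u) [CommRing A'] [CommRing B'] [Algebra A A'] [Algebra B B']
  [Algebra A' B'] [Algebra A B'] [IsScalarTower A B B'] [IsScalarTower A A' B']
  [Algebra.IsPushout A B A' B']
  {ι : Type v} (C : ι → Type u)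
  [∀ i, CommRing (C i)] [∀ i, Algebra A (C i)] (φ : ∀ i, C i →ₐ[A] A')
  (hobj : ∀ i j, ∃ (k : ι) (ψ₁ : C i →ₐ[A] C k) (ψ₂ : C j →ₐ[A] C k),
    (φ k).comp ψ₁ = φ i ∧ (φ k).comp ψ₂ = φ j)
  (hker : ∀ (i : ι) (x : C i), φ i x = 0 →
    ∃ (j : ι) (ψ : C i →ₐ[A] C j), (φ j).comp ψ = φ i ∧ ψ x = 0)
  (hsurj : ∀ b : A', ∃ (i : ι) (c : C i), φ i c = b)

include hobj hker hsurj in
/-- **Descent of the relation `s ∈ P + tB'` to a finite stage.** -/
theorem exists_stage_notMem_mem_sup (t : Ideal A') [t.IsPrime] (P : Ideal B')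
    (hno : ∀ (P' : Ideal B') [P'.IsPrime], P ≤ P' → ¬ P'.LiesOver t) :
    ∃ (i : ι) (s : C i), φ i s ∉ t ∧ algebraMap (C i) (C i ⊗[A] B) s ∈
      (P.comap (stageMap (B := B) B' (φ i)).toRingHom) ⊔
        (t.comap (φ i).toRingHom).map (algebraMap (C i) (C i ⊗[A] B)) := by
  obtain ⟨s', hs', hmem⟩ := exists_notMem_mem_sup t P hno
  obtain ⟨π, hπ, τ, hτ, hsum⟩ := Submodule.mem_sup.1 hmem
  obtain ⟨j₁, y₁, hy₁, hy₁τ⟩ := exists_stage_mem_map (B := B) B' C φ hobj hsurj t τ hτ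
  obtain ⟨j₂, y₂, hy₂⟩ := exists_stageMap_eq (B := B) B' C φ hobj hsurj π
  obtain ⟨j₃, c₃, hc₃⟩ := hsurj s'
  obtain ⟨k₁, ψ₁, ψ₂, hψ₁, hψ₂⟩ := hobj j₁ j₂
  obtain ⟨k, χ₁, χ₃, hχ₁, hχ₃⟩ := hobj k₁ j₃
  have h11 : (φ k).comp (χ₁.comp ψ₁) = φ j₁ := by rw [← AlgHom.comp_assoc, hχ₁, hψ₁]
  have h12 : (φ k).comp (χ₁.comp ψ₂) = φ j₂ := by rw [← AlgHom.comp_assoc, hχ₁, hψ₂]
  set T := Algebra.TensorProduct.map (χ₁.comp ψ₁) (AlgHom.id A B) y₁ with hT
  set Y := Algebra.TensorProduct.map (χ₁.comp ψ₂) (AlgHom.id A B) y₂ with hY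
  set σ := χ₃ c₃ with hσ
  have hσs : φ k σ = s' := by
    rw [hσ, ← hc₃, ← hχ₃]; rfl
  have hTm : T ∈ (t.comap (φ k).toRingHom).map (algebraMap (C k) (C k ⊗[A] B)) :=
    map_mem_map_comap C φ t _ h11 y₁ hy₁
  have hTs : stageMap B' (φ k) T = τ := by
    rw [hT, stageMap_map_apply B' _ _ _ h11, hy₁τ]
  have hYs : stageMap B' (φ k) Y = π := by
    rw [hY, stageMap_map_apply B' _ _ _ h12, hy₂]
  have hd : stageMap B' (φ k) (algebraMap (C k) (C k ⊗[A] B) σ - Y - T) = 0 := by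
    rw [map_sub, map_sub, hTs, hYs]
    have : stageMap B' (φ k) (algebraMap (C k) (C k ⊗[A] B) σ) = algebraMap A' B' s' := by
      show stageMap B' (φ k) (σ ⊗ₜ 1) = _
      rw [stageMap_tmul, map_one, mul_one, hσs]
    rw [this, ← hsum]
    ring
  obtain ⟨l, χ, hχ, h0⟩ := exists_map_eq_zero_of_stageMap_eq_zero B' C φ hobj hker hsurj k _ hd
  refine ⟨l, χ σ, ?_, ?_⟩
  · have : φ l (χ σ) = φ k σ := by rw [← hχ]; rfl
    rw [this, hσs]
    exact hs'
  · have h1 : algebraMap (C l) (C l ⊗[A] B) (χ σ) =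
        Algebra.TensorProduct.map χ (AlgHom.id A B) Y +
          Algebra.TensorProduct.map χ (AlgHom.id A B) T := by
      rw [map_sub, map_sub, sub_sub, sub_eq_zero] at h0
      rw [← h0]
      show (χ σ) ⊗ₜ (1 : B) = Algebra.TensorProduct.map χ (AlgHom.id A B) (σ ⊗ₜ 1)
      rw [Algebra.TensorProduct.map_tmul, map_one]
    rw [h1]
    refine Submodule.add_mem_sup ?_ (map_mem_map_comap C φ t χ hχ T hTm)
    rw [Ideal.mem_comap]
    show stageMap B' (φ l) (Algebra.TensorProduct.map χ (AlgHom.id A B) Y) ∈ P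
    rw [stageMap_map_apply B' _ _ χ hχ, hYs]
    exact hπ

end Final

end Groth.Agent.Lib.helper26.Purity
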