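import Mathlib
import Groth.Prelude.Def_FlatCA
import Groth.Agent.Lib.Helper26.Purity7
import Groth.Agent.Lib.Helper26.Purity13

/-!
# Impurities at an intermediate stage (helper26)

`isImpurity_stage`: let `(A', B', N', t' ≤ t, P)` be an impurity of `N` above `p`, and let
`φ : G →ₐ[A] A'` be an `A`-algebra map such that the relation "`s ∈ P + tB'` for some `s ∉ t`"
already holds over `G` (for the contracted ideals).  Then the contracted data form an impurity of
`N` above `p` with base ring `G`.

`exists_stage_isImpurity`: for a filtered family `φ i : C i → A'` with colimit `A'` such a stage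
always exists.
-/

set_option autoImplicit false
set_option linter.style.haveILetI false
set_option linter.unusedSectionVars false
universe u v

namespace Groth.Agent.Lib.helper26.Purity

open TensorProduct FlatCA

attribute [local instance] Algebra.TensorProduct.rightAlgebra

variable {A B : Type u} [CommRing A] [CommRing B] [Algebra A B]
  (N : Type u) [AddCommGroup N] [Module B N] (p : Ideal A) [p.IsPrime]
  (A' B' N' : Type u) [CommRing A'] [CommRing B'] [Algebra A A'] [Algebra B B'] [Algebra A' B']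
  [Algebra A B'] [IsScalarTower A B B'] [IsScalarTower A A' B']
  [AddCommGroup N'] [Module B' N'] [Module B N'] [IsScalarTower B B' N'] [Module A' N']
  [IsScalarTower A' B' N'] (f : N →ₗ[B] N') (t' t : Ideal A') [t'.IsPrime] [t.IsPrime]
  (P : Ideal B') [P.IsPrime]

theorem isImpurity_stage (himp : IsImpurity A B N p A' B' N' f t' t P)
    (G : Type u) [CommRing G] [Algebra A G] (φ : G →ₐ[A] A') (s : G) (hs : φ s ∉ t)
    (hmem : algebraMap G (G ⊗[A] B) s ∈ (P.comap (stageMap (B := B) B' φ).toRingHom) ⊔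
      (t.comap φ.toRingHom).map (algebraMap G (G ⊗[A] B))) :
    IsImpurity A B N p G (G ⊗[A] B) ((G ⊗[A] B) ⊗[B] N) (TensorProduct.mk B (G ⊗[A] B) N 1)
      (t'.comap φ.toRingHom) (t.comap φ.toRingHom)
      (P.comap (stageMap (B := B) B' φ).toRingHom) := by
  obtain ⟨hpush, hbc, hle, htp, hPt', hass, hno⟩ := himp
  haveI := hpush
  haveI := htp
  haveI := hPt'
  -- algebra structures
  letI algGA' : Algebra G A' := φ.toRingHom.toAlgebra
  haveI : IsScalarTower A G A' := IsScalarTower.of_algebraMap_eq fun a => (φ.commutes a).symm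
  letI algGB' : Algebra G B' := ((algebraMap A' B').comp φ.toRingHom).toAlgebra
  haveI : IsScalarTower G A' B' := IsScalarTower.of_algebraMap_eq fun _ => rfl
  letI algBGB' : Algebra (G ⊗[A] B) B' := (stageMap (B := B) B' φ).toRingHom.toAlgebra
  haveI : IsScalarTower G (G ⊗[A] B) B' := by
    refine IsScalarTower.of_algebraMap_eq (R := G) (S := G ⊗[A] B) (A := B') fun g => ?_
    show algebraMap A' B' (φ g) = stageMap B' φ (g ⊗ₜ 1)
    rw [stageMap_tmul, map_one, mul_one]
  haveI : IsScalarTower B (G ⊗[A] B) B' := by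
    refine IsScalarTower.of_algebraMap_eq (R := B) (S := G ⊗[A] B) (A := B') fun b => ?_
    show algebraMap B B' b = stageMap B' φ (1 ⊗ₜ b)
    rw [stageMap_tmul, map_one, map_one, one_mul]
  haveI : IsScalarTower A (G ⊗[A] B) B' := by
    refine IsScalarTower.of_algebraMap_eq (R := A) (S := G ⊗[A] B) (A := B') fun a => ?_
    exact ((stageMap (B := B) B' φ).commutes a).symm
  have hpushG : Algebra.IsPushout G (G ⊗[A] B) A' B' := by
    haveI : Algebra.IsPushout A A' B B' := Algebra.IsPushout.symm inferInstance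
    exact Algebra.IsPushout.symm
      ((Algebra.IsPushout.comp_iff A G B (G ⊗[A] B) (T := A') (T' := B')).1 inferInstance)
  haveI := hpushG
  -- module structures
  letI modN' : Module (G ⊗[A] B) N' := Module.compHom N' (algebraMap (G ⊗[A] B) B')
  haveI : IsScalarTower (G ⊗[A] B) B' N' := IsScalarTower.of_algebraMap_smul fun _ _ => rfl
  haveI : IsScalarTower B (G ⊗[A] B) N' := by
    refine IsScalarTower.of_algebraMap_smul fun b n => ?_
    show algebraMap (G ⊗[A] B) B' (algebraMap B (G ⊗[A] B) b) • n = b • n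
    rw [← IsScalarTower.algebraMap_apply B (G ⊗[A] B) B', algebraMap_smul]
  have hfG := TensorProduct.isBaseChange B N (G ⊗[A] B)
  let gG : (G ⊗[A] B) ⊗[B] N →ₗ[G ⊗[A] B] N' := hfG.lift f
  have hgG : IsBaseChange B' gG := by
    apply IsBaseChange.of_comp hfG
    have : (gG : (G ⊗[A] B) ⊗[B] N →ₗ[B] N') ∘ₗ (TensorProduct.mk B (G ⊗[A] B) N 1) = f :=
      hfG.lift_comp f
    rw [this]
    exact hbc
  haveI : t'.LiesOver (t'.comap φ.toRingHom) := ⟨rfl⟩
  have hassG := fiberIdeal_comap_mem_associatedPrimes ((G ⊗[A] B) ⊗[B] N) A' B' N' gG hgG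
    (t'.comap φ.toRingHom) t' P hass
  refine ⟨inferInstance, hfG, Ideal.comap_mono hle, ?_, ?_, hassG, ?_⟩
  · constructor
    rw [Ideal.under_def, Ideal.comap_comap, htp.over, Ideal.under_def]
    congr 1
    ext a
    exact (φ.commutes a).symm
  · constructor
    rw [Ideal.under_def, Ideal.comap_comap, hPt'.over, Ideal.under_def, Ideal.comap_comap]
    congr 1
    ext g
    show algebraMap A' B' (φ g) = stageMap B' φ (g ⊗ₜ 1)
    rw [stageMap_tmul, map_one, mul_one]
  · intro Q hQ hPQ
    exact not_liesOver_of_mem_sup (t.comap φ.toRingHom) _ s hs hmem Q hPQ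

/-- **Impurities descend to a stage of a filtered colimit of base rings.** -/
theorem exists_stage_isImpurity (himp : IsImpurity A B N p A' B' N' f t' t P)
    {ι : Type v} (C : ι → Type u) [∀ i, CommRing (C i)] [∀ i, Algebra A (C i)]
    (φ : ∀ i, C i →ₐ[A] A')
    (hobj : ∀ i j, ∃ (k : ι) (ψ₁ : C i →ₐ[A] C k) (ψ₂ : C j →ₐ[A] C k),
      (φ k).comp ψ₁ = φ i ∧ (φ k).comp ψ₂ = φ j)
    (hker : ∀ (i : ι) (x : C i), φ i x = 0 →
      ∃ (j : ι) (ψ : C i →ₐ[A] C j), (φ j).comp ψ = φ i ∧ ψ x = 0)
    (hsurj : ∀ b : A', ∃ (i : ι) (c : C i), φ i c = b) :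
    ∃ i : ι, IsImpurity A B N p (C i) (C i ⊗[A] B) ((C i ⊗[A] B) ⊗[B] N)
      (TensorProduct.mk B (C i ⊗[A] B) N 1) (t'.comap (φ i).toRingHom) (t.comap (φ i).toRingHom)
      (P.comap (stageMap (B := B) B' (φ i)).toRingHom) := by
  haveI : Algebra.IsPushout A B A' B' := himp.1
  obtain ⟨i, s, hs, hmem⟩ := exists_stage_notMem_mem_sup (B := B) B' C φ hobj hker hsurj t P
    himp.2.2.2.2.2.2
  exact ⟨i, isImpurity_stage N p A' B' N' f t' t P himp (C i) (φ i) s hs hmem⟩

end Groth.Agent.Lib.helper26.Purity
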