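import Mathlib
import Groth.Prelude.Def_FlatCA
import Groth.Agent.Lib.Helper26.Purity14
import Groth.Agent.Lib.Helper3.UnivInjAss1
import Groth.Agent.Lib.Helper3.UnivInjGlobal1

/-!
# Impurities over finitely presented base rings, based at closed points of the fibre (helper26)

* `exists_isImpurity_finitePresentation`: an impurity can be found over a finitely presented base.
* `exists_isImpurity_isMaximal_fiberIdeal`: for a base of finite type the point `t` can be taken
  closed in its fibre.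
-/

set_option autoImplicit false
set_option linter.style.haveILetI false
set_option linter.unusedSectionVars false
universe u v

namespace Groth.Agent.Lib.helper26.Purity

open TensorProduct FlatCA

attribute [local instance] Algebra.TensorProduct.rightAlgebra

section Families

variable {A : Type u} [CommRing A]

/-- the family of finitely generated subalgebras. -/
theorem fgSubalgebra_family (A' : Type u) [CommRing A'] [Algebra A A'] :
    (∀ i j : {S : Subalgebra A A' // S.FG}, ∃ (k : {S : Subalgebra A A' // S.FG})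
      (ψ₁ : i.1 →ₐ[A] k.1) (ψ₂ : j.1 →ₐ[A] k.1),
      k.1.val.comp ψ₁ = i.1.val ∧ k.1.val.comp ψ₂ = j.1.val) ∧
    (∀ (i : {S : Subalgebra A A' // S.FG}) (x : i.1), i.1.val x = 0 →
      ∃ (j : {S : Subalgebra A A' // S.FG}) (ψ : i.1 →ₐ[A] j.1),
        j.1.val.comp ψ = i.1.val ∧ ψ x = 0) ∧
    (∀ b : A', ∃ (i : {S : Subalgebra A A' // S.FG}) (c : i.1), i.1.val c = b) := by
  refine ⟨?_, ?_, ?_⟩
  · intro i j
    exact ⟨⟨i.1 ⊔ j.1, i.2.sup j.2⟩, Subalgebra.inclusion le_sup_left,
      Subalgebra.inclusion le_sup_right, rfl, rfl⟩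
  · intro i x hx
    refine ⟨i, AlgHom.id A _, rfl, ?_⟩
    exact Subtype.ext hx
  · intro b
    refine ⟨⟨Algebra.adjoin A {b}, ⟨{b}, by simp⟩⟩, ⟨b, Algebra.subset_adjoin rfl⟩, rfl⟩

/-- the family of finitely presented quotients of a polynomial ring above a finite type
algebra. -/
theorem fpQuotient_family {G : Type u} [CommRing G] [Algebra A G] {n : ℕ}
    (f : MvPolynomial (Fin n) A →ₐ[A] G) (hf : Function.Surjective f) :
    let ι := {J : Ideal (MvPolynomial (Fin n) A) // J.FG ∧ J ≤ RingHom.ker f.toRingHom}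
    let φ : ∀ i : ι, (MvPolynomial (Fin n) A ⧸ i.1) →ₐ[A] G := fun i =>
      Ideal.Quotient.liftₐ i.1 f (fun _ ha => i.2.2 ha)
    (∀ i j : ι, ∃ (k : ι) (ψ₁ : (MvPolynomial (Fin n) A ⧸ i.1) →ₐ[A] (MvPolynomial (Fin n) A ⧸ k.1))
      (ψ₂ : (MvPolynomial (Fin n) A ⧸ j.1) →ₐ[A] (MvPolynomial (Fin n) A ⧸ k.1)),
      (φ k).comp ψ₁ = φ i ∧ (φ k).comp ψ₂ = φ j) ∧
    (∀ (i : ι) (x : MvPolynomial (Fin n) A ⧸ i.1), φ i x = 0 →
      ∃ (j : ι) (ψ : (MvPolynomial (Fin n) A ⧸ i.1) →ₐ[A] (MvPolynomial (Fin n) A ⧸ j.1)),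
        (φ j).comp ψ = φ i ∧ ψ x = 0) ∧
    (∀ b : G, ∃ (i : ι) (c : MvPolynomial (Fin n) A ⧸ i.1), φ i c = b) := by
  intro ι φ
  refine ⟨?_, ?_, ?_⟩
  · intro i j
    refine ⟨⟨i.1 ⊔ j.1, Submodule.FG.sup i.2.1 j.2.1, sup_le i.2.2 j.2.2⟩,
      Ideal.Quotient.factorₐ A le_sup_left, Ideal.Quotient.factorₐ A le_sup_right, ?_, ?_⟩
    · apply Ideal.Quotient.algHom_ext
      ext x
      rfl
    · apply Ideal.Quotient.algHom_ext
      ext x
      rfl
  · intro i x hx
    obtain ⟨x', rfl⟩ := Ideal.Quotient.mk_surjective x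
    have hx' : f x' = 0 := hx
    refine ⟨⟨i.1 ⊔ Ideal.span {x'}, Submodule.FG.sup i.2.1 (Submodule.fg_span_singleton x'),
      sup_le i.2.2 ?_⟩, Ideal.Quotient.factorₐ A le_sup_left, ?_, ?_⟩
    · rw [Ideal.span_le, Set.singleton_subset_iff]
      exact hx'
    · apply Ideal.Quotient.algHom_ext
      ext x
      rfl
    · show Ideal.Quotient.mk _ x' = 0
      rw [Ideal.Quotient.eq_zero_iff_mem]
      exact Ideal.mem_sup_right (Ideal.subset_span rfl)
  · intro b
    obtain ⟨x', rfl⟩ := hf b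
    exact ⟨⟨⊥, Submodule.fg_bot, bot_le⟩, Ideal.Quotient.mk _ x', rfl⟩

end Families

variable {A B : Type u} [CommRing A] [CommRing B] [Algebra A B]
  (N : Type u) [AddCommGroup N] [Module B N] (p : Ideal A) [p.IsPrime]
  (A' B' N' : Type u) [CommRing A'] [CommRing B'] [Algebra A A'] [Algebra B B'] [Algebra A' B']
  [Algebra A B'] [IsScalarTower A B B'] [IsScalarTower A A' B']
  [AddCommGroup N'] [Module B' N'] [Module B N'] [IsScalarTower B B' N'] [Module A' N']
  [IsScalarTower A' B' N'] (f : N →ₗ[B] N') (t' t : Ideal A') [t'.IsPrime] [t.IsPrime]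
  (P : Ideal B') [P.IsPrime]

/-- packaging: an impurity at some stage of a filtered family all of whose members satisfy `Q`. -/
theorem hasImpurity_of_family (himp : IsImpurity A B N p A' B' N' f t' t P)
    {ι : Type v} (C : ι → Type u) [∀ i, CommRing (C i)] [∀ i, Algebra A (C i)]
    (φ : ∀ i, C i →ₐ[A] A')
    (hobj : ∀ i j, ∃ (k : ι) (ψ₁ : C i →ₐ[A] C k) (ψ₂ : C j →ₐ[A] C k),
      (φ k).comp ψ₁ = φ i ∧ (φ k).comp ψ₂ = φ j)
    (hker : ∀ (i : ι) (x : C i), φ i x = 0 →
      ∃ (j : ι) (ψ : C i →ₐ[A] C j), (φ j).comp ψ = φ i ∧ ψ x = 0)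
    (hsurj : ∀ b : A', ∃ (i : ι) (c : C i), φ i c = b)
    (Q : ∀ (A'' : Type u) [CommRing A''] [Algebra A A''], Prop) (hQ : ∀ i, Q (C i)) :
    HasImpurity A B N p (fun A'' _ _ _ => Q A'') := by
  obtain ⟨i, hi⟩ := exists_stage_isImpurity N p A' B' N' f t' t P himp C φ hobj hker hsurj
  exact ⟨C i, TensorProduct A (C i) B, TensorProduct B (TensorProduct A (C i) B) N,
    inferInstance, inferInstance, inferInstance, inferInstance,
    inferInstance, inferInstance, inferInstance, inferInstance, inferInstance, inferInstance,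
    inferInstance, inferInstance, inferInstance, inferInstance, _, _, _, inferInstance,
    inferInstance, _, inferInstance, hi, hQ i⟩

/-- an impurity can be found over a base ring of finite type. -/
theorem exists_isImpurity_finiteType (himp : IsImpurity A B N p A' B' N' f t' t P) :
    HasImpurity A B N p (fun A'' _ _ _ => Algebra.FiniteType A A'') := by
  obtain ⟨h1, h2, h3⟩ := fgSubalgebra_family (A := A) A'
  exact hasImpurity_of_family N p A' B' N' f t' t P himp
    (fun i : {S : Subalgebra A A' // S.FG} => (i.1 : Type u)) (fun i => i.1.val) h1 h2 h3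
    (fun A'' _ _ => Algebra.FiniteType A A'')
    (fun i => (Subalgebra.fg_iff_finiteType i.1).1 i.2)

/-- an impurity over a base of finite type yields one over a finitely presented base. -/
theorem exists_isImpurity_finitePresentation_of_finiteType [Algebra.FiniteType A A']
    (himp : IsImpurity A B N p A' B' N' f t' t P) :
    HasImpurity A B N p (fun A'' _ _ _ => Algebra.FinitePresentation A A'') := by
  obtain ⟨n, g, hg⟩ := Algebra.FiniteType.iff_quotient_mvPolynomial''.1
    (inferInstance : Algebra.FiniteType A A')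
  obtain ⟨h1, h2, h3⟩ := fpQuotient_family g hg
  exact hasImpurity_of_family N p A' B' N' f t' t P himp
    (fun i : {J : Ideal (MvPolynomial (Fin n) A) // J.FG ∧ J ≤ RingHom.ker g.toRingHom} =>
      MvPolynomial (Fin n) A ⧸ i.1) (fun i => Ideal.Quotient.liftₐ i.1 g (fun _ ha => i.2.2 ha))
    h1 h2 h3 (fun A'' _ _ => Algebra.FinitePresentation A A'')
    (fun i => Algebra.FinitePresentation.quotient i.2.1)

/-- **an impurity can be found over a finitely presented base ring.** -/
theorem exists_isImpurity_finitePresentation (himp : IsImpurity A B N p A' B' N' f t' t P) :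
    HasImpurity A B N p (fun A'' _ _ _ => Algebra.FinitePresentation A A'') := by
  obtain ⟨A₁, B₁, N₁, _, _, _, _, _, _, _, _, _, _, _, _, _, _, f₁, t₁', t₁, _, _, P₁, _, himp₁,
    hft⟩ := exists_isImpurity_finiteType N p A' B' N' f t' t P himp
  haveI := hft
  exact exists_isImpurity_finitePresentation_of_finiteType N p A₁ B₁ N₁ f₁ t₁' t₁ P₁ himp₁

/-- for a base ring of finite type, the point `t` of an impurity can be taken closed in its
fibre. -/
theorem exists_isImpurity_isMaximal_fiberIdeal [Algebra.FiniteType A A']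
    (himp : IsImpurity A B N p A' B' N' f t' t P) :
    ∃ (t₂ : Ideal A') (_ : t₂.IsPrime), IsImpurity A B N p A' B' N' f t' t₂ P ∧
      (fiberIdeal p t₂).IsMaximal := by
  obtain ⟨hpush, hbc, hle, htp, hPt', hass, hno⟩ := himp
  haveI := htp
  obtain ⟨s, hs, hmem⟩ := exists_notMem_mem_sup t P hno
  haveI : (fiberIdeal p t).IsPrime := Groth.Agent.Lib.helper3.UnivInjAss.fiberIdeal_isPrime p t
  haveI : IsJacobsonRing (p.Fiber A') :=
    isJacobsonRing_of_finiteType (A := p.ResidueField) (B := p.Fiber A')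
  -- the image of `s` in the fibre ring is not in `fiberIdeal p t`
  have hs' : (1 : p.ResidueField) ⊗ₜ[A] s ∉ fiberIdeal p t := by
    intro h
    apply hs
    have h1 : s ∈ (fiberIdeal p t).comap
        (Algebra.TensorProduct.includeRight (R := A) (A := p.ResidueField) (B := A')).toRingHom := h
    rwa [comap_fiberIdeal p t] at h1
  have hjac : (fiberIdeal p t).jacobson = fiberIdeal p t :=
    IsJacobsonRing.out inferInstance (Ideal.IsPrime.isRadical inferInstance)
  have : ∃ 𝔪 : Ideal (p.Fiber A'), fiberIdeal p t ≤ 𝔪 ∧ 𝔪.IsMaximal ∧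
      (1 : p.ResidueField) ⊗ₜ[A] s ∉ 𝔪 := by
    by_contra hcon
    push Not at hcon
    apply hs'
    rw [← hjac, Ideal.jacobson, Ideal.mem_sInf]
    intro 𝔪 h𝔪
    exact hcon 𝔪 h𝔪.1 h𝔪.2
  obtain ⟨𝔪, hle𝔪, h𝔪, hs𝔪⟩ := this
  haveI := h𝔪.isPrime
  set t₂ := 𝔪.comap
    (Algebra.TensorProduct.includeRight (R := A) (A := p.ResidueField) (B := A')).toRingHom
    with ht₂
  have ht₂p : t₂.LiesOver p := Groth.Agent.Lib.helper3.UnivInjGlobal.comap_liesOver p 𝔪
  have hfib : fiberIdeal p t₂ = 𝔪 := Groth.Agent.Lib.helper3.UnivInjGlobal.fiberIdeal_comap p 𝔪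
  have htt₂ : t ≤ t₂ := by
    rw [← comap_fiberIdeal p t, ht₂]
    exact Ideal.comap_mono hle𝔪
  have hs₂ : s ∉ t₂ := hs𝔪
  refine ⟨t₂, Ideal.comap_isPrime _ _, ⟨hpush, hbc, hle.trans htt₂, ht₂p, hPt', hass, ?_⟩, ?_⟩
  · intro Q hQ hPQ
    refine not_liesOver_of_mem_sup t₂ P s hs₂ ?_ Q hPQ
    exact (sup_le_sup_left (Ideal.map_mono htt₂) P) hmem
  · rw [hfib]
    exact h𝔪

end Groth.Agent.Lib.helper26.Purity
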