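import Mathlib
import Groth.Prelude.Def_FlatCA
import Groth.Agent.Lib.Helper26.Purity1
import Groth.Agent.Lib.Helper26.Purity7

/-!
# Transfer of impurities along a map of base rings (helper26)

`hasImpurity_of_isImpurity_of_le`: let `(A₁, t' ≤ t₁, P)` be an impurity of `N` above `p`, and let
`C` be an `A₁`-algebra with primes `t'' ≤ v` over `t' ≤ t₁`.  Then `N` has an impurity above `p`
with base ring `C` and point `v`.
-/

set_option autoImplicit false
set_option linter.style.haveILetI false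
set_option linter.unusedSectionVars false
universe u

namespace Groth.Agent.Lib.helper26.Purity

open TensorProduct FlatCA

attribute [local instance] Algebra.TensorProduct.rightAlgebra

variable {A B : Type u} [CommRing A] [CommRing B] [Algebra A B] [Algebra.FiniteType A B]
  (N : Type u) [AddCommGroup N] [Module B N] (p : Ideal A) [p.IsPrime]
  -- the impurity
  (A₁ B₁ N₁ : Type u) [CommRing A₁] [CommRing B₁] [Algebra A A₁] [Algebra B B₁] [Algebra A₁ B₁]
  [Algebra A B₁] [IsScalarTower A B B₁] [IsScalarTower A A₁ B₁]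
  [AddCommGroup N₁] [Module B₁ N₁] [Module B N₁] [IsScalarTower B B₁ N₁] [Module A₁ N₁]
  [IsScalarTower A₁ B₁ N₁] (f₁ : N →ₗ[B] N₁) (t' t₁ : Ideal A₁) [t'.IsPrime] [t₁.IsPrime]
  (P : Ideal B₁) [P.IsPrime]
  -- the new base ring
  (C : Type u) [CommRing C] [Algebra A₁ C] [Algebra A C] [IsScalarTower A A₁ C]
  (t'' v : Ideal C) [t''.IsPrime] [v.IsPrime] [v.LiesOver t₁] [t''.LiesOver t']

theorem hasImpurity_of_isImpurity_of_le
    (himp : IsImpurity A B N p A₁ B₁ N₁ f₁ t' t₁ P) (hle : t'' ≤ v)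
    (Q : ∀ (A'' : Type u) [CommRing A''] [Algebra A A''], Ideal A'' → Prop) (hQ : Q C v) :
    HasImpurity A B N p Q := by
  obtain ⟨hpush, hbc, hle₁, htp, hPt', hass, hno⟩ := himp
  haveI := hpush
  haveI := htp
  haveI := hPt'
  haveI : Algebra.FiniteType A₁ B₁ := by
    haveI : Algebra.IsPushout A A₁ B B₁ := Algebra.IsPushout.symm inferInstance
    exact Algebra.FiniteType.equiv inferInstance (Algebra.IsPushout.equiv A A₁ B B₁)
  have hfC := TensorProduct.isBaseChange B₁ N₁ (C ⊗[A₁] B₁)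
  obtain ⟨P₁, _, hP₁P, _, hass₁⟩ := exists_prime_fiberIdeal_mem_associatedPrimes N₁ C
    (C ⊗[A₁] B₁) ((C ⊗[A₁] B₁) ⊗[B₁] N₁) _ hfC t' t'' P hass
  -- algebra structures on `BC = C ⊗[A₁] B₁`
  letI algBBC : Algebra B (C ⊗[A₁] B₁) :=
    ((algebraMap B₁ (C ⊗[A₁] B₁)).comp (algebraMap B B₁)).toAlgebra
  haveI : IsScalarTower B B₁ (C ⊗[A₁] B₁) := IsScalarTower.of_algebraMap_eq fun _ => rfl
  haveI : IsScalarTower A B₁ (C ⊗[A₁] B₁) := by
    refine IsScalarTower.of_algebraMap_eq (R := A) (S := B₁) (A := C ⊗[A₁] B₁) fun a => ?_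
    rw [IsScalarTower.algebraMap_apply A A₁ (C ⊗[A₁] B₁),
      IsScalarTower.algebraMap_apply A₁ B₁ (C ⊗[A₁] B₁), ← IsScalarTower.algebraMap_apply A A₁ B₁]
  haveI : IsScalarTower A B (C ⊗[A₁] B₁) := by
    refine IsScalarTower.of_algebraMap_eq (R := A) (S := B) (A := C ⊗[A₁] B₁) fun a => ?_
    rw [IsScalarTower.algebraMap_apply A B₁ (C ⊗[A₁] B₁), IsScalarTower.algebraMap_apply A B B₁,
      ← IsScalarTower.algebraMap_apply B B₁ (C ⊗[A₁] B₁)]
  have hpushC : Algebra.IsPushout A B C (C ⊗[A₁] B₁) := by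
    have h1 : Algebra.IsPushout A C B (C ⊗[A₁] B₁) := by
      haveI : Algebra.IsPushout A A₁ B B₁ := Algebra.IsPushout.symm inferInstance
      exact (Algebra.IsPushout.comp_iff A A₁ B B₁ (T := C) (T' := C ⊗[A₁] B₁)).2 inferInstance
    exact Algebra.IsPushout.symm h1
  -- the module map `N → NC`
  have hcompN := IsBaseChange.comp hbc hfC
  refine ⟨C, C ⊗[A₁] B₁, (C ⊗[A₁] B₁) ⊗[B₁] N₁, inferInstance, inferInstance, inferInstance,
    algBBC, inferInstance, inferInstance, inferInstance, inferInstance, inferInstance,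
    inferInstance, inferInstance, inferInstance, inferInstance, inferInstance,
    ((TensorProduct.mk B₁ (C ⊗[A₁] B₁) N₁ 1).restrictScalars B).comp f₁, t'', v, inferInstance,
    inferInstance, P₁, inferInstance, ?_, hQ⟩
  refine ⟨hpushC, hcompN, hle, ?_, inferInstance, hass₁, ?_⟩
  · constructor
    rw [htp.over, (inferInstance : v.LiesOver t₁).over, Ideal.under_def, Ideal.under_def,
      Ideal.under_def, Ideal.comap_comap, ← IsScalarTower.algebraMap_eq]
  · intro Q' hQ' hP₁Q hQv
    refine hno (Q'.comap (algebraMap B₁ (C ⊗[A₁] B₁))) ?_ ?_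
    · rw [← hP₁P]
      exact Ideal.comap_mono hP₁Q
    · constructor
      have h10 : (Q'.comap (algebraMap B₁ (C ⊗[A₁] B₁))).under A₁ = (Q'.under C).under A₁ := by
        rw [Ideal.under_def, Ideal.under_def, Ideal.under_def, Ideal.comap_comap,
          Ideal.comap_comap]
        congr 1
        ext x
        simp only [RingHom.comp_apply]
        rw [← IsScalarTower.algebraMap_apply A₁ C (C ⊗[A₁] B₁),
          ← IsScalarTower.algebraMap_apply A₁ B₁ (C ⊗[A₁] B₁)]
      rw [h10, ← hQv.over]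
      exact Ideal.LiesOver.over

end Groth.Agent.Lib.helper26.Purity
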