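import Mathlib

/-!
# Sections of unramified algebras (helper26)

For an `R`-algebra `E`, essentially of finite type and formally unramified, the kernel of an
`R`-algebra retraction `σ : E → R` is generated by an idempotent; in particular `σ` exhibits `R`
as a localization of `E`, and `R` is flat over `E` via `σ`.
-/

set_option autoImplicit false
set_option linter.style.haveILetI false
universe u

namespace Groth.Agent.Lib.helper26.Purity

open TensorProduct

theorem exists_isIdempotentElem_ker_eq_span {R E : Type u} [CommRing R] [CommRing E]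
    [Algebra R E] [Algebra.EssFiniteType R E] [Algebra.FormallyUnramified R E]
    (σ : E →ₐ[R] R) :
    ∃ e : E, IsIdempotentElem e ∧ RingHom.ker σ.toRingHom = Ideal.span {1 - e} := by
  obtain ⟨ε, hε, hsp⟩ : ∃ ε, IsIdempotentElem ε ∧
      KaehlerDifferential.ideal R E = Submodule.span (E ⊗[R] E) {ε} :=
    (Ideal.isIdempotentElem_iff_of_fg _ (KaehlerDifferential.ideal_fg R E)).mp <|
      (Ideal.cotangent_subsingleton_iff _).mp <| inferInstanceAs <| Subsingleton Ω[E⁄R]
  let μ : E ⊗[R] E →ₐ[R] E :=
    Algebra.TensorProduct.lift ((Algebra.ofId R E).comp σ) (AlgHom.id R E)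
      (fun _ _ => Commute.all _ _)
  have hμ : ∀ x y : E, μ (x ⊗ₜ y) = algebraMap R E (σ x) * y := by
    intro x y
    rw [Algebra.TensorProduct.lift_tmul]
    rfl
  have hε0 : Algebra.TensorProduct.lmul' R (S := E) ε = 0 := by
    have : ε ∈ KaehlerDifferential.ideal R E := by
      rw [hsp]; exact Submodule.mem_span_singleton_self ε
    exact this
  -- `σ ∘ μ = σ ∘ lmul'`
  have hσμ : ∀ z : E ⊗[R] E, σ (μ z) = σ (Algebra.TensorProduct.lmul' R (S := E) z) := by
    intro z
    induction z using TensorProduct.induction_on with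
    | zero => simp only [map_zero]
    | tmul x y =>
      rw [hμ, Algebra.TensorProduct.lmul'_apply_tmul, map_mul, map_mul, AlgHom.commutes]
      rfl
    | add z₁ z₂ h₁ h₂ => rw [map_add, map_add, h₁, h₂, map_add, map_add]
  refine ⟨1 - μ ε, (hε.map μ).one_sub, ?_⟩
  rw [sub_sub_cancel]
  apply le_antisymm
  · intro x hx
    have hx0 : σ x = 0 := hx
    have hmem : (1 : E) ⊗ₜ[R] x - x ⊗ₜ[R] (1 : E) ∈ KaehlerDifferential.ideal R E :=
      KaehlerDifferential.one_smul_sub_smul_one_mem_ideal R x
    rw [hsp, Submodule.mem_span_singleton] at hmem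
    obtain ⟨c, hc⟩ := hmem
    have h1 := congrArg μ hc
    rw [smul_eq_mul, map_mul, map_sub, hμ, hμ, hx0, map_zero, zero_mul, sub_zero, map_one,
      map_one, one_mul] at h1
    rw [← h1]
    exact Ideal.mul_mem_left _ _ (Ideal.subset_span rfl)
  · rw [Ideal.span_le, Set.singleton_subset_iff]
    show σ (μ ε) = 0
    rw [hσμ, hε0, map_zero]

/-- a retraction of an unramified algebra is flat. -/
theorem flat_of_retraction {R E : Type u} [CommRing R] [CommRing E]
    [Algebra R E] [Algebra.EssFiniteType R E] [Algebra.FormallyUnramified R E]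
    (σ : E →ₐ[R] R) :
    letI := σ.toRingHom.toAlgebra
    Module.Flat E R := by
  letI := σ.toRingHom.toAlgebra
  obtain ⟨e, he, hker⟩ := exists_isIdempotentElem_ker_eq_span σ
  have hsurj : Function.Surjective (algebraMap E R) := by
    intro r
    exact ⟨algebraMap R E r, σ.commutes r⟩
  haveI : IsLocalization.Away e R := IsLocalization.away_of_isIdempotentElem he hker hsurj
  exact IsLocalization.flat R (Submonoid.powers e)

end Groth.Agent.Lib.helper26.Purity
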