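import Mathlib
import Groth.Agent.Lib.Helper26.Purity17

/-!
# Maps from étale algebras to flat algebras are flat (helper26)

`flat_of_etale_of_algHom`: if `A₁` is étale over `A` and `H` is a flat `A`-algebra, then every
`A`-algebra map `φ : A₁ → H` makes `H` flat over `A₁`.
-/

set_option autoImplicit false
set_option linter.style.haveILetI false
universe u

namespace Groth.Agent.Lib.helper26.Purity

open TensorProduct

theorem flat_of_etale_of_algHom {A A₁ H : Type u} [CommRing A] [CommRing A₁] [CommRing H]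
    [Algebra A A₁] [Algebra A H] [Algebra.Etale A A₁] [Module.Flat A H] (φ : A₁ →ₐ[A] H) :
    letI := φ.toRingHom.toAlgebra
    Module.Flat A₁ H := by
  letI algR : Algebra A₁ (H ⊗[A] A₁) := Algebra.TensorProduct.rightAlgebra
  have h1 : Module.Flat A₁ (H ⊗[A] A₁) :=
    Module.Flat.isBaseChange (R := A) (M := H) (S := A₁) (H ⊗[A] A₁)
      (f := (Algebra.TensorProduct.includeLeft (R := A) (S := A) (A := H) (B := A₁)).toLinearMap)
      (TensorProduct.isPushout' (R := A) (S := H) (T := A₁)).out
  let σ : H ⊗[A] A₁ →ₐ[H] H :=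
    Algebra.TensorProduct.lift (AlgHom.id H H) φ (fun _ _ => Commute.all _ _)
  letI algEH : Algebra (H ⊗[A] A₁) H := σ.toRingHom.toAlgebra
  have h2 : Module.Flat (H ⊗[A] A₁) H := flat_of_retraction σ
  letI algA₁H : Algebra A₁ H := φ.toRingHom.toAlgebra
  have tower : @IsScalarTower A₁ (H ⊗[A] A₁) H algR.toSMul algEH.toSMul algA₁H.toSMul := by
    refine @IsScalarTower.of_algebraMap_eq A₁ (H ⊗[A] A₁) H _ _ _ algR algEH algA₁H fun a => ?_
    show φ a = σ ((1 : H) ⊗ₜ[A] a)
    rw [Algebra.TensorProduct.lift_tmul, map_one, one_mul]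
  exact @Module.Flat.trans A₁ (H ⊗[A] A₁) H _ _ algR _ algA₁H.toModule algEH.toModule tower h1 h2

end Groth.Agent.Lib.helper26.Purity
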