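import Mathlib
import Groth.Prelude.Def_FlatCA
import Groth.Agent.Lib.Helper26.Purity19
import Groth.Agent.Lib.Helper26.Purity20
import Groth.Agent.Lib.Helper11.GenFree8

/-!
# The cutting lemma (helper26)

`exists_ne_zero_forall_prime_exists_ass`: let `R` be a Noetherian domain, `S` an `R`-algebra of
finite type, `M` a finite `S`-module and `P` an associated point of the generic fibre of `M`.
Then there is `h ≠ 0` in `R` such that over every prime `τ` of `R` not containing `h` there is an
associated point of the fibre of `M` over `τ` which contains `P`.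
-/

set_option autoImplicit false
set_option linter.style.haveILetI false
set_option linter.unusedSectionVars false
universe u

namespace Groth.Agent.Lib.helper26.Purity

open TensorProduct FlatCA

attribute [local instance] Algebra.TensorProduct.rightAlgebra

section Core

variable {R S : Type u} [CommRing R] [IsDomain R] [CommRing S] [Algebra R S]
  [Algebra.FiniteType R S] (M : Type u) [AddCommGroup M] [Module S M] [Module R M]
  [IsScalarTower R S M] [Module.Finite S M]

open Groth.Agent.Lib.helper11.GenFree in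
theorem exists_ne_zero_forall_tmul_ne_zero (P : Ideal S) [P.IsPrime] [P.LiesOver (⊥ : Ideal R)]
    (n : M) (hn : ∀ b : S, b ∈ P ↔ b • n = 0) :
    ∃ h : R, h ≠ 0 ∧ ∀ (τ : Ideal R) [τ.IsPrime], h ∉ τ →
      (1 : τ.ResidueField) ⊗ₜ[R] n ≠ 0 := by
  classical
  -- the embedding `S ⧸ P → M`
  have hker : P = LinearMap.ker (LinearMap.toSpanSingleton S M n) := by
    ext b
    rw [hn b, LinearMap.mem_ker, LinearMap.toSpanSingleton_apply]
  let ψS : (S ⧸ P) →ₗ[S] M := Submodule.liftQ P (LinearMap.toSpanSingleton S M n) hker.le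
  have hψS : Function.Injective ψS := LinearMap.ker_eq_bot.mp (Submodule.ker_liftQ_eq_bot' _ _ hker)
  let ψ : (S ⧸ P) →ₗ[R] M := ψS.restrictScalars R
  have hψ : Function.Injective ψ := hψS
  have hψ1 : ψ (1 : S ⧸ P) = n := by
    show ψS (Submodule.Quotient.mk (1 : S)) = n
    rw [Submodule.liftQ_apply, LinearMap.toSpanSingleton_apply, one_smul]
  let π : M →ₗ[R] (M ⧸ LinearMap.range ψS) := (LinearMap.range ψS).mkQ.restrictScalars R
  have hπ : Function.Surjective π := Submodule.mkQ_surjective _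
  have hex : Function.Exact ψ π := LinearMap.exact_map_mkQ_range ψS
  -- generic freeness
  obtain ⟨a₁, ha₁, hPF₁⟩ := GF_of_finiteType_domain (R := R) S (M ⧸ LinearMap.range ψS)
  obtain ⟨a₂, ha₂, hPF₂⟩ := GF_of_finiteType_domain (R := R) S (S ⧸ P)
  refine ⟨a₁ * a₂, mul_ne_zero ha₁ ha₂, fun τ _ hτ => ?_⟩
  have hPF₁' : PF R (a₁ * a₂) (M ⧸ LinearMap.range ψS) := hPF₁.of_dvd (dvd_mul_right a₁ a₂)
  have hPF₂' : PF R (a₁ * a₂) (S ⧸ P) := hPF₂.of_dvd (dvd_mul_left a₂ a₁)
  -- pass to the local ring at `τ`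
  have hu : IsUnit (algebraMap R (Localization.AtPrime τ) (a₁ * a₂)) :=
    IsLocalization.map_units (Localization.AtPrime τ) (⟨a₁ * a₂, hτ⟩ : τ.primeCompl)
  let φ : Localization.Away (a₁ * a₂) →ₐ[R] Localization.AtPrime τ :=
    { IsLocalization.Away.lift (a₁ * a₂) hu with
      commutes' := fun r => IsLocalization.Away.lift_eq (a₁ * a₂) hu r }
  haveI hfree₁ : Module.Free (Localization.AtPrime τ)
      (Localization.AtPrime τ ⊗[R] (M ⧸ LinearMap.range ψS)) :=
    free_baseChange_of_algHom φ hPF₁'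
  haveI hfree₂ : Module.Free (Localization.AtPrime τ) (Localization.AtPrime τ ⊗[R] (S ⧸ P)) :=
    free_baseChange_of_algHom φ hPF₂'
  have hinj : Function.Injective (ψ.lTensor τ.ResidueField) :=
    lTensor_injective_of_flat_baseChange (Localization.AtPrime τ) τ.ResidueField ψ π hψ hπ hex
  -- nontriviality
  haveI : Nontrivial (Localization.AtPrime τ ⊗[R] (S ⧸ P)) := by
    have h1 : Function.Injective (Algebra.linearMap R (S ⧸ P)) := by
      rw [injective_iff_map_eq_zero]
      intro r hr
      rw [Algebra.linearMap_apply, IsScalarTower.algebraMap_apply R S (S ⧸ P),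
        Ideal.Quotient.algebraMap_eq, Ideal.Quotient.eq_zero_iff_mem] at hr
      have h2 : r ∈ P.under R := hr
      rw [← (inferInstance : P.LiesOver (⊥ : Ideal R)).over] at h2
      exact (Ideal.mem_bot).1 h2
    have h2 : Function.Injective ((Algebra.linearMap R (S ⧸ P)).lTensor (Localization.AtPrime τ)) :=
      Module.Flat.lTensor_preserves_injective_linearMap (M := Localization.AtPrime τ) _ h1
    haveI : Nontrivial (Localization.AtPrime τ ⊗[R] R) :=
      (TensorProduct.rid R (Localization.AtPrime τ)).toEquiv.nontrivial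
    exact h2.nontrivial
  haveI : Nontrivial (τ.ResidueField ⊗[R] (S ⧸ P)) :=
    nontrivial_tensor_of_free_baseChange (Localization.AtPrime τ) τ.ResidueField (S ⧸ P)
  intro h0
  have h1 : ψ.lTensor τ.ResidueField ((1 : τ.ResidueField) ⊗ₜ[R] (1 : S ⧸ P)) = 0 := by
    rw [LinearMap.lTensor_tmul, hψ1, h0]
  have h2 := hinj (h1.trans (map_zero _).symm)
  rw [← Algebra.TensorProduct.one_def] at h2
  exact one_ne_zero h2

end Core

section Cutting

variable {R S : Type u} [CommRing R] [IsDomain R] [IsNoetherianRing R] [CommRing S] [Algebra R S]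
  [Algebra.FiniteType R S] (M : Type u) [AddCommGroup M] [Module S M] [Module R M]
  [IsScalarTower R S M] [Module.Finite S M]

/-- **The cutting lemma.** -/
theorem exists_ne_zero_forall_prime_exists_ass (P : Ideal S) [P.IsPrime]
    [P.LiesOver (⊥ : Ideal R)]
    (hass : fiberIdeal (⊥ : Ideal R) P ∈
      associatedPrimes ((⊥ : Ideal R).Fiber S) (fiberMod (⊥ : Ideal R) S M)) :
    ∃ h : R, h ≠ 0 ∧ ∀ (τ : Ideal R) [τ.IsPrime], h ∉ τ →
      ∃ P₁ : Ideal S, P₁.IsPrime ∧ P ≤ P₁ ∧ P₁.LiesOver τ ∧
        fiberIdeal τ P₁ ∈ associatedPrimes (τ.Fiber S) (fiberMod τ S M) := by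
  obtain ⟨n, hn⟩ := exists_elt_ann_eq_of_fiberIdeal_bot_mem_associatedPrimes M P hass
  obtain ⟨h, hh, hτ⟩ := exists_ne_zero_forall_tmul_ne_zero (R := R) M P n hn
  refine ⟨h, hh, fun τ _ hhτ => ?_⟩
  haveI : IsNoetherianRing (τ.Fiber S) :=
    Algebra.FiniteType.isNoetherianRing τ.ResidueField _
  exact exists_prime_ge_of_tmul_ne_zero M τ P n (fun b hb => (hn b).1 hb) (hτ τ hhτ)

end Cutting

end Groth.Agent.Lib.helper26.Purity
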