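import Mathlib

/-!
# Choosing a height one prime avoiding an element (helper26)

`exists_prime_ne_bot_le_notMem`: in a Noetherian domain, if the prime `t` has a nonzero prime
strictly below it (height at least two) and `g ≠ 0`, then there is a nonzero prime `q' ≤ t` with
`g ∉ q'`.
-/

set_option autoImplicit false
set_option linter.style.haveILetI false
set_option linter.unusedSectionVars false
universe u

namespace Groth.Agent.Lib.helper26.Purity

section Krull

variable {R : Type u} [CommRing R] [IsDomain R] [IsNoetherianRing R]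

private theorem enat_eq_zero_of_add_one_le_one (a : ℕ∞) (h : a + 1 ≤ 1) : a = 0 := by
  have h1 : a ≠ ⊤ := by
    rintro rfl
    simp at h
  rw [ENat.add_one_le_iff h1] at h
  exact Order.lt_one_iff.1 h

theorem exists_prime_ne_bot_le_notMem (t q : Ideal R) [t.IsPrime] [q.IsPrime] (hq0 : q ≠ ⊥)
    (hqt : q < t) (g : R) (hg : g ≠ 0) :
    ∃ q' : Ideal R, q'.IsPrime ∧ q' ≠ ⊥ ∧ q' ≤ t ∧ g ∉ q' := by
  classical
  have hfin := Ideal.finite_minimalPrimes_of_isNoetherianRing R (Ideal.span {g})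
  -- no minimal prime of `(g)` contains `t`
  have hMin : ∀ 𝔯 ∈ (Ideal.span {g}).minimalPrimes, ¬ t ≤ 𝔯 := by
    intro 𝔯 h𝔯 hle
    haveI : 𝔯.IsPrime := h𝔯.1.1
    have h1 : 𝔯.height ≤ 1 :=
      Ideal.height_le_one_of_isPrincipal_of_mem_minimalPrimes (Ideal.span {g}) 𝔯 h𝔯
    have h2 : q.height + 1 ≤ 𝔯.height :=
      Ideal.height_add_one_le_of_lt_of_isPrime (lt_of_lt_of_le hqt hle)
    exact hq0 (Ideal.height_eq_zero_iff_eq_bot.1
      (enat_eq_zero_of_add_one_le_one _ (h2.trans h1)))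
  -- prime avoidance
  have havoid : ¬ ((t : Set R) ⊆ ⋃ i ∈ ((insert ⊥ hfin.toFinset : Finset (Ideal R)) : Set (Ideal R)),
      ((id i : Ideal R) : Set R)) := by
    rw [Ideal.subset_union_prime (R := R) (f := id) (⊥ : Ideal R) (⊥ : Ideal R)]
    · rintro ⟨i, hi, hti⟩
      rcases Finset.mem_insert.1 hi with rfl | hi
      · exact not_lt_bot (lt_of_lt_of_le hqt hti)
      · exact hMin i (hfin.mem_toFinset.1 hi) hti
    · intro i hi hi1 _
      rcases Finset.mem_insert.1 hi with rfl | hi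
      · exact absurd rfl hi1
      · exact (hfin.mem_toFinset.1 hi).1.1
  rw [Set.not_subset] at havoid
  obtain ⟨x, hxt, hx⟩ := havoid
  simp only [Finset.coe_insert, Set.mem_insert_iff, Set.iUnion_iUnion_eq_or_left, id,
    Set.mem_union, Set.mem_iUnion, not_or, not_exists] at hx
  obtain ⟨hx0, hxMin⟩ := hx
  have hx0' : x ≠ 0 := fun h => hx0 (by rw [h]; exact (⊥ : Ideal R).zero_mem)
  have hle : Ideal.span {x} ≤ t := (Ideal.span_singleton_le_iff_mem t).2 hxt
  obtain ⟨q', hq', hq't⟩ := Ideal.exists_minimalPrimes_le hle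
  haveI : q'.IsPrime := hq'.1.1
  have hxq' : x ∈ q' := hq'.1.2 (Ideal.subset_span rfl)
  have hq'0 : q' ≠ ⊥ := by
    rintro rfl
    exact hx0' ((Ideal.mem_bot).1 hxq')
  have hht : q'.height ≤ 1 :=
    Ideal.height_le_one_of_isPrincipal_of_mem_minimalPrimes (Ideal.span {x}) q' hq'
  refine ⟨q', inferInstance, hq'0, hq't, fun hgq' => ?_⟩
  have hle' : Ideal.span {g} ≤ q' := (Ideal.span_singleton_le_iff_mem q').2 hgq'
  obtain ⟨𝔯, h𝔯, h𝔯q'⟩ := Ideal.exists_minimalPrimes_le hle'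
  haveI : 𝔯.IsPrime := h𝔯.1.1
  have hg𝔯 : g ∈ 𝔯 := h𝔯.1.2 (Ideal.subset_span rfl)
  have h𝔯0 : 𝔯 ≠ ⊥ := by
    rintro rfl
    exact hg ((Ideal.mem_bot).1 hg𝔯)
  rcases eq_or_lt_of_le h𝔯q' with heq | hlt
  · refine hxMin 𝔯 ?_ (heq ▸ hxq')
    simpa using h𝔯
  · have h2 : 𝔯.height + 1 ≤ q'.height := Ideal.height_add_one_le_of_lt_of_isPrime hlt
    exact h𝔯0 (Ideal.height_eq_zero_iff_eq_bot.1
      (enat_eq_zero_of_add_one_le_one _ (h2.trans hht)))

end Krull

end Groth.Agent.Lib.helper26.Purity
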