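import Mathlib

/-!
# A point isolated in its fibre is a quasi-finite point (helper26)

`quasiFiniteAt_of_isolated`: for an algebra `R` of finite type over `A` and a prime `t` of `R`
over `p`, if `t` has no proper specialization and no proper generalization in the fibre over `p`,
then `R` is quasi-finite over `A` at `t`.
-/

set_option autoImplicit false
set_option linter.style.haveILetI false
set_option linter.unusedSectionVars false
universe u

namespace Groth.Agent.Lib.helper26.Purity

section Isolated

variable {A R : Type u} [CommRing A] [CommRing R] [Algebra A R] [Algebra.FiniteType A R]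

theorem quasiFiniteAt_of_isolated (p : Ideal A) [p.IsPrime] (t : Ideal R) [t.IsPrime]
    [t.LiesOver p]
    (hup : ∀ t₂ : Ideal R, t₂.IsPrime → t₂.LiesOver p → t ≤ t₂ → t₂ = t)
    (hdown : ∀ q : Ideal R, q.IsPrime → q.LiesOver p → q ≤ t → q = t) :
    Algebra.QuasiFiniteAt A t := by
  let e := PrimeSpectrum.primesOverOrderIsoFiber A R p
  let a : p.primesOver R := ⟨t, inferInstance, inferInstance⟩
  have hmax : IsMax a := fun b hab => (hup b.1 b.2.1 b.2.2 hab).le
  have hmin : IsMin a := fun b hba => (hdown b.1 b.2.1 b.2.2 hba).ge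
  have hmax' : IsMax (e a) := (e.isMax_apply).2 hmax
  have hmin' : IsMin (e a) := (e.isMin_apply).2 hmin
  haveI : IsNoetherianRing (p.Fiber R) := Algebra.FiniteType.isNoetherianRing p.ResidueField _
  haveI : IsJacobsonRing (p.Fiber R) := isJacobsonRing_of_finiteType (A := p.ResidueField)
  have hopen : IsOpen {e a} := by
    have htfae := (PrimeSpectrum.isOpen_singleton_tfae_of_isNoetherian_of_isJacobsonRing (e a)).out
      0 2
    refine htfae.2 ⟨?_, ?_⟩
    · rw [PrimeSpectrum.isClosed_singleton_iff_isMaximal, ← PrimeSpectrum.isMax_iff]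
      exact hmax'
    · rw [PrimeSpectrum.stableUnderGeneralization_singleton, ← PrimeSpectrum.isMin_iff]
      exact hmin'
  haveI : Algebra.QuasiFiniteAt p.ResidueField (e a).asIdeal :=
    Algebra.QuasiFiniteAt.of_isOpen_singleton (e a) hopen
  refine Algebra.QuasiFiniteAt.of_quasiFiniteAt_residueField p t (e a).asIdeal ?_
  have h1 := PrimeSpectrum.coe_primesOverOrderIsoFiber_symm_apply (R := A) (S := R) (p := p) (e a)
  rw [e.symm_apply_apply] at h1
  exact h1.symm

end Isolated

end Groth.Agent.Lib.helper26.Purity
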