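import Mathlib
import Groth.Prelude.Def_FlatCA
import Groth.Agent.Lib.Helper26.Purity1
import Groth.Agent.Lib.Helper26.Purity10
import Groth.Agent.Lib.Helper3.UnivInjAss1
import Groth.Agent.S9005

/-!
# An impurity does not live inside a single fibre (helper26)

`not_isImpurity_of_liesOver`: in an impurity `(A', t' ≤ t, P)` above `p` the point `t'` does not
lie over `p`.  (Otherwise base change to the fibre `κ(p) ⊗ A'` would give an impurity of the
`κ(p)`-module `κ(p) ⊗ N`, which is free over the field `κ(p)`, hence universally pure.)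
-/

set_option autoImplicit false
set_option linter.style.haveILetI false
set_option linter.unusedSectionVars false
universe u

namespace Groth.Agent.Lib.helper26.Purity

open TensorProduct FlatCA

attribute [local instance] Algebra.TensorProduct.rightAlgebra

variable {A B : Type u} [CommRing A] [CommRing B] [Algebra A B] [Algebra.FiniteType A B]
  (N : Type u) [AddCommGroup N] [Module B N] [Module.Finite B N] (p : Ideal A) [p.IsPrime]
  (A' B' N' : Type u) [CommRing A'] [CommRing B'] [Algebra A A'] [Algebra B B'] [Algebra A' B']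
  [Algebra A B'] [IsScalarTower A B B'] [IsScalarTower A A' B']
  [AddCommGroup N'] [Module B' N'] [Module B N'] [IsScalarTower B B' N'] [Module A' N']
  [IsScalarTower A' B' N'] (f : N →ₗ[B] N') (t' t : Ideal A') [t'.IsPrime] [t.IsPrime]
  (P : Ideal B') [P.IsPrime]

theorem not_isImpurity_of_liesOver (himp : IsImpurity A B N p A' B' N' f t' t P)
    [t'.LiesOver p] : False := by
  haveI : t.LiesOver p := himp.2.2.2.1
  have hle : t' ≤ t := himp.2.2.1
  haveI hbotp : (⊥ : Ideal p.ResidueField).LiesOver p := by
    constructor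
    ext a
    rw [Ideal.under_def, Ideal.mem_comap, Ideal.mem_bot, Ideal.algebraMap_residueField_eq_zero]
  haveI h1 : (fiberIdeal p t').IsPrime := Groth.Agent.Lib.helper3.UnivInjAss.fiberIdeal_isPrime p t'
  haveI h2 : (fiberIdeal p t).IsPrime := Groth.Agent.Lib.helper3.UnivInjAss.fiberIdeal_isPrime p t
  haveI h3 : (fiberIdeal p t).LiesOver t := ⟨(comap_fiberIdeal p t).symm⟩
  haveI h4 : (fiberIdeal p t').LiesOver t' := ⟨(comap_fiberIdeal p t').symm⟩
  haveI h5 : (fiberIdeal p t).LiesOver (⊥ : Ideal p.ResidueField) := by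
    constructor
    haveI : ((fiberIdeal p t).under p.ResidueField).IsPrime := Ideal.IsPrime.under _ _
    exact ((Ideal.eq_bot_or_top _).resolve_right (Ideal.IsPrime.ne_top inferInstance)).symm
  have hpure : IsUnivPureAlong p.ResidueField (p.Fiber B) ((p.Fiber B) ⊗[B] N)
      (⊥ : Ideal p.ResidueField) :=
    Groth.Agent.S9005.result (A := p.ResidueField) (B := p.Fiber B) ((p.Fiber B) ⊗[B] N) ⊥
  exact (not_pure_of_isImpurity_of_le N p p.ResidueField (p.Fiber B) ((p.Fiber B) ⊗[B] N)
    (TensorProduct.mk B (p.Fiber B) N 1) (⊥ : Ideal p.ResidueField) A' B' N' f t' t P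
    (p.Fiber A') (fiberIdeal p t') (fiberIdeal p t)
    (TensorProduct.isBaseChange B N (p.Fiber B)) himp (Ideal.map_mono hle)).1 hpure

end Groth.Agent.Lib.helper26.Purity
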