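import Mathlib
import Groth.Prelude.Def_FlatCA
import Groth.Agent.Lib.Helper26.Purity1
import Groth.Agent.Lib.Helper26.Purity7
import Groth.Agent.Lib.Helper26.Purity16
import Groth.Agent.Lib.Helper26.Purity21
import Groth.Agent.Lib.Helper26.Purity22
import Groth.Agent.Lib.Helper26.Purity23
import Groth.Agent.Lib.Helper26.Purity24

/-!
# Over a Noetherian base an impurity can be found over a quasi-finite base change (helper26)

`hasImpurity_quasiFiniteAt_of_isImpurity`: `A` Noetherian, `A'` of finite type over `A`, and an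
impurity `(A', t' ≤ t, P)` of `N` above `p` such that `t` is closed in its fibre.  Then there is an
impurity whose base ring is of finite type over `A` and quasi-finite at its point.

The proof is a Noetherian induction on `t'`: pass to `R = A'/t'`; by the cutting lemma the
associated point `P` spreads out over an open dense part of `Spec R`; if `t/t'` has height one we
are done (`R` is quasi-finite at `t/t'`), otherwise Krull's principal ideal theorem gives a
height one prime `q' ⊆ t/t'` in that open part, and we replace `t'` by the preimage of `q'`.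
-/

set_option autoImplicit false
set_option linter.style.haveILetI false
set_option linter.unusedSectionVars false
universe u

namespace Groth.Agent.Lib.helper26.Purity

open TensorProduct FlatCA

attribute [local instance] Algebra.TensorProduct.rightAlgebra

variable {A B : Type u} [CommRing A] [IsNoetherianRing A] [CommRing B] [Algebra A B]
  [Algebra.FiniteType A B]
  (N : Type u) [AddCommGroup N] [Module B N] [Module.Finite B N] (p : Ideal A) [p.IsPrime]
  (A' B' N' : Type u) [CommRing A'] [CommRing B'] [Algebra A A'] [Algebra.FiniteType A A']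
  [Algebra B B'] [Algebra A' B']
  [Algebra A B'] [IsScalarTower A B B'] [IsScalarTower A A' B']
  [AddCommGroup N'] [Module B' N'] [Module B N'] [IsScalarTower B B' N'] [Module A' N']
  [IsScalarTower A' B' N'] (f : N →ₗ[B] N') (t : Ideal A') [t.IsPrime]

theorem hasImpurity_quasiFiniteAt_step_core (hpush : Algebra.IsPushout A B A' B')
    (hbc : IsBaseChange B' f) [t.LiesOver p]
    (hclosed : ∀ t₂ : Ideal A', t₂.IsPrime → t₂.LiesOver p → t ≤ t₂ → t₂ = t)
    (τ : Ideal A') [τ.IsPrime] (hτt : τ ≤ t) (P : Ideal B') [P.IsPrime] [P.LiesOver τ]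
    (hass : fiberIdeal τ P ∈ associatedPrimes (τ.Fiber B') (fiberMod τ B' N'))
    (hno : ∀ (P' : Ideal B') [P'.IsPrime], P ≤ P' → ¬ P'.LiesOver t)
    (IH : ∀ (τ₁ : Ideal A'), τ < τ₁ → ∀ [τ₁.IsPrime], τ₁ ≤ t →
      ∀ (P₁ : Ideal B') [P₁.IsPrime] [P₁.LiesOver τ₁],
      fiberIdeal τ₁ P₁ ∈ associatedPrimes (τ₁.Fiber B') (fiberMod τ₁ B' N') →
      (∀ (P' : Ideal B') [P'.IsPrime], P₁ ≤ P' → ¬ P'.LiesOver t) →
      HasImpurity A B N p (fun A'' _ _ t'' => ∃ _ : t''.IsPrime,
        Algebra.FiniteType A A'' ∧ Algebra.QuasiFiniteAt A t''))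
    (hτp : ¬ τ.LiesOver p)
    (R : Type u) [CommRing R] [IsDomain R] [Algebra A' R] [Algebra A R] [IsScalarTower A A' R]
    (hsurj : Function.Surjective (algebraMap A' R)) (hker : RingHom.ker (algebraMap A' R) = τ) :
    HasImpurity A B N p (fun A'' _ _ t'' => ∃ _ : t''.IsPrime,
      Algebra.FiniteType A A'' ∧ Algebra.QuasiFiniteAt A t'') := by
  classical
  have himp : IsImpurity A B N p A' B' N' f τ t P :=
    ⟨hpush, hbc, hτt, inferInstance, inferInstance, hass, hno⟩
  -- general instances
  haveI := hpush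
  haveI : IsNoetherianRing A' := Algebra.FiniteType.isNoetherianRing A A'
  haveI : Algebra.FiniteType A' B' := by
    haveI : Algebra.IsPushout A A' B B' := Algebra.IsPushout.symm inferInstance
    exact Algebra.FiniteType.equiv inferInstance (Algebra.IsPushout.equiv A A' B B')
  haveI : Module.Finite B' N' := Module.Finite.equiv hbc.equiv
  -- the quotient `R = A' ⧸ τ`
  haveI : Algebra.FiniteType A R :=
    Algebra.FiniteType.of_surjective (IsScalarTower.toAlgHom A A' R) hsurj
  haveI : IsNoetherianRing R := Algebra.FiniteType.isNoetherianRing A R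
  haveI hbotτ : (⊥ : Ideal R).LiesOver τ := by
    constructor
    rw [Ideal.under_def, ← RingHom.ker_eq_comap_bot, hker]
  have hfC := TensorProduct.isBaseChange B' N' (R ⊗[A'] B')
  obtain ⟨Pb, _, hPbP, _, hassb⟩ := exists_prime_fiberIdeal_mem_associatedPrimes N' R
    (R ⊗[A'] B') ((R ⊗[A'] B') ⊗[B'] N') _ hfC τ (⊥ : Ideal R) P hass
  obtain ⟨h, hh, hcut⟩ := exists_ne_zero_forall_prime_exists_ass (R := R)
    (S := R ⊗[A'] B') ((R ⊗[A'] B') ⊗[B'] N') Pb hassb
  -- the image of `t`
  have hkert : RingHom.ker (algebraMap A' R) ≤ t := by rwa [hker]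
  set tb : Ideal R := t.map (algebraMap A' R) with htb
  haveI htbprime : tb.IsPrime := Ideal.map_isPrime_of_surjective hsurj hkert
  have hcomaptb : tb.comap (algebraMap A' R) = t := by
    rw [htb, Ideal.comap_map_of_surjective _ hsurj, ← RingHom.ker_eq_comap_bot,
      sup_eq_left.2 hkert]
  haveI htbt : tb.LiesOver t := by
    constructor
    rw [Ideal.under_def, hcomaptb]
  haveI htbp : tb.LiesOver p := Ideal.LiesOver.trans tb t p
  -- contraction of primes of `S_R` to `B'`
  have hunder : ∀ (Q : Ideal (R ⊗[A'] B')) (q : Ideal R), Q.LiesOver q →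
      (Q.comap (algebraMap B' (R ⊗[A'] B'))).under A' = q.under A' := by
    intro Q q hQq
    rw [hQq.over, Ideal.under_def, Ideal.under_def, Ideal.under_def, Ideal.comap_comap,
      Ideal.comap_comap]
    congr 1
    ext x
    simp only [RingHom.comp_apply]
    rw [← IsScalarTower.algebraMap_apply A' R (R ⊗[A'] B'),
      ← IsScalarTower.algebraMap_apply A' B' (R ⊗[A'] B')]
  -- `h ∈ tb`
  have hhtb : h ∈ tb := by
    by_contra hnot
    obtain ⟨P₁, hP₁, hle₁, hP₁tb, -⟩ := hcut tb hnot
    refine hno (P₁.comap (algebraMap B' (R ⊗[A'] B'))) ?_ ?_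
    · rw [← hPbP]
      exact Ideal.comap_mono hle₁
    · constructor
      rw [hunder P₁ tb hP₁tb]
      exact htbt.over
  by_cases hbetween : ∃ q : Ideal R, q.IsPrime ∧ q ≠ ⊥ ∧ q < tb
  · -- Case A: cut down
    obtain ⟨q, hq, hq0, hqt⟩ := hbetween
    obtain ⟨q', hq', hq'0, hq't, hhq'⟩ := exists_prime_ne_bot_le_notMem tb q hq0 hqt h hh
    obtain ⟨P₁, hP₁, hle₁, hP₁q', hass₁⟩ := hcut q' hhq'
    have hτ₁ : τ < q'.under A' := by
      refine lt_of_le_of_ne ?_ ?_
      · rw [hbotτ.over]
        exact Ideal.comap_mono bot_le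
      · intro heq
        apply hq'0
        have h1 : (⊥ : Ideal R).comap (algebraMap A' R) = q'.comap (algebraMap A' R) := by
          have h2 := hbotτ.over
          rw [Ideal.under_def] at h2
          rw [← h2, heq, Ideal.under_def]
        exact (Ideal.comap_injective_of_surjective _ hsurj h1).symm
    have hτ₁t : q'.under A' ≤ t := by
      rw [htbt.over]
      exact Ideal.comap_mono hq't
    haveI : (q'.under A').IsPrime := Ideal.IsPrime.under A' q'
    haveI hq'τ₁ : q'.LiesOver (q'.under A') := ⟨rfl⟩
    haveI hP₁τ₁ : (P₁.comap (algebraMap B' (R ⊗[A'] B'))).LiesOver (q'.under A') :=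
      ⟨(hunder P₁ q' hP₁q').symm⟩
    haveI : (P₁.comap (algebraMap B' (R ⊗[A'] B'))).IsPrime := Ideal.comap_isPrime _ _
    have hass₁' := fiberIdeal_comap_mem_associatedPrimes N' R
      (R ⊗[A'] B') ((R ⊗[A'] B') ⊗[B'] N') _ hfC (q'.under A') q' P₁ hass₁
    have hPP₁ : P ≤ P₁.comap (algebraMap B' (R ⊗[A'] B')) := by
      rw [← hPbP]
      exact Ideal.comap_mono hle₁
    exact IH (q'.under A') hτ₁ hτ₁t (P₁.comap (algebraMap B' (R ⊗[A'] B'))) hass₁'
      (fun P' _ hP' => hno P' (hPP₁.trans hP'))
  · -- Case B: `R` is quasi-finite at `tb`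
    push Not at hbetween
    have hqf : Algebra.QuasiFiniteAt A tb := by
      refine quasiFiniteAt_of_isolated p tb ?_ ?_
      · intro t₂ ht₂ ht₂p hle₂
        have h1 : t₂.comap (algebraMap A' R) = t := by
          refine hclosed _ (Ideal.comap_isPrime _ _) ?_ ?_
          · have h2 : t₂.comap (algebraMap A' R) = t₂.under A' := by
              rw [Ideal.under_def]
            rw [h2]
            constructor
            rw [Ideal.under_under]
            exact ht₂p.over
          · rw [← hcomaptb]
            exact Ideal.comap_mono hle₂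
        apply Ideal.comap_injective_of_surjective _ hsurj
        rw [h1, hcomaptb]
      · intro q hq hqp hqle
        by_contra hne
        have hq0 : q ≠ ⊥ := by
          rintro rfl
          apply hτp
          constructor
          rw [hbotτ.over, Ideal.under_under]
          exact hqp.over
        exact hbetween q hq hq0 (lt_of_le_of_ne hqle hne)
    exact hasImpurity_of_isImpurity_of_le N p A' B' N' f τ t P R (⊥ : Ideal R) tb
      himp bot_le _ ⟨inferInstance, inferInstance, hqf⟩

/-- **Main lemma**: over a Noetherian base, an impurity over a base ring of finite type whose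
point `t` is closed in its fibre yields an impurity over a base ring quasi-finite at its point. -/
theorem hasImpurity_quasiFiniteAt_of_isImpurity (t' : Ideal A') [t'.IsPrime] (P : Ideal B')
    [P.IsPrime] (himp : IsImpurity A B N p A' B' N' f t' t P)
    (hclosed : ∀ t₂ : Ideal A', t₂.IsPrime → t₂.LiesOver p → t ≤ t₂ → t₂ = t) :
    HasImpurity A B N p (fun A'' _ _ t'' => ∃ _ : t''.IsPrime,
      Algebra.FiniteType A A'' ∧ Algebra.QuasiFiniteAt A t'') := by
  obtain ⟨hpush, hbc, hle, htp, hPt', hass, hno⟩ := himp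
  haveI := htp
  haveI := hPt'
  haveI : IsNoetherianRing A' := Algebra.FiniteType.isNoetherianRing A A'
  have key : ∀ τ : Ideal A', ∀ [τ.IsPrime], τ ≤ t →
      ∀ (P₁ : Ideal B') [P₁.IsPrime] [P₁.LiesOver τ],
      fiberIdeal τ P₁ ∈ associatedPrimes (τ.Fiber B') (fiberMod τ B' N') →
      (∀ (P' : Ideal B') [P'.IsPrime], P₁ ≤ P' → ¬ P'.LiesOver t) →
      HasImpurity A B N p (fun A'' _ _ t'' => ∃ _ : t''.IsPrime,
        Algebra.FiniteType A A'' ∧ Algebra.QuasiFiniteAt A t'') := by
    intro τ
    induction τ using WellFoundedGT.induction with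
    | ind τ IH =>
      intro _ hτt P₁ _ _ hass₁ hno₁
      by_cases hτp : τ.LiesOver p
      · exact (not_isImpurity_of_liesOver N p A' B' N' f τ t P₁
          ⟨hpush, hbc, hτt, inferInstance, inferInstance, hass₁, hno₁⟩).elim
      · have hker : RingHom.ker (algebraMap A' (A' ⧸ τ)) = τ := by
          rw [Ideal.Quotient.algebraMap_eq, Ideal.mk_ker]
        exact hasImpurity_quasiFiniteAt_step_core N p A' B' N' f t hpush hbc hclosed τ hτt P₁
          hass₁ hno₁ (fun τ₁ hlt => IH τ₁ hlt) hτp (A' ⧸ τ) Ideal.Quotient.mk_surjective hker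
  exact key t' hle P hass hno

end Groth.Agent.Lib.helper26.Purity
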