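import Mathlib
import Groth.Prelude.Def_FlatCA
import Groth.Prelude.Def_Hensel

/-!
# Composition of base changes for impurities; henselizations along an isomorphism (helper26)

* `isImpurity_comp`: an impurity of a base change `N₀` of `N` (above a prime `p₀` over `p`) is an
  impurity of `N` above `p`.
* `isHenselization_of_ringEquiv`: a henselization of `R₂` is a henselization of `R₁ ≃ R₂`.
-/

set_option autoImplicit false
set_option linter.style.haveILetI false
set_option linter.unusedSectionVars false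
universe u

namespace Groth.Agent.Lib.helper26.Purity

open TensorProduct FlatCA

section Comp

variable {A B : Type u} [CommRing A] [CommRing B] [Algebra A B]
  (N : Type u) [AddCommGroup N] [Module B N] (p : Ideal A) [p.IsPrime]
  -- the intermediate base change
  (A₀ B₀ N₀ : Type u) [CommRing A₀] [CommRing B₀] [Algebra A A₀] [Algebra B B₀] [Algebra A₀ B₀]
  [Algebra A B₀] [IsScalarTower A B B₀] [IsScalarTower A A₀ B₀] [Algebra.IsPushout A B A₀ B₀]
  [AddCommGroup N₀] [Module B₀ N₀] [Module B N₀] [IsScalarTower B B₀ N₀] (f₀ : N →ₗ[B] N₀)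
  (p₀ : Ideal A₀) [p₀.IsPrime] [p₀.LiesOver p]
  -- the impurity over `A₀`
  (A₁ B₁ N₁ : Type u) [CommRing A₁] [CommRing B₁] [Algebra A₀ A₁] [Algebra B₀ B₁] [Algebra A₁ B₁]
  [Algebra A₀ B₁] [IsScalarTower A₀ B₀ B₁] [IsScalarTower A₀ A₁ B₁]
  [AddCommGroup N₁] [Module B₁ N₁] [Module B₀ N₁] [IsScalarTower B₀ B₁ N₁] [Module A₁ N₁]
  [IsScalarTower A₁ B₁ N₁] (f₁ : N₀ →ₗ[B₀] N₁) (t' t : Ideal A₁) [t'.IsPrime] [t.IsPrime]
  (P : Ideal B₁) [P.IsPrime]
  -- the composed structures
  [Algebra A A₁] [IsScalarTower A A₀ A₁] [Algebra B B₁] [IsScalarTower B B₀ B₁] [Algebra A B₁]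
  [IsScalarTower A B B₁] [IsScalarTower A A₁ B₁] [Module B N₁] [IsScalarTower B B₁ N₁]
  [IsScalarTower B B₀ N₁]

theorem isImpurity_comp (hf₀ : IsBaseChange B₀ f₀)
    (himp : IsImpurity A₀ B₀ N₀ p₀ A₁ B₁ N₁ f₁ t' t P) :
    IsImpurity A B N p A₁ B₁ N₁ ((f₁.restrictScalars B).comp f₀) t' t P := by
  obtain ⟨hpush, hbc, hle, htp, hPt', hass, hno⟩ := himp
  haveI := hpush
  haveI := htp
  haveI : IsScalarTower A B₀ B₁ := by
    refine IsScalarTower.of_algebraMap_eq (R := A) (S := B₀) (A := B₁) fun a => ?_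
    rw [IsScalarTower.algebraMap_apply A B B₁, IsScalarTower.algebraMap_apply A B B₀,
      ← IsScalarTower.algebraMap_apply B B₀ B₁]
  refine ⟨?_, IsBaseChange.comp hf₀ hbc, hle, ?_, hPt', hass, hno⟩
  · haveI : Algebra.IsPushout A A₀ B B₀ := Algebra.IsPushout.symm inferInstance
    haveI : Algebra.IsPushout A₀ A₁ B₀ B₁ := Algebra.IsPushout.symm inferInstance
    have h1 : Algebra.IsPushout A A₁ B B₁ :=
      (Algebra.IsPushout.comp_iff A A₀ B B₀ (T := A₁) (T' := B₁)).2 inferInstance
    exact Algebra.IsPushout.symm h1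
  · exact Ideal.LiesOver.trans t p₀ p

end Comp

section Hens

variable (R₁ R₂ S : Type u) [CommRing R₁] [IsLocalRing R₁] [CommRing R₂] [IsLocalRing R₂]
  [CommRing S] [IsLocalRing S] [Algebra R₁ S] [Algebra R₂ S]
  [IsLocalHom (algebraMap R₁ S)] [IsLocalHom (algebraMap R₂ S)]

theorem isHenselization_of_ringEquiv (e : R₁ ≃+* R₂)
    (he : ∀ x, algebraMap R₂ S (e x) = algebraMap R₁ S x) [Hensel.IsHenselization R₂ S] :
    Hensel.IsHenselization R₁ S := by
  refine ⟨Hensel.IsHenselization.henselian (R := R₂), ?_⟩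
  intro T _ _ f hf
  haveI := hf
  have hloc : IsLocalHom (f.comp e.symm.toRingHom) := by
    constructor
    intro a ha
    have h1 : IsUnit (e.symm a) := hf.map_nonunit _ ha
    have := h1.map e
    rwa [RingEquiv.apply_symm_apply] at this
  obtain ⟨g, hg, huniq⟩ := Hensel.IsHenselization.universal (R := R₂) (S := S) T
    (f.comp e.symm.toRingHom) hloc
  refine ⟨g, ?_, ?_⟩
  · ext x
    have := congrArg (fun φ => φ (e x)) hg
    simp only [RingHom.comp_apply] at this
    rw [he] at this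
    rw [RingHom.comp_apply, this]
    simp
  · intro g' hg'
    apply huniq
    ext y
    have := congrArg (fun φ => φ (e.symm y)) hg'
    simp only [RingHom.comp_apply] at this
    rw [← he, RingEquiv.apply_symm_apply] at this
    rw [RingHom.comp_apply, this]
    rfl

end Hens

end Groth.Agent.Lib.helper26.Purity
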