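import Mathlib
import Groth.Prelude.Def_FlatCA
import Groth.Prelude.Def_Hensel
import Groth.Agent.Lib.Helper26.Purity26
import Groth.Agent.S1217
import Groth.Agent.S1246
import Groth.Agent.S1247
import Groth.Agent.S1248
import Groth.Agent.S9000

/-!
# Purity = universal purity when the local ring of the base is Noetherian (helper26)
-/

set_option autoImplicit false
set_option linter.style.haveILetI false
set_option linter.unusedSectionVars false
universe u

namespace Groth.Agent.Lib.helper26.Purity

open TensorProduct FlatCA IsLocalRing

variable {A B : Type u} [CommRing A] [CommRing B] [Algebra A B] [Algebra.FiniteType A B]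
  (N : Type u) [AddCommGroup N] [Module B N] [Module.Finite B N] (p : Ideal A) [p.IsPrime]
  [IsNoetherianRing (Localization.AtPrime p)]
  (B₀ N₀ : Type u) [CommRing B₀] [Algebra B B₀] [Algebra (Localization.AtPrime p) B₀]
  [Algebra A B₀] [IsScalarTower A B B₀] [IsScalarTower A (Localization.AtPrime p) B₀]
  [Algebra.IsPushout A B (Localization.AtPrime p) B₀]
  [AddCommGroup N₀] [Module B₀ N₀] [Module B N₀] [IsScalarTower B B₀ N₀] (f₀ : N →ₗ[B] N₀)

theorem isUnivPureAlong_of_isPureAlong_of_noetherian_localization (hf₀ : IsBaseChange B₀ f₀)
    (hpure : IsPureAlong A B N p) : IsUnivPureAlong A B N p := by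
  classical
  haveI : Module.Flat A (Localization.AtPrime (maximalIdeal (Localization.AtPrime p))) :=
    Module.Flat.trans A (Localization.AtPrime p) _
  haveI : Algebra.FiniteType (Localization.AtPrime p) B₀ := by
    haveI : Algebra.IsPushout A (Localization.AtPrime p) B B₀ := Algebra.IsPushout.symm inferInstance
    exact Algebra.FiniteType.equiv inferInstance
      (Algebra.IsPushout.equiv A (Localization.AtPrime p) B B₀)
  haveI : Module.Finite B₀ N₀ := Module.Finite.equiv hf₀.equiv
  apply (Groth.Agent.S1217.result N p (Localization.AtPrime p) B₀ N₀ f₀ hf₀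
    (maximalIdeal (Localization.AtPrime p))).2
  intro A₁ B₁ N₁ _ _ _ _ _ _ _ _ _ _ _ _ _ _ f₁ t' t _ _ P _ himp
  have h0 : HasImpurity (Localization.AtPrime p) B₀ N₀
      (maximalIdeal (Localization.AtPrime p)) (fun _ _ _ _ => True) :=
    ⟨A₁, B₁, N₁, inferInstance, inferInstance, inferInstance, inferInstance, inferInstance,
      inferInstance, inferInstance, inferInstance, inferInstance, inferInstance, inferInstance,
      inferInstance, inferInstance, inferInstance, f₁, t', t, inferInstance, inferInstance, P,
      inferInstance, himp, trivial⟩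
  have h1 := Groth.Agent.S1247.result _ _ h0
  have h2 := Groth.Agent.S1246.result _ _ h1
  have h3 := Groth.Agent.S9000.result _ _ h2
  obtain ⟨H, BH, NH, _, _, _, _, _, _, _, _, _, _, _, _, _, _, fH, t'', tH, _, _, PH, _, himpH,
    hloc, halg, htow, hlh, hhens, rfl⟩ := h3
  -- composed structures
  letI algAH : Algebra A H :=
    ((algebraMap (Localization.AtPrime p) H).comp (algebraMap A (Localization.AtPrime p))).toAlgebra
  haveI : IsScalarTower A (Localization.AtPrime p) H := IsScalarTower.of_algebraMap_eq fun _ => rfl
  letI algBBH : Algebra B BH := ((algebraMap B₀ BH).comp (algebraMap B B₀)).toAlgebra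
  haveI : IsScalarTower B B₀ BH := IsScalarTower.of_algebraMap_eq fun _ => rfl
  letI algABH : Algebra A BH := ((algebraMap H BH).comp (algebraMap A H)).toAlgebra
  haveI : IsScalarTower A H BH := IsScalarTower.of_algebraMap_eq fun _ => rfl
  haveI : IsScalarTower A B BH := by
    refine IsScalarTower.of_algebraMap_eq (R := A) (S := B) (A := BH) fun a => ?_
    show algebraMap H BH (algebraMap (Localization.AtPrime p) H
      (algebraMap A (Localization.AtPrime p) a)) =
      algebraMap B₀ BH (algebraMap B B₀ (algebraMap A B a))
    rw [← IsScalarTower.algebraMap_apply (Localization.AtPrime p) H BH,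
      IsScalarTower.algebraMap_apply (Localization.AtPrime p) B₀ BH,
      ← IsScalarTower.algebraMap_apply A (Localization.AtPrime p) B₀,
      IsScalarTower.algebraMap_apply A B B₀]
  letI modBNH : Module B NH := Module.compHom NH (algebraMap B B₀)
  have hsmul : ∀ (b : B) (n : NH), b • n = algebraMap B B₀ b • n := fun _ _ => rfl
  haveI : IsScalarTower B B₀ NH := by
    constructor
    intro b x n
    rw [hsmul, Algebra.smul_def, mul_smul]
  haveI : IsScalarTower B BH NH := by
    constructor
    intro b x n
    rw [hsmul, Algebra.smul_def, mul_smul]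
    show algebraMap B₀ BH (algebraMap B B₀ b) • x • n = _
    rw [algebraMap_smul BH (algebraMap B B₀ b) (x • n)]
  have himpA := isImpurity_comp N p (Localization.AtPrime p) B₀ N₀ f₀
    (maximalIdeal (Localization.AtPrime p)) H BH NH fH t'' (maximalIdeal H) PH hf₀ himpH
  -- `H` is a henselization of `Localization.AtPrime p`
  have hunits : (maximalIdeal (Localization.AtPrime p)).primeCompl ≤
      IsUnit.submonoid (Localization.AtPrime p) := by
    intro x hx
    exact (IsLocalRing.notMem_maximalIdeal.1 hx)
  let e : Localization.AtPrime p ≃ₐ[Localization.AtPrime p]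
      Localization.AtPrime (maximalIdeal (Localization.AtPrime p)) :=
    IsLocalization.atUnits (Localization.AtPrime p)
      (maximalIdeal (Localization.AtPrime p)).primeCompl hunits
  have he : ∀ x, algebraMap (Localization.AtPrime (maximalIdeal (Localization.AtPrime p))) H
      (e.toRingEquiv x) = algebraMap (Localization.AtPrime p) H x := by
    intro x
    have h1 : e.toRingEquiv x = algebraMap (Localization.AtPrime p)
        (Localization.AtPrime (maximalIdeal (Localization.AtPrime p))) x := by
      have := e.commutes x
      simpa using this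
    rw [h1, ← IsScalarTower.algebraMap_apply]
  haveI hlhO : IsLocalHom (algebraMap (Localization.AtPrime p) H) := by
    constructor
    intro a ha
    rw [← he] at ha
    have h1 := hlh.map_nonunit _ ha
    have h2 := h1.map e.toRingEquiv.symm
    rwa [RingEquiv.symm_apply_apply] at h2
  haveI := hhens
  have hhensO : Hensel.IsHenselization (Localization.AtPrime p) H :=
    isHenselization_of_ringEquiv (Localization.AtPrime p)
      (Localization.AtPrime (maximalIdeal (Localization.AtPrime p))) H e.toRingEquiv he
  have h4 : HasImpurity A B N p (fun A' _ _ t => ∃ (_ : IsLocalRing A')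
      (_ : Algebra (Localization.AtPrime p) A') (_ : IsScalarTower A (Localization.AtPrime p) A')
      (_ : IsLocalHom (algebraMap (Localization.AtPrime p) A')),
      Hensel.IsHenselization (Localization.AtPrime p) A' ∧ t = maximalIdeal A') :=
    ⟨H, BH, NH, inferInstance, inferInstance, algAH, algBBH, inferInstance, algABH,
      inferInstance, inferInstance, inferInstance, inferInstance, modBNH, inferInstance,
      inferInstance, inferInstance, _, t'', maximalIdeal H, inferInstance, inferInstance, PH,
      inferInstance, himpA, hloc, inferInstance, inferInstance, hlhO, hhensO, rfl⟩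
  obtain ⟨A₅, B₅, N₅, _, _, _, _, _, _, _, _, _, _, _, _, _, _, f₅, t₅', t₅, _, _, P₅, _, himp₅,
    _, hEt⟩ := Groth.Agent.S1248.result N p h4
  exact hpure A₅ B₅ N₅ f₅ t₅' t₅ P₅ hEt himp₅

end Groth.Agent.Lib.helper26.Purity
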