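import Mathlib
import Groth.Prelude.Def_FlatCA
import Groth.Agent.Lib.Helper26.Purity1
import Groth.Agent.Lib.Helper3.UnivInjAss1
import Groth.Agent.Lib.Helper18.PullbackStalk

/-!
# Purity and quasi-finite support (helper26)

* `mem_support_fiberMod_iff`: the support of the fibre module.
* `quasiFinite_of_finite_fiber_support`: finite fibre supports make `B ⧸ ann N` quasi-finite.
-/

set_option autoImplicit false
set_option linter.style.haveILetI false
set_option linter.unusedSectionVars false
universe u

namespace Groth.Agent.Lib.helper26.Purity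

open TensorProduct FlatCA

attribute [local instance] Algebra.TensorProduct.rightAlgebra

section Support

variable {R : Type u} [CommRing R] (p : Ideal R) [p.IsPrime] {S : Type u} [CommRing S]
  [Algebra R S] (N : Type u) [AddCommGroup N] [Module S N] [Module.Finite S N]

/-- the support of the fibre module of a finite module. -/
theorem mem_support_fiberMod_iff (𝔔 : PrimeSpectrum (p.Fiber S)) :
    𝔔 ∈ Module.support (p.Fiber S) (fiberMod p S N) ↔
      Module.annihilator S N ≤ 𝔔.asIdeal.comap
        (Algebra.TensorProduct.includeRight (R := R) (A := p.ResidueField) (B := S)).toRingHom := by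
  have h1 := Groth.Agent.Lib.Helper18.PullbackStalk.mem_support_baseChange_iff S (p.Fiber S) N 𝔔
  have h2 : 𝔔 ∈ Module.support (p.Fiber S) (fiberMod p S N) ↔
      𝔔 ∈ Module.support (p.Fiber S) ((p.Fiber S) ⊗[S] N) := Iff.rfl
  rw [h2, h1, Module.mem_support_iff_of_finite]
  rfl

end Support

section QuasiFinite

variable {A B : Type u} [CommRing A] [CommRing B] [Algebra A B] [Algebra.FiniteType A B]
  (N : Type u) [AddCommGroup N] [Module B N] [Module.Finite B N]

/-- if the fibre modules of `N` have finite supports, `B ⧸ ann N` is quasi-finite over `A`. -/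
theorem quasiFinite_of_finite_fiber_support
    (hfin : ∀ (p : Ideal A) [p.IsPrime],
      (Module.support (p.Fiber B) (fiberMod p B N)).Finite) :
    Algebra.QuasiFinite A (B ⧸ Module.annihilator B N) := by
  rw [Algebra.QuasiFinite.iff_finite_primesOver]
  intro p hp
  haveI := hp
  let I := Module.annihilator B N
  let mk := Ideal.Quotient.mkₐ A I
  let ι := (Algebra.TensorProduct.includeRight (R := A) (A := p.ResidueField) (B := B)).toRingHom
  let g : Ideal (B ⧸ I) → Ideal (p.Fiber B) := fun Q => fiberIdeal p (Q.comap mk)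
  have hT : (PrimeSpectrum.asIdeal '' Module.support (p.Fiber B) (fiberMod p B N)).Finite :=
    (hfin p).image _
  have hcomap : ∀ Q ∈ p.primesOver (B ⧸ I), (g Q).comap ι = Q.comap mk := by
    rintro Q ⟨hQ, hQp⟩
    haveI := hQ
    haveI := hQp
    haveI : (Q.comap mk).IsPrime := Ideal.comap_isPrime _ _
    haveI : (Q.comap mk).LiesOver p := inferInstance
    exact comap_fiberIdeal p (Q.comap mk)
  have hsub : g '' (p.primesOver (B ⧸ I)) ⊆
      PrimeSpectrum.asIdeal '' Module.support (p.Fiber B) (fiberMod p B N) := by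
    rintro _ ⟨Q, hQ, rfl⟩
    have hc := hcomap Q hQ
    obtain ⟨hQ, hQp⟩ := hQ
    haveI := hQ
    haveI := hQp
    haveI : (Q.comap mk).IsPrime := Ideal.comap_isPrime _ _
    haveI : (Q.comap mk).LiesOver p := inferInstance
    have hprime : (g Q).IsPrime :=
      Groth.Agent.Lib.helper3.UnivInjAss.fiberIdeal_isPrime p (Q.comap mk)
    refine ⟨⟨g Q, hprime⟩, ?_, rfl⟩
    rw [mem_support_fiberMod_iff]
    change I ≤ (g Q).comap ι
    rw [hc]
    intro b hb
    rw [Ideal.mem_comap]
    have : mk b = 0 := Ideal.Quotient.eq_zero_iff_mem.2 hb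
    rw [this]
    exact Q.zero_mem
  have hinj : Set.InjOn g (p.primesOver (B ⧸ I)) := by
    intro Q₁ hQ₁ Q₂ hQ₂ h12
    have h1 : Q₁.comap mk = Q₂.comap mk := by
      rw [← hcomap Q₁ hQ₁, ← hcomap Q₂ hQ₂, h12]
    exact Ideal.comap_injective_of_surjective mk Ideal.Quotient.mk_surjective h1
  exact Set.Finite.of_finite_image (hT.subset hsub) hinj

end QuasiFinite

section Specialization

variable (A B : Type u) [CommRing A] [CommRing B] [Algebra A B] [Algebra.FiniteType A B]
  (N : Type u) [AddCommGroup N] [Module B N] [Module.Finite B N]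
  (A' : Type u) [CommRing A'] [Algebra A A']

local notation "I" => Module.annihilator B N
local notation "C" => B ⧸ Module.annihilator B N
local notation "B'" => A' ⊗[A] B
local notation "N'" => (A' ⊗[A] B) ⊗[B] N
local notation "E" => A' ⊗[A] (B ⧸ Module.annihilator B N)

/-- the surjection `A' ⊗ B → A' ⊗ (B ⧸ ann N)`. -/
noncomputable def sigma : B' →ₐ[A'] E :=
  Algebra.TensorProduct.map (AlgHom.id A' A') (Ideal.Quotient.mkₐ A I)

theorem sigma_surjective : Function.Surjective (sigma A B N A') :=
  Algebra.TensorProduct.map_surjective _ _ Function.surjective_id Ideal.Quotient.mk_surjective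

theorem ker_sigma : RingHom.ker (sigma A B N A').toRingHom =
    (I).map (algebraMap B B') := by
  have h1 := Algebra.TensorProduct.lTensor_ker (A := A') (Ideal.Quotient.mkₐ A I)
    Ideal.Quotient.mk_surjective
  have h2 : RingHom.ker (sigma A B N A').toRingHom =
      RingHom.ker (Algebra.TensorProduct.map (AlgHom.id A A') (Ideal.Quotient.mkₐ A I)) := rfl
  rw [h2, h1]
  have h3 : RingHom.ker (Ideal.Quotient.mkₐ A I) = I := Ideal.Quotient.mkₐ_ker A I
  rw [h3]
  rfl

/-- annihilator of a base change of a finite module and primes. -/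
theorem annihilator_baseChange_le_iff (P₂ : Ideal B') [P₂.IsPrime] :
    Module.annihilator B' N' ≤ P₂ ↔ I ≤ P₂.comap (algebraMap B B') := by
  have h1 := Groth.Agent.Lib.Helper18.PullbackStalk.mem_support_baseChange_iff B B' N
    ⟨P₂, inferInstance⟩
  rw [Module.mem_support_iff_of_finite, Module.mem_support_iff_of_finite] at h1
  exact h1

theorem ker_sigma_le_iff (P₂ : Ideal B') [P₂.IsPrime] :
    RingHom.ker (sigma A B N A').toRingHom ≤ P₂ ↔ Module.annihilator B' N' ≤ P₂ := by
  rw [ker_sigma, Ideal.map_le_iff_le_comap, annihilator_baseChange_le_iff]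

variable [Algebra.QuasiFinite A (B ⧸ Module.annihilator B N)]

/-- every point of the (finite) fibre of the support is an associated point of the fibre
module. -/
theorem fiberIdeal_mem_associatedPrimes (Q : Ideal E) [Q.IsPrime] :
    fiberIdeal (Q.under A') (Q.comap (sigma A B N A')) ∈
      associatedPrimes ((Q.under A').Fiber B') (fiberMod (Q.under A') B' N') := by
  set t' := Q.under A' with ht'
  set P := Q.comap (sigma A B N A') with hP
  let ι := (Algebra.TensorProduct.includeRight (R := A') (A := t'.ResidueField) (B := B')).toRingHom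
  haveI : IsNoetherianRing (t'.Fiber B') :=
    Algebra.FiniteType.isNoetherianRing t'.ResidueField _
  haveI : Module.Finite (t'.Fiber B') (fiberMod t' B' N') :=
    inferInstanceAs (Module.Finite (t'.Fiber B') ((t'.Fiber B') ⊗[B'] N'))
  have hσ := sigma_surjective A B N A'
  have hσ' : Function.Surjective (sigma A B N A').toRingHom := hσ
  have hkerP : RingHom.ker (sigma A B N A').toRingHom ≤ P :=
    Ideal.comap_mono bot_le
  have hprime : (fiberIdeal t' P).IsPrime :=
    Groth.Agent.Lib.helper3.UnivInjAss.fiberIdeal_isPrime t' P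
  have hcomapP : (fiberIdeal t' P).comap ι = P := comap_fiberIdeal t' P
  apply Module.associatedPrimes.minimalPrimes_annihilator_subset_associatedPrimes
  refine ⟨⟨hprime, ?_⟩, ?_⟩
  · have hmem : (⟨fiberIdeal t' P, hprime⟩ : PrimeSpectrum (t'.Fiber B')) ∈
        Module.support (t'.Fiber B') (fiberMod t' B' N') := by
      rw [mem_support_fiberMod_iff]
      change Module.annihilator B' N' ≤ (fiberIdeal t' P).comap ι
      rw [hcomapP, ← ker_sigma_le_iff]
      exact hkerP
    exact Module.mem_support_iff_of_finite.1 hmem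
  · rintro 𝔓' ⟨h𝔓', hann⟩ hle
    haveI := h𝔓'
    set P₂ := 𝔓'.comap ι with hP₂
    haveI : P₂.IsPrime := Ideal.comap_isPrime _ _
    haveI hP₂t : P₂.LiesOver t' := Groth.Agent.Lib.helper3.UnivInjGlobal.comap_liesOver t' 𝔓'
    have hP₂P : P₂ ≤ P := by
      rw [← hcomapP]
      exact Ideal.comap_mono hle
    have hmem : (⟨𝔓', h𝔓'⟩ : PrimeSpectrum (t'.Fiber B')) ∈
        Module.support (t'.Fiber B') (fiberMod t' B' N') :=
      Module.mem_support_iff_of_finite.2 hann
    rw [mem_support_fiberMod_iff] at hmem
    have hker₂ : RingHom.ker (sigma A B N A').toRingHom ≤ P₂ := by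
      rw [ker_sigma_le_iff]
      exact hmem
    -- the prime of `E` corresponding to `P₂`
    set Q₂ := P₂.map (sigma A B N A').toRingHom with hQ₂
    haveI hQ₂p : Q₂.IsPrime := Ideal.map_isPrime_of_surjective hσ' hker₂
    have hcomap₂ : Q₂.comap (sigma A B N A').toRingHom = P₂ := by
      rw [hQ₂, Ideal.comap_map_of_surjective _ hσ', sup_eq_left]
      exact hker₂
    have hQ₂Q : Q₂ ≤ Q := by
      rw [hQ₂, Ideal.map_le_iff_le_comap]
      exact hP₂P
    have hunder : Q₂.under A' = Q.under A' := by
      have h1 : Q₂.under A' = P₂.under A' := by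
        rw [← hcomap₂, Ideal.under_def, Ideal.under_def, Ideal.comap_comap]
        congr 1
      rw [h1, ← hP₂t.over]
    have hQeq : Q₂ = Q := Algebra.QuasiFinite.eq_of_le_of_under_eq (R := A') Q₂ Q hQ₂Q hunder
    have hPeq : P₂ = P := by
      rw [← hcomap₂, hQeq]
      rfl
    have h1 := Groth.Agent.Lib.helper3.UnivInjGlobal.fiberIdeal_comap (S := B') t' 𝔓'
    change fiberIdeal t' P₂ = 𝔓' at h1
    rw [hPeq] at h1
    exact h1.le

/-- purity along the fibre over `p` lifts specializations in étale neighbourhoods of `p`, for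
the support algebra `B ⧸ ann N`. -/
theorem exists_specialization_of_isPureAlong (p : Ideal A) [p.IsPrime]
    (hpure : IsPureAlong A B N p) (t : Ideal A') [t.IsPrime] (het : IsEtaleNhd A A' p t)
    (Q : Ideal E) [Q.IsPrime] (hQt : Q.under A' ≤ t) :
    ∃ Q' : Ideal E, Q'.IsPrime ∧ Q ≤ Q' ∧ Q'.LiesOver t := by
  by_contra hno
  push Not at hno
  have hσ := sigma_surjective A B N A'
  have hσ' : Function.Surjective (sigma A B N A').toRingHom := hσ
  have hkerP : RingHom.ker (sigma A B N A').toRingHom ≤ Q.comap (sigma A B N A') :=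
    Ideal.comap_mono bot_le
  refine hpure A' B' N' (TensorProduct.mk B B' N 1) (Q.under A') t (Q.comap (sigma A B N A')) het
    ⟨inferInstance, TensorProduct.isBaseChange B N B', hQt, het.2.choose, inferInstance,
      fiberIdeal_mem_associatedPrimes A B N A' Q, ?_⟩
  intro P' hP' hle hP't
  have hker' : RingHom.ker (sigma A B N A').toRingHom ≤ P' := hkerP.trans hle
  have hcomap : (P'.map (sigma A B N A').toRingHom).comap (sigma A B N A').toRingHom = P' := by
    rw [Ideal.comap_map_of_surjective _ hσ', sup_eq_left]
    exact hker'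
  refine hno (P'.map (sigma A B N A').toRingHom) (Ideal.map_isPrime_of_surjective hσ' hker') ?_ ?_
  · calc Q = (Q.comap (sigma A B N A').toRingHom).map (sigma A B N A').toRingHom :=
          (Ideal.map_comap_of_surjective _ hσ' Q).symm
      _ ≤ P'.map (sigma A B N A').toRingHom := Ideal.map_mono hle
  · constructor
    rw [Ideal.under_def, ← (sigma A B N A').comp_algebraMap, ← Ideal.comap_comap]
    change t = Ideal.comap _ ((P'.map (sigma A B N A').toRingHom).comap (sigma A B N A').toRingHom)
    rw [hcomap]
    exact hP't.over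

end Specialization

end Groth.Agent.Lib.helper26.Purity
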