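import Mathlib

/-!
# Étale-local splitting of quasi-finite algebras: algebraic preliminaries (helper26)

* `FinPart A' e`: the ideal generated by `e` is contained in a finitely generated `A'`-submodule.
* combination of idempotents along a surjection whose kernel is generated by an idempotent.
-/

set_option autoImplicit false
set_option linter.style.haveILetI false
universe u

namespace Groth.Agent.Lib.helper26.QFSplit

open TensorProduct

section General

variable {R : Type*} [CommRing R] {M X Y : Type*} [AddCommGroup M] [AddCommGroup X]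
  [AddCommGroup Y] [Module R M] [Module R X] [Module R Y]

/-- the range of a linear map that factors through a surjection onto a finite module is
finitely generated. -/
theorem fg_range_of_factor (π : M →ₗ[R] X) (hπ : Function.Surjective π) [Module.Finite R X]
    (g : M →ₗ[R] Y) (h : LinearMap.ker π ≤ LinearMap.ker g) : (LinearMap.range g).FG := by
  haveI : Module.Finite R (M ⧸ LinearMap.ker π) :=
    Module.Finite.equiv (LinearMap.quotKerEquivOfSurjective π hπ).symm
  have h1 : LinearMap.range ((LinearMap.ker π).liftQ g h) = LinearMap.range g :=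
    Submodule.range_liftQ _ _ _
  rw [← h1, LinearMap.range_eq_map]
  exact Submodule.FG.map _ Module.Finite.fg_top

end General

section FinPart

variable (A' : Type*) {E : Type*} [CommRing A'] [CommRing E] [Algebra A' E]

/-- the ideal generated by `e` is contained in a finitely generated `A'`-submodule. -/
def FinPart (e : E) : Prop :=
  ∃ N : Submodule A' E, N.FG ∧ ∀ x : E, e * x ∈ N

variable {A'}

theorem FinPart.zero : FinPart A' (0 : E) :=
  ⟨⊥, Submodule.fg_bot, fun x => by rw [zero_mul]; exact Submodule.zero_mem _⟩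

/-- if the localization at an idempotent is module-finite, the idempotent has finite part. -/
theorem FinPart.of_finite_away {e : E} (he : IsIdempotentElem e)
    [Module.Finite A' (Localization.Away e)] : FinPart A' e := by
  let π : E →ₗ[A'] Localization.Away e := (IsScalarTower.toAlgHom A' E (Localization.Away e)).toLinearMap
  have hπ : Function.Surjective π :=
    IsLocalization.Away.algebraMap_surjective_of_isIdempotentElem e he
  let g : E →ₗ[A'] E := LinearMap.mulLeft A' e
  have hker : LinearMap.ker π ≤ LinearMap.ker g := by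
    intro x hx
    rw [LinearMap.mem_ker] at hx ⊢
    have hx' : algebraMap E (Localization.Away e) x = 0 := hx
    rw [IsLocalization.map_eq_zero_iff (Submonoid.powers e)] at hx'
    obtain ⟨⟨_, n, rfl⟩, hn⟩ := hx'
    change e * x = 0
    have h2 : e ^ (n + 1) * x = 0 := by
      rw [pow_succ', mul_assoc]
      change e * (e ^ n * x) = 0
      rw [hn, mul_zero]
    rwa [he.pow_succ_eq] at h2
  refine ⟨LinearMap.range g, fg_range_of_factor π hπ g hker, fun x => ⟨x, rfl⟩⟩

/-- transport along an algebra isomorphism. -/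
theorem FinPart.of_algEquiv {E₂ : Type*} [CommRing E₂] [Algebra A' E₂] (φ : E ≃ₐ[A'] E₂) {e : E}
    (h : FinPart A' e) : FinPart A' (φ e) := by
  obtain ⟨N, hN, hx⟩ := h
  refine ⟨N.map φ.toLinearMap, hN.map _, fun x => ?_⟩
  refine ⟨e * φ.symm x, hx _, ?_⟩
  change φ (e * φ.symm x) = φ e * x
  rw [map_mul, AlgEquiv.apply_symm_apply]

/-- base change of the finite part. -/
theorem FinPart.baseChange {R' : Type*} [CommRing R'] [Algebra R' E] (R'' : Type*) [CommRing R'']
    [Algebra R' R''] {e : E} (h : FinPart R' e) :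
    FinPart R'' ((1 : R'') ⊗ₜ[R'] e) := by
  obtain ⟨N, hN, hx⟩ := h
  have hfg : (N.baseChange R'').FG := by
    obtain ⟨s, rfl⟩ := hN
    rw [Submodule.baseChange_span]
    exact Submodule.fg_span (s.finite_toSet.image _)
  refine ⟨N.baseChange R'', hfg, fun x => ?_⟩
  induction x using TensorProduct.induction_on with
  | zero => rw [mul_zero]; exact Submodule.zero_mem _
  | tmul r y =>
    rw [Algebra.TensorProduct.tmul_mul_tmul, one_mul]
    exact Submodule.tmul_mem_baseChange_of_mem r (hx y)
  | add x y hx' hy' => rw [mul_add]; exact Submodule.add_mem _ hx' hy'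

end FinPart

section Idem

variable {E E₂ : Type*} [CommRing E] [CommRing E₂]

/-- gluing an idempotent of `E ⧸ (e₁)` to `e₁`. -/
theorem isIdempotentElem_glue {e₁ : E} (he₁ : IsIdempotentElem e₁) (π : E →+* E₂)
    (hker : RingHom.ker π = Ideal.span {e₁}) {e₂ : E₂} (he₂ : IsIdempotentElem e₂) (f : E)
    (hf : π f = e₂) : IsIdempotentElem (e₁ + (1 - e₁) * f) := by
  have h1 : f * f - f ∈ RingHom.ker π := by
    rw [RingHom.mem_ker, map_sub, map_mul, hf, he₂.eq, sub_self]
  rw [hker, Ideal.mem_span_singleton'] at h1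
  obtain ⟨z, hz⟩ := h1
  have h2 : e₁ * e₁ = e₁ := he₁.eq
  change (e₁ + (1 - e₁) * f) * (e₁ + (1 - e₁) * f) = e₁ + (1 - e₁) * f
  have h3 : (1 - e₁) * (f * f - f) = 0 := by
    rw [← hz]
    linear_combination (-z) * h2
  linear_combination (1 - 2 * f + f * f) * h2 + h3
/-- the glued idempotent avoids a prime `Q` as soon as `e₁ ∈ Q` implies that `e₂` avoids the
image of `Q`. -/
theorem glue_notMem {e₁ : E} (he₁ : IsIdempotentElem e₁) (π : E →+* E₂) {e₂ : E₂} (f : E)
    (hf : π f = e₂) (Q : Ideal E) [hQ : Q.IsPrime] (h : e₁ ∈ Q → e₂ ∉ Q.map π) :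
    e₁ + (1 - e₁) * f ∉ Q := by
  intro hmem
  have h0 : e₁ * (1 - e₁) = 0 := by rw [mul_sub, mul_one, he₁.eq, sub_self]
  by_cases h1 : e₁ ∈ Q
  · have h2 : (1 - e₁) * f ∈ Q := by
      have := Q.sub_mem hmem h1
      rwa [add_sub_cancel_left] at this
    rcases hQ.mem_or_mem h2 with h3 | h3
    · apply hQ.ne_top
      rw [Ideal.eq_top_iff_one]
      have := Q.add_mem h3 h1
      rwa [sub_add_cancel] at this
    · exact h h1 (hf ▸ Ideal.mem_map_of_mem π h3)
  · have h2 : 1 - e₁ ∈ Q := by
      have : e₁ * (1 - e₁) ∈ Q := by rw [h0]; exact Q.zero_mem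
      exact (hQ.mem_or_mem this).resolve_left h1
    apply h1
    have := Q.sub_mem hmem (Q.mul_mem_right f h2)
    rwa [add_sub_cancel_right] at this

end Idem

section Glue

variable {A' E E₂ : Type*} [CommRing A'] [CommRing E] [CommRing E₂] [Algebra A' E] [Algebra A' E₂]

/-- finite part of a glued idempotent. -/
theorem FinPart.glue {e₁ : E} (he₁ : IsIdempotentElem e₁) (π : E →ₐ[A'] E₂) (hπ : Function.Surjective π)
    (hker : RingHom.ker π.toRingHom = Ideal.span {e₁}) {e₂ : E₂} (f : E) (hf : π f = e₂)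
    (h₁ : FinPart A' e₁) (h₂ : FinPart A' e₂) : FinPart A' (e₁ + (1 - e₁) * f) := by
  classical
  obtain ⟨N₁, hN₁, hx₁⟩ := h₁
  obtain ⟨N₂, hN₂, hx₂⟩ := h₂
  obtain ⟨s₂, rfl⟩ := hN₂
  have hsub : (↑s₂ : Set E₂) ⊆ π '' Set.univ := by
    rw [Set.image_univ, hπ.range_eq]
    exact Set.subset_univ _
  obtain ⟨s', -, hs'⟩ := Finset.subset_set_image_iff.1 hsub
  have hmap : (Submodule.span A' (↑s' : Set E)).map π.toLinearMap = Submodule.span A' ↑s₂ := by
    rw [Submodule.map_span, ← hs', Finset.coe_image]
    rfl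
  refine ⟨N₁ ⊔ (Submodule.span A' (↑s' : Set E)).map (LinearMap.mulLeft A' (1 - e₁)),
    hN₁.sup ((Submodule.fg_span s'.finite_toSet).map _), fun x => ?_⟩
  rw [add_mul, mul_assoc]
  refine Submodule.add_mem_sup (hx₁ x) ?_
  have h1 : π (f * x) ∈ Submodule.span A' (↑s₂ : Set E₂) := by
    rw [map_mul, hf]
    exact hx₂ _
  rw [← hmap] at h1
  obtain ⟨w, hw, hwx⟩ := h1
  have h2 : f * x - w ∈ RingHom.ker π.toRingHom := by
    rw [RingHom.mem_ker, map_sub]
    change π (f * x) - π w = 0
    rw [sub_eq_zero]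
    exact hwx.symm
  rw [hker, Ideal.mem_span_singleton'] at h2
  obtain ⟨z, hz⟩ := h2
  refine ⟨w, hw, ?_⟩
  change (1 - e₁) * w = (1 - e₁) * (f * x)
  have h3 : f * x = w + z * e₁ := by rw [hz]; ring
  rw [h3, mul_add]
  have h4 : (1 - e₁) * (z * e₁) = 0 := by
    have he : e₁ * e₁ = e₁ := he₁.eq
    linear_combination (-z) * he
  rw [h4, add_zero]

end Glue

end Groth.Agent.Lib.helper26.QFSplit
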