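import Mathlib
import Groth.Agent.Lib.Helper26.QFSplit1

/-!
# Étale-local splitting of quasi-finite algebras (helper26)

`exists_split`: for a finite type quasi-finite `A`-algebra `D` and a prime `p` of `A` there is an
étale neighbourhood `(A', t)` of `p` with trivial residue field extension and an idempotent `e`
of `A' ⊗[A] D` such that the `e`-part is finite over `A'` and contains every prime over `t`.
-/

set_option autoImplicit false
set_option linter.style.haveILetI false
universe u

namespace Groth.Agent.Lib.helper26.QFSplit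

open TensorProduct

/-- étale-local splitting datum at a prime `p`. -/
def Split (A D : Type u) [CommRing A] [CommRing D] [Algebra A D] (p : Ideal A) [p.IsPrime] :
    Prop :=
  ∃ (A' : Type u) (_ : CommRing A') (_ : Algebra A A') (_ : Algebra.Etale A A') (t : Ideal A')
    (_ : t.IsPrime) (_ : t.LiesOver p) (e : A' ⊗[A] D), IsIdempotentElem e ∧
    Function.Bijective (Ideal.ResidueField.mapₐ p t (Algebra.ofId A A') (t.over_def p)) ∧
    FinPart A' e ∧ ∀ Q : Ideal (A' ⊗[A] D), Q.IsPrime → Q.LiesOver t → e ∉ Q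

section Aux

variable {A A' D : Type*} [CommRing A] [CommRing A'] [CommRing D] [Algebra A A'] [Algebra A D]

theorem liesOver_comap_includeRight (p : Ideal A) (t : Ideal A') [t.LiesOver p]
    (Q : Ideal (A' ⊗[A] D)) [Q.LiesOver t] :
    (Q.comap (Algebra.TensorProduct.includeRight (R := A) (A := A') (B := D)).toRingHom).LiesOver
      p := by
  constructor
  rw [Ideal.under_def, Ideal.comap_comap]
  have h : ((Algebra.TensorProduct.includeRight (R := A) (A := A') (B := D)).toRingHom).comp
      (algebraMap A D) = (algebraMap A' (A' ⊗[A] D)).comp (algebraMap A A') := by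
    ext a
    simp [Algebra.algebraMap_eq_smul_one]
  rw [h, ← Ideal.comap_comap, ← Ideal.under_def, ← Ideal.under_def, ← Q.over_def t,
    ← t.over_def p]

end Aux

section Base

variable {A D : Type u} [CommRing A] [CommRing D] [Algebra A D]

theorem split_of_isEmpty (p : Ideal A) [p.IsPrime] (h : p.primesOver D = ∅) : Split A D p := by
  haveI : p.LiesOver p := ⟨(Ideal.comap_id p).symm⟩
  refine ⟨A, inferInstance, inferInstance, inferInstance, p, inferInstance, inferInstance, 0,
    IsIdempotentElem.zero, ?_, FinPart.zero, ?_⟩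
  · exact (RingHom.surjectiveOnStalks_of_surjective (f := algebraMap A A)
      Function.surjective_id).residueFieldMap_bijective p p _
  · intro Q hQ hQp _
    have h1 := liesOver_comap_includeRight p p Q
    have h2 : Q.comap (Algebra.TensorProduct.includeRight (R := A) (A := A) (B := D)).toRingHom ∈
        p.primesOver D := ⟨Ideal.comap_isPrime _ _, h1⟩
    rw [h] at h2
    exact h2

end Base

section Card

variable {A D R' : Type u} [CommRing A] [CommRing D] [Algebra A D] [CommRing R'] [Algebra A R']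
  [Algebra.QuasiFinite A D]

/-- removing the component of a fibre point decreases the number of points in the fibre. -/
theorem ncard_primesOver_quotient_lt (p : Ideal A) [p.IsPrime] (P : Ideal R') [P.IsPrime]
    [P.LiesOver p]
    (H : Function.Bijective (Ideal.ResidueField.mapₐ p P (Algebra.ofId A R') (P.over_def p)))
    (e₁ : R' ⊗[A] D) (P' : Ideal (R' ⊗[A] D)) [P'.IsPrime] [P'.LiesOver P] (he : e₁ ∉ P') :
    (P.primesOver ((R' ⊗[A] D) ⧸ Ideal.span {e₁})).ncard < (p.primesOver D).ncard := by
  let ι := (Algebra.TensorProduct.includeRight (R := A) (A := R') (B := D)).toRingHom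
  let mk := Ideal.Quotient.mkₐ R' (Ideal.span ({e₁} : Set (R' ⊗[A] D)))
  let g : Ideal ((R' ⊗[A] D) ⧸ Ideal.span {e₁}) → Ideal D := fun Q => (Q.comap mk).comap ι
  have hfin : (p.primesOver D).Finite := Algebra.QuasiFinite.finite_primesOver p
  have hq : P'.comap ι ∈ p.primesOver D :=
    ⟨Ideal.comap_isPrime _ _, liesOver_comap_includeRight p P P'⟩
  have hsub : g '' (P.primesOver ((R' ⊗[A] D) ⧸ Ideal.span {e₁})) ⊆
      p.primesOver D \ {P'.comap ι} := by
    rintro _ ⟨Q, ⟨hQ, hQP⟩, rfl⟩
    haveI := hQ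
    haveI := hQP
    haveI : (Q.comap mk).IsPrime := Ideal.comap_isPrime _ _
    haveI : (Q.comap mk).LiesOver P := inferInstance
    refine ⟨⟨Ideal.comap_isPrime _ _, liesOver_comap_includeRight p P (Q.comap mk)⟩, ?_⟩
    intro hmem
    have h1 : Q.comap mk = P' :=
      Ideal.eq_of_comap_eq_comap_of_bijective_residueFieldMap H (Q.comap mk) P' hmem
    apply he
    rw [← h1, Ideal.mem_comap]
    have : mk e₁ = 0 := Ideal.Quotient.eq_zero_iff_mem.2 (Ideal.mem_span_singleton_self e₁)
    rw [this]
    exact Q.zero_mem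
  have hinj : Set.InjOn g (P.primesOver ((R' ⊗[A] D) ⧸ Ideal.span {e₁})) := by
    rintro Q₁ ⟨hQ₁, hQ₁P⟩ Q₂ ⟨hQ₂, hQ₂P⟩ h12
    haveI := hQ₁
    haveI := hQ₁P
    haveI := hQ₂
    haveI := hQ₂P
    haveI : (Q₁.comap mk).IsPrime := Ideal.comap_isPrime _ _
    haveI : (Q₁.comap mk).LiesOver P := inferInstance
    haveI : (Q₂.comap mk).IsPrime := Ideal.comap_isPrime _ _
    haveI : (Q₂.comap mk).LiesOver P := inferInstance
    have h1 : Q₁.comap mk = Q₂.comap mk :=
      Ideal.eq_of_comap_eq_comap_of_bijective_residueFieldMap H (Q₁.comap mk) (Q₂.comap mk) h12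
    exact Ideal.comap_injective_of_surjective mk Ideal.Quotient.mk_surjective h1
  calc (P.primesOver ((R' ⊗[A] D) ⧸ Ideal.span {e₁})).ncard
      = (g '' (P.primesOver ((R' ⊗[A] D) ⧸ Ideal.span {e₁}))).ncard :=
        hinj.ncard_image.symm
    _ ≤ (p.primesOver D \ {P'.comap ι}).ncard :=
        Set.ncard_le_ncard hsub (hfin.subset Set.sdiff_subset)
    _ < (p.primesOver D).ncard := Set.ncard_sdiff_singleton_lt_of_mem hq hfin

end Card

section Step

variable {A D : Type u} [CommRing A] [CommRing D] [Algebra A D]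

/-- the inductive step: a splitting for the complement of an idempotent with finite part over an
étale neighbourhood gives a splitting for the original algebra. -/
theorem split_step (p : Ideal A) [p.IsPrime] (R' : Type u) [CommRing R'] [Algebra A R']
    [Algebra.Etale A R'] (P : Ideal R') [P.IsPrime] [P.LiesOver p]
    (hbij₁ : Function.Bijective (Ideal.ResidueField.mapₐ p P (Algebra.ofId A R') (P.over_def p)))
    (e₁ : R' ⊗[A] D) (he₁ : IsIdempotentElem e₁) (hfp₁ : FinPart R' e₁)
    (h : Split R' ((R' ⊗[A] D) ⧸ Ideal.span {e₁}) P) : Split A D p := by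
  obtain ⟨R'', _, _, _, t, _, _, e₂, he₂, hbij₂, hfp₂, hQ₂⟩ := h
  letI : Algebra A R'' := ((algebraMap R' R'').comp (algebraMap A R')).toAlgebra
  haveI : IsScalarTower A R' R'' := IsScalarTower.of_algebraMap_eq' rfl
  haveI : Algebra.Etale A R'' := Algebra.Etale.comp A R' R''
  haveI : t.LiesOver p := Ideal.LiesOver.trans t P p
  -- the surjection
  let mk := Ideal.Quotient.mkₐ R' (Ideal.span ({e₁} : Set (R' ⊗[A] D)))
  let π : R'' ⊗[R'] (R' ⊗[A] D) →ₐ[R''] R'' ⊗[R'] ((R' ⊗[A] D) ⧸ Ideal.span {e₁}) :=
    Algebra.TensorProduct.map (AlgHom.id R'' R'') mk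
  have hπ : Function.Surjective π :=
    Algebra.TensorProduct.map_surjective _ _ Function.surjective_id Ideal.Quotient.mk_surjective
  let ē₁ : R'' ⊗[R'] (R' ⊗[A] D) := (1 : R'') ⊗ₜ[R'] e₁
  have hē₁ : IsIdempotentElem ē₁ := by
    change ē₁ * ē₁ = ē₁
    rw [Algebra.TensorProduct.tmul_mul_tmul, one_mul, he₁.eq]
  have hker : RingHom.ker π.toRingHom = Ideal.span {ē₁} := by
    have h1 := Algebra.TensorProduct.lTensor_ker (A := R'') mk Ideal.Quotient.mk_surjective
    have h2 : RingHom.ker π.toRingHom =
        RingHom.ker (Algebra.TensorProduct.map (AlgHom.id R' R'') mk) := rfl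
    rw [h2, h1]
    have h3 : RingHom.ker mk = Ideal.span {e₁} := Ideal.Quotient.mkₐ_ker R' _
    rw [h3, Ideal.map_span, Set.image_singleton]
    rfl
  obtain ⟨f, hf⟩ := hπ e₂
  let e' := ē₁ + (1 - ē₁) * f
  have he' : IsIdempotentElem e' := isIdempotentElem_glue hē₁ π.toRingHom hker he₂ f hf
  have hfp' : FinPart R'' e' :=
    FinPart.glue hē₁ π hπ hker f hf (hfp₁.baseChange R'') hfp₂
  have hQ' : ∀ Q : Ideal (R'' ⊗[R'] (R' ⊗[A] D)), Q.IsPrime → Q.LiesOver t → e' ∉ Q := by
    intro Q hQ hQt
    haveI := hQ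
    have hf' : π.toRingHom f = e₂ := hf
    refine glue_notMem (E := R'' ⊗[R'] (R' ⊗[A] D))
      (E₂ := R'' ⊗[R'] ((R' ⊗[A] D) ⧸ Ideal.span {e₁})) hē₁ π.toRingHom f hf' Q fun hmem => ?_
    have hle : RingHom.ker π.toRingHom ≤ Q := by
      rw [hker, Ideal.span_singleton_le_iff_mem]
      exact hmem
    have hπ' : Function.Surjective π.toRingHom := hπ
    have hprime : (Q.map π.toRingHom).IsPrime := Ideal.map_isPrime_of_surjective hπ' hle
    have hcomap : (Q.map π.toRingHom).comap π.toRingHom = Q := by
      rw [Ideal.comap_map_of_surjective π.toRingHom hπ', sup_eq_left]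
      exact hle
    have hover : (Q.map π.toRingHom).LiesOver t := by
      constructor
      rw [Ideal.under_def, ← π.comp_algebraMap, ← Ideal.comap_comap]
      change t = Ideal.comap _ ((Q.map π.toRingHom).comap π.toRingHom)
      rw [hcomap]
      exact hQt.over
    exact hQ₂ _ hprime hover
  -- transport
  let ψ : R'' ⊗[R'] (R' ⊗[A] D) ≃ₐ[R''] R'' ⊗[A] D :=
    Algebra.TensorProduct.cancelBaseChange A R' R'' R'' D
  refine ⟨R'', inferInstance, inferInstance, inferInstance, t, inferInstance, inferInstance,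
    ψ e', he'.map ψ, ?_, hfp'.of_algEquiv ψ, ?_⟩
  · suffices Function.Bijective ⇑(Ideal.ResidueField.mapₐ P t
        (IsScalarTower.toAlgHom A R' R'') (t.over_def P)) by
      convert! this.comp hbij₁
      rw [← AlgHom.coe_comp]
      congr
      ext
    exact hbij₂
  · intro Q hQ hQt hmem
    haveI := hQ
    haveI := hQt
    have h1 : (Q.comap ψ.toAlgHom).IsPrime := Ideal.comap_isPrime _ _
    have h2 : (Q.comap ψ.toAlgHom).LiesOver t := inferInstance
    exact hQ' _ h1 h2 hmem

end Step

section Main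

theorem split_aux (n : ℕ) : ∀ (A D : Type u) [CommRing A] [CommRing D] [Algebra A D]
    [Algebra.FiniteType A D] [Algebra.QuasiFinite A D] (p : Ideal A) [p.IsPrime],
    (p.primesOver D).ncard ≤ n → Split A D p := by
  induction n with
  | zero =>
    intro A D _ _ _ _ _ p _ hn
    apply split_of_isEmpty
    have hfin : (p.primesOver D).Finite := Algebra.QuasiFinite.finite_primesOver p
    exact (Set.ncard_eq_zero hfin).1 (Nat.le_zero.1 hn)
  | succ n ih =>
    intro A D _ _ _ _ _ p _ hn
    by_cases hemp : p.primesOver D = ∅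
    · exact split_of_isEmpty p hemp
    obtain ⟨q, hq⟩ := Set.nonempty_iff_ne_empty.2 hemp
    haveI : q.IsPrime := hq.1
    haveI : q.LiesOver p := hq.2
    obtain ⟨R', _, _, _, P, _, _, e₁, he₁, P', _, _, hP'q, he₁P', hbij₁, hfin₁, huniq⟩ :=
      Algebra.exists_etale_isIdempotentElem_forall_liesOver_eq p q
    have hcard : (P.primesOver ((R' ⊗[A] D) ⧸ Ideal.span {e₁})).ncard ≤ n := by
      have := ncard_primesOver_quotient_lt p P hbij₁ e₁ P' he₁P'
      omega
    exact split_step p R' P hbij₁ e₁ he₁ (FinPart.of_finite_away he₁) (ih R' _ P hcard)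

/-- **Étale-local splitting of a quasi-finite algebra of finite type.** -/
theorem exists_split {A D : Type u} [CommRing A] [CommRing D] [Algebra A D]
    [Algebra.FiniteType A D] [Algebra.QuasiFinite A D] (p : Ideal A) [p.IsPrime] : Split A D p :=
  split_aux _ A D p le_rfl

end Main

end Groth.Agent.Lib.helper26.QFSplit
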