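import Mathlib
import Groth.Agent.Lib.Helper26.QFSplit1

/-!
# Finiteness from étale-local splittings: local-global and descent lemmas (helper26)
-/

set_option autoImplicit false
set_option linter.style.haveILetI false
universe u

namespace Groth.Agent.Lib.helper26.QFSplit

open TensorProduct

section LocalGlobal

variable {A C : Type*} [CommRing A] [CommRing C] [Algebra A C]

attribute [local instance] Algebra.TensorProduct.rightAlgebra in
/-- a finite type algebra which is module-finite after localizing at every maximal ideal of the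
base is module-finite. -/
theorem finite_of_forall_localization_finite [Algebra.FiniteType A C]
    (h : ∀ (m : Ideal A) [m.IsMaximal],
      Module.Finite (Localization.AtPrime m) (Localization.AtPrime m ⊗[A] C)) :
    Module.Finite A C := by
  suffices h' : Algebra.IsIntegral A C from Algebra.IsIntegral.finite
  refine ⟨fun c => ?_⟩
  let s : Set A := {a | IsIntegral A (a • c)}
  have hs : Ideal.span s = ⊤ := by
    by_contra hne
    obtain ⟨m, hm, hle⟩ := Ideal.exists_le_maximal _ hne
    haveI := hm
    haveI := h m
    haveI : Algebra.IsIntegral (Localization.AtPrime m) (Localization.AtPrime m ⊗[A] C) :=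
      Algebra.IsIntegral.of_finite _ _
    have hx : IsIntegral (Localization.AtPrime m) ((1 : Localization.AtPrime m) ⊗ₜ[A] c) :=
      Algebra.IsIntegral.isIntegral _
    obtain ⟨a, ha⟩ := IsIntegral.exists_multiple_integral_of_isLocalization m.primeCompl _ hx
    have h1 : a • ((1 : Localization.AtPrime m) ⊗ₜ[A] c) =
        algebraMap C (Localization.AtPrime m ⊗[A] C) ((a : A) • c) := by
      rw [Algebra.TensorProduct.right_algebraMap_apply, Submonoid.smul_def,
        TensorProduct.smul_tmul', TensorProduct.smul_tmul]
    rw [h1] at ha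
    obtain ⟨b, hb, hb'⟩ := IsLocalization.exists_isIntegral_smul_of_isIntegral_map
      (Sₘ := Localization.AtPrime m ⊗[A] C) m.primeCompl ha
    have hmem : b * (a : A) ∈ s := by
      change IsIntegral A ((b * (a : A)) • c)
      rwa [mul_smul]
    exact (m.primeCompl.mul_mem hb a.2) (hle (Ideal.subset_span hmem))
  exact Submodule.mem_of_span_eq_top_of_smul_pow_mem (integralClosure A C).toSubmodule s hs c
    (fun r => ⟨1, by
      have h2 : IsIntegral A ((r : A) • c) := r.2
      rwa [pow_one]⟩)

end LocalGlobal

section Kill

variable {A' E : Type*} [CommRing A'] [CommRing E] [Algebra A' E]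

/-- if the idempotent `1 - e` lies in every prime of `E` whose contraction is contained in `t`,
it is killed by an element outside `t`. -/
theorem exists_smul_one_sub_eq_zero (t : Ideal A') [t.IsPrime] {e : E} (he : IsIdempotentElem e)
    (h : ∀ Q : Ideal E, Q.IsPrime → Q.under A' ≤ t → 1 - e ∈ Q) :
    ∃ g : A', g ∉ t ∧ g • (1 - e) = 0 := by
  let S : Submonoid E := Algebra.algebraMapSubmonoid E t.primeCompl ⊔ Submonoid.powers (1 - e)
  by_cases h0 : (0 : E) ∈ S
  · obtain ⟨y, hy, z, hz, hyz⟩ := Submonoid.mem_sup.1 h0
    obtain ⟨a, ha, rfl⟩ := hy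
    obtain ⟨k, rfl⟩ := hz
    refine ⟨a, ha, ?_⟩
    rw [Algebra.smul_def]
    have hyz' : algebraMap A' E a * (1 - e) ^ k = 0 := hyz
    rcases Nat.eq_zero_or_pos k with rfl | hk
    · rw [pow_zero, mul_one] at hyz'
      rw [hyz', zero_mul]
    · obtain ⟨k', rfl⟩ := Nat.exists_eq_succ_of_ne_zero hk.ne'
      rwa [he.one_sub.pow_succ_eq] at hyz'
  · exfalso
    have hdisj : Disjoint ((⊥ : Ideal E) : Set E) (S : Set E) := by
      rw [Set.disjoint_left]
      rintro x hx hxS
      rw [SetLike.mem_coe, Ideal.mem_bot] at hx
      exact h0 (hx ▸ hxS)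
    obtain ⟨Q, hQ, -, hQS⟩ := Ideal.exists_le_prime_disjoint ⊥ S hdisj
    have h1 : Q.under A' ≤ t := by
      intro a ha
      by_contra hat
      exact Set.disjoint_left.1 hQS ha
        (SetLike.mem_coe.2 (Submonoid.mem_sup_left ⟨a, hat, rfl⟩))
    exact Set.disjoint_left.1 hQS (h Q hQ h1)
      (SetLike.mem_coe.2 (Submonoid.mem_sup_right (Submonoid.mem_powers _)))

/-- finiteness of the base change to an algebra in which `g` becomes invertible. -/
theorem finite_tensor_of_finPart {e : E} (hfp : FinPart A' e) (g : A') (hg : g • (1 - e) = 0)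
    (T : Type*) [CommRing T] [Algebra A' T] (hu : IsUnit (algebraMap A' T g)) :
    Module.Finite T (T ⊗[A'] E) := by
  obtain ⟨N, hN, hx⟩ := hfp
  have hfg : (N.baseChange T).FG := by
    obtain ⟨s, rfl⟩ := hN
    rw [Submodule.baseChange_span]
    exact Submodule.fg_span (s.finite_toSet.image _)
  have hzero : ∀ (c : T) (y : E), g • y = 0 → c ⊗ₜ[A'] y = 0 := by
    intro c y hy
    obtain ⟨u, hu'⟩ := hu
    have h1 : c = g • (c * ↑u⁻¹) := by
      rw [Algebra.smul_def, ← hu', mul_comm c, ← mul_assoc, Units.mul_inv, one_mul]
    rw [h1, TensorProduct.smul_tmul, hy, TensorProduct.tmul_zero]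
  have htop : ∀ z : T ⊗[A'] E, z ∈ N.baseChange T := by
    intro z
    induction z using TensorProduct.induction_on with
    | zero => exact Submodule.zero_mem _
    | tmul c x =>
      have h1 : x = e * x + (1 - e) * x := by ring
      rw [h1, TensorProduct.tmul_add]
      refine Submodule.add_mem _ (Submodule.tmul_mem_baseChange_of_mem c (hx x)) ?_
      rw [hzero c ((1 - e) * x) (by rw [← smul_mul_assoc, hg, zero_mul])]
      exact Submodule.zero_mem _
    | add x y hx' hy' => exact Submodule.add_mem _ hx' hy'
  rw [Module.finite_def]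
  have : N.baseChange T = ⊤ := eq_top_iff.2 fun z _ => htop z
  rwa [← this]

end Kill

section Descent

variable {A C A' : Type*} [CommRing A] [CommRing C] [Algebra A C] [CommRing A'] [Algebra A A']
  [Module.Flat A A']

/-- descent of finiteness from the local ring of a flat algebra to the local ring of the base. -/
theorem finite_localization_of_flat (p : Ideal A) [p.IsPrime] (t : Ideal A') [t.IsPrime]
    [t.LiesOver p]
    (h : Module.Finite (Localization.AtPrime t) (Localization.AtPrime t ⊗[A'] (A' ⊗[A] C))) :
    Module.Finite (Localization.AtPrime p) (Localization.AtPrime p ⊗[A] C) := by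
  letI := Localization.AtPrime.algebraOfLiesOver p t
  haveI : IsLocalHom (algebraMap (Localization.AtPrime p) (Localization.AtPrime t)) := by
    rw [RingHom.algebraMap_toAlgebra]
    exact Localization.isLocalHom_localRingHom p t (algebraMap A A') Ideal.LiesOver.over
  haveI : Module.FaithfullyFlat (Localization.AtPrime p) (Localization.AtPrime t) :=
    Module.FaithfullyFlat.of_flat_of_isLocalHom
  let e₁ : Localization.AtPrime t ⊗[A'] (A' ⊗[A] C) ≃ₗ[Localization.AtPrime t]
      Localization.AtPrime t ⊗[A] C :=
    TensorProduct.AlgebraTensorModule.cancelBaseChange A A' (Localization.AtPrime t)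
      (Localization.AtPrime t) C
  let e₂ : Localization.AtPrime t ⊗[Localization.AtPrime p] (Localization.AtPrime p ⊗[A] C)
      ≃ₗ[Localization.AtPrime t] Localization.AtPrime t ⊗[A] C :=
    TensorProduct.AlgebraTensorModule.cancelBaseChange A (Localization.AtPrime p)
      (Localization.AtPrime t) (Localization.AtPrime t) C
  haveI : Module.Finite (Localization.AtPrime t)
      (Localization.AtPrime t ⊗[Localization.AtPrime p] (Localization.AtPrime p ⊗[A] C)) :=
    Module.Finite.equiv (e₁.trans e₂.symm)
  exact Module.Finite.of_finite_tensorProduct_of_faithfullyFlat (Localization.AtPrime t)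

end Descent

end Groth.Agent.Lib.helper26.QFSplit
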