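import Mathlib
import Groth.Agent.Lib.Helper26.QFSplit2
import Groth.Agent.Lib.Helper26.QFSplit3

/-!
# A quasi-finite algebra whose étale localizations lift specializations is finite (helper26)
-/

set_option autoImplicit false
set_option linter.style.haveILetI false
universe u

namespace Groth.Agent.Lib.helper26.QFSplit

open TensorProduct

variable {A C : Type u} [CommRing A] [CommRing C] [Algebra A C] [Algebra.FiniteType A C]
  [Algebra.QuasiFinite A C]

/-- Let `C` be a quasi-finite `A`-algebra of finite type. Assume that for every étale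
neighbourhood `(A', t)` of a maximal ideal `m` of `A` with trivial residue field extension, every
prime of `A' ⊗ C` over a generization of `t` specializes to a prime over `t`. Then `C` is finite
over `A`. -/
theorem finite_of_forall_exists_specialization
    (H : ∀ (m : Ideal A) [m.IsMaximal] (A' : Type u) [CommRing A'] [Algebra A A']
      [Algebra.Etale A A'] (t : Ideal A') [t.IsPrime] [t.LiesOver m],
      Function.Bijective (Ideal.ResidueField.mapₐ m t (Algebra.ofId A A') (t.over_def m)) →
      ∀ Q : Ideal (A' ⊗[A] C), Q.IsPrime → Q.under A' ≤ t →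
        ∃ Q' : Ideal (A' ⊗[A] C), Q'.IsPrime ∧ Q ≤ Q' ∧ Q'.LiesOver t) :
    Module.Finite A C := by
  apply finite_of_forall_localization_finite
  intro m hm
  obtain ⟨A', _, _, _, t, _, _, e, he, hbij, hfp, hQ⟩ := exists_split (A := A) (D := C) m
  have h1 : ∀ Q : Ideal (A' ⊗[A] C), Q.IsPrime → Q.under A' ≤ t → 1 - e ∈ Q := by
    intro Q hQp hQt
    obtain ⟨Q', hQ'p, hle, hQ't⟩ := H m A' t hbij Q hQp hQt
    have h2 : e ∉ Q := fun hmem => hQ Q' hQ'p hQ't (hle hmem)
    have h3 : e * (1 - e) ∈ Q := by
      rw [mul_sub, mul_one, he.eq, sub_self]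
      exact Q.zero_mem
    exact (hQp.mem_or_mem h3).resolve_left h2
  obtain ⟨g, hgt, hg⟩ := exists_smul_one_sub_eq_zero t he h1
  have hu : IsUnit (algebraMap A' (Localization.AtPrime t) g) :=
    IsLocalization.map_units (Localization.AtPrime t) (⟨g, hgt⟩ : t.primeCompl)
  have hfin := finite_tensor_of_finPart hfp g hg (Localization.AtPrime t) hu
  exact finite_localization_of_flat m t hfin

end Groth.Agent.Lib.helper26.QFSplit
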