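import Mathlib
import Groth.Prelude.Def_CAlg
import Groth.Agent.Lib.Helper26.Depth7
import Groth.Agent.Lib.Helper26.QFinFlat1

/-!
# Quasi-finite algebras: transcendence degrees and fibres (helper26)

* `isAlgebraic_of_quasiFinite` : a quasi-finite injective extension of domains is algebraic.
* `trdeg_quotient_eq_of_quasiFinite` : `trdeg_k (S/q) = trdeg_k (P/p)` for `q` over `p`, `S`
  quasi-finite over `P`.
* `ringKrullDim_fibre_eq_zero` : for `q` over `p`, `dim (S_q / m_p S_q) = 0`.
* `isCohenMacaulayLocalRing_of_ringKrullDim_eq_zero`.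
* `under_eq_bot_of_flat` : if `S_q` is flat over the domain `P` then minimal primes `q₀ ≤ q`
  lie over `0`.
-/

set_option autoImplicit false
universe u

namespace Groth.Agent.Lib.helper26.QFinFlat

open LocCoh IsLocalRing Groth.Agent.Lib.helper26.Depth

theorem isAlgebraic_of_quasiFinite (A B : Type u) [CommRing A] [IsDomain A] [CommRing B]
    [IsDomain B] [Algebra A B] [FaithfulSMul A B] [Algebra.QuasiFinite A B] :
    Algebra.IsAlgebraic A B := by
  let K := FractionRing A
  let L := FractionRing B
  let _ : Algebra K L := FractionRing.liftAlgebra A L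
  have hst : IsScalarTower A K L := FractionRing.isScalarTower_liftAlgebra A L
  have h1 : Algebra.QuasiFinite A L := Algebra.QuasiFinite.trans A B L
  have h2 : Algebra.QuasiFinite K L := Algebra.QuasiFinite.of_restrictScalars A K L
  have h3 : Module.Finite K L := Module.Finite.of_quasiFinite
  have h4 : Algebra.IsAlgebraic K L := inferInstance
  have h5 : Algebra.IsAlgebraic A L := IsFractionRing.comap_isAlgebraic_iff.mpr h4
  exact (IsFractionRing.isAlgebraic_iff' A B L).mpr h5

theorem trdeg_eq_of_quasiFinite (k A B : Type u) [Field k] [CommRing A] [IsDomain A] [CommRing B]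
    [IsDomain B] [Algebra k A] [Algebra k B] [Algebra A B] [IsScalarTower k A B]
    [FaithfulSMul A B] [Algebra.QuasiFinite A B] :
    Algebra.trdeg k B = Algebra.trdeg k A := by
  have halg := isAlgebraic_of_quasiFinite A B
  have h := trdeg_add_eq k A (A := B)
  have t0 : Algebra.trdeg A B = 0 := trdeg_eq_zero
  rw [t0, add_zero] at h
  exact h.symm

theorem trdeg_quotient_eq_of_quasiFinite (k P S : Type u) [Field k] [CommRing P] [CommRing S]
    [Algebra k P] [Algebra k S] [Algebra P S] [IsScalarTower k P S] [Algebra.QuasiFinite P S]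
    (q : Ideal S) [q.IsPrime] (p : Ideal P) [p.IsPrime] [q.LiesOver p] :
    Algebra.trdeg k (S ⧸ q) = Algebra.trdeg k (P ⧸ p) := by
  have h1 : Algebra.QuasiFinite (P ⧸ p) (S ⧸ q) := Algebra.QuasiFinite.of_restrictScalars P _ _
  exact trdeg_eq_of_quasiFinite k (P ⧸ p) (S ⧸ q)

/-- a Noetherian local ring of dimension zero is Cohen–Macaulay. -/
theorem isCohenMacaulayLocalRing_of_ringKrullDim_eq_zero (T : Type u) [CommRing T]
    [IsNoetherianRing T] [IsLocalRing T] (h : ringKrullDim T = 0) :
    IsCohenMacaulayLocalRing T := by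
  refine { supportDim_eq_depth := ?_ }
  rw [Module.supportDim_self_eq_ringKrullDim, h]
  have h1 := depth_self_le_ringKrullDim T
  rw [h] at h1
  have h2 : depth T T = 0 := by
    have : ((depth T T : ℕ∞) : WithBot ℕ∞) ≤ ((0 : ℕ∞) : WithBot ℕ∞) := h1
    have h3 : depth T T ≤ 0 := by exact_mod_cast this
    exact le_antisymm h3 zero_le
  rw [h2]
  rfl

section fibre

variable (P S : Type u) [CommRing P] [CommRing S] [Algebra P S] [Algebra.QuasiFinite P S]
  (q : Ideal S) [q.IsPrime] (p : Ideal P) [p.IsPrime] [q.LiesOver p]

/-- the fibre ring `S_q / m_p S_q` of a quasi-finite algebra has dimension zero. -/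
theorem ringKrullDim_fibre_eq_zero
    [Algebra (Localization.AtPrime p) (Localization.AtPrime q)]
    [Localization.AtPrime.IsLiesOverAlgebra p q] :
    ringKrullDim (Localization.AtPrime q ⧸ (maximalIdeal (Localization.AtPrime p)).map
      (algebraMap (Localization.AtPrime p) (Localization.AtPrime q))) = 0 := by
  set I := (maximalIdeal (Localization.AtPrime p)).map
      (algebraMap (Localization.AtPrime p) (Localization.AtPrime q)) with hI
  have hloc : IsLocalHom (algebraMap (Localization.AtPrime p) (Localization.AtPrime q)) := by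
    rw [Localization.AtPrime.IsLiesOverAlgebra.algebraMap_eq]
    exact Localization.isLocalHom_localRingHom _ q (algebraMap P S) Ideal.LiesOver.over
  have hIle : I ≤ maximalIdeal (Localization.AtPrime q) :=
    ((IsLocalRing.local_hom_TFAE (algebraMap (Localization.AtPrime p)
      (Localization.AtPrime q))).out 0 2).mp hloc
  have hkey : ∀ Q : Ideal (Localization.AtPrime q), Q.IsPrime → I ≤ Q →
      Q = maximalIdeal (Localization.AtPrime q) := by
    intro Q hQ hIQ
    have hq' : (Q.under S).IsPrime := inferInstance
    have hle : Q.under S ≤ q := by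
      have h1 : Q ≤ maximalIdeal (Localization.AtPrime q) := IsLocalRing.le_maximalIdeal hQ.ne_top
      have h2 : Q.under S ≤ (maximalIdeal (Localization.AtPrime q)).under S :=
        Ideal.comap_mono (f := algebraMap S (Localization.AtPrime q)) h1
      rwa [IsLocalization.AtPrime.under_maximalIdeal (Localization.AtPrime q) q] at h2
    have hund : (Q.under S).under P = q.under P := by
      apply le_antisymm (Ideal.comap_mono hle)
      intro a ha
      have hap : a ∈ p := by
        rw [Ideal.LiesOver.over (p := p) (P := q)]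
        exact ha
      change algebraMap S (Localization.AtPrime q) (algebraMap P S a) ∈ Q
      apply hIQ
      have : algebraMap S (Localization.AtPrime q) (algebraMap P S a) =
          algebraMap (Localization.AtPrime p) (Localization.AtPrime q)
            (algebraMap P (Localization.AtPrime p) a) := by
        rw [Localization.AtPrime.IsLiesOverAlgebra.algebraMap_eq (p := p) (P := q),
          Localization.localRingHom_to_map]
      rw [this]
      apply Ideal.mem_map_of_mem
      exact (IsLocalization.AtPrime.to_map_mem_maximal_iff (Localization.AtPrime p) p a).mpr hap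
    have heq : Q.under S = q := Algebra.QuasiFinite.eq_of_le_of_under_eq (R := P) _ _ hle hund
    have h3 := IsLocalization.map_under q.primeCompl (Localization.AtPrime q) Q
    rw [← h3]
    change (Q.under S).map _ = _
    rw [heq, Localization.AtPrime.map_eq_maximalIdeal]
  have hloc' : IsLocalRing (Localization.AtPrime q ⧸ I) :=
    have : Nontrivial (Localization.AtPrime q ⧸ I) :=
      Ideal.Quotient.nontrivial_iff.mpr (fun h => (maximalIdeal.isMaximal _).ne_top
        (top_le_iff.mp (h ▸ hIle)))
    IsLocalRing.of_surjective' (Ideal.Quotient.mk I) Ideal.Quotient.mk_surjective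
  apply le_antisymm _ ringKrullDim_nonneg_of_nontrivial
  have : Ring.KrullDimLE 0 (Localization.AtPrime q ⧸ I) := by
    rw [Ring.krullDimLE_zero_iff]
    intro 𝔓 h𝔓
    have h1 : (𝔓.comap (Ideal.Quotient.mk I)).IsPrime := Ideal.comap_isPrime _ _
    have h2 : I ≤ 𝔓.comap (Ideal.Quotient.mk I) := by
      intro x hx
      rw [Ideal.mem_comap, Ideal.Quotient.eq_zero_iff_mem.mpr hx]
      exact 𝔓.zero_mem
    have h3 := hkey _ h1 h2
    have h4 : 𝔓 = (maximalIdeal (Localization.AtPrime q)).map (Ideal.Quotient.mk I) := by
      rw [← h3, Ideal.map_comap_of_surjective _ Ideal.Quotient.mk_surjective]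
    rw [h4]
    have := Ideal.map_eq_top_or_isMaximal_of_surjective (Ideal.Quotient.mk I)
      Ideal.Quotient.mk_surjective (maximalIdeal.isMaximal (Localization.AtPrime q))
    rcases this with h5 | h5
    · exfalso
      rw [← h4] at h5
      exact h𝔓.ne_top h5
    · exact h5
  exact Ring.krullDimLE_iff.mp this

end fibre

section goingdown

variable (P S : Type u) [CommRing P] [IsDomain P] [CommRing S] [Algebra P S]
  (q : Ideal S) [q.IsPrime]

/-- if `S_q` is flat over the domain `P`, every minimal prime `q₀ ≤ q` lies over `0`. -/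
theorem under_eq_bot_of_flat [Module.Flat P (Localization.AtPrime q)] (q0 : Ideal S)
    (hq0 : q0 ∈ minimalPrimes S) (hle : q0 ≤ q) : q0.under P = ⊥ := by
  have hq0p : q0.IsPrime := hq0.1.1
  set Q0 := q0.map (algebraMap S (Localization.AtPrime q)) with hQ0
  have hQ0p : Q0.IsPrime := Ideal.isPrime_map_of_isLocalizationAtPrime (q := q) hle
  have hQ0u : Q0.under S = q0 :=
    Ideal.under_map_of_isLocalizationAtPrime (q := q) (S := Localization.AtPrime q) hle
  have hbp : (⊥ : Ideal P).IsPrime := Ideal.isPrime_bot
  have hlo : Q0.LiesOver (Q0.under P) := ⟨rfl⟩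
  obtain ⟨Q', hQ'le, hQ'p, hQ'lo⟩ :=
    Ideal.exists_ideal_le_liesOver_of_le (p := (⊥ : Ideal P)) (q := Q0.under P) Q0 bot_le
  have h1 : Q'.under S ≤ q0 := by
    rw [← hQ0u]
    exact Ideal.comap_mono hQ'le
  have h2 : Q'.under S = q0 := by
    have hp' : (Q'.under S).IsPrime := inferInstance
    exact le_antisymm h1 (hq0.2 ⟨hp', bot_le⟩ h1)
  have h3 : (Q'.under S).under P = Q'.under P := by
    rw [Ideal.under_under]
  rw [← h2, h3, ← hQ'lo.over]

end goingdown

end Groth.Agent.Lib.helper26.QFinFlat
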