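import Mathlib
import Groth.Prelude.Def_EGA4b
import Groth.Agent.Lib.Helper22.FiniteDepth
import Groth.Agent.Lib.Helper26.HomDepth
import Groth.Agent.Lib.Helper26.DepthCR
import Groth.Agent.Lib.Helper26.FlatCrit13

/-!
# Depth of projective modules and of their fibre stalks (helper26)
-/

set_option autoImplicit false
set_option linter.unusedSectionVars false
set_option linter.style.haveILetI false
universe u

open LocCoh IsLocalRing TensorProduct Function

namespace Groth.Agent.Lib.helper26.QG

open Groth.Agent.Lib.helper26.Depth

section Proj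

variable {R : Type u} [CommRing R] [IsNoetherianRing R] (I : Ideal R)

/-- a finite projective module is a retract of a finite free module. -/
theorem exists_retract_of_projective (M : Type u) [AddCommGroup M] [Module R M] [Module.Finite R M]
    [Module.Projective R M] :
    ∃ (n : ℕ) (s : M →ₗ[R] (Fin n → R)) (π : (Fin n → R) →ₗ[R] M), π ∘ₗ s = LinearMap.id := by
  obtain ⟨n, π, hπ⟩ := Module.Finite.exists_fin' R M
  obtain ⟨s, hs⟩ := Module.projective_lifting_property π LinearMap.id hπ
  exact ⟨n, s, π, hs⟩

/-- finite projective modules inherit lower bounds on the depth of the ring. -/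
theorem le_idealDepth_of_projective (k : ℕ∞) (h : k ≤ idealDepth I R) (M : Type u) [AddCommGroup M]
    [Module R M] [Module.Finite R M] [Module.Projective R M] : k ≤ idealDepth I M := by
  obtain ⟨n, s, π, hs⟩ := exists_retract_of_projective (R := R) M
  exact (le_idealDepth_pi I R k h n).trans
    (Groth.Agent.Lib.helper22.FiniteDepth.idealDepth_le_of_retract I s π hs)

/-- the quotient `M / aM` of a finite projective module inherits lower bounds on the depth of
`R / a`. -/
theorem le_idealDepth_quot_of_projective (a : Ideal R) (k : ℕ∞) (h : k ≤ idealDepth I (R ⧸ a))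
    (M : Type u) [AddCommGroup M] [Module R M] [Module.Finite R M] [Module.Projective R M] :
    k ≤ idealDepth I (M ⧸ a • (⊤ : Submodule R M)) := by
  obtain ⟨n, s, π, hs⟩ := exists_retract_of_projective (R := R) M
  rw [← idealDepth_congr (quotTensorEquivQuotSMul M a)]
  have hs' : (π.lTensor (R ⧸ a)) ∘ₗ (s.lTensor (R ⧸ a)) = LinearMap.id := by
    rw [← LinearMap.lTensor_comp, hs, LinearMap.lTensor_id]
  refine le_trans ?_
    (Groth.Agent.Lib.helper22.FiniteDepth.idealDepth_le_of_retract I _ _ hs')
  rw [idealDepth_congr (TensorProduct.piScalarRight R R (R ⧸ a) (Fin n))]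
  exact le_idealDepth_pi I (R ⧸ a) k h n

end Proj

section ProjKer

variable {R : Type u} [CommRing R]
  {K M0 M1 M2 : Type u} [AddCommGroup K] [Module R K] [AddCommGroup M0] [Module R M0]
  [AddCommGroup M1] [Module R M1] [AddCommGroup M2] [Module R M2]
  [Module.Projective R M0] [Module.Projective R M1] [Module.Projective R M2]
  (f : K →ₗ[R] M0) (u : M0 →ₗ[R] M1) (v : M1 →ₗ[R] M2)

/-- the kernel in a four-term exact sequence of projectives is projective. -/
theorem projective_ker_of_exact (hf : Injective f) (hfu : Exact f u) (huv : Exact u v)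
    (hv : Surjective v) : Module.Projective R K := by
  -- a section of `v`
  obtain ⟨σ, hσ⟩ := Module.projective_lifting_property v LinearMap.id hv
  -- `ker v` is a retract of `M1`
  let I := LinearMap.ker v
  let r : M1 →ₗ[R] I := (LinearMap.id - σ ∘ₗ v).codRestrict I (fun x => by
    rw [LinearMap.mem_ker, LinearMap.sub_apply, LinearMap.id_apply, map_sub, LinearMap.comp_apply]
    have := LinearMap.congr_fun hσ (v x)
    simp only [LinearMap.comp_apply, LinearMap.id_apply] at this
    rw [this, sub_self])
  have hr : r ∘ₗ I.subtype = LinearMap.id := by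
    ext ⟨x, hx⟩
    simp only [r, LinearMap.comp_apply, Submodule.subtype_apply, LinearMap.codRestrict_apply,
      LinearMap.sub_apply, LinearMap.id_apply]
    rw [LinearMap.mem_ker.mp hx, map_zero, sub_zero]
  haveI : Module.Projective R I := Module.Projective.of_split I.subtype r hr
  -- `u : M0 → I` is surjective
  let u₀ : M0 →ₗ[R] I := u.codRestrict I (fun x => LinearMap.mem_ker.mpr (huv.apply_apply_eq_zero x))
  have hu₀ : Surjective u₀ := by
    rintro ⟨y, hy⟩
    obtain ⟨x, rfl⟩ := (huv y).mp hy
    exact ⟨x, rfl⟩
  obtain ⟨τ, hτ⟩ := Module.projective_lifting_property u₀ LinearMap.id hu₀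
  have hmem : ∀ x : M0, x - τ (u₀ x) ∈ LinearMap.range f := by
    intro x
    rw [← LinearMap.exact_iff.mp hfu, LinearMap.mem_ker, map_sub, sub_eq_zero]
    have := LinearMap.congr_fun hτ (u₀ x)
    simp only [LinearMap.comp_apply, LinearMap.id_apply] at this
    exact (congrArg Subtype.val this).symm
  let ρ : M0 →ₗ[R] K := (LinearEquiv.ofInjective f hf).symm.toLinearMap ∘ₗ
    (LinearMap.id - τ ∘ₗ u₀).codRestrict (LinearMap.range f) hmem
  have hρ : ρ ∘ₗ f = LinearMap.id := by
    ext k
    simp only [ρ, LinearMap.comp_apply, LinearEquiv.coe_coe, LinearMap.id_apply]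
    rw [LinearEquiv.symm_apply_eq]
    apply Subtype.ext
    simp only [LinearMap.codRestrict_apply, LinearMap.sub_apply, LinearMap.id_apply,
      LinearMap.comp_apply, LinearEquiv.ofInjective_apply]
    have : u₀ (f k) = 0 := Subtype.ext (hfu.apply_apply_eq_zero k)
    rw [this, map_zero, sub_zero]
  exact Module.Projective.of_split f ρ hρ

end ProjKer

section Fib

variable (A B : Type u) [CommRing A] [CommRing B] [IsNoetherianRing B] [Algebra A B]
  (q : Ideal B) [q.IsPrime]

/-- the fibre stalk of a finite projective module inherits lower bounds on the depth of the fibre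
local ring. -/
theorem le_idealDepth_fibLocMod_of_projective (J : Ideal B) (k : ℕ∞)
    (h : k ≤ idealDepth (J.map (algebraMap B (EGA4.FibLocRing A B q))) (EGA4.FibLocRing A B q))
    (E : Type u) [AddCommGroup E] [Module B E] [Module.Finite B E] [Module.Projective B E] :
    k ≤ idealDepth (J.map (algebraMap B (EGA4.FibLocRing A B q))) (EGA4.FibLocMod A B q E) := by
  have hJ : (J.map (algebraMap B (Localization.AtPrime q))).map
      (algebraMap (Localization.AtPrime q) (EGA4.FibLocRing A B q)) =
      J.map (algebraMap B (EGA4.FibLocRing A B q)) := by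
    rw [Ideal.map_map, ← IsScalarTower.algebraMap_eq]
  rw [← hJ] at h ⊢
  rw [← idealDepth_map_eq (A := Localization.AtPrime q) (B := EGA4.FibLocRing A B q)
    (J.map (algebraMap B (Localization.AtPrime q)))] at h ⊢
  exact le_idealDepth_quot_of_projective (J.map (algebraMap B (Localization.AtPrime q)))
    ((q.comap (algebraMap A B)).map (algebraMap A (Localization.AtPrime q))) k h
    (LocalizedModule q.primeCompl E)

end Fib

end Groth.Agent.Lib.helper26.QG
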