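import Mathlib
import Groth.Prelude.Def_EGA4b
import Groth.Prelude.Def_FlatCA
import Groth.Agent.Lib.Helper26.QG1
import Groth.Agent.Lib.Helper26.FibMod2
import Groth.Agent.Lib.Helper26.FibDict2
import Groth.Agent.Lib.Helper26.Sk3
import Groth.Agent.Lib.Helper26.ReflexiveCrit
import Groth.Agent.Lib.Helper26.FlatCrit12
import Groth.Agent.Lib.Helper26.GrCM1

/-!
# Four-term sequences of projectives over a flat family with fibres of depth `≥ 2` along `V(J)`
(helper26)
-/

set_option autoImplicit false
set_option linter.unusedSectionVars false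
set_option linter.style.haveILetI false
universe u

open LocCoh IsLocalRing TensorProduct Function

namespace Groth.Agent.Lib.helper26.QG

open Groth.Agent.Lib.helper26.Depth Groth.Agent.Lib.helper26.FibMod
  Groth.Agent.Lib.helper26.FlatCrit

section ring

variable (A B : Type u) [CommRing A] [CommRing B] [IsNoetherianRing A] [IsNoetherianRing B]
  [Algebra A B] [Module.Flat A B] (J : Ideal B)

theorem le_idealDepth_self_of_fibre (k : ℕ∞)
    (hZ : ∀ q : PrimeSpectrum B, J ≤ q.asIdeal →
      k ≤ idealDepth (q.asIdeal.map (algebraMap B (EGA4.FibLocRing A B q.asIdeal)))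
        (EGA4.FibLocRing A B q.asIdeal)) :
    k ≤ idealDepth J B := by
  refine le_idealDepth_of_fibre A B B J k ?_
  intro q hq
  rw [idealDepth_fibLocMod_self]
  exact hZ q hq

end ring

section fourTerm

variable (A B : Type u) [CommRing A] [CommRing B] [IsNoetherianRing A] [IsNoetherianRing B]
  [Algebra A B] [Module.Flat A B] (J : Ideal B)
  {K E0 E1 G : Type u} [AddCommGroup K] [Module B K] [Module.Finite B K]
  [AddCommGroup E0] [Module B E0] [Module.Finite B E0] [Module.Projective B E0]
  [AddCommGroup E1] [Module B E1] [Module.Finite B E1] [Module.Projective B E1]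
  [AddCommGroup G] [Module B G] [Module.Finite B G]
  (f : K →ₗ[B] E0) (u : E0 →ₗ[B] E1) (v : E1 →ₗ[B] G)
  (hf : Injective f) (hfu : Exact f u) (huv : Exact u v) (hv : Surjective v)

include hf hfu huv hv

omit [IsNoetherianRing A] [IsNoetherianRing B] [Module.Flat A B] [Module.Finite B E0]
  [Module.Finite B E1] [Module.Finite B G] in
/-- if the cokernel is free at `q`, so is the kernel. -/
theorem free_localization_ker (q : Ideal B) [q.IsPrime]
    (hG : Module.Free (Localization.AtPrime q) (LocalizedModule q.primeCompl G)) :
    Module.Free (Localization.AtPrime q) (LocalizedModule q.primeCompl K) := by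
  haveI : Module.Projective (Localization.AtPrime q) (LocalizedModule q.primeCompl K) :=
    projective_ker_of_exact (LocalizedModule.map q.primeCompl f)
      (LocalizedModule.map q.primeCompl u) (LocalizedModule.map q.primeCompl v)
      (LocalizedModule.map_injective q.primeCompl f hf)
      (LocalizedModule.map_exact q.primeCompl f u hfu)
      (LocalizedModule.map_exact q.primeCompl u v huv)
      (LocalizedModule.map_surjective q.primeCompl v hv)
  exact Module.free_of_flat_of_isLocalRing

/-- **Reflexivity and depth of the kernel.** -/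
theorem isReflexive_and_two_le_idealDepth
    (hZ : ∀ q : PrimeSpectrum B, J ≤ q.asIdeal →
      2 ≤ idealDepth (q.asIdeal.map (algebraMap B (EGA4.FibLocRing A B q.asIdeal)))
        (EGA4.FibLocRing A B q.asIdeal))
    (hGU : ∀ q : PrimeSpectrum B, ¬ J ≤ q.asIdeal →
      Module.Free (Localization.AtPrime q.asIdeal) (LocalizedModule q.asIdeal.primeCompl G)) :
    Module.IsReflexive B K ∧ 2 ≤ idealDepth J K := by
  have h2B : 2 ≤ idealDepth J B := le_idealDepth_self_of_fibre A B J 2 hZ
  have h1B : 1 ≤ idealDepth J B := le_trans (by norm_num) h2B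
  have hE0 : 2 ≤ idealDepth J E0 := le_idealDepth_of_projective J 2 h2B E0
  have hE1 : 1 ≤ idealDepth J E1 := le_idealDepth_of_projective J 1 h1B E1
  have hK : 2 ≤ idealDepth J K := two_le_idealDepth_of_exact J f u hf hfu hE0 hE1
  refine ⟨isReflexive_of_two_le_idealDepth J h1B K ?_ hK, hK⟩
  intro q hq
  haveI := free_localization_ker B f u v hf hfu huv hv q.asIdeal (hGU q hq)
  infer_instance

end fourTerm

section flat

variable (A B : Type u) [CommRing A] [CommRing B] [IsNoetherianRing A] [IsNoetherianRing B]
  [Algebra A B] [Module.Flat A B] (J : Ideal B)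
  {K E0 E1 G : Type u} [AddCommGroup K] [Module B K] [Module A K] [IsScalarTower A B K]
  [Module.Finite B K]
  [AddCommGroup E0] [Module B E0] [Module A E0] [IsScalarTower A B E0] [Module.Finite B E0]
  [Module.Projective B E0]
  [AddCommGroup E1] [Module B E1] [Module A E1] [IsScalarTower A B E1] [Module.Finite B E1]
  [Module.Projective B E1]
  [AddCommGroup G] [Module B G] [Module A G] [IsScalarTower A B G] [Module.Finite B G]
  (f : K →ₗ[B] E0) (u : E0 →ₗ[B] E1) (v : E1 →ₗ[B] G)
  (hf : Injective f) (hfu : Exact f u) (huv : Exact u v) (hv : Surjective v)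

omit [IsNoetherianRing A] [IsNoetherianRing B] [Module.Finite B G] in
/-- a module free at `q` over `B_q` is flat over `A` at `q`. -/
theorem flat_localization_of_free (q : Ideal B) [q.IsPrime]
    (hG : Module.Free (Localization.AtPrime q) (LocalizedModule q.primeCompl G)) :
    Module.Flat A (LocalizedModule q.primeCompl G) := by
  haveI : Module.Flat A (Localization.AtPrime q) := inferInstance
  exact Module.Flat.trans A (Localization.AtPrime q) (LocalizedModule q.primeCompl G)

include hf hfu huv hv

/-- **Flatness of the cokernel from fibrewise depth of the kernel** (depth along the maximal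
ideals of the fibre local rings). -/
theorem flat_coker_of_fibre_depth
    (hZ : ∀ q : PrimeSpectrum B, J ≤ q.asIdeal →
      2 ≤ idealDepth (q.asIdeal.map (algebraMap B (EGA4.FibLocRing A B q.asIdeal)))
        (EGA4.FibLocRing A B q.asIdeal))
    (hGU : ∀ q : PrimeSpectrum B, ¬ J ≤ q.asIdeal →
      Module.Free (Localization.AtPrime q.asIdeal) (LocalizedModule q.asIdeal.primeCompl G))
    (hK : ∀ q : PrimeSpectrum B, J ≤ q.asIdeal →
      2 ≤ idealDepth (q.asIdeal.map (algebraMap B (EGA4.FibLocRing A B q.asIdeal)))
        (EGA4.FibLocMod A B q.asIdeal K)) :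
    Module.Flat A G := by
  haveI : Module.Flat A E0 := Module.Flat.trans A B E0
  haveI : Module.Flat A E1 := Module.Flat.trans A B E1
  have key : ∀ m : ℕ, ∀ q : PrimeSpectrum B, q.asIdeal.height.toNat = m →
      Module.Flat A (LocalizedModule q.asIdeal.primeCompl G) := by
    intro m
    induction m using Nat.strong_induction_on with
    | _ m ih =>
      intro q hqm
      by_cases hJq : J ≤ q.asIdeal
      · have h0 := le_idealDepth_fibLocMod_of_projective A B q.asIdeal q.asIdeal 2 (hZ q hJq) E0
        have h1 := le_idealDepth_fibLocMod_of_projective A B q.asIdeal q.asIdeal 1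
          (le_trans (by norm_num) (hZ q hJq)) E1
        refine (local_four_term A B q.asIdeal f u v hf hfu huv hv ?_ h0 h1).mp (hK q hJq)
        intro q' hq' hlt
        have hlt' : q'.height < q.asIdeal.height :=
          Ideal.height_strict_mono_of_isPrime_of_isPrime hlt
        obtain ⟨a, ha⟩ := ENat.ne_top_iff_exists.mp (Ideal.height_ne_top_of_isPrime (I := q'))
        obtain ⟨b, hb⟩ := ENat.ne_top_iff_exists.mp
          (Ideal.height_ne_top_of_isPrime (I := q.asIdeal))
        have hab : a < b := by
          rw [← ha, ← hb] at hlt'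
          exact_mod_cast hlt'
        have hbm : b = m := by
          rw [← hb] at hqm
          simpa using hqm
        have haq : (⟨q', hq'⟩ : PrimeSpectrum B).asIdeal.height.toNat = a := by
          change q'.height.toNat = a
          rw [← ha]
          simp
        exact ih a (hbm ▸ hab) ⟨q', hq'⟩ haq
      · exact flat_localization_of_free A B q.asIdeal (hGU q hJq)
  refine Module.flat_of_isLocalized_maximal (R := A) B G
    (fun P _ => LocalizedModule P.primeCompl G)
    (fun P _ => LocalizedModule.mkLinearMap P.primeCompl G) ?_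
  intro P hP
  haveI : P.IsPrime := hP.isPrime
  exact key _ ⟨P, inferInstance⟩ rfl

/-- **The criterion**: the kernel is flat with fibrewise depth `≥ 2` along `J` iff the cokernel
is flat. -/
theorem flat_coker_iff
    (hZ : ∀ q : PrimeSpectrum B, J ≤ q.asIdeal →
      2 ≤ idealDepth (q.asIdeal.map (algebraMap B (EGA4.FibLocRing A B q.asIdeal)))
        (EGA4.FibLocRing A B q.asIdeal))
    (hGU : ∀ q : PrimeSpectrum B, ¬ J ≤ q.asIdeal →
      Module.Free (Localization.AtPrime q.asIdeal) (LocalizedModule q.asIdeal.primeCompl G)) :
    (∀ q : PrimeSpectrum B, FlatCA.FlatAt A q.asIdeal K ∧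
        2 ≤ idealDepth (J.map (algebraMap B (EGA4.FibLocRing A B q.asIdeal)))
          (EGA4.FibLocMod A B q.asIdeal K)) ↔
      Module.Flat A G := by
  haveI : Module.Flat A E0 := Module.Flat.trans A B E0
  haveI : Module.Flat A E1 := Module.Flat.trans A B E1
  constructor
  · intro h
    refine flat_coker_of_fibre_depth A B J f u v hf hfu huv hv hZ hGU ?_
    intro q hJq
    refine (h q).2.trans ?_
    exact Groth.Agent.Lib.helper26.GrCM.idealDepth_mono' _ _ _ (Ideal.map_mono hJq)
  · intro hG q
    have hGq : Module.Flat A (LocalizedModule q.asIdeal.primeCompl G) :=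
      flat_localizedModule q.asIdeal.primeCompl G
    refine ⟨flat_localizedModule_ker A B f u v hf hfu huv hv q.asIdeal hGq, ?_⟩
    have hC := Groth.Agent.Lib.helper26.FibDict.le_idealDepth_fibLocRing A B q.asIdeal J 2 hZ
    have h0 := le_idealDepth_fibLocMod_of_projective A B q.asIdeal J 2 hC E0
    have h1 := le_idealDepth_fibLocMod_of_projective A B q.asIdeal J 1
      (le_trans (by norm_num) hC) E1
    refine (local_four_term_ideal A B q.asIdeal f u v hf hfu huv hv J ?_ h0 h1).mpr hGq
    intro q' _ _ _
    exact flat_localizedModule q'.primeCompl G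

end flat

end Groth.Agent.Lib.helper26.QG
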