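import Mathlib
import Groth.Prelude.Def_EGA4b
import Groth.Agent.Lib.Helper26.FibBC

/-!
# Base change plumbing for the `QGor` four-term statements (helper26)
-/

set_option autoImplicit false
set_option linter.unusedSectionVars false
set_option linter.style.haveILetI false
universe u

open LocCoh IsLocalRing TensorProduct Function

namespace Groth.Agent.Lib.helper26.QG

section free

attribute [local instance] Localization.AtPrime.algebraOfLiesOver

variable {B B' : Type u} [CommRing B] [CommRing B'] [Algebra B B']

/-- base change preserves freeness of stalks. -/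
theorem free_localizedModule_baseChange (q' : Ideal B') [q'.IsPrime] (G : Type u) [AddCommGroup G]
    [Module B G]
    (hG : Module.Free (Localization.AtPrime (q'.comap (algebraMap B B')))
      (LocalizedModule (q'.comap (algebraMap B B')).primeCompl G)) :
    Module.Free (Localization.AtPrime q') (LocalizedModule q'.primeCompl (B' ⊗[B] G)) := by
  set q := q'.comap (algebraMap B B') with hq
  haveI : q'.LiesOver q := ⟨rfl⟩
  let e1 : LocalizedModule q'.primeCompl (B' ⊗[B] G) ≃ₗ[Localization.AtPrime q']
      Localization.AtPrime q' ⊗[B'] (B' ⊗[B] G) :=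
    (IsLocalizedModule.isBaseChange q'.primeCompl (Localization.AtPrime q')
      (LocalizedModule.mkLinearMap q'.primeCompl (B' ⊗[B] G))).equiv.symm
  let e2 : Localization.AtPrime q' ⊗[B'] (B' ⊗[B] G) ≃ₗ[Localization.AtPrime q']
      Localization.AtPrime q' ⊗[B] G :=
    AlgebraTensorModule.cancelBaseChange B B' (Localization.AtPrime q') (Localization.AtPrime q') G
  let e3 : Localization.AtPrime q' ⊗[Localization.AtPrime q] (Localization.AtPrime q ⊗[B] G)
      ≃ₗ[Localization.AtPrime q'] Localization.AtPrime q' ⊗[B] G :=
    AlgebraTensorModule.cancelBaseChange B (Localization.AtPrime q) (Localization.AtPrime q')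
      (Localization.AtPrime q') G
  let e4 : (Localization.AtPrime q ⊗[B] G) ≃ₗ[Localization.AtPrime q]
      LocalizedModule q.primeCompl G :=
    (IsLocalizedModule.isBaseChange q.primeCompl (Localization.AtPrime q)
      (LocalizedModule.mkLinearMap q.primeCompl G)).equiv
  let e5 : Localization.AtPrime q' ⊗[Localization.AtPrime q] (Localization.AtPrime q ⊗[B] G)
      ≃ₗ[Localization.AtPrime q']
      Localization.AtPrime q' ⊗[Localization.AtPrime q] (LocalizedModule q.primeCompl G) :=
    AlgebraTensorModule.congr (LinearEquiv.refl (Localization.AtPrime q') (Localization.AtPrime q'))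
      e4
  haveI : Module.Free (Localization.AtPrime q')
      (Localization.AtPrime q' ⊗[Localization.AtPrime q] (LocalizedModule q.primeCompl G)) :=
    inferInstance
  exact Module.Free.of_equiv (e1.trans (e2.trans (e3.symm.trans e5))).symm

end free

section BC

variable (A B A' B' : Type u) [CommRing A] [CommRing B] [CommRing A'] [CommRing B']
  [IsNoetherianRing B] [IsNoetherianRing B']
  [Algebra A B] [Algebra A A'] [Algebra B B'] [Algebra A' B'] [Algebra A B']
  [IsScalarTower A B B'] [IsScalarTower A A' B'] [Algebra.IsPushout A B A' B']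

/-- the fibre depth hypothesis passes to the base change. -/
theorem fibre_depth_baseChange (J : Ideal B) (k : ℕ∞)
    (hZ : ∀ q : PrimeSpectrum B, J ≤ q.asIdeal →
      k ≤ idealDepth (q.asIdeal.map (algebraMap B (EGA4.FibLocRing A B q.asIdeal)))
        (EGA4.FibLocRing A B q.asIdeal))
    (q' : PrimeSpectrum B') (hq' : J.map (algebraMap B B') ≤ q'.asIdeal) :
    k ≤ idealDepth (q'.asIdeal.map (algebraMap B' (EGA4.FibLocRing A' B' q'.asIdeal)))
      (EGA4.FibLocRing A' B' q'.asIdeal) := by
  have hprime : (q'.asIdeal.comap (algebraMap B B')).IsPrime := inferInstance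
  exact Groth.Agent.Lib.helper26.FibBC.le_idealDepth_fibLocRing_of_le A B A' B' q'.asIdeal
    (q'.asIdeal.comap (algebraMap B B')) rfl k
    (hZ ⟨_, hprime⟩ (Ideal.map_le_iff_le_comap.mp hq'))

omit [IsNoetherianRing B] [IsNoetherianRing B'] in
/-- the base change of a flat algebra is flat. -/
theorem flat_baseChange [Module.Flat A B] : Module.Flat A' B' := by
  have hpush : Algebra.IsPushout A A' B B' := Algebra.IsPushout.symm inferInstance
  exact Module.Flat.isBaseChange (R := A) (S := A') (M := B) B' hpush.out

end BC

end Groth.Agent.Lib.helper26.QG
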