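import Mathlib
import Groth.Agent.Lib.Helper26.ReflexiveCrit
import Groth.Agent.Lib.Helper26.FlatCrit1
import Groth.Agent.Lib.Helper26.HomDepth

/-!
# Duals of maps which are isomorphisms off `V(I)` when `depth_I R ≥ 2` (helper26)
-/

set_option autoImplicit false
set_option linter.unusedSectionVars false
set_option linter.style.haveILetI false
universe u

open LocCoh IsLocalRing TensorProduct Function

namespace Groth.Agent.Lib.helper26.QG

open Groth.Agent.Lib.helper26.Depth Groth.Agent.Lib.helper26.FlatCrit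

section common

variable {R : Type u} [CommRing R] {N : Type u} [AddCommGroup N] [Module R N] [Module.Finite R N]

/-- a common denominator: if every element of a finite module is pushed into a submodule by an
element outside `p`, one element does it for all. -/
theorem exists_smul_mem_of_forall (p : Ideal R) [p.IsPrime] (N0 : Submodule R N)
    (h : ∀ y : N, ∃ s, s ∉ p ∧ s • y ∈ N0) : ∃ s, s ∉ p ∧ ∀ y : N, s • y ∈ N0 := by
  classical
  obtain ⟨t, ht⟩ := (Module.Finite.fg_top : (⊤ : Submodule R N).FG)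
  choose σ hσ hσ' using h
  refine ⟨∏ y ∈ t, σ y, ?_, ?_⟩
  · intro hmem
    obtain ⟨y, -, hy⟩ := (Ideal.IsPrime.prod_mem_iff).mp hmem
    exact hσ y hy
  · intro y
    have hy : y ∈ Submodule.span R (t : Set N) := by rw [ht]; trivial
    induction hy using Submodule.span_induction with
    | mem x hx =>
      rw [← Finset.prod_erase_mul t σ hx, mul_smul]
      exact N0.smul_mem _ (hσ' x)
    | zero => rw [smul_zero]; exact N0.zero_mem
    | add a b _ _ ha hb => rw [smul_add]; exact N0.add_mem ha hb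
    | smul r a _ ha => rw [smul_comm]; exact N0.smul_mem _ ha

end common

section dualIso

variable {R : Type u} [CommRing R] [IsNoetherianRing R] (I : Ideal R)
  {M N : Type u} [AddCommGroup M] [Module R M] [Module.Finite R M]
  [AddCommGroup N] [Module R N] [Module.Finite R N]

/-- restriction of functionals to a submodule with `I`-torsion quotient is injective when
`depth_I R ≥ 1`. -/
theorem dual_eq_zero_of_torsion (h1 : 1 ≤ idealDepth I R) (N0 : Submodule R N)
    (hN0 : ∀ y : N, ∀ p : Ideal R, p.IsPrime → ¬ I ≤ p → ∃ s, s ∉ p ∧ s • y ∈ N0)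
    (l : Module.Dual R N) (hl : ∀ y ∈ N0, l y = 0) : l = 0 := by
  ext y
  rw [LinearMap.zero_apply]
  refine eq_zero_of_locally_torsion I R h1 (l y) ?_
  intro p hp hIp
  obtain ⟨s, hs, hsy⟩ := hN0 y p hp hIp
  refine ⟨s, hs, ?_⟩
  rw [← map_smul]
  exact hl _ hsy

/-- restriction of functionals to a submodule with `I`-torsion quotient is surjective when
`depth_I R ≥ 2`. -/
theorem dual_restrict_surjective (h2 : 2 ≤ idealDepth I R) (N0 : Submodule R N)
    (hN0 : ∀ y : N, ∀ p : Ideal R, p.IsPrime → ¬ I ≤ p → ∃ s, s ∉ p ∧ s • y ∈ N0) :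
    Surjective (N0.subtype.dualMap) := by
  have h1 : 1 ≤ idealDepth I R := le_trans (by norm_num) h2
  set ρ := N0.subtype.dualMap with hρ
  have hinj : Injective ρ := by
    rw [← LinearMap.ker_eq_bot, LinearMap.ker_eq_bot']
    intro l hl
    refine dual_eq_zero_of_torsion I h1 N0 hN0 l ?_
    intro y hy
    have := LinearMap.congr_fun hl ⟨y, hy⟩
    simpa [ρ] using this
  have hC : Subsingleton (Module.Dual R N0 ⧸ LinearMap.range ρ) := by
    apply subsingleton_of_torsion_of_one_le_idealDepth I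
    · intro x p hp hIp
      obtain ⟨ν, rfl⟩ := Submodule.Quotient.mk_surjective _ x
      haveI := hp
      obtain ⟨s, hs, hsN⟩ := exists_smul_mem_of_forall p N0 (fun y => hN0 y p hp hIp)
      refine ⟨s, hs, ?_⟩
      rw [← Submodule.Quotient.mk_smul, Submodule.Quotient.mk_eq_zero]
      let c : N →ₗ[R] N0 := (s • (LinearMap.id : N →ₗ[R] N)).codRestrict N0 (fun y => by
        rw [LinearMap.smul_apply, LinearMap.id_apply]; exact hsN y)
      refine ⟨ν ∘ₗ c, ?_⟩
      ext ⟨w, hw⟩
      change ν (c w) = (s • ν) ⟨w, hw⟩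
      rw [LinearMap.smul_apply, ← map_smul]
      congr 1
    · have h3 := min_le_idealDepth_X₃ I ρ (LinearMap.range ρ).mkQ hinj
        (Submodule.mkQ_surjective _) (LinearMap.exact_map_mkQ_range _)
      refine le_trans ?_ h3
      rw [le_min_iff]
      refine ⟨(idealDepth_hom N0 R I).1 h1, ?_⟩
      have hDD : 2 ≤ idealDepth I (Module.Dual R N) := (idealDepth_hom N R I).2 h2
      have : (2 : ℕ∞) - 1 ≤ idealDepth I (Module.Dual R N) - 1 := tsub_le_tsub_right hDD 1
      refine le_trans ?_ this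
      exact le_of_eq (by rfl)
  rw [← LinearMap.range_eq_top]
  exact (Submodule.Quotient.subsingleton_iff).mp hC

/-- **Duals of maps which are isomorphisms off `V(I)`.** -/
theorem dualMap_bijective_of_torsion (h2 : 2 ≤ idealDepth I R) (ψ : M →ₗ[R] N)
    (hker : ∀ x ∈ LinearMap.ker ψ, ∀ p : Ideal R, p.IsPrime → ¬ I ≤ p → ∃ s, s ∉ p ∧ s • x = 0)
    (hcoker : ∀ y : N, ∀ p : Ideal R, p.IsPrime → ¬ I ≤ p →
      ∃ s, s ∉ p ∧ s • y ∈ LinearMap.range ψ) :
    Bijective ψ.dualMap := by
  have h1 : 1 ≤ idealDepth I R := le_trans (by norm_num) h2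
  constructor
  · rw [← LinearMap.ker_eq_bot, LinearMap.ker_eq_bot']
    intro l hl
    refine dual_eq_zero_of_torsion I h1 (LinearMap.range ψ) hcoker l ?_
    rintro _ ⟨x, rfl⟩
    exact LinearMap.congr_fun hl x
  · intro μ
    -- `μ` kills the kernel of `ψ`
    have hμ : LinearMap.ker ψ ≤ LinearMap.ker μ := by
      intro x hx
      rw [LinearMap.mem_ker]
      refine eq_zero_of_locally_torsion I R h1 (μ x) ?_
      intro p hp hIp
      obtain ⟨s, hs, hsx⟩ := hker x hx p hp hIp
      refine ⟨s, hs, ?_⟩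
      rw [← map_smul, hsx, map_zero]
    let μ0 : LinearMap.range ψ →ₗ[R] R :=
      ((LinearMap.ker ψ).liftQ μ hμ) ∘ₗ (ψ.quotKerEquivRange).symm.toLinearMap
    have hμ0 : ∀ x : M, μ0 ⟨ψ x, ⟨x, rfl⟩⟩ = μ x := by
      intro x
      have : (ψ.quotKerEquivRange).symm ⟨ψ x, ⟨x, rfl⟩⟩ = Submodule.Quotient.mk x := by
        rw [LinearEquiv.symm_apply_eq]
        rfl
      change (LinearMap.ker ψ).liftQ μ hμ ((ψ.quotKerEquivRange).symm ⟨ψ x, ⟨x, rfl⟩⟩) = μ x
      rw [this]
      rfl
    obtain ⟨l, hl⟩ := dual_restrict_surjective I h2 (LinearMap.range ψ) hcoker μ0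
    refine ⟨l, ?_⟩
    ext x
    rw [LinearMap.dualMap_apply, ← hμ0 x, ← hl]
    rfl

end dualIso

end Groth.Agent.Lib.helper26.QG
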