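import Mathlib
import Groth.Agent.Lib.Helper26.ReflexiveLoc

/-!
# Approximate inverses of maps which are isomorphisms at a prime (helper26)
-/

set_option autoImplicit false
set_option linter.unusedSectionVars false
set_option linter.style.haveILetI false
universe u

open TensorProduct Function

namespace Groth.Agent.Lib.helper26.QG

section approx

variable {R : Type u} [CommRing R] (S : Submonoid R)
  {M N : Type u} [AddCommGroup M] [Module R M] [AddCommGroup N] [Module R N]
  {M' : Type u} [AddCommGroup M'] [Module R M'] (f : M →ₗ[R] M') [IsLocalizedModule S f]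
  {N' : Type u} [AddCommGroup N'] [Module R N'] (g : N →ₗ[R] N') [IsLocalizedModule S g]

/-- a map of finitely presented modules which becomes bijective after localization has an inverse
up to an element of the submonoid. -/
theorem exists_approx_inverse [Module.Finite R M] [Module.FinitePresentation R N]
    (l : M →ₗ[R] N) (hl : Bijective (IsLocalizedModule.map S f g l)) :
    ∃ (ρ : N →ₗ[R] M) (s : R), s ∈ S ∧ ρ ∘ₗ l = s • LinearMap.id ∧ l ∘ₗ ρ = s • LinearMap.id := by
  let e : M' ≃ₗ[R] N' := LinearEquiv.ofBijective _ hl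
  obtain ⟨l', s₀, H⟩ := Module.FinitePresentation.exists_lift_of_isLocalizedModule S f
    (e.symm.toLinearMap.comp g)
  have H₁ : g ∘ₗ l ∘ₗ l' = g ∘ₗ (s₀ • LinearMap.id) := by
    ext a; simpa [-EmbeddingLike.apply_eq_iff_eq, e] using congr(e ($H a))
  obtain ⟨s₁, hs₁⟩ := Module.Finite.exists_smul_of_comp_eq_of_isLocalizedModule S g _ _ H₁
  have H₂ : f ∘ₗ l' ∘ₗ l = f ∘ₗ (s₀ • LinearMap.id) := by
    rw [← LinearMap.comp_assoc, H, LinearMap.smul_comp, LinearMap.comp_assoc,
      ← IsLocalizedModule.map_comp S f g l, ← LinearMap.comp_assoc]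
    change s₀ • (e.symm.toLinearMap ∘ₗ e.toLinearMap) ∘ₗ _ = _
    simp [LinearMap.comp_smul]
  obtain ⟨s₂, hs₂⟩ := Module.Finite.exists_smul_of_comp_eq_of_isLocalizedModule S f _ _ H₂
  refine ⟨((s₁ : R) * (s₂ : R)) • l', (s₁ : R) * s₂ * s₀,
    S.mul_mem (S.mul_mem s₁.2 s₂.2) s₀.2, ?_, ?_⟩
  · have h2 : (s₂ : R) • (l' ∘ₗ l) = (s₂ : R) • ((s₀ : R) • LinearMap.id) := hs₂
    rw [LinearMap.smul_comp, mul_smul, h2, smul_smul, smul_smul]
  · have h1 : (s₁ : R) • (l ∘ₗ l') = (s₁ : R) • ((s₀ : R) • LinearMap.id) := hs₁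
    rw [LinearMap.comp_smul, mul_comm (s₁ : R) (s₂ : R), mul_smul, h1, smul_smul, smul_smul]

end approx

section evalLoc

variable {R : Type u} [CommRing R] [IsNoetherianRing R] (p : Ideal R) [p.IsPrime]
  (F : Type u) [AddCommGroup F] [Module R F] [Module.Finite R F]

open Groth.Agent.Lib.helper26.ReflexiveLoc IsLocalizedModule in
/-- the evaluation map of a finite module with a reflexive stalk is bijective at that stalk. -/
theorem bijective_map_eval
    [Module.IsReflexive (Localization.AtPrime p) (LocalizedModule p.primeCompl F)] :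
    Bijective (IsLocalizedModule.map p.primeCompl (LocalizedModule.mkLinearMap p.primeCompl F)
      (LocalizedModule.mkLinearMap p.primeCompl (Module.Dual R (Module.Dual R F)))
      (Module.Dual.eval R F)) := by
  constructor
  · rw [injective_iff_map_eq_zero]
    intro x' hx'
    obtain ⟨⟨x, s⟩, rfl⟩ := mk'_surjective p.primeCompl
      (LocalizedModule.mkLinearMap p.primeCompl F) x'
    rw [Function.uncurry_apply_pair] at hx' ⊢
    rw [map_mk', mk'_eq_zero'] at hx'
    obtain ⟨t, ht⟩ := hx'
    rw [Submonoid.smul_def, ← map_smul] at ht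
    obtain ⟨t', ht', ht'x⟩ := exists_smul_eq_zero_of_eval_eq_zero p.primeCompl
      (Localization.AtPrime p) (LocalizedModule.mkLinearMap p.primeCompl F) ((t : R) • x) ht
    rw [mk'_eq_zero']
    refine ⟨⟨t', ht'⟩ * t, ?_⟩
    rw [Submonoid.smul_def, Submonoid.coe_mul, mul_smul]
    exact ht'x
  · intro y'
    obtain ⟨⟨ξ, s⟩, rfl⟩ := mk'_surjective p.primeCompl
      (LocalizedModule.mkLinearMap p.primeCompl (Module.Dual R (Module.Dual R F))) y'
    rw [Function.uncurry_apply_pair]
    obtain ⟨t, ht, x, hx⟩ := exists_smul_mem_range_eval p.primeCompl (Localization.AtPrime p)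
      (LocalizedModule.mkLinearMap p.primeCompl F) ξ
    refine ⟨mk' (LocalizedModule.mkLinearMap p.primeCompl F) x (⟨t, ht⟩ * s), ?_⟩
    rw [map_mk', hx]
    exact mk'_cancel_left _ ξ ⟨t, ht⟩ s

end evalLoc

end Groth.Agent.Lib.helper26.QG
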