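import Mathlib
import Groth.Agent.Lib.Helper26.FlatCrit5

/-!
# Base change of a four-term exact sequence with flat cokernel stays left exact (helper26)
-/

set_option autoImplicit false
set_option linter.unusedSectionVars false
set_option linter.style.haveILetI false
universe u

open TensorProduct Function

namespace Groth.Agent.Lib.helper26.QG

open Groth.Agent.Lib.helper26.FlatCrit

section theta

variable (A B A' B' : Type u) [CommRing A] [CommRing B] [CommRing A'] [CommRing B']
  [Algebra A B] [Algebra A A'] [Algebra B B'] [Algebra A' B'] [Algebra A B']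
  [IsScalarTower A B B'] [IsScalarTower A A' B'] [Algebra.IsPushout A B A' B']
  (X : Type u) [AddCommGroup X] [Module B X] [Module A X] [IsScalarTower A B X]
  (Y : Type u) [AddCommGroup Y] [Module B Y] [Module A Y] [IsScalarTower A B Y]

/-- `X ⊗_A A' ≃ B' ⊗_B X`. -/
noncomputable def theta : X ⊗[A] A' ≃ₗ[A] B' ⊗[B] X :=
  haveI : Algebra.IsPushout A A' B B' := Algebra.IsPushout.symm inferInstance
  (TensorProduct.comm A X A') ≪≫ₗ
    ((Algebra.IsPushout.cancelBaseChange A A' B B' X).symm.restrictScalars A)

theorem theta_tmul (x : X) (a' : A') :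
    theta A B A' B' X (x ⊗ₜ[A] a') = algebraMap A' B' a' ⊗ₜ[B] x := by
  haveI : Algebra.IsPushout A A' B B' := Algebra.IsPushout.symm inferInstance
  change (Algebra.IsPushout.cancelBaseChange A A' B B' X).symm (a' ⊗ₜ[A] x) = _
  exact Algebra.IsPushout.cancelBaseChange_symm_tmul A A' B B' X a' x

variable {X Y}

theorem theta_natural (φ : X →ₗ[B] Y) (z : X ⊗[A] A') :
    theta A B A' B' Y ((φ.restrictScalars A).rTensor A' z) =
      φ.baseChange B' (theta A B A' B' X z) := by
  induction z with
  | zero => simp
  | add x y hx hy => rw [map_add, map_add, hx, hy, map_add, map_add]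
  | tmul x a' =>
    rw [LinearMap.rTensor_tmul, theta_tmul, theta_tmul, LinearMap.baseChange_tmul]
    rfl

end theta

section exact

variable (A B A' B' : Type u) [CommRing A] [CommRing B] [CommRing A'] [CommRing B']
  [Algebra A B] [Algebra A A'] [Algebra B B'] [Algebra A' B'] [Algebra A B']
  [IsScalarTower A B B'] [IsScalarTower A A' B']
  {F E0 E1 G : Type u} [AddCommGroup F] [Module B F] [Module A F] [IsScalarTower A B F]
  [AddCommGroup E0] [Module B E0] [Module A E0] [IsScalarTower A B E0]
  [AddCommGroup E1] [Module B E1] [Module A E1] [IsScalarTower A B E1]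
  [AddCommGroup G] [Module B G] [Module A G] [IsScalarTower A B G]
  (f : F →ₗ[B] E0) (u : E0 →ₗ[B] E1) (v : E1 →ₗ[B] G)

/-- the base change of a four-term exact sequence with `E¹` and the cokernel flat over `A` stays
left exact. -/
theorem baseChange_exact_of_flat_coker (hf : Injective f) (hfu : Exact f u) (huv : Exact u v)
    (hv : Surjective v) [Module.Flat A E1] [Module.Flat A G] [Algebra.IsPushout A B A' B'] :
    Injective (f.baseChange B') ∧ Exact (f.baseChange B') (u.baseChange B') := by
  obtain ⟨hinj, hex⟩ := rTensor_exact_of_flat_coker (f.restrictScalars A) (u.restrictScalars A)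
    (v.restrictScalars A) hf hfu huv hv A'
  constructor
  · intro x y hxy
    obtain ⟨x₀, rfl⟩ := (theta A B A' B' F).surjective x
    obtain ⟨y₀, rfl⟩ := (theta A B A' B' F).surjective y
    rw [← theta_natural, ← theta_natural] at hxy
    rw [hinj ((theta A B A' B' E0).injective hxy)]
  · intro y
    obtain ⟨y₀, rfl⟩ := (theta A B A' B' E0).surjective y
    rw [← theta_natural]
    constructor
    · intro h
      have h0 : (u.restrictScalars A).rTensor A' y₀ = 0 :=
        (theta A B A' B' E1).injective (by rw [h, map_zero])
      obtain ⟨x₀, rfl⟩ := (hex y₀).mp h0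
      exact ⟨theta A B A' B' F x₀, (theta_natural A B A' B' f x₀).symm⟩
    · rintro ⟨x, hx⟩
      obtain ⟨x₀, rfl⟩ := (theta A B A' B' F).surjective x
      rw [← theta_natural] at hx
      have h1 : (f.restrictScalars A).rTensor A' x₀ = y₀ := (theta A B A' B' E0).injective hx
      rw [← h1, (hex _).mpr ⟨x₀, rfl⟩, map_zero]

end exact

end Groth.Agent.Lib.helper26.QG
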