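/-
Helper library (helper26): finite presentation of flat finite type algebras after étale
localisation (Raynaud–Gruson), algebra form.
Part 1: over a local ring, an algebra which (as a module over itself) has a complete dévissage at a
point of flatness is finitely presented; the core statement for algebras.
-/
import Mathlib
import Groth.Agent.Lib.Helper26.RGFlat1

set_option autoImplicit false
set_option linter.style.haveILetI false
set_option linter.unusedSectionVars false

namespace Groth.Agent.Lib.helper26.RGAlg

open TensorProduct IsLocalRing FlatCA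

universe u

section Local

variable {R S : Type u} [CommRing R] [IsLocalRing R] [CommRing S] [Algebra R S]
  {q : Ideal S} [q.IsPrime]
  (D : CompleteDevissage R S S (maximalIdeal R))
  (DA : CompleteDevissageAt R S S (maximalIdeal R) q D)

include DA in
/-- over a local ring: an algebra with a complete dévissage (of itself as a module) at a point of
flatness is finitely presented -/
theorem finitePresentation_of_devissage (hflat : FlatAt R q S) :
    Algebra.FinitePresentation R S := by
  have hpos := D.pos
  have h0 := Groth.Agent.Lib.helper3.CDev.fp_proj_aux D DA hflat (D.n - 1) 0 (by omega)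
  have hone : ∀ s : S, s • D.isoN (1 : S) = D.isoN s := by
    intro s
    rw [← map_smul, smul_eq_mul, mul_one]
  have hinj : Function.Injective (algebraMap S (D.A 0)) := by
    rw [injective_iff_map_eq_zero]
    intro s hs
    have h1 : s • D.isoN (1 : S) = 0 := by
      rw [← algebraMap_smul (D.A 0) s (D.isoN 1), hs, zero_smul]
    rw [hone] at h1
    exact D.isoN.map_eq_zero_iff.mp h1
  have hbij : Function.Bijective (algebraMap S (D.A 0)) := ⟨hinj, D.surjSA⟩
  let l : D.A 0 →ₗ[D.A 0] D.M 0 := LinearMap.toSpanSingleton (D.A 0) (D.M 0) (D.isoN 1)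
  have hl : ∀ s : S, l (algebraMap S (D.A 0) s) = D.isoN s := by
    intro s
    show algebraMap S (D.A 0) s • D.isoN 1 = D.isoN s
    rw [algebraMap_smul, hone]
  have hlbij : Function.Bijective (l.restrictScalars (D.B 0)) := by
    constructor
    · intro a b hab
      obtain ⟨s, rfl⟩ := D.surjSA a
      obtain ⟨t, rfl⟩ := D.surjSA b
      have hab' : l (algebraMap S (D.A 0) s) = l (algebraMap S (D.A 0) t) := hab
      rw [hl, hl] at hab'
      rw [D.isoN.injective hab']
    · intro m
      obtain ⟨s, rfl⟩ := D.isoN.surjective m
      exact ⟨algebraMap S (D.A 0) s, hl s⟩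
  let e : D.A 0 ≃ₗ[D.B 0] D.M 0 := LinearEquiv.ofBijective (l.restrictScalars (D.B 0)) hlbij
  haveI := h0.1
  haveI : Module.FinitePresentation (D.B 0) (D.A 0) := Module.FinitePresentation.of_equiv e.symm
  haveI : Algebra.FinitePresentation (D.B 0) (D.A 0) := inferInstance
  haveI : Algebra.Smooth R (D.B 0) := D.smooth 0 hpos
  haveI : Algebra.FinitePresentation R (D.B 0) := inferInstance
  haveI : Algebra.FinitePresentation R (D.A 0) :=
    Algebra.FinitePresentation.trans R (D.B 0) (D.A 0)
  let eS : S ≃ₐ[R] D.A 0 := AlgEquiv.ofBijective (IsScalarTower.toAlgHom R S (D.A 0)) hbij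
  exact Algebra.FinitePresentation.equiv eS.symm

end Local

set_option maxHeartbeats 1600000 in
/-- the core statement for algebras, given a complete dévissage after étale localisation -/
theorem core_alg_of_devissage {R' S' : Type u} [CommRing R'] [CommRing S'] [Algebra R' S']
    [Algebra.FiniteType R' S']
    (p' : Ideal R') [p'.IsPrime] (q' : Ideal S') [q'.IsPrime] [q'.LiesOver p']
    (hfl' : FlatCA.FlatAt R' q' S') (hK' : FlatCA.HasCompleteDevissageAt R' S' S' p' q')
    (C : Type u) [CommRing C] [Algebra (Localization.AtPrime p') C] [Algebra S' C] [Algebra R' C]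
    [IsScalarTower R' (Localization.AtPrime p') C] [IsScalarTower R' S' C]
    [Algebra.IsPushout R' (Localization.AtPrime p') S' C] :
    Algebra.FinitePresentation (Localization.AtPrime p') C ∧
      Module.Free (Localization.AtPrime p') C := by
  have hκ := Groth.Agent.Lib.helper26.RGFlat.bijective_mapₐ_atPrime p'
  obtain ⟨x', hx'prime, hx'𝔪, hx'q'⟩ :=
    Groth.Agent.Lib.helper3.BijRes.exists_prime_over p' (maximalIdeal (Localization.AtPrime p')) hκ
      S' C q'
  haveI := hx'prime
  haveI := hx'𝔪
  haveI := hx'q'
  have hf : IsBaseChange C (Algebra.linearMap S' C) := IsBaseChange.linearMap S' C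
  have hKC : FlatCA.HasCompleteDevissageAt (Localization.AtPrime p') C C
      (maximalIdeal (Localization.AtPrime p')) x' :=
    Groth.Agent.Lib.helper26.DevTr.hasCompleteDevissageAt_baseChange R' S' S' p' q' hK'
      (Localization.AtPrime p') (maximalIdeal (Localization.AtPrime p')) hκ C C
      (Algebra.linearMap S' C) hf x'
  -- flatness
  haveI : Module.Flat R' (Localization.AtPrime p') := IsLocalization.flat _ p'.primeCompl
  haveI : Algebra.IsPushout R' S' (Localization.AtPrime p') C := Algebra.IsPushout.symm inferInstance
  haveI : Module.Flat S' C :=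
    Module.Flat.of_linearEquiv
      (Algebra.IsPushout.equiv R' S' (Localization.AtPrime p') C).symm.toLinearEquiv
  have hflC : FlatCA.FlatAt R' x' C :=
    (Groth.Agent.Lib.helper3.FlatAtLib.flatAt_iff_of_isBaseChange (A := R') q' x'
      (Algebra.linearMap S' C) hf).mp hfl'
  have hflA : FlatCA.FlatAt (Localization.AtPrime p') x' C := by
    unfold FlatCA.FlatAt at hflC ⊢
    haveI : IsScalarTower R' (Localization.AtPrime p') (LocalizedModule x'.primeCompl C) :=
      IsScalarTower.of_algebraMap_smul (fun r x => by
        induction x using LocalizedModule.induction_on with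
        | h m s =>
          rw [LocalizedModule.smul'_mk, LocalizedModule.smul'_mk, algebraMap_smul])
    exact (Module.flat_iff_of_isLocalization (Localization.AtPrime p') p'.primeCompl _).mpr hflC
  obtain ⟨D, ⟨DA⟩⟩ := hKC
  have h := Groth.Agent.Lib.helper3.CDev.main D DA hflA
  exact ⟨finitePresentation_of_devissage D DA hflA, h.2.1⟩

end Groth.Agent.Lib.helper26.RGAlg
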