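/-
Helper library (helper26): finite presentation of flat finite type algebras after étale
localisation (Raynaud–Gruson), algebra form.
Part 2: the open data for algebras; descent of flatness and finite presentation from an étale
cover of a basic open.
-/
import Mathlib
import Groth.Agent.Lib.Helper26.RGAlg1
import Groth.Agent.Lib.Helper26.RGFlat3
import Groth.Agent.Lib.Helper26.FibCov1
import Groth.Agent.Lib.Helper3.FlatAtLib2
import Groth.Agent.Lib.Helper3.FpLoc3
import Groth.Agent.Lib.Helper5.FppfSource3

set_option autoImplicit false
set_option linter.style.haveILetI false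
set_option linter.unusedSectionVars false

namespace Groth.Agent.Lib.helper26.RGAlg

open TensorProduct IsLocalRing FlatCA

universe u

set_option maxHeartbeats 1600000 in
/-- for a model `SA` of `S ⊗[R] A`, `A = R'_{p'}`: an étale `SA`-algebra `C` (the pushout of `A` and
`S'` over `R'`) with the property `hcore` gives, and a basic open neighbourhood of the point of
`SA` over `q` and `𝔪_A` inside the image of `Spec C` -/
theorem exists_open_data_alg {R S R' S' : Type u} [CommRing R] [CommRing S] [CommRing R']
    [CommRing S'] [Algebra R S] [Algebra R R'] [Algebra S S'] [Algebra R' S'] [Algebra R S']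
    [IsScalarTower R R' S'] [IsScalarTower R S S']
    (p : Ideal R) [p.IsPrime] (q : Ideal S) [q.IsPrime] [hqp : q.LiesOver p]
    (p' : Ideal R') [p'.IsPrime] (q' : Ideal S') [q'.IsPrime]
    (hEtR : FlatCA.IsEtaleNhd R R' p p') (hEtS : FlatCA.IsEtaleNhd S S' q q') [hq'p' : q'.LiesOver p']
    (hcore : ∀ (C : Type u) [CommRing C] [Algebra (Localization.AtPrime p') C] [Algebra S' C]
      [Algebra R' C] [IsScalarTower R' (Localization.AtPrime p') C]
      [IsScalarTower R' S' C] [Algebra.IsPushout R' (Localization.AtPrime p') S' C],
      Algebra.FinitePresentation (Localization.AtPrime p') C ∧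
        Module.Flat (Localization.AtPrime p') C)
    (SA : Type u) [CommRing SA] [Algebra R SA] [Algebra S SA] [Algebra (Localization.AtPrime p') SA]
    [IsScalarTower R S SA] [IsScalarTower R (Localization.AtPrime p') SA]
    [Algebra.IsPushout R S (Localization.AtPrime p') SA] :
    ∃ (C : Type u) (_ : CommRing C) (_ : Algebra SA C) (_ : Algebra (Localization.AtPrime p') C)
      (_ : IsScalarTower (Localization.AtPrime p') SA C),
      Algebra.Etale SA C ∧ Algebra.FinitePresentation (Localization.AtPrime p') C ∧
      Module.Flat (Localization.AtPrime p') C ∧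
      ∃ g : SA, (∀ (Q : Ideal SA) [Q.IsPrime], Q.LiesOver q →
          Q.LiesOver (maximalIdeal (Localization.AtPrime p')) → g ∉ Q) ∧
        ∀ (P : Ideal SA) [P.IsPrime], g ∉ P → ∃ (Q' : Ideal C) (_ : Q'.IsPrime), Q'.under SA = P := by
  obtain ⟨etR, hp'p, hbijR⟩ := hEtR
  obtain ⟨etS, hq'q, hbijS⟩ := hEtS
  haveI := etR
  haveI := etS
  haveI := hp'p
  haveI := hq'q
  obtain ⟨C, _, algSAC, algAC, twASAC, algSC, twSSAC, algS'C, algR'C, twR'AC, twR'S'C, twSS'C, hpoC,
    hEtC⟩ := Groth.Agent.Lib.helper26.RGFlat.exists_model (R := R) (S := S) (R' := R') (S' := S')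
      (Localization.AtPrime p') SA
  haveI := hpoC
  haveI := hEtC
  obtain ⟨hfp, hfl⟩ := hcore C
  -- the point
  have hκ := Groth.Agent.Lib.helper26.RGFlat.bijective_mapₐ_atPrime p'
  obtain ⟨x', hx'prime, hx'𝔪, hx'q'⟩ :=
    Groth.Agent.Lib.helper3.BijRes.exists_prime_over p' (maximalIdeal (Localization.AtPrime p')) hκ
      S' C q'
  haveI := hx'prime
  haveI := hx'𝔪
  haveI := hx'q'
  haveI hx'q : x'.LiesOver q := Ideal.LiesOver.trans x' q' q
  -- the open image
  haveI : Module.Flat SA C := inferInstance
  haveI : Algebra.FinitePresentation SA C := inferInstance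
  have hopen : IsOpenMap (PrimeSpectrum.comap (algebraMap SA C)) :=
    PrimeSpectrum.isOpenMap_comap_of_hasGoingDown_of_finitePresentation
  have hU : IsOpen (Set.range (PrimeSpectrum.comap (algebraMap SA C))) := hopen.isOpen_range
  haveI hQ₀prime : (x'.under SA).IsPrime := Ideal.IsPrime.under SA x'
  have hQ₀U : (⟨x'.under SA, hQ₀prime⟩ : PrimeSpectrum SA) ∈
      Set.range (PrimeSpectrum.comap (algebraMap SA C)) := ⟨⟨x', hx'prime⟩, rfl⟩
  obtain ⟨_, ⟨g, rfl⟩, hQ₀g, hgU⟩ :=
    PrimeSpectrum.isTopologicalBasis_basic_opens.exists_subset_of_mem_open hQ₀U hU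
  -- residue fields of `R → A`
  haveI h𝔪p : (maximalIdeal (Localization.AtPrime p')).LiesOver p :=
    Ideal.LiesOver.trans (maximalIdeal (Localization.AtPrime p')) p' p
  have hκRA : Function.Bijective (Ideal.ResidueField.mapₐ p (maximalIdeal (Localization.AtPrime p'))
      (Algebra.ofId R (Localization.AtPrime p')) h𝔪p.over) :=
    Groth.Agent.Lib.helper26.GeomIrr.bijective_mapₐ_comp p p' _ hbijR hκ
  haveI : Algebra.IsPushout R (Localization.AtPrime p') S SA := Algebra.IsPushout.symm inferInstance
  refine ⟨C, inferInstance, algSAC, algAC, twASAC, hEtC, hfp, hfl, g, ?_, ?_⟩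
  · intro Q hQ hQq hQ𝔪
    have h₂ : (x'.under SA).under (Localization.AtPrime p') =
        maximalIdeal (Localization.AtPrime p') := by
      rw [Ideal.under_under]
      exact hx'𝔪.over.symm
    have h₃ : Q.under S = (x'.under SA).under S := by
      rw [Ideal.under_under, ← hQq.over]
      exact hx'q.over
    have hQeq : Q = x'.under SA :=
      Groth.Agent.Lib.helper3.BijRes.eq_of_under_eq p (maximalIdeal (Localization.AtPrime p'))
        hκRA.2 S SA Q (x'.under SA) hQ𝔪.over.symm h₂ h₃
    rw [hQeq]
    exact hQ₀g
  · intro P hP hgP
    obtain ⟨Q', hQ'⟩ := hgU (show (⟨P, hP⟩ : PrimeSpectrum SA) ∈ _ from hgP)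
    exact ⟨Q'.asIdeal, Q'.2, congrArg PrimeSpectrum.asIdeal hQ'⟩

set_option maxHeartbeats 1600000 in
/-- descent of flatness and finite presentation (over the base `A`) from an étale algebra `C`
over `B` to a basic open `D(g)` of `Spec B` contained in the image of `Spec C` -/
theorem flat_fp_away_of_cover {A B C : Type u} [CommRing A] [CommRing B] [CommRing C]
    [Algebra A B] [Algebra B C] [Algebra A C] [IsScalarTower A B C]
    [Algebra.Etale B C] [Algebra.FinitePresentation A C] [Module.Flat A C] (g : B)
    (hg : ∀ (P : Ideal B) [P.IsPrime], g ∉ P → ∃ (Q : Ideal C) (_ : Q.IsPrime), Q.under B = P) :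
    Module.Flat A (Localization.Away g) ∧ Algebra.FinitePresentation A (Localization.Away g) := by
  haveI : Module.Flat B C := inferInstance
  haveI : Algebra.FinitePresentation B C := inferInstance
  constructor
  · have h1 : Module.Flat A (LocalizedModule (Submonoid.powers g) B) := by
      rw [Groth.Agent.Lib.helper3.FlatAtLib.flat_away_iff]
      intro P hP hgP
      obtain ⟨Q', hQ'prime, hQ'P⟩ := @hg P hP hgP
      haveI := hQ'prime
      haveI : Q'.LiesOver P := ⟨hQ'P.symm⟩
      rw [Groth.Agent.Lib.helper3.FlatAtLib.flatAt_iff_of_isBaseChange (A := A)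
        P Q' (Algebra.linearMap B C) (IsBaseChange.linearMap B C)]
      exact Groth.Agent.Lib.helper26.FibCov.flatAt_of_flat C Q'
    haveI : IsLocalizedModule (Submonoid.powers g) (Algebra.linearMap B (Localization.Away g)) :=
      (isLocalizedModule_iff_isLocalization).mpr inferInstance
    let e : LocalizedModule (Submonoid.powers g) B ≃ₗ[B] Localization.Away g :=
      IsLocalizedModule.iso (Submonoid.powers g) (Algebra.linearMap B (Localization.Away g))
    haveI := h1
    exact Module.Flat.of_linearEquiv (e.restrictScalars A).symm
  · have hu : ∀ t : Submonoid.powers g, IsUnit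
        (((algebraMap C (Localization (Submonoid.powers (algebraMap B C g)))).comp
          (algebraMap B C)) t) := by
      rintro ⟨t, n, rfl⟩
      change IsUnit (algebraMap C (Localization (Submonoid.powers (algebraMap B C g)))
        (algebraMap B C (g ^ n)))
      rw [map_pow]
      exact IsLocalization.map_units (Localization (Submonoid.powers (algebraMap B C g)))
        (⟨algebraMap B C g ^ n, n, rfl⟩ : Submonoid.powers (algebraMap B C g))
    have hff := Groth.Agent.Lib.helper3.FpLoc.bc_faithfullyFlat (A := B) (B := C)
      (Submonoid.powers g) (Submonoid.powers (algebraMap B C g)) hu (by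
        intro P hP hdisj
        have hgP : g ∉ P := fun h =>
          (Set.disjoint_left.mp hdisj) (Submonoid.mem_powers g) h
        obtain ⟨Q', hQ'prime, hQ'P⟩ := @hg P hP hgP
        refine ⟨Q', hQ'prime, ?_, ?_⟩
        · rw [Set.disjoint_left]
          rintro x ⟨n, rfl⟩ hx
          have h1 : algebraMap B C g ∈ Q' := hQ'prime.mem_of_pow_mem n hx
          apply hgP
          rw [← hQ'P]
          exact h1
        · exact hQ'P)
    letI := Groth.Agent.Lib.helper3.FpLoc.bcAlg (Submonoid.powers g)
      (Submonoid.powers (algebraMap B C g)) hu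
    haveI tw1 := Groth.Agent.Lib.helper3.FpLoc.bcAlg_tower (Submonoid.powers g)
      (Submonoid.powers (algebraMap B C g)) hu
    haveI := hff
    haveI tw2 : IsScalarTower A (Localization (Submonoid.powers g))
        (Localization (Submonoid.powers (algebraMap B C g))) :=
      IsScalarTower.of_algebraMap_eq fun a => by
        rw [IsScalarTower.algebraMap_apply A C (Localization (Submonoid.powers (algebraMap B C g))),
          IsScalarTower.algebraMap_apply A B C,
          ← IsScalarTower.algebraMap_apply B C (Localization (Submonoid.powers (algebraMap B C g))),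
          IsScalarTower.algebraMap_apply B (Localization (Submonoid.powers g))
            (Localization (Submonoid.powers (algebraMap B C g))),
          ← IsScalarTower.algebraMap_apply A B (Localization (Submonoid.powers g))]
    haveI : Algebra.FinitePresentation C (Localization (Submonoid.powers (algebraMap B C g))) :=
      IsLocalization.Away.finitePresentation (algebraMap B C g)
    haveI : Algebra.FinitePresentation A (Localization (Submonoid.powers (algebraMap B C g))) :=
      Algebra.FinitePresentation.trans A C _
    haveI : Algebra.FinitePresentation B (Localization (Submonoid.powers (algebraMap B C g))) :=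
      Algebra.FinitePresentation.trans B C _
    haveI : Algebra.FinitePresentation B (Localization (Submonoid.powers g)) :=
      IsLocalization.Away.finitePresentation g
    haveI : Algebra.FiniteType B (Localization (Submonoid.powers g)) := inferInstance
    haveI : Algebra.FinitePresentation (Localization (Submonoid.powers g))
        (Localization (Submonoid.powers (algebraMap B C g))) :=
      Algebra.FinitePresentation.of_restrict_scalars_finitePresentation B _ _
    exact Groth.Agent.Lib.helper5.FppfSource.finitePresentation_of_faithfullyFlat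
      (R := A) (A := Localization (Submonoid.powers g))
      (B := Localization (Submonoid.powers (algebraMap B C g)))

end Groth.Agent.Lib.helper26.RGAlg
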