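/-
Helper library (helper26): content ideals and the Raynaud–Gruson injectivity criterion.
Part 6: local content ideals. Over a henselian local ring, a finite module over a finite type
algebra which is flat at a point of the closed fibre has content ideals locally at that point.
-/
import Mathlib
import Groth.Agent.Lib.Helper26.RGContent3
import Groth.Agent.Lib.Helper26.RGContent4
import Groth.Agent.Lib.Helper26.RGContent5
import Groth.Agent.Lib.Helper26.RGFlat5

set_option autoImplicit false
set_option linter.style.haveILetI false
set_option linter.unusedSectionVars false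

namespace Groth.Agent.Lib.helper26.RGContent

open TensorProduct IsLocalRing Groth.Agent.Lib.helper26.RGInj
open scoped Pointwise

universe u

set_option maxHeartbeats 3200000 in
/-- **Local content ideals.** Let `A` be a henselian local ring, `B` a finite type `A`-algebra,
`N₁` a finite `B`-module and `q` a prime of `B` over the maximal ideal such that `N₁` is flat over
`A` at `q`. Then every element of `N₁` has a content ideal locally at `q`. -/
theorem local_content {A : Type u} [CommRing A] [HenselianLocalRing A]
    {B : Type u} [CommRing B] [Algebra A B] [Algebra.FiniteType A B]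
    (N₁ : Type u) [AddCommGroup N₁] [Module B N₁] [Module A N₁] [IsScalarTower A B N₁]
    [Module.Finite B N₁]
    (q : Ideal B) [q.IsPrime] [q.LiesOver (maximalIdeal A)] (hflat : FlatCA.FlatAt A q N₁)
    (n : N₁) :
    ∃ I : Ideal A, (∃ b : B, b ∉ q ∧ b • n ∈ I • (⊤ : Submodule A N₁)) ∧
      ∀ J : Ideal A, (∃ b : B, b ∉ q ∧ b • n ∈ J • (⊤ : Submodule A N₁)) → I ≤ J := by
  by_cases hsupp : ∃ x ∈ Module.support ((maximalIdeal A).Fiber B)
      (FlatCA.fiberMod (maximalIdeal A) B N₁), x.asIdeal = FlatCA.fiberIdeal (maximalIdeal A) q
  · obtain ⟨R', S', _, _, algAR', algBS', algR'S', algAS', twAR'S', twABS', p', q', hp', hq', hEtR,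
      hEtS, hq'p', hall⟩ := Groth.Agent.S1252.result N₁ (maximalIdeal A) q hsupp
    haveI : Algebra.Etale A R' := hEtR.1
    haveI : Algebra.Etale B S' := hEtS.1
    haveI hq'q : q'.LiesOver q := hEtS.2.1
    have hbij := bijective_algebraMap_atPrime p' hEtR
    obtain ⟨C, _, algR'C, algA₁C, algS'C, twR'A₁C, twR'S'C, hpush⟩ :=
      Groth.Agent.Lib.helper26.RGFlat.exists_pushout_model R' (Localization.AtPrime p') S'
    -- the algebra structures on `C`
    letI algBC : Algebra B C := ((algebraMap S' C).comp (algebraMap B S')).toAlgebra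
    haveI twBS'C : IsScalarTower B S' C := IsScalarTower.of_algebraMap_eq fun _ => rfl
    letI algAC : Algebra A C := ((algebraMap R' C).comp (algebraMap A R')).toAlgebra
    haveI twAR'C : IsScalarTower A R' C := IsScalarTower.of_algebraMap_eq fun _ => rfl
    haveI twABC : IsScalarTower A B C := IsScalarTower.of_algebraMap_eq fun a => by
      show algebraMap R' C (algebraMap A R' a) = algebraMap S' C (algebraMap B S' (algebraMap A B a))
      rw [← IsScalarTower.algebraMap_apply A B S', IsScalarTower.algebraMap_apply A R' S',
        ← IsScalarTower.algebraMap_apply R' S' C]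
    haveI twAA₁C : IsScalarTower A (Localization.AtPrime p') C :=
      IsScalarTower.of_algebraMap_eq fun a => by
        show algebraMap R' C (algebraMap A R' a) = _
        rw [IsScalarTower.algebraMap_apply A R' (Localization.AtPrime p'),
          ← IsScalarTower.algebraMap_apply R' (Localization.AtPrime p') C]
    -- the base changes
    have hK' := hall (S' ⊗[B] N₁) (TensorProduct.mk B S' N₁ 1) (TensorProduct.isBaseChange B N₁ S')
    haveI : Algebra.FiniteType R' S' := by
      haveI : Algebra.FiniteType B S' := inferInstance
      haveI : Algebra.FiniteType A S' := Algebra.FiniteType.trans (S := B) inferInstance inferInstance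
      exact Algebra.FiniteType.of_restrictScalars_finiteType A R' S'
    have hfl' : FlatCA.FlatAt R' q' (S' ⊗[B] N₁) :=
      (Groth.Agent.Lib.helper3.ElemDev.chain₁ (R := A) (R' := R') (TensorProduct.mk B S' N₁ 1)
        (TensorProduct.isBaseChange B N₁ S') (LinearEquiv.refl S' (S' ⊗[B] N₁)) q q').mp hflat
    -- the module `NC`
    let ι : N₁ →ₗ[B] C ⊗[B] N₁ := TensorProduct.mk B C N₁ 1
    have hι : IsBaseChange C ι := TensorProduct.isBaseChange B N₁ C
    haveI twS'CNC : IsScalarTower S' C (C ⊗[B] N₁) := inferInstance
    haveI twBS'NC : IsScalarTower B S' (C ⊗[B] N₁) := inferInstance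
    haveI twA₁CNC : IsScalarTower (Localization.AtPrime p') C (C ⊗[B] N₁) := inferInstance
    let h : S' ⊗[B] N₁ →ₗ[S'] C ⊗[B] N₁ := (TensorProduct.isBaseChange B N₁ S').lift ι
    have hcomp : (h.restrictScalars B).comp (TensorProduct.mk B S' N₁ 1) = ι := by
      ext m
      exact (TensorProduct.isBaseChange B N₁ S').lift_eq ι m
    have hh : IsBaseChange C h := by
      apply IsBaseChange.of_comp (TensorProduct.isBaseChange B N₁ S')
      rw [hcomp]
      exact hι
    obtain ⟨x', hx'prime, hx'q', hcont, htf⟩ :=
      devissage_data (S' ⊗[B] N₁) p' q' hfl' hK' C (C ⊗[B] N₁) h hh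
    haveI := hx'prime
    haveI := hx'q'
    haveI hx'q : x'.LiesOver q := Ideal.LiesOver.trans x' q' q
    have hcomap : ∀ b : B, b ∉ q → algebraMap B C b ∉ x' := by
      intro b hb hmem
      apply hb
      rw [Ideal.LiesOver.over (p := q) (P := x')]
      exact hmem
    -- flatness of `B → C`
    haveI : Module.Flat R' (Localization.AtPrime p') := IsLocalization.flat _ p'.primeCompl
    haveI : Algebra.IsPushout R' S' (Localization.AtPrime p') C := Algebra.IsPushout.symm hpush
    haveI : Module.Flat S' C :=
      Module.Flat.of_linearEquiv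
        (Algebra.IsPushout.equiv R' S' (Localization.AtPrime p') C).symm.toLinearEquiv
    haveI : Module.Flat B S' := inferInstance
    haveI : Module.Flat B C := Module.Flat.trans B S' C
    -- ideals
    have hmapC : ∀ J : Ideal A, (J.map (algebraMap A (Localization.AtPrime p'))).map
        (algebraMap (Localization.AtPrime p') C) = (J.map (algebraMap A B)).map (algebraMap B C) := by
      intro J
      rw [Ideal.map_map, Ideal.map_map, ← IsScalarTower.algebraMap_eq,
        ← IsScalarTower.algebraMap_eq]
    obtain ⟨I₁, hI1, hI2⟩ := hcont (ι n)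
    refine ⟨I₁.comap (algebraMap A (Localization.AtPrime p')), ?_, ?_⟩
    · have hmap : (I₁.comap (algebraMap A (Localization.AtPrime p'))).map
          (algebraMap A (Localization.AtPrime p')) = I₁ :=
        Ideal.map_comap_of_surjective _ hbij.2 I₁
      have h2 : (1 : C) • ι n ∈ (I₁.comap (algebraMap A (Localization.AtPrime p'))).map
          (algebraMap A B) • (⊤ : Submodule B (C ⊗[B] N₁)) := by
        rw [one_smul, mem_smul_top_iff_map (S := C), ← hmapC, hmap]
        exact hI1
      obtain ⟨b, hbq, hb⟩ := exists_notMem_smul_mem_of_tmul q x'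
        ((I₁.comap (algebraMap A (Localization.AtPrime p'))).map (algebraMap A B)) n 1
        (fun h1 => hx'prime.ne_top ((Ideal.eq_top_iff_one _).mpr h1)) h2
      exact ⟨b, hbq, (mem_smul_top_iff_map (S := B) _ (b • n)).mpr hb⟩
    · rintro J ⟨b, hbq, hb⟩
      have h1 : b • n ∈ J.map (algebraMap A B) • (⊤ : Submodule B N₁) :=
        (mem_smul_top_iff_map (S := B) J (b • n)).mp hb
      have h2 : ι (b • n) ∈ J.map (algebraMap A B) • (⊤ : Submodule B (C ⊗[B] N₁)) :=
        map_mem_smul_top _ ι h1
      have h3 : algebraMap B C b • ι n ∈ (J.map (algebraMap A (Localization.AtPrime p'))).map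
          (algebraMap (Localization.AtPrime p') C) • (⊤ : Submodule C (C ⊗[B] N₁)) := by
        rw [hmapC, ← mem_smul_top_iff_map (S := C), algebraMap_smul, ← map_smul]
        exact h2
      have h4 := htf (algebraMap B C b) (hcomap b hbq) _ (ι n) h3
      have h5 : I₁ ≤ J.map (algebraMap A (Localization.AtPrime p')) := hI2 _ h4
      calc I₁.comap (algebraMap A (Localization.AtPrime p'))
          ≤ (J.map (algebraMap A (Localization.AtPrime p'))).comap
              (algebraMap A (Localization.AtPrime p')) := Ideal.comap_mono h5
        _ = J := Ideal.comap_map_of_bijective _ hbij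
  · obtain ⟨g, hgann, hgq⟩ :=
      Groth.Agent.Lib.helper26.DevMain.exists_annihilator_notMem (maximalIdeal A) N₁ q hsupp
    refine ⟨⊥, ⟨g, hgq, ?_⟩, fun J _ => bot_le⟩
    rw [Module.mem_annihilator.mp hgann n]
    exact Submodule.zero_mem _

end Groth.Agent.Lib.helper26.RGContent
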