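/-
Helper library (helper26): content ideals and the Raynaud–Gruson injectivity criterion.
Part 7: over a henselian local ring, elements supported at the closed point of a localization of a
finite module over a finite type algebra, flat over the base, have content ideals; the injectivity
criterion for such elements.
-/
import Mathlib
import Groth.Agent.Lib.Helper26.RGContent6

set_option autoImplicit false
set_option linter.style.haveILetI false
set_option linter.unusedSectionVars false

namespace Groth.Agent.Lib.helper26.RGContent

open TensorProduct IsLocalRing Groth.Agent.Lib.helper26.RGInj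
open scoped Pointwise

universe u

section Key

variable {A : Type u} [CommRing A] [HenselianLocalRing A]
  {B : Type u} [CommRing B] [Algebra A B] [Algebra.FiniteType A B] (T : Submonoid B)
  {N₁ N : Type u} [AddCommGroup N₁] [Module B N₁] [Module A N₁] [IsScalarTower A B N₁]
  [Module.Finite B N₁]
  [AddCommGroup N] [Module B N] [Module A N] [IsScalarTower A B N] [Module.Flat A N]
  (f : N₁ →ₗ[B] N) [IsLocalizedModule T f]

include T f in
set_option maxHeartbeats 1600000 in
/-- **Content ideals for elements supported at the closed point.** -/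
theorem hasContent_of_supported (x : N)
    (hx : ∀ a ∈ maximalIdeal A, ∃ k : ℕ, a ^ k • x = 0) : HasContent A x := by
  have hT : ∀ t ∈ T, Function.Bijective (fun y : N => t • y) := by
    intro t ht
    have := IsLocalizedModule.map_units f ⟨t, ht⟩
    rw [Module.End.isUnit_iff] at this
    exact this
  refine hasContent_of_local T hT x hx ?_
  intro q _ hq hdisj
  haveI hqm : q.LiesOver (maximalIdeal A) := by
    refine ⟨le_antisymm (Ideal.map_le_iff_le_comap.mp hq) ?_⟩
    haveI : (q.under A).IsPrime := Ideal.IsPrime.under A q
    exact IsLocalRing.le_maximalIdeal (Ideal.IsPrime.ne_top inferInstance)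
  have hflat : FlatCA.FlatAt A q N₁ := flatAt_of_flat_localized T f q hdisj
  have hTq : ∀ t : T, (t : B) ∉ q := fun t ht => Set.disjoint_left.mp hdisj ht t.2
  obtain ⟨⟨n₁, t⟩, htx⟩ := IsLocalizedModule.surj T f x
  have htx' : (t : B) • x = f n₁ := htx
  obtain ⟨I, ⟨b, hbq, hb⟩, hmin⟩ := local_content N₁ q hflat n₁
  refine ⟨I, ⟨b * t, ?_, ?_⟩, ?_⟩
  · intro hmem
    rcases Ideal.IsPrime.mem_or_mem inferInstance hmem with h | h
    · exact hbq h
    · exact hTq t h
  · rw [mul_smul, htx', ← map_smul]
    exact map_mem_smul_top I (f.restrictScalars A) hb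
  · rintro J ⟨b', hb'q, hb'⟩
    have h1 : f (b' • n₁) ∈ J • (⊤ : Submodule A N) := by
      rw [map_smul, ← htx', smul_comm]
      exact smul_mem_smul_top J (t : B) hb'
    obtain ⟨t', ht'⟩ := exists_smul_mem_of_map_mem T f J (b' • n₁) h1
    apply hmin J
    refine ⟨t' * b', ?_, ?_⟩
    · intro hmem
      rcases Ideal.IsPrime.mem_or_mem inferInstance hmem with h | h
      · exact hTq t' h
      · exact hb'q h
    · rw [mul_smul]
      exact ht'

include T f in
/-- **The injectivity criterion for elements supported at the closed point.** -/
theorem eq_zero_of_supported {M : Type u} [AddCommGroup M] [Module A M] [Module.Flat A M]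
    (u : N →ₗ[A] M)
    (hu : ∀ n : N, u n ∈ maximalIdeal A • (⊤ : Submodule A M) →
      n ∈ maximalIdeal A • (⊤ : Submodule A N))
    (x : N) (hx : ∀ a ∈ maximalIdeal A, ∃ k : ℕ, a ^ k • x = 0) (hux : u x = 0) : x = 0 := by
  obtain ⟨I, hI, hmin⟩ := hasContent_of_supported T f x hx
  exact eq_zero_of_content u hu x hux I hI hmin

end Key

end Groth.Agent.Lib.helper26.RGContent
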