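/-
Helper library (helper26): content ideals and the Raynaud–Gruson injectivity criterion.
Part 8: module-theoretic reductions: universal injectivity from injectivity modulo all ideals;
injectivity of the fibres over arbitrary fields; the closed fibre after base change to a local
algebra.
-/
import Mathlib
import Groth.Prelude.Def_FlatCA
import Groth.Agent.Lib.Helper13.PureSp2
import Groth.Agent.Lib.Helper3.FibBasis1

set_option autoImplicit false
set_option linter.style.haveILetI false
set_option linter.unusedSectionVars false

namespace Groth.Agent.Lib.helper26.RGContent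

open TensorProduct IsLocalRing
open scoped Pointwise

universe u

section Reductions

variable {A : Type u} [CommRing A] {N M : Type u} [AddCommGroup N] [Module A N]
  [AddCommGroup M] [Module A M] (u : N →ₗ[A] M)

/-- a map into a flat module which is injective modulo every ideal is universally injective. -/
theorem univInj_of_forall_quotient [Module.Flat A M]
    (h : ∀ 𝔦 : Ideal A, Function.Injective (u.lTensor (A ⧸ 𝔦))) : FlatCA.UnivInj A u := by
  have hinj : Function.Injective u := by
    rw [injective_iff_map_eq_zero]
    intro x hx
    have h1 : (u.lTensor (A ⧸ (⊥ : Ideal A))) ((1 : A ⧸ (⊥ : Ideal A)) ⊗ₜ[A] x) = 0 := by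
      rw [LinearMap.lTensor_tmul, hx, tmul_zero]
    have h2 := h ⊥ (h1.trans (map_zero _).symm)
    rw [Groth.Agent.Lib.helper13.PureSp.one_tmul_eq_zero_iff, Submodule.bot_smul] at h2
    exact (Submodule.mem_bot A).mp h2
  haveI : Module.Flat A (M ⧸ LinearMap.range u) :=
    Groth.Agent.Lib.helper3.FibBasis.flat_of_exact_of_univInj u (LinearMap.range u).mkQ
      (LinearMap.exact_map_mkQ_range u) (Submodule.mkQ_surjective _)
      (fun I => (LinearMap.lTensor_inj_iff_rTensor_inj _ u).mp (h I))
  intro Q _ _
  exact LinearMap.lTensor_injective_of_exact_of_flat (LinearMap.range u).mkQ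
    (Submodule.mkQ_surjective _) u hinj (LinearMap.exact_map_mkQ_range u) Q

/-- naturality of `cancelBaseChange`. -/
theorem cancelBaseChange_lTensor (D K : Type u) [CommRing D] [CommRing K] [Algebra A D]
    [Algebra D K] [Algebra A K] [IsScalarTower A D K] (y : K ⊗[D] (D ⊗[A] N)) :
    AlgebraTensorModule.cancelBaseChange A D K K M (((u.baseChange D).lTensor K) y) =
      (u.lTensor K) (AlgebraTensorModule.cancelBaseChange A D K K N y) := by
  induction y using TensorProduct.induction_on with
  | zero => simp
  | tmul k w =>
    induction w using TensorProduct.induction_on with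
    | zero => simp
    | tmul d n => simp
    | add a b ha hb =>
      rw [tmul_add, map_add, map_add, ha, hb, map_add, map_add]
  | add a b ha hb => rw [map_add, map_add, ha, hb, map_add, map_add]

/-- injectivity of the fibres at all residue fields implies injectivity after tensoring with
any field. -/
theorem lTensor_injective_field
    (h : ∀ (p : Ideal A) [p.IsPrime], Function.Injective (u.lTensor p.ResidueField))
    (K : Type u) [Field K] [Algebra A K] : Function.Injective (u.lTensor K) := by
  let p : Ideal A := RingHom.ker (algebraMap A K)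
  haveI : p.IsPrime := RingHom.ker_isPrime _
  let φ : p.ResidueField →+* K := Ideal.ResidueField.lift p (algebraMap A K) le_rfl (by
    intro a ha
    show IsUnit (algebraMap A K a)
    rw [isUnit_iff_ne_zero]
    exact fun h0 => ha h0)
  letI : Algebra p.ResidueField K := φ.toAlgebra
  haveI : IsScalarTower A p.ResidueField K := IsScalarTower.of_algebraMap_eq fun a =>
    (Ideal.ResidueField.lift_algebraMap p (algebraMap A K) le_rfl _ a).symm
  have h1 : Function.Injective ((u.baseChange p.ResidueField).lTensor K) :=
    Module.Flat.lTensor_preserves_injective_linearMap _ (h p)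
  rw [injective_iff_map_eq_zero]
  intro y hy
  have h2 := cancelBaseChange_lTensor u p.ResidueField K
    ((AlgebraTensorModule.cancelBaseChange A p.ResidueField K K N).symm y)
  rw [LinearEquiv.apply_symm_apply, hy] at h2
  have h3 : ((u.baseChange p.ResidueField).lTensor K)
      ((AlgebraTensorModule.cancelBaseChange A p.ResidueField K K N).symm y) = 0 :=
    (AlgebraTensorModule.cancelBaseChange A p.ResidueField K K M).injective
      (h2.trans (map_zero _).symm)
  have h4 := h1 (h3.trans (map_zero _).symm)
  exact (LinearEquiv.map_eq_zero_iff _).mp h4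

/-- the closed fibre after base change to a local algebra. -/
theorem mem_smul_top_of_baseChange_mem
    (h : ∀ (K : Type u) [Field K] [Algebra A K], Function.Injective (u.lTensor K))
    (A' : Type u) [CommRing A'] [IsLocalRing A'] [Algebra A A'] (w : A' ⊗[A] N)
    (hw : (u.baseChange A') w ∈ maximalIdeal A' • (⊤ : Submodule A' (A' ⊗[A] M))) :
    w ∈ maximalIdeal A' • (⊤ : Submodule A' (A' ⊗[A] N)) := by
  letI : Field (A' ⧸ maximalIdeal A') := Ideal.Quotient.field (maximalIdeal A')
  rw [← Groth.Agent.Lib.helper13.PureSp.one_tmul_eq_zero_iff] at hw ⊢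
  have h1 : ((u.baseChange A').lTensor (A' ⧸ maximalIdeal A'))
      ((1 : A' ⧸ maximalIdeal A') ⊗ₜ[A'] w) = 0 := by
    rw [LinearMap.lTensor_tmul]
    exact hw
  have h2 := cancelBaseChange_lTensor u A' (A' ⧸ maximalIdeal A')
    ((1 : A' ⧸ maximalIdeal A') ⊗ₜ[A'] w)
  rw [h1, map_zero] at h2
  have h3 := h (A' ⧸ maximalIdeal A') (h2.symm.trans (map_zero _).symm)
  exact (LinearEquiv.map_eq_zero_iff _).mp h3

end Reductions

end Groth.Agent.Lib.helper26.RGContent
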