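/-
Helper library (helper26): content ideals and the Raynaud–Gruson injectivity criterion.
Part 9: the injectivity criterion for supported elements after base change to a henselian local
algebra.
-/
import Mathlib
import Groth.Agent.Lib.Helper26.RGContent7
import Groth.Agent.Lib.Helper26.RGContent8
import Groth.Agent.Lib.Helper26.RGFlat5

set_option autoImplicit false
set_option linter.style.haveILetI false
set_option linter.unusedSectionVars false

namespace Groth.Agent.Lib.helper26.RGContent

open TensorProduct IsLocalRing Groth.Agent.Lib.helper26.RGInj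
open scoped Pointwise

universe u

section LocBC

variable {A : Type*} [CommRing A] (S : Submonoid A) (P : Type*) [AddCommGroup P] [Module A P]
  {M M' : Type*} [AddCommGroup M] [Module A M] [AddCommGroup M'] [Module A M']
  (g : M →ₗ[A] M') [IsLocalizedModule S g]

/-- tensoring on the left preserves localisation maps -/
theorem isLocalizedModule_lTensor : IsLocalizedModule S (LinearMap.lTensor P g) := by
  have h : LinearMap.lTensor P g = (TensorProduct.comm A M' P).toLinearMap ∘ₗ
      (AlgebraTensorModule.rTensor A P g) ∘ₗ (TensorProduct.comm A P M).toLinearMap := by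
    apply TensorProduct.ext'
    intro p m
    simp
  rw [h]
  infer_instance

variable (B : Type*) [CommRing B] [Algebra A B]

/-- base change preserves localisation maps -/
theorem isLocalizedModule_baseChange :
    IsLocalizedModule (Algebra.algebraMapSubmonoid B S) (g.baseChange B) := by
  haveI : IsLocalizedModule S ((g.baseChange B).restrictScalars A) := by
    have : (g.baseChange B).restrictScalars A = LinearMap.lTensor B g := by
      apply TensorProduct.ext'
      intro b m
      simp
    rw [this]
    exact isLocalizedModule_lTensor S B g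
  exact IsLocalizedModule.of_restrictScalars S (g.baseChange B)

end LocBC

section KeyBC

variable {A : Type u} [CommRing A]
  {B : Type u} [CommRing B] [Algebra A B] [Algebra.FiniteType A B] (T : Submonoid B)
  {N₁ N : Type u} [AddCommGroup N₁] [Module B N₁] [Module A N₁] [IsScalarTower A B N₁]
  [Module.Finite B N₁]
  [AddCommGroup N] [Module B N] [Module A N] [IsScalarTower A B N] [Module.Flat A N]
  (f : N₁ →ₗ[B] N) [IsLocalizedModule T f]
  {M : Type u} [AddCommGroup M] [Module A M] [Module.Flat A M] (u : N →ₗ[A] M)

include T f in
set_option maxHeartbeats 1600000 in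
/-- **The injectivity criterion for supported elements after a henselian local base change.** -/
theorem eq_zero_of_supported_baseChange
    (h : ∀ (K : Type u) [Field K] [Algebra A K], Function.Injective (u.lTensor K))
    (A' : Type u) [CommRing A'] [HenselianLocalRing A'] [Algebra A A']
    (z : A' ⊗[A] N) (hz : ∀ a ∈ maximalIdeal A', ∃ k : ℕ, a ^ k • z = 0)
    (huz : (u.baseChange A') z = 0) : z = 0 := by
  obtain ⟨B', _, _, _, _, _, _, hpush⟩ := Groth.Agent.Lib.helper26.RGFlat.exists_pushout_model A A' B
  haveI : Algebra.FiniteType A' B' :=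
    Algebra.FiniteType.equiv (inferInstance : Algebra.FiniteType A' (A' ⊗[A] B))
      (Algebra.IsPushout.equiv A A' B B')
  let T' : Submonoid B' := Algebra.algebraMapSubmonoid B' T
  let f' : B' ⊗[B] N₁ →ₗ[B'] B' ⊗[B] N := f.baseChange B'
  haveI : IsLocalizedModule T' f' := isLocalizedModule_baseChange T f B'
  let e : B' ⊗[B] N ≃ₗ[A'] A' ⊗[A] N := Algebra.IsPushout.cancelBaseChange A A' B B' N
  haveI : Module.Flat A' (B' ⊗[B] N) := Module.Flat.of_linearEquiv e
  let u' : B' ⊗[B] N →ₗ[A'] A' ⊗[A] M := (u.baseChange A') ∘ₗ e.toLinearMap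
  have hu' : ∀ n : B' ⊗[B] N, u' n ∈ maximalIdeal A' • (⊤ : Submodule A' (A' ⊗[A] M)) →
      n ∈ maximalIdeal A' • (⊤ : Submodule A' (B' ⊗[B] N)) := by
    intro n hn
    have h1 := mem_smul_top_of_baseChange_mem u h A' (e n) hn
    have h2 := map_mem_smul_top (maximalIdeal A') e.symm.toLinearMap h1
    simpa using h2
  have hx : ∀ a ∈ maximalIdeal A', ∃ k : ℕ, a ^ k • (e.symm z) = 0 := by
    intro a ha
    obtain ⟨k, hk⟩ := hz a ha
    exact ⟨k, by rw [← map_smul, hk, map_zero]⟩
  have hux : u' (e.symm z) = 0 := by
    show (u.baseChange A') (e (e.symm z)) = 0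
    rw [LinearEquiv.apply_symm_apply, huz]
  have := eq_zero_of_supported T' f' u' hu' (e.symm z) hx hux
  exact (LinearEquiv.map_eq_zero_iff _).mp this

end KeyBC

end Groth.Agent.Lib.helper26.RGContent
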