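/-
Helper library (helper26): content ideals and the Raynaud–Gruson injectivity criterion.
Part 10: the injectivity criterion (Raynaud–Gruson I 4.1.1): a map from a flat localization of a
finite module over a finite type algebra to a flat module which is injective on all fibres is
universally injective.
-/
import Mathlib
import Groth.Agent.Lib.Helper26.RGContent9
import Groth.Agent.Lib.Helper24.Henselization
import Groth.Agent.Lib.Helper24.HenselizationFlat
import Groth.Agent.Lib.Helper24.HensRegular

set_option autoImplicit false
set_option linter.style.haveILetI false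
set_option linter.unusedSectionVars false

namespace Groth.Agent.Lib.helper26.RGContent

open TensorProduct IsLocalRing Groth.Agent.Lib.helper26.RGInj
open scoped Pointwise

universe u

section Naturality

variable {A : Type u} [CommRing A] {N M : Type u} [AddCommGroup N] [Module A N]
  [AddCommGroup M] [Module A M] (u : N →ₗ[A] M)

/-- naturality of base change in the ring. -/
theorem baseChange_rTensor (D D' : Type u) [CommRing D] [CommRing D'] [Algebra A D]
    [Algebra A D'] [Algebra D D'] [IsScalarTower A D D'] (x : D ⊗[A] N) :
    (u.baseChange D') (AlgebraTensorModule.rTensor A N (Algebra.linearMap D D') x) =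
      AlgebraTensorModule.rTensor A M (Algebra.linearMap D D') ((u.baseChange D) x) := by
  induction x using TensorProduct.induction_on with
  | zero => simp
  | tmul d n => simp
  | add a b ha hb => rw [map_add, map_add, ha, hb, map_add, map_add]

end Naturality

section LocStep

variable {A : Type u} [CommRing A] {D : Type u} [CommRing D] [Algebra A D]
  {N : Type u} [AddCommGroup N] [Module A N]

/-- an element whose annihilator lies in a prime survives in the localization at the prime. -/
theorem rTensor_atPrime_ne_zero (p : Ideal D) [p.IsPrime] (z : D ⊗[A] N)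
    (hp : ∀ d : D, d • z = 0 → d ∈ p) :
    AlgebraTensorModule.rTensor A N (Algebra.linearMap D (Localization.AtPrime p)) z ≠ 0 := by
  intro h0
  rw [IsLocalizedModule.eq_zero_iff p.primeCompl] at h0
  obtain ⟨c, hc⟩ := h0
  exact c.2 (hp c hc)

/-- at a minimal prime of the annihilator, the image in the localization is supported at the
closed point. -/
theorem exists_pow_smul_rTensor_eq_zero (p : Ideal D) [p.IsPrime] (z : D ⊗[A] N)
    (hp : p ∈ Ideal.minimalPrimes (LinearMap.ker (LinearMap.toSpanSingleton D (D ⊗[A] N) z)))
    (r : Localization.AtPrime p) (hr : r ∈ maximalIdeal (Localization.AtPrime p)) :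
    ∃ k : ℕ, r ^ k •
      AlgebraTensorModule.rTensor A N (Algebra.linearMap D (Localization.AtPrime p)) z = 0 := by
  set I : Ideal D := LinearMap.ker (LinearMap.toSpanSingleton D (D ⊗[A] N) z) with hI
  set zR := AlgebraTensorModule.rTensor A N (Algebra.linearMap D (Localization.AtPrime p)) z
    with hzR
  let K : Ideal (Localization.AtPrime p) :=
    LinearMap.ker (LinearMap.toSpanSingleton (Localization.AtPrime p)
      (Localization.AtPrime p ⊗[A] N) zR)
  have hmemK : ∀ b : Localization.AtPrime p, b ∈ K ↔ b • zR = 0 := fun b => by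
    rw [LinearMap.mem_ker, LinearMap.toSpanSingleton_apply]
  have hIK : I.map (algebraMap D (Localization.AtPrime p)) ≤ K := by
    rw [Ideal.map_le_iff_le_comap]
    intro a ha
    rw [Ideal.mem_comap, hmemK]
    have ha' : a • z = 0 := by
      rw [hI, LinearMap.mem_ker, LinearMap.toSpanSingleton_apply] at ha
      exact ha
    rw [algebraMap_smul, hzR, ← map_smul, ha', map_zero]
  obtain ⟨⟨hp₁, hp₂⟩, hp₃⟩ := hp
  have hrad : p.map (algebraMap D (Localization.AtPrime p)) ≤
      (I.map (algebraMap D (Localization.AtPrime p))).radical := by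
    rw [Ideal.radical_eq_sInf, le_sInf_iff]
    rintro q ⟨hq', hq⟩
    obtain ⟨h₁, h₂⟩ := ((IsLocalization.AtPrime.orderIsoOfPrime _ p) ⟨q, hq⟩).2
    rw [Ideal.map_le_iff_le_comap] at hq' ⊢
    exact hp₃ ⟨h₁, hq'⟩ h₂
  rw [← IsLocalization.AtPrime.map_eq_maximalIdeal p] at hr
  obtain ⟨k, hk⟩ := hrad hr
  exact ⟨k, (hmemK _).mp (hIK hk)⟩

end LocStep

section FFStep

variable {A : Type u} [CommRing A] {N : Type u} [AddCommGroup N] [Module A N]

/-- injectivity of the base change along a faithfully flat map. -/
theorem rTensor_injective_of_faithfullyFlat (R A' : Type u) [CommRing R] [CommRing A']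
    [Algebra A R] [Algebra A A'] [Algebra R A'] [IsScalarTower A R A']
    [Module.FaithfullyFlat R A'] :
    Function.Injective (AlgebraTensorModule.rTensor A N (Algebra.linearMap R A')) := by
  have key : ∀ x : R ⊗[A] N,
      AlgebraTensorModule.cancelBaseChange A R A' A' N ((1 : A') ⊗ₜ[R] x) =
        AlgebraTensorModule.rTensor A N (Algebra.linearMap R A') x := by
    intro x
    induction x using TensorProduct.induction_on with
    | zero => simp
    | tmul r n => simp [Algebra.smul_def]
    | add a b ha hb => rw [tmul_add, map_add, ha, hb, map_add]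
  intro x y hxy
  rw [← key, ← key] at hxy
  have h1 := (AlgebraTensorModule.cancelBaseChange A R A' A' N).injective hxy
  exact Module.FaithfullyFlat.tensorProduct_mk_injective (A := R) (B := A') (R ⊗[A] N) h1

end FFStep

section Main

variable {A : Type u} [CommRing A]
  {B : Type u} [CommRing B] [Algebra A B] [Algebra.FiniteType A B] (T : Submonoid B)
  {N₁ N : Type u} [AddCommGroup N₁] [Module B N₁] [Module A N₁] [IsScalarTower A B N₁]
  [Module.Finite B N₁]
  [AddCommGroup N] [Module B N] [Module A N] [IsScalarTower A B N] [Module.Flat A N]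
  (f : N₁ →ₗ[B] N) [IsLocalizedModule T f]
  {M : Type u} [AddCommGroup M] [Module A M] [Module.Flat A M] (u : N →ₗ[A] M)

include T f in
set_option maxHeartbeats 1600000 in
/-- **Raynaud–Gruson I 4.1.1.** `N` a localization of a finite module over a finite type
`A`-algebra, flat over `A`; `M` flat over `A`; a map `u : N → M` injective on all fibres is
universally injective. -/
theorem univInj_main
    (h : ∀ (p : Ideal A) [p.IsPrime], Function.Injective (u.lTensor p.ResidueField)) :
    FlatCA.UnivInj A u := by
  apply univInj_of_forall_quotient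
  intro 𝔦
  rw [injective_iff_map_eq_zero]
  intro z hz
  by_contra hz0
  have hzb : (u.baseChange (A ⧸ 𝔦)) z = 0 := hz
  set I : Ideal (A ⧸ 𝔦) :=
    LinearMap.ker (LinearMap.toSpanSingleton (A ⧸ 𝔦) ((A ⧸ 𝔦) ⊗[A] N) z) with hI
  have hmemI : ∀ d : A ⧸ 𝔦, d ∈ I ↔ d • z = 0 := fun d => by
    rw [hI, LinearMap.mem_ker, LinearMap.toSpanSingleton_apply]
  have hItop : I ≠ ⊤ := by
    intro htop
    have h1 : (1 : A ⧸ 𝔦) ∈ I := htop ▸ Submodule.mem_top
    rw [hmemI, one_smul] at h1
    exact hz0 h1
  obtain ⟨m, hm, hIm⟩ := Ideal.exists_le_maximal I hItop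
  haveI := hm.isPrime
  obtain ⟨p, hp, _⟩ := Ideal.exists_minimalPrimes_le hIm
  haveI : p.IsPrime := hp.1.1
  obtain ⟨A', _, _, _, _, hHens⟩ :=
    Groth.Agent.Lib.helper24.Henselization.exists_isHenselization (Localization.AtPrime p)
  letI : Algebra A A' :=
    ((algebraMap (Localization.AtPrime p) A').comp (algebraMap A (Localization.AtPrime p))).toAlgebra
  haveI : IsScalarTower A (Localization.AtPrime p) A' := IsScalarTower.of_algebraMap_eq fun _ => rfl
  haveI : HenselianLocalRing A' := hHens.henselian
  haveI : Module.FaithfullyFlat (Localization.AtPrime p) A' :=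
    Groth.Agent.Lib.helper24.Henselization.faithfullyFlat_of_isHenselization
      (Localization.AtPrime p) A'
  set zR := AlgebraTensorModule.rTensor A N
    (Algebra.linearMap (A ⧸ 𝔦) (Localization.AtPrime p)) z with hzR
  set z' := AlgebraTensorModule.rTensor A N (Algebra.linearMap (Localization.AtPrime p) A') zR
    with hz'
  have hzR0 : zR ≠ 0 :=
    rTensor_atPrime_ne_zero p z (fun d hd => hp.1.2 ((hmemI d).mpr hd))
  have hz'0 : z' ≠ 0 := fun h0 =>
    hzR0 (rTensor_injective_of_faithfullyFlat (Localization.AtPrime p) A'
      (h0.trans (map_zero _).symm))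
  apply hz'0
  refine eq_zero_of_supported_baseChange T f u (lTensor_injective_field u h) A' z' ?_ ?_
  · intro a ha
    refine exists_pow_smul_eq_zero (maximalIdeal (Localization.AtPrime p)) z' ?_ a ?_
    · intro r hr
      obtain ⟨k, hk⟩ := exists_pow_smul_rTensor_eq_zero p z hp r hr
      exact ⟨k, by rw [hz', ← map_smul, hk, map_zero]⟩
    · rw [Groth.Agent.Lib.Helper24.HensRegular.map_maximalIdeal_of_isHenselization
        (Localization.AtPrime p) A']
      exact ha
  · rw [hz', baseChange_rTensor, hzR, baseChange_rTensor, hzb, map_zero, map_zero]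

end Main

end Groth.Agent.Lib.helper26.RGContent
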