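/-
Helper library (helper26): the Raynaud–Gruson injectivity criterion for flatness.
Part 4: the criterion after étale localisation — given elementary étale neighbourhoods with a
complete dévissage and a pushout `C` of `R'_{p'}` and `S'`.
-/
import Mathlib
import Groth.Agent.S1252
import Groth.Agent.Lib.Helper26.RGInj2
import Groth.Agent.Lib.Helper26.RGInj3
import Groth.Agent.Lib.Helper26.RGFlat1
import Groth.Agent.Lib.Helper26.RGProj1
import Groth.Agent.Lib.Helper26.FibCov1
import Groth.Agent.Lib.Helper3.FlatAtLib2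

set_option autoImplicit false
set_option linter.style.haveILetI false
set_option linter.unusedSectionVars false

namespace Groth.Agent.Lib.helper26.RGInj

open TensorProduct IsLocalRing
open scoped Pointwise

universe u

set_option maxHeartbeats 3200000 in
/-- the injectivity criterion, given étale neighbourhoods carrying a complete dévissage and a
pushout `C` of `R'_{p'}` and `S'` over `R'`. -/
theorem flatAt_of_devissage_pushout {R S R' S' : Type u} [CommRing R] [CommRing S] [CommRing R']
    [CommRing S'] [Algebra R S] [Algebra R R'] [Algebra S S'] [Algebra R' S'] [Algebra R S']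
    [IsScalarTower R R' S'] [IsScalarTower R S S'] [Algebra.FiniteType R S]
    (N : Type u) [AddCommGroup N] [Module S N] [Module R N] [IsScalarTower R S N]
    [Module.Finite S N]
    (p : Ideal R) [p.IsPrime] (q : Ideal S) [q.IsPrime] [q.LiesOver p]
    (p' : Ideal R') [p'.IsPrime] (q' : Ideal S') [q'.IsPrime]
    (hEtR : FlatCA.IsEtaleNhd R R' p p') (hEtS : FlatCA.IsEtaleNhd S S' q q')
    [hq'p' : q'.LiesOver p']
    (hK' : FlatCA.HasCompleteDevissageAt R' S' (S' ⊗[S] N) p' q')
    (C : Type u) [CommRing C] [Algebra (Localization.AtPrime p') C] [Algebra S' C] [Algebra R' C]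
    [Algebra S C] [Algebra R C] [IsScalarTower R' (Localization.AtPrime p') C]
    [IsScalarTower R' S' C] [IsScalarTower S S' C] [IsScalarTower R S C] [IsScalarTower R R' C]
    [Algebra.IsPushout R' (Localization.AtPrime p') S' C]
    (M₀ : Type u) [AddCommGroup M₀] [Module S M₀] [Module R M₀] [IsScalarTower R S M₀]
    [Module.Flat R M₀] (u₀ : N →ₗ[S] M₀)
    (H₀ : ∀ n : N, u₀ n ∈ p • (⊤ : Submodule R M₀) →
      ∃ s : S, s ∉ q ∧ s • n ∈ p • (⊤ : Submodule R N)) :
    FlatCA.FlatAt R q N := by
  haveI : Algebra.Etale R R' := hEtR.1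
  haveI : Algebra.Etale S S' := hEtS.1
  haveI hq'q : q'.LiesOver q := hEtS.2.1
  haveI hp'p : p'.LiesOver p := hEtR.2.1
  have hκ := Groth.Agent.Lib.helper26.RGFlat.bijective_mapₐ_atPrime p'
  obtain ⟨x', hx'prime, hx'𝔪, hx'q'⟩ :=
    Groth.Agent.Lib.helper3.BijRes.exists_prime_over p' (maximalIdeal (Localization.AtPrime p')) hκ
      S' C q'
  haveI := hx'prime
  haveI := hx'𝔪
  haveI := hx'q'
  haveI hx'q : x'.LiesOver q := Ideal.LiesOver.trans x' q' q
  haveI : Algebra.FiniteType R' S' := by
    haveI : Algebra.FiniteType S S' := inferInstance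
    haveI : Algebra.FiniteType R S' := Algebra.FiniteType.trans (S := S) inferInstance inferInstance
    exact Algebra.FiniteType.of_restrictScalars_finiteType R R' S'
  -- the base change of `N`
  let f₀ : N →ₗ[S] C ⊗[S] N := TensorProduct.mk S C N 1
  let h : S' ⊗[S] N →ₗ[S'] C ⊗[S] N := (TensorProduct.isBaseChange S N S').lift f₀
  have hcomp : (h.restrictScalars S).comp (TensorProduct.mk S S' N 1) = f₀ := by
    ext n
    exact (TensorProduct.isBaseChange S N S').lift_eq f₀ n
  have hh : IsBaseChange C h := by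
    apply IsBaseChange.of_comp (TensorProduct.isBaseChange S N S')
    rw [hcomp]
    exact TensorProduct.isBaseChange S N C
  have hKC : FlatCA.HasCompleteDevissageAt (Localization.AtPrime p') C (C ⊗[S] N)
      (maximalIdeal (Localization.AtPrime p')) x' :=
    Groth.Agent.Lib.helper26.DevTr.hasCompleteDevissageAt_baseChange R' S' (S' ⊗[S] N) p' q' hK'
      (Localization.AtPrime p') (maximalIdeal (Localization.AtPrime p')) hκ C (C ⊗[S] N) h hh x'
  obtain ⟨D, ⟨DA⟩⟩ := hKC
  -- flatness of `C` over `S`
  haveI : Module.Flat R' (Localization.AtPrime p') := IsLocalization.flat _ p'.primeCompl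
  haveI : Algebra.IsPushout R' S' (Localization.AtPrime p') C := Algebra.IsPushout.symm inferInstance
  haveI : Module.Flat S' C :=
    Module.Flat.of_linearEquiv
      (Algebra.IsPushout.equiv R' S' (Localization.AtPrime p') C).symm.toLinearEquiv
  haveI : Module.Flat S C := Module.Flat.trans S S' C
  -- towers
  haveI twRAC : IsScalarTower R (Localization.AtPrime p') C := IsScalarTower.of_algebraMap_eq fun r => by
    rw [IsScalarTower.algebraMap_apply R R' (Localization.AtPrime p'),
      ← IsScalarTower.algebraMap_apply R' (Localization.AtPrime p') C,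
      ← IsScalarTower.algebraMap_apply R R' C]
  -- the target
  haveI hflatR : Module.Flat R (C ⊗[S] M₀) :=
    Groth.Agent.Lib.helper26.RGProj.flat_tensor (R := R) (S := S) (S₁ := C) M₀
  haveI hflatR' : Module.Flat R' (C ⊗[S] M₀) :=
    (Groth.Agent.Lib.helper3.FlatAtLib.flat_iff_of_etale (R := R) (R' := R') (C ⊗[S] M₀)).mp hflatR
  haveI hflatA : Module.Flat (Localization.AtPrime p') (C ⊗[S] M₀) :=
    (Module.flat_iff_of_isLocalization (Localization.AtPrime p') p'.primeCompl _).mpr hflatR'
  -- the map
  let u : C ⊗[S] N →ₗ[Localization.AtPrime p'] C ⊗[S] M₀ :=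
    (u₀.baseChange C).restrictScalars (Localization.AtPrime p')
  have hu : ∀ x : C ⊗[S] N, u x ∈ maximalIdeal (Localization.AtPrime p') •
      (⊤ : Submodule (Localization.AtPrime p') (C ⊗[S] M₀)) →
      ∃ s : C, s ∉ x' ∧ s • x ∈ maximalIdeal (Localization.AtPrime p') •
        (⊤ : Submodule (Localization.AtPrime p') (C ⊗[S] N)) := by
    intro x hx
    rw [mem_maximalIdeal_smul_top_iff p p' hEtR, mem_smul_top_iff_map (S := S) p] at hx
    have H₀' : ∀ n : N, u₀ n ∈ p.map (algebraMap R S) • (⊤ : Submodule S M₀) →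
        ∃ s ∈ q.primeCompl, s • n ∈ p.map (algebraMap R S) • (⊤ : Submodule S N) := by
      intro n hn
      rw [← mem_smul_top_iff_map (S := S) p] at hn
      obtain ⟨s, hs, hsn⟩ := H₀ n hn
      exact ⟨s, hs, (mem_smul_top_iff_map (S := S) p _).mp hsn⟩
    have hx' : u₀.lTensor C x ∈ p.map (algebraMap R S) • (⊤ : Submodule S (C ⊗[S] M₀)) := hx
    obtain ⟨s, hs, hsx⟩ := baseChange_torsion (C := C) (p.map (algebraMap R S)) q.primeCompl u₀ H₀'
      x hx'
    refine ⟨algebraMap S C s, ?_, ?_⟩
    · intro hmem
      apply hs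
      rw [Ideal.LiesOver.over (p := q) (P := x')]
      exact hmem
    · rw [algebraMap_smul, mem_maximalIdeal_smul_top_iff p p' hEtR,
        mem_smul_top_iff_map (S := S) p]
      exact hsx
  have hX := univInj_of_devissage D DA (C ⊗[S] M₀) u hu
  haveI hflatNC : Module.Flat (Localization.AtPrime p') (C ⊗[S] N) := hX.2
  -- descent of flatness
  have h1 : FlatCA.FlatAt (Localization.AtPrime p') x' (C ⊗[S] N) :=
    Groth.Agent.Lib.helper26.FibCov.flatAt_of_flat (C ⊗[S] N) x'
  have h2 : FlatCA.FlatAt R' x' (C ⊗[S] N) := by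
    unfold FlatCA.FlatAt at h1 ⊢
    haveI : IsScalarTower R' (Localization.AtPrime p') (LocalizedModule x'.primeCompl (C ⊗[S] N)) :=
      IsScalarTower.of_algebraMap_smul (fun r x => by
        induction x using LocalizedModule.induction_on with
        | h m s =>
          rw [LocalizedModule.smul'_mk, LocalizedModule.smul'_mk, algebraMap_smul])
    exact (Module.flat_iff_of_isLocalization (Localization.AtPrime p') p'.primeCompl _).mp h1
  have h3 : FlatCA.FlatAt R' q' (S' ⊗[S] N) :=
    (Groth.Agent.Lib.helper3.FlatAtLib.flatAt_iff_of_isBaseChange (A := R') q' x' h hh).mpr h2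
  exact (Groth.Agent.Lib.helper3.ElemDev.chain₁ (R := R) (R' := R') (TensorProduct.mk S S' N 1)
    (TensorProduct.isBaseChange S N S') (LinearEquiv.refl S' (S' ⊗[S] N)) q q').mpr h3

end Groth.Agent.Lib.helper26.RGInj
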