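/-
Helper library (helper26): the Raynaud–Gruson injectivity criterion for flatness.
Part 5: the criterion (after Raynaud–Gruson I 4.2 / Stacks 05U9): a finite module over a finite type
algebra, mapping to a module flat over the base by a linear map whose reduction modulo `p` has
`q`-torsion kernel, is flat at `q`.
-/
import Mathlib
import Groth.Agent.Lib.Helper26.RGInj4
import Groth.Agent.Lib.Helper26.DevMain2

set_option autoImplicit false
set_option linter.style.haveILetI false
set_option linter.unusedSectionVars false

namespace Groth.Agent.Lib.helper26.RGInj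

open TensorProduct IsLocalRing
open scoped Pointwise

universe u

section Pushout

attribute [local instance] Algebra.TensorProduct.rightAlgebra

/-- a pushout, with its structure maps, as abstract data. -/
theorem exists_pushout (R' A S' : Type u) [CommRing R'] [CommRing A] [CommRing S'] [Algebra R' A]
    [Algebra R' S'] :
    ∃ (C : Type u) (_ : CommRing C) (_ : Algebra A C) (_ : Algebra S' C) (_ : Algebra R' C)
      (_ : IsScalarTower R' A C) (_ : IsScalarTower R' S' C), Algebra.IsPushout R' A S' C :=
  ⟨A ⊗[R'] S', inferInstance, inferInstance, inferInstance, inferInstance, inferInstance,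
    inferInstance, inferInstance⟩

end Pushout

/-- a module killed by an element outside `q` is flat at `q`. -/
theorem flatAt_of_annihilator {R S : Type u} [CommRing R] [CommRing S] [Algebra R S]
    (N : Type u) [AddCommGroup N] [Module S N] [Module R N] [IsScalarTower R S N]
    (q : Ideal S) [q.IsPrime] (g : S) (hg : g ∈ Module.annihilator S N) (hgq : g ∉ q) :
    FlatCA.FlatAt R q N := by
  unfold FlatCA.FlatAt
  haveI : Subsingleton (LocalizedModule q.primeCompl N) := by
    refine subsingleton_of_forall_eq 0 fun x => ?_
    induction x using LocalizedModule.induction_on with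
    | h n s =>
      rw [Groth.Agent.Lib.helper3.UnivInjGlobal.mk_eq_zero_iff]
      exact ⟨⟨g, hgq⟩, Module.mem_annihilator.mp hg n⟩
  haveI : Module.Free R (LocalizedModule q.primeCompl N) := Module.Free.of_subsingleton R _
  infer_instance

set_option maxHeartbeats 1600000 in
/-- **The injectivity criterion for flatness.** Let `S` be a finite type `R`-algebra, `N` a finite
`S`-module, `q` a prime of `S` over `p`. Let `u₀` be an `S`-linear map from `N` to an `S`-module
`M₀` which is flat over `R`, such that every element of the kernel of `u₀ ⊗ R/p` is killed,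
modulo `p`, by an element of `S` outside `q`. Then `N` is flat over `R` at `q`. -/
theorem flatAt_of_injective_mod {R S : Type u} [CommRing R] [CommRing S] [Algebra R S]
    [Algebra.FiniteType R S]
    (N : Type u) [AddCommGroup N] [Module S N] [Module R N] [IsScalarTower R S N]
    [Module.Finite S N]
    (p : Ideal R) [p.IsPrime] (q : Ideal S) [q.IsPrime] [hqp : q.LiesOver p]
    (M₀ : Type u) [AddCommGroup M₀] [Module S M₀] [Module R M₀] [IsScalarTower R S M₀]
    [Module.Flat R M₀] (u₀ : N →ₗ[S] M₀)
    (H₀ : ∀ n : N, u₀ n ∈ p • (⊤ : Submodule R M₀) →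
      ∃ s : S, s ∉ q ∧ s • n ∈ p • (⊤ : Submodule R N)) :
    FlatCA.FlatAt R q N := by
  by_cases hsupp : ∃ x ∈ Module.support (p.Fiber S) (FlatCA.fiberMod p S N),
      x.asIdeal = FlatCA.fiberIdeal p q
  · obtain ⟨R', S', _, _, algRR', algSS', algR'S', algRS', twRR'S', twRSS', p', q', hp', hq', hEtR,
      hEtS, hq'p', hall⟩ := Groth.Agent.S1252.result N p q hsupp
    have hK' := hall (S' ⊗[S] N) (TensorProduct.mk S S' N 1) (TensorProduct.isBaseChange S N S')
    obtain ⟨C, _, algAC, algS'C, algR'C, twR'AC, twR'S'C, hpo⟩ :=
      exists_pushout R' (Localization.AtPrime p') S'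
    letI algSC : Algebra S C := ((algebraMap S' C).comp (algebraMap S S')).toAlgebra
    haveI twSS'C : IsScalarTower S S' C := IsScalarTower.of_algebraMap_eq' rfl
    letI algRC : Algebra R C := ((algebraMap S C).comp (algebraMap R S)).toAlgebra
    haveI twRSC : IsScalarTower R S C := IsScalarTower.of_algebraMap_eq' rfl
    haveI twRR'C : IsScalarTower R R' C := IsScalarTower.of_algebraMap_eq fun r => by
      show algebraMap S' C (algebraMap S S' (algebraMap R S r)) =
        algebraMap R' C (algebraMap R R' r)
      rw [← IsScalarTower.algebraMap_apply R S S', IsScalarTower.algebraMap_apply R R' S',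
        ← IsScalarTower.algebraMap_apply R' S' C]
    exact flatAt_of_devissage_pushout N p q p' q' hEtR hEtS hK' C M₀ u₀ H₀
  · obtain ⟨g, hgann, hgq⟩ := Groth.Agent.Lib.helper26.DevMain.exists_annihilator_notMem p N q hsupp
    exact flatAt_of_annihilator N q g hgann hgq

end Groth.Agent.Lib.helper26.RGInj
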