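/-
Helper library (helper26): the Raynaud–Gruson injectivity criterion for flatness.
Part 6: flatness at a point follows from flatness at the associated points of the fibre
specializing to it (Raynaud–Gruson I 4.2.?; S1201).
-/
import Mathlib
import Groth.Agent.Lib.Helper26.RGInj5
import Groth.Agent.Lib.Helper26.RelAss1
import Groth.Agent.Lib.Helper26.WeakAssRG5

set_option autoImplicit false
set_option linter.style.haveILetI false
set_option linter.unusedSectionVars false

namespace Groth.Agent.Lib.helper26.RGInj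

open TensorProduct IsLocalRing FlatCA Groth.Agent.Lib.helper3.UnivInjGlobal
  Groth.Agent.Lib.helper26.FtReg Groth.Agent.Lib.helper3.FlatAtLib
open scoped Pointwise

universe u

attribute [local instance] Algebra.TensorProduct.rightAlgebra

variable {A B : Type u} [CommRing A] [CommRing B] [Algebra A B] [Algebra.FiniteType A B]
  (N : Type u) [AddCommGroup N] [Module B N] [Module A N] [IsScalarTower A B N] [Module.Finite B N]

/-- an ideal not contained in any associated point of the fibre below `t` contains an element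
regular on the localized fibre module. -/
theorem exists_mem_Sg_of_forall_not_le (t : Ideal B) [t.IsPrime] (𝔞 : Ideal B)
    (hno : ∀ (q : Ideal B) [q.IsPrime], q ≤ t → q.LiesOver (t.comap (algebraMap A B)) →
      fiberIdeal (t.comap (algebraMap A B)) q ∈
        associatedPrimes ((t.comap (algebraMap A B)).Fiber B)
          (fiberMod (t.comap (algebraMap A B)) B N) → ¬ 𝔞 ≤ q) :
    ∃ h ∈ 𝔞, h ∈ Sg (R := A) N t := by
  classical
  set p := t.comap (algebraMap A B) with hp
  haveI : p.IsPrime := Ideal.comap_isPrime _ _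
  haveI : IsNoetherianRing (p.Fiber B) :=
    Algebra.FiniteType.isNoetherianRing p.ResidueField (p.Fiber B)
  haveI : Module.Finite (p.Fiber B) (fiberMod p B N) :=
    inferInstanceAs (Module.Finite (p.Fiber B) ((p.Fiber B) ⊗[B] N))
  haveI : IsScalarTower B (p.Fiber B) (fiberMod p B N) :=
    inferInstanceAs (IsScalarTower B (p.Fiber B) ((p.Fiber B) ⊗[B] N))
  have hfin : (associatedPrimes (p.Fiber B) (fiberMod p B N)).Finite :=
    associatedPrimes.finite _ _
  let f : Ideal (p.Fiber B) → Ideal B := fun P => P.comap (algebraMap B (p.Fiber B))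
  let PP : Finset (Ideal (p.Fiber B)) := hfin.toFinset.filter (fun P => f P ≤ t)
  have hnsub : ¬ (𝔞 : Set B) ⊆ ⋃ P ∈ (PP : Set (Ideal (p.Fiber B))), (f P : Set B) := by
    intro hsub
    have hprime : ∀ P ∈ PP, P ≠ (⊥ : Ideal (p.Fiber B)) → P ≠ ⊥ → (f P).IsPrime := by
      intro P hP _ _
      simp only [PP, Finset.mem_filter, Set.Finite.mem_toFinset] at hP
      haveI : P.IsPrime := hP.1.isPrime
      exact Ideal.comap_isPrime _ _
    obtain ⟨P, hPmem, hle⟩ := (Ideal.subset_union_prime ⊥ ⊥ hprime).mp hsub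
    simp only [PP, Finset.mem_filter, Set.Finite.mem_toFinset] at hPmem
    obtain ⟨hPass, hc⟩ := hPmem
    haveI hPp : P.IsPrime := hPass.isPrime
    set q₀ := P.comap (algebraMap B (p.Fiber B)) with hq₀
    haveI : q₀.IsPrime := Ideal.comap_isPrime _ _
    have hlo : q₀.LiesOver p := comap_liesOver p P
    have hfib : fiberIdeal p q₀ = P := fiberIdeal_comap p P
    exact hno q₀ hc hlo (by rw [hfib]; exact hPass) hle
  obtain ⟨h, hhq, hhn⟩ := Set.not_subset.mp hnsub
  refine ⟨h, hhq, ?_⟩
  apply isSMulRegular_of_fiberMod_ft N t h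
  by_contra hnr
  obtain ⟨P, hP, hsP, hPq⟩ := exists_associatedPrime_of_not_isSMulRegular (Fb := p.Fiber B) t
    (fiberMod p B N) h hnr
  apply hhn
  simp only [Set.mem_iUnion]
  refine ⟨P, ?_, hsP⟩
  simp only [PP, Finset.coe_filter, Set.mem_ofPred_eq, Set.Finite.mem_toFinset]
  exact ⟨hP, hPq⟩

set_option maxHeartbeats 1600000 in
/-- **Flatness at a point from flatness at the associated points of the fibre below it.** -/
theorem flatAt_of_flatAt_ass (q : Ideal B) [q.IsPrime]
    (h : ∀ (q' : Ideal B) [q'.IsPrime], q' ≤ q → q'.LiesOver (q.comap (algebraMap A B)) →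
      fiberIdeal (q.comap (algebraMap A B)) q' ∈
        associatedPrimes ((q.comap (algebraMap A B)).Fiber B)
          (fiberMod (q.comap (algebraMap A B)) B N) → FlatAt A q' N) :
    FlatAt A q N := by
  set p := q.comap (algebraMap A B) with hp
  haveI : p.IsPrime := Ideal.comap_isPrime _ _
  haveI : q.LiesOver p := ⟨rfl⟩
  -- flatness of the localization at the fibrewise regular elements
  haveI hflat : Module.Flat A (LocalizedModule (Sg (R := A) N q) N) := by
    rw [flat_localizedModule_iff_forall_eq_zero]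
    intro P Q _ _ _ _ u hu x hx
    let 𝔞 : Ideal B := LinearMap.ker (LinearMap.toSpanSingleton B (N ⊗[A] P) x)
    have hno : ∀ (q' : Ideal B) [q'.IsPrime], q' ≤ q → q'.LiesOver p →
        fiberIdeal p q' ∈ associatedPrimes (p.Fiber B) (fiberMod p B N) → ¬ 𝔞 ≤ q' := by
      intro q' _ hle hlo hass h𝔞
      have h1 := h q' hle hlo hass
      rw [flatAt_iff_forall_eq_zero] at h1
      obtain ⟨s, hs, hsx⟩ := h1 P Q u hu x hx
      apply hs
      apply h𝔞
      simpa [𝔞] using hsx
    obtain ⟨t, ht𝔞, htSg⟩ := exists_mem_Sg_of_forall_not_le N q 𝔞 hno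
    refine ⟨⟨t, htSg⟩, ?_⟩
    have : t • x = 0 := by simpa [𝔞] using ht𝔞
    exact this
  -- the injectivity criterion
  apply flatAt_of_injective_mod N p q (LocalizedModule (Sg (R := A) N q) N)
    (LocalizedModule.mkLinearMap (Sg (R := A) N q) N)
  intro n hn
  obtain ⟨⟨t, htSg⟩, htn⟩ := exists_smul_mem_of_mk_mem p (Sg (R := A) N q) n hn
  have htn' : (t • n) ⊗ₜ[A] (1 : p.ResidueField) = 0 :=
    Groth.Agent.Lib.helper26.WeakAssRG.tmul_eq_zero_of_mem_smul_top p (1 : p.ResidueField)
      (fun r hr => by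
        rw [Algebra.smul_def, mul_one]
        exact (Ideal.algebraMap_residueField_eq_zero).mpr hr) (t • n) htn
  -- the element of the localized fibre module
  have hreg := (mem_Sg N q t).mp htSg
  have hz : t • (LocalizedModule.mk (n ⊗ₜ[A] (1 : p.ResidueField)) (1 : q.primeCompl)) = 0 := by
    rw [LocalizedModule.smul'_mk, TensorProduct.smul_tmul', htn', LocalizedModule.zero_mk]
  have hz0 : LocalizedModule.mk (n ⊗ₜ[A] (1 : p.ResidueField)) (1 : q.primeCompl) = 0 :=
    hreg (hz.trans (smul_zero t).symm)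
  obtain ⟨⟨s, hs⟩, hsn⟩ := (mk_eq_zero_iff q.primeCompl _ 1).mp hz0
  have hsn' : (s • n) ⊗ₜ[A] (1 : p.ResidueField) = 0 := by
    rw [← TensorProduct.smul_tmul']
    exact hsn
  obtain ⟨a, ha, han⟩ :=
    Groth.Agent.Lib.helper26.WeakAssRG.exists_smul_mem_smul_top_of_tmul_one_eq_zero p (s • n) hsn'
  refine ⟨algebraMap A B a * s, ?_, ?_⟩
  · intro hmem
    rcases (inferInstance : q.IsPrime).mem_or_mem hmem with h1 | h1
    · exact ha h1
    · exact hs h1
  · rw [mul_smul, algebraMap_smul]
    exact han

end Groth.Agent.Lib.helper26.RGInj
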