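import Mathlib
import Groth.Agent.Lib.Helper26.RedDiv1

/-!
# Reduced principal divisors (helper26), part 2: approximation at finitely many height one primes
-/

set_option autoImplicit false
set_option linter.unusedSectionVars false
universe u

namespace Groth.Agent.Lib.helper26.RedDiv

open Groth.Agent.Lib.helper26.Hironaka

variable {R : Type u} [CommRing R] [IsDomain R] [IsNoetherianRing R] [IsIntegrallyClosed R]

/-- Two distinct height one primes: there is an element of the first not in the second. -/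
lemma exists_mem_notMem_of_ne {v w : Ideal R} (hv : v.IsPrime ∧ v.height = 1)
    (hw : w.IsPrime ∧ w.height = 1) (hne : v ≠ w) : ∃ e, e ∈ v ∧ e ∉ w := by
  by_contra hcon
  push Not at hcon
  have := hv.1
  have := hw.1
  have hvbot : v ≠ ⊥ := by
    intro h
    have h1 := hv.2
    rw [h, Ideal.height_bot] at h1
    exact absurd h1 (by decide)
  exact hne (eq_of_le_of_height_le_one v w hvbot hcon hw.2.le)

/-- Approximation: prescribe simple zeros on `W` and double zeros on `Z \ W`, inside an ideal `𝔫`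
contained in none of the primes. -/
theorem exists_correction (Z : Finset (Ideal R)) (hZ : ∀ q ∈ Z, q.IsPrime ∧ q.height = 1)
    (W : Finset (Ideal R)) (hW : W ⊆ Z) (𝔫 : Ideal R) (h𝔫 : ∀ q ∈ Z, ¬ 𝔫 ≤ q) :
    ∃ g ∈ 𝔫, (∀ q ∈ W, Simple q g) ∧ (∀ q ∈ Z, q ∉ W → Double q g) := by
  classical
  -- choices
  have h1 : ∀ w ∈ Z, ∃ y, Simple w y := fun w hw => by
    have := (hZ w hw).1
    exact exists_simple w (hZ w hw).2
  choose! y hy using h1
  have h2 : ∀ w ∈ Z, ∃ n, n ∈ 𝔫 ∧ n ∉ w := fun w hw => by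
    have := h𝔫 w hw
    rw [SetLike.le_def] at this
    push Not at this
    exact this
  choose! n hn using h2
  have h3 : ∀ w ∈ Z, ∀ v ∈ Z, v ≠ w → ∃ e, e ∈ v ∧ e ∉ w := fun w hw v hv hne =>
    exists_mem_notMem_of_ne (hZ v hv) (hZ w hw) hne
  choose! e he using h3
  set E : Ideal R → R := fun w => ∏ v ∈ Z.erase w, e w v with hE
  have hEw : ∀ w ∈ Z, E w ∉ w := by
    intro w hw h
    have := (hZ w hw).1
    obtain ⟨v, hv, hvw⟩ := (Ideal.IsPrime.prod_mem_iff (hp := inferInstance)).mp h
    rw [Finset.mem_erase] at hv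
    exact (he w hw v hv.2 hv.1).2 hvw
  have hEv : ∀ w ∈ Z, ∀ v ∈ Z, v ≠ w → E w ∈ v := by
    intro w hw v hv hne
    have hmem : v ∈ Z.erase w := Finset.mem_erase.mpr ⟨hne, hv⟩
    rw [hE]
    simp only
    rw [← Finset.mul_prod_erase _ _ hmem]
    exact Ideal.mul_mem_right _ _ (he w hw v hv hne).1
  set G : Ideal R → R := fun w => n w * E w ^ 2 * y w with hG
  have hGs : ∀ w ∈ Z, Simple w (G w) := by
    intro w hw
    have := (hZ w hw).1
    refine (hy w hw).mul_left ?_
    intro h
    rcases Ideal.IsPrime.mem_or_mem inferInstance h with h | h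
    · exact (hn w hw).2 h
    · exact hEw w hw (Ideal.IsPrime.mem_of_pow_mem inferInstance _ h)
  have hGd : ∀ w ∈ Z, ∀ v ∈ Z, v ≠ w → Double v (G w) := by
    intro w hw v hv hne
    have := (hZ v hv).1
    have h4 : G w = E w ^ 2 * (n w * y w) := by rw [hG]; ring
    rw [h4]
    exact double_sq_mul (hEv w hw v hv hne) _
  refine ⟨∑ w ∈ W, G w, ?_, ?_, ?_⟩
  · refine Ideal.sum_mem _ fun w hw => ?_
    rw [hG]
    simp only
    rw [mul_assoc]
    exact Ideal.mul_mem_right _ _ (hn w (hW hw)).1
  · intro q hq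
    have := (hZ q (hW hq)).1
    rw [← Finset.add_sum_erase W G hq]
    refine (hGs q (hW hq)).add_double (double_sum _ _ fun w hw => ?_)
    rw [Finset.mem_erase] at hw
    exact hGd w (hW hw.2) q (hW hq) (Ne.symm hw.1)
  · intro q hq hqW
    have := (hZ q hq).1
    refine double_sum _ _ fun w hw => ?_
    refine hGd w (hW hw) q hq ?_
    rintro rfl
    exact hqW hw

end Groth.Agent.Lib.helper26.RedDiv
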