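import Mathlib
import Groth.Agent.Lib.Helper26.RedDiv2

/-!
# Reduced principal divisors (helper26), part 3: two-dimensional normal local domains

In a Noetherian normal local domain of dimension 2, every finite set of height one primes is
contained in the zero set of a nonzero element generating a radical ideal.
-/

set_option autoImplicit false
set_option linter.unusedSectionVars false
universe u

namespace Groth.Agent.Lib.helper26.RedDiv

open IsLocalRing Groth.Agent.Lib.helper26.Hironaka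

section General

variable {R : Type u} [CommRing R] [IsDomain R] [IsNoetherianRing R]

lemma mem_minimalPrimes_span_iff {f : R} (hf : f ≠ 0) (q : Ideal R) :
    q ∈ (Ideal.span {f}).minimalPrimes ↔ (q.IsPrime ∧ q.height = 1) ∧ f ∈ q := by
  constructor
  · intro h
    have hprime : q.IsPrime := h.1.1
    have hfq : f ∈ q := (Ideal.span_singleton_le_iff_mem _).mp h.1.2
    refine ⟨⟨hprime, le_antisymm
      (Ideal.height_le_one_of_isPrincipal_of_mem_minimalPrimes _ q h) ?_⟩, hfq⟩
    apply one_le_height_of_ne_bot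
    intro hbot
    rw [hbot, Ideal.mem_bot] at hfq
    exact hf hfq
  · rintro ⟨⟨hprime, hht⟩, hfq⟩
    exact mem_minimalPrimes_span_of_height_le_one f hf q hfq hht.le

end General

section Local

variable {R : Type u} [CommRing R] [IsDomain R] [IsNoetherianRing R] [IsLocalRing R]

lemma isArtinianRing_quotient_pow (k : ℕ) (hk : maximalIdeal R ^ k ≠ ⊤) :
    IsArtinianRing (R ⧸ maximalIdeal R ^ k) := by
  have hnt : Nontrivial (R ⧸ maximalIdeal R ^ k) := Ideal.Quotient.nontrivial_iff.mpr hk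
  have hloc : IsLocalRing (R ⧸ maximalIdeal R ^ k) :=
    .of_surjective' _ Ideal.Quotient.mk_surjective
  rw [isArtinianRing_iff_isNilpotent_maximalIdeal]
  refine ⟨k, ?_⟩
  have h1 : maximalIdeal (R ⧸ maximalIdeal R ^ k) ≤
      (maximalIdeal R).map (Ideal.Quotient.mk (maximalIdeal R ^ k)) := by
    intro xb hx
    obtain ⟨x, rfl⟩ := Ideal.Quotient.mk_surjective xb
    apply Ideal.mem_map_of_mem
    by_contra hxm
    have hu : IsUnit x := IsLocalRing.notMem_maximalIdeal.mp hxm
    exact (IsLocalRing.mem_maximalIdeal _).mp hx (hu.map _)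
  rw [Ideal.zero_eq_bot, eq_bot_iff]
  refine (Ideal.pow_right_mono h1 k).trans ?_
  rw [← Ideal.map_pow, Ideal.map_quotient_self]

lemma span_pair_add {f g h : R} {k : ℕ} (hk : maximalIdeal R ^ k ≤ Ideal.span {f, h})
    (hg : g ∈ maximalIdeal R ^ (k + 1)) : Ideal.span {f + g, h} = Ideal.span {f, h} := by
  have key : ∀ x ∈ maximalIdeal R ^ (k + 1), ∃ a ∈ maximalIdeal R, ∃ b, x = a * f + b * h := by
    intro x hx
    rw [pow_succ] at hx
    refine Submodule.mul_induction_on hx ?_ ?_
    · intro u hu v hv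
      obtain ⟨a, b, hab⟩ := Ideal.mem_span_pair.mp (hk hu)
      refine ⟨a * v, Ideal.mul_mem_left _ _ hv, b * v, ?_⟩
      rw [← hab]; ring
    · rintro x y ⟨a, ha, b, rfl⟩ ⟨a', ha', b', rfl⟩
      exact ⟨a + a', Ideal.add_mem _ ha ha', b + b', by ring⟩
  obtain ⟨a, ha, b, hab⟩ := key g hg
  have hu : IsUnit (1 + a) := by
    apply IsLocalRing.notMem_maximalIdeal.mp
    intro h1
    have : (1 : R) ∈ maximalIdeal R := by
      have := Ideal.sub_mem _ h1 ha
      rwa [add_sub_cancel_right] at this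
    exact (Ideal.ne_top_iff_one _).mp (IsLocalRing.maximalIdeal.isMaximal R).ne_top this
  obtain ⟨u, hu'⟩ := hu
  apply le_antisymm
  · rw [Ideal.span_le]
    rintro x (rfl | rfl)
    · rw [SetLike.mem_coe, Ideal.mem_span_pair]
      exact ⟨1 + a, b, by rw [hab]; ring⟩
    · exact Ideal.subset_span (by simp)
  · rw [Ideal.span_le]
    rintro x (rfl | rfl)
    · rw [SetLike.mem_coe, Ideal.mem_span_pair]
      refine ⟨(↑u⁻¹ : R), -(↑u⁻¹ : R) * b, ?_⟩
      have h2 : (↑u⁻¹ : R) * (1 + a) = 1 := by rw [← hu', Units.inv_mul]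
      have : ↑u⁻¹ * (x + g) + -↑u⁻¹ * b * h = (↑u⁻¹ * (1 + a)) * x := by rw [hab]; ring
      rw [this, h2, one_mul]
    · exact Ideal.subset_span (by simp)

end Local

section Main

variable {R : Type u} [CommRing R] [IsDomain R] [IsNoetherianRing R] [IsLocalRing R]
  [IsIntegrallyClosed R]

lemma height_maximalIdeal (hdim : ringKrullDim R = 2) : (maximalIdeal R).height = 2 := by
  have h := IsLocalRing.maximalIdeal_height_eq_ringKrullDim (R := R)
  rw [hdim] at h
  have h' : ((maximalIdeal R).height : WithBot ℕ∞) = ((2 : ℕ∞) : WithBot ℕ∞) := h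
  exact WithBot.coe_injective h'

lemma not_pow_le (hdim : ringKrullDim R = 2) {q : Ideal R} (hq : q.IsPrime ∧ q.height = 1)
    (k : ℕ) : ¬ maximalIdeal R ^ k ≤ q := by
  intro h
  have := hq.1
  have h0 : maximalIdeal R ≤ q := Ideal.IsPrime.le_of_pow_le h
  have h1 : q = maximalIdeal R := le_antisymm (le_maximalIdeal hq.1.ne_top) h0
  have h2 := height_maximalIdeal hdim
  rw [← h1, hq.2] at h2
  exact absurd h2 (by decide)

/-- **Main theorem**: in a two-dimensional Noetherian normal local domain, any finite set of height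
one primes lies in the zero set of a nonzero `f` with `(f)` radical. -/
theorem exists_isRadical (hdim : ringKrullDim R = 2) (s : Finset (Ideal R))
    (hs : ∀ p ∈ s, p.IsPrime ∧ p.height = 1) :
    ∃ f : R, f ≠ 0 ∧ (∀ p ∈ s, f ∈ p) ∧ (Ideal.span {f}).IsRadical := by
  classical
  set m := maximalIdeal R with hm
  have hmht : m.height = 2 := height_maximalIdeal hdim
  -- the starting element
  have hmbot : m ≠ ⊥ := by
    intro h
    rw [h, Ideal.height_bot] at hmht
    exact absurd hmht (by decide)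
  obtain ⟨xm, hxm, hxm0⟩ := Submodule.exists_mem_ne_zero_of_ne_bot hmbot
  have h1 : ∀ p ∈ s, ∃ x, x ∈ p ∧ x ≠ 0 := by
    intro p hp
    apply Submodule.exists_mem_ne_zero_of_ne_bot
    intro h
    have h2 := (hs p hp).2
    rw [h, Ideal.height_bot] at h2
    exact absurd h2 (by decide)
  choose! x hx using h1
  set f₀ : R := xm * ∏ p ∈ s, x p with hf₀
  have hf₀0 : f₀ ≠ 0 := by
    rw [hf₀]
    refine mul_ne_zero hxm0 ?_
    rw [Finset.prod_ne_zero_iff]
    exact fun p hp => (hx p hp).2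
  have hf₀m : f₀ ∈ m := Ideal.mul_mem_right _ _ hxm
  have hf₀s : ∀ p ∈ s, f₀ ∈ p := by
    intro p hp
    rw [hf₀, ← Finset.mul_prod_erase s x hp]
    exact Ideal.mul_mem_left _ _ (Ideal.mul_mem_right _ _ (hx p hp).1)
  -- the auxiliary parameter `h`
  have hfin₀ := Ideal.finite_minimalPrimes_of_isNoetherianRing R (Ideal.span {f₀})
  obtain ⟨h, hhm, hh⟩ : ∃ h ∈ m, ∀ q ∈ (Ideal.span {f₀}).minimalPrimes, h ∉ q := by
    by_contra hcon
    push Not at hcon
    have hsub : ((m : Ideal R) : Set R) ⊆ ⋃ q ∈ (hfin₀.toFinset : Set (Ideal R)), (q : Set R) := by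
      intro y hy
      obtain ⟨q, hq, hyq⟩ := hcon y hy
      simp only [Set.mem_iUnion]
      exact ⟨q, by simpa using hq, hyq⟩
    rw [Ideal.subset_union_prime (f := fun q : Ideal R => q) ⊥ ⊥ (fun q hq _ _ => by
      have : q ∈ (Ideal.span {f₀}).minimalPrimes := by simpa using hq
      exact this.1.1)] at hsub
    obtain ⟨q, hq, hmq⟩ := hsub
    have hq' : q ∈ (Ideal.span {f₀}).minimalPrimes := by simpa using hq
    have := (mem_minimalPrimes_span_iff hf₀0 q).mp hq'
    exact not_pow_le hdim this.1 1 (by rwa [pow_one])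
  -- `(f₀, h)` is `m`-primary
  have hrad : m ≤ (Ideal.span {f₀, h}).radical := by
    rw [Ideal.radical_eq_sInf, le_sInf_iff]
    rintro P ⟨hP, hPprime⟩
    have := hPprime
    have hf₀P : Ideal.span {f₀} ≤ P :=
      (Ideal.span_mono (by simp)).trans hP
    obtain ⟨q, hq, hqP⟩ := Ideal.exists_minimalPrimes_le hf₀P
    have hq1 := (mem_minimalPrimes_span_iff hf₀0 q).mp hq
    have := hq1.1.1
    have hhP : h ∈ P := hP (Ideal.subset_span (by simp))
    have hlt : q < P := lt_of_le_of_ne hqP (fun e => hh q hq (e ▸ hhP))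
    have h2 : q.height < P.height := Ideal.height_strict_mono_of_isPrime hlt
    by_contra hne
    have hPm : P < m := lt_of_le_of_ne (le_maximalIdeal hPprime.ne_top) (fun e => hne e.ge)
    have h3 : P.height < m.height := Ideal.height_strict_mono_of_isPrime hPm
    rw [hq1.1.2] at h2
    rw [hmht] at h3
    have h4 : (2 : ℕ∞) ≤ P.height := by
      have := Order.add_one_le_of_lt h2
      simpa [one_add_one_eq_two] using this
    exact absurd (lt_of_le_of_lt h4 h3) (lt_irrefl _)
  obtain ⟨k, hk⟩ := Ideal.exists_pow_le_of_le_radical_of_fg hrad (IsNoetherian.noetherian m)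
  have hpair_le : ∀ f ∈ m, Ideal.span {f, h} ≤ m := by
    intro f hf
    rw [Ideal.span_le]
    rintro y (rfl | rfl)
    · exact hf
    · exact hhm
  have hktop : m ^ k ≠ ⊤ := by
    intro h1
    have h2 : (⊤ : Ideal R) ≤ m := h1 ▸ hk.trans (hpair_le f₀ hf₀m)
    exact (IsLocalRing.maximalIdeal.isMaximal R).ne_top (top_le_iff.mp h2)
  have hart := isArtinianRing_quotient_pow (R := R) k hktop
  -- the family of candidates
  let T : Set R := {f | f ∈ m ∧ m ^ k ≤ Ideal.span {f, h} ∧ ∀ p ∈ s, f ∈ p}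
  have hf₀T : f₀ ∈ T := ⟨hf₀m, hk, hf₀s⟩
  have hT0 : ∀ f ∈ T, f ≠ 0 := by
    rintro f ⟨_, hf, _⟩ rfl
    have h1 : Ideal.span {(0 : R), h} = Ideal.span {h} := by
      apply le_antisymm
      · rw [Ideal.span_le]
        rintro y (rfl | rfl)
        · exact Ideal.zero_mem _
        · exact Ideal.subset_span rfl
      · exact Ideal.span_mono (by simp)
    rw [h1] at hf
    have h2 : m ∈ (Ideal.span {h}).minimalPrimes := by
      refine ⟨⟨inferInstance, (Ideal.span_singleton_le_iff_mem _).mpr hhm⟩, ?_⟩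
      rintro P ⟨hP, hhP⟩ _
      have := hP
      exact Ideal.IsPrime.le_of_pow_le (hf.trans hhP)
    have h3 := Ideal.height_le_one_of_isPrincipal_of_mem_minimalPrimes _ m h2
    rw [hmht] at h3
    exact absurd h3 (by decide)
  have hTh : ∀ f ∈ T, ∀ q : Ideal R, q.IsPrime ∧ q.height = 1 → f ∈ q → h ∉ q := by
    rintro f ⟨_, hf, _⟩ q hq hfq hhq
    apply not_pow_le hdim hq k
    refine hf.trans ?_
    rw [Ideal.span_le]
    rintro y (rfl | rfl)
    · exact hfq
    · exact hhq
  -- minimal element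
  let π := Ideal.Quotient.mk (m ^ k)
  let S' : Set (Ideal (R ⧸ m ^ k)) :=
    {J | ∃ f ∈ T, J = Ideal.map π ((Ideal.span {f}).radical ⊔ Ideal.span {h})}
  obtain ⟨J₁, ⟨f₁, hf₁T, rfl⟩, hmin⟩ :=
    (IsWellFounded.wf : WellFounded ((· < ·) : Ideal (R ⧸ m ^ k) → Ideal (R ⧸ m ^ k) → Prop)).has_min
      S' ⟨_, f₀, hf₀T, rfl⟩
  have hminimal : ∀ f₂ ∈ T, (Ideal.span {f₂}).radical ⊔ Ideal.span {h} ≤
      (Ideal.span {f₁}).radical ⊔ Ideal.span {h} →
      (Ideal.span {f₁}).radical ⊔ Ideal.span {h} ≤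
      (Ideal.span {f₂}).radical ⊔ Ideal.span {h} := by
    intro f₂ hf₂T hle
    have h1 : Ideal.map π ((Ideal.span {f₂}).radical ⊔ Ideal.span {h}) =
        Ideal.map π ((Ideal.span {f₁}).radical ⊔ Ideal.span {h}) :=
      eq_of_le_of_not_lt (Ideal.map_mono hle) (hmin _ ⟨f₂, hf₂T, rfl⟩)
    have h2 : m ^ k ≤ (Ideal.span {f₂}).radical ⊔ Ideal.span {h} := by
      refine hf₂T.2.1.trans ?_
      rw [Ideal.span_le]
      rintro y (rfl | rfl)
      · exact Ideal.mem_sup_left (Ideal.le_radical (Ideal.subset_span rfl))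
      · exact Ideal.mem_sup_right (Ideal.subset_span rfl)
    calc (Ideal.span {f₁}).radical ⊔ Ideal.span {h}
        ≤ Ideal.comap π (Ideal.map π ((Ideal.span {f₁}).radical ⊔ Ideal.span {h})) :=
          Ideal.le_comap_map
      _ = Ideal.comap π (Ideal.map π ((Ideal.span {f₂}).radical ⊔ Ideal.span {h})) := by rw [h1]
      _ = ((Ideal.span {f₂}).radical ⊔ Ideal.span {h}) ⊔ Ideal.comap π ⊥ :=
          Ideal.comap_map_of_surjective π Ideal.Quotient.mk_surjective _
      _ = (Ideal.span {f₂}).radical ⊔ Ideal.span {h} := by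
          rw [sup_eq_left, ← RingHom.ker_eq_comap_bot, Ideal.mk_ker]
          exact h2
  -- correction
  have hf₁0 := hT0 f₁ hf₁T
  have hfin₁ := Ideal.finite_minimalPrimes_of_isNoetherianRing R (Ideal.span {f₁})
  set Z : Finset (Ideal R) := hfin₁.toFinset with hZdef
  have hZmem : ∀ q, q ∈ Z ↔ (q.IsPrime ∧ q.height = 1) ∧ f₁ ∈ q := by
    intro q
    rw [hZdef, Set.Finite.mem_toFinset]
    exact mem_minimalPrimes_span_iff hf₁0 q
  have hZ : ∀ q ∈ Z, q.IsPrime ∧ q.height = 1 := fun q hq => ((hZmem q).mp hq).1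
  set W : Finset (Ideal R) := Z.filter (fun q => ¬ Simple q f₁) with hWdef
  obtain ⟨g, hg𝔫, hgW, hgZ⟩ := exists_correction Z hZ W (Finset.filter_subset _ _) (m ^ (k + 1))
    (fun q hq => not_pow_le hdim (hZ q hq) (k + 1))
  set f₂ := f₁ + g with hf₂
  have hsimple : ∀ q ∈ Z, Simple q f₂ := by
    intro q hq
    have := (hZ q hq).1
    by_cases hqW : q ∈ W
    · have h1 : ¬ Simple q f₁ := (Finset.mem_filter.mp hqW).2
      have h2 : Double q f₁ :=
        (simple_or_double q (hZ q hq).2 ((hZmem q).mp hq).2).resolve_left h1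
      exact h2.add_simple (hgW q hqW)
    · have h1 : Simple q f₁ := by
        by_contra h
        exact hqW (Finset.mem_filter.mpr ⟨hq, h⟩)
      exact h1.add_double (hgZ q hq hqW)
  have hgmem : ∀ q ∈ Z, g ∈ q := by
    intro q hq
    have := (hZ q hq).1
    by_cases hqW : q ∈ W
    · exact (hgW q hqW).mem
    · exact (hgZ q hq hqW).mem
  have hf₂T : f₂ ∈ T := by
    refine ⟨Ideal.add_mem _ hf₁T.1 (Ideal.pow_le_self (by omega) hg𝔫), ?_, ?_⟩
    · rw [hf₂, span_pair_add hf₁T.2.1 hg𝔫]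
      exact hf₁T.2.1
    · intro p hp
      have hpZ : p ∈ Z := (hZmem p).mpr ⟨hs p hp, hf₁T.2.2 p hp⟩
      exact Ideal.add_mem _ (hf₁T.2.2 p hp) (hgmem p hpZ)
  have hJ₁ : (Ideal.span {f₁}).radical = sInf (Ideal.span {f₁}).minimalPrimes :=
    (Ideal.sInf_minimalPrimes).symm
  have hJle : (Ideal.span {f₂}).radical ≤ (Ideal.span {f₁}).radical := by
    rw [← Ideal.radical_idem (Ideal.span {f₁})]
    apply Ideal.radical_mono
    rw [Ideal.span_singleton_le_iff_mem, hJ₁, Ideal.mem_sInf]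
    intro q hq
    have hqZ : q ∈ Z := by rw [hZdef, Set.Finite.mem_toFinset]; exact hq
    exact (hsimple q hqZ).mem
  have hle := hminimal f₂ hf₂T (sup_le_sup_right hJle _)
  -- Nakayama
  have hnak : (Ideal.span {f₁}).radical ≤ (Ideal.span {f₂}).radical := by
    refine Submodule.le_of_le_smul_of_le_jacobson_bot (I := m)
      (IsNoetherian.noetherian _) (IsLocalRing.maximalIdeal_le_jacobson _) ?_
    intro y hy
    have h1 : y ∈ (Ideal.span {f₂}).radical ⊔ Ideal.span {h} := hle (Ideal.mem_sup_left hy)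
    obtain ⟨y', hy', z, hz, rfl⟩ := Submodule.mem_sup.mp h1
    obtain ⟨c, rfl⟩ := Ideal.mem_span_singleton'.mp hz
    have hch : c * h ∈ (Ideal.span {f₁}).radical := by
      have : c * h = (y' + c * h) - y' := by ring
      rw [this]
      exact Ideal.sub_mem _ hy (hJle hy')
    have hc : c ∈ (Ideal.span {f₁}).radical := by
      rw [hJ₁, Ideal.mem_sInf] at hch ⊢
      intro q hq
      have hq1 := (mem_minimalPrimes_span_iff hf₁0 q).mp hq
      have := hq1.1.1
      exact (Ideal.IsPrime.mem_or_mem inferInstance (hch hq)).resolve_right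
        (hTh f₁ hf₁T q hq1.1 hq1.2)
    refine Submodule.add_mem_sup hy' ?_
    rw [mul_comm]
    exact Submodule.smul_mem_smul hhm hc
  -- conclusion
  refine ⟨f₂, hT0 f₂ hf₂T, hf₂T.2.2, ?_⟩
  refine isRadical_of_simple (hT0 f₂ hf₂T) ?_
  intro q _ hq hf₂q
  apply hsimple q
  rw [hZmem]
  refine ⟨⟨inferInstance, hq⟩, ?_⟩
  have h1 : (Ideal.span {f₂}).radical ≤ q := by
    rw [Ideal.IsPrime.radical_le_iff inferInstance, Ideal.span_singleton_le_iff_mem]
    exact hf₂q
  exact h1 (hnak (Ideal.le_radical (Ideal.subset_span rfl)))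

end Main

end Groth.Agent.Lib.helper26.RedDiv
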