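import Mathlib
import Groth.Agent.Lib.Helper26.ReflexiveLoc

/-!
# Four-term free presentations of reflexive modules (helper26)

A finite reflexive module `F` over a Noetherian ring `B`, locally free off `V(J)`, sits in an exact
sequence `0 → F → Bⁿ → Bᵐ → G → 0` with `G` locally free off `V(J)`.
-/

set_option autoImplicit false
set_option linter.style.haveILetI false
universe u

namespace Groth.Agent.Lib.helper26.ReflexivePres

open Function

section Retract

variable {R : Type u} [CommRing R] (q : Ideal R) [q.IsPrime]
  {T P : Type u} [AddCommGroup T] [Module R T] [AddCommGroup P] [Module R P]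

/-- If `T → P → T` composes to multiplication by `s ∉ q` with `P` finite free, then `T_q` is free. -/
theorem free_localization_of_retract [Module.Finite R T] [Module.Free R P] [Module.Finite R P]
    (ψ : T →ₗ[R] P) (φ : P →ₗ[R] T) (s : R) (hs : s ∉ q)
    (h : φ ∘ₗ ψ = s • LinearMap.id) :
    Module.Free (Localization.AtPrime q) (LocalizedModule q.primeCompl T) := by
  haveI : Module.Free (Localization.AtPrime q) (LocalizedModule q.primeCompl P) :=
    Module.free_of_isLocalizedModule q.primeCompl (LocalizedModule.mkLinearMap q.primeCompl P)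
  have hu : IsUnit (algebraMap R (Localization.AtPrime q) s) :=
    IsLocalization.map_units (Localization.AtPrime q) (⟨s, hs⟩ : q.primeCompl)
  obtain ⟨c, hc⟩ := hu.exists_right_inv
  let ψq := LocalizedModule.map q.primeCompl ψ
  let φq := LocalizedModule.map q.primeCompl φ
  have hcomp : ∀ x, φq (ψq x) = algebraMap R (Localization.AtPrime q) s • x := by
    intro x
    induction x using LocalizedModule.induction_on with
    | h t a =>
      simp only [ψq, φq, LocalizedModule.map_mk]
      have := LinearMap.congr_fun h t
      simp only [LinearMap.comp_apply, LinearMap.smul_apply, LinearMap.id_apply] at this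
      rw [this, algebraMap_smul, LocalizedModule.smul'_mk]
  have hsplit : φq ∘ₗ (c • ψq) = LinearMap.id := by
    ext x
    simp only [LinearMap.comp_apply, LinearMap.smul_apply, map_smul, hcomp, LinearMap.id_apply]
    rw [smul_smul, mul_comm, hc, one_smul]
  haveI : Module.Projective (Localization.AtPrime q) (LocalizedModule q.primeCompl T) :=
    Module.Projective.of_split (c • ψq) φq hsplit
  exact Module.free_of_flat_of_isLocalRing

end Retract

section Main

variable (B : Type u) [CommRing B] [IsNoetherianRing B]

/-- A surjection onto a finite module which is free at `q` admits a section up to an element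
outside `q`. -/
theorem exists_approx_section (q : Ideal B) [q.IsPrime] {N P : Type u} [AddCommGroup N] [Module B N]
    [AddCommGroup P] [Module B P] [Module.Finite B N]
    (π : P →ₗ[B] N) (hπ : Surjective π)
    (hfree : Module.Free (Localization.AtPrime q) (LocalizedModule q.primeCompl N)) :
    ∃ (σ : N →ₗ[B] P) (s : B), s ∉ q ∧ π ∘ₗ σ = s • LinearMap.id := by
  haveI : Module.FinitePresentation B N := Module.finitePresentation_of_finite B N
  let πq := LocalizedModule.map q.primeCompl π
  have hπq : Surjective πq := LocalizedModule.map_surjective q.primeCompl π hπ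
  obtain ⟨τ, hτ⟩ := Module.projective_lifting_property πq LinearMap.id hπq
  let h : N →ₗ[B] LocalizedModule q.primeCompl P :=
    (τ.restrictScalars B) ∘ₗ LocalizedModule.mkLinearMap q.primeCompl N
  obtain ⟨σ, s, hσ⟩ := Module.FinitePresentation.exists_lift_of_isLocalizedModule q.primeCompl
    (LocalizedModule.mkLinearMap q.primeCompl P) h
  have hcomp : LocalizedModule.mkLinearMap q.primeCompl N ∘ₗ (π ∘ₗ σ) =
      LocalizedModule.mkLinearMap q.primeCompl N ∘ₗ ((s : B) • LinearMap.id) := by
    ext x
    have h1 : LocalizedModule.mkLinearMap q.primeCompl P (σ x) = s • h x :=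
      LinearMap.congr_fun hσ x
    have h2 : πq (LocalizedModule.mkLinearMap q.primeCompl P (σ x)) =
        LocalizedModule.mkLinearMap q.primeCompl N (π (σ x)) := by
      simp only [πq, LocalizedModule.mkLinearMap_apply, LocalizedModule.map_mk]
    have h3 : πq (τ (LocalizedModule.mkLinearMap q.primeCompl N x)) =
        LocalizedModule.mkLinearMap q.primeCompl N x := LinearMap.congr_fun hτ _
    simp only [LinearMap.comp_apply, LinearMap.smul_apply, LinearMap.id_apply, map_smul]
    rw [← h2, h1, Submonoid.smul_def]
    change πq ((s : B) • τ (LocalizedModule.mkLinearMap q.primeCompl N x)) = _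
    rw [LinearMap.map_smul_of_tower, h3]
  obtain ⟨t, ht⟩ := Module.Finite.exists_smul_of_comp_eq_of_isLocalizedModule q.primeCompl
    (LocalizedModule.mkLinearMap q.primeCompl N) (π ∘ₗ σ) ((s : B) • LinearMap.id) hcomp
  refine ⟨(t : B) • σ, (t : B) * (s : B), q.primeCompl.mul_mem t.2 s.2, ?_⟩
  rw [LinearMap.comp_smul, mul_smul]
  exact ht

open Groth.Agent.Lib.helper26.ReflexiveLoc in
/-- The dual of a finite module which is free at `q` is free at `q`. -/
theorem free_localization_dual (q : Ideal B) [q.IsPrime] (F : Type u) [AddCommGroup F] [Module B F]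
    [Module.Finite B F]
    (hF : Module.Free (Localization.AtPrime q) (LocalizedModule q.primeCompl F)) :
    Module.Free (Localization.AtPrime q) (LocalizedModule q.primeCompl (Module.Dual B F)) := by
  let e : LocalizedModule q.primeCompl (Module.Dual B F) ≃ₗ[B]
      Module.Dual (Localization.AtPrime q) (LocalizedModule q.primeCompl F) :=
    IsLocalizedModule.linearEquiv q.primeCompl
      (LocalizedModule.mkLinearMap q.primeCompl (Module.Dual B F))
      (D1 q.primeCompl (Localization.AtPrime q) (LocalizedModule.mkLinearMap q.primeCompl F))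
  let e' : LocalizedModule q.primeCompl (Module.Dual B F) ≃ₗ[Localization.AtPrime q]
      Module.Dual (Localization.AtPrime q) (LocalizedModule q.primeCompl F) :=
    e.extendScalarsOfIsLocalization q.primeCompl (Localization.AtPrime q)
  exact Module.Free.of_equiv e'.symm

/-- A finite reflexive module, locally free off `V(J)`, has a four-term free presentation whose
cokernel is locally free off `V(J)`. -/
theorem exists_fourTerm (J : Ideal B) (F : Type u) [AddCommGroup F] [Module B F]
    [Module.Finite B F] [Module.IsReflexive B F]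
    (hU : ∀ q : PrimeSpectrum B, ¬ J ≤ q.asIdeal →
      Module.Free (Localization.AtPrime q.asIdeal) (LocalizedModule q.asIdeal.primeCompl F)) :
    ∃ (n m : ℕ) (g : F →ₗ[B] (Fin n → B)) (h : (Fin n → B) →ₗ[B] (Fin m → B)),
      Injective g ∧ Exact g h ∧
      ∀ q : PrimeSpectrum B, ¬ J ≤ q.asIdeal →
        Module.Free (Localization.AtPrime q.asIdeal)
          (LocalizedModule q.asIdeal.primeCompl ((Fin m → B) ⧸ LinearMap.range h)) := by
  obtain ⟨n, π, hπ⟩ := Module.Finite.exists_fin' B (Module.Dual B F)
  obtain ⟨m, ρ, hρ⟩ := Module.Finite.exists_fin' B (LinearMap.ker π)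
  let ι : (Fin m → B) →ₗ[B] (Fin n → B) := (LinearMap.ker π).subtype ∘ₗ ρ
  have hrange : LinearMap.range ι = LinearMap.ker π := by
    rw [LinearMap.range_comp, LinearMap.range_eq_top.mpr hρ, Submodule.map_top,
      Submodule.range_subtype]
  have hπι : π ∘ₗ ι = 0 := by
    refine LinearMap.ext fun x => ?_
    have : ι x ∈ LinearMap.ker π := by rw [← hrange]; exact ⟨x, rfl⟩
    exact LinearMap.mem_ker.mp this
  let en : (Fin n → B) ≃ₗ[B] Module.Dual B (Fin n → B) := (Pi.basisFun B (Fin n)).toDualEquiv
  let em : (Fin m → B) ≃ₗ[B] Module.Dual B (Fin m → B) := (Pi.basisFun B (Fin m)).toDualEquiv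
  have heq : LinearMap.range π.dualMap = LinearMap.ker ι.dualMap := by
    rw [LinearMap.ker_dualMap_eq_dualAnnihilator_range, hrange,
      LinearMap.range_dualMap_eq_dualAnnihilator_ker_of_surjective π hπ]
  let g : F →ₗ[B] (Fin n → B) :=
    en.symm.toLinearMap ∘ₗ π.dualMap ∘ₗ (Module.evalEquiv B F).toLinearMap
  obtain ⟨h, hhdef⟩ : ∃ h : (Fin n → B) →ₗ[B] (Fin m → B),
      h = em.symm.toLinearMap ∘ₗ ι.dualMap ∘ₗ en.toLinearMap := ⟨_, rfl⟩
  have hh : ∀ x, h x = em.symm (ι.dualMap (en x)) := fun x => by rw [hhdef]; rfl
  refine ⟨n, m, g, h, ?_, ?_, ?_⟩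
  · intro x y hxy
    apply (Module.evalEquiv B F).injective
    apply LinearMap.dualMap_injective_of_surjective hπ
    apply en.symm.injective
    exact hxy
  · intro y
    constructor
    · intro hy
      have h1 : ι.dualMap (en y) = 0 := by
        apply em.symm.injective
        rw [map_zero, ← hh]
        exact hy
      have h2 : en y ∈ LinearMap.range π.dualMap := by
        rw [heq]
        exact LinearMap.mem_ker.mpr h1
      obtain ⟨z, hz⟩ := h2
      refine ⟨(Module.evalEquiv B F).symm z, ?_⟩
      change en.symm (π.dualMap ((Module.evalEquiv B F) ((Module.evalEquiv B F).symm z))) = y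
      rw [LinearEquiv.apply_symm_apply, hz, LinearEquiv.symm_apply_apply]
    · rintro ⟨x, rfl⟩
      rw [hh]
      change em.symm (ι.dualMap (en (en.symm (π.dualMap ((Module.evalEquiv B F) x))))) = 0
      rw [LinearEquiv.apply_symm_apply]
      have h3 : π.dualMap ((Module.evalEquiv B F) x) ∈ LinearMap.ker ι.dualMap := by
        rw [← heq]
        exact ⟨_, rfl⟩
      rw [LinearMap.mem_ker.mp h3, map_zero]
  · intro q hq
    have hNfree := free_localization_dual B q.asIdeal F (hU q hq)
    obtain ⟨σ, s, hs, hσ⟩ := exists_approx_section B q.asIdeal π hπ hNfree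
    have hmem : ∀ y : Fin n → B, s • y - σ (π y) ∈ LinearMap.range ι := by
      intro y
      rw [hrange, LinearMap.mem_ker, map_sub, map_smul]
      have := LinearMap.congr_fun hσ (π y)
      simp only [LinearMap.comp_apply, LinearMap.smul_apply, LinearMap.id_apply] at this
      rw [this, sub_self]
    choose w hw using fun i => hmem (Pi.basisFun B (Fin n) i)
    let ν : (Fin n → B) →ₗ[B] (Fin m → B) := (Pi.basisFun B (Fin n)).constr B w
    have hιν : ι ∘ₗ ν = s • LinearMap.id - σ ∘ₗ π := by
      apply (Pi.basisFun B (Fin n)).ext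
      intro i
      simp only [LinearMap.comp_apply, LinearMap.sub_apply, LinearMap.smul_apply,
        LinearMap.id_apply, ν, Module.Basis.constr_basis]
      exact hw i
    have hινι : ι ∘ₗ ν ∘ₗ ι = s • ι := by
      rw [← LinearMap.comp_assoc, hιν, LinearMap.sub_comp, LinearMap.comp_assoc, hπι,
        LinearMap.comp_zero, sub_zero, LinearMap.smul_comp, LinearMap.id_comp]
    have hdual : ι.dualMap ∘ₗ ν.dualMap ∘ₗ ι.dualMap = s • ι.dualMap := by
      rw [LinearMap.dualMap_comp_dualMap, LinearMap.dualMap_comp_dualMap, LinearMap.comp_assoc,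
        hινι]
      ext φ x
      simp
    let ν' : (Fin m → B) →ₗ[B] (Fin n → B) :=
      en.symm.toLinearMap ∘ₗ ν.dualMap ∘ₗ em.toLinearMap
    have hhνh : ∀ x, h (ν' (h x)) = s • h x := by
      intro x
      rw [hh, hh]
      change em.symm (ι.dualMap (en (en.symm (ν.dualMap (em (em.symm (ι.dualMap (en x)))))))) =
        s • em.symm (ι.dualMap (en x))
      rw [LinearEquiv.apply_symm_apply, LinearEquiv.apply_symm_apply, ← map_smul]
      congr 1
      exact LinearMap.congr_fun hdual (en x)
    let ψ : ((Fin m → B) ⧸ LinearMap.range h) →ₗ[B] (Fin m → B) :=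
      (LinearMap.range h).liftQ (s • LinearMap.id - h ∘ₗ ν') (by
        rintro _ ⟨x, rfl⟩
        rw [LinearMap.mem_ker, LinearMap.sub_apply, LinearMap.smul_apply, LinearMap.id_apply,
          LinearMap.comp_apply, hhνh, sub_self])
    refine free_localization_of_retract q.asIdeal ψ (LinearMap.range h).mkQ s hs ?_
    apply Submodule.linearMap_qext
    refine LinearMap.ext fun x => ?_
    simp only [LinearMap.comp_apply, Submodule.mkQ_apply, LinearMap.smul_apply,
      LinearMap.id_apply, ψ, Submodule.liftQ_apply, LinearMap.sub_apply]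
    rw [Submodule.Quotient.mk_sub, Submodule.Quotient.mk_smul]
    have : (Submodule.Quotient.mk (h (ν' x)) : (Fin m → B) ⧸ LinearMap.range h) = 0 :=
      (Submodule.Quotient.mk_eq_zero _).mpr ⟨_, rfl⟩
    rw [this, sub_zero]

end Main

end Groth.Agent.Lib.helper26.ReflexivePres
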