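import Groth.Prelude.Def_MeroDiv
import Mathlib

/-!
Helper lemmas on zero divisors in stalks of locally Noetherian schemes (used by S5092).
-/

set_option autoImplicit false
universe u
open CategoryTheory AlgebraicGeometry TopologicalSpace

namespace Groth.Agent.Lib.helper26

/-- In a Noetherian ring, an element of an associated prime is a zero divisor. -/
theorem not_mem_nonZeroDivisors_of_mem_assPrime {R : Type*} [CommRing R] [IsNoetherianRing R]
    {p : Ideal R} (hp : IsAssociatedPrime p R) {g : R} (hg : g ∈ p) : g ∉ nonZeroDivisors R := by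
  have : g ∈ ⋃ p ∈ associatedPrimes R R, (p : Set R) := Set.mem_biUnion hp hg
  rw [biUnion_associatedPrimes_eq_compl_nonZeroDivisors] at this
  exact this

/-- In a Noetherian ring, a zero divisor lies in an associated prime. -/
theorem exists_assPrime_of_not_mem_nonZeroDivisors {R : Type*} [CommRing R] [IsNoetherianRing R]
    {g : R} (hg : g ∉ nonZeroDivisors R) : ∃ p : Ideal R, IsAssociatedPrime p R ∧ g ∈ p := by
  have : g ∈ ((nonZeroDivisors R : Set R))ᶜ := hg
  rw [← biUnion_associatedPrimes_eq_compl_nonZeroDivisors] at this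
  obtain ⟨p, hp, hgp⟩ := Set.mem_iUnion₂.mp this
  exact ⟨p, hp, hgp⟩

/-- Ring-level statement: if `t` becomes a zero divisor in a localization `S` of the Noetherian ring
`R`, it lies in an associated prime of `R`. -/
theorem exists_assPrime_of_localization {R S : Type*} [CommRing R] [IsNoetherianRing R]
    [CommRing S] [Algebra R S] (M : Submonoid R) [IsLocalization M S] {t : R}
    (ht : algebraMap R S t ∉ nonZeroDivisors S) :
    ∃ q : Ideal R, IsAssociatedPrime q R ∧ t ∈ q := by
  have : IsNoetherianRing S := IsLocalization.isNoetherianRing M S inferInstance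
  obtain ⟨Q, hQ, htQ⟩ := exists_assPrime_of_not_mem_nonZeroDivisors ht
  refine ⟨Q.comap (algebraMap R S), ?_, htQ⟩
  have := Module.associatedPrimes.preimage_comap_associatedPrimes_eq_associatedPrimes_of_isLocalizedModule
    (R := R) M (R' := S) (M := R) (M' := S) (Algebra.linearMap R S)
  have hQ' : Q ∈ associatedPrimes S S := hQ
  rw [← this] at hQ'
  exact hQ'

/-- Ring-level statement: if `q` is an associated prime of `R`, the maximal ideal of the localization
at `q` is an associated prime. -/
theorem isAssociatedPrime_maximalIdeal_of_localization {R S : Type*} [CommRing R]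
    [CommRing S] [Algebra R S] [IsLocalRing S] (q : Ideal R) [q.IsPrime] [IsLocalization.AtPrime S q]
    (hq : IsAssociatedPrime q R) : IsAssociatedPrime (IsLocalRing.maximalIdeal S) S := by
  apply Module.associatedPrimes.mem_associatedPrimes_of_comap_mem_associatedPrimes_of_isLocalizedModule
    (R := R) q.primeCompl (R' := S) (M := R) (M' := S) (Algebra.linearMap R S)
  have : (IsLocalRing.maximalIdeal S).comap (algebraMap R S) = q :=
    IsLocalization.AtPrime.under_maximalIdeal S q
  rw [this]
  exact hq

/-- On a locally Noetherian scheme, if the germ at `x` of a section `t` over an affine open `W` is a zero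
divisor, there is a point `x'` of `W` whose maximal ideal is an associated prime of the local ring and
contains the germ of `t`. -/
theorem exists_assPoint_of_germ_zeroDivisor {X : Scheme.{u}} [IsLocallyNoetherian X]
    {W : X.Opens} (hW : IsAffineOpen W) (t : Γ(X, W)) (x : X) (hx : x ∈ W)
    (ht : X.presheaf.germ W x hx t ∉ nonZeroDivisors (X.presheaf.stalk x)) :
    ∃ (x' : X) (hx' : x' ∈ W),
      IsAssociatedPrime (IsLocalRing.maximalIdeal (X.presheaf.stalk x')) (X.presheaf.stalk x') ∧
      X.presheaf.germ W x' hx' t ∈ IsLocalRing.maximalIdeal (X.presheaf.stalk x') := by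
  have : IsNoetherianRing Γ(X, W) := IsLocallyNoetherian.component_noetherian ⟨W, hW⟩
  let := X.presheaf.algebra_section_stalk ⟨x, hx⟩
  have := hW.isLocalization_stalk ⟨x, hx⟩
  obtain ⟨q, hq, htq⟩ := exists_assPrime_of_localization (R := Γ(X, W)) (S := X.presheaf.stalk x)
    (hW.primeIdealOf ⟨x, hx⟩).asIdeal.primeCompl (t := t) ht
  have hqp : q.IsPrime := hq.isPrime
  let y : PrimeSpectrum Γ(X, W) := ⟨q, hqp⟩
  have hy : hW.fromSpec y ∈ W := by
    have : hW.fromSpec y ∈ Set.range hW.fromSpec := ⟨y, rfl⟩
    rw [hW.range_fromSpec] at this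
    exact this
  refine ⟨hW.fromSpec y, hy, ?_, ?_⟩
  · let := X.presheaf.algebra_section_stalk ⟨hW.fromSpec y, hy⟩
    have : IsLocalization.AtPrime (X.presheaf.stalk (hW.fromSpec y)) q :=
      hW.isLocalization_stalk' y hy
    exact isAssociatedPrime_maximalIdeal_of_localization q hq
  · let := X.presheaf.algebra_section_stalk ⟨hW.fromSpec y, hy⟩
    have : IsLocalization.AtPrime (X.presheaf.stalk (hW.fromSpec y)) q :=
      hW.isLocalization_stalk' y hy
    exact (IsLocalization.AtPrime.to_map_mem_maximal_iff (X.presheaf.stalk (hW.fromSpec y)) q t).mpr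
      htq

end Groth.Agent.Lib.helper26
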