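import Mathlib
import Groth.Agent.Lib.Helper26.Seg11
import Groth.Agent.Lib.Helper26.DimFormula7

/-!
# One-dimensional graded domains over an algebraically closed field (helper26)

`exists_smul_eq_of_mem_piece`: all graded pieces of a one-dimensional graded domain of finite type
over an algebraically closed field have dimension at most one.
-/

set_option autoImplicit false
set_option linter.unusedSectionVars false
universe u

namespace Groth.Agent.Lib.helper26.SemiGrp

open Groth.Agent.Lib.helper26.Seg

variable {k : Type u} [Field k] {R : Type u} [CommRing R] [Algebra k R]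
  (𝒜 : ℤ → Submodule k R) [GradedAlgebra 𝒜]

/-- the value of a homogeneous polynomial of degree `d` at elements of degree `n` has degree `d n` -/
theorem aeval_mem_of_isHomogeneous {ι : Type*} (x : ι → R) {n : ℤ} (hx : ∀ i, x i ∈ 𝒜 n)
    {q : MvPolynomial ι k} {d : ℕ} (hq : q.IsHomogeneous d) :
    MvPolynomial.aeval x q ∈ 𝒜 (d • n) := by
  classical
  rw [MvPolynomial.aeval_def, MvPolynomial.eval₂_eq]
  apply Submodule.sum_mem
  intro m hm
  rw [← Algebra.smul_def]
  apply Submodule.smul_mem
  have h1 := SetLike.prod_pow_mem_graded 𝒜 (fun _ : ι => n) x (F := m.support) (fun i => m i)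
    (fun i _ => hx i)
  have h2 : ∑ i ∈ m.support, m i • n = d • n := by
    rw [← Finset.sum_smul]
    congr 1
    exact (hq.degree_eq_sum_deg_support hm).symm
  rwa [h2] at h1

/-- a homogeneous relation between two elements of the same positive degree, from any relation -/
theorem aeval_homogeneousComponent_eq_zero {n : ℤ} (hn : 0 < n) {a b : R} (ha : a ∈ 𝒜 n)
    (hb : b ∈ 𝒜 n) (p : MvPolynomial (Fin 2) k) (hp : MvPolynomial.aeval ![a, b] p = 0) (d : ℕ) :
    MvPolynomial.aeval ![a, b] (MvPolynomial.homogeneousComponent d p) = 0 := by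
  classical
  have hx : ∀ i, (![a, b] : Fin 2 → R) i ∈ 𝒜 n := by
    intro i
    fin_cases i
    · exact ha
    · exact hb
  have hmem : ∀ e : ℕ, MvPolynomial.aeval ![a, b] (MvPolynomial.homogeneousComponent e p) ∈
      𝒜 (e • n) := fun e =>
    aeval_mem_of_isHomogeneous 𝒜 _ hx (MvPolynomial.homogeneousComponent_isHomogeneous e p)
  by_cases hd : d ∈ Finset.range (p.totalDegree + 1)
  · have h1 : ((DirectSum.decompose 𝒜 (MvPolynomial.aeval ![a, b] p) (d • n) : 𝒜 (d • n)) : R) =
        MvPolynomial.aeval ![a, b] (MvPolynomial.homogeneousComponent d p) := by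
      conv_lhs => rw [← MvPolynomial.sum_homogeneousComponent p]
      rw [map_sum, DirectSum.decompose_sum, DFinsupp.finsetSum_apply,
        AddSubmonoidClass.coe_finsetSum, Finset.sum_eq_single d]
      · rw [DirectSum.decompose_of_mem_same 𝒜 (hmem d)]
      · intro e _ hed
        rw [DirectSum.decompose_of_mem_ne 𝒜 (hmem e)]
        intro h
        apply hed
        rw [nsmul_eq_mul, nsmul_eq_mul] at h
        have := mul_right_cancel₀ (ne_of_gt hn) h
        exact_mod_cast this
      · intro h; exact absurd hd h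
    rw [← h1, hp, DirectSum.decompose_zero]
    rfl
  · rw [Finset.mem_range, not_lt] at hd
    rw [MvPolynomial.homogeneousComponent_eq_zero _ _ (by omega), map_zero]


theorem field_aux {F : Type*} [Field F] (c A B : F) (hB : B ≠ 0) (i j : ℕ) :
    c * (A ^ i * B ^ j) = B ^ i * B ^ j * (c * (A ^ i / B ^ i)) := by
  field_simp

theorem exists_smul_eq_of_binary_form [IsAlgClosed k] [IsDomain R] {a b : R} (hb0 : b ≠ 0)
    {q : MvPolynomial (Fin 2) k} {d : ℕ} (hq : q.IsHomogeneous d) (hq0 : q ≠ 0)
    (hqab : MvPolynomial.aeval ![a, b] q = 0) : ∃ c : k, a = c • b := by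
  classical
  let K := FractionRing R
  have hinj : Function.Injective (algebraMap R K) := IsFractionRing.injective R K
  have hb0' : algebraMap R K b ≠ 0 := by
    intro h; exact hb0 (hinj (by rw [h, map_zero]))
  set u : K := algebraMap R K a / algebraMap R K b with hu
  set f : Polynomial k := ∑ m ∈ q.support, Polynomial.C (q.coeff m) * Polynomial.X ^ (m 0) with hf
  have hdeg : ∀ m ∈ q.support, m 0 + m 1 = d := by
    intro m hm
    have := hq.degree_eq_sum_deg_support hm
    rw [Finset.sum_subset (Finset.subset_univ _)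
      (fun i _ hi => Finsupp.notMem_support_iff.1 hi), Fin.sum_univ_two] at this
    exact this.symm
  -- claim 1
  have h1 : algebraMap R K (MvPolynomial.aeval ![a, b] q) =
      (algebraMap R K b) ^ d * Polynomial.aeval u f := by
    rw [MvPolynomial.aeval_def, MvPolynomial.eval₂_eq', map_sum, hf, map_sum, Finset.mul_sum]
    refine Finset.sum_congr rfl fun m hm => ?_
    rw [Fin.prod_univ_two, map_mul, map_mul, map_pow, map_pow, map_mul, map_pow,
      Polynomial.aeval_X, Polynomial.aeval_C, ← hdeg m hm]
    simp only [Matrix.cons_val_zero, Matrix.cons_val_one]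
    rw [← IsScalarTower.algebraMap_apply k R K, hu, div_pow, pow_add]
    exact field_aux _ _ _ hb0' _ _
  -- claim 2
  have h2 : f ≠ 0 := by
    obtain ⟨m₀, hm₀⟩ := MvPolynomial.support_nonempty.2 hq0
    intro hf0
    have h3 : f.coeff (m₀ 0) = q.coeff m₀ := by
      rw [hf, Polynomial.finsetSum_coeff, Finset.sum_eq_single m₀]
      · rw [Polynomial.coeff_C_mul, Polynomial.coeff_X_pow, if_pos rfl, mul_one]
      · intro m hm hne
        rw [Polynomial.coeff_C_mul, Polynomial.coeff_X_pow, if_neg, mul_zero]
        intro h0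
        apply hne
        have e1 := hdeg m hm
        have e2 := hdeg m₀ hm₀
        ext i
        fin_cases i
        · exact h0.symm
        · show m 1 = m₀ 1
          omega
      · intro h; exact absurd hm₀ h
    rw [hf0, Polynomial.coeff_zero] at h3
    exact (MvPolynomial.mem_support_iff.1 hm₀) h3.symm
  rw [hqab, map_zero] at h1
  have h3 : Polynomial.aeval u f = 0 := by
    rcases mul_eq_zero.1 h1.symm with h | h
    · exact absurd h (pow_ne_zero d hb0')
    · exact h
  have halg : IsAlgebraic k u := ⟨f, h2, h3⟩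
  have hint : IsIntegral k u := halg.isIntegral
  have hdeg1 : (minpoly k u).degree = 1 :=
    IsAlgClosed.degree_eq_one_of_irreducible k (minpoly.irreducible hint)
  have hmonic : (minpoly k u).leadingCoeff = 1 := minpoly.monic hint
  have h4 : Polynomial.aeval u (minpoly k u) = 0 := minpoly.aeval k u
  rw [Polynomial.eq_X_add_C_of_degree_eq_one hdeg1, hmonic, Polynomial.C_1, one_mul,
    Polynomial.aeval_add, Polynomial.aeval_X, Polynomial.aeval_C, add_eq_zero_iff_eq_neg] at h4
  refine ⟨-(minpoly k u).coeff 0, hinj ?_⟩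
  rw [Algebra.smul_def, map_mul, ← IsScalarTower.algebraMap_apply k R K, map_neg, ← h4, hu,
    div_mul_cancel₀ _ hb0']

variable [IsAlgClosed k] [IsDomain R] [Algebra.FiniteType k R]
  (hpos : ∀ n : ℤ, n < 0 → 𝒜 n = ⊥) (h0 : 𝒜 0 = Submodule.span k {(1 : R)})

include hpos h0 in
/-- **the graded pieces are at most one-dimensional** -/
theorem exists_smul_eq_of_mem_piece (h1 : ringKrullDim R = 1) {n : ℤ} {a b : R} (ha : a ∈ 𝒜 n)
    (hb : b ∈ 𝒜 n) (hb0 : b ≠ 0) : ∃ c : k, a = c • b := by
  classical
  rcases lt_trichotomy n 0 with hn | hn | hn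
  · exfalso
    rw [hpos n hn, Submodule.mem_bot] at hb
    exact hb0 hb
  · subst hn
    rw [h0] at ha hb
    obtain ⟨α, rfl⟩ := Submodule.mem_span_singleton.1 ha
    obtain ⟨β, rfl⟩ := Submodule.mem_span_singleton.1 hb
    have hβ : β ≠ 0 := by
      rintro rfl
      exact hb0 (zero_smul _ _)
    exact ⟨α / β, by rw [smul_smul, div_mul_cancel₀ _ hβ]⟩
  · obtain ⟨m, hm⟩ := Groth.Agent.Lib.helper26.DimFormula.exists_nat_trdeg k R
    have hdim := (Groth.Agent.Lib.helper26.DimFormula.ringKrullDim_eq_of_trdeg k R m hm).1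
    rw [h1] at hdim
    have hm1 : m = 1 := by exact_mod_cast hdim.symm
    subst hm1
    have hdep : ¬ AlgebraicIndependent k ![a, b] := by
      intro hind
      have h2 := hind.lift_cardinalMk_le_trdeg
      rw [hm] at h2
      simp at h2
    rw [algebraicIndependent_iff] at hdep
    push Not at hdep
    obtain ⟨p, hp, hp0⟩ := hdep
    have hex : ∃ d, MvPolynomial.homogeneousComponent d p ≠ 0 := by
      by_contra hall
      push Not at hall
      apply hp0
      rw [← MvPolynomial.sum_homogeneousComponent p]
      exact Finset.sum_eq_zero fun d _ => hall d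
    obtain ⟨d, hd⟩ := hex
    exact exists_smul_eq_of_binary_form hb0 (MvPolynomial.homogeneousComponent_isHomogeneous d p)
      hd (aeval_homogeneousComponent_eq_zero 𝒜 hn ha hb p hp d)

end Groth.Agent.Lib.helper26.SemiGrp
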