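import Mathlib
import Groth.Agent.Lib.Helper26.SemiGrp1
import Groth.Agent.Lib.Helper26.Seg11

/-!
# One-dimensional graded domains over an algebraically closed field are semigroup rings (helper26)
-/

set_option autoImplicit false
set_option linter.unusedSectionVars false
universe u

namespace Groth.Agent.Lib.helper26.SemiGrp

open Groth.Agent.Lib.helper26.Seg

variable {k : Type u} [Field k] {R : Type u} [CommRing R] [Algebra k R]
  (𝒜 : ℤ → Submodule k R) [GradedAlgebra 𝒜]
  [IsAlgClosed k] [IsDomain R] [Algebra.FiniteType k R]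
  (hpos : ∀ n : ℤ, n < 0 → 𝒜 n = ⊥) (h0 : 𝒜 0 = Submodule.span k {(1 : R)})

include hpos h0 in
/-- a nonzero homogeneous element of positive degree -/
theorem exists_ne_zero_mem_piece (h1 : ringKrullDim R = 1) :
    ∃ (D : ℕ) (_ : 0 < D) (x : R), x ∈ 𝒜 (D : ℤ) ∧ x ≠ 0 := by
  by_contra hcon
  push Not at hcon
  have hirr : irr 𝒜 = ⊥ := by
    unfold irr
    rw [Ideal.span_eq_bot]
    intro a ha
    simp only [Set.mem_iUnion, SetLike.mem_coe] at ha
    obtain ⟨n, hn, ha⟩ := ha
    rw [Set.mem_Ioi] at hn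
    obtain ⟨m, rfl⟩ := Int.eq_ofNat_of_zero_le hn.le
    exact hcon m (by exact_mod_cast hn) a ha
  have hmax := irr_isMaximal 𝒜 hpos h0
  rw [hirr, ← Ring.isField_iff_maximal_bot] at hmax
  rw [ringKrullDim_eq_zero_of_isField hmax] at h1
  exact zero_ne_one h1

/-- a `k`-point of `R` not vanishing at a given nonzero element -/
theorem exists_algHom_ne_zero {x : R} (hx : x ≠ 0) : ∃ ev : R →ₐ[k] k, ev x ≠ 0 := by
  classical
  have hJ : IsJacobsonRing R := isJacobsonRing_of_finiteType (A := k) (B := R)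
  have hrad : (⊥ : Ideal R).IsRadical := by
    intro a ha
    obtain ⟨n, hn⟩ := ha
    rw [Ideal.mem_bot] at hn ⊢
    exact eq_zero_of_pow_eq_zero hn
  have hjac : (⊥ : Ideal R).jacobson = ⊥ := hJ.out hrad
  have hxj : x ∉ (⊥ : Ideal R).jacobson := by rw [hjac, Ideal.mem_bot]; exact hx
  unfold Ideal.jacobson at hxj
  rw [Submodule.mem_sInf] at hxj
  push Not at hxj
  obtain ⟨𝔫, ⟨-, hmax⟩, hx𝔫⟩ := hxj
  let _ : Field (R ⧸ 𝔫) := Ideal.Quotient.field 𝔫
  have hfin : Module.Finite k (R ⧸ 𝔫) := finite_of_finite_type_of_isJacobsonRing k (R ⧸ 𝔫)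
  have hint : Algebra.IsIntegral k (R ⧸ 𝔫) := Algebra.IsIntegral.of_finite k (R ⧸ 𝔫)
  have hbij : Function.Bijective (algebraMap k (R ⧸ 𝔫)) :=
    IsAlgClosed.algebraMap_bijective_of_isIntegral
  let e : k ≃ₐ[k] (R ⧸ 𝔫) := AlgEquiv.ofBijective (Algebra.ofId k (R ⧸ 𝔫)) hbij
  refine ⟨(e.symm : (R ⧸ 𝔫) →ₐ[k] k).comp (Ideal.Quotient.mkₐ k 𝔫), ?_⟩
  intro h
  apply hx𝔫
  have h2 : e.symm (Ideal.Quotient.mk 𝔫 x) = 0 := h
  rw [map_eq_zero_iff _ e.symm.injective] at h2
  exact Ideal.Quotient.eq_zero_iff_mem.1 h2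

include hpos h0 in
/-- a `k`-point not vanishing at one nonzero homogeneous element of positive degree vanishes at no
nonzero homogeneous element -/
theorem ev_ne_zero (h1 : ringKrullDim R = 1) {D : ℕ} (hD : 0 < D) {x : R} (hx : x ∈ 𝒜 (D : ℤ))
    (ev : R →ₐ[k] k) (hev : ev x ≠ 0) {n : ℤ} {r : R} (hr : r ∈ 𝒜 n) (hr0 : r ≠ 0) :
    ev r ≠ 0 := by
  rcases lt_or_ge n 0 with hn | hn
  · exfalso
    rw [hpos n hn, Submodule.mem_bot] at hr
    exact hr0 hr
  · obtain ⟨m, rfl⟩ := Int.eq_ofNat_of_zero_le hn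
    have hrD : r ^ D ∈ 𝒜 ((D * m : ℕ) : ℤ) := by
      have h2 : r ^ D ∈ 𝒜 (D • (m : ℤ)) := SetLike.pow_mem_graded D hr
      have h3 : D • (m : ℤ) = ((D * m : ℕ) : ℤ) := by rw [nsmul_eq_mul]; push_cast; ring
      rwa [h3] at h2
    have hxm : x ^ m ∈ 𝒜 ((D * m : ℕ) : ℤ) := by
      have h2 : x ^ m ∈ 𝒜 (m • (D : ℤ)) := SetLike.pow_mem_graded m hx
      have h3 : m • (D : ℤ) = ((D * m : ℕ) : ℤ) := by rw [nsmul_eq_mul]; push_cast; ring
      rwa [h3] at h2
    obtain ⟨c, hc⟩ := exists_smul_eq_of_mem_piece 𝒜 hpos h0 h1 hxm hrD (pow_ne_zero D hr0)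
    intro h
    have h4 : ev (x ^ m) = c • ev (r ^ D) := by rw [hc, map_smul]
    rw [map_pow, map_pow, h, zero_pow hD.ne', smul_zero] at h4
    exact hev (pow_eq_zero_iff_of_pos_aux h4)
where
  pow_eq_zero_iff_of_pos_aux {a : k} {m : ℕ} (h : a ^ m = 0) : a = 0 := by
    exact eq_zero_of_pow_eq_zero h

include hpos h0 in
/-- **A one-dimensional graded domain over an algebraically closed field is a semigroup ring.** -/
theorem exists_ringEquiv_addMonoidAlgebra (h1 : ringKrullDim R = 1) :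
    ∃ H : AddSubmonoid ℕ, Nonempty (R ≃+* AddMonoidAlgebra k H) := by
  classical
  obtain ⟨D, hD, x, hx, hx0⟩ := exists_ne_zero_mem_piece 𝒜 hpos h0 h1
  obtain ⟨ev, hev⟩ := exists_algHom_ne_zero (k := k) hx0
  have hne : ∀ {n : ℤ} {r : R}, r ∈ 𝒜 n → r ≠ 0 → ev r ≠ 0 :=
    fun hr hr0 => ev_ne_zero 𝒜 hpos h0 h1 hD hx ev hev hr hr0
  -- uniqueness of normalized elements
  have huniq : ∀ {n : ℤ} {g g' : R}, g ∈ 𝒜 n → g' ∈ 𝒜 n → ev g = 1 → ev g' = 1 → g = g' := by
    intro n g g' hg hg' h h'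
    have hg0 : g' ≠ 0 := by
      rintro rfl
      rw [map_zero] at h'
      exact zero_ne_one h'
    obtain ⟨c, hc⟩ := exists_smul_eq_of_mem_piece 𝒜 hpos h0 h1 hg hg' hg0
    have : ev g = c • ev g' := by rw [hc, map_smul]
    rw [h, h', smul_eq_mul, mul_one] at this
    rw [hc, ← this, one_smul]
  let H : AddSubmonoid ℕ :=
    { carrier := {n | 𝒜 (n : ℤ) ≠ ⊥}
      zero_mem' := by
        show 𝒜 ((0 : ℕ) : ℤ) ≠ ⊥
        intro h
        have h2 : (1 : R) ∈ 𝒜 ((0 : ℕ) : ℤ) := by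
          rw [Nat.cast_zero]; exact SetLike.GradedOne.one_mem
        rw [h, Submodule.mem_bot] at h2
        exact one_ne_zero h2
      add_mem' := by
        intro a b ha hb
        obtain ⟨u, hu, hu0⟩ := Submodule.exists_mem_ne_zero_of_ne_bot ha
        obtain ⟨v, hv, hv0⟩ := Submodule.exists_mem_ne_zero_of_ne_bot hb
        show 𝒜 ((a + b : ℕ) : ℤ) ≠ ⊥
        intro h
        have h2 : u * v ∈ 𝒜 ((a + b : ℕ) : ℤ) := by
          have := SetLike.mul_mem_graded hu hv
          rwa [← Nat.cast_add] at this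
        rw [h, Submodule.mem_bot] at h2
        exact mul_ne_zero hu0 hv0 h2 }
  have hgen : ∀ n : H, ∃ g : R, g ∈ 𝒜 ((n : ℕ) : ℤ) ∧ ev g = 1 := by
    intro n
    obtain ⟨u, hu, hu0⟩ := Submodule.exists_mem_ne_zero_of_ne_bot n.2
    refine ⟨(ev u)⁻¹ • u, Submodule.smul_mem _ _ hu, ?_⟩
    rw [map_smul, smul_eq_mul, inv_mul_cancel₀ (hne hu hu0)]
  choose g hg hg1 using hgen
  have hg0 : ∀ n : H, g n ≠ 0 := by
    intro n h
    have := hg1 n
    rw [h, map_zero] at this
    exact zero_ne_one this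
  let F : Multiplicative H →* R :=
    { toFun := fun n => g (Multiplicative.toAdd n)
      map_one' := by
        show g 0 = 1
        apply huniq (hg 0) _ (hg1 0) (map_one ev)
        show (1 : R) ∈ 𝒜 ((0 : ℕ) : ℤ)
        rw [Nat.cast_zero]; exact SetLike.GradedOne.one_mem
      map_mul' := by
        intro a b
        show g (Multiplicative.toAdd a + Multiplicative.toAdd b) =
          g (Multiplicative.toAdd a) * g (Multiplicative.toAdd b)
        apply huniq (hg _) _ (hg1 _) (by rw [map_mul, hg1, hg1, mul_one])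
        have := SetLike.mul_mem_graded (hg (Multiplicative.toAdd a)) (hg (Multiplicative.toAdd b))
        rw [← Nat.cast_add] at this
        exact this }
  let Φ : AddMonoidAlgebra k H →ₐ[k] R := AddMonoidAlgebra.lift k R H F
  have hΦ : ∀ f : AddMonoidAlgebra k H, Φ f = f.coeff.sum fun a b => b • g a := by
    intro f
    exact AddMonoidAlgebra.lift_apply F f
  have hΦs : ∀ (n : H) (c : k), Φ (AddMonoidAlgebra.single n c) = c • g n := by
    intro n c
    exact AddMonoidAlgebra.lift_single F n c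
  have hinj : Function.Injective Φ := by
    rw [injective_iff_map_eq_zero]
    intro f hf
    apply AddMonoidAlgebra.coeff_injective
    ext n
    have h2 : ((DirectSum.decompose 𝒜 (Φ f) ((n : ℕ) : ℤ) : 𝒜 ((n : ℕ) : ℤ)) : R) =
        f.coeff n • g n := by
      rw [hΦ, Finsupp.sum, DirectSum.decompose_sum, DFinsupp.finsetSum_apply,
        AddSubmonoidClass.coe_finsetSum]
      by_cases hn : n ∈ f.coeff.support
      · rw [Finset.sum_eq_single n]
        · rw [DirectSum.decompose_of_mem_same 𝒜 (Submodule.smul_mem _ _ (hg n))]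
        · intro m _ hmn
          rw [DirectSum.decompose_of_mem_ne 𝒜 (Submodule.smul_mem _ _ (hg m))]
          intro h
          apply hmn
          exact Subtype.ext (by exact_mod_cast h)
        · intro h; exact absurd hn h
      · rw [Finsupp.notMem_support_iff.1 hn, zero_smul]
        apply Finset.sum_eq_zero
        intro m hm
        rw [DirectSum.decompose_of_mem_ne 𝒜 (Submodule.smul_mem _ _ (hg m))]
        intro h
        apply hn
        have : m = n := Subtype.ext (by exact_mod_cast h)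
        rw [← this]; exact hm
    rw [hf, DirectSum.decompose_zero] at h2
    have h3 : f.coeff n • g n = 0 := by rw [← h2]; rfl
    rcases smul_eq_zero.1 h3 with h | h
    · simpa using h
    · exact absurd h (hg0 n)
  have hsurj : Function.Surjective Φ := by
    intro r
    rw [← DirectSum.sum_support_decompose 𝒜 r]
    have : ∀ n : ℤ, ∃ f : AddMonoidAlgebra k H, Φ f =
        ((DirectSum.decompose 𝒜 r n : 𝒜 n) : R) := by
      intro n
      by_cases hr0 : ((DirectSum.decompose 𝒜 r n : 𝒜 n) : R) = 0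
      · exact ⟨0, by rw [map_zero, hr0]⟩
      · have hmem : ((DirectSum.decompose 𝒜 r n : 𝒜 n) : R) ∈ 𝒜 n := SetLike.coe_mem _
        rcases lt_or_ge n 0 with hn | hn
        · exfalso
          have hle : 𝒜 n ≤ ⊥ := (hpos n hn).le
          have h5 := hle hmem
          rw [Submodule.mem_bot] at h5
          exact hr0 h5
        · obtain ⟨m, rfl⟩ := Int.eq_ofNat_of_zero_le hn
          have hmH : m ∈ H := by
            show 𝒜 (m : ℤ) ≠ ⊥
            intro h
            have hle : 𝒜 (m : ℤ) ≤ ⊥ := h.le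
            have h5 := hle hmem
            rw [Submodule.mem_bot] at h5
            exact hr0 h5
          set ρ := ((DirectSum.decompose 𝒜 r (m : ℤ) : 𝒜 (m : ℤ)) : R) with hρ
          refine ⟨AddMonoidAlgebra.single ⟨m, hmH⟩ (ev ρ), ?_⟩
          rw [hΦs]
          have hevρ := hne hmem hr0
          have h4 : g ⟨m, hmH⟩ = (ev ρ)⁻¹ • ρ := by
            apply huniq (hg ⟨m, hmH⟩) (Submodule.smul_mem _ _ hmem) (hg1 _)
            rw [map_smul, smul_eq_mul, inv_mul_cancel₀ hevρ]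
          rw [h4, smul_smul, mul_inv_cancel₀ hevρ, one_smul]
    choose f hf using this
    refine ⟨∑ n ∈ DFinsupp.support (DirectSum.decompose 𝒜 r), f n, ?_⟩
    rw [map_sum]
    exact Finset.sum_congr rfl fun n _ => hf n
  exact ⟨H, ⟨(RingEquiv.ofBijective Φ ⟨hinj, hsurj⟩).symm⟩⟩

include hpos h0 in
/-- the standard graded case: a polynomial ring -/
theorem nonempty_ringEquiv_polynomial (h1 : ringKrullDim R = 1)
    (hstd : irr 𝒜 = Ideal.span ((𝒜 1 : Submodule k R) : Set R)) :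
    Nonempty (R ≃+* Polynomial k) := by
  classical
  have hA1 : 𝒜 1 ≠ ⊥ := by
    intro h
    obtain ⟨D, hD, x, hx, hx0⟩ := exists_ne_zero_mem_piece 𝒜 hpos h0 h1
    have hxi : x ∈ irr 𝒜 := mem_irr_of_mem 𝒜 (by exact_mod_cast hD) hx
    rw [hstd, h] at hxi
    have : Ideal.span (((⊥ : Submodule k R) : Set R)) = (⊥ : Ideal R) := by
      rw [Ideal.span_eq_bot]
      intro a ha
      exact (Submodule.mem_bot k).1 ha
    rw [this, Ideal.mem_bot] at hxi
    exact hx0 hxi
  obtain ⟨a, ha, ha0⟩ := Submodule.exists_mem_ne_zero_of_ne_bot hA1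
  have hspan : Ideal.span ((𝒜 1 : Submodule k R) : Set R) = Ideal.span {a} := by
    apply le_antisymm
    · rw [Ideal.span_le]
      intro b hb
      obtain ⟨c, rfl⟩ := exists_smul_eq_of_mem_piece 𝒜 hpos h0 h1 hb ha ha0
      rw [SetLike.mem_coe, Algebra.smul_def]
      exact Ideal.mul_mem_left _ _ (Ideal.subset_span rfl)
    · rw [Ideal.span_le]
      rintro _ rfl
      exact Ideal.subset_span ha
  have hall : ∀ n : ℤ, 1 ≤ n → ∀ r ∈ 𝒜 n, r ∈ Ideal.span {a} := by
    intro n hn r hr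
    rw [← hspan, ← hstd]
    exact mem_irr_of_mem 𝒜 (by omega) hr
  have hnil : ¬ IsNilpotent a := fun h => ha0 (IsNilpotent.eq_zero h)
  obtain ⟨e⟩ := nonempty_algEquiv_polynomial 𝒜 hpos h0 ha hnil hall
  exact ⟨e.toRingEquiv⟩

end Groth.Agent.Lib.helper26.SemiGrp
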