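import Mathlib
import Groth.Agent.Lib.Helper26.HS8
import Groth.Agent.S5767

/-!
# Systems of parameters in the Jacobson radical of a semi-local Noetherian ring (helper26)

* `isMaximal_of_jacobson_le`: a prime containing the Jacobson radical of a semi-local ring is
  maximal.
* `supportDim_le_supportDim_quot_ofList_add_length`: `dim M ≤ dim M/(xs)M + |xs|` for `xs ⊆ rad A`.
* `exists_sop`: a nonzero finite module of dimension `d` has a system of parameters of length `d`
  in the Jacobson radical.
* `supportDim_le_zero_of_isFiniteLength`.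
-/

set_option autoImplicit false
set_option linter.unusedSectionVars false
set_option linter.style.haveILetI false
universe u

namespace Groth.Agent.Lib.helper26.SOP

open Groth.Agent.Lib.helper26.HS
open scoped Pointwise

section

variable {A : Type u} [CommRing A]

theorem isMaximal_of_jacobson_le [Finite (MaximalSpectrum A)] (Q : Ideal A) [hQ : Q.IsPrime]
    (h : Ring.jacobson A ≤ Q) : Q.IsMaximal := by
  classical
  have : Fintype (MaximalSpectrum A) := Fintype.ofFinite _
  have h1 : (Finset.univ : Finset (MaximalSpectrum A)).inf (fun m => m.asIdeal) ≤ Q := by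
    refine le_trans ?_ h
    rw [← Ideal.jacobson_bot, Ideal.jacobson]
    refine le_sInf ?_
    rintro m ⟨-, hm⟩
    exact Finset.inf_le (f := fun m : MaximalSpectrum A => m.asIdeal)
      (Finset.mem_univ (⟨m, hm⟩ : MaximalSpectrum A))
  obtain ⟨m, -, hm⟩ := (Ideal.IsPrime.inf_le' hQ).mp h1
  have := m.isMaximal.eq_of_le hQ.ne_top hm
  rw [← this]
  exact m.isMaximal

theorem supportDim_le_zero_of_isFiniteLength [IsNoetherianRing A] {M : Type u} [AddCommGroup M]
    [Module A M] (h : IsFiniteLength A M) : Module.supportDim A M ≤ 0 := by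
  have hN : IsNoetherian A M := (isFiniteLength_iff_isNoetherian_isArtinian.mp h).1
  have hF : Module.Finite A M := inferInstance
  rw [Groth.Agent.Lib.helper8.StalkLen.isFiniteLength_iff_support_isMaximal] at h
  rw [Module.supportDim, Order.krullDim_nonpos_iff_forall_isMax]
  intro Q Q' hQQ'
  have hmax := h Q.1 Q.2
  have hle : Q.1.asIdeal ≤ Q'.1.asIdeal := hQQ'
  have := hmax.eq_of_le Q'.1.2.ne_top hle
  exact le_of_eq (Subtype.ext (PrimeSpectrum.ext this.symm))

end

variable {A : Type u} [CommRing A] [IsNoetherianRing A] [Finite (MaximalSpectrum A)]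

theorem hs_jacobson_one_ne_top (M : Type u) [AddCommGroup M] [Module A M] [Module.Finite A M] :
    hs (Ring.jacobson A) M 1 ≠ ⊤ := by
  rw [hs_one_ne_top_iff]
  intro Q _ hQ
  exact isMaximal_of_jacobson_le Q.asIdeal hQ

theorem supportDim_le_supportDim_quot_ofList_add_length : ∀ (xs : List A) (M : Type u)
    [AddCommGroup M] [Module A M] [Module.Finite A M], (∀ x ∈ xs, x ∈ Ring.jacobson A) →
    Module.supportDim A M ≤
      Module.supportDim A (M ⧸ (Ideal.ofList xs • (⊤ : Submodule A M))) + xs.length := by
  intro xs
  induction xs with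
  | nil =>
    intro M _ _ _ _
    have e : (M ⧸ (Ideal.ofList ([] : List A) • (⊤ : Submodule A M))) ≃ₗ[A] M :=
      Submodule.quotEquivOfEqBot _ (by rw [Ideal.ofList_nil, Submodule.bot_smul])
    rw [Module.supportDim_eq_of_equiv e]
    simp
  | cons x xs ih =>
    intro M _ _ _ hxs
    have hx : x ∈ Ring.jacobson A := hxs x List.mem_cons_self
    have h1 := Module.supportDim_le_supportDim_quotSMulTop_succ_of_mem_jacobson (M := M)
      (Ideal.ringJacobson_le_jacobson hx)
    have h2 := ih (QuotSMulTop x M) (fun y hy => hxs y (List.mem_cons_of_mem _ hy))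
    rw [Module.supportDim_eq_of_equiv
      (Submodule.quotOfListConsSMulTopEquivQuotSMulTopInner M x xs)]
    calc Module.supportDim A M ≤ Module.supportDim A (QuotSMulTop x M) + 1 := h1
      _ ≤ Module.supportDim A (QuotSMulTop x M ⧸
            (Ideal.ofList xs • (⊤ : Submodule A (QuotSMulTop x M)))) + xs.length + 1 := by
          gcongr
      _ = _ := by
          rw [List.length_cons, add_assoc]
          norm_cast

theorem exists_sop : ∀ (d : ℕ) (M : Type u) [AddCommGroup M] [Module A M] [Module.Finite A M]
    [Nontrivial M], Module.supportDim A M = d →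
    ∃ ys : List A, (∀ y ∈ ys, y ∈ Ring.jacobson A) ∧ ys.length = d ∧
      IsFiniteLength A (M ⧸ (Ideal.ofList ys • (⊤ : Submodule A M))) := by
  intro d
  induction d with
  | zero =>
    intro M _ _ _ _ hd
    refine ⟨[], by simp, rfl, ?_⟩
    have e : (M ⧸ (Ideal.ofList ([] : List A) • (⊤ : Submodule A M))) ≃ₗ[A] M :=
      Submodule.quotEquivOfEqBot _ (by rw [Ideal.ofList_nil, Submodule.bot_smul])
    have hfl : IsFiniteLength A M := isFiniteLength_of_supportDim_le_zero (by rw [hd]; simp)
    exact e.symm.isFiniteLength hfl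
  | succ d ih =>
    intro M _ _ _ _ hd
    obtain ⟨y, hy, hyp⟩ := exists_mem_notMem_minimalPrimes (Ring.jacobson A) (M := M)
      (hs_jacobson_one_ne_top M)
    have h1 : 1 ≤ Module.supportDim A M := by
      rw [hd]
      have : (1 : ℕ) ≤ d + 1 := by omega
      exact_mod_cast this
    have hle := supportDim_quotSMulTop_succ_le' hyp h1
    have hge := Module.supportDim_le_supportDim_quotSMulTop_succ_of_mem_jacobson (M := M)
      (Ideal.ringJacobson_le_jacobson hy)
    have heq : Module.supportDim A (QuotSMulTop y M) + 1 = ((d + 1 : ℕ) : WithBot ℕ∞) := by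
      rw [← hd]; exact le_antisymm hle hge
    have hd' : Module.supportDim A (QuotSMulTop y M) = d := by
      apply le_antisymm
      · exact le_of_add_one_le heq.le
      · have h2 : ((d + 1 : ℕ) : WithBot ℕ∞) ≤ Module.supportDim A (QuotSMulTop y M) + 1 :=
          heq.ge
        induction hx : Module.supportDim A (QuotSMulTop y M) using WithBot.recBotCoe with
        | bot => rw [hx] at h2; simp at h2
        | coe a =>
          rw [hx] at h2
          have h5 : ((d : ℕ∞) + 1) ≤ a + 1 := by exact_mod_cast h2
          have h6 : (d : ℕ∞) ≤ a := (ENat.add_le_add_iff_right ENat.one_ne_top).1 h5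
          exact_mod_cast h6
    haveI : Nontrivial (QuotSMulTop y M) :=
      (Module.supportDim_ne_bot_iff_nontrivial A _).mp (by rw [hd']; exact WithBot.coe_ne_bot)
    obtain ⟨ys, hys, hlen, hfl⟩ := ih (QuotSMulTop y M) hd'
    refine ⟨y :: ys, ?_, by simp [hlen], ?_⟩
    · intro z hz
      rcases List.mem_cons.mp hz with rfl | hz
      · exact hy
      · exact hys z hz
    · exact (Submodule.quotOfListConsSMulTopEquivQuotSMulTopInner M y ys).symm.isFiniteLength hfl

theorem nontrivial_quot_ofList (zs : List A) (M : Type u) [AddCommGroup M] [Module A M]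
    [Module.Finite A M] [Nontrivial M] (hzs : ∀ z ∈ zs, z ∈ Ring.jacobson A) :
    Nontrivial (M ⧸ (Ideal.ofList zs • (⊤ : Submodule A M))) := by
  apply Submodule.Quotient.nontrivial_iff.mpr
  refine (Submodule.top_ne_ideal_smul_of_le_jacobson_annihilator ?_).symm
  exact (Ideal.span_le.mpr fun z hz => hzs z hz).trans Ideal.ringJacobson_le_jacobson

theorem exists_nat_supportDim (M : Type u) [AddCommGroup M] [Module A M] [Nontrivial M] :
    ∃ n : ℕ, Module.supportDim A M = n := by
  have hfin : Module.supportDim A M < ⊤ :=
    (Module.supportDim_le_ringKrullDim A M).trans_lt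
      (Groth.Agent.S5767.ringKrullDim_lt_top_of_semilocal A)
  have hbot : Module.supportDim A M ≠ ⊥ :=
    (Module.supportDim_ne_bot_iff_nontrivial A M).mpr inferInstance
  lift Module.supportDim A M to ℕ∞ using hbot with d hd
  lift d to ℕ using (by rintro rfl; exact (lt_irrefl _ hfin)) with n
  exact ⟨n, rfl⟩

theorem sop_iff : ∀ (xs : List A) (M : Type u) [AddCommGroup M] [Module A M] [Module.Finite A M]
    [Nontrivial M], (∀ x ∈ xs, x ∈ Ring.jacobson A) →
    (Module.supportDim A (M ⧸ (Ideal.ofList xs • (⊤ : Submodule A M))) + xs.length =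
        Module.supportDim A M ↔
      ∃ ys : List A, (∀ y ∈ ys, y ∈ Ring.jacobson A) ∧
        ((xs ++ ys).length : WithBot ℕ∞) = Module.supportDim A M ∧
        IsFiniteLength A (M ⧸ (Ideal.ofList (xs ++ ys) • (⊤ : Submodule A M)))) := by
  intro xs
  induction xs with
  | nil =>
    intro M _ _ _ _ _
    obtain ⟨d, hd⟩ := exists_nat_supportDim (A := A) M
    have e : (M ⧸ (Ideal.ofList ([] : List A) • (⊤ : Submodule A M))) ≃ₗ[A] M :=
      Submodule.quotEquivOfEqBot _ (by rw [Ideal.ofList_nil, Submodule.bot_smul])
    constructor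
    · intro _
      obtain ⟨ys, hys, hlen, hfl⟩ := exists_sop d M hd
      refine ⟨ys, hys, ?_, ?_⟩
      · rw [List.nil_append, hlen, hd]
      · rw [List.nil_append]; exact hfl
    · intro _
      rw [Module.supportDim_eq_of_equiv e]
      simp
  | cons x xs ih =>
    intro M _ _ _ _ hxs
    have hx : x ∈ Ring.jacobson A := hxs x List.mem_cons_self
    have hxs' : ∀ y ∈ xs, y ∈ Ring.jacobson A := fun y hy => hxs y (List.mem_cons_of_mem _ hy)
    haveI hM' : Nontrivial (QuotSMulTop x M) :=
      Submodule.Quotient.nontrivial_iff.mpr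
        (Submodule.top_ne_pointwise_smul_of_mem_jacobson_annihilator
          (Ideal.ringJacobson_le_jacobson hx)).symm
    haveI hQ' := nontrivial_quot_ofList xs (QuotSMulTop x M) hxs'
    obtain ⟨d, hd⟩ := exists_nat_supportDim (A := A) M
    obtain ⟨d', hd'⟩ := exists_nat_supportDim (A := A) (QuotSMulTop x M)
    obtain ⟨a, ha⟩ := exists_nat_supportDim (A := A)
      (QuotSMulTop x M ⧸ (Ideal.ofList xs • (⊤ : Submodule A (QuotSMulTop x M))))
    have h1 := Module.supportDim_le_supportDim_quotSMulTop_succ_of_mem_jacobson (M := M)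
      (Ideal.ringJacobson_le_jacobson hx)
    have h2 := Module.supportDim_le_of_surjective (Submodule.mkQ (x • (⊤ : Submodule A M)))
      (Submodule.mkQ_surjective _)
    have h3 := supportDim_le_supportDim_quot_ofList_add_length xs (QuotSMulTop x M) hxs'
    rw [hd, hd'] at h1
    change Module.supportDim A (QuotSMulTop x M) ≤ _ at h2
    rw [hd, hd'] at h2
    rw [hd', ha] at h3
    have h1' : d ≤ d' + 1 := by exact_mod_cast h1
    have h2' : d' ≤ d := by exact_mod_cast h2
    have h3' : d' ≤ a + xs.length := by exact_mod_cast h3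
    have ih' := ih (QuotSMulTop x M) hxs'
    rw [ha, hd'] at ih'
    rw [Module.supportDim_eq_of_equiv
      (Submodule.quotOfListConsSMulTopEquivQuotSMulTopInner M x xs), ha, hd]
    constructor
    · intro h
      have h' : a + (x :: xs).length = d := by exact_mod_cast h
      rw [List.length_cons] at h'
      have hdd' : d = d' + 1 := by omega
      have h4 : ((a : ℕ) : WithBot ℕ∞) + (xs.length : ℕ) = ((d' : ℕ) : WithBot ℕ∞) := by
        have : a + xs.length = d' := by omega
        exact_mod_cast this
      obtain ⟨ys, hys, hlen, hfl⟩ := ih'.mp h4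
      refine ⟨ys, hys, ?_, ?_⟩
      · have hlen' : (xs ++ ys).length = d' := by exact_mod_cast hlen
        rw [List.cons_append, List.length_cons, hlen', hdd']
      · rw [List.cons_append]
        exact (Submodule.quotOfListConsSMulTopEquivQuotSMulTopInner M x (xs ++ ys)).symm.isFiniteLength
          hfl
    · rintro ⟨ys, hys, hlen, hfl⟩
      rw [List.cons_append] at hlen hfl
      have hlen' : (xs ++ ys).length + 1 = d := by
        rw [List.length_cons] at hlen
        exact_mod_cast hlen
      have hfl' := (Submodule.quotOfListConsSMulTopEquivQuotSMulTopInner M x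
        (xs ++ ys)).isFiniteLength hfl
      have h5 := supportDim_le_zero_of_isFiniteLength hfl'
      have h6 := supportDim_le_supportDim_quot_ofList_add_length (xs ++ ys) (QuotSMulTop x M)
        (by
          intro z hz
          rcases List.mem_append.mp hz with hz | hz
          · exact hxs' z hz
          · exact hys z hz)
      rw [hd'] at h6
      have h7 : ((d' : ℕ) : WithBot ℕ∞) ≤ 0 + ((xs ++ ys).length : ℕ) := by
        refine h6.trans ?_
        gcongr
      rw [zero_add] at h7
      have h7' : d' ≤ (xs ++ ys).length := by exact_mod_cast h7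
      have hdd' : d = d' + 1 := by omega
      have hlen'' : ((xs ++ ys).length : WithBot ℕ∞) = ((d' : ℕ) : WithBot ℕ∞) := by
        have : (xs ++ ys).length = d' := by omega
        exact_mod_cast this
      have h8 := ih'.mpr ⟨ys, hys, hlen'', hfl'⟩
      have h8' : a + xs.length = d' := by exact_mod_cast h8
      have : a + (x :: xs).length = d := by rw [List.length_cons]; omega
      exact_mod_cast this

end Groth.Agent.Lib.helper26.SOP
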