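import Mathlib

/-!
# Equaliser of the two maps `L ⇉ (L ⊗_K L)^` is the separable closure (helper26)
-/

set_option autoImplicit false
set_option linter.style.haveILetI false

open scoped TensorProduct

namespace Groth.Agent.Lib.helper26.SepEq

universe u

/-- `of a = of b` iff `a - b` lies in every `I ^ n • ⊤`. -/
theorem of_eq_of_iff {R M : Type*} [CommRing R] [AddCommGroup M] [Module R M] (I : Ideal R)
    (a b : M) :
    AdicCompletion.of I M a = AdicCompletion.of I M b ↔
      ∀ n : ℕ, a - b ∈ (I ^ n • ⊤ : Submodule R M) := by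
  constructor
  · intro h n
    have h1 := congrArg (fun z => AdicCompletion.eval I M n z) h
    simp only [AdicCompletion.eval_of] at h1
    exact (Submodule.Quotient.eq _).mp h1
  · intro h
    apply AdicCompletion.ext
    intro n
    rw [AdicCompletion.of_apply, AdicCompletion.of_apply]
    exact (Submodule.Quotient.eq _).mpr (h n)

section Field

variable (K L : Type u) [Field K] [Field L] [Algebra K L]

/-- the difference `x ⊗ 1 - 1 ⊗ x` -/
noncomputable def delta (x : L) : L ⊗[K] L := x ⊗ₜ[K] (1 : L) - (1 : L) ⊗ₜ[K] x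

theorem delta_mem_ideal (x : L) : delta K L x ∈ KaehlerDifferential.ideal K L := by
  have := KaehlerDifferential.one_smul_sub_smul_one_mem_ideal K x
  have h2 : delta K L x = -((1 : L) ⊗ₜ[K] x - x ⊗ₜ[K] (1 : L)) := by
    unfold delta; abel
  rw [h2]
  exact neg_mem this

theorem isNoetherianRing_tensor (hfg : (⊤ : IntermediateField K L).FG) :
    IsNoetherianRing (L ⊗[K] L) := by
  have h1 : Algebra.EssFiniteType K L := IntermediateField.fg_top_iff.mp hfg
  have h2 : Algebra.EssFiniteType L (L ⊗[K] L) := inferInstance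
  exact Algebra.EssFiniteType.isNoetherianRing L (L ⊗[K] L)

/-- separable ⇒ `delta x` lies in all powers of `I`. -/
theorem delta_mem_pow_of_isSeparable (x : L) (hx : IsSeparable K x) (n : ℕ) :
    delta K L x ∈ (KaehlerDifferential.ideal K L) ^ n := by
  classical
  set f := minpoly K x with hf
  set T := L ⊗[K] L
  set a : T := x ⊗ₜ[K] (1 : L) with ha
  set b : T := (1 : L) ⊗ₜ[K] x with hb
  have hδ : delta K L x = a - b := rfl
  set g : Polynomial T := f.map (algebraMap K T) with hg
  have hfa : g.eval a = 0 := by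
    rw [hg, Polynomial.eval_map_algebraMap]
    have : Polynomial.aeval a f = (Algebra.TensorProduct.includeLeft : L →ₐ[K] L ⊗[K] L)
        (Polynomial.aeval x f) := by
      rw [← Polynomial.aeval_algHom_apply]; rfl
    rw [this, hf, minpoly.aeval, map_zero]
  have hfb : g.eval b = 0 := by
    rw [hg, Polynomial.eval_map_algebraMap]
    have : Polynomial.aeval b f = (Algebra.TensorProduct.includeRight : L →ₐ[K] L ⊗[K] L)
        (Polynomial.aeval x f) := by
      rw [← Polynomial.aeval_algHom_apply]; rfl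
    rw [this, hf, minpoly.aeval, map_zero]
  set v : L := Polynomial.aeval x (Polynomial.derivative f) with hv
  have hv0 : v ≠ 0 := Polynomial.Separable.aeval_derivative_ne_zero hx (minpoly.aeval K x)
  have hder : (Polynomial.derivative g).eval b = (1 : L) ⊗ₜ[K] v := by
    rw [hg, Polynomial.derivative_map, Polynomial.eval_map_algebraMap]
    have : Polynomial.aeval b (Polynomial.derivative f) =
        (Algebra.TensorProduct.includeRight : L →ₐ[K] L ⊗[K] L)
        (Polynomial.aeval x (Polynomial.derivative f)) := by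
      rw [← Polynomial.aeval_algHom_apply]; rfl
    rw [this]; rfl
  obtain ⟨k, hk⟩ := Polynomial.binomExpansion g b (a - b)
  have hab : b + (a - b) = a := by abel
  rw [hab, hfa, hfb, hder, zero_add] at hk
  set u : T := (1 : L) ⊗ₜ[K] v⁻¹ with hu
  have huv : u * ((1 : L) ⊗ₜ[K] v) = 1 := by
    rw [hu, Algebra.TensorProduct.tmul_mul_tmul, one_mul, inv_mul_cancel₀ hv0]
    rfl
  have key : a - b = (-(u * k) * (a - b)) * (a - b) := by
    have h3 : u * (((1 : L) ⊗ₜ[K] v) * (a - b) + k * (a - b) ^ 2) = 0 := by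
      rw [← hk, mul_zero]
    have h4 : u * (((1 : L) ⊗ₜ[K] v) * (a - b) + k * (a - b) ^ 2) =
        (u * ((1 : L) ⊗ₜ[K] v)) * (a - b) + u * k * (a - b) ^ 2 := by ring
    rw [h4, huv, one_mul] at h3
    have h5 : a - b = -(u * k * (a - b) ^ 2) := eq_neg_of_add_eq_zero_left h3
    calc a - b = -(u * k * (a - b) ^ 2) := h5
      _ = _ := by ring
  rw [hδ]
  induction n with
  | zero => simp
  | succ n ih =>
    rw [key, pow_succ']
    refine Ideal.mul_mem_mul ?_ ih
    refine Ideal.mul_mem_left _ _ ?_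
    rw [← hδ]; exact delta_mem_ideal K L x

/-- Krull: if `delta x` lies in all powers of `I`, it is killed by an element with multiplication `1`. -/
theorem exists_annihilator (hfg : (⊤ : IntermediateField K L).FG) (x : L)
    (h : ∀ n : ℕ, delta K L x ∈ (KaehlerDifferential.ideal K L) ^ n) :
    ∃ s : L ⊗[K] L, Algebra.TensorProduct.lmul' K s = (1 : L) ∧ s * delta K L x = 0 := by
  haveI := isNoetherianRing_tensor K L hfg
  have hmem : delta K L x ∈
      (⨅ i : ℕ, (KaehlerDifferential.ideal K L) ^ i • ⊤ : Submodule (L ⊗[K] L) (L ⊗[K] L)) := by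
    rw [Submodule.mem_iInf]
    intro i
    rw [smul_eq_mul, Ideal.mul_top]
    exact h i
  obtain ⟨r, hr⟩ := (Ideal.mem_iInf_smul_pow_eq_bot_iff (KaehlerDifferential.ideal K L)
    (delta K L x)).mp hmem
  refine ⟨1 - (r : L ⊗[K] L), ?_, ?_⟩
  · have hr0 : Algebra.TensorProduct.lmul' K (r : L ⊗[K] L) = (0 : L) := by
      have := r.2
      rwa [RingHom.mem_ker] at this
    rw [map_sub, map_one, hr0, sub_zero]
  · rw [sub_mul, one_mul]
    rw [smul_eq_mul] at hr
    rw [hr, sub_self]

end Field

section Descent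

variable (K L : Type u) [Field K] [Field L] [Algebra K L] (F : IntermediateField K L)

/-- `Φ = φ ⊗ ψ : L ⊗ L → F ⊗ F` for `F`-linear functionals `φ, ψ`. -/
noncomputable def Phi (φ ψ : L →ₗ[F] F) : L ⊗[K] L →ₗ[K] F ⊗[K] F :=
  TensorProduct.map (φ.restrictScalars K) (ψ.restrictScalars K)

/-- the inclusion `F ⊗ F → L ⊗ L`. -/
noncomputable def iota : F ⊗[K] F →ₐ[K] L ⊗[K] L := Algebra.TensorProduct.map F.val F.val

theorem Phi_mul_tmul (φ ψ : L →ₗ[F] F) (a b : F) (t : L ⊗[K] L) :
    Phi K L F φ ψ (iota K L F (a ⊗ₜ[K] b) * t) = (a ⊗ₜ[K] b) * Phi K L F φ ψ t := by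
  induction t using TensorProduct.induction_on with
  | zero => simp
  | tmul l l' =>
    have h1 : (a : L) * l = a • l := by
      rw [Algebra.smul_def]; rfl
    have h2 : (b : L) * l' = b • l' := by
      rw [Algebra.smul_def]; rfl
    simp only [iota, Phi, Algebra.TensorProduct.map_tmul, Algebra.TensorProduct.tmul_mul_tmul,
      TensorProduct.map_tmul, LinearMap.coe_restrictScalars, IntermediateField.coe_val]
    rw [h1, h2, map_smul, map_smul, smul_eq_mul, smul_eq_mul]
  | add x y hx hy => rw [mul_add, map_add, hx, hy, map_add, mul_add]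

theorem Phi_mul (φ ψ : L →ₗ[F] F) (c : F ⊗[K] F) (t : L ⊗[K] L) :
    Phi K L F φ ψ (iota K L F c * t) = c * Phi K L F φ ψ t := by
  induction c using TensorProduct.induction_on with
  | zero => simp
  | tmul a b => exact Phi_mul_tmul K L F φ ψ a b t
  | add x y hx hy => rw [map_add, add_mul, map_add, hx, hy, add_mul]

/-- `Ψ_ψ (l ⊗ l') = l * ψ l'`. -/
noncomputable def Psi (ψ : L →ₗ[F] F) : L ⊗[K] L →ₗ[K] L :=
  (Algebra.TensorProduct.lmul' K : L ⊗[K] L →ₐ[K] L).toLinearMap ∘ₗ
    TensorProduct.map LinearMap.id (F.val.toLinearMap ∘ₗ ψ.restrictScalars K)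

theorem Psi_tmul (ψ : L →ₗ[F] F) (l l' : L) : Psi K L F ψ (l ⊗ₜ[K] l') = l * (ψ l' : L) := by
  simp [Psi]

theorem phi_Psi (φ ψ : L →ₗ[F] F) (s : L ⊗[K] L) :
    φ (Psi K L F ψ s) = Algebra.TensorProduct.lmul' K (Phi K L F φ ψ s) := by
  induction s using TensorProduct.induction_on with
  | zero => simp
  | tmul l l' =>
    rw [Psi_tmul]
    have h1 : l * ((ψ l' : F) : L) = (ψ l') • l := by
      rw [Algebra.smul_def, mul_comm]; rfl
    rw [h1, map_smul]
    simp only [Phi, TensorProduct.map_tmul, LinearMap.coe_restrictScalars,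
      Algebra.TensorProduct.lmul'_apply_tmul, smul_eq_mul]
    rw [mul_comm]
  | add x y hx hy => rw [map_add, map_add, hx, hy, map_add, map_add]

/-- If all `Ψ_ψ s` vanish then the multiplication of `s` vanishes. -/
theorem lmul_eq_zero_of_Psi (s : L ⊗[K] L) (h : ∀ ψ : L →ₗ[F] F, Psi K L F ψ s = 0) :
    Algebra.TensorProduct.lmul' K s = (0 : L) := by
  classical
  let b := Module.Free.chooseBasis F L
  let q : L ⊗[K] L →ₗ[K] L ⊗[F] L := TensorProduct.mapOfCompatibleSMul F K K L L
  have hq : ∀ l l' : L, q (l ⊗ₜ[K] l') = l ⊗ₜ[F] l' := fun l l' =>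
    TensorProduct.mapOfCompatibleSMul_tmul _ _ _ _ _ l l'
  have h1 : ∀ (t : L ⊗[K] L) (j : Module.Free.ChooseBasisIndex F L),
      (TensorProduct.equivFinsuppOfBasisRight b (q t)) j = Psi K L F (b.coord j) t := by
    intro t j
    induction t using TensorProduct.induction_on with
    | zero => simp
    | tmul l l' =>
      rw [hq, TensorProduct.equivFinsuppOfBasisRight_apply_tmul_apply, Psi_tmul,
        Algebra.smul_def, mul_comm]
      rfl
    | add x y hx hy => rw [map_add, map_add, Finsupp.add_apply, hx, hy, map_add]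
  have h2 : q s = 0 := by
    apply (TensorProduct.equivFinsuppOfBasisRight b).injective
    rw [map_zero]
    ext j
    rw [h1, h]
    rfl
  have h3 : ∀ t : L ⊗[K] L, Algebra.TensorProduct.lmul' K t =
      (Algebra.TensorProduct.lmul' F : L ⊗[F] L →ₐ[F] L) (q t) := by
    intro t
    induction t using TensorProduct.induction_on with
    | zero => simp
    | tmul l l' => rw [hq]; simp
    | add x y hx hy => rw [map_add, map_add, hx, hy, map_add]
  rw [h3, h2, map_zero]

/-- Descent: an annihilator of `delta x` in `L ⊗ L` with multiplication `1` gives one in `F ⊗ F`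
with non-zero multiplication. -/
theorem exists_annihilator_descent (x : F) (s : L ⊗[K] L)
    (hs1 : Algebra.TensorProduct.lmul' K s = (1 : L)) (hs : s * delta K L (x : L) = 0) :
    ∃ s' : F ⊗[K] F, Algebra.TensorProduct.lmul' K s' ≠ (0 : F) ∧ s' * delta K F x = 0 := by
  by_contra hcon
  push Not at hcon
  have hι : iota K L F (delta K F x) = delta K L (x : L) := by
    simp [iota, delta]
  have key : ∀ φ ψ : L →ₗ[F] F, Algebra.TensorProduct.lmul' K (Phi K L F φ ψ s) = (0 : F) := by
    intro φ ψ
    by_contra hne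
    have h0 : Phi K L F φ ψ s * delta K F x = 0 := by
      calc Phi K L F φ ψ s * delta K F x = delta K F x * Phi K L F φ ψ s := by ring
        _ = Phi K L F φ ψ (iota K L F (delta K F x) * s) := (Phi_mul K L F φ ψ _ s).symm
        _ = Phi K L F φ ψ (s * delta K L (x : L)) := by rw [hι, mul_comm]
        _ = 0 := by rw [hs, map_zero]
    exact hcon _ hne h0
  have h2 : ∀ ψ : L →ₗ[F] F, Psi K L F ψ s = 0 := by
    intro ψ
    apply (Module.forall_dual_apply_eq_zero_iff F (Psi K L F ψ s)).mp
    intro φ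
    rw [phi_Psi, key]
  have := lmul_eq_zero_of_Psi K L F s h2
  rw [hs1] at this
  exact one_ne_zero this

end Descent

section Simple

open IntermediateField

variable (K : Type u) [Field K]

/-- an annihilator of `delta y` with non-zero multiplication forces `D y = 0`. -/
theorem D_eq_zero_of_annihilator (F : Type u) [Field F] [Algebra K F] (y : F) (s : F ⊗[K] F)
    (hs1 : Algebra.TensorProduct.lmul' K s ≠ (0 : F)) (hs : s * delta K F y = 0) :
    KaehlerDifferential.D K F y = 0 := by
  rw [KaehlerDifferential.D_apply]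
  refine (Ideal.toCotangent_eq_zero (KaehlerDifferential.ideal K F) _).mpr ?_
  set c : F := Algebra.TensorProduct.lmul' K s with hc
  set u : F ⊗[K] F := (c⁻¹ ⊗ₜ[K] (1 : F)) * s with hu
  have hu1 : Algebra.TensorProduct.lmul' K u = (1 : F) := by
    rw [hu, map_mul, Algebra.TensorProduct.lmul'_apply_tmul, mul_one, ← hc, inv_mul_cancel₀ hs1]
  have hu0 : u * delta K F y = 0 := by rw [hu, mul_assoc, hs, mul_zero]
  have h1 : 1 - u ∈ KaehlerDifferential.ideal K F := by
    rw [RingHom.mem_ker, map_sub, map_one, hu1, sub_self]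
  have h2 : delta K F y = (1 - u) * delta K F y := by rw [sub_mul, one_mul, hu0, sub_zero]
  have h3 : delta K F y ∈ (KaehlerDifferential.ideal K F) ^ 2 := by
    rw [h2, pow_two]
    exact Ideal.mul_mem_mul h1 (delta_mem_ideal K F y)
  have h4 : (1 : F) ⊗ₜ[K] y - y ⊗ₜ[K] (1 : F) = -delta K F y := by
    unfold delta; abel
  show (1 : F) ⊗ₜ[K] y - y ⊗ₜ[K] (1 : F) ∈ _
  rw [h4]
  exact neg_mem h3

/-- If `d(gen) = 0` in `Ω_{K(x)/K}` then `x` is separable over `K`. -/
theorem isSeparable_of_D_gen_eq_zero {L : Type u} [Field L] [Algebra K L] (x : L)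
    (h : KaehlerDifferential.D K K⟮x⟯ (AdjoinSimple.gen K x) = 0) : IsSeparable K x := by
  have hD : ∀ y : K⟮x⟯, KaehlerDifferential.D K K⟮x⟯ y = 0 := by
    intro y
    obtain ⟨r, q, hy⟩ := (IntermediateField.mem_adjoin_simple_iff K y.1).mp y.2
    have hy' : y = Polynomial.aeval (AdjoinSimple.gen K x) r /
        Polynomial.aeval (AdjoinSimple.gen K x) q := by
      apply Subtype.ext
      rw [IntermediateField.coe_div, AdjoinSimple.coe_aeval_gen_apply,
        AdjoinSimple.coe_aeval_gen_apply]
      exact hy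
    rw [hy', Derivation.leibniz_div, Derivation.map_aeval, Derivation.map_aeval, h]
    simp
  have hsub : Subsingleton (Ω[K⟮x⟯⁄K]) := by
    rw [← Submodule.subsingleton_iff K⟮x⟯]
    apply subsingleton_of_bot_eq_top
    rw [← KaehlerDifferential.span_range_derivation K K⟮x⟯]
    symm
    rw [Submodule.span_eq_bot]
    rintro _ ⟨y, rfl⟩
    exact hD y
  haveI : Algebra.FormallyUnramified K K⟮x⟯ := ⟨hsub⟩
  haveI : Algebra.EssFiniteType K K⟮x⟯ :=
    IntermediateField.essFiniteType_iff.mpr
      (IntermediateField.fg_adjoin_of_finite (Set.finite_singleton x))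
  haveI : Algebra.IsSeparable K K⟮x⟯ := Algebra.FormallyUnramified.isSeparable K K⟮x⟯
  have h1 : IsSeparable K (AdjoinSimple.gen K x) := Algebra.IsSeparable.isSeparable K _
  unfold IsSeparable at h1 ⊢
  rwa [IntermediateField.minpoly_gen] at h1

end Simple

/-- The main equivalence. -/
theorem main (K L : Type u) [Field K] [Field L] [Algebra K L]
    (hfg : (⊤ : IntermediateField K L).FG) (x : L) :
    AdicCompletion.of (KaehlerDifferential.ideal K L) (L ⊗[K] L) (x ⊗ₜ[K] (1 : L)) =
        AdicCompletion.of (KaehlerDifferential.ideal K L) (L ⊗[K] L) ((1 : L) ⊗ₜ[K] x) ↔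
      x ∈ separableClosure K L := by
  rw [of_eq_of_iff, mem_separableClosure_iff]
  have hrw : ∀ n : ℕ, (x ⊗ₜ[K] (1 : L) - (1 : L) ⊗ₜ[K] x ∈
      ((KaehlerDifferential.ideal K L) ^ n • ⊤ : Submodule (L ⊗[K] L) (L ⊗[K] L))) ↔
      delta K L x ∈ (KaehlerDifferential.ideal K L) ^ n := by
    intro n
    rw [smul_eq_mul, Ideal.mul_top]
    rfl
  simp only [hrw]
  constructor
  · intro h
    obtain ⟨s, hs1, hs⟩ := exists_annihilator K L hfg x h
    let F : IntermediateField K L := IntermediateField.adjoin K {x}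
    obtain ⟨s', hs1', hs'⟩ := exists_annihilator_descent K L F
      (IntermediateField.AdjoinSimple.gen K x) s hs1 hs
    exact isSeparable_of_D_gen_eq_zero K x
      (D_eq_zero_of_annihilator K F (IntermediateField.AdjoinSimple.gen K x) s' hs1' hs')
  · intro hx n
    exact delta_mem_pow_of_isSeparable K L x hx n

end Groth.Agent.Lib.helper26.SepEq
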