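import Mathlib
import Groth.Prelude.Def_GrLC
import Groth.Agent.Lib.Helper19.GrMod
import Groth.Agent.Lib.Helper19.GrConv

/-!
# Gradings by additive subgroups as graded algebras over a base ring `K` (helper26)

`B` a `K`-algebra graded by additive subgroups `ℬ : ℤ → AddSubgroup B` with `K · 1 ⊆ B_0`.  Then the
pieces are `K`-submodules, `subK ℬ hK : ℤ → Submodule K B` is a graded `K`-algebra with the same
graded modules, *injective modules, resolutions, local cohomology and *canonical modules.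
(The case `K = B_0` is `CanConv`.)
-/

set_option autoImplicit false
set_option linter.unusedSectionVars false
set_option linter.dupNamespace false
universe u

namespace Groth.Agent.Lib.helper26.SubK

open GrLC Groth.Agent.Lib.helper19.GrMod Groth.Agent.Lib.helper19.GrConv

section Conv

variable {K : Type u} [CommRing K] {B : Type u} [CommRing B] [Algebra K B]
  (ℬ : ℤ → AddSubgroup B) [GradedRing ℬ] (hK : ∀ c : K, algebraMap K B c ∈ ℬ 0)

/-- the pieces as submodules over the base ring -/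
def subK : ℤ → Submodule K B := fun n =>
  { toAddSubmonoid := (ℬ n).toAddSubmonoid
    smul_mem' := fun c x hx => by
      rw [Algebra.smul_def]
      have h := SetLike.GradedMul.mul_mem (A := ℬ) (hK c) hx
      rw [zero_add] at h
      exact h }

theorem mem_subK {n : ℤ} {x : B} : x ∈ subK ℬ hK n ↔ x ∈ ℬ n := Iff.rfl

theorem addGr_subK : addGr (subK ℬ hK) = ℬ := rfl

/-- the identification of the pieces -/
def pieceHomK (g : ℤ) : ℬ g →+ subK ℬ hK g where
  toFun y := ⟨(y : B), y.2⟩
  map_zero' := rfl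
  map_add' _ _ := rfl

noncomputable def decHomK : B →+ DirectSum ℤ (fun g => subK ℬ hK g) :=
  (DirectSum.map (pieceHomK ℬ hK)).comp (DirectSum.decomposeAddEquiv ℬ).toAddMonoidHom

theorem decHomK_of_mem {g : ℤ} {y : B} (hy : y ∈ ℬ g) :
    decHomK ℬ hK y = DirectSum.of (fun g => subK ℬ hK g) g ⟨y, hy⟩ := by
  simp only [decHomK, AddMonoidHom.coe_comp, Function.comp_apply, AddEquiv.toAddMonoidHom_eq_coe,
    AddMonoidHom.coe_coe, DirectSum.decomposeAddEquiv_apply]
  rw [DirectSum.decompose_of_mem ℬ hy, DirectSum.map_of]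
  rfl

/-- the decomposition for the family of submodules -/
@[reducible] noncomputable def subDecompositionK : DirectSum.Decomposition (subK ℬ hK) where
  decompose' := decHomK ℬ hK
  left_inv x := by
    induction x using DirectSum.Decomposition.inductionOn ℬ with
    | zero => simp
    | @homogeneous g y =>
      rw [decHomK_of_mem ℬ hK y.2, DirectSum.coeAddMonoidHom_of]
    | add a b ha hb =>
      rw [map_add, map_add, ha, hb]
  right_inv z := by
    induction z using DirectSum.induction_on with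
    | zero => simp
    | of g q =>
      rw [DirectSum.coeAddMonoidHom_of, decHomK_of_mem ℬ hK q.2]
    | add a b ha hb =>
      rw [map_add, map_add, ha, hb]

@[reducible] noncomputable def subGradedAlgebraK : GradedAlgebra (subK ℬ hK) where
  one_mem := SetLike.GradedOne.one_mem (A := ℬ)
  mul_mem := fun _ _ _ _ hi hj => SetLike.GradedMul.mul_mem (A := ℬ) hi hj
  decompose' := (subDecompositionK ℬ hK).decompose'
  left_inv := (subDecompositionK ℬ hK).left_inv
  right_inv := (subDecompositionK ℬ hK).right_inv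

attribute [local instance] subGradedAlgebraK

theorem coe_decompose_subK (x : B) (g : ℤ) :
    ((DirectSum.decompose (subK ℬ hK) x g : subK ℬ hK g) : B) =
      ((DirectSum.decompose ℬ x g : ℬ g) : B) := by
  show ((decHomK ℬ hK x) g : B) = _
  simp only [decHomK, AddMonoidHom.coe_comp, Function.comp_apply, AddEquiv.toAddMonoidHom_eq_coe,
    AddMonoidHom.coe_coe, DirectSum.decomposeAddEquiv_apply]
  rw [DirectSum.map_apply]
  rfl

/-- the homogeneous ideal for the family of submodules -/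
noncomputable def idealSubK (a : HomogeneousIdeal ℬ) : HomogeneousIdeal (subK ℬ hK) :=
  ⟨a.toIdeal, by
    intro i x hx
    have h1 := a.isHomogeneous i hx
    show ((DirectSum.decompose (subK ℬ hK) x i : subK ℬ hK i) : B) ∈ a.toIdeal
    rw [coe_decompose_subK]
    exact h1⟩

theorem idealSubK_toIdeal (a : HomogeneousIdeal ℬ) : (idealSubK ℬ hK a).toIdeal = a.toIdeal := rfl

/-- a module graded over `ℬ` is graded over `subK ℬ` -/
theorem gsmulSubK {M : Type u} [AddCommGroup M] [Module B M] (ℳ : ℤ → AddSubgroup M)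
    [SetLike.GradedSMul ℬ ℳ] : SetLike.GradedSMul (subK ℬ hK) ℳ :=
  ⟨fun {_ _ _ _} hi hj => SetLike.GradedSMul.smul_mem (A := ℬ) (B := ℳ) hi hj⟩

/-- a graded module over `subK ℬ` as a graded module over `ℬ` -/
noncomputable def ofSubGK (A : GMod.{u} (subK ℬ hK)) : GMod.{u} ℬ :=
  { carrier := A.carrier
    gr := A.gr
    dec := A.dec
    gsmul := ⟨fun _ _ _ _ hi hj => A.gsmul.smul_mem hi hj⟩ }

/-- a graded module over `ℬ` as a graded module over `subK ℬ` -/
noncomputable def toSubGK (A : GMod.{u} ℬ) : GMod.{u} (subK ℬ hK) :=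
  { carrier := A.carrier
    gr := A.gr
    dec := A.dec
    gsmul := ⟨fun _ _ _ _ hi hj => A.gsmul.smul_mem hi hj⟩ }

theorem isStarInj_toSubGK (A : GMod.{u} ℬ) (hA : IsStarInj ℬ A.gr) :
    IsStarInj (subK ℬ hK) (toSubGK ℬ hK A).gr := by
  intro C D f hf hinj g hg
  exact hA (ofSubGK ℬ hK C) (ofSubGK ℬ hK D) f hf hinj g hg

attribute [local instance] gsmulSubK

theorem isStarInj_subK {M : Type u} [AddCommGroup M] [Module B M] (ℳ : ℤ → AddSubgroup M)
    [DirectSum.Decomposition ℳ] [SetLike.GradedSMul ℬ ℳ] (h : IsStarInj ℬ ℳ) :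
    IsStarInj (subK ℬ hK) ℳ :=
  isStarInj_toSubGK ℬ hK (GMod.of ℬ M ℳ) h

/-- a *injective resolution of the ring over `ℬ` as a *injective resolution over `subK ℬ` -/
noncomputable def resSubSelfK (E : StarInjRes ℬ ℬ) : StarInjRes (subK ℬ hK) (subK ℬ hK) where
  X n := toSubGK ℬ hK (E.X n)
  d := E.d
  ε := E.ε
  d_grHom := E.d_grHom
  ε_grHom := fun g m hm => E.ε_grHom g m hm
  ε_injective := E.ε_injective
  exact_zero := E.exact_zero
  exact_succ := E.exact_succ
  starInj n := isStarInj_toSubGK ℬ hK (E.X n) (E.starInj n)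

theorem quotGr_subK (m : HomogeneousIdeal ℬ) :
    quotGr (subK ℬ hK) (idealSubK ℬ hK m) = quotGr ℬ m := by
  funext g
  ext x
  constructor
  · rintro ⟨y, hy, rfl⟩
    exact ⟨y, hy, rfl⟩
  · rintro ⟨y, hy, rfl⟩
    exact ⟨y, hy, rfl⟩

theorem isStarInjHull_subK (m : HomogeneousIdeal ℬ) {E' : Type u} [AddCommGroup E'] [Module B E']
    (𝓔 : ℤ → AddSubgroup E') [DirectSum.Decomposition 𝓔] [SetLike.GradedSMul ℬ 𝓔]
    (e : (B ⧸ m.toIdeal) →ₗ[B] E') (he : IsStarInjHull ℬ (quotGr ℬ m) 𝓔 e) :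
    IsStarInjHull (subK ℬ hK) (quotGr (subK ℬ hK) (idealSubK ℬ hK m)) 𝓔 e where
  injective := he.injective
  grHom := by
    rw [quotGr_subK]
    exact he.grHom
  essential := he.essential
  starInj := isStarInj_subK ℬ hK 𝓔 he.starInj

theorem isStarCanonical_subK (m : HomogeneousIdeal ℬ) {E' : Type u} [AddCommGroup E']
    [Module B E'] (𝓔 : ℤ → AddSubgroup E') [DirectSum.Decomposition 𝓔] [SetLike.GradedSMul ℬ 𝓔]
    {C : Type u} [AddCommGroup C] [Module B C] (𝒞 : ℤ → AddSubgroup C)
    [DirectSum.Decomposition 𝒞] [SetLike.GradedSMul ℬ 𝒞] (n : ℕ) (I : StarInjRes ℬ ℬ)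
    (hC : IsStarCanonical ℬ 𝒞 𝓔 m n I) :
    IsStarCanonical (subK ℬ hK) 𝒞 𝓔 (idealSubK ℬ hK m) n (resSubSelfK ℬ hK I) := by
  obtain ⟨hfin, φ, hφ⟩ := hC
  exact ⟨hfin, φ, fun d f hf => hφ d f hf⟩

theorem subK_eq_bot {n : ℤ} (h : ℬ n = ⊥) : subK ℬ hK n = ⊥ := by
  rw [eq_bot_iff]
  intro x hx
  have hx' : x ∈ ℬ n := hx
  rw [h] at hx'
  exact (Submodule.mem_bot _).2 ((AddSubgroup.mem_bot).1 hx')

theorem subK_zero (hK0 : ∀ x ∈ ℬ 0, ∃ c : K, algebraMap K B c = x) :
    subK ℬ hK 0 = Submodule.span K {(1 : B)} := by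
  apply le_antisymm
  · intro x hx
    rw [Submodule.mem_span_singleton]
    obtain ⟨c, rfl⟩ := hK0 x hx
    exact ⟨c, by rw [Algebra.smul_def, mul_one]⟩
  · rw [Submodule.span_le]
    intro x hx
    rw [Set.mem_singleton_iff] at hx
    rw [hx]
    exact SetLike.GradedOne.one_mem (A := ℬ)

end Conv

end Groth.Agent.Lib.helper26.SubK
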