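/-
Helper library (helper26): openness of the flat locus over a base with finitely many weakly
associated primes (Raynaud–Gruson).
Part 4: the finite type version with relative finite presentation.
-/
import Mathlib
import Groth.Prelude.Def_FlatCA
import Groth.Agent.Lib.Helper26.WeakAssFin3

set_option autoImplicit false
set_option linter.style.haveILetI false
set_option linter.unusedSectionVars false

namespace Groth.Agent.Lib.helper26.WeakAssFin

open TensorProduct IsLocalRing FlatCA

universe u

section RelFP

/-- a module over a quotient `B` of a finitely presented `R`-algebra `B'`, finitely presented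
over `B'`, is finitely presented relative to `R`. -/
theorem relFinitePresentation_of_surjective {R B' B : Type u} [CommRing R] [CommRing B']
    [CommRing B] [Algebra R B'] [Algebra R B] [Algebra.FinitePresentation R B']
    (θ : B' →ₐ[R] B) (hθ : Function.Surjective θ)
    (M : Type u) [AddCommGroup M] [Module B M]
    (hfp : letI : Module B' M := Module.compHom M θ.toRingHom
      Module.FinitePresentation B' M) :
    FlatCA.RelFinitePresentation R B M := by
  obtain ⟨m, ψ, hψ, hkerψ⟩ := Algebra.FinitePresentation.out (R := R) (A := B')
  refine ⟨m, θ.comp ψ, hθ.comp hψ, ?_⟩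
  letI modB'M : Module B' M := Module.compHom M θ.toRingHom
  letI modQM : Module (MvPolynomial (Fin m) R) M := Module.compHom M (θ.comp ψ).toRingHom
  letI algQB' : Algebra (MvPolynomial (Fin m) R) B' := ψ.toRingHom.toAlgebra
  haveI : IsScalarTower (MvPolynomial (Fin m) R) B' M :=
    IsScalarTower.of_algebraMap_smul fun _ _ => rfl
  haveI : Module.FinitePresentation (MvPolynomial (Fin m) R) B' :=
    Module.finitePresentation_of_surjective (Algebra.linearMap (MvPolynomial (Fin m) R) B') hψ
      hkerψ
  haveI : Module.FinitePresentation B' M := hfp
  exact Module.FinitePresentation.trans (MvPolynomial (Fin m) R) M B'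

end RelFP

section Main

variable {R S : Type u} [CommRing R] [CommRing S] [Algebra R S] [Algebra.FiniteType R S]

set_option maxHeartbeats 3200000 in
/-- finite type version: around a point of flatness, a finite module over a finite type algebra
becomes flat and relatively finitely presented on a basic open neighbourhood. -/
theorem exists_relfp_flat_away (hR : (FlatCA.weakAss R R).Finite)
    (N : Type u) [AddCommGroup N] [Module S N] [Module R N] [IsScalarTower R S N]
    [Module.Finite S N] (q : Ideal S) [q.IsPrime] (hflat : FlatCA.FlatAt R q N) :
    ∃ g : S, g ∉ q ∧ Module.Flat R (LocalizedModule (Submonoid.powers g) N) ∧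
      FlatCA.RelFinitePresentation R (Localization.Away g)
        (LocalizedModule (Submonoid.powers g) N) := by
  obtain ⟨n, f, hf⟩ := Algebra.FiniteType.iff_quotient_mvPolynomial''.mp
    (inferInstance : Algebra.FiniteType R S)
  letI algPS : Algebra (MvPolynomial (Fin n) R) S := f.toRingHom.toAlgebra
  haveI twRPS : IsScalarTower R (MvPolynomial (Fin n) R) S :=
    IsScalarTower.of_algebraMap_eq fun r => (f.commutes r).symm
  have hsurj : Function.Surjective (algebraMap (MvPolynomial (Fin n) R) S) := hf
  letI modPN : Module (MvPolynomial (Fin n) R) N := Module.compHom N f.toRingHom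
  haveI twPSN : IsScalarTower (MvPolynomial (Fin n) R) S N :=
    IsScalarTower.of_algebraMap_smul fun _ _ => rfl
  haveI twRPN : IsScalarTower R (MvPolynomial (Fin n) R) N :=
    IsScalarTower.of_algebraMap_smul fun r x => by
      rw [← algebraMap_smul S (algebraMap R (MvPolynomial (Fin n) R) r) x,
        ← IsScalarTower.algebraMap_apply R (MvPolynomial (Fin n) R) S, algebraMap_smul]
  haveI : Module.Finite (MvPolynomial (Fin n) R) S :=
    Module.Finite.of_surjective (Algebra.linearMap (MvPolynomial (Fin n) R) S) hsurj
  haveI : Module.Finite (MvPolynomial (Fin n) R) N := Module.Finite.trans S N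
  haveI hq'prime : (q.comap (algebraMap (MvPolynomial (Fin n) R) S)).IsPrime :=
    Ideal.comap_isPrime _ _
  -- flatness at the contraction
  let e := Groth.Agent.Lib.helper26.FtReg.locEquiv (P := MvPolynomial (Fin n) R) N q hsurj
  haveI twRPloc : IsScalarTower R (MvPolynomial (Fin n) R) (LocalizedModule q.primeCompl N) :=
    IsScalarTower.of_algebraMap_smul fun r y => by
      induction y using LocalizedModule.induction_on with
      | h x t => rw [LocalizedModule.smul'_mk, LocalizedModule.smul'_mk, algebraMap_smul]
  haveI twRPlocP : IsScalarTower R (MvPolynomial (Fin n) R)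
      (LocalizedModule (q.comap (algebraMap (MvPolynomial (Fin n) R) S)).primeCompl N) :=
    IsScalarTower.of_algebraMap_smul fun r y => by
      induction y using LocalizedModule.induction_on with
      | h x t => rw [LocalizedModule.smul'_mk, LocalizedModule.smul'_mk, algebraMap_smul]
  haveI hflatq : Module.Flat R (LocalizedModule q.primeCompl N) := hflat
  have hflat' : FlatCA.FlatAt R (q.comap (algebraMap (MvPolynomial (Fin n) R) S)) N :=
    Module.Flat.of_linearEquiv (e.restrictScalars R)
  obtain ⟨G, hGq', hfpG, hflatG⟩ := exists_fp_flat_away (R := R) (S := MvPolynomial (Fin n) R)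
    hR N (q.comap (algebraMap (MvPolynomial (Fin n) R) S)) hflat'
  -- comparison of the two localizations
  haveI : IsLocalizedModule (Submonoid.powers G)
      ((LocalizedModule.mkLinearMap (Submonoid.powers (algebraMap (MvPolynomial (Fin n) R) S G))
        N).restrictScalars (MvPolynomial (Fin n) R)) :=
    IsLocalizedModule.restrictScalars_powers G _
  let e₂ := IsLocalizedModule.linearEquiv (Submonoid.powers G)
    (LocalizedModule.mkLinearMap (Submonoid.powers G) N)
    ((LocalizedModule.mkLinearMap (Submonoid.powers (algebraMap (MvPolynomial (Fin n) R) S G))
      N).restrictScalars (MvPolynomial (Fin n) R))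
  haveI tw1 : IsScalarTower R (MvPolynomial (Fin n) R)
      (LocalizedModule (Submonoid.powers (algebraMap (MvPolynomial (Fin n) R) S G)) N) :=
    IsScalarTower.of_algebraMap_smul fun r y => by
      induction y using LocalizedModule.induction_on with
      | h x t => rw [LocalizedModule.smul'_mk, LocalizedModule.smul'_mk, algebraMap_smul]
  haveI tw2 : IsScalarTower R (MvPolynomial (Fin n) R)
      (LocalizedModule (Submonoid.powers G) N) :=
    IsScalarTower.of_algebraMap_smul fun r y => by
      induction y using LocalizedModule.induction_on with
      | h x t => rw [LocalizedModule.smul'_mk, LocalizedModule.smul'_mk, algebraMap_smul]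
  refine ⟨f G, hGq', ?_, ?_⟩
  · haveI := hflatG
    have hfl : Module.Flat R
        (LocalizedModule (Submonoid.powers (algebraMap (MvPolynomial (Fin n) R) S G)) N) :=
      Module.Flat.of_linearEquiv (e₂.symm.restrictScalars R)
    exact hfl
  · have hθ : Function.Surjective (Localization.awayMapₐ f G) :=
      IsLocalization.Away.mapₐ_surjective_of_surjective G hf
    haveI : Algebra.FinitePresentation (MvPolynomial (Fin n) R) (Localization.Away G) :=
      IsLocalization.Away.finitePresentation G
    haveI : Algebra.FinitePresentation R (Localization.Away G) :=
      Algebra.FinitePresentation.trans R (MvPolynomial (Fin n) R) _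
    refine relFinitePresentation_of_surjective (Localization.awayMapₐ f G) hθ
      (LocalizedModule (Submonoid.powers (f G)) N) ?_
    letI modB'M : Module (Localization.Away G) (LocalizedModule (Submonoid.powers (f G)) N) :=
      Module.compHom _ (Localization.awayMapₐ f G).toRingHom
    haveI tw3 : IsScalarTower (MvPolynomial (Fin n) R) (Localization.Away G)
        (LocalizedModule (Submonoid.powers (f G)) N) :=
      IsScalarTower.of_algebraMap_smul fun a y => by
        show (Localization.awayMapₐ f G) (algebraMap (MvPolynomial (Fin n) R)
          (Localization.Away G) a) • y = a • y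
        have hy : Submonoid.powers G ≤ Submonoid.comap f.toRingHom (Submonoid.powers (f G)) := by
          rintro _ ⟨k, rfl⟩
          exact ⟨k, (map_pow f G k).symm⟩
        have h2 : Localization.awayMapₐ f G (algebraMap (MvPolynomial (Fin n) R)
            (Localization.Away G) a) = algebraMap S (Localization.Away (f G)) (f a) := by
          show IsLocalization.map (Localization.Away (f G)) f.toRingHom hy
            (algebraMap (MvPolynomial (Fin n) R) (Localization.Away G) a) = _
          exact IsLocalization.map_eq hy a
        rw [h2, algebraMap_smul]
        induction y using LocalizedModule.induction_on with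
        | h x t =>
          rw [LocalizedModule.smul'_mk, LocalizedModule.smul'_mk]
          rfl
    let e₃ : LocalizedModule (Submonoid.powers G) N ≃ₗ[Localization.Away G]
        LocalizedModule (Submonoid.powers (f G)) N :=
      LinearEquiv.ofBijective (e₂.toLinearMap.extendScalarsOfIsLocalization (Submonoid.powers G)
        (Localization.Away G)) e₂.bijective
    exact Module.FinitePresentation.of_equiv e₃

end Main

end Groth.Agent.Lib.helper26.WeakAssFin
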